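import Groth.Agent.Lib.Helper28.AmpleCompose
import Groth.Prelude.Def_MoreMor

/-!
# Ample families and relatively ample modules (helper28)
-/

set_option autoImplicit false
universe u
open CategoryTheory CategoryTheory.Limits AlgebraicGeometry Opposite TopologicalSpace
noncomputable section

namespace Groth.Agent.Lib.Helper28.AmpleFamily

open Groth.Agent.Lib.Helper28 Groth.Agent.Lib.Helper28.QCohLoc Groth.Agent.Lib.Helper28.GenLocus
  Groth.Agent.Lib.Helper28.PullbackInv Groth.Agent.Lib.Helper28.AmpleCompose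

variable {X Y : Scheme.{u}}

theorem exists_tensorPow_one_section {N : X.Modules} (τ : Coh.structureModule X ⟶ N) :
    ∃ τ' : Coh.structureModule X ⟶ CohB1.tensorPow N 1, CohB1.genLocus _ τ' = CohB1.genLocus N τ := by
  obtain ⟨e⟩ := InvQC.nonempty_unit_tensor_iso N
  exact ⟨τ ≫ e.inv, AmpleUnit.genLocus_comp_iso τ e.symm⟩

set_option maxHeartbeats 800000 in
theorem hasAmpleFamily_of_isRelAmple (f : X ⟶ Y) (hY : MoreMor.HasAmpleFamily Y) (L : X.Modules)
    (hL : RelAmple.IsRelAmple f L) : MoreMor.HasAmpleFamily X := by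
  classical
  obtain ⟨hYc, hYf⟩ := hY
  have hqc : QuasiCompact f := hL.1
  have hXc : CompactSpace X := QuasiCompact.compactSpace_of_compactSpace f
  have hLinv : PicF.IsInvertible L := AmpleLocal.isInvertible_of_isRelAmple f L hL
  -- the data of the ample family of `Y` at the images of the points
  choose K n s hK hn hys haff using fun x : X => hYf (f x)
  have hM : ∀ x, PicF.IsInvertible ((Scheme.Modules.pullback f).obj (CohB1.tensorPow (K x) (n x))) :=
    fun x => isInvertible_pullback f (isInvertible_tensorPow (hK x) (n x))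
  have hloc : ∀ x, CohB1.genLocus _ (pbSec f (s x)) = f ⁻¹ᵁ CohB1.genLocus _ (s x) :=
    fun x => genLocus_pbSec f (isInvertible_tensorPow (hK x) (n x)) (s x)
  have hA : ∀ x, CohB1.IsAmple (L.restrict (CohB1.genLocus _ (pbSec f (s x))).ι) := by
    intro x
    rw [hloc x]
    exact hL.2 ⟨_, haff x⟩
  have hqs : QuasiSeparatedSpace X := by
    refine quasiSeparatedSpace_of_cover (fun x => CohB1.genLocus _ (pbSec f (s x)))
      (fun x => ⟨x, by rw [hloc x]; exact hys x⟩) (fun x R => ?_) (fun x => ?_)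
    · have h1 := (isAffineOpen_genLocus_inf (hM x) (pbSec f (s x)) R.2).isCompact
      rwa [inf_comm] at h1
    · have : ((CohB1.genLocus _ (pbSec f (s x)) : X.Opens) : Scheme.{u}).IsSeparated :=
        isSeparated_of_isAmple (hA x)
      infer_instance
  refine ⟨hXc, fun x => ?_⟩
  have hx : x ∈ CohB1.genLocus _ (pbSec f (s x)) := by rw [hloc x]; exact hys x
  obtain ⟨n', k₀, V, hxV, hV, hτ⟩ := exists_sections_of_ample_locus hLinv (hM x) (pbSec f (s x)) (hA x) x hx
  obtain ⟨τ, hτV⟩ := hτ k₀ le_rfl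
  have hNinv : PicF.IsInvertible (CohB1.tensorMod (CohB1.tensorMod (CohB1.tensorPow L (n' + 1))
      (CohB1.tensorPow ((Scheme.Modules.pullback f).obj (CohB1.tensorPow (K x) (n x))) k₀))
      ((Scheme.Modules.pullback f).obj (CohB1.tensorPow (K x) (n x)))) :=
    isInvertible_tensorMod (isInvertible_tensorMod (isInvertible_tensorPow hLinv _)
      (isInvertible_tensorPow (hM x) _)) (hM x)
  obtain ⟨τ', hτ'⟩ := exists_tensorPow_one_section τ
  exact ⟨_, 1, τ', hNinv, le_rfl, by rw [hτ', hτV]; exact hxV, by rw [hτ', hτV]; exact hV⟩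

end Groth.Agent.Lib.Helper28.AmpleFamily
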