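import Groth.Agent.Lib.Helper28.QCohLoc

/-!
# Quasi-coherent modules on quasi-compact (quasi-separated) opens

* `QCohLoc.exists_pow_smul_eq_zero_of_isCompact`: on a quasi-compact open `U`, a section of a quasi-coherent module
  vanishing on `D(f)` is killed by a power of `f`.
* `QCohLoc.exists_pow_smul_eq_res_of_qcqs`: on a quasi-compact quasi-separated open `U`, every section over `D(f)`
  times a power of `f` extends to `U`.
-/

universe u
open CategoryTheory CategoryTheory.Limits AlgebraicGeometry Opposite TopologicalSpace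

namespace Groth.Agent.Lib.Helper28.QCohLoc

variable {X : Scheme.{u}} (M : X.Modules)

/-- restriction of sections of a module, as a plain function -/
noncomputable abbrev res {U V : X.Opens} (h : V ≤ U) (x : Γ(M, U)) : Γ(M, V) :=
  M.presheaf.map (homOfLE h).op x

/-- restriction of functions, as a plain function -/
noncomputable abbrev resO {U V : X.Opens} (h : V ≤ U) (r : Γ(X, U)) : Γ(X, V) :=
  X.presheaf.map (homOfLE h).op r

theorem res_res {U V W : X.Opens} (h : V ≤ U) (h' : W ≤ V) (x : Γ(M, U)) :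
    res M h' (res M h x) = res M (h'.trans h) x := by
  unfold res
  rw [← ConcreteCategory.comp_apply, ← Functor.map_comp]
  rfl

theorem resO_resO {U V W : X.Opens} (h : V ≤ U) (h' : W ≤ V) (r : Γ(X, U)) :
    resO h' (resO h r) = resO (h'.trans h) r := by
  unfold resO
  rw [← ConcreteCategory.comp_apply, ← Functor.map_comp]
  rfl

theorem res_smul {U V : X.Opens} (h : V ≤ U) (r : Γ(X, U)) (x : Γ(M, U)) :
    res M h (r • x) = resO h r • res M h x :=
  Scheme.Modules.map_smul M (homOfLE h) r x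

theorem res_zero {U V : X.Opens} (h : V ≤ U) : res M h (0 : Γ(M, U)) = 0 := map_zero _

theorem res_sub {U V : X.Opens} (h : V ≤ U) (x y : Γ(M, U)) : res M h (x - y) = res M h x - res M h y :=
  map_sub _ _ _

theorem resO_pow {U V : X.Opens} (h : V ≤ U) (r : Γ(X, U)) (n : ℕ) : resO h (r ^ n) = resO h r ^ n :=
  map_pow _ _ _

theorem res_self {U : X.Opens} (x : Γ(M, U)) : res M (le_refl U) x = x := by
  unfold res
  have : (homOfLE (le_refl U)).op = 𝟙 (op U) := rfl
  rw [this, M.presheaf.map_id]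
  rfl

/-- equality of sections is local -/
theorem eq_of_locally_eq {ι : Type*} (V : ι → X.Opens) (U : X.Opens) (hV : ∀ i, V i ≤ U) (hcover : U ≤ iSup V)
    (x y : Γ(M, U)) (h : ∀ i, res M (hV i) x = res M (hV i) y) : x = y :=
  TopCat.Sheaf.eq_of_locally_eq' (⟨M.presheaf, M.isSheaf⟩ : TopCat.Sheaf Ab X) V U (fun i => homOfLE (hV i))
    hcover x y h

theorem basicOpen_resO {U V : X.Opens} (h : V ≤ U) (f : Γ(X, U)) :
    X.basicOpen (resO h f) = V ⊓ X.basicOpen f :=
  Scheme.basicOpen_res X f (homOfLE h).op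

/-- On a quasi-compact open `U`, a section of a quasi-coherent module vanishing on `D(f)` is killed by a power
of `f`. -/
theorem exists_pow_smul_eq_zero_of_isCompact [M.IsQuasicoherent] {U : X.Opens} (hU : IsCompact (U : Set X))
    (f : Γ(X, U)) (x : Γ(M, U)) (H : res M (X.basicOpen_le f) x = 0) :
    ∃ n : ℕ, (f ^ n • x : Γ(M, U)) = 0 := by
  obtain ⟨s, hs, e⟩ := isCompact_and_isOpen_iff_finite_and_eq_biUnion_affineOpens.mp ⟨hU, U.2⟩
  replace e : U = iSup fun i : s => (i : X.Opens) := by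
    ext1; simpa using e
  have h₁ (i : s) : i.1.1 ≤ U := by
    rw [e]
    exact le_iSup (fun (i : s) => (i : Opens (X.toPresheafedSpace))) _
  have H' : ∀ i : s, ∃ n : ℕ, ((resO (h₁ i) f) ^ n • res M (h₁ i) x : Γ(M, i.1.1)) = 0 := by
    intro i
    refine exists_pow_smul_eq_zero M i.1.2 (resO (h₁ i) f) (res M (h₁ i) x) ?_
    have hle : X.basicOpen (resO (h₁ i) f) ≤ X.basicOpen f := by
      rw [basicOpen_resO]; exact inf_le_right
    have h2 := res_res M (h₁ i) (X.basicOpen_le (resO (h₁ i) f)) x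
    have h3 := res_res M (X.basicOpen_le f) hle x
    change res M _ (res M (h₁ i) x) = 0
    rw [h2, ← h3, H, res_zero]
  choose n hn using H'
  have := hs.to_subtype
  cases nonempty_fintype s
  refine ⟨Finset.univ.sup n, ?_⟩
  refine eq_of_locally_eq M (fun i : s => (i : X.Opens)) U h₁ (le_of_eq e) _ _ ?_
  intro i
  rw [res_zero, res_smul, resO_pow]
  have hle : n i ≤ Finset.univ.sup n := Finset.le_sup (Finset.mem_univ i)
  rw [← tsub_add_cancel_of_le hle, pow_add, mul_smul, hn i, smul_zero]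


/-- gluing of sections of a module -/
theorem exists_gluing {ι : Type*} (V : ι → X.Opens) (U : X.Opens) (hV : ∀ i, V i ≤ U) (hcover : U ≤ iSup V)
    (sf : ∀ i, Γ(M, V i))
    (h : ∀ i j, res M (inf_le_left : V i ⊓ V j ≤ V i) (sf i) = res M (inf_le_right : V i ⊓ V j ≤ V j) (sf j)) :
    ∃ x : Γ(M, U), ∀ i, res M (hV i) x = sf i := by
  obtain ⟨x, hx, -⟩ := TopCat.Sheaf.existsUnique_gluing' (⟨M.presheaf, M.isSheaf⟩ : TopCat.Sheaf Ab X) V U
    (fun i => homOfLE (hV i)) hcover sf h
  exact ⟨x, hx⟩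

theorem smul_sub' {U : X.Opens} (r : Γ(X, U)) (x y : Γ(M, U)) : r • (x - y) = r • x - r • y := smul_sub r x y

/-- On a quasi-compact quasi-separated open `U`, every section of a quasi-coherent module over `D(f)` extends to `U`
after multiplication by a power of `f`. -/
theorem exists_pow_smul_eq_res_of_qcqs [M.IsQuasicoherent] {U : X.Opens} (hU : IsCompact (U : Set X))
    (hU' : IsQuasiSeparated (U : Set X)) (f : Γ(X, U)) (y : Γ(M, X.basicOpen f)) :
    ∃ (n : ℕ) (x : Γ(M, U)),
      res M (X.basicOpen_le f) x = ((resO (X.basicOpen_le f) f) ^ n • y : Γ(M, X.basicOpen f)) := by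
  obtain ⟨s, hs, e⟩ := isCompact_and_isOpen_iff_finite_and_eq_biUnion_affineOpens.mp ⟨hU, U.2⟩
  replace e : U = iSup fun i : s => (i : X.Opens) := by
    ext1; simpa using e
  have h₁ (i : s) : i.1.1 ≤ U := by
    rw [e]
    exact le_iSup (fun (i : s) => (i : Opens (X.toPresheafedSpace))) _
  have := hs.to_subtype
  cases nonempty_fintype s
  -- the basic opens D_i = D(f|_i) inside D(f)
  have hDf : ∀ i : s, X.basicOpen (resO (h₁ i) f) ≤ X.basicOpen f := by
    intro i; rw [basicOpen_resO]; exact inf_le_right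
  have hDi : ∀ i : s, X.basicOpen (resO (h₁ i) f) ≤ i.1.1 := fun i => X.basicOpen_le _
  -- step 1: local extensions
  have H1 : ∀ i : s, ∃ (n : ℕ) (x : Γ(M, i.1.1)),
      ((resO (hDi i) ((resO (h₁ i) f) ^ n)) • res M (hDf i) y : Γ(M, X.basicOpen (resO (h₁ i) f))) =
        res M (hDi i) x := fun i => exists_pow_smul_eq_res M i.1.2 (resO (h₁ i) f) (res M (hDf i) y)
  choose n x hx using H1
  let N := Finset.univ.sup n
  have hnN : ∀ i, n i ≤ N := fun i => Finset.le_sup (Finset.mem_univ i)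
  obtain ⟨x', hx'def⟩ : ∃ x' : ∀ i : s, Γ(M, i.1.1), ∀ i, x' i = (resO (h₁ i) f) ^ (N - n i) • x i :=
    ⟨_, fun _ => rfl⟩
  have hx' : ∀ i : s, res M (hDi i) (x' i) =
      ((resO (hDi i) (resO (h₁ i) f)) ^ N • res M (hDf i) y : Γ(M, X.basicOpen (resO (h₁ i) f))) := by
    intro i
    rw [hx'def i, res_smul, ← hx i, resO_pow, resO_pow, ← mul_smul, ← pow_add, tsub_add_cancel_of_le (hnN i)]
  -- step 2: differences on overlaps are killed by a power
  have hcomp : ∀ i j : s, IsCompact ((i.1.1 ⊓ j.1.1 : X.Opens) : Set X) := fun i j =>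
    hU' _ _ (h₁ i) i.1.1.2 i.1.2.isCompact (h₁ j) j.1.1.2 j.1.2.isCompact
  have hW : ∀ i j : s, i.1.1 ⊓ j.1.1 ≤ U := fun i j => inf_le_left.trans (h₁ i)
  have H2 : ∀ i j : s, ∃ m : ℕ, ((resO (hW i j) f) ^ m •
      (res M (inf_le_left : i.1.1 ⊓ j.1.1 ≤ i.1.1) (x' i) - res M (inf_le_right : i.1.1 ⊓ j.1.1 ≤ j.1.1) (x' j)) :
        Γ(M, i.1.1 ⊓ j.1.1)) = 0 := by
    intro i j
    refine exists_pow_smul_eq_zero_of_isCompact M (hcomp i j) (resO (hW i j) f) _ ?_
    have hg : X.basicOpen (resO (hW i j) f) = (i.1.1 ⊓ j.1.1) ⊓ X.basicOpen f := basicOpen_resO _ _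
    have hgi : X.basicOpen (resO (hW i j) f) ≤ X.basicOpen (resO (h₁ i) f) := by
      rw [hg, basicOpen_resO]; exact inf_le_inf inf_le_left le_rfl
    have hgj : X.basicOpen (resO (hW i j) f) ≤ X.basicOpen (resO (h₁ j) f) := by
      rw [hg, basicOpen_resO]; exact inf_le_inf inf_le_right le_rfl
    have hgf : X.basicOpen (resO (hW i j) f) ≤ X.basicOpen f := by rw [hg]; exact inf_le_right
    have hgU : X.basicOpen (resO (hW i j) f) ≤ U := (X.basicOpen_le _).trans (hW i j)
    rw [res_sub, sub_eq_zero, res_res, res_res]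
    have e1 : res M ((X.basicOpen_le (resO (hW i j) f)).trans inf_le_left) (x' i) =
        ((resO hgU f) ^ N • res M hgf y : Γ(M, X.basicOpen (resO (hW i j) f))) := by
      rw [← res_res M (hDi i) hgi, hx' i, res_smul, resO_pow, res_res, resO_resO, resO_resO]
    have e2 : res M ((X.basicOpen_le (resO (hW i j) f)).trans inf_le_right) (x' j) =
        ((resO hgU f) ^ N • res M hgf y : Γ(M, X.basicOpen (resO (hW i j) f))) := by
      rw [← res_res M (hDi j) hgj, hx' j, res_smul, resO_pow, res_res, resO_resO, resO_resO]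
    rw [e1, e2]
  choose m hm using H2
  let K := Finset.univ.sup fun p : s × s => m p.1 p.2
  have hmK : ∀ i j, m i j ≤ K := fun i j =>
    Finset.le_sup (f := fun p : s × s => m p.1 p.2) (Finset.mem_univ (i, j))
  obtain ⟨x'', hx''def⟩ : ∃ x'' : ∀ i : s, Γ(M, i.1.1), ∀ i, x'' i = (resO (h₁ i) f) ^ K • x' i :=
    ⟨_, fun _ => rfl⟩
  -- step 3: glue
  obtain ⟨xg, hxg⟩ := exists_gluing M (fun i : s => (i : X.Opens)) U h₁ (le_of_eq e) x'' (by
    intro i j
    rw [hx''def i, hx''def j, res_smul, res_smul, resO_pow, resO_pow, resO_resO, resO_resO, ← sub_eq_zero, ← smul_sub']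
    have := hm i j
    rw [← tsub_add_cancel_of_le (hmK i j), pow_add, mul_smul, this, smul_zero])
  refine ⟨K + N, xg, ?_⟩
  -- step 4: check on the cover D_i of D(f)
  have hcov : X.basicOpen f ≤ iSup fun i : s => X.basicOpen (resO (h₁ i) f) := by
    intro p hp
    have hpU : p ∈ U := X.basicOpen_le f hp
    rw [e] at hpU
    obtain ⟨i, hi⟩ := Opens.mem_iSup.mp hpU
    refine Opens.mem_iSup.mpr ⟨i, ?_⟩
    rw [basicOpen_resO]
    exact ⟨hi, hp⟩
  refine eq_of_locally_eq M (fun i : s => X.basicOpen (resO (h₁ i) f)) _ hDf hcov _ _ ?_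
  intro i
  rw [res_res, res_smul, resO_pow, resO_resO]
  have e3 : res M ((hDf i).trans (X.basicOpen_le f)) xg = res M (hDi i) (res M (h₁ i) xg) :=
    (res_res M (h₁ i) (hDi i) xg).symm
  rw [e3, hxg i, hx''def i, res_smul, hx' i, resO_pow, resO_resO, ← mul_smul, ← pow_add]

end Groth.Agent.Lib.Helper28.QCohLoc
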