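import Groth.Prelude.Def_CohB1
import Groth.Agent.Lib.Helper28.QCohGlobal

/-!
# Identifying the sheafification of a presheaf of modules, and tensor products of modules

A morphism from a presheaf of modules `P` to a sheaf of modules `F` which is bijective on the sections over the
members of a covering, downward closed family of opens induces an isomorphism from the sheafification of `P` to `F`.
-/

set_option autoImplicit false
universe u
open CategoryTheory AlgebraicGeometry Opposite TopologicalSpace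

namespace Groth.Agent.Lib.Helper28.TensorIso

variable {X : Scheme.{u}}


theorem isLocallyInjective_of_basis {P Q : (Opens X)ᵒᵖ ⥤ AddCommGrpCat.{u}} (f : P ⟶ Q)
    (B : X.Opens → Prop)
    (basis : ∀ (U : X.Opens) (x : X), x ∈ U → ∃ V : X.Opens, B V ∧ x ∈ V ∧ V ≤ U)
    (hinj : ∀ W : X.Opens, B W → Function.Injective (f.app (op W))) :
    Presheaf.IsLocallyInjective (Opens.grothendieckTopology X) f := by
  constructor
  intro U x y hxy
  rw [Opens.mem_grothendieckTopology]
  intro p hp
  obtain ⟨V₀, hV₀, hpV₀, hle⟩ := basis U.unop p hp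
  refine ⟨V₀, homOfLE hle, ?_, hpV₀⟩
  change P.map (homOfLE hle).op x = P.map (homOfLE hle).op y
  apply hinj _ hV₀
  have e1 := NatTrans.naturality_apply f (homOfLE hle).op x
  have e2 := NatTrans.naturality_apply f (homOfLE hle).op y
  exact e1.trans ((congrArg _ hxy).trans e2.symm)

theorem isLocallySurjective_of_basis {P Q : (Opens X)ᵒᵖ ⥤ AddCommGrpCat.{u}} (f : P ⟶ Q)
    (B : X.Opens → Prop)
    (basis : ∀ (U : X.Opens) (x : X), x ∈ U → ∃ V : X.Opens, B V ∧ x ∈ V ∧ V ≤ U)
    (hsurj : ∀ W : X.Opens, B W → Function.Surjective (f.app (op W))) :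
    Presheaf.IsLocallySurjective (Opens.grothendieckTopology X) f := by
  constructor
  intro U s
  rw [Opens.mem_grothendieckTopology]
  intro p hp
  obtain ⟨V₀, hV₀, hpV₀, hle⟩ := basis U p hp
  refine ⟨V₀, homOfLE hle, ?_, hpV₀⟩
  obtain ⟨t, ht⟩ := hsurj _ hV₀ (Q.map (homOfLE hle).op s)
  exact ⟨t, ht⟩

/-- a morphism of presheaves of abelian groups on a space which is bijective over a basis of opens becomes an
isomorphism after sheafification -/
theorem isIso_presheafToSheaf_map {P Q : (Opens X)ᵒᵖ ⥤ AddCommGrpCat.{u}} (f : P ⟶ Q)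
    (B : X.Opens → Prop)
    (basis : ∀ (U : X.Opens) (x : X), x ∈ U → ∃ V : X.Opens, B V ∧ x ∈ V ∧ V ≤ U)
    (hbij : ∀ W : X.Opens, B W → Function.Bijective (f.app (op W))) :
    IsIso ((presheafToSheaf (Opens.grothendieckTopology X) AddCommGrpCat.{u}).map f) := by
  rw [← GrothendieckTopology.W_iff]
  haveI := isLocallyInjective_of_basis f B basis fun W hW => (hbij W hW).1
  haveI := isLocallySurjective_of_basis f B basis fun W hW => (hbij W hW).2
  exact GrothendieckTopology.W_of_isLocallyBijective (J := Opens.grothendieckTopology X) (f := f)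

/-- **a morphism of modules which is bijective on the sections over a basis of opens is an isomorphism** -/
theorem isIso_of_bijective_on_basis {M N : X.Modules} (ψ : M ⟶ N) (B : X.Opens → Prop)
    (basis : ∀ (U : X.Opens) (x : X), x ∈ U → ∃ V : X.Opens, B V ∧ x ∈ V ∧ V ≤ U)
    (hbij : ∀ W : X.Opens, B W → Function.Bijective (ψ.app W)) : IsIso ψ := by
  let ψ' : (show SheafOfModules.{u} X.ringCatSheaf from M) ⟶ (show SheafOfModules.{u} X.ringCatSheaf from N) := ψ
  haveI : IsIso ((SheafOfModules.toSheaf X.ringCatSheaf).map ψ') :=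
    (Sheaf.isLocallyBijective_iff_isIso _).1
      ⟨isLocallyInjective_of_basis ((SheafOfModules.toSheaf X.ringCatSheaf).map ψ').hom B basis
        fun W hW => (hbij W hW).1,
       isLocallySurjective_of_basis ((SheafOfModules.toSheaf X.ringCatSheaf).map ψ').hom B basis
        fun W hW => (hbij W hW).2⟩
  have h : IsIso ψ' := isIso_of_reflects_iso ψ' (SheafOfModules.toSheaf X.ringCatSheaf)
  exact h

/-- the morphism from the sheafification induced by a morphism of presheaves of modules to a sheaf of modules -/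
noncomputable def lift (P : X.PresheafOfModules) (F : X.Modules)
    (φ : P ⟶ (PresheafOfModules.restrictScalars (𝟙 X.ringCatSheaf.obj)).obj F.val) :
    (CohB1.sheafifyMod X).obj P ⟶ F :=
  (PresheafOfModules.sheafificationHomEquiv (𝟙 X.ringCatSheaf.obj)).symm φ

theorem isIso_lift (P : X.PresheafOfModules) (F : X.Modules)
    (φ : P ⟶ (PresheafOfModules.restrictScalars (𝟙 X.ringCatSheaf.obj)).obj F.val)
    (B : X.Opens → Prop)
    (basis : ∀ (U : X.Opens) (x : X), x ∈ U → ∃ V : X.Opens, B V ∧ x ∈ V ∧ V ≤ U)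
    (hbij : ∀ W : X.Opens, B W → Function.Bijective (φ.app (op W))) :
    IsIso (lift P F φ) := by
  have h0 := (PresheafOfModules.sheafificationAdjunction (𝟙 X.ringCatSheaf.obj)).homEquiv_counit P F φ
  have h1 : lift P F φ = (PresheafOfModules.sheafification (𝟙 X.ringCatSheaf.obj)).map φ ≫
      (PresheafOfModules.sheafificationAdjunction (𝟙 X.ringCatSheaf.obj)).counit.app F := by
    refine (Equiv.symm_apply_eq _).2 ?_
    exact ((congrArg ((PresheafOfModules.sheafificationAdjunction (𝟙 X.ringCatSheaf.obj)).homEquiv P F) h0).symm.trans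
      (Equiv.apply_symm_apply _ φ)).symm
  have hc : IsIso ((PresheafOfModules.sheafificationAdjunction (𝟙 X.ringCatSheaf.obj)).counit.app F) :=
    inferInstance
  suffices h : IsIso ((PresheafOfModules.sheafification (𝟙 X.ringCatSheaf.obj)).map φ) by
    have h2 := @IsIso.comp_isIso _ _ _ _ _ _ _ h hc
    exact (congrArg (fun t => IsIso t) h1).mpr h2
  haveI : IsIso ((SheafOfModules.toSheaf X.ringCatSheaf).map
      ((PresheafOfModules.sheafification (𝟙 X.ringCatSheaf.obj)).map φ)) :=
    isIso_presheafToSheaf_map ((PresheafOfModules.toPresheaf X.ringCatSheaf.obj).map φ) B basis hbij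
  exact isIso_of_reflects_iso _ (SheafOfModules.toSheaf X.ringCatSheaf)

open Groth.Agent.Lib.Helper28.QCohLoc MonoidalCategory

noncomputable def tensorDesc (M N F : X.Modules)
    (β : ∀ W : X.Opens, Γ(M, W) → Γ(N, W) → Γ(F, W))
    (hadd₁ : ∀ W m m' n, β W (m + m') n = β W m n + β W m' n)
    (hadd₂ : ∀ W m n n', β W m (n + n') = β W m n + β W m n')
    (hsmul₁ : ∀ W (a : Γ(X, W)) m n, β W (a • m) n = a • β W m n)
    (hsmul₂ : ∀ W (a : Γ(X, W)) m n, β W m (a • n) = a • β W m n)
    (hres : ∀ (W W' : X.Opens) (h : W' ≤ W) m n, β W' (res M h m) (res N h n) = res F h (β W m n)) :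
    (show X.PresheafOfModules from CohB1.tensorPre M N) ⟶
      (PresheafOfModules.restrictScalars (𝟙 X.ringCatSheaf.obj)).obj F.val where
  app U := ModuleCat.MonoidalCategory.tensorLift (β U.unop) (hadd₁ U.unop) (hsmul₁ U.unop) (hadd₂ U.unop)
    (hsmul₂ U.unop)
  naturality {U V} f := by
    refine ModuleCat.MonoidalCategory.tensor_ext (fun m n => ?_)
    have h : V.unop ≤ U.unop := leOfHom f.unop
    obtain rfl : f = (homOfLE h).op := Subsingleton.elim _ _
    exact hres U.unop V.unop h m n

open TensorProduct in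
theorem lift_bijective_of_left_generator {R M N F : Type*} [CommRing R] [AddCommGroup M] [AddCommGroup N]
    [AddCommGroup F] [Module R M] [Module R N] [Module R F]
    (β : M →ₗ[R] N →ₗ[R] F) (e : M) (he : ∀ m : M, ∃ c : R, m = c • e)
    (hbij : Function.Bijective (β e)) : Function.Bijective (TensorProduct.lift β) := by
  have hform : ∀ z : M ⊗[R] N, ∃ n : N, z = e ⊗ₜ[R] n := by
    intro z
    induction z using TensorProduct.induction_on with
    | zero => exact ⟨0, (TensorProduct.tmul_zero _ _).symm⟩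
    | tmul m n =>
      obtain ⟨c, rfl⟩ := he m
      exact ⟨c • n, by rw [TensorProduct.smul_tmul]⟩
    | add z z' hz hz' =>
      obtain ⟨n, rfl⟩ := hz
      obtain ⟨n', rfl⟩ := hz'
      exact ⟨n + n', (TensorProduct.tmul_add _ _ _).symm⟩
  constructor
  · intro z z' h
    obtain ⟨n, rfl⟩ := hform z
    obtain ⟨n', rfl⟩ := hform z'
    rw [TensorProduct.lift.tmul, TensorProduct.lift.tmul] at h
    rw [hbij.1 h]
  · intro f
    obtain ⟨n, hn⟩ := hbij.2 f
    exact ⟨e ⊗ₜ[R] n, by rw [TensorProduct.lift.tmul, hn]⟩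

open TensorProduct in
theorem lift_bijective_of_right_generator {R M N F : Type*} [CommRing R] [AddCommGroup M] [AddCommGroup N]
    [AddCommGroup F] [Module R M] [Module R N] [Module R F]
    (β : M →ₗ[R] N →ₗ[R] F) (e : N) (he : ∀ n : N, ∃ c : R, n = c • e)
    (hbij : Function.Bijective (fun m => β m e)) : Function.Bijective (TensorProduct.lift β) := by
  have hform : ∀ z : M ⊗[R] N, ∃ m : M, z = m ⊗ₜ[R] e := by
    intro z
    induction z using TensorProduct.induction_on with
    | zero => exact ⟨0, (TensorProduct.zero_tmul _ _).symm⟩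
    | tmul m n =>
      obtain ⟨c, rfl⟩ := he n
      exact ⟨c • m, by rw [TensorProduct.smul_tmul]⟩
    | add z z' hz hz' =>
      obtain ⟨n, rfl⟩ := hz
      obtain ⟨n', rfl⟩ := hz'
      exact ⟨n + n', (TensorProduct.add_tmul _ _ _).symm⟩
  constructor
  · intro z z' h
    obtain ⟨n, rfl⟩ := hform z
    obtain ⟨n', rfl⟩ := hform z'
    rw [TensorProduct.lift.tmul, TensorProduct.lift.tmul] at h
    rw [hbij.1 h]
  · intro f
    obtain ⟨n, hn⟩ := hbij.2 f
    exact ⟨n ⊗ₜ[R] e, by rw [TensorProduct.lift.tmul]; exact hn⟩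

variable (M N F : X.Modules)
    (β : ∀ W : X.Opens, Γ(M, W) → Γ(N, W) → Γ(F, W))
    (hadd₁ : ∀ W m m' n, β W (m + m') n = β W m n + β W m' n)
    (hadd₂ : ∀ W m n n', β W m (n + n') = β W m n + β W m n')
    (hsmul₁ : ∀ W (a : Γ(X, W)) m n, β W (a • m) n = a • β W m n)
    (hsmul₂ : ∀ W (a : Γ(X, W)) m n, β W m (a • n) = a • β W m n)
    (hres : ∀ (W W' : X.Opens) (h : W' ≤ W) m n, β W' (res M h m) (res N h n) = res F h (β W m n))

theorem tensorDesc_app_bijective_left (W : X.Opens) (e : Γ(M, W))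
    (he : ∀ m : Γ(M, W), ∃ c : Γ(X, W), m = c • e) (hb : Function.Bijective (β W e)) :
    Function.Bijective ((tensorDesc M N F β hadd₁ hadd₂ hsmul₁ hsmul₂ hres).app (op W)) :=
  lift_bijective_of_left_generator (LinearMap.mk₂ _ (β W) (hadd₁ W) (hsmul₁ W) (hadd₂ W) (hsmul₂ W)) e he hb

theorem tensorDesc_app_bijective_right (W : X.Opens) (e : Γ(N, W))
    (he : ∀ n : Γ(N, W), ∃ c : Γ(X, W), n = c • e) (hb : Function.Bijective (fun m => β W m e)) :
    Function.Bijective ((tensorDesc M N F β hadd₁ hadd₂ hsmul₁ hsmul₂ hres).app (op W)) :=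
  lift_bijective_of_right_generator (LinearMap.mk₂ _ (β W) (hadd₁ W) (hsmul₁ W) (hadd₂ W) (hsmul₂ W)) e he hb

/-- **The tensor product of two modules is identified by a bilinear pairing which is "perfect" over a basis.** -/
theorem nonempty_tensorMod_iso (B : X.Opens → Prop)
    (basis : ∀ (U : X.Opens) (x : X), x ∈ U → ∃ V : X.Opens, B V ∧ x ∈ V ∧ V ≤ U)
    (hbij : ∀ W : X.Opens, B W →
      Function.Bijective ((tensorDesc M N F β hadd₁ hadd₂ hsmul₁ hsmul₂ hres).app (op W))) :
    Nonempty (CohB1.tensorMod M N ≅ F) := by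
  have h := isIso_lift _ F (tensorDesc M N F β hadd₁ hadd₂ hsmul₁ hsmul₂ hres) B basis hbij
  exact ⟨@asIso _ _ _ _ _ h⟩

end Groth.Agent.Lib.Helper28.TensorIso

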