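import Groth.Agent.Lib.Helper28.TwistGen
import Groth.Agent.Lib.Helper28.TensorIso
import Groth.Prelude.Def_Pic

/-!
# A module which has a generator over an open `U` (bijectively on a basis of opens below `U`)
restricts to the structure sheaf on `U`
-/

set_option autoImplicit false
universe u
open CategoryTheory CategoryTheory.Limits AlgebraicGeometry Opposite TopologicalSpace
noncomputable section

namespace Groth.Agent.Lib.Helper28.InvGen

open Groth.Agent.Lib.Helper28 Groth.Agent.Lib.Helper28.QCohLoc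

variable {X : Scheme.{u}} (M : X.Modules)

theorem image_le (U : X.Opens) (V : (↑U : Scheme.{u}).Opens) : U.ι ''ᵁ V ≤ U := by
  rintro _ ⟨y, _, rfl⟩
  exact y.2

theorem nonempty_restrict_iso_of_generator (U : X.Opens) (σ : Γ(M, U))
    (B : X.Opens → Prop)
    (basis : ∀ (V : X.Opens) (x : X), x ∈ V → V ≤ U → ∃ W : X.Opens, B W ∧ x ∈ W ∧ W ≤ V)
    (hbij : ∀ (W : X.Opens) (hW : W ≤ U), B W →
      Function.Bijective (fun c : Γ(X, W) => (c • res M hW σ : Γ(M, W)))) :
    Nonempty (M.restrict U.ι ≅ Coh.structureModule (↑U)) := by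
  let σ' : Γ(M.restrict U.ι, ⊤) := res M (image_le U ⊤) σ
  let ψ : Coh.structureModule (↑U) ⟶ M.restrict U.ι := TwistGen.ofSection (M.restrict U.ι) σ'
  have hiso : IsIso ψ := by
    refine TensorIso.isIso_of_bijective_on_basis ψ (fun V => B (U.ι ''ᵁ V)) ?_ ?_
    · intro V y hy
      obtain ⟨W, hBW, hyW, hWV⟩ := basis (U.ι ''ᵁ V) (U.ι y) ⟨y, hy, rfl⟩ (image_le U V)
      have hWU : W ≤ U := hWV.trans (image_le U V)
      have himg : U.ι ''ᵁ (U.ι ⁻¹ᵁ W) = W := by
        rw [Scheme.Hom.image_preimage_eq_opensRange_inf, Scheme.Opens.opensRange_ι]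
        exact inf_eq_right.2 hWU
      refine ⟨U.ι ⁻¹ᵁ W, ?_, hyW, ?_⟩
      · show B (U.ι ''ᵁ (U.ι ⁻¹ᵁ W))
        rw [himg]; exact hBW
      · intro z hz
        obtain ⟨z', hz', hzz'⟩ := hWV hz
        have : z' = z := U.ι.isOpenEmbedding.injective hzz'
        rwa [← this]
    · intro V hV
      have hb := hbij (U.ι ''ᵁ V) (image_le U V) hV
      have happ : ∀ c : Γ((↑U : Scheme.{u}), V),
          ψ.app V (show Γ(Coh.structureModule (↑U), V) from c) =
            ((U.ι.appIso V).inv c • res M (image_le U V) σ : Γ(M, U.ι ''ᵁ V)) := by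
        intro c
        have h1 := TwistGen.ofSection_app (M.restrict U.ι) σ' V c
        refine h1.trans ?_
        show ((U.ι.appIso V).inv c • _ : Γ(M, U.ι ''ᵁ V)) = _
        congr 1
        exact res_res M _ _ σ
      have hfun : (ψ.app V : Γ(Coh.structureModule (↑U), V) → Γ(M.restrict U.ι, V)) =
          (fun c : Γ(X, U.ι ''ᵁ V) => (c • res M (image_le U V) σ : Γ(M, U.ι ''ᵁ V))) ∘
            (fun c : Γ((↑U : Scheme.{u}), V) => (U.ι.appIso V).inv c) := by
        funext c
        exact happ c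
      rw [hfun]
      refine hb.comp ?_
      exact ConcreteCategory.bijective_of_isIso (U.ι.appIso V).inv
  exact ⟨(asIso ψ).symm⟩

end Groth.Agent.Lib.Helper28.InvGen
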