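import Groth.Agent.Lib.Helper28.GenIso
import Groth.Agent.Lib.Helper28.InvGen

/-!
# Tensor powers of local generators, and isomorphisms between tensor constructions on invertible modules

* `gpow L g n`: the `n`-th tensor power of a local section `g` of `L`, a section of `tensorPow L n`.
* `exists_iso_of_homogeneous(₂)`: two modules with generators depending homogeneously (of the same degree) on the
  local generators of an invertible module (resp. two invertible modules) are isomorphic.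
* isomorphisms `(L^a)^b ≅ L^(ab)`, `L^a ⊗ L^b ≅ L^(a+b)`, `(L ⊗ L')^n ≅ L^n ⊗ L'^n` for invertible modules.
-/

set_option autoImplicit false
universe u
open CategoryTheory CategoryTheory.Limits AlgebraicGeometry Opposite TopologicalSpace
noncomputable section

namespace Groth.Agent.Lib.Helper28.GenLocus

open Groth.Agent.Lib.Helper28 Groth.Agent.Lib.Helper28.QCohLoc Groth.Agent.Lib.Helper28.TensorGen
  Groth.Agent.Lib.Helper28.InvTensor Groth.Agent.Lib.Helper28.AmpleUnit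

variable {X : Scheme.{u}}

/-- one as a section of the structure module -/
def oneSec (X : Scheme.{u}) (U : X.Opens) : Γ(Coh.structureModule X, U) := (1 : Γ(X, U))

theorem res_oneSec {U V : X.Opens} (h : V ≤ U) :
    res (Coh.structureModule X) h (oneSec X U) = oneSec X V :=
  map_one (X.presheaf.map (homOfLE h).op).hom

theorem isGen_oneSec (U : X.Opens) : IsGen (Coh.structureModule X) U (oneSec X U) := by
  have h := (isGen_one X).res (le_top : U ≤ ⊤)
  have h2 : res (Coh.structureModule X) (le_top : U ≤ ⊤)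
      (show Γ(Coh.structureModule X, ⊤) from (1 : Γ(X, ⊤))) = oneSec X U := res_oneSec le_top
  rwa [h2] at h

theorem smul_oneSec {U : X.Opens} (c : Γ(X, U)) :
    (c • oneSec X U : Γ(Coh.structureModule X, U)) = (show Γ(Coh.structureModule X, U) from c) :=
  mul_one c

/-- a module with local generators is invertible -/
theorem isInvertible_of_isGen (L : X.Modules)
    (h : ∀ x : X, ∃ (U : X.Opens) (g : Γ(L, U)), x ∈ U ∧ IsGen L U g) : PicF.IsInvertible L := by
  intro x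
  obtain ⟨U, g, hxU, hg⟩ := h x
  refine ⟨U, hxU, ?_⟩
  exact InvGen.nonempty_restrict_iso_of_generator L U g (fun _ => True)
    (fun V y hy _ => ⟨V, trivial, hy, le_rfl⟩) (fun W hW _ => hg W hW)

theorem isInvertible_tensorMod {L L' : X.Modules} (hL : PicF.IsInvertible L) (hL' : PicF.IsInvertible L') :
    PicF.IsInvertible (CohB1.tensorMod L L') := by
  refine isInvertible_of_isGen _ fun x => ?_
  obtain ⟨U, g, hxU, hg⟩ := exists_isGen L hL x
  obtain ⟨U', g', hxU', hg'⟩ := exists_isGen L' hL' x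
  exact ⟨U ⊓ U', _, ⟨hxU, hxU'⟩, isGen_tmulSec L L' (hg.res inf_le_left) (hg'.res inf_le_right)⟩

/-- the `n`-th tensor power of a section -/
def gpow (L : X.Modules) {U : X.Opens} (g : Γ(L, U)) : ∀ n : ℕ, Γ(CohB1.tensorPow L n, U)
  | 0 => oneSec X U
  | n + 1 => tmulSec (CohB1.tensorPow L n) L (gpow L g n) g

theorem gpow_zero (L : X.Modules) {U : X.Opens} (g : Γ(L, U)) : gpow L g 0 = oneSec X U := rfl

theorem gpow_succ (L : X.Modules) {U : X.Opens} (g : Γ(L, U)) (n : ℕ) :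
    gpow L g (n + 1) = tmulSec (CohB1.tensorPow L n) L (gpow L g n) g := rfl

theorem isGen_gpow {L : X.Modules} {U : X.Opens} {g : Γ(L, U)} (hg : IsGen L U g) :
    ∀ n : ℕ, IsGen (CohB1.tensorPow L n) U (gpow L g n)
  | 0 => isGen_oneSec U
  | n + 1 => isGen_tmulSec (CohB1.tensorPow L n) L (isGen_gpow hg n) hg

theorem gpow_res (L : X.Modules) {U V : X.Opens} (h : V ≤ U) (g : Γ(L, U)) :
    ∀ n : ℕ, res (CohB1.tensorPow L n) h (gpow L g n) = gpow L (res L h g) n
  | 0 => res_oneSec h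
  | n + 1 => by
    rw [gpow_succ, gpow_succ, ← gpow_res L h g n]
    exact tmulSec_res (CohB1.tensorPow L n) L h _ _

theorem gpow_smul (L : X.Modules) {U : X.Opens} (u : Γ(X, U)) (g : Γ(L, U)) :
    ∀ n : ℕ, gpow L (u • g : Γ(L, U)) n = (u ^ n • gpow L g n : Γ(CohB1.tensorPow L n, U))
  | 0 => by rw [pow_zero, one_smul]; rfl
  | n + 1 => by
    rw [gpow_succ, gpow_succ, gpow_smul L u g n, tmulSec_smul_left, tmulSec_smul_right, ← mul_smul, pow_succ]
    rfl

theorem isInvertible_tensorPow {L : X.Modules} (hL : PicF.IsInvertible L) (n : ℕ) :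
    PicF.IsInvertible (CohB1.tensorPow L n) := by
  refine isInvertible_of_isGen _ fun x => ?_
  obtain ⟨U, g, hxU, hg⟩ := exists_isGen L hL x
  exact ⟨U, _, hxU, isGen_gpow hg n⟩

section Homogeneous

/-- two modules with generators depending homogeneously of the same degree on the local generators of an invertible
module are isomorphic -/
theorem exists_iso_of_homogeneous (L : X.Modules) (hL : PicF.IsInvertible L) (M N : X.Modules)
    (Fm : ∀ U : X.Opens, Γ(L, U) → Γ(M, U)) (Fn : ∀ U : X.Opens, Γ(L, U) → Γ(N, U))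
    (hFm : ∀ (U : X.Opens) (g : Γ(L, U)), IsGen L U g → IsGen M U (Fm U g))
    (hFn : ∀ (U : X.Opens) (g : Γ(L, U)), IsGen L U g → IsGen N U (Fn U g))
    (k : ℕ)
    (resm : ∀ (U V : X.Opens) (h : V ≤ U) (g : Γ(L, U)), res M h (Fm U g) = Fm V (res L h g))
    (resn : ∀ (U V : X.Opens) (h : V ≤ U) (g : Γ(L, U)), res N h (Fn U g) = Fn V (res L h g))
    (homm : ∀ (U : X.Opens) (u : Γ(X, U)) (g : Γ(L, U)),
      Fm U (u • g : Γ(L, U)) = (u ^ k • Fm U g : Γ(M, U)))
    (homn : ∀ (U : X.Opens) (u : Γ(X, U)) (g : Γ(L, U)),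
      Fn U (u • g : Γ(L, U)) = (u ^ k • Fn U g : Γ(N, U))) :
    ∃ ψ : M ≅ N, ∀ (U : X.Opens) (g : Γ(L, U)), IsGen L U g → ψ.hom.app U (Fm U g) = Fn U g := by
  let ι := {p : Σ U : X.Opens, Γ(L, U) // IsGen L p.1 p.2}
  obtain ⟨ψ, hψ⟩ := exists_iso_of_cocycle_gen (M := M) (N := N) (ι := ι) (fun i => i.1.1)
    (fun i => Fm i.1.1 i.1.2) (fun i => Fn i.1.1 i.1.2) (fun i => hFm _ _ i.2) (fun i => hFn _ _ i.2)
    (fun x => by
      obtain ⟨U, g, hxU, hg⟩ := exists_isGen L hL x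
      exact ⟨⟨⟨U, g⟩, hg⟩, hxU⟩)
    (fun i j => by
      let u : Γ(X, i.1.1 ⊓ j.1.1) := j.2.coef inf_le_right (res L inf_le_left i.1.2)
      have hu : res L inf_le_left i.1.2 = (u • res L inf_le_right j.1.2 : Γ(L, i.1.1 ⊓ j.1.1)) :=
        (j.2.coef_smul inf_le_right _).symm
      refine ⟨u ^ k, ?_, ?_⟩
      · rw [resm, resm, hu, homm]
      · rw [resn, resn, hu, homn])
  exact ⟨ψ, fun U g hg => hψ ⟨⟨U, g⟩, hg⟩⟩

/-- two-variable version of `exists_iso_of_homogeneous` -/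
theorem exists_iso_of_homogeneous₂ (L L' : X.Modules) (hL : PicF.IsInvertible L) (hL' : PicF.IsInvertible L')
    (M N : X.Modules)
    (Fm : ∀ U : X.Opens, Γ(L, U) → Γ(L', U) → Γ(M, U)) (Fn : ∀ U : X.Opens, Γ(L, U) → Γ(L', U) → Γ(N, U))
    (hFm : ∀ (U : X.Opens) (g : Γ(L, U)) (g' : Γ(L', U)), IsGen L U g → IsGen L' U g' → IsGen M U (Fm U g g'))
    (hFn : ∀ (U : X.Opens) (g : Γ(L, U)) (g' : Γ(L', U)), IsGen L U g → IsGen L' U g' → IsGen N U (Fn U g g'))
    (k k' : ℕ)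
    (resm : ∀ (U V : X.Opens) (h : V ≤ U) (g : Γ(L, U)) (g' : Γ(L', U)),
      res M h (Fm U g g') = Fm V (res L h g) (res L' h g'))
    (resn : ∀ (U V : X.Opens) (h : V ≤ U) (g : Γ(L, U)) (g' : Γ(L', U)),
      res N h (Fn U g g') = Fn V (res L h g) (res L' h g'))
    (homm : ∀ (U : X.Opens) (u u' : Γ(X, U)) (g : Γ(L, U)) (g' : Γ(L', U)),
      Fm U (u • g : Γ(L, U)) (u' • g' : Γ(L', U)) = ((u ^ k * u' ^ k') • Fm U g g' : Γ(M, U)))
    (homn : ∀ (U : X.Opens) (u u' : Γ(X, U)) (g : Γ(L, U)) (g' : Γ(L', U)),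
      Fn U (u • g : Γ(L, U)) (u' • g' : Γ(L', U)) = ((u ^ k * u' ^ k') • Fn U g g' : Γ(N, U))) :
    ∃ ψ : M ≅ N, ∀ (U : X.Opens) (g : Γ(L, U)) (g' : Γ(L', U)), IsGen L U g → IsGen L' U g' →
      ψ.hom.app U (Fm U g g') = Fn U g g' := by
  let ι := {p : Σ U : X.Opens, Γ(L, U) × Γ(L', U) // IsGen L p.1 p.2.1 ∧ IsGen L' p.1 p.2.2}
  obtain ⟨ψ, hψ⟩ := exists_iso_of_cocycle_gen (M := M) (N := N) (ι := ι) (fun i => i.1.1)
    (fun i => Fm i.1.1 i.1.2.1 i.1.2.2) (fun i => Fn i.1.1 i.1.2.1 i.1.2.2)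
    (fun i => hFm _ _ _ i.2.1 i.2.2) (fun i => hFn _ _ _ i.2.1 i.2.2)
    (fun x => by
      obtain ⟨U, g, hxU, hg⟩ := exists_isGen L hL x
      obtain ⟨U', g', hxU', hg'⟩ := exists_isGen L' hL' x
      exact ⟨⟨⟨U ⊓ U', (res L inf_le_left g, res L' inf_le_right g')⟩,
        ⟨hg.res inf_le_left, hg'.res inf_le_right⟩⟩, ⟨hxU, hxU'⟩⟩)
    (fun i j => by
      let u : Γ(X, i.1.1 ⊓ j.1.1) := j.2.1.coef inf_le_right (res L inf_le_left i.1.2.1)
      let u' : Γ(X, i.1.1 ⊓ j.1.1) := j.2.2.coef inf_le_right (res L' inf_le_left i.1.2.2)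
      have hu : res L inf_le_left i.1.2.1 = (u • res L inf_le_right j.1.2.1 : Γ(L, i.1.1 ⊓ j.1.1)) :=
        (j.2.1.coef_smul inf_le_right _).symm
      have hu' : res L' inf_le_left i.1.2.2 = (u' • res L' inf_le_right j.1.2.2 : Γ(L', i.1.1 ⊓ j.1.1)) :=
        (j.2.2.coef_smul inf_le_right _).symm
      refine ⟨u ^ k * u' ^ k', ?_, ?_⟩
      · rw [resm, resm, hu, hu', homm]
      · rw [resn, resn, hu, hu', homn])
  exact ⟨ψ, fun U g g' hg hg' => hψ ⟨⟨U, (g, g')⟩, ⟨hg, hg'⟩⟩⟩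

end Homogeneous

section Isos

variable {L L' : X.Modules}

/-- `(L^a)^b ≅ L^(ab)` -/
theorem exists_tensorPow_tensorPow_iso (hL : PicF.IsInvertible L) (a b c : ℕ) (hc : c = a * b) :
    ∃ ψ : CohB1.tensorPow (CohB1.tensorPow L a) b ≅ CohB1.tensorPow L c,
      ∀ (U : X.Opens) (g : Γ(L, U)), IsGen L U g →
        ψ.hom.app U (gpow (CohB1.tensorPow L a) (gpow L g a) b) = gpow L g c := by
  refine exists_iso_of_homogeneous L hL _ _
    (fun U g => gpow (CohB1.tensorPow L a) (gpow L g a) b) (fun U g => gpow L g c)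
    (fun U g hg => isGen_gpow (isGen_gpow hg a) b) (fun U g hg => isGen_gpow hg c) c ?_ ?_ ?_ ?_
  · intro U V h g
    rw [gpow_res, gpow_res]
  · intro U V h g
    rw [gpow_res]
  · intro U u g
    rw [gpow_smul, gpow_smul, hc, pow_mul]
  · intro U u g
    rw [gpow_smul]

/-- `L^a ⊗ L^b ≅ L^(a+b)` -/
theorem exists_tensorPow_add_iso (hL : PicF.IsInvertible L) (a b c : ℕ) (hc : c = a + b) :
    ∃ ψ : CohB1.tensorMod (CohB1.tensorPow L a) (CohB1.tensorPow L b) ≅ CohB1.tensorPow L c,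
      ∀ (U : X.Opens) (g : Γ(L, U)), IsGen L U g →
        ψ.hom.app U (tmulSec _ _ (gpow L g a) (gpow L g b)) = gpow L g c := by
  refine exists_iso_of_homogeneous L hL _ _
    (fun U g => tmulSec (CohB1.tensorPow L a) (CohB1.tensorPow L b) (gpow L g a) (gpow L g b))
    (fun U g => gpow L g c)
    (fun U g hg => isGen_tmulSec _ _ (isGen_gpow hg a) (isGen_gpow hg b)) (fun U g hg => isGen_gpow hg c) c
    ?_ ?_ ?_ ?_
  · intro U V h g
    rw [tmulSec_res, gpow_res, gpow_res]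
  · intro U V h g
    rw [gpow_res]
  · intro U u g
    rw [gpow_smul, gpow_smul, tmulSec_smul_left, tmulSec_smul_right, ← mul_smul, hc, pow_add]
  · intro U u g
    rw [gpow_smul]

/-- `(L ⊗ L')^n ≅ L^n ⊗ L'^n` -/
theorem exists_tensorPow_tensorMod_iso (hL : PicF.IsInvertible L) (hL' : PicF.IsInvertible L') (n : ℕ) :
    ∃ ψ : CohB1.tensorPow (CohB1.tensorMod L L') n ≅
        CohB1.tensorMod (CohB1.tensorPow L n) (CohB1.tensorPow L' n),
      ∀ (U : X.Opens) (g : Γ(L, U)) (g' : Γ(L', U)), IsGen L U g → IsGen L' U g' →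
        ψ.hom.app U (gpow (CohB1.tensorMod L L') (tmulSec L L' g g') n) =
          tmulSec _ _ (gpow L g n) (gpow L' g' n) := by
  refine exists_iso_of_homogeneous₂ L L' hL hL' _ _
    (fun U g g' => gpow (CohB1.tensorMod L L') (tmulSec L L' g g') n)
    (fun U g g' => tmulSec (CohB1.tensorPow L n) (CohB1.tensorPow L' n) (gpow L g n) (gpow L' g' n))
    (fun U g g' hg hg' => isGen_gpow (isGen_tmulSec L L' hg hg') n)
    (fun U g g' hg hg' => isGen_tmulSec _ _ (isGen_gpow hg n) (isGen_gpow hg' n)) n n ?_ ?_ ?_ ?_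
  · intro U V h g g'
    rw [gpow_res, tmulSec_res]
  · intro U V h g g'
    rw [tmulSec_res, gpow_res, gpow_res]
  · intro U u u' g g'
    rw [tmulSec_smul_left, tmulSec_smul_right, ← mul_smul, gpow_smul, mul_pow]
  · intro U u u' g g'
    rw [gpow_smul, gpow_smul, tmulSec_smul_left, tmulSec_smul_right, ← mul_smul]

end Isos

end Groth.Agent.Lib.Helper28.GenLocus
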