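import Groth.Agent.Lib.Helper28.GrTwistGenD
import Groth.Agent.Lib.Helper28.TensorPowGen

/-!
# Generators of `GrTwist.twist 𝒜 κ` over `D₊(f)` with their values; the fractions `f^n`
-/

set_option autoImplicit false
universe u
open CategoryTheory CategoryTheory.Limits AlgebraicGeometry Opposite TopologicalSpace
noncomputable section

namespace Groth.Agent.Lib.Helper28.GrTwistGenVal

open Groth.Agent.Lib.Helper28 Groth.Agent.Lib.Helper28.QCohLoc Groth.Agent.Lib.Helper28.GenLocus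

section basis

variable {X : Scheme.{u}}

/-- a section which generates over a basis of the opens of `U` generates over `U` -/
theorem isGen_of_bijective_on_basis (M : X.Modules) (U : X.Opens) (σ : Γ(M, U))
    (B : X.Opens → Prop)
    (basis : ∀ (V : X.Opens) (x : X), x ∈ V → V ≤ U → ∃ W : X.Opens, B W ∧ x ∈ W ∧ W ≤ V)
    (hbij : ∀ (W : X.Opens) (hW : W ≤ U), B W →
      Function.Bijective (fun c : Γ(X, W) => (c • res M hW σ : Γ(M, W)))) :
    IsGen M U σ := by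
  intro W hW
  -- a basis element around each point of `W`
  have hch : ∀ x : W, ∃ V : X.Opens, B V ∧ x.1 ∈ V ∧ V ≤ W := fun x => basis W x.1 x.2 hW
  choose V hBV hxV hVW using hch
  have hcov : W ≤ iSup V := fun x hx => Opens.mem_iSup.2 ⟨⟨x, hx⟩, hxV _⟩
  have hinj : ∀ (W' : X.Opens) (hW' : W' ≤ U) (c c' : Γ(X, W')),
      (c • res M hW' σ : Γ(M, W')) = (c' • res M hW' σ : Γ(M, W')) → c = c' := by
    intro W' hW' c c' hcc
    have hch' : ∀ x : W', ∃ V : X.Opens, B V ∧ x.1 ∈ V ∧ V ≤ W' := fun x => basis W' x.1 x.2 hW'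
    choose V' hBV' hxV' hVW' using hch'
    have hcov' : W' ≤ iSup V' := fun x hx => Opens.mem_iSup.2 ⟨⟨x, hx⟩, hxV' _⟩
    refine eq_of_locally_eq (Coh.structureModule X) V' W' hVW' hcov' c c' fun x => ?_
    apply (hbij (V' x) ((hVW' x).trans hW') (hBV' x)).1
    show (resO (hVW' x) c • res M ((hVW' x).trans hW') σ : Γ(M, V' x)) =
      (resO (hVW' x) c' • res M ((hVW' x).trans hW') σ : Γ(M, V' x))
    rw [← res_res M hW' (hVW' x), ← res_smul, ← res_smul, hcc]
  constructor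
  · intro c c' hcc
    exact hinj W hW c c' hcc
  · intro t
    have hc : ∀ x : W, ∃ c : Γ(X, V x), (c • res M ((hVW x).trans hW) σ : Γ(M, V x)) = res M (hVW x) t :=
      fun x => (hbij (V x) ((hVW x).trans hW) (hBV x)).2 _
    choose c hc using hc
    obtain ⟨c₀, hc₀⟩ := exists_gluing (Coh.structureModule X) V W hVW hcov
      (fun x => (show Γ(Coh.structureModule X, V x) from c x)) (by
        intro x y
        refine hinj (V x ⊓ V y) (inf_le_left.trans ((hVW x).trans hW)) _ _ ?_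
        show (resO inf_le_left (c x) • res M _ σ : Γ(M, V x ⊓ V y)) =
          (resO inf_le_right (c y) • res M _ σ : Γ(M, V x ⊓ V y))
        have h1 := congrArg (res M (inf_le_left : V x ⊓ V y ≤ V x)) (hc x)
        have h2 := congrArg (res M (inf_le_right : V x ⊓ V y ≤ V y)) (hc y)
        rw [res_smul, res_res, res_res] at h1 h2
        rw [h1, h2])
    refine ⟨(show Γ(X, W) from c₀), ?_⟩
    refine eq_of_locally_eq M V W hVW hcov _ _ fun x => ?_
    show res M (hVW x) ((show Γ(X, W) from c₀) • res M hW σ : Γ(M, W)) = res M (hVW x) t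
    rw [res_smul, res_res, ← hc x]
    congr 1
    exact hc₀ x

end basis

variable {A σ : Type u} [CommRing A] [SetLike σ A] [AddSubgroupClass σ A] (𝒜 : ℕ → σ) [GradedRing 𝒜]

/-- the fraction `f^n`, `n ∈ ℤ`, in the localization at a point where `f` does not vanish -/
def pw (x : ProjectiveSpectrum 𝒜) (f : A) (hfx : f ∉ x.asHomogeneousIdeal) (n : ℤ) : GrTwist.Loc 𝒜 x :=
  Localization.mk (f ^ n.toNat) ⟨f ^ (-n).toNat, fun h => hfx (x.isPrime.mem_of_pow_mem _ h)⟩

theorem pw_add (x : ProjectiveSpectrum 𝒜) (f : A) (hfx : f ∉ x.asHomogeneousIdeal) (m n : ℤ) :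
    pw 𝒜 x f hfx (m + n) = pw 𝒜 x f hfx m * pw 𝒜 x f hfx n := by
  unfold pw
  rw [Localization.mk_mul, Localization.mk_eq_mk_iff, Localization.r_iff_exists]
  refine ⟨1, ?_⟩
  simp only [OneMemClass.coe_one, one_mul, Submonoid.coe_mul]
  rw [← pow_add, ← pow_add, ← pow_add, ← pow_add]
  congr 1
  have h1 := Int.toNat_sub_toNat_neg m
  have h2 := Int.toNat_sub_toNat_neg n
  have h3 := Int.toNat_sub_toNat_neg (m + n)
  zify
  rw [neg_add] at h3 ⊢
  linarith

theorem pw_mul_neg (x : ProjectiveSpectrum 𝒜) (f : A) (hfx : f ∉ x.asHomogeneousIdeal) (n : ℤ) :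
    pw 𝒜 x f hfx n * pw 𝒜 x f hfx (-n) = 1 := by
  rw [← pw_add, add_neg_cancel]
  unfold pw
  simp only [Int.toNat_zero, pow_zero, neg_zero]
  exact Localization.mk_self 1

theorem isUnit_pw (x : ProjectiveSpectrum 𝒜) (f : A) (hfx : f ∉ x.asHomogeneousIdeal) (n : ℤ) :
    IsUnit (pw 𝒜 x f hfx n) :=
  IsUnit.of_mul_eq_one _ (pw_mul_neg 𝒜 x f hfx n)

section gen

variable {f : A} {d : ℕ} (hf : f ∈ 𝒜 d)

include hf in
/-- a generator of `O(κ)` over `D₊(f)` for `κ = n d`, with its values -/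
theorem exists_generator (hd : 0 < d) (κ n : ℤ) (hκ : κ = n * d) :
    ∃ γ : Γ(GrTwist.twist 𝒜 κ, Proj.basicOpen 𝒜 f),
      (∀ x : Proj.basicOpen 𝒜 f, GrTwistQC.val 𝒜 γ x =
        pw 𝒜 x.1 f ((Proj.mem_basicOpen 𝒜 f x.1).1 x.2) n) ∧
      IsGen (GrTwist.twist 𝒜 κ) (Proj.basicOpen 𝒜 f) γ := by
  subst hκ
  refine ⟨GrTwistGenD.gen 𝒜 hf n, fun x => GrTwistGenD.val_gen 𝒜 hf n x, ?_⟩
  refine isGen_of_bijective_on_basis _ _ _
    (fun W => ∃ (h : A) (e : ℕ), h ∈ 𝒜 e ∧ W = Proj.basicOpen 𝒜 (f * h)) ?_ ?_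
  · intro V x hxV hVU
    obtain ⟨e, h, he, hh, hhx, hhV⟩ := GrSectComap.exists_pos_basicOpen 𝒜 V x hxV
    refine ⟨Proj.basicOpen 𝒜 (f * h), ⟨h, e, hh, rfl⟩, ?_, ?_⟩
    · rw [Proj.basicOpen_mul]
      exact ⟨hVU hxV, (Proj.mem_basicOpen 𝒜 h x).2 hhx⟩
    · intro y hy
      rw [Proj.basicOpen_mul] at hy
      exact hhV y ((Proj.mem_basicOpen 𝒜 h y).1 hy.2)
  · rintro W hW ⟨h, e, hh, rfl⟩
    exact GrTwistGenD.smul_genW_bijective 𝒜 hf hd hh n

end gen

end Groth.Agent.Lib.Helper28.GrTwistGenVal
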