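import Groth.Agent.Lib.Helper28.TensorPowGen

/-!
# Powers and products of global sections of invertible modules, and the loci where they generate
-/

set_option autoImplicit false
universe u
open CategoryTheory CategoryTheory.Limits AlgebraicGeometry Opposite TopologicalSpace
noncomputable section

namespace Groth.Agent.Lib.Helper28.GenLocus

open Groth.Agent.Lib.Helper28 Groth.Agent.Lib.Helper28.QCohLoc Groth.Agent.Lib.Helper28.TensorGen
  Groth.Agent.Lib.Helper28.InvTensor Groth.Agent.Lib.Helper28.AmpleUnit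

variable {X : Scheme.{u}}

/-- the global section corresponding to a morphism from the structure sheaf -/
def secOf {M : X.Modules} (s : Coh.structureModule X ⟶ M) : Γ(M, ⊤) := s.app ⊤ (oneSec X ⊤)

theorem app_oneSec {M : X.Modules} (s : Coh.structureModule X ⟶ M) (U : X.Opens) :
    s.app U (oneSec X U) = res M (le_top : U ≤ ⊤) (secOf s) := by
  unfold secOf
  rw [← app_res, res_oneSec]

theorem secOf_ofSection {M : X.Modules} (σ : Γ(M, ⊤)) : secOf (TwistGen.ofSection M σ) = σ := by
  unfold secOf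
  have := InvQC.ofSection_app_one_eq σ ⊤
  rw [res_self] at this
  exact this

theorem app_eq_smul {M : X.Modules} (s : Coh.structureModule X ⟶ M) (U : X.Opens) (c : Γ(X, U)) :
    s.app U (show Γ(Coh.structureModule X, U) from c) = (c • res M (le_top : U ≤ ⊤) (secOf s) : Γ(M, U)) :=
  hom_app_eq_smul s U c

theorem ofSection_secOf {M : X.Modules} (s : Coh.structureModule X ⟶ M) :
    TwistGen.ofSection M (secOf s) = s := by
  apply Scheme.Modules.hom_ext
  intro U
  ext c
  exact (TwistGen.ofSection_app M (secOf s) U c).trans (app_eq_smul s U c).symm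

/-- the locus where `s` generates, over an open with a generator -/
theorem genLocus_inf_eq {M : X.Modules} (s : Coh.structureModule X ⟶ M) (U : X.Opens) (g : Γ(M, U))
    (hg : IsGen M U g) (r : Γ(X, U)) (hr : res M (le_top : U ≤ ⊤) (secOf s) = (r • g : Γ(M, U))) :
    CohB1.genLocus M s ⊓ U = X.basicOpen r :=
  genLocus_inf_eq_basicOpen s U g hg r ((app_oneSec s U).trans hr)

theorem genLocus_inf_eq_coef {M : X.Modules} (s : Coh.structureModule X ⟶ M) (U : X.Opens) (g : Γ(M, U))
    (hg : IsGen M U g) :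
    CohB1.genLocus M s ⊓ U = X.basicOpen (hg.coef le_rfl (res M (le_top : U ≤ ⊤) (secOf s))) := by
  refine genLocus_inf_eq s U g hg _ ?_
  have := hg.coef_smul le_rfl (res M (le_top : U ≤ ⊤) (secOf s))
  rw [res_self] at this
  exact this.symm

/-- the `n`-th power of a global section -/
def spow {M : X.Modules} (s : Coh.structureModule X ⟶ M) (n : ℕ) :
    Coh.structureModule X ⟶ CohB1.tensorPow M n :=
  TwistGen.ofSection _ (gpow M (secOf s) n)

/-- the product of two global sections -/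
def smulSec {M M' : X.Modules} (s : Coh.structureModule X ⟶ M) (s' : Coh.structureModule X ⟶ M') :
    Coh.structureModule X ⟶ CohB1.tensorMod M M' :=
  TwistGen.ofSection _ (tmulSec M M' (secOf s) (secOf s'))

theorem secOf_spow {M : X.Modules} (s : Coh.structureModule X ⟶ M) (n : ℕ) :
    secOf (spow s n) = gpow M (secOf s) n := secOf_ofSection _

theorem secOf_smulSec {M M' : X.Modules} (s : Coh.structureModule X ⟶ M) (s' : Coh.structureModule X ⟶ M') :
    secOf (smulSec s s') = tmulSec M M' (secOf s) (secOf s') := secOf_ofSection _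

theorem genLocus_spow {M : X.Modules} (hM : PicF.IsInvertible M) (s : Coh.structureModule X ⟶ M) (n : ℕ)
    (hn : 0 < n) : CohB1.genLocus _ (spow s n) = CohB1.genLocus M s := by
  ext x
  obtain ⟨U, g, hxU, hg⟩ := exists_isGen M hM x
  let r : Γ(X, U) := hg.coef le_rfl (res M (le_top : U ≤ ⊤) (secOf s))
  have hr : res M (le_top : U ≤ ⊤) (secOf s) = (r • g : Γ(M, U)) := by
    have := hg.coef_smul le_rfl (res M (le_top : U ≤ ⊤) (secOf s))
    rw [res_self] at this
    exact this.symm
  have h1 : CohB1.genLocus M s ⊓ U = X.basicOpen r := genLocus_inf_eq s U g hg r hr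
  have h2 : CohB1.genLocus _ (spow s n) ⊓ U = X.basicOpen (r ^ n) := by
    refine genLocus_inf_eq (spow s n) U (gpow M g n) (isGen_gpow hg n) (r ^ n) ?_
    rw [secOf_spow, gpow_res, hr, gpow_smul]
  have h3 : X.basicOpen (r ^ n) = X.basicOpen r := Scheme.basicOpen_pow X r hn
  show x ∈ CohB1.genLocus _ (spow s n) ↔ x ∈ CohB1.genLocus M s
  have e1 : x ∈ CohB1.genLocus _ (spow s n) ↔ x ∈ CohB1.genLocus _ (spow s n) ⊓ U :=
    ⟨fun h => ⟨h, hxU⟩, fun h => h.1⟩
  have e2 : x ∈ CohB1.genLocus M s ↔ x ∈ CohB1.genLocus M s ⊓ U :=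
    ⟨fun h => ⟨h, hxU⟩, fun h => h.1⟩
  rw [e1, e2, h1, h2, h3]

theorem genLocus_smulSec {M M' : X.Modules} (hM : PicF.IsInvertible M) (hM' : PicF.IsInvertible M')
    (s : Coh.structureModule X ⟶ M) (s' : Coh.structureModule X ⟶ M') :
    CohB1.genLocus _ (smulSec s s') = CohB1.genLocus M s ⊓ CohB1.genLocus M' s' := by
  ext x
  obtain ⟨U₁, g₁, hxU₁, hg₁⟩ := exists_isGen M hM x
  obtain ⟨U₂, g₂, hxU₂, hg₂⟩ := exists_isGen M' hM' x
  let U := U₁ ⊓ U₂
  have hxU : x ∈ U := ⟨hxU₁, hxU₂⟩
  let g : Γ(M, U) := res M inf_le_left g₁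
  let g' : Γ(M', U) := res M' inf_le_right g₂
  have hg : IsGen M U g := hg₁.res inf_le_left
  have hg' : IsGen M' U g' := hg₂.res inf_le_right
  let r : Γ(X, U) := hg.coef le_rfl (res M (le_top : U ≤ ⊤) (secOf s))
  let r' : Γ(X, U) := hg'.coef le_rfl (res M' (le_top : U ≤ ⊤) (secOf s'))
  have hr : res M (le_top : U ≤ ⊤) (secOf s) = (r • g : Γ(M, U)) := by
    have := hg.coef_smul le_rfl (res M (le_top : U ≤ ⊤) (secOf s))
    rw [res_self] at this
    exact this.symm
  have hr' : res M' (le_top : U ≤ ⊤) (secOf s') = (r' • g' : Γ(M', U)) := by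
    have := hg'.coef_smul le_rfl (res M' (le_top : U ≤ ⊤) (secOf s'))
    rw [res_self] at this
    exact this.symm
  have h1 : CohB1.genLocus M s ⊓ U = X.basicOpen r := genLocus_inf_eq s U g hg r hr
  have h1' : CohB1.genLocus M' s' ⊓ U = X.basicOpen r' := genLocus_inf_eq s' U g' hg' r' hr'
  have h2 : CohB1.genLocus _ (smulSec s s') ⊓ U = X.basicOpen (r * r') := by
    refine genLocus_inf_eq (smulSec s s') U (tmulSec M M' g g') (isGen_tmulSec M M' hg hg') (r * r') ?_
    rw [secOf_smulSec, tmulSec_res, hr, hr', tmulSec_smul_left, tmulSec_smul_right, ← mul_smul]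
  have h3 : X.basicOpen (r * r') = X.basicOpen r ⊓ X.basicOpen r' := Scheme.basicOpen_mul X r r'
  show x ∈ CohB1.genLocus _ (smulSec s s') ↔ x ∈ CohB1.genLocus M s ⊓ CohB1.genLocus M' s'
  have e1 : x ∈ CohB1.genLocus _ (smulSec s s') ↔ x ∈ CohB1.genLocus _ (smulSec s s') ⊓ U :=
    ⟨fun h => ⟨h, hxU⟩, fun h => h.1⟩
  have e2 : x ∈ CohB1.genLocus M s ⊓ CohB1.genLocus M' s' ↔
      x ∈ (CohB1.genLocus M s ⊓ U) ⊓ (CohB1.genLocus M' s' ⊓ U) :=
    ⟨fun h => ⟨⟨h.1, hxU⟩, ⟨h.2, hxU⟩⟩, fun h => ⟨h.1.1, h.2.1⟩⟩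
  rw [e1, e2, h1, h1', h2, h3]

/-- the inclusion of the locus where a section of an invertible module generates is an affine morphism -/
theorem isAffineHom_genLocus_ι {L : X.Modules} (hL : PicF.IsInvertible L) (s : Coh.structureModule X ⟶ L) :
    IsAffineHom (CohB1.genLocus L s).ι := by
  apply isAffineHom_of_forall_exists_isAffineOpen
  intro x
  obtain ⟨U, g, hxU, hg⟩ := exists_isGen L hL x
  obtain ⟨_, ⟨V, hV, rfl⟩, hxV, hVU⟩ := X.isBasis_affineOpens.exists_subset_of_mem_open hxU U.isOpen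
  have hVU' : V ≤ U := hVU
  have hgV := hg.res hVU'
  have hloc := genLocus_inf_eq_coef s V _ hgV
  refine ⟨V, hxV, hV, ?_⟩
  rw [← Scheme.Hom.isAffineOpen_iff_of_isOpenImmersion (CohB1.genLocus L s).ι,
    Scheme.Hom.image_preimage_eq_opensRange_inf, Scheme.Opens.opensRange_ι, hloc]
  exact IsAffineOpen.basicOpen hV _

/-- inside an affine open, the locus where a section of an invertible module generates is affine -/
theorem isAffineOpen_genLocus_inf {L : X.Modules} (hL : PicF.IsInvertible L) (s : Coh.structureModule X ⟶ L)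
    {V : X.Opens} (hV : IsAffineOpen V) : IsAffineOpen (CohB1.genLocus L s ⊓ V) := by
  haveI := isAffineHom_genLocus_ι hL s
  have h1 : IsAffineOpen ((CohB1.genLocus L s).ι ⁻¹ᵁ V) := hV.preimage (CohB1.genLocus L s).ι
  rw [← Scheme.Hom.isAffineOpen_iff_of_isOpenImmersion (CohB1.genLocus L s).ι,
    Scheme.Hom.image_preimage_eq_opensRange_inf, Scheme.Opens.opensRange_ι] at h1
  exact h1

end Groth.Agent.Lib.Helper28.GenLocus
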