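import Groth.Agent.Lib.Helper28.DualInv
import Groth.Agent.Lib.Helper28.GrTwistGenVal
import Groth.Agent.Lib.Helper28.SecPow
import Groth.Prelude.Def_ClSub2
import Groth.Prelude.Def_BlowUp2

/-!
# The ideal module of an effective Cartier divisor and its dual `O_X(D)`

For a quasi-coherent ideal `I` locally generated by a nonzerodivisor:
* `IdealDual.isInvertible_idealMod`: the ideal module `ClSub.idealMod I` is invertible;
* `IdealDual.tI I : O_X ⟶ (idealMod I)^∨`, the canonical section `1` of `O_X(D)`;
* `IdealDual.genLocus_tI`: it generates exactly on the complement of the support of `I`.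
-/

set_option autoImplicit false
universe u
open CategoryTheory CategoryTheory.Limits AlgebraicGeometry Opposite TopologicalSpace
noncomputable section

namespace Groth.Agent.Lib.Helper28.IdealDual

open Groth.Agent.Lib.Helper28 Groth.Agent.Lib.Helper28.QCohLoc Groth.Agent.Lib.Helper28.GenLocus
  Groth.Agent.Lib.Helper28.HomMod

variable {X : Scheme.{u}}

section Kernel

/-- left exactness of sections: a section killed by `φ` comes from the kernel -/
theorem exists_kernel_app_eq {F G : X.Modules} (φ : F ⟶ G) (U : X.Opens) (y : Γ(F, U))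
    (hy : φ.app U y = 0) : ∃ k : Γ(kernel φ, U), (kernel.ι φ).app U k = y := by
  let S : ShortComplex (SheafOfModules.{u} X.ringCatSheaf) := ShortComplex.mk (kernel.ι φ) φ (kernel.condition φ)
  have hS : S.Exact := ShortComplex.exact_of_f_is_kernel _ (kernelIsKernel φ)
  have : (SheafOfModules.evaluation.{u} X.ringCatSheaf (op U)).PreservesZeroMorphisms :=
    ⟨fun _ _ => rfl⟩
  have : Mono S.f := inferInstanceAs (Mono (kernel.ι φ))
  have hex := hS.map_of_mono_of_preservesKernel
    (SheafOfModules.evaluation.{u} X.ringCatSheaf (op U)) inferInstance inferInstance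
  rw [ShortComplex.moduleCat_exact_iff] at hex
  exact hex y hy

theorem kernel_ι_app_injective {F G : X.Modules} (φ : F ⟶ G) (U : X.Opens) :
    Function.Injective ((kernel.ι φ).app U) :=
  injective_of_mono _ inferInstance U

theorem app_kernel_ι_app {F G : X.Modules} (φ : F ⟶ G) (U : X.Opens) (k : Γ(kernel φ, U)) :
    φ.app U ((kernel.ι φ).app U k) = 0 := by
  have h := congrArg (fun ψ : (kernel φ ⟶ G) => ψ.app U k) (kernel.condition φ)
  exact h

end Kernel

variable (I : X.IdealSheafData)

/-- the function underlying a section of the ideal module -/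
def iota {W : X.Opens} (k : Γ(ClSub.idealMod I, W)) : Γ(X, W) := (ClSub.idealModι I).app W k

theorem iota_add {W : X.Opens} (k k' : Γ(ClSub.idealMod I, W)) : iota I (k + k') = iota I k + iota I k' :=
  map_add _ _ _

theorem iota_smul {W : X.Opens} (a : Γ(X, W)) (k : Γ(ClSub.idealMod I, W)) :
    iota I (a • k : Γ(ClSub.idealMod I, W)) = a * iota I k :=
  Scheme.Modules.Hom.app_smul (ClSub.idealModι I) a k

theorem iota_res {W W' : X.Opens} (h : W' ≤ W) (k : Γ(ClSub.idealMod I, W)) :
    iota I (res (ClSub.idealMod I) h k) = resO h (iota I k) :=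
  app_res (ClSub.idealModι I) h k

theorem iota_injective {W : X.Opens} : Function.Injective (iota I (W := W)) :=
  kernel_ι_app_injective (ClSub.toSubscheme I) W

theorem subschemeι_app_iota {W : X.Opens} (k : Γ(ClSub.idealMod I, W)) :
    I.subschemeι.app W (iota I k) = 0 :=
  app_kernel_ι_app (ClSub.toSubscheme I) W k

theorem exists_iota_eq {W : X.Opens} (a : Γ(X, W)) (ha : I.subschemeι.app W a = 0) :
    ∃ k : Γ(ClSub.idealMod I, W), iota I k = a :=
  exists_kernel_app_eq (ClSub.toSubscheme I) W (show Γ(Coh.structureModule X, W) from a) ha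

theorem iota_mem_ideal (U : X.affineOpens) (k : Γ(ClSub.idealMod I, U.1)) : iota I k ∈ I.ideal U := by
  rw [← I.ker_subschemeι_app U, RingHom.mem_ker]
  exact subschemeι_app_iota I k

theorem exists_iota_eq_of_mem (U : X.affineOpens) (a : Γ(X, U.1)) (ha : a ∈ I.ideal U) :
    ∃ k : Γ(ClSub.idealMod I, U.1), iota I k = a := by
  refine exists_iota_eq I a ?_
  rw [← I.ker_subschemeι_app U, RingHom.mem_ker] at ha
  exact ha

section Chart

variable {U : X.Opens} (hU : IsAffineOpen U) (f : Γ(X, U)) (hf : f ∈ nonZeroDivisors Γ(X, U))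
  (hI : I.ideal ⟨U, hU⟩ = Ideal.span {f})

include hU hf in
theorem resO_mem_nonZeroDivisors (r : Γ(X, U)) :
    resO (X.basicOpen_le r) f ∈ nonZeroDivisors Γ(X, X.basicOpen r) := by
  have := hU.isLocalization_basicOpen r
  have h := IsLocalization.map_nonZeroDivisors_le (Submonoid.powers r) Γ(X, X.basicOpen r)
  exact h ⟨f, hf, rfl⟩

include hI in
theorem ideal_basicOpen (r : Γ(X, U)) :
    I.ideal (X.affineBasicOpen (U := ⟨U, hU⟩) r) = Ideal.span {resO (X.basicOpen_le r) f} := by
  rw [← I.map_ideal_basicOpen ⟨U, hU⟩ r, hI, Ideal.map_span, Set.image_singleton]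

include hf hI in
/-- **a section of the ideal module lying over a nonzerodivisor generator of the ideal generates the ideal module** -/
theorem isGen_of_iota_eq (g : Γ(ClSub.idealMod I, U)) (hg : iota I g = f) :
    IsGen (ClSub.idealMod I) U g := by
  refine GrTwistGenVal.isGen_of_bijective_on_basis (ClSub.idealMod I) U g
    (fun W => ∃ r : Γ(X, U), W = X.basicOpen r) ?_ ?_
  · intro V x hxV hVU
    obtain ⟨r, hrV, hxr⟩ := hU.exists_basicOpen_le (V := V) ⟨x, hxV⟩ (hVU hxV)
    exact ⟨X.basicOpen r, ⟨r, rfl⟩, hxr, hrV⟩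
  · rintro W hW ⟨r, rfl⟩
    have hnzd := resO_mem_nonZeroDivisors hU f hf r
    have hval : ∀ c : Γ(X, X.basicOpen r),
        iota I (c • res (ClSub.idealMod I) hW g : Γ(ClSub.idealMod I, X.basicOpen r)) =
          c * resO (X.basicOpen_le r) f := by
      intro c
      rw [iota_smul, iota_res, hg]
    constructor
    · intro c c' hcc
      have h1 := congrArg (iota I) hcc
      rw [hval, hval] at h1
      exact (mul_cancel_right_mem_nonZeroDivisors hnzd).1 h1
    · intro k
      have hk := iota_mem_ideal I (X.affineBasicOpen (U := ⟨U, hU⟩) r) k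
      rw [ideal_basicOpen I hU f hI r] at hk
      obtain ⟨c, hc⟩ : ∃ c : Γ(X, X.basicOpen r), c * resO (X.basicOpen_le r) f = iota I k :=
        Ideal.mem_span_singleton'.1 hk
      refine ⟨c, ?_⟩
      apply iota_injective I
      show iota I (c • res (ClSub.idealMod I) hW g : Γ(ClSub.idealMod I, X.basicOpen r)) = iota I k
      rw [hval, hc]

include hf hI in
theorem exists_isGen_idealMod :
    ∃ g : Γ(ClSub.idealMod I, U), IsGen (ClSub.idealMod I) U g ∧ iota I g = f := by
  obtain ⟨g, hg⟩ := exists_iota_eq_of_mem I ⟨U, hU⟩ f (by rw [hI]; exact Ideal.mem_span_singleton_self f)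
  exact ⟨g, isGen_of_iota_eq I hU f hf hI g hg, hg⟩

end Chart

/-- **the ideal module of an effective Cartier divisor is invertible** -/
theorem isInvertible_idealMod (hI : BlowUp.IsEffCartierIdeal I) : PicF.IsInvertible (ClSub.idealMod I) := by
  refine isInvertible_of_isGen _ fun x => ?_
  obtain ⟨U, hxU, f, hf, hIU⟩ := hI x
  obtain ⟨g, hg, -⟩ := exists_isGen_idealMod I U.2 f hf hIU
  exact ⟨U.1, g, hxU, hg⟩

/-- the canonical global section `1` of `O_X(D) = I^∨`: the inclusion of the ideal -/
def tcan : Γ(dual (ClSub.idealMod I), ⊤) :=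
  mkSec (N := Coh.structureModule X)
    (fun W _ k => (ClSub.idealModι I).app W k)
    (fun _ _ k k' => map_add _ k k')
    (fun _ _ a k => Scheme.Modules.Hom.app_smul (ClSub.idealModι I) a k)
    (fun _ _ _ h' k => app_res (ClSub.idealModι I) h' k)

theorem evO_tcan {W : X.Opens} (h : W ≤ ⊤) (k : Γ(ClSub.idealMod I, W)) : evO (tcan I) h k = iota I k := rfl

/-- the canonical section of `O_X(D)`, as a morphism -/
def tI : Coh.structureModule X ⟶ dual (ClSub.idealMod I) := TwistGen.ofSection _ (tcan I)

theorem genLocus_tI_inf {U : X.Opens} {g : Γ(ClSub.idealMod I, U)} (hg : IsGen (ClSub.idealMod I) U g) :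
    CohB1.genLocus _ (tI I) ⊓ U = X.basicOpen (iota I g) := by
  refine genLocus_inf_eq (tI I) U (gdual hg) (isGen_gdual hg) (iota I g) ?_
  rw [tI, secOf_ofSection]
  apply ext_evO
  intro W hW k
  rw [res_evO, evO_tcan, smul_evO, evO_gdual]
  conv_lhs => rw [← hg.coef_smul hW k]
  rw [iota_smul, iota_res, mul_comm]

/-- **the canonical section of `O_X(D)` generates exactly off the support of `D`** -/
theorem genLocus_tI (hI : BlowUp.IsEffCartierIdeal I) :
    CohB1.genLocus _ (tI I) = I.support.compl := by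
  ext x
  obtain ⟨U, hxU, f, hf, hIU⟩ := hI x
  obtain ⟨g, hg, hgf⟩ := exists_isGen_idealMod I U.2 f hf hIU
  have h1 := genLocus_tI_inf I hg
  rw [hgf] at h1
  have h2 : x ∈ CohB1.genLocus _ (tI I) ↔ x ∈ X.basicOpen f := by
    rw [← h1]
    exact ⟨fun h => ⟨h, hxU⟩, fun h => h.1⟩
  have h3 : x ∈ I.support ↔ x ∉ X.basicOpen f := by
    rw [Scheme.IdealSheafData.mem_support_iff_of_mem (U := U) hxU, hIU, Scheme.zeroLocus_span,
      Scheme.zeroLocus_singleton]
    rfl
  show x ∈ CohB1.genLocus _ (tI I) ↔ x ∈ I.support.compl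
  rw [h2]
  show _ ↔ x ∉ I.support
  rw [h3, not_not]

end Groth.Agent.Lib.Helper28.IdealDual
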