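import Groth.Agent.Lib.Helper28.QCohGlobal

/-!
# Generation by sections

* `QCohLoc.epi_of_locally_in_range`: a morphism of modules whose image contains every section locally is an
  epimorphism.
* `QCohLoc.globalSection`, `QCohLoc.fromFree`: the morphism `free Γ(F,⊤) ⟶ F` given by all global sections.
* `QCohLoc.epi_fromFree_of_isQuasiAffine`: on a quasi-affine scheme, quasi-coherent modules are generated by global
  sections.
-/

universe u
open CategoryTheory CategoryTheory.Limits AlgebraicGeometry Opposite TopologicalSpace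

namespace Groth.Agent.Lib.Helper28.QCohLoc

variable {X : Scheme.{u}}

theorem app_res {G F : X.Modules} (p : G ⟶ F) {U V : X.Opens} (h : V ≤ U) (y : Γ(G, U)) :
    p.app V (res G h y) = res F h (p.app U y) := by
  have := congr_arg (fun φ => φ y) (p.mapPresheaf.naturality (homOfLE h).op)
  exact this

/-- A morphism of modules whose image contains, locally, every section of the target is an epimorphism. -/
theorem epi_of_locally_in_range {G F : X.Modules} (p : G ⟶ F)
    (h : ∀ (U : X.Opens) (x : Γ(F, U)) (pt : X), pt ∈ U →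
      ∃ (V : X.Opens) (hV : V ≤ U), pt ∈ V ∧ ∃ y : Γ(G, V), p.app V y = res F hV x) : Epi p := by
  apply Preadditive.epi_of_cancel_zero
  intro C g hg
  apply Scheme.Modules.hom_ext
  intro U
  ext x
  change g.app U x = 0
  choose V hV hpt y hy using h U x
  refine eq_of_locally_eq C (fun pt : U => V pt.1 pt.2) U (fun pt => hV pt.1 pt.2) ?_ _ _ ?_
  · intro q hq
    exact Opens.mem_iSup.mpr ⟨⟨q, hq⟩, hpt q hq⟩
  · intro pt
    rw [res_zero, ← app_res, ← hy pt.1 pt.2]
    have : (p ≫ g).app (V pt.1 pt.2) (y pt.1 pt.2) = 0 := by rw [hg]; rfl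
    exact this


/-- the global section (compatible family of sections over all opens) defined by an element of `Γ(F, ⊤)` -/
noncomputable def globalSection (F : X.Modules) (m : F.val.obj (op ⊤)) : F.sections :=
  PresheafOfModules.sectionsMk (fun U => F.val.map (homOfLE le_top : U.unop ⟶ ⊤).op m) (by
    intro U V f
    rw [← PresheafOfModules.map_comp_apply]
    rfl)

/-- the canonical morphism from the free module on all global sections -/
noncomputable def fromFree (F : X.Modules) : (SheafOfModules.free (F.val.obj (op ⊤)) : X.Modules) ⟶ F :=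
  (SheafOfModules.freeHomEquiv _).symm (globalSection F)

theorem fromFree_app (F : X.Modules) (V : X.Opens) (m : F.val.obj (op ⊤)) :
    Scheme.Modules.Hom.app (M := (SheafOfModules.free (F.val.obj (op ⊤)) : X.Modules)) (N := F) (fromFree F) V ((SheafOfModules.freeSection (R := X.ringCatSheaf) m).1 (op V)) =
      res F (le_top : V ≤ ⊤) m := by
  have h := SheafOfModules.sectionsMap_freeHomEquiv_symm_freeSection (globalSection F) m
  exact congr_arg (fun s : F.sections => s.1 (op V)) h

/-- On a quasi-affine scheme every quasi-coherent module is generated by its global sections. -/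
theorem epi_fromFree_of_isQuasiAffine [X.IsQuasiAffine] (F : X.Modules) [F.IsQuasicoherent] :
    Epi (fromFree F) := by
  apply epi_of_locally_in_range (G := (SheafOfModules.free (F.val.obj (op ⊤)) : X.Modules)) (F := F)
  intro U x pt hpt
  obtain ⟨V, ⟨r, hr, rfl⟩, hptV, hVU⟩ :=
    Opens.isBasis_iff_nbhd.mp (Scheme.IsQuasiAffine.isBasis_basicOpen X) hpt
  refine ⟨X.basicOpen r, hVU, hptV, ?_⟩
  obtain ⟨n, m, hm⟩ := exists_pow_smul_eq_res_of_qcqs F (U := ⊤) isCompact_univ isQuasiSeparated_univ r
    (res F hVU x)
  have hunit : IsUnit (resO (X.basicOpen_le r) r) := RingedSpace.isUnit_res_basicOpen _ r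
  obtain ⟨u, hu⟩ := hunit.pow n
  refine ⟨((↑u⁻¹ : Γ(X, X.basicOpen r)) •
    (show Γ((SheafOfModules.free (F.val.obj (op ⊤)) : X.Modules), X.basicOpen r) from
      (SheafOfModules.freeSection (R := X.ringCatSheaf) m).1 (op (X.basicOpen r))) :
      Γ((SheafOfModules.free (F.val.obj (op ⊤)) : X.Modules), X.basicOpen r)), ?_⟩
  rw [Scheme.Modules.Hom.app_smul]
  have h1 := fromFree_app F (X.basicOpen r) m
  have h2 : Scheme.Modules.Hom.app (M := (SheafOfModules.free (F.val.obj (op ⊤)) : X.Modules)) (N := F) (fromFree F) (X.basicOpen r)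
      (show Γ((SheafOfModules.free (F.val.obj (op ⊤)) : X.Modules), X.basicOpen r) from
      (SheafOfModules.freeSection (R := X.ringCatSheaf) m).1 (op (X.basicOpen r))) =
      ((resO (X.basicOpen_le r) r) ^ n • res F hVU x : Γ(F, X.basicOpen r)) := h1.trans hm
  rw [h2, ← hu, ← mul_smul, Units.inv_mul, one_smul]

end Groth.Agent.Lib.Helper28.QCohLoc
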