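import Groth.Agent.Lib.Helper28.QCohGlobal

/-!
# Criteria for quasi-coherence

* `QCohLoc.isQuasicoherent_of_presentation_cover`: a module whose restrictions to the members of an open cover have
  (global) presentations is quasi-coherent.
-/

universe u
open CategoryTheory CategoryTheory.Limits AlgebraicGeometry Opposite TopologicalSpace

namespace Groth.Agent.Lib.Helper28.QCohLoc

variable {X : Scheme.{u}} (M : X.Modules)

open Scheme.Modules in
/-- from a presentation of the restriction `M|_U` to a presentation of `M.over U` -/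
noncomputable def presentationOver (U : X.Opens) (P : (M.restrict U.ι).Presentation) :
    (SheafOfModules.over M U).Presentation :=
  let e := overEquiv U
  let iso2 : e.inverse.obj (M.restrict U.ι) ≅ SheafOfModules.over M U :=
    e.inverse.mapIso ((overFunctorEquiv U).app M).symm ≪≫ (e.unitIso.app (SheafOfModules.over M U)).symm
  SheafOfModules.Presentation.ofIsIso.{u, u, u} iso2.hom
    (P.map e.inverse (U.sheafOfModulesEquivOverInverseUnit X.ringCatSheaf).symm)


/-- A module whose restrictions to the members of an open cover have presentations is quasi-coherent. -/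
theorem isQuasicoherent_of_presentation_cover {ι : Type u} (U : ι → X.Opens) (hcov : IsOpenCover U)
    (P : ∀ i, (M.restrict (U i).ι).Presentation) : M.IsQuasicoherent := by
  let q : SheafOfModules.QuasicoherentData.{u, u, u, u} M :=
    { I := ι
      X := U
      coversTop := by rw [Opens.coversTop_iff]; exact hcov
      presentation := fun i => presentationOver M (U i) (P i) }
  exact q.isQuasicoherent

open Scheme.Modules in
/-- For an affine open `U`, a presentation of `M` restricted along `fromSpec` gives one of `M|_U`. -/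
noncomputable def presentationOfFromSpec {U : X.Opens} (hU : IsAffineOpen U)
    (P : (M.restrict hU.fromSpec).Presentation) : (M.restrict U.ι).Presentation :=
  let iso : (M.restrict hU.fromSpec).restrict hU.isoSpec.hom ≅ M.restrict U.ι :=
    ((restrictFunctorComp hU.isoSpec.hom hU.fromSpec).app M).symm ≪≫
      (restrictFunctorCongr hU.isoSpec_hom_fromSpec).app M
  SheafOfModules.Presentation.ofIsIso.{u, u, u} iso.hom (presentationRestrict hU.isoSpec.hom P)

/-- a presentation of a module `N` on `Spec R` which is the tilde of its global sections -/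
noncomputable def presentationOfIsIsoFromTildeΓ {R : CommRingCat.{u}} (N : (Spec (.of R)).Modules)
    (hN : IsIso N.fromTildeΓ) : N.Presentation :=
  let P0 : (tilde ((modulesSpecToSheaf.obj N).presheaf.obj (.op ⊤))).Presentation :=
    presentationTilde.{u} _ .univ (by simp) _ (Submodule.span_eq _)
  @SheafOfModules.Presentation.ofIsIso.{u, u, u} _ _ _ _ _ _ _ _ N.fromTildeΓ hN P0

/-- If for the members `U i` of an affine open cover the restrictions of `M` to `Spec Γ(X, U i)` are localizing
(sections over `D(r)` are the localization at `r` of the global sections), then `M` is quasi-coherent. -/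
theorem isQuasicoherent_of_isLocalizing {ι : Type u} (U : ι → X.Opens) (hcov : IsOpenCover U)
    (hU : ∀ i, IsAffineOpen (U i))
    (h : ∀ i, IsLocalizing (modulesSpecToSheaf.obj (M.restrict (hU i).fromSpec))) : M.IsQuasicoherent := by
  refine isQuasicoherent_of_presentation_cover M U hcov fun i => ?_
  have hiso : IsIso (M.restrict (hU i).fromSpec).fromTildeΓ := (isIso_fromTildeΓ_iff_isLocalizing _).2 (h i)
  exact presentationOfFromSpec M (hU i) (presentationOfIsIsoFromTildeΓ _ hiso)


/-- The localization property of `M` on the affine open `U`, in unbundled form: every section over `D(r)` is a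
section over `U` divided by a power of `r`, and a section over `U` vanishing on `D(r)` is killed by a power of `r`. -/
structure IsLocOn (U : X.Opens) : Prop where
  surj : ∀ (r : Γ(X, U)) (y : Γ(M, X.basicOpen r)), ∃ (n : ℕ) (x : Γ(M, U)),
    ((resO (X.basicOpen_le r) r) ^ n • y : Γ(M, X.basicOpen r)) = res M (X.basicOpen_le r) x
  inj : ∀ (r : Γ(X, U)) (x : Γ(M, U)), res M (X.basicOpen_le r) x = 0 → ∃ n : ℕ, (r ^ n • x : Γ(M, U)) = 0

theorem isLocOn_of_isQuasicoherent [M.IsQuasicoherent] {U : X.Opens} (hU : IsAffineOpen U) : IsLocOn M U where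
  surj r y := by
    obtain ⟨n, x, hx⟩ := exists_pow_smul_eq_res M hU r y
    refine ⟨n, x, ?_⟩
    rw [← resO_pow]
    exact hx
  inj r x hx := exists_pow_smul_eq_zero M hU r x hx

theorem isLocalizing_of_isLocOn {U : X.Opens} (hU : IsAffineOpen U) (h : IsLocOn M U) :
    IsLocalizing (modulesSpecToSheaf.obj (M.restrict hU.fromSpec)) := by
  intro r
  have e₁ : hU.fromSpec ''ᵁ ⊤ = U := by rw [Scheme.Hom.image_top_eq_opensRange, hU.opensRange_fromSpec]
  have e₂ : hU.fromSpec ''ᵁ (PrimeSpectrum.basicOpen r) = X.basicOpen r := hU.fromSpec_image_basicOpen r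
  have h12 : hU.fromSpec ''ᵁ (PrimeSpectrum.basicOpen r) ≤ hU.fromSpec ''ᵁ ⊤ := hU.fromSpec.image_mono le_top
  -- transported forms of the two properties
  have keyS : ∀ (W₁ W₂ : X.Opens) (e₁ : W₁ = U) (e₂ : W₂ = X.basicOpen r) (h12 : W₂ ≤ W₁) (h2 : W₂ ≤ U),
      ∀ y : Γ(M, W₂), ∃ (n : ℕ) (x : Γ(M, W₁)), ((resO h2 (r ^ n)) • y : Γ(M, W₂)) = res M h12 x := by
    intro W₁ W₂ e₁ e₂ h12 h2 y
    subst e₁ e₂
    obtain ⟨n, x, hx⟩ := h.surj r y
    refine ⟨n, x, ?_⟩
    rw [resO_pow]
    exact hx
  have keyI : ∀ (W₁ W₂ : X.Opens) (e₁ : W₁ = U) (e₂ : W₂ = X.basicOpen r) (h12 : W₂ ≤ W₁) (h1 : W₁ ≤ U),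
      ∀ x : Γ(M, W₁), res M h12 x = 0 → ∃ (n : ℕ), ((resO h1 (r ^ n)) • x : Γ(M, W₁)) = 0 := by
    intro W₁ W₂ e₁ e₂ h12 h1 x hx
    subst e₁ e₂
    obtain ⟨n, hn⟩ := h.inj r x hx
    refine ⟨n, ?_⟩
    have : resO h1 (r ^ n) = r ^ n := by
      unfold resO
      have : (homOfLE h1).op = 𝟙 (op W₁) := rfl
      rw [this, X.presheaf.map_id]
      rfl
    rw [this]
    exact hn
  refine ⟨?_, ?_, ?_⟩
  · rintro ⟨x, n, rfl⟩
    have h0 := Scheme.Modules.isUnit_algebraMap_end_of_le_basicOpen (M := M.restrict hU.fromSpec)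
      (U := PrimeSpectrum.basicOpen r) r le_rfl
    change IsUnit (algebraMap _ _ (r ^ n))
    rw [map_pow]
    exact h0.pow n
  · intro y
    obtain ⟨n, x, hx⟩ := keyS _ _ e₁ e₂ h12 (image_le hU _) y
    refine ⟨⟨x, ⟨r ^ n, n, rfl⟩⟩, ?_⟩
    exact (smul_restrict_eq M hU (PrimeSpectrum.basicOpen r) (image_le hU _) (r ^ n) y).trans hx
  · intro x₁ x₂ hx
    obtain ⟨n, hn⟩ := keyI _ _ e₁ e₂ h12 (image_le hU _)
      ((show Γ(M, hU.fromSpec ''ᵁ ⊤) from x₁) - (show Γ(M, hU.fromSpec ''ᵁ ⊤) from x₂)) (by
        rw [res_sub, sub_eq_zero]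
        exact hx)
    refine ⟨⟨r ^ n, n, rfl⟩, ?_⟩
    have h3 := smul_restrict_eq M hU ⊤ (image_le hU _) (r ^ n)
      ((show Γ(M.restrict hU.fromSpec, ⊤) from x₁) - (show Γ(M.restrict hU.fromSpec, ⊤) from x₂))
    have h4 : (r ^ n • ((show Γ(M.restrict hU.fromSpec, ⊤) from x₁) - (show Γ(M.restrict hU.fromSpec, ⊤) from x₂)) :
        Γ(M.restrict hU.fromSpec, ⊤)) = 0 := h3.trans hn
    rw [smul_sub, sub_eq_zero] at h4
    exact h4

/-- **Criterion for quasi-coherence**: if `M` has the localization property on the members of an affine open cover,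
then `M` is quasi-coherent. -/
theorem isQuasicoherent_of_isLocOn {ι : Type u} (U : ι → X.Opens) (hcov : IsOpenCover U)
    (hU : ∀ i, IsAffineOpen (U i)) (h : ∀ i, IsLocOn M (U i)) : M.IsQuasicoherent :=
  isQuasicoherent_of_isLocalizing M U hcov hU fun i => isLocalizing_of_isLocOn M (hU i) (h i)

/-- variant with all affine opens -/
theorem isQuasicoherent_of_forall_isLocOn (h : ∀ U : X.affineOpens, IsLocOn M U.1) : M.IsQuasicoherent :=
  isQuasicoherent_of_isLocOn M (fun U : X.affineOpens => U.1) (iSup_affineOpens_eq_top X) (fun U => U.2) h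

end Groth.Agent.Lib.Helper28.QCohLoc
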