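import Mathlib

/-!
# Quasi-coherent modules: sections over a basic open are the localization

For a quasi-coherent module `M` on a scheme `X`, an affine open `U` and `r : Γ(X, U)`:
* `QCohLoc.exists_pow_smul_eq_res`: every section of `M` over `D(r)` becomes, after multiplication by a power of `r`,
  the restriction of a section over `U`;
* `QCohLoc.exists_pow_smul_eq_zero`: a section over `U` vanishing on `D(r)` is killed by a power of `r`.
Derived from Mathlib's `isQuasicoherent_iff_isIso_fromTildeΓ` and `isIso_fromTildeΓ_iff_isLocalizing`.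
-/

universe u
open CategoryTheory CategoryTheory.Limits AlgebraicGeometry Opposite TopologicalSpace

namespace Groth.Agent.Lib.Helper28.QCohLoc

variable {X : Scheme.{u}}

/-- `fromSpec.appLE` to an open `V` of `Spec Γ(X,U)` is `ΓSpecIso.inv` followed by restriction. -/
theorem fromSpec_appLE {U : X.Opens} (hU : IsAffineOpen U) (V : (Spec Γ(X, U)).Opens)
    (e : V ≤ hU.fromSpec ⁻¹ᵁ U) :
    hU.fromSpec.appLE U V e =
      (Scheme.ΓSpecIso Γ(X, U)).inv ≫ (Spec Γ(X, U)).presheaf.map (homOfLE le_top).op := by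
  rw [Scheme.Hom.appLE, hU.fromSpec_app_self, Category.assoc, ← Functor.map_comp]
  rfl

theorem appIso_inv_res {U : X.Opens} (hU : IsAffineOpen U) (V : (Spec Γ(X, U)).Opens)
    (h : hU.fromSpec ''ᵁ V ≤ U) (r : Γ(X, U)) :
    (hU.fromSpec.appIso V).inv
        ((Spec Γ(X, U)).presheaf.map (homOfLE (le_top : V ≤ ⊤)).op ((Scheme.ΓSpecIso Γ(X, U)).inv r)) =
      X.presheaf.map (homOfLE h).op r := by
  have e : V ≤ hU.fromSpec ⁻¹ᵁ U := by rw [hU.fromSpec_preimage_self]; exact le_top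
  have h1 := Scheme.Hom.appLE_appIso_inv hU.fromSpec e
  rw [fromSpec_appLE hU V e] at h1
  have h2 := congr_arg (fun φ => φ.hom r) h1
  exact h2


open Scheme.Modules in
theorem isLocalizing_restrict (M : X.Modules) [M.IsQuasicoherent] {U : X.Opens} (hU : IsAffineOpen U) :
    IsLocalizing (modulesSpecToSheaf.obj (M.restrict hU.fromSpec)) := by
  have h1 : (M.restrict hU.fromSpec).IsQuasicoherent := inferInstance
  have h2 := (isQuasicoherent_iff_isIso_fromTildeΓ _).1 h1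
  exact (isIso_fromTildeΓ_iff_isLocalizing _).1 h2

/-- The `Γ(X,U)`-action on sections of the restriction of `M` to `Spec Γ(X,U)` is the action of the restricted
function. -/
theorem smul_restrict_eq (M : X.Modules) {U : X.Opens} (hU : IsAffineOpen U) (V : (Spec Γ(X, U)).Opens)
    (h : hU.fromSpec ''ᵁ V ≤ U) (a : Γ(X, U)) (y : Γ(M.restrict hU.fromSpec, V)) :
    (a • y : Γ(M.restrict hU.fromSpec, V)) =
      ((X.presheaf.map (homOfLE h).op a) • (show Γ(M, hU.fromSpec ''ᵁ V) from y) : Γ(M, hU.fromSpec ''ᵁ V)) := by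
  rw [Scheme.Modules.smul_Spec_def]
  change ((hU.fromSpec.appIso V).inv _) • (show Γ(M, hU.fromSpec ''ᵁ V) from y) = _
  exact congrArg (fun t => (t • (show Γ(M, hU.fromSpec ''ᵁ V) from y) : Γ(M, hU.fromSpec ''ᵁ V)))
    (appIso_inv_res hU V h a)


theorem image_le {U : X.Opens} (hU : IsAffineOpen U) (V : (Spec Γ(X, U)).Opens) :
    hU.fromSpec ''ᵁ V ≤ U := by
  conv_rhs => rw [← hU.opensRange_fromSpec]
  rw [← Scheme.Hom.image_top_eq_opensRange]
  exact hU.fromSpec.image_mono le_top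

theorem exists_pow_smul_eq_res_aux (M : X.Modules) [M.IsQuasicoherent] {U : X.Opens} (hU : IsAffineOpen U)
    (r : Γ(X, U)) (y : Γ(M, hU.fromSpec ''ᵁ (PrimeSpectrum.basicOpen r))) :
    ∃ (n : ℕ) (x : Γ(M, hU.fromSpec ''ᵁ ⊤)),
      ((X.presheaf.map (homOfLE (image_le hU (PrimeSpectrum.basicOpen r))).op (r ^ n)) • y :
          Γ(M, hU.fromSpec ''ᵁ (PrimeSpectrum.basicOpen r))) =
        M.presheaf.map (homOfLE (hU.fromSpec.image_mono
          (le_top : PrimeSpectrum.basicOpen r ≤ ⊤))).op x := by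
  have hloc := isLocalizing_restrict M hU r
  obtain ⟨⟨x, ⟨s, n, hn⟩⟩, hx⟩ := hloc.surj
    (show ((modulesSpecToSheaf.obj (M.restrict hU.fromSpec)).obj.obj (op (PrimeSpectrum.basicOpen r))) from y)
  refine ⟨n, x, ?_⟩
  have h3 := smul_restrict_eq M hU (PrimeSpectrum.basicOpen r) (image_le hU _) (r ^ n) y
  rw [← h3]
  subst hn
  exact hx


theorem exists_pow_smul_eq_zero_aux (M : X.Modules) [M.IsQuasicoherent] {U : X.Opens} (hU : IsAffineOpen U)
    (r : Γ(X, U)) (x : Γ(M, hU.fromSpec ''ᵁ ⊤))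
    (hx : M.presheaf.map (homOfLE (hU.fromSpec.image_mono
          (le_top : PrimeSpectrum.basicOpen r ≤ ⊤))).op x = 0) :
    ∃ (n : ℕ), ((X.presheaf.map (homOfLE (image_le hU ⊤)).op (r ^ n)) • x : Γ(M, hU.fromSpec ''ᵁ ⊤)) = 0 := by
  have hloc := isLocalizing_restrict M hU r
  obtain ⟨⟨s, n, hn⟩, hc⟩ := hloc.exists_of_eq
    (x₁ := (show ((modulesSpecToSheaf.obj (M.restrict hU.fromSpec)).obj.obj (op ⊤)) from x))
    (x₂ := 0) (by rw [map_zero]; exact hx)
  refine ⟨n, ?_⟩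
  have h3 := smul_restrict_eq M hU ⊤ (image_le hU _) (r ^ n) x
  rw [← h3]
  subst hn
  rw [smul_zero] at hc
  exact hc

/-- **Quasi-coherent modules, surjectivity part**: every section over `D(r)` becomes, after multiplication by a power
of `r`, the restriction of a section over the affine open `U`. -/
theorem exists_pow_smul_eq_res (M : X.Modules) [M.IsQuasicoherent] {U : X.Opens} (hU : IsAffineOpen U)
    (r : Γ(X, U)) (y : Γ(M, X.basicOpen r)) :
    ∃ (n : ℕ) (x : Γ(M, U)),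
      ((X.presheaf.map (homOfLE (X.basicOpen_le r)).op (r ^ n)) • y : Γ(M, X.basicOpen r)) =
        M.presheaf.map (homOfLE (X.basicOpen_le r)).op x := by
  have key : ∀ (W₁ W₂ : X.Opens) (e₁ : W₁ = U) (e₂ : W₂ = X.basicOpen r) (h12 : W₂ ≤ W₁) (h2 : W₂ ≤ U),
      (∀ y : Γ(M, W₂), ∃ (n : ℕ) (x : Γ(M, W₁)),
        ((X.presheaf.map (homOfLE h2).op (r ^ n)) • y : Γ(M, W₂)) = M.presheaf.map (homOfLE h12).op x) →
      ∀ y : Γ(M, X.basicOpen r), ∃ (n : ℕ) (x : Γ(M, U)),
      ((X.presheaf.map (homOfLE (X.basicOpen_le r)).op (r ^ n)) • y : Γ(M, X.basicOpen r)) =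
        M.presheaf.map (homOfLE (X.basicOpen_le r)).op x := by
    intro W₁ W₂ e₁ e₂ h12 h2 H
    subst e₁ e₂
    exact H
  refine key _ _ ?_ (hU.fromSpec_image_basicOpen r) _ _ (exists_pow_smul_eq_res_aux M hU r) y
  rw [Scheme.Hom.image_top_eq_opensRange, hU.opensRange_fromSpec]

/-- **Quasi-coherent modules, injectivity part**: a section over the affine open `U` vanishing on `D(r)` is killed by a
power of `r`. -/
theorem exists_pow_smul_eq_zero (M : X.Modules) [M.IsQuasicoherent] {U : X.Opens} (hU : IsAffineOpen U)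
    (r : Γ(X, U)) (x : Γ(M, U)) (hx : M.presheaf.map (homOfLE (X.basicOpen_le r)).op x = 0) :
    ∃ (n : ℕ), (r ^ n • x : Γ(M, U)) = 0 := by
  have key : ∀ (W₁ W₂ : X.Opens) (e₁ : W₁ = U) (e₂ : W₂ = X.basicOpen r) (h12 : W₂ ≤ W₁) (h1 : W₁ ≤ U),
      (∀ x : Γ(M, W₁), M.presheaf.map (homOfLE h12).op x = 0 → ∃ (n : ℕ),
        ((X.presheaf.map (homOfLE h1).op (r ^ n)) • x : Γ(M, W₁)) = 0) →
      ∀ x : Γ(M, U), M.presheaf.map (homOfLE (X.basicOpen_le r)).op x = 0 →
        ∃ (n : ℕ), (r ^ n • x : Γ(M, U)) = 0 := by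
    intro W₁ W₂ e₁ e₂ h12 h1 H x hx
    subst e₁ e₂
    obtain ⟨n, hn⟩ := H x hx
    refine ⟨n, ?_⟩
    have : X.presheaf.map (homOfLE h1).op = 𝟙 _ := X.presheaf.map_id _
    rw [this] at hn
    exact hn
  refine key _ _ ?_ (hU.fromSpec_image_basicOpen r) _ _ (exists_pow_smul_eq_zero_aux M hU r) x hx
  rw [Scheme.Hom.image_top_eq_opensRange, hU.opensRange_fromSpec]

end Groth.Agent.Lib.Helper28.QCohLoc
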