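import Groth.Agent.Lib.Helper28.ModGlueHom

/-!
# Extending a linear map of sections over an affine open to all smaller opens

For an affine open `U`, a module `G₁` which is localizing on `U` (e.g. quasi-coherent) and any module `G₂`, a
`Γ(X, U)`-linear map `ψ : Γ(G₁, U) → Γ(G₂, U)` extends uniquely to a family of maps `Γ(G₁, W) → Γ(G₂, W)`, `W ≤ U`,
compatible with restrictions and linear over the functions.
-/

set_option autoImplicit false
universe u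
open CategoryTheory CategoryTheory.Limits AlgebraicGeometry Opposite TopologicalSpace

namespace Groth.Agent.Lib.Helper28.QCohLoc

variable {X : Scheme.{u}} {G₁ G₂ : X.Modules} {U : X.Opens}

/-- the restriction of `r` to its basic open -/
noncomputable abbrev ur (r : Γ(X, U)) : Γ(X, X.basicOpen r) := resO (X.basicOpen_le r) r

theorem isUnit_ur (r : Γ(X, U)) : IsUnit (ur r) := RingedSpace.isUnit_res_basicOpen _ r

theorem isUnit_resO {V W : X.Opens} (h : W ≤ V) (a : Γ(X, V)) (ha : IsUnit a) : IsUnit (resO h a) :=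
  ha.map _

/-- `z` is the value at `x` of the extension of `ψ` to `W` -/
def IsExt (ψ : Γ(G₁, U) →+ Γ(G₂, U)) (W : X.Opens) (x : Γ(G₁, W)) (z : Γ(G₂, W)) : Prop :=
  ∀ (r : Γ(X, U)) (hr : X.basicOpen r ≤ W) (k : ℕ) (m : Γ(G₁, U)),
    ((ur r) ^ k • res G₁ hr x : Γ(G₁, X.basicOpen r)) = res G₁ (X.basicOpen_le r) m →
    ((ur r) ^ k • res G₂ hr z : Γ(G₂, X.basicOpen r)) = res G₂ (X.basicOpen_le r) (ψ m)

variable (h₁ : IsLocOn G₁ U) (ψ : Γ(G₁, U) →+ Γ(G₂, U))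
  (hsmul : ∀ (a : Γ(X, U)) (x : Γ(G₁, U)), ψ (a • x) = a • ψ x)

include h₁ hsmul in
/-- sections with the same restriction to a basic open have images with the same restriction -/
theorem psi_res_eq (r : Γ(X, U)) (m m' : Γ(G₁, U))
    (h : res G₁ (X.basicOpen_le r) m = res G₁ (X.basicOpen_le r) m') :
    res G₂ (X.basicOpen_le r) (ψ m) = res G₂ (X.basicOpen_le r) (ψ m') := by
  have h0 : res G₁ (X.basicOpen_le r) (m - m') = 0 := by rw [res_sub, h, sub_self]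
  obtain ⟨N, hN⟩ := h₁.inj r (m - m') h0
  have h2 : (r ^ N • (ψ m - ψ m') : Γ(G₂, U)) = 0 := by
    rw [← map_sub, ← hsmul, hN, map_zero]
  have h3 := congrArg (res G₂ (X.basicOpen_le r)) h2
  rw [res_smul, res_zero, resO_pow, res_sub] at h3
  have h4 := ((isUnit_ur r).pow N).smul_eq_zero.1 h3
  exact sub_eq_zero.1 h4

include h₁ hsmul in
theorem isExt_top (x : Γ(G₁, U)) : IsExt ψ U x (ψ x) := by
  intro r hr k m h
  have h1 : res G₁ (X.basicOpen_le r) (r ^ k • x) = res G₁ (X.basicOpen_le r) m := by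
    rw [res_smul, resO_pow]; exact h
  have h2 := psi_res_eq h₁ ψ hsmul r _ _ h1
  rw [hsmul, res_smul, resO_pow] at h2
  exact h2

include h₁ hsmul in
/-- the basic computation on the overlap of two basic opens -/
theorem overlap (r r' : Γ(X, U)) (k k' : ℕ) (m m' : Γ(G₁, U))
    (xV : Γ(G₁, X.basicOpen r ⊓ X.basicOpen r'))
    (h : ((resO (inf_le_left : X.basicOpen r ⊓ X.basicOpen r' ≤ X.basicOpen r) (ur r)) ^ k • xV :
      Γ(G₁, X.basicOpen r ⊓ X.basicOpen r')) = res G₁ (inf_le_left.trans (X.basicOpen_le r)) m)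
    (h' : ((resO (inf_le_right : X.basicOpen r ⊓ X.basicOpen r' ≤ X.basicOpen r') (ur r')) ^ k' • xV :
      Γ(G₁, X.basicOpen r ⊓ X.basicOpen r')) = res G₁ (inf_le_left.trans (X.basicOpen_le r)) m') :
    ((resO (inf_le_right : X.basicOpen r ⊓ X.basicOpen r' ≤ X.basicOpen r') (ur r')) ^ k' •
        res G₂ (inf_le_left.trans (X.basicOpen_le r)) (ψ m) : Γ(G₂, X.basicOpen r ⊓ X.basicOpen r')) =
      (resO (inf_le_left : X.basicOpen r ⊓ X.basicOpen r' ≤ X.basicOpen r) (ur r)) ^ k •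
        res G₂ (inf_le_left.trans (X.basicOpen_le r)) (ψ m') := by
  have hVU : X.basicOpen r ⊓ X.basicOpen r' ≤ U := inf_le_left.trans (X.basicOpen_le r)
  have e1 : resO (inf_le_left : X.basicOpen r ⊓ X.basicOpen r' ≤ X.basicOpen r) (ur r) = resO hVU r :=
    resO_resO _ _ r
  have e2 : resO (inf_le_right : X.basicOpen r ⊓ X.basicOpen r' ≤ X.basicOpen r') (ur r') = resO hVU r' :=
    resO_resO _ _ r'
  rw [e1] at h ⊢
  rw [e2] at h' ⊢
  have hmul : X.basicOpen (r * r') = X.basicOpen r ⊓ X.basicOpen r' := Scheme.basicOpen_mul X r r'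
  have hV : res G₁ hVU (r' ^ k' • m) = res G₁ hVU (r ^ k • m') := by
    rw [res_smul, res_smul, resO_pow, resO_pow, ← h, ← h', smul_comm]
  have hD : res G₁ (X.basicOpen_le (r * r')) (r' ^ k' • m) = res G₁ (X.basicOpen_le (r * r')) (r ^ k • m') := by
    have := congrArg (res G₁ hmul.le) hV
    rwa [res_res, res_res] at this
  have hψ := psi_res_eq h₁ ψ hsmul (r * r') _ _ hD
  have hψV := congrArg (res G₂ hmul.ge) hψ
  rw [res_res, res_res, hsmul, hsmul, res_smul, res_smul, resO_pow, resO_pow] at hψV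
  exact hψV

include h₁ in
/-- every point of `W ≤ U` has a basic open neighbourhood inside `W` on which `x` is a fraction -/
theorem exists_rep (hU : IsAffineOpen U) {W : X.Opens} (hW : W ≤ U) (x : Γ(G₁, W)) (q : X) (hq : q ∈ W) :
    ∃ (r : Γ(X, U)) (hr : X.basicOpen r ≤ W), q ∈ X.basicOpen r ∧ ∃ (k : ℕ) (m : Γ(G₁, U)),
      ((ur r) ^ k • res G₁ hr x : Γ(G₁, X.basicOpen r)) = res G₁ (X.basicOpen_le r) m := by
  obtain ⟨r, hr, hqr⟩ := hU.exists_basicOpen_le (V := W) ⟨q, hq⟩ (hW hq)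
  obtain ⟨k, m, hkm⟩ := h₁.surj r (res G₁ hr x)
  exact ⟨r, hr, hqr, k, m, hkm⟩

include h₁ in
theorem IsExt.unique (hU : IsAffineOpen U) {W : X.Opens} (hW : W ≤ U) {x : Γ(G₁, W)} {z z' : Γ(G₂, W)}
    (h : IsExt ψ W x z) (h' : IsExt ψ W x z') : z = z' := by
  have hpt : ∀ q : W, ∃ (V : X.Opens) (hV : V ≤ W), q.1 ∈ V ∧ res G₂ hV z = res G₂ hV z' := by
    intro q
    obtain ⟨r, hr, hqr, k, m, hkm⟩ := exists_rep h₁ hU hW x q.1 q.2
    refine ⟨X.basicOpen r, hr, hqr, ?_⟩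
    have e := (h r hr k m hkm).trans (h' r hr k m hkm).symm
    exact ((isUnit_ur r).pow k).smul_left_cancel.1 e
  choose V hV hqV hres using hpt
  refine eq_of_locally_eq G₂ V W hV ?_ _ _ hres
  intro q hq
  exact Opens.mem_iSup.mpr ⟨⟨q, hq⟩, hqV ⟨q, hq⟩⟩

include h₁ hsmul in
/-- a section which is locally given by one good representation is the value of the extension -/
theorem isExt_of_locally {W : X.Opens} (x : Γ(G₁, W)) (z : Γ(G₂, W))
    (hloc : ∀ q : X, q ∈ W → ∃ (r : Γ(X, U)) (hr : X.basicOpen r ≤ W), q ∈ X.basicOpen r ∧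
      ∃ (k : ℕ) (m : Γ(G₁, U)),
        ((ur r) ^ k • res G₁ hr x : Γ(G₁, X.basicOpen r)) = res G₁ (X.basicOpen_le r) m ∧
        ((ur r) ^ k • res G₂ hr z : Γ(G₂, X.basicOpen r)) = res G₂ (X.basicOpen_le r) (ψ m)) :
    IsExt ψ W x z := by
  intro r' hr' k' m' hx'
  have hpt : ∀ q : X.basicOpen r', ∃ (V : X.Opens) (hV : V ≤ X.basicOpen r'), q.1 ∈ V ∧
      res G₂ hV ((ur r') ^ k' • res G₂ hr' z : Γ(G₂, X.basicOpen r')) =
        res G₂ hV (res G₂ (X.basicOpen_le r') (ψ m')) := by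
    intro q
    obtain ⟨r, hr, hqr, k, m, hx, hz⟩ := hloc q.1 (hr' q.2)
    refine ⟨X.basicOpen r ⊓ X.basicOpen r', inf_le_right, ⟨hqr, q.2⟩, ?_⟩
    have hVW : X.basicOpen r ⊓ X.basicOpen r' ≤ W := inf_le_left.trans hr
    have hxV := congrArg (res G₁ (inf_le_left : X.basicOpen r ⊓ X.basicOpen r' ≤ X.basicOpen r)) hx
    have hx'V := congrArg (res G₁ (inf_le_right : X.basicOpen r ⊓ X.basicOpen r' ≤ X.basicOpen r')) hx'
    have hzV := congrArg (res G₂ (inf_le_left : X.basicOpen r ⊓ X.basicOpen r' ≤ X.basicOpen r)) hz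
    rw [res_smul, resO_pow, res_res, res_res] at hxV hx'V hzV
    have ov := overlap h₁ ψ hsmul r r' k k' m m' (res G₁ hVW x) hxV hx'V
    rw [res_smul, resO_pow, res_res, res_res]
    have hu : IsUnit ((resO (inf_le_left : X.basicOpen r ⊓ X.basicOpen r' ≤ X.basicOpen r) (ur r)) ^ k) :=
      (isUnit_resO _ _ (isUnit_ur r)).pow k
    apply hu.smul_left_cancel.1
    rw [← ov, ← hzV, smul_comm]
  choose V hV hqV hres using hpt
  refine eq_of_locally_eq G₂ V _ hV ?_ _ _ hres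
  intro q hq
  exact Opens.mem_iSup.mpr ⟨⟨q, hq⟩, hqV ⟨q, hq⟩⟩


include h₁ hsmul in
/-- existence of the value of the extension -/
theorem exists_isExt (hU : IsAffineOpen U) {W : X.Opens} (hW : W ≤ U) (x : Γ(G₁, W)) :
    ∃ z : Γ(G₂, W), IsExt ψ W x z := by
  -- the index set of all representations of `x` on basic opens inside `W`
  let I := {t : Γ(X, U) × ℕ × Γ(G₁, U) // ∃ hr : X.basicOpen t.1 ≤ W,
    ((ur t.1) ^ t.2.1 • res G₁ hr x : Γ(G₁, X.basicOpen t.1)) = res G₁ (X.basicOpen_le t.1) t.2.2}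
  let V : I → X.Opens := fun i => X.basicOpen i.1.1
  have hV : ∀ i : I, V i ≤ W := fun i => i.2.choose
  have hx : ∀ i : I, ((ur i.1.1) ^ i.1.2.1 • res G₁ (hV i) x : Γ(G₁, X.basicOpen i.1.1)) =
      res G₁ (X.basicOpen_le i.1.1) i.1.2.2 := fun i => i.2.choose_spec
  have hcover : W ≤ iSup V := by
    intro q hq
    obtain ⟨r, hr, hqr, k, m, hkm⟩ := exists_rep h₁ hU hW x q hq
    exact Opens.mem_iSup.mpr ⟨⟨⟨r, k, m⟩, hr, hkm⟩, hqr⟩
  let sf : ∀ i : I, Γ(G₂, V i) := fun i =>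
    ((((isUnit_ur i.1.1).pow i.1.2.1).unit⁻¹ : (Γ(X, X.basicOpen i.1.1))ˣ) : Γ(X, X.basicOpen i.1.1)) •
      res G₂ (X.basicOpen_le i.1.1) (ψ i.1.2.2)
  have hsf : ∀ i : I, ((ur i.1.1) ^ i.1.2.1 • sf i : Γ(G₂, X.basicOpen i.1.1)) =
      res G₂ (X.basicOpen_le i.1.1) (ψ i.1.2.2) := by
    intro i
    change ((ur i.1.1) ^ i.1.2.1 • ((((isUnit_ur i.1.1).pow i.1.2.1).unit⁻¹ :
      (Γ(X, X.basicOpen i.1.1))ˣ) : Γ(X, X.basicOpen i.1.1)) •
      res G₂ (X.basicOpen_le i.1.1) (ψ i.1.2.2) : Γ(G₂, X.basicOpen i.1.1)) = _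
    rw [smul_smul, IsUnit.mul_val_inv, one_smul]
  obtain ⟨z, hz⟩ := exists_gluing G₂ V W hV hcover sf (by
    intro i j
    have hxi := congrArg (res G₁ (inf_le_left : V i ⊓ V j ≤ V i)) (hx i)
    have hxj := congrArg (res G₁ (inf_le_right : V i ⊓ V j ≤ V j)) (hx j)
    have hzi := congrArg (res G₂ (inf_le_left : V i ⊓ V j ≤ V i)) (hsf i)
    have hzj := congrArg (res G₂ (inf_le_right : V i ⊓ V j ≤ V j)) (hsf j)
    rw [res_smul, resO_pow, res_res, res_res] at hxi hxj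
    rw [res_smul, resO_pow, res_res] at hzi hzj
    have ov := overlap h₁ ψ hsmul i.1.1 j.1.1 i.1.2.1 j.1.2.1 i.1.2.2 j.1.2.2
      (res G₁ ((inf_le_left : V i ⊓ V j ≤ V i).trans (hV i)) x) hxi hxj
    have hui : IsUnit ((resO (inf_le_left : V i ⊓ V j ≤ V i) (ur i.1.1)) ^ i.1.2.1) :=
      (isUnit_resO _ _ (isUnit_ur i.1.1)).pow _
    have huj : IsUnit ((resO (inf_le_right : V i ⊓ V j ≤ V j) (ur j.1.1)) ^ j.1.2.1) :=
      (isUnit_resO _ _ (isUnit_ur j.1.1)).pow _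
    apply hui.smul_left_cancel.1
    apply huj.smul_left_cancel.1
    rw [hzi, ov, smul_comm, hzj])
  refine ⟨z, isExt_of_locally h₁ ψ hsmul x z ?_⟩
  intro q hq
  obtain ⟨r, hr, hqr, k, m, hkm⟩ := exists_rep h₁ hU hW x q hq
  refine ⟨r, hr, hqr, k, m, hkm, ?_⟩
  have := hz ⟨⟨r, k, m⟩, hr, hkm⟩
  rw [this]
  exact hsf ⟨⟨r, k, m⟩, hr, hkm⟩

/-- the extension of `ψ` to an open `W ≤ U` -/
noncomputable def ext (hU : IsAffineOpen U) {W : X.Opens} (hW : W ≤ U) (x : Γ(G₁, W)) : Γ(G₂, W) :=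
  (exists_isExt h₁ ψ hsmul hU hW x).choose

theorem isExt_ext (hU : IsAffineOpen U) {W : X.Opens} (hW : W ≤ U) (x : Γ(G₁, W)) :
    IsExt ψ W x (ext h₁ ψ hsmul hU hW x) :=
  (exists_isExt h₁ ψ hsmul hU hW x).choose_spec

theorem ext_eq (hU : IsAffineOpen U) {W : X.Opens} (hW : W ≤ U) (x : Γ(G₁, W)) (z : Γ(G₂, W))
    (h : IsExt ψ W x z) : ext h₁ ψ hsmul hU hW x = z :=
  IsExt.unique h₁ ψ hU hW (isExt_ext h₁ ψ hsmul hU hW x) h

theorem ext_top (hU : IsAffineOpen U) (x : Γ(G₁, U)) : ext h₁ ψ hsmul hU le_rfl x = ψ x :=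
  ext_eq h₁ ψ hsmul hU le_rfl x _ (isExt_top h₁ ψ hsmul x)

theorem ext_res (hU : IsAffineOpen U) {W W' : X.Opens} (hW : W ≤ U) (h : W' ≤ W) (x : Γ(G₁, W)) :
    ext h₁ ψ hsmul hU (h.trans hW) (res G₁ h x) = res G₂ h (ext h₁ ψ hsmul hU hW x) := by
  refine ext_eq h₁ ψ hsmul hU _ _ _ ?_
  intro r hr k m hkm
  rw [res_res] at hkm ⊢
  exact isExt_ext h₁ ψ hsmul hU hW x r (hr.trans h) k m hkm

theorem ext_add (hU : IsAffineOpen U) {W : X.Opens} (hW : W ≤ U) (x y : Γ(G₁, W)) :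
    ext h₁ ψ hsmul hU hW (x + y) = ext h₁ ψ hsmul hU hW x + ext h₁ ψ hsmul hU hW y := by
  refine ext_eq h₁ ψ hsmul hU _ _ _ ?_
  refine isExt_of_locally h₁ ψ hsmul _ _ ?_
  intro q hq
  obtain ⟨r, hr, hqr⟩ := hU.exists_basicOpen_le (V := W) ⟨q, hq⟩ (hW hq)
  obtain ⟨k, m, hkm⟩ := h₁.surj r (res G₁ hr x)
  obtain ⟨k', m', hkm'⟩ := h₁.surj r (res G₁ hr y)
  have ex := isExt_ext h₁ ψ hsmul hU hW x r hr k m hkm
  have ey := isExt_ext h₁ ψ hsmul hU hW y r hr k' m' hkm'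
  refine ⟨r, hr, hqr, k + k', r ^ k' • m + r ^ k • m', ?_, ?_⟩
  · rw [res_add, res_add, res_smul, res_smul, resO_pow, resO_pow, ← hkm, ← hkm', smul_add, smul_smul, smul_smul,
      ← pow_add, ← pow_add, add_comm k' k]
  · rw [map_add, hsmul, hsmul, res_add, res_add, res_smul, res_smul, resO_pow, resO_pow, ← ex, ← ey, smul_add,
      smul_smul, smul_smul, ← pow_add, ← pow_add, add_comm k' k]

theorem ext_smul (hU : IsAffineOpen U) {W : X.Opens} (hW : W ≤ U) (a : Γ(X, W)) (x : Γ(G₁, W)) :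
    ext h₁ ψ hsmul hU hW (a • x) = a • ext h₁ ψ hsmul hU hW x := by
  refine ext_eq h₁ ψ hsmul hU _ _ _ ?_
  refine isExt_of_locally h₁ ψ hsmul _ _ ?_
  intro q hq
  obtain ⟨r, hr, hqr⟩ := hU.exists_basicOpen_le (V := W) ⟨q, hq⟩ (hW hq)
  obtain ⟨k, m, hkm⟩ := h₁.surj r (res G₁ hr x)
  have ex := isExt_ext h₁ ψ hsmul hU hW x r hr k m hkm
  have := hU.isLocalization_basicOpen r
  obtain ⟨j, b, hb⟩ := IsLocalization.Away.surj r (resO hr a)
  have hb' : (resO hr a * (ur r) ^ j : Γ(X, X.basicOpen r)) = resO (X.basicOpen_le r) b := hb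
  refine ⟨r, hr, hqr, j + k, b • m, ?_, ?_⟩
  · rw [res_smul, res_smul, ← hkm, ← hb', smul_smul, smul_smul, pow_add]
    congr 1; ring
  · rw [hsmul, res_smul, res_smul, ← ex, ← hb', smul_smul, smul_smul, pow_add]
    congr 1; ring


/-- a natural linear family of maps over the opens inside `W₀ ≤ U` compatible with `ψ` is the extension of `ψ` -/
theorem ext_eq_of_family (hU : IsAffineOpen U) {W₀ : X.Opens} (hW₀ : W₀ ≤ U)
    (θ : ∀ W : X.Opens, W ≤ W₀ → Γ(G₁, W) → Γ(G₂, W))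
    (θ_smul : ∀ (W : X.Opens) (hW : W ≤ W₀) (a : Γ(X, W)) (x : Γ(G₁, W)), θ W hW (a • x) = a • θ W hW x)
    (θ_res : ∀ (W : X.Opens) (hW : W ≤ W₀) (W' : X.Opens) (h : W' ≤ W) (x : Γ(G₁, W)),
      θ W' (h.trans hW) (res G₁ h x) = res G₂ h (θ W hW x))
    (θ_top : ∀ m : Γ(G₁, U), θ W₀ le_rfl (res G₁ hW₀ m) = res G₂ hW₀ (ψ m))
    (W : X.Opens) (hW : W ≤ W₀) (x : Γ(G₁, W)) :
    ext h₁ ψ hsmul hU (hW.trans hW₀) x = θ W hW x := by
  refine ext_eq h₁ ψ hsmul hU _ _ _ ?_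
  intro r hr k m hkm
  rw [← θ_res W hW _ hr x, ← θ_smul, hkm]
  have e1 : res G₁ (X.basicOpen_le r) m = res G₁ (hr.trans hW) (res G₁ hW₀ m) := (res_res G₁ _ _ m).symm
  have e2 : res G₂ (X.basicOpen_le r) (ψ m) = res G₂ (hr.trans hW) (res G₂ hW₀ (ψ m)) := (res_res G₂ _ _ _).symm
  rw [e1, e2, ← θ_top m]
  exact θ_res W₀ le_rfl _ (hr.trans hW) _

end Groth.Agent.Lib.Helper28.QCohLoc
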