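import Groth.Agent.Lib.Helper28.QCohConv
import Groth.Agent.Lib.Helper28.ModAffineExt

/-!
# Modules of finite type: sections over affine opens are finitely generated

* `FinType.surjective_Γ_of_epi`: an epimorphism between quasi-coherent modules on an affine scheme is surjective on
  global sections (through Mathlib's `tildeEquiv`).
* `FinType.exists_affine_cover_finite`: a quasi-coherent module of finite type has finitely generated sections over
  the members of a cover by affine opens.
* `FinType.finite_of_isAffineOpen`: ... and then over every affine open.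
-/

set_option autoImplicit false
universe u
open CategoryTheory CategoryTheory.Limits AlgebraicGeometry Opposite TopologicalSpace
open AlgebraicGeometry.Scheme.Modules

namespace Groth.Agent.Lib.Helper28.FinType

open Groth.Agent.Lib.Helper28.QCohLoc

section affine

variable {R : CommRingCat.{u}}

/-- an epimorphism between quasi-coherent modules on an affine scheme is surjective on global sections -/
theorem surjective_Γ_of_epi {N N' : (Spec R).Modules} [N.IsQuasicoherent] [N'.IsQuasicoherent] (π : N ⟶ N')
    [Epi π] : Function.Surjective (moduleSpecΓFunctor.map π) := by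
  let Q := (SheafOfModules.isQuasicoherent (Spec R).ringCatSheaf).FullSubcategory
  let a : Q := ⟨N, (inferInstance : N.IsQuasicoherent)⟩
  let b : Q := ⟨N', (inferInstance : N'.IsQuasicoherent)⟩
  let πQ : a ⟶ b := ObjectProperty.homMk π
  have : Epi πQ := by
    apply Functor.epi_of_epi_map (ObjectProperty.ι _)
    exact (inferInstance : Epi π)
  have : Epi ((tildeEquiv (R := R)).inverse.map πQ) := inferInstance
  have h : Epi (moduleSpecΓFunctor.map π) := this
  exact (ModuleCat.epi_iff_surjective _).1 h

instance (I : Type u) : (SheafOfModules.free.{u} I : (Spec R).Modules).IsQuasicoherent :=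
  (isQuasicoherent_iff_isIso_fromTildeΓ _).2 inferInstance

theorem finite_Γ_free (I : Type u) [Finite I] :
    Module.Finite R (moduleSpecΓFunctor.obj (SheafOfModules.free.{u} I : (Spec R).Modules)) := by
  let e1 : moduleSpecΓFunctor.obj (SheafOfModules.free.{u} I : (Spec R).Modules) ≅
      moduleSpecΓFunctor.obj (tilde (ModuleCat.of R (I →₀ R))) :=
    moduleSpecΓFunctor.mapIso (tildeFinsupp I).symm
  let e2 : ModuleCat.of R (I →₀ R) ≅ moduleSpecΓFunctor.obj (tilde (ModuleCat.of R (I →₀ R))) :=
    tilde.toTildeΓNatIso.app _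
  exact Module.Finite.equiv (e2 ≪≫ e1.symm).toLinearEquiv

/-- a quasi-coherent module on an affine scheme generated by finitely many sections has finitely generated global
sections -/
theorem finite_Γ_of_generatingSections (N : (Spec R).Modules) [N.IsQuasicoherent] (σ : N.GeneratingSections)
    [σ.IsFiniteType] : Module.Finite R (moduleSpecΓFunctor.obj N) := by
  haveI := finite_Γ_free (R := R) σ.I
  let p : (SheafOfModules.free.{u} σ.I : (Spec R).Modules) ⟶ N := σ.π
  have hp : Epi p := σ.epi
  exact Module.Finite.of_surjective (moduleSpecΓFunctor.map p).hom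
    (@surjective_Γ_of_epi R (SheafOfModules.free.{u} σ.I : (Spec R).Modules) N _ _ p hp)

end affine

set_option backward.isDefEq.respectTransparency false in
theorem exists_isOpenCover_generatingSections {X : Scheme.{u}} (M : X.Modules)
    [SheafOfModules.IsFiniteType.{u} (R := X.ringCatSheaf) M] :
    ∃ (ι : Type u) (U : ι → X.Opens) (σ : ∀ i, (M.restrict (U i).ι).GeneratingSections),
      (∀ i, (σ i).IsFiniteType) ∧ IsOpenCover U ∧ (∀ i, IsAffineOpen (U i)) := by
  obtain ⟨⟨I, W, cov, gens⟩, hfin⟩ := SheafOfModules.IsFiniteType.exists_localGeneratorsData M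
  choose κ hsub heq using fun i ↦ Opens.isBasis_iff_cover.mp X.isBasis_affineOpens (W i)
  let u' : ∀ i : (Σ (i : I), κ i), (i.2.1 : Scheme) ⟶ (W i.1 : Scheme) := fun i =>
    X.homOfLE (U := i.2) (V := W i.1) (by simp [heq, le_sSup])
  let F : ∀ i : (Σ (i : I), κ i), SheafOfModules ((X.ringCatSheaf).over (W i.1)) ⥤ (i.2.1 : Scheme).Modules :=
    fun i => (overEquiv (W i.1)).functor ⋙ restrictFunctor (u' i)
  have iso : ∀ i : (Σ (i : I), κ i), SheafOfModules.overFunctor X.ringCatSheaf _ ⋙ F i ≅ restrictFunctor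
      (Scheme.Opens.ι i.2.1) := fun i => (Functor.associator _ _ _).symm ≪≫
        Functor.isoWhiskerRight (Scheme.Modules.overFunctorEquiv _) _ ≪≫
        (restrictFunctorComp _ _).symm ≪≫ (restrictFunctorCongr (by simp [u']))
  have hpres : ∀ i : (Σ (i : I), κ i), PreservesColimitsOfSize.{u, u} (F i) := fun i => by
    have : PreservesColimitsOfSize.{u, u} (restrictFunctor (u' i)) := inferInstance
    infer_instance
  refine ⟨Σ (i : I), κ i, fun j ↦ j.2, fun i ↦ ?_, ?_, ?_, ?_⟩
  · haveI := hpres i
    exact ((gens i.1).map (F i) (Scheme.Modules.restrictUnitIso _).symm).ofEpi ((iso i).app M).hom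
  · intro i
    have := hpres i
    have := hfin.isFiniteType i.1
    infer_instance
  · rw [Opens.coversTop_iff, IsOpenCover] at cov
    rw [IsOpenCover, iSup_sigma, ← cov]
    refine iSup_congr fun i ↦ ?_
    rw [heq i, sSup_eq_iSup']
  · intro j
    exact hsub _ j.2.2

variable {X : Scheme.{u}} (M : X.Modules)

set_option backward.isDefEq.respectTransparency false in
/-- generating sections of the restriction of `M` to an affine open give generating sections on `Spec` -/
noncomputable def generatingSectionsFromSpec {U : X.Opens} (hU : IsAffineOpen U)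
    (σ : (M.restrict U.ι).GeneratingSections) : (M.restrict hU.fromSpec).GeneratingSections :=
  have : PreservesColimitsOfSize.{u, u} (restrictFunctor hU.isoSpec.inv) := inferInstance
  (σ.map (restrictFunctor hU.isoSpec.inv) (Scheme.Modules.restrictUnitIso _).symm).ofEpi
    ((restrictFunctorComp hU.isoSpec.inv U.ι).app M).inv

set_option backward.isDefEq.respectTransparency false in
instance {U : X.Opens} (hU : IsAffineOpen U) (σ : (M.restrict U.ι).GeneratingSections) [σ.IsFiniteType] :
    (generatingSectionsFromSpec M hU σ).IsFiniteType := by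
  have : PreservesColimitsOfSize.{u, u} (restrictFunctor hU.isoSpec.inv) := inferInstance
  unfold generatingSectionsFromSpec
  infer_instance


/-- the sections over an affine open of a quasi-coherent module whose restriction is generated by finitely many
sections form a finitely generated module -/
theorem finite_of_generatingSections [M.IsQuasicoherent] {U : X.Opens} (hU : IsAffineOpen U)
    (σ : (M.restrict U.ι).GeneratingSections) [σ.IsFiniteType] : Module.Finite Γ(X, U) Γ(M, U) := by
  have h1 : Module.Finite Γ(X, U) (moduleSpecΓFunctor.obj (M.restrict hU.fromSpec)) :=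
    finite_Γ_of_generatingSections (R := Γ(X, U)) (M.restrict hU.fromSpec) (generatingSectionsFromSpec M hU σ)
  have hle : U ≤ hU.fromSpec ''ᵁ ⊤ := by rw [Scheme.Hom.image_top_eq_opensRange, hU.opensRange_fromSpec]
  have hge : hU.fromSpec ''ᵁ ⊤ ≤ U := image_le hU ⊤
  let ℓ : (moduleSpecΓFunctor.obj (M.restrict hU.fromSpec)) →ₗ[Γ(X, U)] Γ(M, U) :=
    { toFun := fun y => res M hle (show Γ(M, hU.fromSpec ''ᵁ ⊤) from y)
      map_add' := fun y y' => res_add M hle _ _
      map_smul' := fun a y => by
        have h3 := smul_restrict_eq M hU ⊤ hge a y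
        have h4 : resO hle (resO hge a) = a := by
          refine (resO_resO hge hle a).trans ?_
          have : (homOfLE (le_refl U)).op = 𝟙 (op U) := rfl
          change X.presheaf.map (homOfLE (le_refl U)).op a = a
          rw [this, X.presheaf.map_id]
          rfl
        refine (congrArg (res M hle) h3).trans ((res_smul M hle _ _).trans ?_)
        rw [h4]
        rfl }
  refine Module.Finite.of_surjective ℓ fun x => ⟨res M hge x, ?_⟩
  change res M hle (res M hge x) = x
  rw [res_res, res_self]


theorem exists_affine_cover_finite [M.IsQuasicoherent] [SheafOfModules.IsFiniteType.{u} (R := X.ringCatSheaf) M] :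
    ∃ (ι : Type u) (U : ι → X.Opens), IsOpenCover U ∧ (∀ i, IsAffineOpen (U i)) ∧
      ∀ i, Module.Finite Γ(X, U i) Γ(M, U i) := by
  obtain ⟨ι, U, σ, hσ, hcov, hU⟩ := exists_isOpenCover_generatingSections M
  refine ⟨ι, U, hcov, hU, fun i => ?_⟩
  haveI := hσ i
  exact finite_of_generatingSections M (hU i) (σ i)

variable {M}

/-- the restriction of a combination of `G` is a combination of the restrictions -/
theorem res_mem_span {U V : X.Opens} (h : V ≤ U) (G : Set Γ(M, U)) (m : Γ(M, U))
    (hm : m ∈ Submodule.span Γ(X, U) G) :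
    res M h m ∈ Submodule.span Γ(X, V) ((fun g => res M h g) '' G) := by
  induction hm using Submodule.span_induction with
  | mem g hg => exact Submodule.subset_span ⟨g, hg, rfl⟩
  | zero => rw [res_zero]; exact zero_mem _
  | add a b _ _ ha hb => rw [res_add]; exact add_mem ha hb
  | smul c a _ ha => rw [res_smul]; exact Submodule.smul_mem _ _ ha

/-- a combination over `D(r)` of restrictions of elements of `G` is, up to a power of `r`, the restriction of a
combination of `G` -/
theorem exists_pow_smul_eq_res_mem {U : X.Opens} (hU : IsAffineOpen U) (r : Γ(X, U)) (G : Set Γ(M, U))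
    (z : Γ(M, X.basicOpen r))
    (hz : z ∈ Submodule.span Γ(X, X.basicOpen r) ((fun g => res M (X.basicOpen_le r) g) '' G)) :
    ∃ (n : ℕ) (m : Γ(M, U)), m ∈ Submodule.span Γ(X, U) G ∧
      ((ur r) ^ n • z : Γ(M, X.basicOpen r)) = res M (X.basicOpen_le r) m := by
  induction hz using Submodule.span_induction with
  | mem z hz =>
    obtain ⟨g, hg, rfl⟩ := hz
    exact ⟨0, g, Submodule.subset_span hg, by rw [pow_zero, one_smul]⟩
  | zero => exact ⟨0, 0, zero_mem _, by rw [smul_zero, res_zero]⟩
  | add a b _ _ ha hb =>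
    obtain ⟨n, m, hm, e⟩ := ha
    obtain ⟨n', m', hm', e'⟩ := hb
    refine ⟨n + n', r ^ n' • m + r ^ n • m', add_mem (Submodule.smul_mem _ _ hm) (Submodule.smul_mem _ _ hm'), ?_⟩
    rw [res_add, res_smul, res_smul, resO_pow, resO_pow, ← e, ← e', smul_add, smul_smul, smul_smul, ← pow_add,
      ← pow_add, add_comm n' n]
  | smul c a _ ha =>
    obtain ⟨n, m, hm, e⟩ := ha
    have := hU.isLocalization_basicOpen r
    obtain ⟨j, b, hb⟩ := IsLocalization.Away.surj r c
    have hb' : (c * (ur r) ^ j : Γ(X, X.basicOpen r)) = resO (X.basicOpen_le r) b := hb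
    refine ⟨j + n, b • m, Submodule.smul_mem _ _ hm, ?_⟩
    rw [res_smul, ← e, ← hb', smul_smul, smul_smul, pow_add]
    congr 1; ring

/-- finite generation passes to basic opens -/
theorem finite_basicOpen {U : X.Opens} (h : IsLocOn M U) (r : Γ(X, U))
    (hfin : Module.Finite Γ(X, U) Γ(M, U)) : Module.Finite Γ(X, X.basicOpen r) Γ(M, X.basicOpen r) := by
  classical
  obtain ⟨G, hG⟩ := hfin
  refine ⟨G.image (fun g => res M (X.basicOpen_le r) g), ?_⟩
  rw [Finset.coe_image, eq_top_iff]
  intro τ _
  obtain ⟨k, m, hkm⟩ := h.surj r τ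
  have hm : res M (X.basicOpen_le r) m ∈
      Submodule.span Γ(X, X.basicOpen r) ((fun g => res M (X.basicOpen_le r) g) '' (G : Set Γ(M, U))) :=
    res_mem_span _ _ m (by rw [hG]; trivial)
  have hτ : τ = ((((isUnit_ur r).pow k).unit⁻¹ : (Γ(X, X.basicOpen r))ˣ) : Γ(X, X.basicOpen r)) •
      res M (X.basicOpen_le r) m := by
    rw [← hkm, smul_smul, IsUnit.val_inv_mul, one_smul]
  rw [hτ]
  exact Submodule.smul_mem _ _ hm

theorem finite_congr {V V' : X.Opens} (e : V = V') (h : Module.Finite Γ(X, V) Γ(M, V)) :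
    Module.Finite Γ(X, V') Γ(M, V') := by
  subst e; exact h

/-- finite generation over an affine open is local on the open -/
theorem finite_of_locally {U : X.Opens} (hU : IsAffineOpen U) (h : IsLocOn M U)
    (hloc : ∀ x : X, x ∈ U → ∃ r : Γ(X, U), x ∈ X.basicOpen r ∧
      Module.Finite Γ(X, X.basicOpen r) Γ(M, X.basicOpen r)) : Module.Finite Γ(X, U) Γ(M, U) := by
  classical
  let S : Set Γ(X, U) := {r | Module.Finite Γ(X, X.basicOpen r) Γ(M, X.basicOpen r)}
  have hS : Ideal.span S = ⊤ := by
    rw [← hU.self_le_iSup_basicOpen_iff]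
    intro x hx
    obtain ⟨r, hxr, hr⟩ := hloc x hx
    exact Opens.mem_iSup.mpr ⟨⟨r, hr⟩, hxr⟩
  obtain ⟨S', hS'S, hS'⟩ := (Ideal.span_eq_top_iff_finite _).1 hS
  -- generators over each `D(r)`, lifted to `U`
  have hlift : ∀ r : S', ∃ G : Finset Γ(M, U),
      Submodule.span Γ(X, X.basicOpen r.1) ((fun g => res M (X.basicOpen_le r.1) g) '' (G : Set Γ(M, U))) = ⊤ := by
    intro r
    obtain ⟨t, ht⟩ := (hS'S r.2 : Module.Finite Γ(X, X.basicOpen r.1) Γ(M, X.basicOpen r.1))
    have hτ : ∀ τ : Γ(M, X.basicOpen r.1), ∃ (m : Γ(M, U)), ∃ k : ℕ,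
        ((ur r.1) ^ k • τ : Γ(M, X.basicOpen r.1)) = res M (X.basicOpen_le r.1) m := by
      intro τ
      obtain ⟨k, m, hkm⟩ := h.surj r.1 τ
      exact ⟨m, k, hkm⟩
    choose mτ kτ hmτ using hτ
    refine ⟨t.image mτ, ?_⟩
    rw [eq_top_iff, ← ht, Submodule.span_le]
    intro τ hτt
    have h1 : res M (X.basicOpen_le r.1) (mτ τ) ∈
        Submodule.span Γ(X, X.basicOpen r.1)
          ((fun g => res M (X.basicOpen_le r.1) g) '' ((t.image mτ : Finset Γ(M, U)) : Set Γ(M, U))) :=
      Submodule.subset_span ⟨mτ τ, Finset.mem_coe.2 (Finset.mem_image_of_mem _ hτt), rfl⟩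
    have h2 : τ = ((((isUnit_ur r.1).pow (kτ τ)).unit⁻¹ : (Γ(X, X.basicOpen r.1))ˣ) : Γ(X, X.basicOpen r.1)) •
        res M (X.basicOpen_le r.1) (mτ τ) := by
      rw [← hmτ τ, smul_smul, IsUnit.val_inv_mul, one_smul]
    rw [SetLike.mem_coe, h2]
    exact Submodule.smul_mem _ _ h1
  choose G hG using hlift
  refine ⟨S'.attach.biUnion G, ?_⟩
  rw [eq_top_iff]
  intro y _
  refine Submodule.mem_of_span_eq_top_of_smul_pow_mem _ (S' : Set Γ(X, U)) hS' y ?_
  intro r
  have hy : res M (X.basicOpen_le r.1) y ∈
      Submodule.span Γ(X, X.basicOpen r.1) ((fun g => res M (X.basicOpen_le r.1) g) '' (G r : Set Γ(M, U))) := by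
    rw [hG r]; trivial
  obtain ⟨n, m, hm, e⟩ := exists_pow_smul_eq_res_mem hU r.1 (G r : Set Γ(M, U)) _ hy
  have h0 : res M (X.basicOpen_le r.1) (r.1 ^ n • y - m) = 0 := by
    rw [res_sub, res_smul, resO_pow, e, sub_self]
  obtain ⟨N, hN⟩ := h.inj r.1 _ h0
  refine ⟨N + n, ?_⟩
  rw [smul_sub, sub_eq_zero, smul_smul, ← pow_add] at hN
  rw [hN]
  refine Submodule.smul_mem _ _ (Submodule.span_mono ?_ hm)
  intro g hg
  exact Finset.mem_coe.2 (Finset.mem_biUnion.2 ⟨r, Finset.mem_attach _ _, hg⟩)

variable (M)

/-- **The sections of a quasi-coherent module of finite type over an affine open are finitely generated.** -/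
theorem finite_of_isAffineOpen [M.IsQuasicoherent] [SheafOfModules.IsFiniteType.{u} (R := X.ringCatSheaf) M]
    {U : X.Opens} (hU : IsAffineOpen U) : Module.Finite Γ(X, U) Γ(M, U) := by
  obtain ⟨ι, W, hcov, hW, hfin⟩ := exists_affine_cover_finite M
  refine finite_of_locally hU (isLocOn_of_isQuasicoherent M hU) ?_
  intro x hx
  have hxW : x ∈ ⨆ i, W i := by rw [hcov.iSup_eq_top]; trivial
  obtain ⟨i, hi⟩ := Opens.mem_iSup.mp hxW
  obtain ⟨f, g, hfg, hxf⟩ := exists_basicOpen_le_affine_inter hU (hW i) x ⟨hx, hi⟩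
  refine ⟨f, hxf, finite_congr hfg.symm ?_⟩
  exact finite_basicOpen (isLocOn_of_isQuasicoherent M (hW i)) g (hfin i)

end Groth.Agent.Lib.Helper28.FinType
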