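import Groth.Agent.Lib.Helper28.QCohConv

/-!
# Direct images of quasi-coherent modules along quasi-compact quasi-separated morphisms
-/

universe u
open CategoryTheory CategoryTheory.Limits AlgebraicGeometry Opposite TopologicalSpace

namespace Groth.Agent.Lib.Helper28.QCohLoc

variable {X Y : Scheme.{u}} (f : X ⟶ Y) (F : X.Modules)

theorem pushforward_smul (W : Y.Opens) (a : Γ(Y, W)) (x : Γ(F, f ⁻¹ᵁ W)) :
    ((a • (show Γ((Scheme.Modules.pushforward f).obj F, W) from x) :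
      Γ((Scheme.Modules.pushforward f).obj F, W))) =
      (show Γ((Scheme.Modules.pushforward f).obj F, W) from ((f.app W a) • x : Γ(F, f ⁻¹ᵁ W))) := rfl

theorem pushforward_res {W W' : Y.Opens} (h : W' ≤ W) (x : Γ(F, f ⁻¹ᵁ W)) :
    res ((Scheme.Modules.pushforward f).obj F) h (show Γ((Scheme.Modules.pushforward f).obj F, W) from x) =
      (show Γ((Scheme.Modules.pushforward f).obj F, W') from res F (f.preimage_mono h) x) := rfl


theorem app_resO {V W : Y.Opens} (h : W ≤ V) (r : Γ(Y, V)) :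
    f.app W (resO h r) = resO (f.preimage_mono h) (f.app V r) := by
  have := congr_arg (fun φ => φ.hom r) (f.naturality (homOfLE h).op)
  exact this

theorem isLocOn_pushforward [QuasiCompact f] [QuasiSeparated f] [F.IsQuasicoherent] {V : Y.Opens}
    (hV : IsAffineOpen V) : IsLocOn ((Scheme.Modules.pushforward f).obj F) V := by
  have hc : IsCompact ((f ⁻¹ᵁ V : X.Opens) : Set X) := f.isCompact_preimage hV.isCompact
  have hqs : IsQuasiSeparated ((f ⁻¹ᵁ V : X.Opens) : Set X) := f.isQuasiSeparated_preimage hV.isQuasiSeparated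
  refine ⟨fun r y => ?_, fun r x hx => ?_⟩
  · have e : f ⁻¹ᵁ (Y.basicOpen r) = X.basicOpen (f.app V r) := Scheme.preimage_basicOpen f r
    have hW : f ⁻¹ᵁ (Y.basicOpen r) ≤ f ⁻¹ᵁ V := f.preimage_mono (Y.basicOpen_le r)
    have key : ∀ (W : X.Opens) (e : W = X.basicOpen (f.app V r)) (hW : W ≤ f ⁻¹ᵁ V) (y : Γ(F, W)),
        ∃ (n : ℕ) (x : Γ(F, f ⁻¹ᵁ V)), ((resO hW (f.app V r)) ^ n • y : Γ(F, W)) = res F hW x := by
      intro W e hW y
      subst e
      obtain ⟨n, x, hx⟩ := exists_pow_smul_eq_res_of_qcqs F hc hqs (f.app V r) y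
      exact ⟨n, x, hx.symm⟩
    obtain ⟨n, x, hx⟩ := key _ e hW y
    refine ⟨n, x, ?_⟩
    have h1 : f.app (Y.basicOpen r) ((resO (Y.basicOpen_le r) r) ^ n) = (resO hW (f.app V r)) ^ n := by
      rw [map_pow, app_resO]
    change ((f.app (Y.basicOpen r) ((resO (Y.basicOpen_le r) r) ^ n)) • (show Γ(F, f ⁻¹ᵁ (Y.basicOpen r)) from y) :
      Γ(F, f ⁻¹ᵁ (Y.basicOpen r))) = res F hW x
    rw [h1]
    exact hx
  · have e : f ⁻¹ᵁ (Y.basicOpen r) = X.basicOpen (f.app V r) := Scheme.preimage_basicOpen f r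
    have hW : f ⁻¹ᵁ (Y.basicOpen r) ≤ f ⁻¹ᵁ V := f.preimage_mono (Y.basicOpen_le r)
    have key : ∀ (W : X.Opens) (e : W = X.basicOpen (f.app V r)) (hW : W ≤ f ⁻¹ᵁ V) (x : Γ(F, f ⁻¹ᵁ V)),
        res F hW x = 0 → ∃ (n : ℕ), ((f.app V r) ^ n • x : Γ(F, f ⁻¹ᵁ V)) = 0 := by
      intro W e hW x hx
      subst e
      exact exists_pow_smul_eq_zero_of_isCompact F hc (f.app V r) x hx
    obtain ⟨n, hn⟩ := key _ e hW x hx
    refine ⟨n, ?_⟩
    change ((f.app V (r ^ n)) • (show Γ(F, f ⁻¹ᵁ V) from x) : Γ(F, f ⁻¹ᵁ V)) = 0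
    rw [map_pow]
    exact hn

/-- The direct image of a quasi-coherent module along a quasi-compact quasi-separated morphism is
quasi-coherent. -/
theorem isQuasicoherent_pushforward [QuasiCompact f] [QuasiSeparated f] [F.IsQuasicoherent] :
    ((Scheme.Modules.pushforward f).obj F).IsQuasicoherent :=
  isQuasicoherent_of_forall_isLocOn _ fun V => isLocOn_pushforward f F V.2

end Groth.Agent.Lib.Helper28.QCohLoc
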