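import Groth.Agent.Lib.Helper28.GrModMap

/-!
# Morphisms between modules on a relative Proj given chartwise: mono / epi criteria
-/

set_option autoImplicit false
universe u
open CategoryTheory CategoryTheory.Limits AlgebraicGeometry Opposite TopologicalSpace

namespace Groth.Agent.Lib.Helper28.QCohLoc

variable {X : Scheme.{u}}

theorem mono_of_injective {F G : X.Modules} (φ : F ⟶ G) (h : ∀ U : X.Opens, Function.Injective (φ.app U)) :
    Mono φ := by
  apply Preadditive.mono_of_cancel_zero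
  intro C g hg
  apply Scheme.Modules.hom_ext
  intro U
  ext x
  apply h U
  have : (g ≫ φ).app U x = 0 := by rw [hg]; rfl
  exact this.trans (map_zero _).symm

end Groth.Agent.Lib.Helper28.QCohLoc

namespace Groth.Agent.Lib.Helper28.RelProjQC

open Groth.Agent.Lib.Helper28 Groth.Agent.Lib.Helper28.QCohLoc

variable {Y P : Scheme.{u}} {𝒮 : RelProj.QCGrAlg Y} (p : P ⟶ Y)
    (chart : ∀ (U : Y.Opens) (hU : IsAffineOpen U), (((p ⁻¹ᵁ U : P.Opens) : Scheme.{u}) ≅ Proj (𝒮.deg U hU)))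
    (F G : P.Modules)
    (N N' : ∀ (U : Y.Opens) (hU : IsAffineOpen U), (Proj (𝒮.deg U hU)).Modules)
    (lam : ∀ (U : Y.Opens) (hU : IsAffineOpen U),
      F ⟶ (Scheme.Modules.pushforward (RelProj.emb p chart U hU)).obj (N U hU))
    (lam' : ∀ (U : Y.Opens) (hU : IsAffineOpen U),
      G ⟶ (Scheme.Modules.pushforward (RelProj.emb p chart U hU)).obj (N' U hU))
    (ψ : ∀ (U : Y.Opens) (hU : IsAffineOpen U), N U hU ⟶ N' U hU)
    (ut : F ⟶ G)
    (hut : ∀ (U : Y.Opens) (hU : IsAffineOpen U),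
      ut ≫ lam' U hU = lam U hU ≫ (Scheme.Modules.pushforward (RelProj.emb p chart U hU)).map (ψ U hU))

include hut in
theorem hut_app (U : Y.Opens) (hU : IsAffineOpen U) (W : P.Opens) (x : Γ(F, W)) :
    (lam' U hU).app W (ut.app W x) = (ψ U hU).app ((RelProj.emb p chart U hU) ⁻¹ᵁ W) ((lam U hU).app W x) := by
  have := congrArg (fun φ => Scheme.Modules.Hom.app φ W x) (hut U hU)
  exact this

theorem exists_affine_mem (q : Y) : ∃ i : Y.affineOpens, q ∈ i.1 := by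
  have hy : q ∈ (⨆ V : Y.affineOpens, V.1 : Y.Opens) := by
    rw [iSup_affineOpens_eq_top]; trivial
  exact Opens.mem_iSup.mp hy

include hut in
/-- chartwise injectivity gives a monomorphism -/
theorem mono_of_charts
    (hlam : ∀ (U : Y.Opens) (hU : IsAffineOpen U) (W : P.Opens), W ≤ p ⁻¹ᵁ U →
      Function.Injective ((lam U hU).app W))
    (hψ : ∀ (U : Y.Opens) (hU : IsAffineOpen U) (V : (Proj (𝒮.deg U hU)).Opens),
      Function.Injective ((ψ U hU).app V)) : Mono ut := by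
  refine mono_of_injective ut fun W => ?_
  rw [injective_iff_map_eq_zero]
  intro x hx
  refine eq_of_locally_eq F (fun i : Y.affineOpens => W ⊓ p ⁻¹ᵁ i.1) W (fun i => inf_le_left) ?_ x 0 fun i => ?_
  · intro q hq
    obtain ⟨V, hV⟩ := exists_affine_mem (p.base q)
    exact Opens.mem_iSup.mpr ⟨V, ⟨hq, hV⟩⟩
  · rw [res_zero]
    apply hlam i.1 i.2 _ inf_le_right
    apply hψ i.1 i.2
    rw [← hut_app p chart F G N N' lam lam' ψ ut hut, app_res, hx, res_zero, map_zero, map_zero]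
    exact (map_zero _).symm

include hut in
/-- chartwise local surjectivity gives an epimorphism -/
theorem epi_of_charts
    (hlam : ∀ (U : Y.Opens) (hU : IsAffineOpen U) (W : P.Opens), W ≤ p ⁻¹ᵁ U →
      Function.Surjective ((lam U hU).app W))
    (hlam' : ∀ (U : Y.Opens) (hU : IsAffineOpen U) (W : P.Opens), W ≤ p ⁻¹ᵁ U →
      Function.Injective ((lam' U hU).app W))
    (hψ : ∀ (U : Y.Opens) (hU : IsAffineOpen U) (V : (Proj (𝒮.deg U hU)).Opens) (t' : Γ(N' U hU, V))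
      (q : Proj (𝒮.deg U hU)), q ∈ V → ∃ (W₂ : (Proj (𝒮.deg U hU)).Opens) (hW₂ : W₂ ≤ V), q ∈ W₂ ∧
        ∃ t : Γ(N U hU, W₂), (ψ U hU).app W₂ t = res (N' U hU) hW₂ t') : Epi ut := by
  refine epi_of_locally_in_range ut fun W x pt hpt => ?_
  obtain ⟨i, hi⟩ := exists_affine_mem (p.base pt)
  obtain ⟨U, hU⟩ := i
  have hptU : pt ∈ (RelProj.emb p chart U hU).opensRange := by rw [opensRange_emb]; exact hi
  obtain ⟨q, rfl⟩ := hptU
  have hW1 : W ⊓ p ⁻¹ᵁ U ≤ W := inf_le_left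
  obtain ⟨W₂, hW₂, hqW₂, t, ht⟩ := hψ U hU ((RelProj.emb p chart U hU) ⁻¹ᵁ (W ⊓ p ⁻¹ᵁ U))
    ((lam' U hU).app (W ⊓ p ⁻¹ᵁ U) (res G hW1 x)) q ⟨hpt, hi⟩
  have hVle : (RelProj.emb p chart U hU) ''ᵁ W₂ ≤ W ⊓ p ⁻¹ᵁ U := by
    rintro _ ⟨z, hz, rfl⟩
    exact hW₂ hz
  have hpre : (RelProj.emb p chart U hU) ⁻¹ᵁ ((RelProj.emb p chart U hU) ''ᵁ W₂) ≤ W₂ :=
    (Scheme.Hom.preimage_image_eq _ _).le
  obtain ⟨y, hy⟩ := hlam U hU _ (hVle.trans inf_le_right) (res (N U hU) hpre t)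
  refine ⟨(RelProj.emb p chart U hU) ''ᵁ W₂, hVle.trans hW1, ⟨q, hqW₂, rfl⟩, y, ?_⟩
  apply hlam' U hU _ (hVle.trans inf_le_right)
  have e1 : (lam' U hU).app _ (res G (hVle.trans hW1) x) =
      res (N' U hU) (hpre.trans hW₂) ((lam' U hU).app (W ⊓ p ⁻¹ᵁ U) (res G hW1 x)) := by
    rw [← res_res G hW1 hVle x]
    exact app_res (lam' U hU) hVle (res G hW1 x)
  rw [e1, hut_app p chart F G N N' lam lam' ψ ut hut, hy, app_res, ht, res_res]

end Groth.Agent.Lib.Helper28.RelProjQC
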