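import Groth.Agent.Lib.Helper28.ModIsoCover
import Groth.Agent.Lib.Helper28.QCohPush

/-!
# Isomorphisms of modules are bijective on sections; isomorphisms detected after an affine direct image
-/

universe u
open CategoryTheory AlgebraicGeometry Opposite TopologicalSpace

namespace Groth.Agent.Lib.Helper28.QCohLoc

variable {X : Scheme.{u}}

theorem app_bijective_of_isIso {A B : X.Modules} (Ψ : A ⟶ B) [IsIso Ψ] (W : X.Opens) :
    Function.Bijective (Ψ.app W) := by
  rw [Function.bijective_iff_has_inverse]
  refine ⟨(inv Ψ).app W, fun x => ?_, fun y => ?_⟩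
  · have : (Ψ ≫ inv Ψ).app W x = x := by rw [IsIso.hom_inv_id]; rfl
    exact this
  · have : (inv Ψ ≫ Ψ).app W y = y := by rw [IsIso.inv_hom_id]; rfl
    exact this

/-- a morphism of quasi-coherent modules whose direct image under an affine morphism is an isomorphism is an
isomorphism -/
theorem isIso_of_isIso_pushforward_map {S : Scheme.{u}} (g : X ⟶ S) [IsAffineHom g] {A B : X.Modules}
    [A.IsQuasicoherent] [B.IsQuasicoherent] (v : A ⟶ B) [IsIso ((Scheme.Modules.pushforward g).map v)] :
    IsIso v := by
  refine isIso_of_affine_cover v (fun V : S.affineOpens => g ⁻¹ᵁ V.1) (fun V => V.2.preimage g) ?_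
    (fun V => isLocOn_of_isQuasicoherent A (V.2.preimage g))
    (fun V => isLocOn_of_isQuasicoherent B (V.2.preimage g)) ?_
  · intro x
    have hy : g.base x ∈ (⨆ V : S.affineOpens, V.1 : S.Opens) := by
      rw [iSup_affineOpens_eq_top]; trivial
    obtain ⟨V, hV⟩ := Opens.mem_iSup.mp hy
    exact ⟨V, hV⟩
  · intro V
    exact app_bijective_of_isIso ((Scheme.Modules.pushforward g).map v) V.1

end Groth.Agent.Lib.Helper28.QCohLoc
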