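import Groth.Agent.Lib.Helper28.TensorIso
import Groth.Agent.Lib.Helper28.ModIsoApp
import Groth.Agent.Lib.Helper28.QCohGen
import Groth.Prelude.Def_W4c2derhamsingLim

/-!
# Sections of the tensor product of modules, locally generating families of morphisms

* `tmulSec M N m n`: the section `m ⊗ n` of `M ⊗ N`; every section of `M ⊗ N` is locally a sum of such.
* `LocGen φ`: the family of morphisms `φ a : L ⟶ F` generates `F` locally. Stable under `- ⊗ E`; implies that
  `Sigma.desc φ` is an epimorphism.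
-/

set_option autoImplicit false
universe u
open CategoryTheory CategoryTheory.Limits AlgebraicGeometry Opposite TopologicalSpace MonoidalCategory
noncomputable section

namespace Groth.Agent.Lib.Helper28.TensorGen

open Groth.Agent.Lib.Helper28.QCohLoc

variable {X : Scheme.{u}} (M N : X.Modules)
/-- the canonical map from the presheaf tensor product to the sheaf tensor product -/
def ηT : (show X.PresheafOfModules from CohB1.tensorPre M N) ⟶
    (PresheafOfModules.restrictScalars (𝟙 X.ringCatSheaf.obj)).obj (CohB1.tensorMod M N).val :=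
  (PresheafOfModules.sheafificationAdjunction (𝟙 X.ringCatSheaf.obj)).unit.app _

open TensorProduct in
def ptmul {W : X.Opens} (m : Γ(M, W)) (n : Γ(N, W)) :
    ((show X.PresheafOfModules from CohB1.tensorPre M N).obj (op W) : Type u) :=
  (m ⊗ₜ[Γ(X, W)] n : Γ(M, W) ⊗[Γ(X, W)] Γ(N, W))

def tmulSec {W : X.Opens} (m : Γ(M, W)) (n : Γ(N, W)) : Γ(CohB1.tensorMod M N, W) :=
  (ηT M N).app (op W) (ptmul M N m n)

theorem tmulSec_add_left {W : X.Opens} (m m' : Γ(M, W)) (n : Γ(N, W)) :
    tmulSec M N (m + m') n = tmulSec M N m n + tmulSec M N m' n := by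
  unfold tmulSec ptmul
  rw [TensorProduct.add_tmul]
  exact map_add _ _ _

theorem tmulSec_add_right {W : X.Opens} (m : Γ(M, W)) (n n' : Γ(N, W)) :
    tmulSec M N m (n + n') = tmulSec M N m n + tmulSec M N m n' := by
  unfold tmulSec ptmul
  rw [TensorProduct.tmul_add]
  exact map_add _ _ _

theorem tmulSec_smul_left {W : X.Opens} (a : Γ(X, W)) (m : Γ(M, W)) (n : Γ(N, W)) :
    tmulSec M N (a • m) n = (a • tmulSec M N m n : Γ(CohB1.tensorMod M N, W)) := by
  unfold tmulSec ptmul
  rw [← TensorProduct.smul_tmul']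
  exact map_smul ((ηT M N).app (op W)).hom a _

theorem tmulSec_smul_right {W : X.Opens} (a : Γ(X, W)) (m : Γ(M, W)) (n : Γ(N, W)) :
    tmulSec M N m (a • n) = (a • tmulSec M N m n : Γ(CohB1.tensorMod M N, W)) := by
  rw [← tmulSec_smul_left]
  unfold tmulSec ptmul
  rw [TensorProduct.smul_tmul]

theorem tmulSec_res {W W' : X.Opens} (h : W' ≤ W) (m : Γ(M, W)) (n : Γ(N, W)) :
    res (CohB1.tensorMod M N) h (tmulSec M N m n) = tmulSec M N (res M h m) (res N h n) := by
  have h1 := PresheafOfModules.naturality_apply (ηT M N) (homOfLE h).op (ptmul M N m n)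
  exact h1.symm

theorem exists_ηT_eq {W : X.Opens} (t : Γ(CohB1.tensorMod M N, W)) (pt : X) (hpt : pt ∈ W) :
    ∃ (V : X.Opens) (hV : V ≤ W), pt ∈ V ∧
      ∃ z : ((show X.PresheafOfModules from CohB1.tensorPre M N).obj (op V) : Type u),
        (ηT M N).app (op V) z = res (CohB1.tensorMod M N) hV t := by
  have hls : Presheaf.IsLocallySurjective (Opens.grothendieckTopology X)
      (CategoryTheory.toSheafify (Opens.grothendieckTopology X)
        (show X.PresheafOfModules from CohB1.tensorPre M N).presheaf) := inferInstance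
  have h1 := hls.imageSieve_mem (U := W) t
  rw [Opens.mem_grothendieckTopology] at h1
  obtain ⟨V, i, ⟨z, hz⟩, hptV⟩ := h1 pt hpt
  exact ⟨V, i.le, hptV, z, hz⟩

variable {M} in
theorem tensorModMap_tmulSec {M' : X.Modules} (φ : M ⟶ M') (E : X.Modules) {W : X.Opens}
    (m : Γ(M, W)) (e : Γ(E, W)) :
    (LimSh.tensorModMap φ E).app W (tmulSec M E m e) = tmulSec M' E (φ.app W m) e := by
  have hnat := (PresheafOfModules.sheafificationAdjunction (𝟙 X.ringCatSheaf.obj)).unit.naturality
    (show (CohB1.tensorPre M E : X.PresheafOfModules) ⟶ (CohB1.tensorPre M' E : X.PresheafOfModules) from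
      ((show CohB1.toPMod M ⟶ CohB1.toPMod M' from φ.val) ▷ CohB1.toPMod E))
  have h2 := congrArg (fun ψ => (ψ.app (op W)) (ptmul M E m e)) hnat
  exact h2.symm

theorem tmulSec_zero_left {W : X.Opens} (n : Γ(N, W)) : tmulSec M N (0 : Γ(M, W)) n = 0 := by
  have h := tmulSec_add_left M N (0 : Γ(M, W)) 0 n
  rw [add_zero] at h
  exact left_eq_add.1 h

section LocGen

variable {ι : Type*} {L F : X.Modules}

/-- the application of a morphism to sections, as a linear map -/
def appLin (φ : L ⟶ F) (V : X.Opens) : Γ(L, V) →ₗ[Γ(X, V)] Γ(F, V) where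
  toFun := φ.app V
  map_add' := map_add _
  map_smul' := Scheme.Modules.Hom.app_smul φ

theorem appLin_apply (φ : L ⟶ F) (V : X.Opens) (y : Γ(L, V)) : appLin φ V y = φ.app V y := rfl

/-- the submodule of the sections over `V` generated by the images of the morphisms `φ a` -/
def genRange (φ : ι → (L ⟶ F)) (V : X.Opens) : Submodule Γ(X, V) Γ(F, V) :=
  ⨆ a, LinearMap.range (appLin (φ a) V)

theorem app_mem_genRange (φ : ι → (L ⟶ F)) (V : X.Opens) (a : ι) (y : Γ(L, V)) :
    (φ a).app V y ∈ genRange φ V :=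
  Submodule.mem_iSup_of_mem a ⟨y, rfl⟩

theorem genRange_induction (φ : ι → (L ⟶ F)) (V : X.Opens) {P : Γ(F, V) → Prop}
    (hmem : ∀ (a : ι) (y : Γ(L, V)), P ((φ a).app V y)) (h0 : P 0) (hadd : ∀ x y, P x → P y → P (x + y))
    {x : Γ(F, V)} (hx : x ∈ genRange φ V) : P x := by
  refine Submodule.iSup_induction _ (motive := P) hx ?_ h0 hadd
  rintro a _ ⟨y, rfl⟩
  exact hmem a y

theorem res_mem_genRange (φ : ι → (L ⟶ F)) {V V' : X.Opens} (h : V' ≤ V) {x : Γ(F, V)}
    (hx : x ∈ genRange φ V) : res F h x ∈ genRange φ V' := by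
  refine genRange_induction φ V (P := fun x => res F h x ∈ genRange φ V') ?_ ?_ ?_ hx
  · intro a y
    rw [← app_res]; exact app_mem_genRange φ V' a _
  · rw [res_zero]; exact zero_mem _
  · intro x y hx hy
    rw [res_add]; exact add_mem hx hy

/-- the family `φ` generates `F` locally -/
def LocGen (φ : ι → (L ⟶ F)) : Prop :=
  ∀ (U : X.Opens) (x : Γ(F, U)) (pt : X), pt ∈ U →
    ∃ (V : X.Opens) (hV : V ≤ U), pt ∈ V ∧ res F hV x ∈ genRange φ V

/-- a locally generating family induces an epimorphism from the coproduct -/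
theorem LocGen.epi_desc {k : ℕ} {φ : Fin k → (L ⟶ F)} (h : LocGen φ) :
    Epi (Sigma.desc φ : (∐ fun _ : Fin k => L) ⟶ F) := by
  refine epi_of_locally_in_range _ ?_
  intro U x pt hpt
  obtain ⟨V, hV, hptV, hx⟩ := h U x pt hpt
  refine ⟨V, hV, hptV, ?_⟩
  refine genRange_induction φ V
    (P := fun x => ∃ y : Γ((∐ fun _ : Fin k => L), V), (Sigma.desc φ).app V y = x) ?_ ?_ ?_ hx
  · intro a y
    refine ⟨(Sigma.ι (fun _ : Fin k => L) a).app V y, ?_⟩
    have h1 : (Sigma.desc φ).app V ((Sigma.ι (fun _ : Fin k => L) a).app V y) =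
        (Sigma.ι (fun _ : Fin k => L) a ≫ Sigma.desc φ).app V y := rfl
    rw [h1, Sigma.ι_desc]
  · exact ⟨0, map_zero _⟩
  · rintro x y ⟨x', hx'⟩ ⟨y', hy'⟩
    exact ⟨x' + y', by rw [map_add, hx', hy']⟩

/-- precomposition with an isomorphism -/
theorem LocGen.iso_comp {K : X.Modules} {φ : ι → (L ⟶ F)} (h : LocGen φ) (ψ : K ⟶ L) [IsIso ψ] :
    LocGen (fun a => ψ ≫ φ a) := by
  intro U x pt hpt
  obtain ⟨V, hV, hptV, hx⟩ := h U x pt hpt
  refine ⟨V, hV, hptV, ?_⟩
  refine genRange_induction φ V (P := fun x => x ∈ genRange (fun a => ψ ≫ φ a) V) ?_ ?_ ?_ hx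
  · intro a y
    obtain ⟨c, rfl⟩ := (app_bijective_of_isIso ψ V).2 y
    exact app_mem_genRange (fun a => ψ ≫ φ a) V a c
  · exact zero_mem _
  · intro x y hx hy
    exact add_mem hx hy

theorem tmulSec_mem_genRange (φ : ι → (L ⟶ F)) (E : X.Modules) {V : X.Opens} {m : Γ(F, V)}
    (hm : m ∈ genRange φ V) (e : Γ(E, V)) :
    tmulSec F E m e ∈ genRange (fun a => LimSh.tensorModMap (φ a) E) V := by
  refine genRange_induction φ V
    (P := fun m => tmulSec F E m e ∈ genRange (fun a => LimSh.tensorModMap (φ a) E) V) ?_ ?_ ?_ hm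
  · intro a y
    rw [← tensorModMap_tmulSec]
    exact app_mem_genRange (fun a => LimSh.tensorModMap (φ a) E) V a _
  · rw [tmulSec_zero_left]; exact zero_mem _
  · intro x y hx hy
    rw [tmulSec_add_left]; exact add_mem hx hy

/-- tensoring a locally generating family with a module gives a locally generating family -/
theorem LocGen.tensor {φ : ι → (L ⟶ F)} (h : LocGen φ) (E : X.Modules) :
    LocGen (fun a => LimSh.tensorModMap (φ a) E) := by
  intro U t pt hpt
  obtain ⟨V₁, hV₁, hptV₁, z, hz⟩ := exists_ηT_eq F E t pt hpt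
  suffices hP : ∀ pt' : X, pt' ∈ V₁ → ∃ (V : X.Opens) (hV : V ≤ V₁), pt' ∈ V ∧
      res (CohB1.tensorMod F E) hV ((ηT F E).app (op V₁) z) ∈
        genRange (fun a => LimSh.tensorModMap (φ a) E) V by
    obtain ⟨V, hV, hptV, hmem⟩ := hP pt hptV₁
    refine ⟨V, hV.trans hV₁, hptV, ?_⟩
    rw [hz, res_res] at hmem
    exact hmem
  clear hz hptV₁ hpt pt
  induction z using TensorProduct.induction_on with
  | zero =>
    intro pt' hpt'
    refine ⟨V₁, le_rfl, hpt', ?_⟩
    have h0 : (ηT F E).app (op V₁) 0 = 0 := map_zero ((ηT F E).app (op V₁)).hom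
    have h1 : res (CohB1.tensorMod F E) (le_refl V₁) ((ηT F E).app (op V₁) 0) = 0 :=
      (congrArg (res (CohB1.tensorMod F E) (le_refl V₁)) h0).trans (res_zero _ _)
    exact h1 ▸ zero_mem _
  | tmul m e =>
    intro pt' hpt'
    obtain ⟨V, hV, hptV, hm⟩ := h V₁ m pt' hpt'
    refine ⟨V, hV, hptV, ?_⟩
    have h1 : res (CohB1.tensorMod F E) hV ((ηT F E).app (op V₁) (m ⊗ₜ e)) =
        tmulSec F E (res F hV m) (res E hV e) := tmulSec_res F E hV m e
    rw [h1]
    exact tmulSec_mem_genRange φ E hm _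
  | add z z' hz hz' =>
    intro pt' hpt'
    obtain ⟨V, hV, hptV, hm⟩ := hz pt' hpt'
    obtain ⟨V', hV', hptV', hm'⟩ := hz' pt' hpt'
    refine ⟨V ⊓ V', inf_le_left.trans hV, ⟨hptV, hptV'⟩, ?_⟩
    have h0 : (ηT F E).app (op V₁) (z + z') = (ηT F E).app (op V₁) z + (ηT F E).app (op V₁) z' :=
      map_add ((ηT F E).app (op V₁)).hom z z'
    have h1 : res (CohB1.tensorMod F E) (inf_le_left.trans hV : V ⊓ V' ≤ V₁) ((ηT F E).app (op V₁) (z + z')) =
        res (CohB1.tensorMod F E) (inf_le_left.trans hV : V ⊓ V' ≤ V₁) ((ηT F E).app (op V₁) z) +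
        res (CohB1.tensorMod F E) (inf_le_left.trans hV : V ⊓ V' ≤ V₁) ((ηT F E).app (op V₁) z') :=
      (congrArg (res (CohB1.tensorMod F E) (inf_le_left.trans hV : V ⊓ V' ≤ V₁)) h0).trans (res_add _ _ _ _)
    refine h1 ▸ add_mem ?_ ?_
    · have := res_mem_genRange (fun a => LimSh.tensorModMap (φ a) E) (inf_le_left : V ⊓ V' ≤ V) hm
      rwa [res_res] at this
    · have := res_mem_genRange (fun a => LimSh.tensorModMap (φ a) E) (inf_le_right : V ⊓ V' ≤ V') hm'
      rwa [res_res] at this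

end LocGen

end Groth.Agent.Lib.Helper28.TensorGen
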