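import Groth.Agent.Lib.Helper28.TwistAmple
import Groth.Agent.Lib.Helper28.ModAffineExt

/-!
# The locus where a section generates an invertible module

* `IsGen L U g`: the section `g` over `U` freely generates `L` on every open of `U`.
* `exists_isGen`: an invertible module has local generators.
* `genLocus_inf_eq_basicOpen`: over an open where `L` has a generator `g`, the locus where a section `s = r • g`
  generates is the basic open of `r`.
-/

set_option autoImplicit false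
universe u
open CategoryTheory CategoryTheory.Limits AlgebraicGeometry Opposite TopologicalSpace
noncomputable section

namespace Groth.Agent.Lib.Helper28.GenLocus

open Groth.Agent.Lib.Helper28 Groth.Agent.Lib.Helper28.QCohLoc Groth.Agent.Lib.Helper28.TwistAmple

variable {X : Scheme.{u}}

/-- `g` freely generates `L` over every open of `U` -/
def IsGen (L : X.Modules) (U : X.Opens) (g : Γ(L, U)) : Prop :=
  ∀ (W : X.Opens) (hW : W ≤ U), Function.Bijective (fun c : Γ(X, W) => (c • res L hW g : Γ(L, W)))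

theorem IsGen.res {L : X.Modules} {U : X.Opens} {g : Γ(L, U)} (h : IsGen L U g) {V : X.Opens} (hV : V ≤ U) :
    IsGen L V (res L hV g) := by
  intro W hW
  have := h W (hW.trans hV)
  simp only [res_res]
  exact this

/-- a morphism from the structure sheaf is determined by the image of `1` -/
theorem hom_app_eq_smul {L : X.Modules} (s : Coh.structureModule X ⟶ L) (W : X.Opens) (c : Γ(X, W)) :
    s.app W (show Γ(Coh.structureModule X, W) from c) =
      (c • res L (le_top : W ≤ ⊤) (s.app ⊤ (show Γ(Coh.structureModule X, ⊤) from (1 : Γ(X, ⊤)))) : Γ(L, W)) := by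
  have h1 : (show Γ(Coh.structureModule X, W) from c) =
      (c • (show Γ(Coh.structureModule X, W) from (1 : Γ(X, W))) : Γ(Coh.structureModule X, W)) :=
    (mul_one c).symm
  rw [h1, Scheme.Modules.Hom.app_smul]
  congr 1
  rw [← app_res]
  congr 1
  exact (map_one (X.presheaf.map (homOfLE (le_top : W ≤ ⊤)).op).hom).symm

theorem isIso_restrict_iff {M N : X.Modules} (φ : M ⟶ N) (U : X.Opens) :
    IsIso ((Scheme.Modules.restrictFunctor U.ι).map φ) ↔
      ∀ W : X.Opens, W ≤ U → Function.Bijective (φ.app W) := by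
  constructor
  · intro h W hW
    exact app_bijective_of_isIso_restrict φ U W hW
  · intro h
    exact isIso_restrict_of_bijective_on_basis φ U (fun _ => True)
      (fun V x hx _ => ⟨V, trivial, hx, le_rfl⟩) (fun W hW _ => h W hW)

theorem mem_genLocus_iff {L : X.Modules} (s : Coh.structureModule X ⟶ L) (x : X) :
    x ∈ CohB1.genLocus L s ↔ ∃ U : X.Opens, x ∈ U ∧ ∀ W : X.Opens, W ≤ U → Function.Bijective (s.app W) := by
  unfold CohB1.genLocus
  rw [Opens.mem_sSup]
  constructor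
  · rintro ⟨U, hU, hxU⟩
    exact ⟨U, hxU, (isIso_restrict_iff s U).1 hU⟩
  · rintro ⟨U, hxU, hU⟩
    exact ⟨U, (isIso_restrict_iff s U).2 hU, hxU⟩

theorem le_genLocus {L : X.Modules} (s : Coh.structureModule X ⟶ L) (U : X.Opens)
    (hU : ∀ W : X.Opens, W ≤ U → Function.Bijective (s.app W)) : U ≤ CohB1.genLocus L s :=
  fun x hx => (mem_genLocus_iff s x).2 ⟨U, hx, hU⟩

theorem isUnit_resO_of_le_basicOpen {U W : X.Opens} (r : Γ(X, U)) (hW : W ≤ X.basicOpen r) :
    IsUnit (resO (hW.trans (X.basicOpen_le r)) r) := by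
  have h := isUnit_resO hW (ur r) (isUnit_ur r)
  unfold ur at h
  rwa [resO_resO] at h

theorem le_basicOpen_of_isUnit_resO {U W : X.Opens} (r : Γ(X, U)) (hW : W ≤ U) (h : IsUnit (resO hW r)) :
    W ≤ X.basicOpen r := by
  have h1 := X.basicOpen_of_isUnit h
  have h2 : X.basicOpen (resO hW r) = W ⊓ X.basicOpen r := Scheme.basicOpen_res _ _ _
  rw [h2] at h1
  exact inf_eq_left.1 h1

/-- **the locus where `s = r • g` generates is the basic open of `r`** -/
theorem genLocus_inf_eq_basicOpen {L : X.Modules} (s : Coh.structureModule X ⟶ L) (U : X.Opens) (g : Γ(L, U))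
    (hg : IsGen L U g) (r : Γ(X, U))
    (hr : s.app U (show Γ(Coh.structureModule X, U) from (1 : Γ(X, U))) = (r • g : Γ(L, U))) :
    CohB1.genLocus L s ⊓ U = X.basicOpen r := by
  have hs : ∀ (W : X.Opens) (hW : W ≤ U) (c : Γ(X, W)),
      s.app W (show Γ(Coh.structureModule X, W) from c) = ((c * resO hW r) • res L hW g : Γ(L, W)) := by
    intro W hW c
    have h1 : (show Γ(Coh.structureModule X, W) from c) =
        (c • (show Γ(Coh.structureModule X, W) from (1 : Γ(X, W))) : Γ(Coh.structureModule X, W)) :=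
      (mul_one c).symm
    have h2 : (show Γ(Coh.structureModule X, W) from (1 : Γ(X, W))) =
        res (Coh.structureModule X) hW (show Γ(Coh.structureModule X, U) from (1 : Γ(X, U))) :=
      (map_one (X.presheaf.map (homOfLE hW).op).hom).symm
    have h3 : s.app W (show Γ(Coh.structureModule X, W) from (1 : Γ(X, W))) =
        (resO hW r • res L hW g : Γ(L, W)) := by
      rw [h2, app_res, hr, res_smul]
    calc s.app W (show Γ(Coh.structureModule X, W) from c)
        = s.app W (c • (show Γ(Coh.structureModule X, W) from (1 : Γ(X, W))) :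
            Γ(Coh.structureModule X, W)) := congrArg _ h1
      _ = (c • s.app W (show Γ(Coh.structureModule X, W) from (1 : Γ(X, W))) : Γ(L, W)) :=
          Scheme.Modules.Hom.app_smul s c _
      _ = (c • (resO hW r • res L hW g : Γ(L, W)) : Γ(L, W)) := by rw [h3]
      _ = ((c * resO hW r) • res L hW g : Γ(L, W)) := (mul_smul _ _ _).symm
  apply le_antisymm
  · rintro x ⟨hxG, hxU⟩
    obtain ⟨U', hxU', hU'⟩ := (mem_genLocus_iff s x).1 hxG
    have hW : U' ⊓ U ≤ U := inf_le_right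
    obtain ⟨c0, hc0⟩ := (hU' (U' ⊓ U) inf_le_left).2 (res L hW g)
    let c : Γ(X, U' ⊓ U) := c0
    have h1 : ((c * resO hW r) • res L hW g : Γ(L, U' ⊓ U)) = res L hW g := (hs _ hW c).symm.trans hc0
    have h2 : c * resO hW r = 1 := by
      apply (hg _ hW).1
      show ((c * resO hW r) • res L hW g : Γ(L, U' ⊓ U)) = ((1 : Γ(X, U' ⊓ U)) • res L hW g : Γ(L, U' ⊓ U))
      rw [h1, one_smul]
    have h3 : IsUnit (resO hW r) := IsUnit.of_mul_eq_one c (by rw [mul_comm]; exact h2)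
    exact le_basicOpen_of_isUnit_resO r hW h3 ⟨hxU', hxU⟩
  · refine le_inf ?_ (X.basicOpen_le r)
    refine le_genLocus s _ ?_
    intro W hW
    have hWU : W ≤ U := hW.trans (X.basicOpen_le r)
    have hu : IsUnit (resO hWU r) := isUnit_resO_of_le_basicOpen r hW
    have hfun : (s.app W : Γ(Coh.structureModule X, W) → Γ(L, W)) =
        (fun c : Γ(X, W) => (c • res L hWU g : Γ(L, W))) ∘ (fun c : Γ(X, W) => c * resO hWU r) := by
      funext c
      exact hs W hWU c
    rw [hfun]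
    refine (hg W hWU).comp ?_
    exact ⟨hu.mul_left_injective, fun y => ⟨y * ((hu.unit⁻¹ : (Γ(X, W))ˣ) : Γ(X, W)), by
      show y * ((hu.unit⁻¹ : (Γ(X, W))ˣ) : Γ(X, W)) * resO hWU r = y
      rw [mul_assoc, IsUnit.val_inv_mul, mul_one]⟩⟩

/-- a trivialization gives a generator -/
theorem exists_isGen_of_iso (L : X.Modules) (U₀ : X.Opens)
    (e : L.restrict U₀.ι ≅ Coh.structureModule (↑U₀)) :
    ∃ g : Γ(L, U₀.ι ''ᵁ ⊤), IsGen L (U₀.ι ''ᵁ ⊤) g := by
  let g : Γ(L, U₀.ι ''ᵁ ⊤) :=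
    e.inv.app ⊤ (show Γ(Coh.structureModule (↑U₀), ⊤) from (1 : Γ((↑U₀ : Scheme.{u}), ⊤)))
  refine ⟨g, ?_⟩
  intro W hW
  have hWU : W ≤ U₀ := hW.trans (InvGen.image_le U₀ ⊤)
  have himg : U₀.ι ''ᵁ (U₀.ι ⁻¹ᵁ W) = W := by
    rw [Scheme.Hom.image_preimage_eq_opensRange_inf, Scheme.Opens.opensRange_ι]
    exact inf_eq_right.2 hWU
  suffices h : ∀ (W' : X.Opens) (hW' : W' ≤ U₀.ι ''ᵁ ⊤), W' = U₀.ι ''ᵁ (U₀.ι ⁻¹ᵁ W) →
      Function.Bijective (fun c : Γ(X, W') => (c • res L hW' g : Γ(L, W'))) from h W hW himg.symm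
  rintro W' hW' rfl
  have hb := app_bijective_of_isIso e.inv (U₀.ι ⁻¹ᵁ W)
  have happ : ∀ c : Γ((↑U₀ : Scheme.{u}), U₀.ι ⁻¹ᵁ W),
      e.inv.app (U₀.ι ⁻¹ᵁ W) (show Γ(Coh.structureModule (↑U₀), U₀.ι ⁻¹ᵁ W) from c) =
        ((U₀.ι.appIso (U₀.ι ⁻¹ᵁ W)).inv c • res L hW' g : Γ(L, U₀.ι ''ᵁ (U₀.ι ⁻¹ᵁ W))) := by
    intro c
    exact hom_app_eq_smul e.inv (U₀.ι ⁻¹ᵁ W) c
  have hfun : (e.inv.app (U₀.ι ⁻¹ᵁ W) : Γ(Coh.structureModule (↑U₀), U₀.ι ⁻¹ᵁ W) → _) =
      (fun c : Γ(X, U₀.ι ''ᵁ (U₀.ι ⁻¹ᵁ W)) => (c • res L hW' g : Γ(L, U₀.ι ''ᵁ (U₀.ι ⁻¹ᵁ W)))) ∘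
        (fun c : Γ((↑U₀ : Scheme.{u}), U₀.ι ⁻¹ᵁ W) => (U₀.ι.appIso (U₀.ι ⁻¹ᵁ W)).inv c) := by
    funext c
    exact happ c
  rw [hfun] at hb
  exact (Function.Bijective.of_comp_iff _
    (ConcreteCategory.bijective_of_isIso (U₀.ι.appIso (U₀.ι ⁻¹ᵁ W)).inv)).1 hb

/-- an invertible module has local generators -/
theorem exists_isGen (L : X.Modules) (hL : PicF.IsInvertible L) (x : X) :
    ∃ (U : X.Opens) (g : Γ(L, U)), x ∈ U ∧ IsGen L U g := by
  obtain ⟨U₀, hxU₀, ⟨e⟩⟩ := hL x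
  obtain ⟨g, hg⟩ := exists_isGen_of_iso L U₀ e
  exact ⟨U₀.ι ''ᵁ ⊤, g, ⟨⟨x, hxU₀⟩, trivial, rfl⟩, hg⟩

end Groth.Agent.Lib.Helper28.GenLocus
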