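import Groth.Agent.Lib.Helper28.ModExact

/-!
# Morphisms of `O_X`-modules from local data

`LocalHomData F G`: a downward closed family `B` of opens covering `X`, with additive, linear maps
`φ V : Γ(F, V) → Γ(G, V)` for `V ∈ B`, compatible with restrictions.  Such data glue to a unique morphism `F ⟶ G`.
-/

set_option autoImplicit false
universe u
open CategoryTheory CategoryTheory.Limits AlgebraicGeometry Opposite TopologicalSpace

namespace Groth.Agent.Lib.Helper28.QCohLoc

variable {X : Scheme.{u}}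

/-- local data for a morphism of modules -/
structure LocalHomData (F G : X.Modules) where
  B : X.Opens → Prop
  down : ∀ V V' : X.Opens, V' ≤ V → B V → B V'
  cov : ∀ x : X, ∃ V : X.Opens, B V ∧ x ∈ V
  φ : ∀ V : X.Opens, B V → Γ(F, V) → Γ(G, V)
  add : ∀ (V : X.Opens) (hV : B V) (x y : Γ(F, V)), φ V hV (x + y) = φ V hV x + φ V hV y
  smul : ∀ (V : X.Opens) (hV : B V) (a : Γ(X, V)) (x : Γ(F, V)), φ V hV (a • x) = a • φ V hV x
  nat : ∀ (V : X.Opens) (hV : B V) (V' : X.Opens) (h : V' ≤ V) (x : Γ(F, V)),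
    φ V' (down V V' h hV) (res F h x) = res G h (φ V hV x)

theorem res_add (M : X.Modules) {U V : X.Opens} (h : V ≤ U) (x y : Γ(M, U)) :
    res M h (x + y) = res M h x + res M h y := map_add _ x y

namespace LocalHomData

variable {F G : X.Modules} (D : LocalHomData F G)

theorem exists_glue (W : X.Opens) (x : Γ(F, W)) :
    ∃ z : Γ(G, W), ∀ (V : X.Opens) (hV : D.B V) (h : V ≤ W), res G h z = D.φ V hV (res F h x) := by
  have hcover : W ≤ ⨆ i : {V : X.Opens // D.B V ∧ V ≤ W}, i.1 := by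
    intro q hq
    obtain ⟨V, hV, hqV⟩ := D.cov q
    exact Opens.mem_iSup.mpr ⟨⟨V ⊓ W, D.down V _ inf_le_left hV, inf_le_right⟩, ⟨hqV, hq⟩⟩
  obtain ⟨z, hz⟩ := exists_gluing G (fun i : {V : X.Opens // D.B V ∧ V ≤ W} => i.1) W (fun i => i.2.2) hcover
    (fun i => D.φ i.1 i.2.1 (res F i.2.2 x)) (by
      intro i j
      rw [← D.nat i.1 i.2.1 (i.1 ⊓ j.1) inf_le_left, ← D.nat j.1 j.2.1 (i.1 ⊓ j.1) inf_le_right, res_res, res_res])
  exact ⟨z, fun V hV h => hz ⟨V, hV, h⟩⟩

theorem glue_unique (W : X.Opens) (z z' : Γ(G, W))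
    (h : ∀ (V : X.Opens) (_ : D.B V) (h : V ≤ W), res G h z = res G h z') : z = z' := by
  refine eq_of_locally_eq G (fun i : {V : X.Opens // D.B V ∧ V ≤ W} => i.1) W (fun i => i.2.2) ?_ z z'
    (fun i => h i.1 i.2.1 i.2.2)
  intro q hq
  obtain ⟨V, hV, hqV⟩ := D.cov q
  exact Opens.mem_iSup.mpr ⟨⟨V ⊓ W, D.down V _ inf_le_left hV, inf_le_right⟩, ⟨hqV, hq⟩⟩

/-- the glued map on sections -/
noncomputable def glue (W : X.Opens) (x : Γ(F, W)) : Γ(G, W) := (D.exists_glue W x).choose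

theorem glue_spec (W : X.Opens) (x : Γ(F, W)) (V : X.Opens) (hV : D.B V) (h : V ≤ W) :
    res G h (D.glue W x) = D.φ V hV (res F h x) := (D.exists_glue W x).choose_spec V hV h

theorem glue_eq (W : X.Opens) (x : Γ(F, W)) (z : Γ(G, W))
    (h : ∀ (V : X.Opens) (hV : D.B V) (h : V ≤ W), res G h z = D.φ V hV (res F h x)) : D.glue W x = z :=
  D.glue_unique W _ _ fun V hV hle => (D.glue_spec W x V hV hle).trans (h V hV hle).symm

theorem glue_of_mem (W : X.Opens) (hW : D.B W) (x : Γ(F, W)) : D.glue W x = D.φ W hW x := by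
  refine D.glue_eq W x _ fun V hV h => ?_
  rw [← D.nat W hW V h x]

theorem glue_add (W : X.Opens) (x y : Γ(F, W)) : D.glue W (x + y) = D.glue W x + D.glue W y := by
  refine D.glue_eq W _ _ fun V hV h => ?_
  rw [res_add, res_add, D.add, D.glue_spec, D.glue_spec]

theorem glue_smul (W : X.Opens) (a : Γ(X, W)) (x : Γ(F, W)) : D.glue W (a • x) = a • D.glue W x := by
  refine D.glue_eq W _ _ fun V hV h => ?_
  rw [res_smul, res_smul, D.smul, D.glue_spec]

theorem glue_res {W W' : X.Opens} (h : W' ≤ W) (x : Γ(F, W)) :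
    D.glue W' (res F h x) = res G h (D.glue W x) := by
  refine D.glue_eq W' _ _ fun V hV hle => ?_
  rw [res_res, res_res, D.glue_spec]

/-- the glued morphism -/
noncomputable def hom : F ⟶ G :=
  ⟨PresheafOfModules.homMk
    { app := fun U => AddCommGrpCat.ofHom (AddMonoidHom.mk' (D.glue U.unop) (D.glue_add U.unop))
      naturality := fun U V f => by
        ext x
        exact D.glue_res (leOfHom f.unop) x }
    fun U a x => D.glue_smul U.unop a x⟩

theorem hom_app_eq_glue (W : X.Opens) (x : Γ(F, W)) : D.hom.app W x = D.glue W x := rfl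

theorem hom_app (V : X.Opens) (hV : D.B V) (x : Γ(F, V)) : D.hom.app V x = D.φ V hV x :=
  D.glue_of_mem V hV x

theorem hom_unique (ψ : F ⟶ G) (h : ∀ (V : X.Opens) (hV : D.B V) (x : Γ(F, V)), ψ.app V x = D.φ V hV x) :
    ψ = D.hom := by
  apply Scheme.Modules.hom_ext
  intro W
  ext x
  rw [hom_app_eq_glue]
  refine (D.glue_eq W x _ fun V hV hle => ?_).symm
  rw [← app_res, h V hV]

end LocalHomData

/-- two morphisms agreeing on a covering downward closed family of opens are equal -/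
theorem hom_ext_of_local {F G : X.Modules} (ψ ψ' : F ⟶ G) (B : X.Opens → Prop)
    (down : ∀ V V' : X.Opens, V' ≤ V → B V → B V')
    (cov : ∀ x : X, ∃ V : X.Opens, B V ∧ x ∈ V)
    (h : ∀ (V : X.Opens), B V → ∀ x : Γ(F, V), ψ.app V x = ψ'.app V x) : ψ = ψ' := by
  apply Scheme.Modules.hom_ext
  intro W
  ext x
  refine eq_of_locally_eq G (fun i : {V : X.Opens // B V} => i.1 ⊓ W) W (fun i => inf_le_right) ?_ _ _ fun i => ?_
  · intro q hq
    obtain ⟨V, hV, hqV⟩ := cov q
    exact Opens.mem_iSup.mpr ⟨⟨V, hV⟩, ⟨hqV, hq⟩⟩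
  · rw [← app_res, ← app_res]
    exact h _ (down i.1 _ inf_le_left i.2) _

end Groth.Agent.Lib.Helper28.QCohLoc
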