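import Groth.Agent.Lib.Helper28.InvTensor
import Groth.Agent.Lib.Helper28.ModGlueHom

/-!
# Coefficients with respect to a local generator; isomorphisms of modules from matching local generators

* `IsGen.coef hg hV x`: the unique function `c` with `x = c • g|_V`.
* `exists_iso_of_cocycle`: two modules with local generators `g i`, `h i` over a common open cover whose transition
  functions agree are isomorphic, by an isomorphism carrying `g i` to `h i`.
-/

set_option autoImplicit false
universe u
open CategoryTheory CategoryTheory.Limits AlgebraicGeometry Opposite TopologicalSpace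
noncomputable section

namespace Groth.Agent.Lib.Helper28.GenLocus

open Groth.Agent.Lib.Helper28 Groth.Agent.Lib.Helper28.QCohLoc

variable {X : Scheme.{u}}

section Coef

variable {L : X.Modules} {U : X.Opens} {g : Γ(L, U)} (hg : IsGen L U g)

/-- the coefficient of a section with respect to a generator -/
def IsGen.coef {V : X.Opens} (hV : V ≤ U) (x : Γ(L, V)) : Γ(X, V) :=
  (Equiv.ofBijective _ (hg V hV)).symm x

theorem IsGen.coef_smul {V : X.Opens} (hV : V ≤ U) (x : Γ(L, V)) :
    (hg.coef hV x • QCohLoc.res L hV g : Γ(L, V)) = x :=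
  (Equiv.ofBijective _ (hg V hV)).apply_symm_apply x

theorem IsGen.coef_eq {V : X.Opens} (hV : V ≤ U) (x : Γ(L, V)) (c : Γ(X, V))
    (hc : (c • QCohLoc.res L hV g : Γ(L, V)) = x) : hg.coef hV x = c := by
  apply (hg V hV).1
  show (hg.coef hV x • QCohLoc.res L hV g : Γ(L, V)) = (c • QCohLoc.res L hV g : Γ(L, V))
  rw [hg.coef_smul, hc]

theorem IsGen.coef_add {V : X.Opens} (hV : V ≤ U) (x y : Γ(L, V)) :
    hg.coef hV (x + y) = hg.coef hV x + hg.coef hV y := by
  apply hg.coef_eq
  rw [add_smul, hg.coef_smul, hg.coef_smul]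

theorem IsGen.coef_smul_left {V : X.Opens} (hV : V ≤ U) (a : Γ(X, V)) (x : Γ(L, V)) :
    hg.coef hV (a • x : Γ(L, V)) = a * hg.coef hV x := by
  apply hg.coef_eq
  rw [mul_smul, hg.coef_smul]

theorem IsGen.coef_res {V V' : X.Opens} (hV : V ≤ U) (h : V' ≤ V) (x : Γ(L, V)) :
    hg.coef (h.trans hV) (QCohLoc.res L h x) = resO h (hg.coef hV x) := by
  apply hg.coef_eq
  rw [← res_res L hV h, ← res_smul, hg.coef_smul]

theorem IsGen.coef_self : hg.coef le_rfl g = 1 := by
  apply hg.coef_eq
  rw [one_smul, res_self]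

theorem IsGen.coef_res_self {V : X.Opens} (hV : V ≤ U) : hg.coef hV (QCohLoc.res L hV g) = 1 := by
  apply hg.coef_eq
  rw [one_smul]

end Coef

section Transfer

variable {M N : X.Modules} {U : X.Opens} {g : Γ(M, U)} {h : Γ(N, U)} (hg : IsGen M U g) (hh : IsGen N U h)

/-- transfer of sections along matching generators -/
def transfer (_ : IsGen N U h) {V : X.Opens} (hV : V ≤ U) (x : Γ(M, V)) : Γ(N, V) :=
  (hg.coef hV x • res N hV h : Γ(N, V))

theorem transfer_add {V : X.Opens} (hV : V ≤ U) (x y : Γ(M, V)) :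
    transfer hg hh hV (x + y) = transfer hg hh hV x + transfer hg hh hV y := by
  unfold transfer
  rw [hg.coef_add, add_smul]

theorem transfer_smul {V : X.Opens} (hV : V ≤ U) (a : Γ(X, V)) (x : Γ(M, V)) :
    transfer hg hh hV (a • x : Γ(M, V)) = (a • transfer hg hh hV x : Γ(N, V)) := by
  unfold transfer
  rw [hg.coef_smul_left, mul_smul]

theorem transfer_res {V V' : X.Opens} (hV : V ≤ U) (h' : V' ≤ V) (x : Γ(M, V)) :
    transfer hg hh (h'.trans hV) (res M h' x) = res N h' (transfer hg hh hV x) := by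
  unfold transfer
  rw [hg.coef_res, res_smul, res_res]

theorem transfer_transfer {V : X.Opens} (hV : V ≤ U) (x : Γ(M, V)) :
    transfer hh hg hV (transfer hg hh hV x) = x := by
  unfold transfer
  rw [hh.coef_eq hV _ (hg.coef hV x) rfl, hg.coef_smul]

theorem transfer_bijective {V : X.Opens} (hV : V ≤ U) :
    Function.Bijective (transfer hg hh hV : Γ(M, V) → Γ(N, V)) :=
  Function.bijective_iff_has_inverse.2
    ⟨transfer hh hg hV, fun x => transfer_transfer hg hh hV x, fun y => transfer_transfer hh hg hV y⟩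

end Transfer

section Cocycle

variable {M N : X.Modules} {ι : Type*} (U : ι → X.Opens) (g : ∀ i, Γ(M, U i)) (h : ∀ i, Γ(N, U i))
  (hg : ∀ i, IsGen M (U i) (g i)) (hh : ∀ i, IsGen N (U i) (h i))

include hg hh in
/-- independence of the chart -/
theorem transfer_indep
    (hcoc : ∀ i j, ∃ u : Γ(X, U i ⊓ U j),
      res M inf_le_left (g i) = (u • res M inf_le_right (g j) : Γ(M, U i ⊓ U j)) ∧
      res N inf_le_left (h i) = (u • res N inf_le_right (h j) : Γ(N, U i ⊓ U j)))
    (i j : ι) {V : X.Opens} (hVi : V ≤ U i) (hVj : V ≤ U j) (x : Γ(M, V)) :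
    transfer (hg i) (hh i) hVi x = transfer (hg j) (hh j) hVj x := by
  obtain ⟨u, hu1, hu2⟩ := hcoc i j
  have hVij : V ≤ U i ⊓ U j := le_inf hVi hVj
  have h1 : res M hVi (g i) = (resO hVij u • res M hVj (g j) : Γ(M, V)) := by
    have := congrArg (res M hVij) hu1
    rwa [res_res, res_smul, res_res] at this
  have h2 : res N hVi (h i) = (resO hVij u • res N hVj (h j) : Γ(N, V)) := by
    have := congrArg (res N hVij) hu2
    rwa [res_res, res_smul, res_res] at this
  have h3 : (hg j).coef hVj x = (hg i).coef hVi x * resO hVij u := by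
    apply (hg j).coef_eq
    rw [mul_smul, ← h1, (hg i).coef_smul]
  unfold transfer
  rw [h3, mul_smul, ← h2]

/-- **modules with matching local generators and transition functions are isomorphic** -/
theorem exists_iso_of_cocycle (hcov : ∀ x : X, ∃ i, x ∈ U i)
    (hcoc : ∀ i j, ∃ u : Γ(X, U i ⊓ U j),
      res M inf_le_left (g i) = (u • res M inf_le_right (g j) : Γ(M, U i ⊓ U j)) ∧
      res N inf_le_left (h i) = (u • res N inf_le_right (h j) : Γ(N, U i ⊓ U j))) :
    ∃ ψ : M ≅ N, ∀ (i : ι) (V : X.Opens) (hV : V ≤ U i) (x : Γ(M, V)),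
      ψ.hom.app V x = transfer (hg i) (hh i) hV x := by
  let D : QCohLoc.LocalHomData M N :=
    { B := fun V => ∃ i, V ≤ U i
      down := fun V V' hle ⟨i, hi⟩ => ⟨i, hle.trans hi⟩
      cov := fun x => by
        obtain ⟨i, hi⟩ := hcov x
        exact ⟨U i, ⟨i, le_rfl⟩, hi⟩
      φ := fun V hV x => transfer (hg hV.choose) (hh hV.choose) hV.choose_spec x
      add := fun V hV x y => transfer_add _ _ _ x y
      smul := fun V hV a x => transfer_smul _ _ _ a x
      nat := fun V hV V' hle x => by
        have h1 := transfer_res (hg hV.choose) (hh hV.choose) hV.choose_spec hle x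
        rw [← h1]
        exact transfer_indep U g h hg hh hcoc _ _ _ _ _ }
  have happ : ∀ (i : ι) (V : X.Opens) (hV : V ≤ U i) (x : Γ(M, V)),
      D.hom.app V x = transfer (hg i) (hh i) hV x := by
    intro i V hV x
    have hB : D.B V := ⟨i, hV⟩
    rw [D.hom_app V hB x]
    exact transfer_indep U g h hg hh hcoc _ _ _ _ _
  haveI : IsIso D.hom := by
    refine TensorIso.isIso_of_bijective_on_basis D.hom D.B ?_ ?_
    · intro W x hx
      obtain ⟨i, hi⟩ := hcov x
      exact ⟨W ⊓ U i, ⟨i, inf_le_right⟩, ⟨hx, hi⟩, inf_le_left⟩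
    · rintro W ⟨i, hi⟩
      have : (D.hom.app W : Γ(M, W) → Γ(N, W)) = transfer (hg i) (hh i) hi := funext fun x => happ i W hi x
      rw [this]
      exact transfer_bijective (hg i) (hh i) hi
  exact ⟨asIso D.hom, happ⟩

include hg hh in
theorem exists_iso_of_cocycle_gen (hcov : ∀ x : X, ∃ i, x ∈ U i)
    (hcoc : ∀ i j, ∃ u : Γ(X, U i ⊓ U j),
      res M inf_le_left (g i) = (u • res M inf_le_right (g j) : Γ(M, U i ⊓ U j)) ∧
      res N inf_le_left (h i) = (u • res N inf_le_right (h j) : Γ(N, U i ⊓ U j))) :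
    ∃ ψ : M ≅ N, ∀ (i : ι), ψ.hom.app (U i) (g i) = h i := by
  obtain ⟨ψ, hψ⟩ := exists_iso_of_cocycle U g h hg hh hcov hcoc
  refine ⟨ψ, fun i => ?_⟩
  rw [hψ i (U i) le_rfl (g i)]
  unfold transfer
  rw [(hg i).coef_self, one_smul, res_self]

end Cocycle

end Groth.Agent.Lib.Helper28.GenLocus
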