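import Groth.Agent.Lib.Helper28.AmpleUnit
import Groth.Prelude.Def_LCI2
import Groth.Prelude.Def_Mor2

/-!
# Ampleness is invariant under isomorphisms of modules; quasi-affine morphisms and relative ampleness of `O_X`
-/

set_option autoImplicit false
universe u
open CategoryTheory CategoryTheory.Limits AlgebraicGeometry Opposite TopologicalSpace
noncomputable section

namespace Groth.Agent.Lib.Helper28.AmpleIso

open Groth.Agent.Lib.Helper28 Groth.Agent.Lib.Helper28.QCohLoc Groth.Agent.Lib.Helper28.GenLocus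
  Groth.Agent.Lib.Helper28.AmpleUnit

variable {X : Scheme.{u}}

theorem isInvertible_of_iso {L L' : X.Modules} (e : L ≅ L') (hL : PicF.IsInvertible L) :
    PicF.IsInvertible L' := by
  intro y
  obtain ⟨U, hyU, ⟨i⟩⟩ := hL y
  exact ⟨U, hyU, ⟨(Scheme.Modules.restrictFunctor U.ι).mapIso e.symm ≪≫ i⟩⟩

theorem isInvertible_restrict {W V : Scheme.{u}} (j : W ⟶ V) [IsOpenImmersion j]
    (L : V.Modules) (hL : PicF.IsInvertible L) : PicF.IsInvertible (L.restrict j) := by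
  intro y
  obtain ⟨U, hyU, ⟨e⟩⟩ := hL (j.base y)
  refine ⟨j ⁻¹ᵁ U, hyU, ⟨?_⟩⟩
  have hcomm : (j ⁻¹ᵁ U).ι ≫ j = (j ∣_ U) ≫ U.ι := (morphismRestrict_ι j U).symm
  exact ((Scheme.Modules.restrictFunctorComp (j ⁻¹ᵁ U).ι j).symm.app L) ≪≫
    ((Scheme.Modules.restrictFunctorCongr hcomm).app L) ≪≫
    ((Scheme.Modules.restrictFunctorComp (j ∣_ U) U.ι).app L) ≪≫
    ((Scheme.Modules.restrictFunctor (j ∣_ U)).mapIso e) ≪≫ Scheme.Modules.restrictUnitIso (j ∣_ U)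

/-- tensor powers of isomorphic modules are isomorphic -/
def tensorPowIso {L L' : X.Modules} (e : L ≅ L') : ∀ n : ℕ, CohB1.tensorPow L n ≅ CohB1.tensorPow L' n
  | 0 => Iso.refl _
  | n + 1 => PicGrp.tensorModIso (tensorPowIso e n) e

theorem isAmple_of_iso {L L' : X.Modules} (e : L ≅ L') (hL : CohB1.IsAmple L) : CohB1.IsAmple L' := by
  obtain ⟨hinv, hc, h⟩ := hL
  refine ⟨isInvertible_of_iso e hinv, hc, ?_⟩
  intro x
  obtain ⟨n, s, hxs, hs⟩ := h x
  refine ⟨n, s ≫ (tensorPowIso e (n + 1)).hom, ?_⟩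
  rw [genLocus_comp_iso]
  exact ⟨hxs, hs⟩

theorem isQuasiAffine_iff_isRelAmple_unit {X Y : Scheme.{u}} (f : X ⟶ Y) :
    Mor2.IsQuasiAffine f ↔ RelAmple.IsRelAmple f (Coh.structureModule X) := by
  constructor
  · rintro ⟨hqc, h⟩
    refine ⟨hqc, fun V => ?_⟩
    haveI := h V.1 V.2
    exact isAmple_of_iso (Scheme.Modules.restrictUnitIso (f ⁻¹ᵁ V.1).ι).symm
      ((isQuasiAffine_iff_isAmple_unit _).1 (h V.1 V.2))
  · rintro ⟨hqc, h⟩
    refine ⟨hqc, fun V hV => ?_⟩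
    have hA := isAmple_of_iso (Scheme.Modules.restrictUnitIso (f ⁻¹ᵁ V).ι) (h ⟨V, hV⟩)
    haveI : CompactSpace ((f ⁻¹ᵁ V : X.Opens) : Scheme.{u}) := hA.2.1
    exact (isQuasiAffine_iff_isAmple_unit _).2 hA

end Groth.Agent.Lib.Helper28.AmpleIso
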