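import Groth.Agent.Lib.Helper28.SecPow
import Groth.Agent.Lib.Helper28.AmpleIso

/-!
# Local generators and restriction to an open subscheme

* `isGen_restrict_iff`: a section generates `L.restrict U.ι` over `V` iff it generates `L` over the image of `V`.
* restriction to an open subscheme commutes with tensor powers and tensor products of invertible modules.
-/

set_option autoImplicit false
universe u
open CategoryTheory CategoryTheory.Limits AlgebraicGeometry Opposite TopologicalSpace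
noncomputable section

namespace Groth.Agent.Lib.Helper28.GenLocus

open Groth.Agent.Lib.Helper28 Groth.Agent.Lib.Helper28.QCohLoc Groth.Agent.Lib.Helper28.TensorGen
  Groth.Agent.Lib.Helper28.InvTensor Groth.Agent.Lib.Helper28.AmpleUnit

variable {X : Scheme.{u}}

theorem restrict_res (L : X.Modules) (U : X.Opens) {V V' : (↑U : Scheme.{u}).Opens} (h : V' ≤ V)
    (γ : Γ(L.restrict U.ι, V)) :
    res (L.restrict U.ι) h γ = res L (U.ι.image_mono h) (show Γ(L, U.ι ''ᵁ V) from γ) := rfl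

theorem restrict_smul (L : X.Modules) (U : X.Opens) {V : (↑U : Scheme.{u}).Opens} (c : Γ((↑U : Scheme.{u}), V))
    (γ : Γ(L.restrict U.ι, V)) :
    (c • γ : Γ(L.restrict U.ι, V)) =
      ((U.ι.appIso V).inv c • (show Γ(L, U.ι ''ᵁ V) from γ) : Γ(L, U.ι ''ᵁ V)) := rfl

theorem isGen_of_isGen_restrict (L : X.Modules) (U : X.Opens) {V : (↑U : Scheme.{u}).Opens}
    (γ : Γ(L.restrict U.ι, V)) (h : IsGen (L.restrict U.ι) V γ) :
    IsGen L (U.ι ''ᵁ V) (show Γ(L, U.ι ''ᵁ V) from γ) := by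
  intro W hW
  have hWU : W ≤ U := hW.trans (InvGen.image_le U V)
  have himg : U.ι ''ᵁ (U.ι ⁻¹ᵁ W) = W := by
    rw [Scheme.Hom.image_preimage_eq_opensRange_inf, Scheme.Opens.opensRange_ι]
    exact inf_eq_right.2 hWU
  have hV' : U.ι ⁻¹ᵁ W ≤ V := by
    intro y hy
    obtain ⟨y', hy', hyy'⟩ := hW hy
    have : y' = y := U.ι.isOpenEmbedding.injective hyy'
    rwa [← this]
  suffices hs : ∀ (W' : X.Opens) (hW' : W' ≤ U.ι ''ᵁ V), W' = U.ι ''ᵁ (U.ι ⁻¹ᵁ W) →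
      Function.Bijective (fun c : Γ(X, W') => (c • res L hW' (show Γ(L, U.ι ''ᵁ V) from γ) : Γ(L, W'))) from
    hs W hW himg.symm
  rintro W' hW' rfl
  have hb := h (U.ι ⁻¹ᵁ W) hV'
  have hfun : (fun c : Γ(X, U.ι ''ᵁ (U.ι ⁻¹ᵁ W)) =>
      (c • res L hW' (show Γ(L, U.ι ''ᵁ V) from γ) : Γ(L, U.ι ''ᵁ (U.ι ⁻¹ᵁ W)))) =
      (fun c' : Γ((↑U : Scheme.{u}), U.ι ⁻¹ᵁ W) =>
        (c' • res (L.restrict U.ι) hV' γ : Γ(L.restrict U.ι, U.ι ⁻¹ᵁ W))) ∘
        (fun c : Γ(X, U.ι ''ᵁ (U.ι ⁻¹ᵁ W)) => (U.ι.appIso (U.ι ⁻¹ᵁ W)).hom c) := by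
    funext c
    show _ = ((U.ι.appIso (U.ι ⁻¹ᵁ W)).inv ((U.ι.appIso (U.ι ⁻¹ᵁ W)).hom c) •
      res L (U.ι.image_mono hV') (show Γ(L, U.ι ''ᵁ V) from γ) : Γ(L, U.ι ''ᵁ (U.ι ⁻¹ᵁ W)))
    have : (U.ι.appIso (U.ι ⁻¹ᵁ W)).inv ((U.ι.appIso (U.ι ⁻¹ᵁ W)).hom c) = c := by
      rw [← CommRingCat.comp_apply, Iso.hom_inv_id]; rfl
    rw [this]
  rw [hfun]
  exact hb.comp (ConcreteCategory.bijective_of_isIso (U.ι.appIso (U.ι ⁻¹ᵁ W)).hom)

theorem isGen_restrict_of_isGen (L : X.Modules) (U : X.Opens) {V : (↑U : Scheme.{u}).Opens}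
    (γ : Γ(L, U.ι ''ᵁ V)) (h : IsGen L (U.ι ''ᵁ V) γ) :
    IsGen (L.restrict U.ι) V (show Γ(L.restrict U.ι, V) from γ) := by
  intro V' hV'
  have hb := h (U.ι ''ᵁ V') (U.ι.image_mono hV')
  have hfun : (fun c' : Γ((↑U : Scheme.{u}), V') =>
      (c' • res (L.restrict U.ι) hV' (show Γ(L.restrict U.ι, V) from γ) : Γ(L.restrict U.ι, V'))) =
      (fun c : Γ(X, U.ι ''ᵁ V') => (c • res L (U.ι.image_mono hV') γ : Γ(L, U.ι ''ᵁ V'))) ∘
        (fun c' : Γ((↑U : Scheme.{u}), V') => (U.ι.appIso V').inv c') := rfl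
  rw [hfun]
  exact hb.comp (ConcreteCategory.bijective_of_isIso (U.ι.appIso V').inv)

/-- restriction to an open subscheme commutes with tensor powers of invertible modules -/
theorem exists_restrict_tensorPow_iso (L : X.Modules) (U : X.Opens) (hL : PicF.IsInvertible (L.restrict U.ι))
    (n : ℕ) :
    Nonempty ((CohB1.tensorPow L n).restrict U.ι ≅ CohB1.tensorPow (L.restrict U.ι) n) := by
  obtain ⟨ψ, -⟩ := exists_iso_of_homogeneous (L.restrict U.ι) hL ((CohB1.tensorPow L n).restrict U.ι)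
    (CohB1.tensorPow (L.restrict U.ι) n)
    (fun V γ => (show Γ((CohB1.tensorPow L n).restrict U.ι, V) from
      gpow L (show Γ(L, U.ι ''ᵁ V) from γ) n))
    (fun V γ => gpow (L.restrict U.ι) γ n)
    (fun V γ hγ => isGen_restrict_of_isGen _ U _ (isGen_gpow (isGen_of_isGen_restrict L U γ hγ) n))
    (fun V γ hγ => isGen_gpow hγ n) n
    (fun V V' h γ => gpow_res L (U.ι.image_mono h) (show Γ(L, U.ι ''ᵁ V) from γ) n)
    (fun V V' h γ => gpow_res (L.restrict U.ι) h γ n)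
    (fun V u γ => by
      show gpow L ((U.ι.appIso V).inv u • (show Γ(L, U.ι ''ᵁ V) from γ) : Γ(L, U.ι ''ᵁ V)) n =
        ((U.ι.appIso V).inv (u ^ n) • gpow L (show Γ(L, U.ι ''ᵁ V) from γ) n :
          Γ(CohB1.tensorPow L n, U.ι ''ᵁ V))
      rw [gpow_smul, map_pow])
    (fun V u γ => gpow_smul (L.restrict U.ι) u γ n)
  exact ⟨ψ⟩

/-- restriction to an open subscheme commutes with tensor products of invertible modules -/
theorem exists_restrict_tensorMod_iso (L L' : X.Modules) (U : X.Opens)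
    (hL : PicF.IsInvertible (L.restrict U.ι)) (hL' : PicF.IsInvertible (L'.restrict U.ι)) :
    Nonempty ((CohB1.tensorMod L L').restrict U.ι ≅ CohB1.tensorMod (L.restrict U.ι) (L'.restrict U.ι)) := by
  obtain ⟨ψ, -⟩ := exists_iso_of_homogeneous₂ (L.restrict U.ι) (L'.restrict U.ι) hL hL'
    ((CohB1.tensorMod L L').restrict U.ι) (CohB1.tensorMod (L.restrict U.ι) (L'.restrict U.ι))
    (fun V γ γ' => (show Γ((CohB1.tensorMod L L').restrict U.ι, V) from
      tmulSec L L' (show Γ(L, U.ι ''ᵁ V) from γ) (show Γ(L', U.ι ''ᵁ V) from γ')))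
    (fun V γ γ' => tmulSec (L.restrict U.ι) (L'.restrict U.ι) γ γ')
    (fun V γ γ' hγ hγ' => isGen_restrict_of_isGen _ U _
      (isGen_tmulSec L L' (isGen_of_isGen_restrict L U γ hγ) (isGen_of_isGen_restrict L' U γ' hγ')))
    (fun V γ γ' hγ hγ' => isGen_tmulSec _ _ hγ hγ') 1 1
    (fun V V' h γ γ' => tmulSec_res L L' (U.ι.image_mono h) (show Γ(L, U.ι ''ᵁ V) from γ)
      (show Γ(L', U.ι ''ᵁ V) from γ'))
    (fun V V' h γ γ' => tmulSec_res (L.restrict U.ι) (L'.restrict U.ι) h γ γ')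
    (fun V u u' γ γ' => by
      show tmulSec L L' ((U.ι.appIso V).inv u • (show Γ(L, U.ι ''ᵁ V) from γ) : Γ(L, U.ι ''ᵁ V))
          ((U.ι.appIso V).inv u' • (show Γ(L', U.ι ''ᵁ V) from γ') : Γ(L', U.ι ''ᵁ V)) =
        ((U.ι.appIso V).inv (u ^ 1 * u' ^ 1) • tmulSec L L' (show Γ(L, U.ι ''ᵁ V) from γ)
          (show Γ(L', U.ι ''ᵁ V) from γ') : Γ(CohB1.tensorMod L L', U.ι ''ᵁ V))
      rw [tmulSec_smul_left, tmulSec_smul_right, ← mul_smul, pow_one, pow_one, map_mul])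
    (fun V u u' γ γ' => by
      rw [tmulSec_smul_left, tmulSec_smul_right, ← mul_smul, pow_one, pow_one])
  exact ⟨ψ⟩

end Groth.Agent.Lib.Helper28.GenLocus
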