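import Groth.Agent.Lib.Helper28.InvQC

/-!
# Tensor products of modules with local generators

If `g` generates `L` and `g'` generates `L'` over `U`, then `g ⊗ g'` generates `L ⊗ L'` over `U`.
-/

set_option autoImplicit false
universe u
open CategoryTheory CategoryTheory.Limits AlgebraicGeometry Opposite TopologicalSpace MonoidalCategory
noncomputable section

namespace Groth.Agent.Lib.Helper28.InvTensor

open Groth.Agent.Lib.Helper28 Groth.Agent.Lib.Helper28.QCohLoc Groth.Agent.Lib.Helper28.GenLocus
  Groth.Agent.Lib.Helper28.TensorGen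

open TensorProduct in
/-- the tensor product of two free modules of rank one is free of rank one -/
theorem smul_tmul_bijective {R M N : Type*} [CommRing R] [AddCommGroup M] [AddCommGroup N] [Module R M]
    [Module R N] (g : M) (g' : N) (hg : Function.Bijective (fun c : R => c • g))
    (hg' : Function.Bijective (fun c : R => c • g')) :
    Function.Bijective (fun c : R => c • (g ⊗ₜ[R] g')) := by
  let eM : R ≃ₗ[R] M := LinearEquiv.ofBijective (LinearMap.toSpanSingleton R M g) hg
  let eN : R ≃ₗ[R] N := LinearEquiv.ofBijective (LinearMap.toSpanSingleton R N g') hg'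
  let E : R ≃ₗ[R] M ⊗[R] N := (TensorProduct.lid R R).symm ≪≫ₗ TensorProduct.congr eM eN
  have hE : ∀ c : R, E c = c • (g ⊗ₜ[R] g') := by
    intro c
    show (TensorProduct.congr eM eN) ((TensorProduct.lid R R).symm c) = _
    rw [TensorProduct.lid_symm_apply, TensorProduct.congr_tmul]
    show ((1 : R) • g) ⊗ₜ[R] (c • g') = _
    rw [one_smul, TensorProduct.tmul_smul]
  have : (fun c : R => c • (g ⊗ₜ[R] g')) = E := funext fun c => (hE c).symm
  rw [this]
  exact E.bijective

variable {X : Scheme.{u}} (L L' : X.Modules)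

theorem isGen_self {W : X.Opens} {γ : Γ(L, W)} (h : IsGen L W γ) :
    Function.Bijective (fun c : Γ(X, W) => (c • γ : Γ(L, W))) := by
  have := h W le_rfl
  simpa only [res_self] using this

/-- the restriction of a pure tensor in the presheaf tensor product -/
theorem map_smul_ptmul {W V : X.Opens} (hV : V ≤ W) (d : Γ(X, W)) (γ : Γ(L, W)) (γ' : Γ(L', W)) :
    (show X.PresheafOfModules from CohB1.tensorPre L L').map (homOfLE hV).op
      ((d • ptmul L L' γ γ' : ((show X.PresheafOfModules from CohB1.tensorPre L L').obj (op W) : Type u))) =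
      (resO hV d • ptmul L L' (res L hV γ) (res L' hV γ') :
        ((show X.PresheafOfModules from CohB1.tensorPre L L').obj (op V) : Type u)) := by
  exact PresheafOfModules.map_smul (show X.PresheafOfModules from CohB1.tensorPre L L') (homOfLE hV).op d
    (ptmul L L' γ γ')

theorem smul_tmulSec_eq {W : X.Opens} (d : Γ(X, W)) (γ : Γ(L, W)) (γ' : Γ(L', W)) :
    (d • tmulSec L L' γ γ' : Γ(CohB1.tensorMod L L', W)) =
      (ηT L L').app (op W)
        ((d • ptmul L L' γ γ' : ((show X.PresheafOfModules from CohB1.tensorPre L L').obj (op W) : Type u))) :=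
  (map_smul ((ηT L L').app (op W)).hom d _).symm

/-- injectivity of `c ↦ c • (γ ⊗ γ')` -/
theorem smul_tmulSec_eq_zero {W : X.Opens} {γ : Γ(L, W)} {γ' : Γ(L', W)} (hγ : IsGen L W γ)
    (hγ' : IsGen L' W γ') (d : Γ(X, W))
    (hd : (d • tmulSec L L' γ γ' : Γ(CohB1.tensorMod L L', W)) = 0) : d = 0 := by
  have hli : Presheaf.IsLocallyInjective (Opens.grothendieckTopology X)
      (CategoryTheory.toSheafify (Opens.grothendieckTopology X)
        (show X.PresheafOfModules from CohB1.tensorPre L L').presheaf) := inferInstance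
  have h0 : (ηT L L').app (op W)
      ((d • ptmul L L' γ γ' : ((show X.PresheafOfModules from CohB1.tensorPre L L').obj (op W) : Type u))) =
      (ηT L L').app (op W) 0 := by
    rw [← smul_tmulSec_eq, hd]
    exact (map_zero ((ηT L L').app (op W)).hom).symm
  have h1 := hli.equalizerSieve_mem (X := op W) _ _ h0
  rw [Opens.mem_grothendieckTopology] at h1
  choose V i hV hptV using h1
  refine eq_of_locally_eq (Coh.structureModule X) (fun pt : W => V pt.1 pt.2) W (fun pt => (i pt.1 pt.2).le) ?_
    (show Γ(Coh.structureModule X, W) from d) (show Γ(Coh.structureModule X, W) from 0) ?_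
  · intro q hq
    exact Opens.mem_iSup.mpr ⟨⟨q, hq⟩, hptV q hq⟩
  · intro pt
    have h2 := hV pt.1 pt.2
    have hle : V pt.1 pt.2 ≤ W := (i pt.1 pt.2).le
    have h3 : (show X.PresheafOfModules from CohB1.tensorPre L L').map (homOfLE hle).op
        ((d • ptmul L L' γ γ' : ((show X.PresheafOfModules from CohB1.tensorPre L L').obj (op W) : Type u))) =
        (show X.PresheafOfModules from CohB1.tensorPre L L').map (homOfLE hle).op 0 := h2
    rw [map_smul_ptmul, map_zero] at h3
    have hb := smul_tmul_bijective (R := Γ(X, V pt.1 pt.2)) (res L hle γ) (res L' hle γ')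
      (isGen_self L (hγ.res hle)) (isGen_self L' (hγ'.res hle))
    have h4 : resO hle d = 0 := by
      apply hb.1
      show (resO hle d • ptmul L L' (res L hle γ) (res L' hle γ') : _) = (0 : Γ(X, V pt.1 pt.2)) • _
      rw [zero_smul]
      exact h3
    show res (Coh.structureModule X) hle (show Γ(Coh.structureModule X, W) from d) =
      res (Coh.structureModule X) hle (show Γ(Coh.structureModule X, W) from 0)
    rw [res_zero]
    exact h4

/-- **`g ⊗ g'` generates `L ⊗ L'`** -/
theorem isGen_tmulSec {U : X.Opens} {g : Γ(L, U)} {g' : Γ(L', U)} (hg : IsGen L U g) (hg' : IsGen L' U g') :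
    IsGen (CohB1.tensorMod L L') U (tmulSec L L' g g') := by
  intro W hW
  rw [tmulSec_res]
  have hγ := hg.res hW
  have hγ' := hg'.res hW
  generalize res L hW g = γ at hγ
  generalize res L' hW g' = γ' at hγ'
  constructor
  · intro c c' hcc
    have h1 : ((c - c') • tmulSec L L' γ γ' : Γ(CohB1.tensorMod L L', W)) = 0 := by
      rw [sub_smul]; exact sub_eq_zero.2 hcc
    exact sub_eq_zero.1 (smul_tmulSec_eq_zero L L' hγ hγ' _ h1)
  · intro t
    have hloc : ∀ pt : W, ∃ (V : X.Opens) (hV : V ≤ W), pt.1 ∈ V ∧ ∃ c : Γ(X, V),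
        (c • tmulSec L L' (res L hV γ) (res L' hV γ') : Γ(CohB1.tensorMod L L', V)) =
          res (CohB1.tensorMod L L') hV t := by
      intro pt
      obtain ⟨V, hV, hptV, z, hz⟩ := exists_ηT_eq L L' t pt.1 pt.2
      refine ⟨V, hV, hptV, ?_⟩
      obtain ⟨c, hc⟩ := (smul_tmul_bijective (R := Γ(X, V)) (res L hV γ) (res L' hV γ')
        (isGen_self L (hγ.res hV)) (isGen_self L' (hγ'.res hV))).2 z
      refine ⟨c, ?_⟩
      rw [smul_tmulSec_eq, ← hz]
      exact congrArg _ hc
    choose V hV hptV c hc using hloc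
    obtain ⟨c₀, hc₀⟩ := exists_gluing (Coh.structureModule X) V W hV
      (fun q hq => Opens.mem_iSup.mpr ⟨⟨q, hq⟩, hptV ⟨q, hq⟩⟩)
      (fun pt => (show Γ(Coh.structureModule X, V pt) from c pt)) (by
        intro p q
        have hle : V p ⊓ V q ≤ W := inf_le_left.trans (hV p)
        have e1 := congrArg (res (CohB1.tensorMod L L') (inf_le_left : V p ⊓ V q ≤ V p)) (hc p)
        have e2 := congrArg (res (CohB1.tensorMod L L') (inf_le_right : V p ⊓ V q ≤ V q)) (hc q)
        rw [res_smul, tmulSec_res, res_res, res_res, res_res] at e1 e2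
        have h3 : ((resO (inf_le_left : V p ⊓ V q ≤ V p) (c p) - resO (inf_le_right : V p ⊓ V q ≤ V q) (c q)) •
            tmulSec L L' (res L hle γ) (res L' hle γ') : Γ(CohB1.tensorMod L L', V p ⊓ V q)) = 0 := by
          rw [sub_smul, e1, e2, sub_self]
        exact sub_eq_zero.1 (smul_tmulSec_eq_zero L L' (hγ.res hle) (hγ'.res hle) _ h3))
    refine ⟨(show Γ(X, W) from c₀), ?_⟩
    refine eq_of_locally_eq (CohB1.tensorMod L L') V W hV
      (fun q hq => Opens.mem_iSup.mpr ⟨⟨q, hq⟩, hptV ⟨q, hq⟩⟩) _ _ ?_
    intro pt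
    rw [res_smul, tmulSec_res, ← hc pt]
    congr 1
    exact hc₀ pt

end Groth.Agent.Lib.Helper28.InvTensor
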