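import Groth.Agent.Lib.Helper28.PullbackInv

/-!
# Inverse images of invertible modules, II

* `isInvertible_pullback`: `f^* M` is invertible when `M` is.
* `pbSec f s`, `genLocus_pbSec`: the inverse image of a global section `s`, and `X_{f^* s} = f⁻¹(Y_s)`.
* `exists_pullback_tensorMod_iso`, `exists_pullback_tensorPow_iso`: `f^*` commutes with tensor products and tensor
  powers of invertible modules, compatibly with the inverse images of local generators.
* `exists_section_pullback_tensorPow`: a section of `L^n` gives a section of `(f^* L)^n` with locus the preimage.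
-/

set_option autoImplicit false
universe u
open CategoryTheory CategoryTheory.Limits AlgebraicGeometry Opposite TopologicalSpace
noncomputable section

namespace Groth.Agent.Lib.Helper28.PullbackInv

open Groth.Agent.Lib.Helper28 Groth.Agent.Lib.Helper28.QCohLoc Groth.Agent.Lib.Helper28.GenLocus

variable {X Y : Scheme.{u}} (f : X ⟶ Y) {M : Y.Modules}

include f in
theorem isInvertible_pullback (hM : PicF.IsInvertible M) :
    PicF.IsInvertible ((Scheme.Modules.pullback f).obj M) := by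
  refine isInvertible_of_isGen _ fun x => ?_
  obtain ⟨U, γ, hxU, hγ⟩ := exists_isGen M hM (f.base x)
  exact ⟨f ⁻¹ᵁ U, pbs f M U γ, hxU, isGen_pbs hγ⟩

/-- the inverse image of a global section, as a morphism from the structure sheaf -/
def pbSec (s : Coh.structureModule Y ⟶ M) : Coh.structureModule X ⟶ (Scheme.Modules.pullback f).obj M :=
  TwistGen.ofSection _ (pbs f M ⊤ (secOf s))

theorem secOf_pbSec (s : Coh.structureModule Y ⟶ M) : secOf (pbSec f s) = pbs f M ⊤ (secOf s) :=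
  secOf_ofSection _

theorem res_secOf_pbSec (s : Coh.structureModule Y ⟶ M) (U : Y.Opens) :
    res _ (le_top : f ⁻¹ᵁ U ≤ ⊤) (secOf (pbSec f s)) = pbs f M U (res M (le_top : U ≤ ⊤) (secOf s)) := by
  rw [secOf_pbSec, pbs_res]
  rfl

/-- **`X_{f^* s} = f⁻¹(Y_s)`** -/
theorem genLocus_pbSec (hM : PicF.IsInvertible M) (s : Coh.structureModule Y ⟶ M) :
    CohB1.genLocus _ (pbSec f s) = f ⁻¹ᵁ (CohB1.genLocus M s) := by
  ext x
  obtain ⟨U, γ, hxU, hγ⟩ := exists_isGen M hM (f.base x)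
  have hr : res M (le_top : U ≤ ⊤) (secOf s) =
      (hγ.coef le_rfl (res M (le_top : U ≤ ⊤) (secOf s)) • γ : Γ(M, U)) := by
    have := hγ.coef_smul le_rfl (res M (le_top : U ≤ ⊤) (secOf s))
    rw [res_self] at this
    exact this.symm
  have h1 := genLocus_inf_eq s U γ hγ _ hr
  have hr' : res _ (le_top : f ⁻¹ᵁ U ≤ ⊤) (secOf (pbSec f s)) =
      (f.app U (hγ.coef le_rfl (res M (le_top : U ≤ ⊤) (secOf s))) • pbs f M U γ :
        Γ((Scheme.Modules.pullback f).obj M, f ⁻¹ᵁ U)) := by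
    rw [res_secOf_pbSec, ← pbs_smul, ← hr]
  have h2 := genLocus_inf_eq (pbSec f s) (f ⁻¹ᵁ U) (pbs f M U γ) (isGen_pbs hγ) _ hr'
  rw [← Scheme.preimage_basicOpen, ← h1] at h2
  have hx : x ∈ f ⁻¹ᵁ U := hxU
  constructor
  · intro h
    have : x ∈ CohB1.genLocus _ (pbSec f s) ⊓ f ⁻¹ᵁ U := ⟨h, hx⟩
    rw [h2] at this
    exact this.1
  · intro h
    have : x ∈ f ⁻¹ᵁ (CohB1.genLocus M s ⊓ U) := ⟨h, hxU⟩
    rw [← h2] at this
    exact this.1

section Homogeneous

open TensorGen InvTensor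

/-- modules on `X` with generators depending homogeneously (of the same degrees) on pairs of local generators of two
invertible modules on `Y` are isomorphic -/
theorem exists_iso_of_pb_homogeneous₂ (L L' : Y.Modules) (hL : PicF.IsInvertible L) (hL' : PicF.IsInvertible L')
    (P Q : X.Modules)
    (Fp : ∀ U : Y.Opens, Γ(L, U) → Γ(L', U) → Γ(P, f ⁻¹ᵁ U))
    (Fq : ∀ U : Y.Opens, Γ(L, U) → Γ(L', U) → Γ(Q, f ⁻¹ᵁ U))
    (hFp : ∀ (U : Y.Opens) (g : Γ(L, U)) (g' : Γ(L', U)), IsGen L U g → IsGen L' U g' →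
      IsGen P (f ⁻¹ᵁ U) (Fp U g g'))
    (hFq : ∀ (U : Y.Opens) (g : Γ(L, U)) (g' : Γ(L', U)), IsGen L U g → IsGen L' U g' →
      IsGen Q (f ⁻¹ᵁ U) (Fq U g g'))
    (k k' : ℕ)
    (resp : ∀ (U V : Y.Opens) (h : V ≤ U) (g : Γ(L, U)) (g' : Γ(L', U)),
      res P (f.preimage_mono h) (Fp U g g') = Fp V (res L h g) (res L' h g'))
    (resq : ∀ (U V : Y.Opens) (h : V ≤ U) (g : Γ(L, U)) (g' : Γ(L', U)),
      res Q (f.preimage_mono h) (Fq U g g') = Fq V (res L h g) (res L' h g'))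
    (homp : ∀ (U : Y.Opens) (u u' : Γ(Y, U)) (g : Γ(L, U)) (g' : Γ(L', U)),
      Fp U (u • g : Γ(L, U)) (u' • g' : Γ(L', U)) = (f.app U (u ^ k * u' ^ k') • Fp U g g' : Γ(P, f ⁻¹ᵁ U)))
    (homq : ∀ (U : Y.Opens) (u u' : Γ(Y, U)) (g : Γ(L, U)) (g' : Γ(L', U)),
      Fq U (u • g : Γ(L, U)) (u' • g' : Γ(L', U)) = (f.app U (u ^ k * u' ^ k') • Fq U g g' : Γ(Q, f ⁻¹ᵁ U))) :
    ∃ ψ : P ≅ Q, ∀ (U : Y.Opens) (g : Γ(L, U)) (g' : Γ(L', U)), IsGen L U g → IsGen L' U g' →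
      ψ.hom.app (f ⁻¹ᵁ U) (Fp U g g') = Fq U g g' := by
  let ι := {p : Σ U : Y.Opens, Γ(L, U) × Γ(L', U) // IsGen L p.1 p.2.1 ∧ IsGen L' p.1 p.2.2}
  obtain ⟨ψ, hψ⟩ := exists_iso_of_cocycle_gen (M := P) (N := Q) (ι := ι) (fun i => f ⁻¹ᵁ i.1.1)
    (fun i => Fp i.1.1 i.1.2.1 i.1.2.2) (fun i => Fq i.1.1 i.1.2.1 i.1.2.2)
    (fun i => hFp _ _ _ i.2.1 i.2.2) (fun i => hFq _ _ _ i.2.1 i.2.2)
    (fun x => by
      obtain ⟨U, g, hxU, hg⟩ := exists_isGen L hL (f.base x)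
      obtain ⟨U', g', hxU', hg'⟩ := exists_isGen L' hL' (f.base x)
      exact ⟨⟨⟨U ⊓ U', (res L inf_le_left g, res L' inf_le_right g')⟩,
        ⟨hg.res inf_le_left, hg'.res inf_le_right⟩⟩, ⟨hxU, hxU'⟩⟩)
    (fun i j => by
      let u : Γ(Y, i.1.1 ⊓ j.1.1) := j.2.1.coef inf_le_right (res L inf_le_left i.1.2.1)
      let u' : Γ(Y, i.1.1 ⊓ j.1.1) := j.2.2.coef inf_le_right (res L' inf_le_left i.1.2.2)
      have hu : res L inf_le_left i.1.2.1 = (u • res L inf_le_right j.1.2.1 : Γ(L, i.1.1 ⊓ j.1.1)) :=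
        (j.2.1.coef_smul inf_le_right _).symm
      have hu' : res L' inf_le_left i.1.2.2 = (u' • res L' inf_le_right j.1.2.2 : Γ(L', i.1.1 ⊓ j.1.1)) :=
        (j.2.2.coef_smul inf_le_right _).symm
      refine ⟨f.app (i.1.1 ⊓ j.1.1) (u ^ k * u' ^ k'), ?_, ?_⟩
      · have e1 := resp i.1.1 (i.1.1 ⊓ j.1.1) inf_le_left i.1.2.1 i.1.2.2
        have e2 := resp j.1.1 (i.1.1 ⊓ j.1.1) inf_le_right j.1.2.1 j.1.2.2
        rw [hu, hu', homp, ← e2] at e1
        exact e1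
      · have e1 := resq i.1.1 (i.1.1 ⊓ j.1.1) inf_le_left i.1.2.1 i.1.2.2
        have e2 := resq j.1.1 (i.1.1 ⊓ j.1.1) inf_le_right j.1.2.1 j.1.2.2
        rw [hu, hu', homq, ← e2] at e1
        exact e1)
  exact ⟨ψ, fun U g g' hg hg' => hψ ⟨⟨U, (g, g')⟩, ⟨hg, hg'⟩⟩⟩

/-- **`f^*(L ⊗ L') ≅ f^* L ⊗ f^* L'`** for invertible modules -/
theorem exists_pullback_tensorMod_iso {L L' : Y.Modules} (hL : PicF.IsInvertible L) (hL' : PicF.IsInvertible L') :
    ∃ ψ : (Scheme.Modules.pullback f).obj (CohB1.tensorMod L L') ≅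
        CohB1.tensorMod ((Scheme.Modules.pullback f).obj L) ((Scheme.Modules.pullback f).obj L'),
      ∀ (U : Y.Opens) (g : Γ(L, U)) (g' : Γ(L', U)), IsGen L U g → IsGen L' U g' →
        ψ.hom.app (f ⁻¹ᵁ U) (pbs f _ U (tmulSec L L' g g')) = tmulSec _ _ (pbs f L U g) (pbs f L' U g') := by
  refine exists_iso_of_pb_homogeneous₂ f L L' hL hL' _ _
    (fun U g g' => pbs f _ U (tmulSec L L' g g')) (fun U g g' => tmulSec _ _ (pbs f L U g) (pbs f L' U g'))
    (fun U g g' hg hg' => isGen_pbs (isGen_tmulSec L L' hg hg'))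
    (fun U g g' hg hg' => isGen_tmulSec _ _ (isGen_pbs hg) (isGen_pbs hg')) 1 1 ?_ ?_ ?_ ?_
  · intro U V h g g'
    rw [← pbs_res, tmulSec_res]
  · intro U V h g g'
    rw [tmulSec_res, ← pbs_res, ← pbs_res]
  · intro U u u' g g'
    show pbs f _ U (tmulSec L L' (u • g : Γ(L, U)) (u' • g' : Γ(L', U))) = _
    rw [tmulSec_smul_left, tmulSec_smul_right, ← mul_smul, pbs_smul, pow_one, pow_one]
  · intro U u u' g g'
    show tmulSec _ _ (pbs f L U (u • g : Γ(L, U))) (pbs f L' U (u' • g' : Γ(L', U))) = _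
    rw [pbs_smul, pbs_smul, tmulSec_smul_left, tmulSec_smul_right, ← mul_smul, pow_one, pow_one, map_mul]

/-- **`f^*(L^n) ≅ (f^* L)^n`** for an invertible module -/
theorem exists_pullback_tensorPow_iso {L : Y.Modules} (hL : PicF.IsInvertible L) (n : ℕ) :
    ∃ ψ : (Scheme.Modules.pullback f).obj (CohB1.tensorPow L n) ≅
        CohB1.tensorPow ((Scheme.Modules.pullback f).obj L) n,
      ∀ (U : Y.Opens) (g : Γ(L, U)), IsGen L U g →
        ψ.hom.app (f ⁻¹ᵁ U) (pbs f _ U (gpow L g n)) = gpow _ (pbs f L U g) n := by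
  obtain ⟨ψ, hψ⟩ := exists_iso_of_pb_homogeneous₂ f L L hL hL
    ((Scheme.Modules.pullback f).obj (CohB1.tensorPow L n)) (CohB1.tensorPow ((Scheme.Modules.pullback f).obj L) n)
    (fun U g _ => pbs f _ U (gpow L g n)) (fun U g _ => gpow _ (pbs f L U g) n)
    (fun U g g' hg hg' => isGen_pbs (isGen_gpow hg n))
    (fun U g g' hg hg' => isGen_gpow (isGen_pbs hg) n) n 0
    (fun U V h g g' => by rw [← pbs_res, gpow_res])
    (fun U V h g g' => by rw [gpow_res, ← pbs_res])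
    (fun U u u' g g' => by
      show pbs f _ U (gpow L (u • g : Γ(L, U)) n) = _
      rw [gpow_smul, pbs_smul, pow_zero, mul_one])
    (fun U u u' g g' => by
      show gpow _ (pbs f L U (u • g : Γ(L, U))) n = _
      rw [pbs_smul, gpow_smul, pow_zero, mul_one, map_pow])
  exact ⟨ψ, fun U g hg => hψ U g g hg hg⟩

/-- sections of powers of `L` pull back to sections of powers of `f^* L`, with the expected loci -/
theorem exists_section_pullback_tensorPow {L : Y.Modules} (hL : PicF.IsInvertible L) (n : ℕ)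
    (s : Coh.structureModule Y ⟶ CohB1.tensorPow L n) :
    ∃ t : Coh.structureModule X ⟶ CohB1.tensorPow ((Scheme.Modules.pullback f).obj L) n,
      CohB1.genLocus _ t = f ⁻¹ᵁ (CohB1.genLocus _ s) := by
  obtain ⟨ψ, -⟩ := exists_pullback_tensorPow_iso f hL n
  refine ⟨pbSec f s ≫ ψ.hom, ?_⟩
  rw [AmpleUnit.genLocus_comp_iso, genLocus_pbSec f (isInvertible_tensorPow hL n)]

end Homogeneous

end Groth.Agent.Lib.Helper28.PullbackInv
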