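import Mathlib
import Groth.Agent.Lib.Helper28.QCohGlobal

/-!
# A criterion for separatedness of a scheme

If any two points `x₁`, `x₂` of `X` lie in affine opens `A ∋ x₁`, `B ∋ x₂` carrying functions `u` on `A`, `v` on `B`
with `D(u) ⊆ B` and `u v = 1` on `A ∩ B`, then `X` is separated.
-/

set_option autoImplicit false
universe u
open CategoryTheory CategoryTheory.Limits AlgebraicGeometry Opposite TopologicalSpace

namespace Groth.Agent.Lib.Helper28.SepCrit

open Groth.Agent.Lib.Helper28.QCohLoc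

variable (X : Scheme.{u})

/-- the open immersion `V × V ⟶ X × X` -/
noncomputable abbrev mapV (V : X.Opens) :
    pullback (V.ι ≫ terminal.from X) (V.ι ≫ terminal.from X) ⟶ pullback (terminal.from X) (terminal.from X) :=
  pullback.map (V.ι ≫ terminal.from X) (V.ι ≫ terminal.from X) (terminal.from X) (terminal.from X)
        V.ι V.ι (𝟙 _) (Category.comp_id _) (Category.comp_id _)

theorem mapV_fst (V : X.Opens) :
    mapV X V ≫ pullback.fst (terminal.from X) (terminal.from X) =
      pullback.fst (V.ι ≫ terminal.from X) (V.ι ≫ terminal.from X) ≫ V.ι := pullback.lift_fst _ _ _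

theorem mapV_snd (V : X.Opens) :
    mapV X V ≫ pullback.snd (terminal.from X) (terminal.from X) =
      pullback.snd (V.ι ≫ terminal.from X) (V.ι ≫ terminal.from X) ≫ V.ι := pullback.lift_snd _ _ _

theorem diag_comm (V : X.Opens) :
    pullback.diagonal (V.ι ≫ terminal.from X) ≫ mapV X V = V.ι ≫ pullback.diagonal (terminal.from X) := by
  apply pullback.hom_ext
  · rw [Category.assoc, mapV_fst, pullback.diagonal_fst_assoc, Category.assoc, pullback.diagonal_fst,
      Category.comp_id]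
  · rw [Category.assoc, mapV_snd, pullback.diagonal_snd_assoc, Category.assoc, pullback.diagonal_snd,
      Category.comp_id]

/-- a point of `X × X` whose two projections lie in a common affine open, and which is not on the diagonal,
has a neighbourhood disjoint from the diagonal -/
theorem exists_open_of_mem_affine (V : X.Opens) (hV : IsAffineOpen V)
    (z : (pullback (terminal.from X) (terminal.from X) : Scheme.{u}))
    (h1 : pullback.fst (terminal.from X) (terminal.from X) z ∈ V)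
    (h2 : pullback.snd (terminal.from X) (terminal.from X) z ∈ V)
    (hz : z ∉ Set.range (pullback.diagonal (terminal.from X))) :
    ∃ O : Set (pullback (terminal.from X) (terminal.from X) : Scheme.{u}),
      O ⊆ (Set.range (pullback.diagonal (terminal.from X)))ᶜ ∧ IsOpen O ∧ z ∈ O := by
  haveI : IsAffine (V : Scheme.{u}) := hV
  haveI : IsOpenImmersion (mapV X V) := inferInstance
  have hm : Set.range (mapV X V) =
      pullback.fst (terminal.from X) (terminal.from X) ⁻¹' Set.range V.ι ∩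
        pullback.snd (terminal.from X) (terminal.from X) ⁻¹' Set.range V.ι :=
    Scheme.Pullback.range_map _ _ _ _ _ _ _ _ _
  have hzm : z ∈ Set.range (mapV X V) := by
    rw [hm]
    refine ⟨?_, ?_⟩
    · show pullback.fst (terminal.from X) (terminal.from X) z ∈ Set.range V.ι
      rw [Scheme.Opens.range_ι]; exact h1
    · show pullback.snd (terminal.from X) (terminal.from X) z ∈ Set.range V.ι
      rw [Scheme.Opens.range_ι]; exact h2
  obtain ⟨z', rfl⟩ := hzm
  haveI : IsClosedImmersion (pullback.diagonal (V.ι ≫ terminal.from X)) := inferInstance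
  have hcomm := diag_comm X V
  have hcl : IsClosed (Set.range (pullback.diagonal (V.ι ≫ terminal.from X))) :=
    (pullback.diagonal (V.ι ≫ terminal.from X)).isClosedEmbedding.isClosed_range
  refine ⟨mapV X V '' (Set.range (pullback.diagonal (V.ι ≫ terminal.from X)))ᶜ, ?_,
    (mapV X V).isOpenEmbedding.isOpenMap _ hcl.isOpen_compl, ?_⟩
  · rintro _ ⟨w, hw, rfl⟩ ⟨x, hx⟩
    apply hw
    have hx1 : x = V.ι (pullback.fst (V.ι ≫ terminal.from X) (V.ι ≫ terminal.from X) w) := by
      have e1 : pullback.fst (terminal.from X) (terminal.from X) (pullback.diagonal (terminal.from X) x) = x := by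
        rw [← Scheme.Hom.comp_apply, pullback.diagonal_fst]; rfl
      have e2 : pullback.fst (terminal.from X) (terminal.from X) (mapV X V w) =
          V.ι (pullback.fst (V.ι ≫ terminal.from X) (V.ι ≫ terminal.from X) w) := by
        rw [← Scheme.Hom.comp_apply, ← Scheme.Hom.comp_apply, mapV_fst]
      rw [← e1, hx, e2]
    refine ⟨pullback.fst (V.ι ≫ terminal.from X) (V.ι ≫ terminal.from X) w, ?_⟩
    apply (mapV X V).isOpenEmbedding.injective
    rw [← hx, ← Scheme.Hom.comp_apply, hcomm, Scheme.Hom.comp_apply, ← hx1]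
  · refine ⟨z', ?_, rfl⟩
    rintro ⟨w, rfl⟩
    apply hz
    refine ⟨V.ι w, ?_⟩
    rw [← Scheme.Hom.comp_apply, ← Scheme.Hom.comp_apply, hcomm]

theorem key_mul {X : Scheme.{u}} (g1 g2 : X ⟶ X) (h1 : g1 = 𝟙 X) (h2 : g2 = 𝟙 X) (A B : X.Opens)
    (u : Γ(X, A)) (v : Γ(X, B))
    (huv : resO (inf_le_left : A ⊓ B ≤ A) u * resO (inf_le_right : A ⊓ B ≤ B) v = 1) :
    resO (inf_le_left : g1 ⁻¹ᵁ A ⊓ g2 ⁻¹ᵁ B ≤ g1 ⁻¹ᵁ A) (g1.app A u) *
      resO (inf_le_right : g1 ⁻¹ᵁ A ⊓ g2 ⁻¹ᵁ B ≤ g2 ⁻¹ᵁ B) (g2.app B v) = 1 := by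
  subst h1 h2
  exact huv

theorem isSeparated_of_forall_pair
    (h : ∀ x1 x2 : X, ∃ (A B : X.Opens) (u : Γ(X, A)) (v : Γ(X, B)), x1 ∈ A ∧ x2 ∈ B ∧
      IsAffineOpen A ∧ IsAffineOpen B ∧ X.basicOpen u ≤ B ∧
      resO (inf_le_left : A ⊓ B ≤ A) u * resO (inf_le_right : A ⊓ B ≤ B) v = 1) :
    X.IsSeparated := by
  let f := terminal.from X
  let p1 := pullback.fst f f
  let p2 := pullback.snd f f
  let Δ := pullback.diagonal f
  suffices hcl : IsClosed (Set.range Δ) from ⟨⟨IsClosedImmersion.of_isPreimmersion _ hcl⟩⟩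
  rw [← isOpen_compl_iff, isOpen_iff_forall_mem_open]
  intro z hz
  obtain ⟨A, B, u, v, h1A, h2B, hA, hB, huB, huv⟩ := h (p1 z) (p2 z)
  by_cases hx1B : p1 z ∈ B
  · exact exists_open_of_mem_affine X B hB z hx1B h2B hz
  · let Q : (pullback f f : Scheme.{u}).Opens := p1 ⁻¹ᵁ A ⊓ p2 ⁻¹ᵁ B
    have hzQ : z ∈ Q := ⟨h1A, h2B⟩
    let φ1 : Γ((pullback f f : Scheme.{u}), Q) := resO (inf_le_left : Q ≤ p1 ⁻¹ᵁ A) (p1.app A u)
    let φ2 : Γ((pullback f f : Scheme.{u}), Q) := resO (inf_le_right : Q ≤ p2 ⁻¹ᵁ B) (p2.app B v)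
    let ψ : Γ((pullback f f : Scheme.{u}), Q) := 1 - φ1 * φ2
    refine ⟨((pullback f f : Scheme.{u}).basicOpen ψ : Set _), ?_, ((pullback f f : Scheme.{u}).basicOpen ψ).isOpen, ?_⟩
    · rintro _ hw ⟨x, rfl⟩
      have hx : x ∈ Δ ⁻¹ᵁ ((pullback f f : Scheme.{u}).basicOpen ψ) := hw
      rw [Scheme.preimage_basicOpen] at hx
      have hzero : Δ.app Q ψ = 0 := by
        have e1 : Δ.app Q φ1 = resO (inf_le_left : (Δ ≫ p1) ⁻¹ᵁ A ⊓ (Δ ≫ p2) ⁻¹ᵁ B ≤ (Δ ≫ p1) ⁻¹ᵁ A)
            ((Δ ≫ p1).app A u) := by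
          have := Δ.naturality (homOfLE (inf_le_left : Q ≤ p1 ⁻¹ᵁ A)).op
          exact congrArg (fun k => k (p1.app A u)) (congrArg (fun k => k.hom) this)
        have e2 : Δ.app Q φ2 = resO (inf_le_right : (Δ ≫ p1) ⁻¹ᵁ A ⊓ (Δ ≫ p2) ⁻¹ᵁ B ≤ (Δ ≫ p2) ⁻¹ᵁ B)
            ((Δ ≫ p2).app B v) := by
          have := Δ.naturality (homOfLE (inf_le_right : Q ≤ p2 ⁻¹ᵁ B)).op
          exact congrArg (fun k => k (p2.app B v)) (congrArg (fun k => k.hom) this)
        have e3 := key_mul (Δ ≫ p1) (Δ ≫ p2) (pullback.diagonal_fst f) (pullback.diagonal_snd f) A B u v huv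
        show Δ.app Q (1 - φ1 * φ2) = 0
        rw [map_sub, map_mul, map_one, e1, e2]
        exact sub_eq_zero.2 e3.symm
      rw [hzero, Scheme.basicOpen_zero] at hx
      exact hx
    · show z ∈ (pullback f f : Scheme.{u}).basicOpen ψ
      have h1 : (pullback f f : Scheme.{u}).basicOpen (ψ + φ1 * φ2) = Q := by
        have : ψ + φ1 * φ2 = 1 := sub_add_cancel _ _
        rw [this, Scheme.basicOpen_one]
      have h2 := (pullback f f : Scheme.{u}).basicOpen_add_le (f := ψ) (g := φ1 * φ2)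
      rw [h1] at h2
      rcases h2 hzQ with h3 | h3
      · exact h3
      · exfalso
        rw [Scheme.basicOpen_mul] at h3
        have h4 : z ∈ (pullback f f : Scheme.{u}).basicOpen φ1 := h3.1
        have h5 : (pullback f f : Scheme.{u}).basicOpen φ1 = Q ⊓ (pullback f f : Scheme.{u}).basicOpen (p1.app A u) :=
          Scheme.basicOpen_res _ _ _
        rw [h5, ← Scheme.preimage_basicOpen] at h4
        exact hx1B (huB h4.2)

end Groth.Agent.Lib.Helper28.SepCrit
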