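import Groth.Agent.Lib.Helper28.AmplePow
import Groth.Agent.Lib.Helper28.SepCrit

/-!
# A scheme covered by affine loci `X_s` of sections of powers of an invertible module is separated
-/

set_option autoImplicit false
universe u
open CategoryTheory CategoryTheory.Limits AlgebraicGeometry Opposite TopologicalSpace
noncomputable section

namespace Groth.Agent.Lib.Helper28.GenLocus

open Groth.Agent.Lib.Helper28 Groth.Agent.Lib.Helper28.QCohLoc Groth.Agent.Lib.Helper28.TensorGen
  Groth.Agent.Lib.Helper28.InvTensor Groth.Agent.Lib.Helper28.AmpleUnit Groth.Agent.Lib.Helper28.TwistAmple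

variable {X : Scheme.{u}}

/-- a section is an isomorphism over the locus where it generates -/
theorem bijective_app_of_le_genLocus {M : X.Modules} (σ : Coh.structureModule X ⟶ M) (W : X.Opens)
    (hW : W ≤ CohB1.genLocus M σ) : Function.Bijective (σ.app W) := by
  have hiso : IsIso ((Scheme.Modules.restrictFunctor (CohB1.genLocus M σ).ι).map σ) := by
    refine isIso_restrict_of_bijective_on_basis σ _
      (fun W => ∃ U : X.Opens, IsIso ((Scheme.Modules.restrictFunctor U.ι).map σ) ∧ W ≤ U) ?_ ?_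
    · intro V x hxV hV
      have hx : x ∈ CohB1.genLocus M σ := hV hxV
      unfold CohB1.genLocus at hx
      rw [Opens.mem_sSup] at hx
      obtain ⟨U, hU, hxU⟩ := hx
      exact ⟨V ⊓ U, ⟨U, hU, inf_le_right⟩, ⟨hxV, hxU⟩, inf_le_left⟩
    · rintro W _ ⟨U, hU, hWU⟩
      exact (isIso_restrict_iff σ U).1 hU W hWU
  exact (isIso_restrict_iff σ _).1 hiso W hW

/-- a section generates over its locus -/
theorem isGen_genLocus {M : X.Modules} (σ : Coh.structureModule X ⟶ M) :
    IsGen M (CohB1.genLocus M σ) (res M le_top (secOf σ)) := by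
  intro W hW
  have hb := bijective_app_of_le_genLocus σ W hW
  have hfun : (σ.app W : Γ(Coh.structureModule X, W) → Γ(M, W)) =
      fun c : Γ(X, W) => (c • res M hW (res M le_top (secOf σ)) : Γ(M, W)) := by
    funext c
    rw [res_res]
    exact app_eq_smul σ W c
  rw [hfun] at hb
  exact hb

/-- transition functions between the loci of two sections of an invertible module -/
theorem exists_pair_functions {M : X.Modules} (σ τ : Coh.structureModule X ⟶ M) :
    ∃ (u : Γ(X, CohB1.genLocus M σ)) (v : Γ(X, CohB1.genLocus M τ)),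
      X.basicOpen u ≤ CohB1.genLocus M τ ∧
      resO (inf_le_left : CohB1.genLocus M σ ⊓ CohB1.genLocus M τ ≤ CohB1.genLocus M σ) u *
        resO (inf_le_right : CohB1.genLocus M σ ⊓ CohB1.genLocus M τ ≤ CohB1.genLocus M τ) v = 1 := by
  have hgσ := isGen_genLocus σ
  have hgτ := isGen_genLocus τ
  let u : Γ(X, CohB1.genLocus M σ) := hgσ.coef le_rfl (res M le_top (secOf τ))
  let v : Γ(X, CohB1.genLocus M τ) := hgτ.coef le_rfl (res M le_top (secOf σ))
  have hu : res M le_top (secOf τ) = (u • res M le_top (secOf σ) : Γ(M, CohB1.genLocus M σ)) := by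
    have := hgσ.coef_smul le_rfl (res M le_top (secOf τ))
    rw [res_self] at this
    exact this.symm
  have hv : res M le_top (secOf σ) = (v • res M le_top (secOf τ) : Γ(M, CohB1.genLocus M τ)) := by
    have := hgτ.coef_smul le_rfl (res M le_top (secOf σ))
    rw [res_self] at this
    exact this.symm
  refine ⟨u, v, ?_, ?_⟩
  · have := genLocus_inf_eq τ _ _ hgσ u hu
    rw [← this]
    exact inf_le_left
  · have hu' := congrArg (res M (inf_le_left : CohB1.genLocus M σ ⊓ CohB1.genLocus M τ ≤ _)) hu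
    have hv' := congrArg (res M (inf_le_right : CohB1.genLocus M σ ⊓ CohB1.genLocus M τ ≤ _)) hv
    rw [res_res, res_smul, res_res] at hu' hv'
    apply (hgτ _ inf_le_right).1
    show ((resO inf_le_left u * resO inf_le_right v) • res M inf_le_right (res M le_top (secOf τ)) :
      Γ(M, CohB1.genLocus M σ ⊓ CohB1.genLocus M τ)) = ((1 : Γ(X, _)) • res M inf_le_right (res M le_top (secOf τ)) :
      Γ(M, CohB1.genLocus M σ ⊓ CohB1.genLocus M τ))
    rw [one_smul, res_res, mul_smul, ← hv', ← hu']

/-- **a scheme covered by affine loci of sections of positive powers of an invertible module is separated** -/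
theorem isSeparated_of_affine_cover (L : X.Modules) (hL : PicF.IsInvertible L)
    (h : ∀ x : X, ∃ (n : ℕ) (s : Coh.structureModule X ⟶ CohB1.tensorPow L (n + 1)),
      x ∈ CohB1.genLocus _ s ∧ IsAffineOpen (CohB1.genLocus _ s)) :
    X.IsSeparated := by
  refine SepCrit.isSeparated_of_forall_pair X fun x1 x2 => ?_
  obtain ⟨n, s, hx1, hs⟩ := h x1
  obtain ⟨m, t, hx2, ht⟩ := h x2
  obtain ⟨ψ₁, -⟩ := exists_tensorPow_tensorPow_iso hL (n + 1) (m + 1) ((n + 1) * (m + 1)) rfl
  obtain ⟨ψ₂, -⟩ := exists_tensorPow_tensorPow_iso hL (m + 1) (n + 1) ((n + 1) * (m + 1)) (mul_comm _ _)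
  let σ := spow s (m + 1) ≫ ψ₁.hom
  let τ := spow t (n + 1) ≫ ψ₂.hom
  have hσ : CohB1.genLocus _ σ = CohB1.genLocus _ s := by
    rw [genLocus_comp_iso _ ψ₁, genLocus_spow (isInvertible_tensorPow hL (n + 1)) s (m + 1) (Nat.succ_pos m)]
  have hτ : CohB1.genLocus _ τ = CohB1.genLocus _ t := by
    rw [genLocus_comp_iso _ ψ₂, genLocus_spow (isInvertible_tensorPow hL (m + 1)) t (n + 1) (Nat.succ_pos n)]
  obtain ⟨u, v, huB, huv⟩ := exists_pair_functions σ τ
  refine ⟨CohB1.genLocus _ σ, CohB1.genLocus _ τ, u, v, ?_, ?_, ?_, ?_, huB, huv⟩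
  · rw [hσ]; exact hx1
  · rw [hτ]; exact hx2
  · rw [hσ]; exact hs
  · rw [hτ]; exact ht

theorem isSeparated_of_isAmple {L : X.Modules} (hL : CohB1.IsAmple L) : X.IsSeparated :=
  isSeparated_of_affine_cover L hL.1 hL.2.2

end Groth.Agent.Lib.Helper28.GenLocus
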