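import Groth.Agent.Lib.Helper28.AmpleIso
import Groth.Prelude.Def_StMod

/-!
# Invertible modules are quasi-coherent; invertible modules on quasi-affine schemes are ample
-/

set_option autoImplicit false
universe u
open CategoryTheory CategoryTheory.Limits AlgebraicGeometry Opposite TopologicalSpace
noncomputable section

namespace Groth.Agent.Lib.Helper28.InvQC

open Groth.Agent.Lib.Helper28 Groth.Agent.Lib.Helper28.QCohLoc Groth.Agent.Lib.Helper28.GenLocus
  Groth.Agent.Lib.Helper28.AmpleUnit Groth.Agent.Lib.Helper28.AmpleIso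

variable {X : Scheme.{u}}

theorem isLocOn_unit {U : X.Opens} (hU : IsAffineOpen U) : IsLocOn (Coh.structureModule X) U := by
  haveI : (Coh.structureModule X).IsQuasicoherent := StMod.isQCoh_structureModule X
  exact isLocOn_of_isQuasicoherent (Coh.structureModule X) hU

/-- a module with a generator over an affine open has the localization property there -/
theorem isLocOn_of_isGen (L : X.Modules) {U : X.Opens} (hU : IsAffineOpen U) (g : Γ(L, U))
    (hg : IsGen L U g) : IsLocOn L U where
  surj r y := by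
    obtain ⟨c, hc⟩ := (hg (X.basicOpen r) (X.basicOpen_le r)).2 y
    obtain ⟨n, a, ha⟩ := (isLocOn_unit hU).surj r (show Γ(Coh.structureModule X, X.basicOpen r) from c)
    refine ⟨n, ((show Γ(X, U) from a) • g : Γ(L, U)), ?_⟩
    have ha' : (resO (X.basicOpen_le r) r) ^ n * c = resO (X.basicOpen_le r) (show Γ(X, U) from a) := ha
    rw [res_smul, ← ha', mul_smul]
    exact congrArg _ hc.symm
  inj r x hx := by
    obtain ⟨a, ha⟩ := (hg U le_rfl).2 x
    have ha' : (a • g : Γ(L, U)) = x := by
      have : (a • res L (le_refl U) g : Γ(L, U)) = x := ha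
      rwa [res_self] at this
    have h1 : (resO (X.basicOpen_le r) a • res L (X.basicOpen_le r) g : Γ(L, X.basicOpen r)) = 0 := by
      rw [← res_smul, ha']; exact hx
    have h2 : resO (X.basicOpen_le r) a = 0 := by
      apply (hg (X.basicOpen r) (X.basicOpen_le r)).1
      show (resO (X.basicOpen_le r) a • res L (X.basicOpen_le r) g : Γ(L, X.basicOpen r)) =
        ((0 : Γ(X, X.basicOpen r)) • res L (X.basicOpen_le r) g : Γ(L, X.basicOpen r))
      rw [h1, zero_smul]
    obtain ⟨n, hn⟩ := (isLocOn_unit hU).inj r (show Γ(Coh.structureModule X, U) from a) h2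
    refine ⟨n, ?_⟩
    have hn' : r ^ n * a = 0 := hn
    rw [← ha', ← mul_smul, hn', zero_smul]

/-- **invertible modules are quasi-coherent** -/
theorem isQuasicoherent_of_isInvertible (L : X.Modules) (hL : PicF.IsInvertible L) : L.IsQuasicoherent := by
  have h : ∀ x : X, ∃ V : X.Opens, x ∈ V ∧ IsAffineOpen V ∧ ∃ g : Γ(L, V), IsGen L V g := by
    intro x
    obtain ⟨U, g, hxU, hg⟩ := exists_isGen L hL x
    obtain ⟨_, ⟨V, hV, rfl⟩, hxV, hVU⟩ := X.isBasis_affineOpens.exists_subset_of_mem_open hxU U.isOpen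
    exact ⟨V, hxV, hV, res L (show V ≤ U from hVU) g, hg.res _⟩
  choose V hxV hV g hg using h
  refine isQuasicoherent_of_isLocOn L V ?_ hV (fun x => isLocOn_of_isGen L (hV x) (g x) (hg x))
  exact (IsOpenCover.mk (eq_top_iff.2 fun x _ => Opens.mem_iSup.2 ⟨x, hxV x⟩))

/-- the left unit isomorphism `O ⊗ M ≅ M` -/
theorem nonempty_unit_tensor_iso (M : X.Modules) :
    Nonempty (CohB1.tensorMod (Coh.structureModule X) M ≅ M) := by
  refine TensorIso.nonempty_tensorMod_iso (Coh.structureModule X) M M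
    (fun W c m => ((show Γ(X, W) from c) • m : Γ(M, W))) ?_ ?_ ?_ ?_ ?_ (fun _ => True)
    (fun U x hx => ⟨U, trivial, hx, le_rfl⟩) ?_
  · intro W c c' m
    exact add_smul (show Γ(X, W) from c) (show Γ(X, W) from c') m
  · intro W c m m'
    exact smul_add _ _ _
  · intro W a c m
    exact mul_smul a (show Γ(X, W) from c) m
  · intro W a c m
    exact smul_comm _ _ _
  · intro W W' h c m
    exact (res_smul M h (show Γ(X, W) from c) m).symm
  · intro W _
    refine TensorIso.tensorDesc_app_bijective_left _ _ _ _ _ _ _ _ _ W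
      (show Γ(Coh.structureModule X, W) from (1 : Γ(X, W))) ?_ ?_
    · intro c
      exact ⟨(show Γ(X, W) from c), (mul_one (show Γ(X, W) from c)).symm⟩
    · have : (fun m : Γ(M, W) => (((show Γ(X, W) from
          (show Γ(Coh.structureModule X, W) from (1 : Γ(X, W)))) • m : Γ(M, W)))) = id := by
        funext m
        exact one_smul _ m
      rw [this]
      exact Function.bijective_id

theorem ofSection_app_one_eq {L : X.Modules} (σ : Γ(L, ⊤)) (V : X.Opens) :
    (TwistGen.ofSection L σ).app V (show Γ(Coh.structureModule X, V) from (1 : Γ(X, V))) =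
      res L (le_top : V ≤ ⊤) σ :=
  TwistGen.ofSection_app_one L σ V

/-- **an invertible module on a quasi-affine scheme is ample** -/
theorem isAmple_of_isQuasiAffine [X.IsQuasiAffine] (L : X.Modules) (hL : PicF.IsInvertible L) :
    CohB1.IsAmple L := by
  haveI := isQuasicoherent_of_isInvertible L hL
  refine ⟨hL, inferInstance, fun x => ?_⟩
  obtain ⟨U, g, hxU, hg⟩ := exists_isGen L hL x
  obtain ⟨_, ⟨r, hr, rfl⟩, hxr, hrU⟩ :=
    Opens.isBasis_iff_nbhd.1 (Scheme.IsQuasiAffine.isBasis_basicOpen X) (U := U) (x := x) hxU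
  have hgr : IsGen L (X.basicOpen r) (res L hrU g) := hg.res hrU
  obtain ⟨n, σ, hσ⟩ := exists_pow_smul_eq_res_of_qcqs L (U := ⊤) (by simpa using isCompact_univ)
    (by simpa using isQuasiSeparated_univ (α := X)) r (res L hrU g)
  obtain ⟨e⟩ := nonempty_unit_tensor_iso L
  refine ⟨0, TwistGen.ofSection L ((r • σ : Γ(L, ⊤))) ≫ e.inv, ?_⟩
  have h1 : CohB1.genLocus _ (TwistGen.ofSection L ((r • σ : Γ(L, ⊤))) ≫ e.inv) =
      CohB1.genLocus L (TwistGen.ofSection L ((r • σ : Γ(L, ⊤)))) := genLocus_comp_iso _ e.symm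
  have hloc : CohB1.genLocus L (TwistGen.ofSection L ((r • σ : Γ(L, ⊤)))) = X.basicOpen r := by
    apply le_antisymm
    · intro x' hx'
      obtain ⟨U', g', hxU', hg'⟩ := exists_isGen L hL x'
      obtain ⟨a, ha⟩ := (hg' U' le_rfl).2 (res L (le_top : U' ≤ ⊤) σ)
      have ha' : (a • g' : Γ(L, U')) = res L (le_top : U' ≤ ⊤) σ := by
        have : (a • res L (le_refl U') g' : Γ(L, U')) = res L (le_top : U' ≤ ⊤) σ := ha
        rwa [res_self] at this
      have h2 := genLocus_inf_eq_basicOpen (TwistGen.ofSection L ((r • σ : Γ(L, ⊤)))) U' g' hg'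
        (resO (le_top : U' ≤ ⊤) r * a) (by
          rw [ofSection_app_one_eq, res_smul, ← ha', mul_smul])
      have h3 : x' ∈ X.basicOpen (resO (le_top : U' ≤ ⊤) r * a) := by
        rw [← h2]; exact ⟨hx', hxU'⟩
      rw [Scheme.basicOpen_mul] at h3
      have h4 : X.basicOpen (resO (le_top : U' ≤ ⊤) r) = U' ⊓ X.basicOpen r := Scheme.basicOpen_res _ _ _
      rw [h4] at h3
      exact h3.1.2
    · have hu : IsUnit ((resO (X.basicOpen_le r) r) ^ (n + 1)) := (isUnit_ur r).pow (n + 1)
      have h2 := genLocus_inf_eq_basicOpen (TwistGen.ofSection L ((r • σ : Γ(L, ⊤)))) (X.basicOpen r)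
        (res L hrU g) hgr ((resO (X.basicOpen_le r) r) ^ (n + 1)) (by
          rw [ofSection_app_one_eq, res_smul, hσ, ← mul_smul, pow_succ'])
      rw [X.basicOpen_of_isUnit hu] at h2
      exact inf_eq_right.1 h2
  show x ∈ CohB1.genLocus (CohB1.tensorMod (Coh.structureModule X) L)
      (TwistGen.ofSection L ((r • σ : Γ(L, ⊤))) ≫ e.inv) ∧
    IsAffineOpen (CohB1.genLocus (CohB1.tensorMod (Coh.structureModule X) L)
      (TwistGen.ofSection L ((r • σ : Γ(L, ⊤))) ≫ e.inv))
  rw [h1, hloc]
  exact ⟨hxr, hr⟩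

end Groth.Agent.Lib.Helper28.InvQC
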