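import Groth.Agent.Lib.Helper28.FinType

/-!
# A quasi-coherent module with finitely generated sections over an affine cover is of finite type
-/

set_option autoImplicit false
universe u
open CategoryTheory CategoryTheory.Limits AlgebraicGeometry Opposite TopologicalSpace
open AlgebraicGeometry.Scheme.Modules

namespace Groth.Agent.Lib.Helper28.FinType

open Groth.Agent.Lib.Helper28.QCohLoc

section affine

variable {R : CommRingCat.{u}}

/-- generating sections of `M~` from a generating set of `M` -/
noncomputable def generatingSectionsTilde (M : ModuleCat.{u} R) (s : Set M) (hs : Submodule.span R s = ⊤) :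
    (tilde M).GeneratingSections where
  I := s
  s := (tilde M).freeHomEquiv ((tildeFinsupp s).inv ≫
    tilde.map (ModuleCat.ofHom (Finsupp.linearCombination R ((↑) : s → M))))
  epi := by
    rw [Equiv.symm_apply_apply]
    have h1 : Epi (ModuleCat.ofHom (Finsupp.linearCombination R ((↑) : s → M))) := by
      rw [ModuleCat.epi_iff_surjective]
      rw [← LinearMap.range_eq_top]
      change LinearMap.range (Finsupp.linearCombination R ((↑) : s → M)) = ⊤
      rw [Finsupp.range_linearCombination]
      simpa using hs
    have h2 : Epi (tilde.map (ModuleCat.ofHom (Finsupp.linearCombination R ((↑) : s → M)))) :=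
      (tilde.functor R).map_epi _
    exact @epi_comp _ _ _ _ _ (tildeFinsupp s).inv inferInstance _ h2

end affine


section affine2

variable {R : CommRingCat.{u}}

/-- a quasi-coherent module on an affine scheme with finitely generated global sections is generated by finitely many
sections -/
theorem exists_generatingSections_of_finite (N : (Spec R).Modules) [N.IsQuasicoherent]
    (hfin : Module.Finite R (moduleSpecΓFunctor.obj N)) :
    ∃ σ : N.GeneratingSections, σ.IsFiniteType := by
  obtain ⟨t, ht⟩ := hfin
  let σ0 := generatingSectionsTilde (moduleSpecΓFunctor.obj N) (t : Set (moduleSpecΓFunctor.obj N)) ht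
  haveI : σ0.IsFiniteType := ⟨(inferInstance : Finite (t : Set (moduleSpecΓFunctor.obj N)))⟩
  have hiso : IsIso N.fromTildeΓ := inferInstance
  have hepi : Epi N.fromTildeΓ := inferInstance
  exact ⟨@SheafOfModules.GeneratingSections.ofEpi _ _ _ _ _ _ _ _ σ0 N.fromTildeΓ hepi, inferInstance⟩

end affine2

variable {X : Scheme.{u}} (M : X.Modules)

theorem finite_fromSpec_of_finite {U : X.Opens} (hU : IsAffineOpen U) (hfin : Module.Finite Γ(X, U) Γ(M, U)) :
    Module.Finite Γ(X, U) (moduleSpecΓFunctor.obj (M.restrict hU.fromSpec)) := by
  have hle : U ≤ hU.fromSpec ''ᵁ ⊤ := by rw [Scheme.Hom.image_top_eq_opensRange, hU.opensRange_fromSpec]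
  have hge : hU.fromSpec ''ᵁ ⊤ ≤ U := image_le hU ⊤
  let ℓ : Γ(M, U) →ₗ[Γ(X, U)] (moduleSpecΓFunctor.obj (M.restrict hU.fromSpec)) :=
    { toFun := fun x => (show Γ(M.restrict hU.fromSpec, ⊤) from res M hge x)
      map_add' := fun y y' => res_add M hge _ _
      map_smul' := fun a x => by
        have h3 := smul_restrict_eq M hU ⊤ hge a (show Γ(M.restrict hU.fromSpec, ⊤) from res M hge x)
        refine (res_smul M hge a x).trans ?_
        exact h3.symm }
  refine Module.Finite.of_surjective ℓ fun y => ⟨res M hle (show Γ(M, hU.fromSpec ''ᵁ ⊤) from y), ?_⟩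
  change res M hge (res M hle (show Γ(M, hU.fromSpec ''ᵁ ⊤) from y)) = _
  rw [res_res, res_self]

set_option backward.isDefEq.respectTransparency false in
/-- generating sections of `M` restricted along `fromSpec` give generating sections of `M|_U` -/
noncomputable def generatingSectionsOfFromSpec {U : X.Opens} (hU : IsAffineOpen U)
    (σ : (M.restrict hU.fromSpec).GeneratingSections) : (M.restrict U.ι).GeneratingSections :=
  let iso : (M.restrict hU.fromSpec).restrict hU.isoSpec.hom ≅ M.restrict U.ι :=
    ((restrictFunctorComp hU.isoSpec.hom hU.fromSpec).app M).symm ≪≫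
      (restrictFunctorCongr hU.isoSpec_hom_fromSpec).app M
  have : PreservesColimitsOfSize.{u, u} (restrictFunctor hU.isoSpec.hom) := inferInstance
  (σ.map (restrictFunctor hU.isoSpec.hom) (Scheme.Modules.restrictUnitIso _).symm).ofEpi iso.hom

set_option backward.isDefEq.respectTransparency false in
instance {U : X.Opens} (hU : IsAffineOpen U) (σ : (M.restrict hU.fromSpec).GeneratingSections) [σ.IsFiniteType] :
    (generatingSectionsOfFromSpec M hU σ).IsFiniteType := by
  have : PreservesColimitsOfSize.{u, u} (restrictFunctor hU.isoSpec.hom) := inferInstance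
  unfold generatingSectionsOfFromSpec
  infer_instance

/-- from generating sections of the restriction `M|_U` to generating sections of `M.over U` -/
noncomputable def generatingSectionsOver (U : X.Opens) (σ : (M.restrict U.ι).GeneratingSections) :
    (SheafOfModules.over M U).GeneratingSections :=
  let e := overEquiv U
  let iso2 : e.inverse.obj (M.restrict U.ι) ≅ SheafOfModules.over M U :=
    e.inverse.mapIso ((overFunctorEquiv U).app M).symm ≪≫ (e.unitIso.app (SheafOfModules.over M U)).symm
  (σ.map e.inverse (U.sheafOfModulesEquivOverInverseUnit X.ringCatSheaf).symm).ofEpi iso2.hom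

instance (U : X.Opens) (σ : (M.restrict U.ι).GeneratingSections) [σ.IsFiniteType] :
    (generatingSectionsOver M U σ).IsFiniteType := by
  unfold generatingSectionsOver
  infer_instance

/-- A module whose restrictions to the members of an open cover are generated by finitely many sections is of finite
type. -/
theorem isFiniteType_of_generatingSections_cover {ι : Type u} (U : ι → X.Opens) (hcov : IsOpenCover U)
    (σ : ∀ i, (M.restrict (U i).ι).GeneratingSections) [∀ i, (σ i).IsFiniteType] :
    SheafOfModules.IsFiniteType.{u} (R := X.ringCatSheaf) M := by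
  let q : SheafOfModules.LocalGeneratorsData.{u} M :=
    { I := ι
      X := U
      coversTop := by rw [Opens.coversTop_iff]; exact hcov
      generators := fun i => generatingSectionsOver M (U i) (σ i) }
  have hq : q.IsFiniteType :=
    { isFiniteType := fun i => (inferInstance : (generatingSectionsOver M (U i) (σ i)).IsFiniteType) }
  constructor
  exact ⟨q, hq⟩

/-- **A quasi-coherent module whose sections over the members of an affine open cover are finitely generated is of
finite type.** -/
theorem isFiniteType_of_finite_cover [M.IsQuasicoherent] {ι : Type u} (U : ι → X.Opens) (hcov : IsOpenCover U)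
    (hU : ∀ i, IsAffineOpen (U i)) (hfin : ∀ i, Module.Finite Γ(X, U i) Γ(M, U i)) :
    SheafOfModules.IsFiniteType.{u} (R := X.ringCatSheaf) M := by
  have h1 : ∀ i, ∃ σ : (M.restrict (hU i).fromSpec).GeneratingSections, σ.IsFiniteType := fun i =>
    exists_generatingSections_of_finite (R := Γ(X, U i)) _ (finite_fromSpec_of_finite M (hU i) (hfin i))
  choose σ hσ using h1
  haveI : ∀ i, (generatingSectionsOfFromSpec M (hU i) (σ i)).IsFiniteType := fun i => by
    haveI := hσ i
    infer_instance
  exact isFiniteType_of_generatingSections_cover M U hcov fun i => generatingSectionsOfFromSpec M (hU i) (σ i)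

end Groth.Agent.Lib.Helper28.FinType
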