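import Groth.Agent.Lib.Helper28.GenLocus

/-!
# `M ⊗ O ≅ M`, tensor powers of the structure sheaf, and ampleness of the structure sheaf
-/

set_option autoImplicit false
universe u
open CategoryTheory CategoryTheory.Limits AlgebraicGeometry Opposite TopologicalSpace
noncomputable section

namespace Groth.Agent.Lib.Helper28.AmpleUnit

open Groth.Agent.Lib.Helper28 Groth.Agent.Lib.Helper28.QCohLoc Groth.Agent.Lib.Helper28.GenLocus

variable {X : Scheme.{u}}

/-- the right unit isomorphism `M ⊗ O ≅ M` -/
theorem nonempty_tensor_unit_iso (M : X.Modules) :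
    Nonempty (CohB1.tensorMod M (Coh.structureModule X) ≅ M) := by
  refine TensorIso.nonempty_tensorMod_iso M (Coh.structureModule X) M
    (fun W m c => ((show Γ(X, W) from c) • m : Γ(M, W))) ?_ ?_ ?_ ?_ ?_ (fun _ => True)
    (fun U x hx => ⟨U, trivial, hx, le_rfl⟩) ?_
  · intro W m m' c
    exact smul_add _ _ _
  · intro W m c c'
    exact add_smul (show Γ(X, W) from c) (show Γ(X, W) from c') m
  · intro W a m c
    exact smul_comm _ _ _
  · intro W a m c
    exact mul_smul a (show Γ(X, W) from c) m
  · intro W W' h m c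
    exact (res_smul M h (show Γ(X, W) from c) m).symm
  · intro W _
    refine TensorIso.tensorDesc_app_bijective_right _ _ _ _ _ _ _ _ _ W
      (show Γ(Coh.structureModule X, W) from (1 : Γ(X, W))) ?_ ?_
    · intro c
      exact ⟨(show Γ(X, W) from c), (mul_one (show Γ(X, W) from c)).symm⟩
    · have : (fun m : Γ(M, W) => (((show Γ(X, W) from
          (show Γ(Coh.structureModule X, W) from (1 : Γ(X, W)))) • m : Γ(M, W)))) = id := by
        funext m
        exact one_smul _ m
      rw [this]
      exact Function.bijective_id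

/-- tensor powers of the structure sheaf are trivial -/
theorem nonempty_tensorPow_unit_iso (X : Scheme.{u}) (n : ℕ) :
    Nonempty (CohB1.tensorPow (Coh.structureModule X) n ≅ Coh.structureModule X) := by
  induction n with
  | zero => exact ⟨Iso.refl _⟩
  | succ n ih =>
    obtain ⟨e⟩ := ih
    obtain ⟨t⟩ := nonempty_tensor_unit_iso (CohB1.tensorPow (Coh.structureModule X) n)
    exact ⟨t ≪≫ e⟩

theorem isInvertible_structureModule (X : Scheme.{u}) : PicF.IsInvertible (Coh.structureModule X) :=
  fun y => ⟨⊤, trivial, ⟨Scheme.Modules.restrictUnitIso (⊤ : X.Opens).ι⟩⟩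

theorem genLocus_comp_iso {L L' : X.Modules} (s : Coh.structureModule X ⟶ L) (e : L ≅ L') :
    CohB1.genLocus L' (s ≫ e.hom) = CohB1.genLocus L s := by
  ext x
  show x ∈ CohB1.genLocus L' (s ≫ e.hom) ↔ x ∈ CohB1.genLocus L s
  rw [mem_genLocus_iff, mem_genLocus_iff]
  refine exists_congr fun U => and_congr_right fun _ => forall_congr' fun W => forall_congr' fun _ => ?_
  have hfun : ((s ≫ e.hom).app W : Γ(Coh.structureModule X, W) → Γ(L', W)) =
      (e.hom.app W : Γ(L, W) → Γ(L', W)) ∘ (s.app W : Γ(Coh.structureModule X, W) → Γ(L, W)) := rfl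
  rw [hfun]
  exact Function.Bijective.of_comp_iff' (app_bijective_of_isIso e.hom W) _

theorem isGen_one (X : Scheme.{u}) :
    IsGen (Coh.structureModule X) ⊤ (show Γ(Coh.structureModule X, ⊤) from (1 : Γ(X, ⊤))) := by
  intro W hW
  have : (fun c : Γ(X, W) => (c • res (Coh.structureModule X) hW
      (show Γ(Coh.structureModule X, ⊤) from (1 : Γ(X, ⊤))) : Γ(Coh.structureModule X, W))) = id := by
    funext c
    have h1 : res (Coh.structureModule X) hW (show Γ(Coh.structureModule X, ⊤) from (1 : Γ(X, ⊤))) =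
        (show Γ(Coh.structureModule X, W) from (1 : Γ(X, W))) :=
      map_one (X.presheaf.map (homOfLE hW).op).hom
    rw [h1]
    exact mul_one c
  rw [this]
  exact Function.bijective_id

/-- the locus where an endomorphism of the structure sheaf generates is the basic open of the image of `1` -/
theorem genLocus_unit (s : Coh.structureModule X ⟶ Coh.structureModule X) :
    CohB1.genLocus (Coh.structureModule X) s =
      X.basicOpen (show Γ(X, ⊤) from s.app ⊤ (show Γ(Coh.structureModule X, ⊤) from (1 : Γ(X, ⊤)))) := by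
  have h := genLocus_inf_eq_basicOpen s ⊤ _ (isGen_one X)
    (show Γ(X, ⊤) from s.app ⊤ (show Γ(Coh.structureModule X, ⊤) from (1 : Γ(X, ⊤))))
    (mul_one (show Γ(X, ⊤) from s.app ⊤ (show Γ(Coh.structureModule X, ⊤) from (1 : Γ(X, ⊤))))).symm
  rw [inf_top_eq] at h
  exact h

theorem isQuasiAffine_iff_isAmple_unit (X : Scheme.{u}) [CompactSpace X] :
    X.IsQuasiAffine ↔ CohB1.IsAmple (Coh.structureModule X) := by
  constructor
  · intro hQ
    refine ⟨isInvertible_structureModule X, inferInstance, ?_⟩
    intro x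
    obtain ⟨_, ⟨r, hr, rfl⟩, hxr, -⟩ :=
      Opens.isBasis_iff_nbhd.1 (Scheme.IsQuasiAffine.isBasis_basicOpen X) (U := ⊤) (x := x) trivial
    obtain ⟨e⟩ := nonempty_tensorPow_unit_iso X (0 + 1)
    let σ : Coh.structureModule X ⟶ Coh.structureModule X :=
      TwistGen.ofSection (Coh.structureModule X) (show Γ(Coh.structureModule X, ⊤) from r)
    refine ⟨0, σ ≫ e.inv, ?_⟩
    have h1 : CohB1.genLocus _ (σ ≫ e.inv) = CohB1.genLocus _ σ := genLocus_comp_iso σ e.symm
    have h2 : σ.app ⊤ (show Γ(Coh.structureModule X, ⊤) from (1 : Γ(X, ⊤))) = r := by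
      have := TwistGen.ofSection_app_one (Coh.structureModule X) (show Γ(Coh.structureModule X, ⊤) from r) ⊤
      rw [res_self] at this
      exact this
    rw [h1, genLocus_unit, h2]
    exact ⟨hxr, hr⟩
  · intro hA
    obtain ⟨-, -, hA⟩ := hA
    refine Scheme.IsQuasiAffine.of_forall_exists_mem_basicOpen X fun x => ?_
    obtain ⟨n, s, hxs, hs⟩ := hA x
    obtain ⟨e⟩ := nonempty_tensorPow_unit_iso X (n + 1)
    have h1 : CohB1.genLocus _ (s ≫ e.hom) = CohB1.genLocus _ s := genLocus_comp_iso s e
    rw [← h1, genLocus_unit] at hxs hs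
    exact ⟨_, hs, hxs⟩

end Groth.Agent.Lib.Helper28.AmpleUnit
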