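import Groth.Agent.Lib.Helper28.VeryAmpleLocal

/-!
# Quasi-projective versus H-quasi-projective (helper28)
-/

set_option autoImplicit false
universe u
open CategoryTheory CategoryTheory.Limits AlgebraicGeometry Opposite TopologicalSpace
noncomputable section

namespace Groth.Agent.Lib.Helper28.VeryAmpleQP

open Groth.Agent.Lib.Helper28 Groth.Agent.Lib.Helper28.QCohLoc Groth.Agent.Lib.Helper28.GenLocus
  Groth.Agent.Lib.Helper28.PullbackInv Groth.Agent.Lib.Helper28.ProjUPUniq Groth.Agent.Lib.Helper28.ProjUPGeom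
  Groth.Agent.Lib.Helper28.VeryAmpleImm Groth.Agent.Lib.Helper28.VeryAmpleGen
  Groth.Agent.Lib.Helper28.VeryAmpleConv Groth.Agent.Lib.Helper28.VeryAmpleLocal

theorem isHQuasiProjective_of_arrow_iso {X₁ S₁ X₂ S₂ : Scheme.{u}} (f₁ : X₁ ⟶ S₁) (f₂ : X₂ ⟶ S₂)
    (e : Arrow.mk f₁ ≅ Arrow.mk f₂) (h : RelProj.IsHQuasiProjective f₁) : RelProj.IsHQuasiProjective f₂ := by
  obtain ⟨n, i, hi, hqc, hcomp⟩ := h
  have ha : IsIso e.hom.left := inferInstance
  have hb : IsIso e.hom.right := inferInstance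
  have hw : e.hom.left ≫ f₂ = f₁ ≫ e.hom.right := e.hom.w
  let m : CohB1.ProjSpaceOver n S₁ ⟶ CohB1.ProjSpaceOver n S₂ :=
    pullback.map (CohB1.ProjSpace.toSpec n (ULift.{u} ℤ)) (specULiftZIsTerminal.from S₁)
      (CohB1.ProjSpace.toSpec n (ULift.{u} ℤ)) (specULiftZIsTerminal.from S₂) (𝟙 _) e.hom.right (𝟙 _)
      (by simp) (specULiftZIsTerminal.hom_ext _ _)
  have hm : IsIso m := by
    show IsIso (pullback.map _ _ _ _ _ _ _ _ _)
    infer_instance
  have hm2 : m ≫ CohB1.ProjSpaceOver.toBase n S₂ = CohB1.ProjSpaceOver.toBase n S₁ ≫ e.hom.right :=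
    pullback.lift_snd _ _ _
  refine ⟨n, inv e.hom.left ≫ i ≫ m, inferInstance, inferInstance, ?_⟩
  rw [Category.assoc, Category.assoc, hm2, ← Category.assoc i, hcomp, IsIso.inv_comp_eq, hw]

variable {X S : Scheme.{u}}

/-- a quasi-compact morphism locally of finite type with an ample module on the source is
H-quasi-projective -/
theorem isHQuasiProjective_of_isAmple (f : X ⟶ S) [LocallyOfFiniteType f] [QuasiCompact f]
    {L : X.Modules} (hL : CohB1.IsAmple L) : RelProj.IsHQuasiProjective f := by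
  obtain ⟨n₀, hn₀⟩ := exists_forall_isRelVeryAmplePn_gen f hL hL.1
  obtain ⟨N, i, hi, hiq, -⟩ := hn₀ n₀ le_rfl
  have hprop2 := ProjSpaceBasic.isProper_toBase N S
  have hqc : QuasiCompact i := by
    have h1 : QuasiCompact (i ≫ CohB1.ProjSpaceOver.toBase N S) := by
      show QuasiCompact (i ≫ pullback.snd _ _)
      rw [hiq]; infer_instance
    exact QuasiCompact.of_comp i (CohB1.ProjSpaceOver.toBase N S)
  exact ⟨N, i, hi, hqc, hiq⟩

theorem isQuasiProjective_of_isHQuasiProjective (f : X ⟶ S) (h : RelProj.IsHQuasiProjective f) :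
    RelProj.IsQuasiProjective f := by
  obtain ⟨n, i, hi, hqc, hcomp⟩ := h
  have hprop2 := ProjSpaceBasic.isProper_toBase n S
  subst hcomp
  refine ⟨inferInstance, inferInstance, (Scheme.Modules.pullback i).obj (Twist.twistOver n S 1), ?_⟩
  exact isRelAmple_of_isRelVeryAmplePn _ ⟨n, i, hi, rfl, ⟨Iso.refl _⟩⟩

set_option maxHeartbeats 800000 in
theorem locally_quasiProjective_iff (f : X ⟶ S) :
    (∀ s : S, ∃ U : S.Opens, s ∈ U ∧ RelProj.IsQuasiProjective (f ∣_ U)) ↔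
      (∀ s : S, ∃ U : S.Opens, s ∈ U ∧ RelProj.IsHQuasiProjective (f ∣_ U)) := by
  constructor
  · intro h s
    obtain ⟨U, hsU, hlft, hqc, L, hL⟩ := h s
    -- an affine open of `U` around `s`
    obtain ⟨V', hV', hsV', -⟩ := Opens.isBasis_iff_nbhd.1 (U : Scheme.{u}).isBasis_affineOpens
      (U := ⊤) (x := (⟨s, hsU⟩ : U)) trivial
    have hA : CohB1.IsAmple (L.restrict ((f ∣_ U) ⁻¹ᵁ V').ι) := hL.2 ⟨V', hV'⟩
    have h1 : RelProj.IsHQuasiProjective (f ∣_ U ∣_ V') := isHQuasiProjective_of_isAmple _ hA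
    refine ⟨U.ι ''ᵁ V', ⟨⟨s, hsU⟩, hsV', rfl⟩, ?_⟩
    exact isHQuasiProjective_of_arrow_iso _ _ (morphismRestrictRestrict f U V') h1
  · intro h s
    obtain ⟨U, hsU, hU⟩ := h s
    exact ⟨U, hsU, isQuasiProjective_of_isHQuasiProjective _ hU⟩

end Groth.Agent.Lib.Helper28.VeryAmpleQP
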