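import Groth.Prelude.Def_CohB1
import Mathlib.AlgebraicGeometry.ProjectiveSpectrum.Proper

/-!
# Basic properties of the projective spaces `CohB1.ProjSpace`, `CohB1.ProjSpaceOver` (helper28)
-/

set_option autoImplicit false
open CategoryTheory CategoryTheory.Limits AlgebraicGeometry
universe u
noncomputable section

namespace Groth.Agent.Lib.Helper28.ProjSpaceBasic

theorem finiteType_zero (n : ℕ) (R : Type u) [CommRing R] :
    Algebra.FiniteType (CohB1.polyGrading n R 0) (MvPolynomial (Fin (n + 1)) R) := by
  have : IsScalarTower R (CohB1.polyGrading n R 0) (MvPolynomial (Fin (n + 1)) R) :=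
    ⟨fun r s a => by
      change ((r • s : CohB1.polyGrading n R 0) : MvPolynomial (Fin (n + 1)) R) * a =
        r • ((s : MvPolynomial (Fin (n + 1)) R) * a)
      rw [Submodule.coe_smul, smul_mul_assoc]⟩
  exact Algebra.FiniteType.of_restrictScalars_finiteType R _ _

theorem algebraMap_zero_surjective (n : ℕ) (R : Type u) [CommRing R] :
    Function.Surjective (algebraMap R (CohB1.polyGrading n R 0)) := by
  rintro ⟨x, hx⟩
  have hx' : x ∈ (1 : Submodule R (MvPolynomial (Fin (n + 1)) R)) := by
    rw [← MvPolynomial.homogeneousSubmodule_zero]; exact hx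
  obtain ⟨r, hr⟩ := Submodule.mem_one.mp hx'
  exact ⟨r, Subtype.ext hr⟩

set_option backward.isDefEq.respectTransparency false in
theorem isProper_toSpec (n : ℕ) (R : Type u) [CommRing R] : IsProper (CohB1.ProjSpace.toSpec n R) := by
  have := finiteType_zero n R
  have h2 : IsClosedImmersion (Spec.map (CommRingCat.ofHom (algebraMap R (CohB1.polyGrading n R 0)))) :=
    IsClosedImmersion.spec_of_surjective _ (algebraMap_zero_surjective n R)
  unfold CohB1.ProjSpace.toSpec
  infer_instance

theorem isProper_toBase (n : ℕ) (S : Scheme.{u}) : IsProper (CohB1.ProjSpaceOver.toBase n S) := by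
  unfold CohB1.ProjSpaceOver.toBase
  exact MorphismProperty.of_isPullback (P := @IsProper) (IsPullback.of_hasPullback _ _)
    (isProper_toSpec n (ULift.{u} ℤ))

end Groth.Agent.Lib.Helper28.ProjSpaceBasic
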