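import Groth.Agent.Lib.Helper28.ProjClosed
import Groth.Agent.Lib.Helper28.ProjMapG

set_option autoImplicit false
universe u
open CategoryTheory CategoryTheory.Limits AlgebraicGeometry Opposite TopologicalSpace
open HomogeneousLocalization
noncomputable section

namespace Groth.Agent.Lib.Helper28.ProjClosed

open Groth.Agent.Lib.Helper28

variable {R A : Type u} [CommRing R] [CommRing A] [Algebra R A] {𝒜 : ℕ → Submodule R A}
  [GradedAlgebra 𝒜]

section kernel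
variable {Z : Scheme.{u}} (i : Z ⟶ Proj 𝒜) (s : Finset A) (hs1 : ∀ f ∈ s, f ∈ 𝒜 1)

theorem loc_mono {g h : A} (hg : g ∈ 𝒜 1) (hh : h ∈ 𝒜 1) {n : ℕ} {a : A}
    (ha : a ∈ 𝒜 n) {N₀ N : ℕ} (hN : N₀ ≤ N)
    (h0 : θ i h (fr 𝒜 hh (N₀ + n) (g ^ N₀ * a)) = 0) :
    θ i h (fr 𝒜 hh (N + n) (g ^ N * a)) = 0 := by
  have hgk : ∀ k, g ^ k ∈ 𝒜 k := fun k => by
    have := SetLike.pow_mem_graded k hg
    rwa [smul_eq_mul, mul_one] at this
  obtain ⟨k, rfl⟩ := Nat.exists_eq_add_of_le hN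
  have e1 : g ^ (N₀ + k) * a = g ^ k * (g ^ N₀ * a) := by ring
  have e2 : N₀ + k + n = k + (N₀ + n) := by ring
  rw [e1, e2, fr_mul_of_mem 𝒜 hh (hgk k) (SetLike.mul_mem_graded (hgk N₀) ha), map_mul, h0,
    mul_zero]

include hs1 in
/-- membership in `I` of `g^N a` for large `N`, if `a / g^n` dies on `Z ∩ D₊(g)` -/
theorem exists_pow_mul_mem_I [QuasiCompact i] {g : A} (hg : g ∈ 𝒜 1) {n : ℕ} {a : A}
    (ha : a ∈ 𝒜 n) (h0 : θ i g (fr 𝒜 hg n a) = 0) :
    ∃ N : ℕ, g ^ N * a ∈ I i (s : Set A) := by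
  classical
  have hgk : ∀ k, g ^ k ∈ 𝒜 k := fun k => by
    have := SetLike.pow_mem_graded k hg
    rwa [smul_eq_mul, mul_one] at this
  have hex : ∀ h : s, ∃ N : ℕ, θ i h.1 (fr 𝒜 (hs1 h.1 h.2) (N + n) (g ^ N * a)) = 0 :=
    fun h => loc i hg (hs1 h.1 h.2) ha h0
  choose Nf hNf using hex
  refine ⟨Finset.univ.sup Nf, ?_⟩
  refine mem_I_of_mem i (s : Set A) (SetLike.mul_mem_graded (hgk _) ha) fun h hh hhs => ?_
  exact loc_mono i hg hh ha (Finset.le_sup (f := Nf) (Finset.mem_univ ⟨h, hhs⟩)) (hNf ⟨h, hhs⟩)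

/-- the graded quotient ring -/
abbrev ℬ (i : Z ⟶ Proj 𝒜) (s : Set A) : ℕ → Submodule R (A ⧸ I i s) := GrQuotRing.piece 𝒜 (I i s)

instance instGradedAlgebraℬ (i : Z ⟶ Proj 𝒜) (s : Set A) : GradedAlgebra (ℬ i s) :=
  GrQuotRing.gradedAlgebra 𝒜 (I_isHomogeneous i s)

/-- the graded quotient map -/
abbrev φ (i : Z ⟶ Proj 𝒜) (s : Set A) : 𝒜 →+*ᵍ ℬ i s := GrQuotRing.quotHom 𝒜

include hs1 in
theorem map_eq_zero_iff [QuasiCompact i] {g : A} (hg : g ∈ 𝒜 1) (hgs : g ∈ s) (q : Away 𝒜 g) :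
    Away.map (φ i (s : Set A)) g q = 0 ↔ θ i g q = 0 := by
  obtain ⟨n, a, ha, rfl⟩ := fr_surjective 𝒜 hg q
  have hgk : ∀ k, g ^ k ∈ 𝒜 k := fun k => by
    have := SetLike.pow_mem_graded k hg
    rwa [smul_eq_mul, mul_one] at this
  have key : Away.map (φ i (s : Set A)) g (fr 𝒜 hg n a) = 0 ↔ ∃ N : ℕ, g ^ N * a ∈ I i (s : Set A) := by
    rw [fr_of_mem 𝒜 hg ha, Away.map_mk, ← (HomogeneousLocalization.val_injective _).eq_iff,
      Away.val_mk, HomogeneousLocalization.val_zero, Localization.mk_eq_mk',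
      IsLocalization.mk'_eq_zero_iff]
    constructor
    · rintro ⟨⟨_, N, rfl⟩, hN⟩
      refine ⟨N, ?_⟩
      rw [← Ideal.Quotient.eq_zero_iff_mem, map_mul, map_pow]
      exact hN
    · rintro ⟨N, hN⟩
      refine ⟨⟨_, N, rfl⟩, ?_⟩
      rw [← Ideal.Quotient.eq_zero_iff_mem, map_mul, map_pow] at hN
      exact hN
  rw [key]
  constructor
  · rintro ⟨N, hN⟩
    have := (mem_I_iff i (s : Set A) _).1 hN (N + n) g hg hgs
    rwa [fr_pow_mul 𝒜 hg N ha] at this
  · intro h0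
    exact exists_pow_mul_mem_I i s hs1 hg ha h0

theorem φ_surjective : Function.Surjective (φ i (s : Set A)) := GrQuotRing.quotHom_surjective 𝒜

theorem irrelevant_le_map {B : Type u} [CommRing B] [Algebra R B] {ℬ' : ℕ → Submodule R B}
    [GradedAlgebra ℬ'] (ψ : 𝒜 →+*ᵍ ℬ') (hψ : Function.Surjective ψ) :
    HomogeneousIdeal.irrelevant ℬ' ≤ (HomogeneousIdeal.irrelevant 𝒜).map ψ := by
  intro x hx
  obtain ⟨a, rfl⟩ := hψ x
  have hx' := (HomogeneousIdeal.mem_irrelevant_iff ℬ' (ψ a)).1 hx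
  rw [GradedRing.proj_apply] at hx'
  have e : ψ a = ψ (a - (DirectSum.decompose 𝒜 a 0 : A)) := by
    rw [map_sub, GradedRingHom.map_directSumDecompose, hx', sub_zero]
  rw [e]
  refine Ideal.mem_map_of_mem _ ?_
  change _ ∈ HomogeneousIdeal.irrelevant 𝒜
  rw [HomogeneousIdeal.mem_irrelevant_iff, GradedRing.proj_apply, DirectSum.decompose_sub,
    DirectSum.sub_apply, Submodule.coe_sub, DirectSum.decompose_coe, DirectSum.of_eq_same, sub_self]

theorem map_app_awayToSection {B : Type u} [CommRing B] [Algebra R B] {ℬ' : ℕ → Submodule R B}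
    [GradedAlgebra ℬ'] (ψ : 𝒜 →+*ᵍ ℬ')
    (hψ : HomogeneousIdeal.irrelevant ℬ' ≤ (HomogeneousIdeal.irrelevant 𝒜).map ψ)
    {g : A} (hg : g ∈ 𝒜 1) (q : Away 𝒜 g) :
    ((Proj.map ψ hψ).app (Proj.basicOpen 𝒜 g)).hom ((Proj.awayToSection 𝒜 g).hom q) =
      (Proj.awayToSection ℬ' (ψ g)).hom (Away.map ψ g q) := by
  have h1 := Proj.awayToSection_comp_appLE ψ hψ hg
  have h2 := congrArg (fun χ => χ.hom q) h1
  simp only [CommRingCat.hom_comp, RingHom.comp_apply, CommRingCat.hom_ofHom] at h2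
  rw [← h2, Scheme.Hom.app_eq_appLE]
  rfl

include hs1 in
theorem ker_eq [IsClosedImmersion i]
    (hs : (HomogeneousIdeal.irrelevant 𝒜).toIdeal = Ideal.span (s : Set A)) :
    (Proj.map (φ i (s : Set A)) (irrelevant_le_map _ (φ_surjective i s))).ker = i.ker := by
  have : IsClosedImmersion (Proj.map (φ i (s : Set A)) (irrelevant_le_map _ (φ_surjective i s))) :=
    ProjMapG.isClosedImmersion_map _ _ (φ_surjective i s)
  refine Scheme.IdealSheafData.ext_of_iSup_eq_top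
    (fun g : s => (⟨Proj.basicOpen 𝒜 g.1,
      Proj.isAffineOpen_basicOpen 𝒜 g.1 (hs1 g.1 g.2) Nat.one_pos⟩ : (Proj 𝒜).affineOpens))
    ?_ (fun g => ?_)
  · apply Proj.iSup_basicOpen_eq_top 𝒜 (fun g : s => g.1)
    rw [hs]
    apply Ideal.span_mono
    intro x hx
    exact ⟨⟨x, hx⟩, rfl⟩
  · rw [Scheme.Hom.ker_apply, Scheme.Hom.ker_apply]
    ext x
    rw [RingHom.mem_ker, RingHom.mem_ker]
    have hg := hs1 g.1 g.2
    obtain ⟨q, rfl⟩ := (ConcreteCategory.bijective_of_isIso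
      (Proj.basicOpenIsoAway 𝒜 g.1 hg Nat.one_pos).hom).2 x
    have hinj := (ConcreteCategory.bijective_of_isIso
      (Proj.basicOpenIsoAway (ℬ i (s : Set A)) (φ i (s : Set A) g.1)
        ((φ i (s : Set A)).map_mem hg) Nat.one_pos).hom).1
    rw [Proj.basicOpenIsoAway_hom]
    change ((Proj.map (φ i (s : Set A)) _).app (Proj.basicOpen 𝒜 g.1)).hom _ = 0 ↔
      (i.app (Proj.basicOpen 𝒜 g.1)).hom _ = 0
    rw [map_app_awayToSection _ _ hg, ← θ_apply, ← map_eq_zero_iff i s hs1 hg g.2 q]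
    constructor
    · intro h
      apply hinj
      rw [Proj.basicOpenIsoAway_hom]
      exact h.trans (map_zero _).symm
    · intro h
      rw [h]
      exact map_zero _

include hs1 in
/-- **A closed subscheme of `Proj 𝒜` is `Proj` of a graded quotient** (`𝒜₊` generated by finitely
many elements of degree one). -/
theorem exists_iso [IsClosedImmersion i]
    (hs : (HomogeneousIdeal.irrelevant 𝒜).toIdeal = Ideal.span (s : Set A)) :
    ∃ e : Z ≅ Proj (ℬ i (s : Set A)),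
      e.hom ≫ Proj.map (φ i (s : Set A)) (irrelevant_le_map _ (φ_surjective i s)) = i := by
  have hcl : IsClosedImmersion
      (Proj.map (φ i (s : Set A)) (irrelevant_le_map _ (φ_surjective i s))) :=
    ProjMapG.isClosedImmersion_map _ _ (φ_surjective i s)
  have hk := ker_eq i s hs1 hs
  have hiso := IsClosedImmersion.isIso_lift
    (Proj.map (φ i (s : Set A)) (irrelevant_le_map _ (φ_surjective i s))) i hk
  exact ⟨asIso (IsClosedImmersion.lift
    (Proj.map (φ i (s : Set A)) (irrelevant_le_map _ (φ_surjective i s))) i hk.le),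
    IsClosedImmersion.lift_fac _ _ _⟩

end kernel

end Groth.Agent.Lib.Helper28.ProjClosed
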