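import Groth.Agent.Lib.Helper28.Segre4

/-!
# The Segre morphism is a closed immersion (helper28)
-/

set_option autoImplicit false
universe u
open CategoryTheory CategoryTheory.Limits AlgebraicGeometry Opposite TopologicalSpace
open HomogeneousLocalization TensorProduct

noncomputable section

namespace Groth.Agent.Lib.Helper28.Segre5

open Groth.Agent.Lib.Helper28.ProjClosed (fr fr_of_mem)
open Groth.Agent.Lib.Helper28.Segre2
open Groth.Agent.Lib.Helper28.Segre3
open Groth.Agent.Lib.Helper28.Segre4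

attribute [local instance] MvPolynomial.gradedAlgebra

section gen

variable {R A : Type u} [CommRing R] [CommRing A] [Algebra R A] (𝒜 : ℕ → Submodule R A)
  [GradedAlgebra 𝒜]

theorem irrelevant_le_span {ι : Type*} (f : ι → A) (hfn : ∀ i, f i ∈ 𝒜 1)
    (hf : Algebra.adjoin R (Set.range f) = ⊤) :
    (HomogeneousIdeal.irrelevant 𝒜).toIdeal ≤ Ideal.span (Set.range f) := by
  intro x hx
  have h0 : x - GradedRing.projZeroRingHom 𝒜 x = x := by
    rw [GradedRing.projZeroRingHom_apply, ← GradedRing.proj_apply,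
      (HomogeneousIdeal.mem_irrelevant_iff _ _).mp hx, sub_zero]
  rw [← h0]
  clear hx h0
  have hmem : x ∈ Algebra.adjoin R (Set.range f) := by rw [hf]; trivial
  induction hmem using Algebra.adjoin_induction with
  | mem x hx =>
    obtain ⟨i, rfl⟩ := hx
    rw [GradedRing.projZeroRingHom_apply, DirectSum.decompose_of_mem_ne 𝒜 (hfn i) one_ne_zero,
      sub_zero]
    exact Ideal.subset_span ⟨_, rfl⟩
  | algebraMap r =>
    rw [GradedRing.projZeroRingHom_apply,
      DirectSum.decompose_of_mem_same 𝒜 (SetLike.algebraMap_mem_graded 𝒜 r), sub_self]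
    exact zero_mem _
  | add x y hx hy hx' hy' =>
    rw [map_add, add_sub_add_comm]
    exact add_mem hx' hy'
  | mul x y hx hy hx' hy' =>
    have : x * y - GradedRing.projZeroRingHom 𝒜 (x * y) =
        x * (y - GradedRing.projZeroRingHom 𝒜 y) +
          (x - GradedRing.projZeroRingHom 𝒜 x) * GradedRing.projZeroRingHom 𝒜 y := by
      rw [map_mul]; ring
    rw [this]
    exact add_mem (Ideal.mul_mem_left _ x hy') (Ideal.mul_mem_right _ _ hx')

theorem cover_of_adjoin {ι : Type*} (f : ι → A) (hfn : ∀ i, f i ∈ 𝒜 1)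
    (hf : Algebra.adjoin R (Set.range f) = ⊤) (p : Proj 𝒜) :
    ∃ i, p ∈ Proj.basicOpen 𝒜 (f i) := by
  have := Proj.iSup_basicOpen_eq_top 𝒜 f (irrelevant_le_span 𝒜 f hfn hf)
  have hp : p ∈ (⨆ i, Proj.basicOpen 𝒜 (f i)) := by rw [this]; trivial
  exact TopologicalSpace.Opens.mem_iSup.mp hp

section generation

variable {g : A} (hg : g ∈ 𝒜 1) {ι : Type*} (xs : ι → A) (hxs : ∀ i, xs i ∈ 𝒜 1)
  (hgen : Algebra.adjoin R (Set.range xs) = ⊤)

theorem fr_algebraMap (r : R) : fr 𝒜 hg 0 (algebraMap R A r) = algebraMap R (Away 𝒜 g) r := by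
  apply HomogeneousLocalization.val_injective
  rw [ProjClosed.val_fr_of_mem 𝒜 hg (SetLike.algebraMap_mem_graded 𝒜 r), algebraMap_away]
  have h1 : ProjClosed.pw g 0 = (1 : Submonoid.powers g) := Subtype.ext (pow_zero g)
  rw [h1]
  rfl

theorem fr_decompose (n : ℕ) (a : A) :
    fr 𝒜 hg n (DirectSum.decompose 𝒜 a n : A) = fr 𝒜 hg n a := by
  apply HomogeneousLocalization.val_injective
  rw [ProjClosed.val_fr_of_mem 𝒜 hg (SetLike.coe_mem _), ProjClosed.val_fr]

theorem fr_sum {κ : Type*} (s : Finset κ) (n : ℕ) (v : κ → A) :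
    fr 𝒜 hg n (∑ e ∈ s, v e) = ∑ e ∈ s, fr 𝒜 hg n (v e) := by
  classical
  induction s using Finset.induction_on with
  | empty => simp [ProjClosed.fr_zero]
  | insert a s ha ih => rw [Finset.sum_insert ha, Finset.sum_insert ha, ProjClosed.fr_add, ih]

include hxs hgen in
theorem fr_mem_adjoin (a : A) : ∀ n, fr 𝒜 hg n a ∈
    Algebra.adjoin R (Set.range fun k => fr 𝒜 hg 1 (xs k)) := by
  classical
  have hmem : a ∈ Algebra.adjoin R (Set.range xs) := by rw [hgen]; trivial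
  induction hmem using Algebra.adjoin_induction with
  | mem x hx =>
    obtain ⟨k, rfl⟩ := hx
    intro n
    by_cases hn : 1 = n
    · subst hn
      exact Algebra.subset_adjoin ⟨k, rfl⟩
    · rw [ProjClosed.fr_of_mem_ne 𝒜 hg (hxs k) hn]
      exact zero_mem _
  | algebraMap r =>
    intro n
    by_cases hn : 0 = n
    · subst hn
      rw [fr_algebraMap]
      exact Subalgebra.algebraMap_mem _ r
    · rw [ProjClosed.fr_of_mem_ne 𝒜 hg (SetLike.algebraMap_mem_graded 𝒜 r) hn]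
      exact zero_mem _
  | add x y hx hy hx' hy' =>
    intro n
    rw [ProjClosed.fr_add]
    exact add_mem (hx' n) (hy' n)
  | mul x y hx hy hx' hy' =>
    intro n
    rw [← DirectSum.sum_support_decompose 𝒜 x, Finset.sum_mul, fr_sum]
    refine Subalgebra.sum_mem _ fun e _ => ?_
    by_cases hen : e ≤ n
    · rw [ProjClosed.fr_mul_left_of_le 𝒜 hg (SetLike.coe_mem _) hen, fr_decompose]
      exact mul_mem (hx' e) (hy' (n - e))
    · rw [ProjClosed.fr_mul_left_of_not_le 𝒜 hg (SetLike.coe_mem _) hen]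
      exact zero_mem _

include hxs hgen in
theorem adjoin_fr_eq_top :
    Algebra.adjoin R (Set.range fun k => fr 𝒜 hg 1 (xs k)) = ⊤ := by
  rw [eq_top_iff]
  rintro q -
  obtain ⟨n, a, -, rfl⟩ := ProjClosed.fr_surjective 𝒜 hg q
  exact fr_mem_adjoin 𝒜 hg xs hxs hgen a n

end generation

end gen

section surj

variable {R A B : Type u} [CommRing R] [CommRing A] [Algebra R A] [CommRing B] [Algebra R B]
  (𝒜 : ℕ → Submodule R A) [GradedAlgebra 𝒜] (ℬ : ℕ → Submodule R B) [GradedAlgebra ℬ]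
  {I J : Type u} (xs : I → A) (hxs : ∀ i, xs i ∈ 𝒜 1) (ys : J → B) (hys : ∀ j, ys j ∈ ℬ 1)
  (hgA : Algebra.adjoin R (Set.range xs) = ⊤) (hgB : Algebra.adjoin R (Set.range ys) = ⊤)

/-- the range of `θ t` as an `R`-subalgebra -/
def rangeAlg (t : I × J) : Subalgebra R (Away 𝒜 (xs t.1) ⊗[R] Away ℬ (ys t.2)) :=
  { (θ 𝒜 ℬ xs hxs ys hys t).range with
    algebraMap_mem' := fun r => by
      refine ⟨Away.mk (MvPolynomial.homogeneousSubmodule (I × J) R) (X_mem t) 0 (MvPolynomial.C r)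
        (by rw [zero_smul]; exact MvPolynomial.isHomogeneous_C _ r), ?_⟩
      have h := Segre1.awayLift_mk (MvPolynomial.homogeneousSubmodule (I × J) R)
        (F 𝒜 ℬ xs hxs ys hys t.1 t.2).toRingHom (isUnit_F_self 𝒜 ℬ xs hxs ys hys t.1 t.2)
        (X_mem t) 0 (MvPolynomial.C r)
        (by rw [zero_smul]; exact MvPolynomial.isHomogeneous_C _ r)
      rw [pow_zero, mul_one] at h
      refine h.trans ?_
      change F 𝒜 ℬ xs hxs ys hys t.1 t.2 (MvPolynomial.C r) = _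
      rw [← MvPolynomial.algebraMap_eq, AlgHom.commutes] }

theorem mem_rangeAlg (t : I × J) (q) :
    q ∈ rangeAlg 𝒜 ℬ xs hxs ys hys t ↔ q ∈ (θ 𝒜 ℬ xs hxs ys hys t).range := Iff.rfl

theorem F_mem_rangeAlg (t kl : I × J) :
    F 𝒜 ℬ xs hxs ys hys t.1 t.2 (MvPolynomial.X kl) ∈ rangeAlg 𝒜 ℬ xs hxs ys hys t := by
  refine ⟨Away.mk (MvPolynomial.homogeneousSubmodule (I × J) R) (X_mem t) 1 (MvPolynomial.X kl)
    (by rw [one_smul]; exact X_mem kl), ?_⟩
  have h := Segre1.awayLift_mk (MvPolynomial.homogeneousSubmodule (I × J) R)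
    (F 𝒜 ℬ xs hxs ys hys t.1 t.2).toRingHom (isUnit_F_self 𝒜 ℬ xs hxs ys hys t.1 t.2)
    (X_mem t) 1 (MvPolynomial.X kl) (by rw [one_smul]; exact X_mem kl)
  have h1 : (F 𝒜 ℬ xs hxs ys hys t.1 t.2).toRingHom (MvPolynomial.X t) = 1 :=
    F_self 𝒜 ℬ xs hxs ys hys t.1 t.2
  rw [h1, one_pow, mul_one] at h
  exact h

include hgA in
theorem left_mem (t : I × J) (a : Away 𝒜 (xs t.1)) :
    a ⊗ₜ[R] (1 : Away ℬ (ys t.2)) ∈ rangeAlg 𝒜 ℬ xs hxs ys hys t := by
  have h1 : Algebra.adjoin R (Set.range fun k => fr 𝒜 (hxs t.1) 1 (xs k)) ≤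
      (rangeAlg 𝒜 ℬ xs hxs ys hys t).comap
        (Algebra.TensorProduct.includeLeft : Away 𝒜 (xs t.1) →ₐ[R] _) := by
    rw [Algebra.adjoin_le_iff]
    rintro _ ⟨k, rfl⟩
    change fr 𝒜 (hxs t.1) 1 (xs k) ⊗ₜ[R] (1 : Away ℬ (ys t.2)) ∈ rangeAlg 𝒜 ℬ xs hxs ys hys t
    have h2 := F_mem_rangeAlg 𝒜 ℬ xs hxs ys hys t (k, t.2)
    rw [F_X, fr_self] at h2
    exact h2
  rw [adjoin_fr_eq_top 𝒜 (hxs t.1) xs hxs hgA] at h1
  exact h1 (Algebra.mem_top (x := a))

include hgB in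
theorem right_mem (t : I × J) (b : Away ℬ (ys t.2)) :
    (1 : Away 𝒜 (xs t.1)) ⊗ₜ[R] b ∈ rangeAlg 𝒜 ℬ xs hxs ys hys t := by
  have h1 : Algebra.adjoin R (Set.range fun k => fr ℬ (hys t.2) 1 (ys k)) ≤
      (rangeAlg 𝒜 ℬ xs hxs ys hys t).comap
        (Algebra.TensorProduct.includeRight : Away ℬ (ys t.2) →ₐ[R] _) := by
    rw [Algebra.adjoin_le_iff]
    rintro _ ⟨k, rfl⟩
    change (1 : Away 𝒜 (xs t.1)) ⊗ₜ[R] fr ℬ (hys t.2) 1 (ys k) ∈ rangeAlg 𝒜 ℬ xs hxs ys hys t
    have h2 := F_mem_rangeAlg 𝒜 ℬ xs hxs ys hys t (t.1, k)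
    rw [F_X, fr_self] at h2
    exact h2
  rw [adjoin_fr_eq_top ℬ (hys t.2) ys hys hgB] at h1
  exact h1 (Algebra.mem_top (x := b))

include hgA hgB in
theorem θ_surjective (t : I × J) : Function.Surjective (θ 𝒜 ℬ xs hxs ys hys t) := by
  intro q
  have : q ∈ rangeAlg 𝒜 ℬ xs hxs ys hys t := by
    induction q using TensorProduct.induction_on with
    | zero => exact zero_mem _
    | tmul a b =>
      have h := mul_mem (left_mem 𝒜 ℬ xs hxs ys hys hgA t a) (right_mem 𝒜 ℬ xs hxs ys hys hgB t b)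
      rwa [Algebra.TensorProduct.tmul_mul_tmul, mul_one, one_mul] at h
    | add x y hx hy => exact add_mem hx hy
  exact this

/-- **Segre**: for graded `R`-algebras generated in degree one by the families `xs`, `ys`, there is
a closed immersion of `Proj 𝒜 ×_R Proj ℬ` into the projective space with coordinates `I × J` -/
theorem exists_closedImmersion (xs : I → A) (hxs : ∀ i, xs i ∈ 𝒜 1) (ys : J → B)
    (hys : ∀ j, ys j ∈ ℬ 1) (hgA : Algebra.adjoin R (Set.range xs) = ⊤)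
    (hgB : Algebra.adjoin R (Set.range ys) = ⊤) :
    ∃ φ : pullback (str 𝒜) (str ℬ) ⟶ Proj (MvPolynomial.homogeneousSubmodule (I × J) R),
      IsClosedImmersion φ := by
  have hcA := cover_of_adjoin 𝒜 xs hxs hgA
  have hcB := cover_of_adjoin ℬ ys hys hgB
  refine ⟨segre 𝒜 ℬ xs hxs ys hys hcA hcB, ?_⟩
  refine isClosedImmersion_segre 𝒜 ℬ xs hxs ys hys hcA hcB ?_
    (θ_surjective 𝒜 ℬ xs hxs ys hys hgA hgB)
  exact irrelevant_le_span (MvPolynomial.homogeneousSubmodule (I × J) R)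
    (fun t : I × J => (MvPolynomial.X t : MvPolynomial (I × J) R)) (fun t => X_mem t)
    (MvPolynomial.adjoin_range_X)

end surj

end Groth.Agent.Lib.Helper28.Segre5
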