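import Groth.Agent.Lib.Helper28.ModAffineExt
import Groth.Agent.Lib.Helper28.RelTildeMap
import Groth.Agent.Lib.Helper28.QCohGen

/-!
# A morphism of modules which is bijective on the sections over the members of an affine cover

If `Φ : G₁ ⟶ G₂` is bijective on the sections over every member of a cover by affine opens over which both modules
are localizing (e.g. both quasi-coherent), then `Φ` is an isomorphism.
-/

set_option autoImplicit false
universe u
open CategoryTheory CategoryTheory.Limits AlgebraicGeometry Opposite TopologicalSpace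

namespace Groth.Agent.Lib.Helper28.QCohLoc

variable {X : Scheme.{u}} {G₁ G₂ : X.Modules} (Φ : G₁ ⟶ G₂)

/-- injectivity propagates to the opens below an affine open -/
theorem app_injective_of_le {U : X.Opens} (hU : IsAffineOpen U) (h₁ : IsLocOn G₁ U) (h₂ : IsLocOn G₂ U)
    (hinj : Function.Injective (Φ.app U)) {W : X.Opens} (hW : W ≤ U) : Function.Injective (Φ.app W) := by
  have key : ∀ y : Γ(G₁, W), Φ.app W y = 0 → y = 0 := by
    intro y hy
    have hpt : ∀ q : W, ∃ (V : X.Opens) (hV : V ≤ W), q.1 ∈ V ∧ res G₁ hV y = res G₁ hV 0 := by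
      intro q
      obtain ⟨r, hr, hqr⟩ := hU.exists_basicOpen_le (V := W) ⟨q.1, q.2⟩ (hW q.2)
      obtain ⟨k, m, hkm⟩ := h₁.surj r (res G₁ hr y)
      refine ⟨X.basicOpen r, hr, hqr, ?_⟩
      have h1 : res G₂ (X.basicOpen_le r) (Φ.app U m) = 0 := by
        rw [← app_res, ← hkm, Scheme.Modules.Hom.app_smul, app_res, hy, res_zero, smul_zero]
      obtain ⟨N, hN⟩ := h₂.inj r _ h1
      have h2 : (r ^ N • m : Γ(G₁, U)) = 0 := by
        apply hinj
        rw [Scheme.Modules.Hom.app_smul, hN]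
        exact (map_zero _).symm
      have h3 := congrArg (res G₁ (X.basicOpen_le r)) h2
      rw [res_smul, res_zero, resO_pow] at h3
      have h4 := ((isUnit_ur r).pow N).smul_eq_zero.1 h3
      rw [h4] at hkm
      rw [res_zero]
      exact ((isUnit_ur r).pow k).smul_eq_zero.1 hkm
    choose V hV hqV hres using hpt
    refine eq_of_locally_eq G₁ V W hV ?_ _ _ hres
    intro q hq
    exact Opens.mem_iSup.mpr ⟨⟨q, hq⟩, hqV ⟨q, hq⟩⟩
  intro x x' hxx'
  have h0 : Φ.app W (x - x') = 0 := by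
    have : Φ.app W (x - x') = Φ.app W x - Φ.app W x' := map_sub _ _ _
    rw [this, hxx', sub_self]
  exact sub_eq_zero.1 (key _ h0)

variable {ι : Type*} (U : ι → X.Opens) (hU : ∀ i, IsAffineOpen (U i)) (hcov : ∀ x : X, ∃ i, x ∈ U i)

include hU hcov in
theorem mono_of_affine_cover (h₁ : ∀ i, IsLocOn G₁ (U i)) (h₂ : ∀ i, IsLocOn G₂ (U i))
    (hinj : ∀ i, Function.Injective (Φ.app (U i))) : Mono Φ := by
  refine mono_of_injective Φ fun W => ?_
  have key : ∀ y : Γ(G₁, W), Φ.app W y = 0 → y = 0 := by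
    intro y hy
    refine eq_of_locally_eq G₁ (fun i => W ⊓ U i) W (fun i => inf_le_left) ?_ _ _ ?_
    · intro q hq
      obtain ⟨i, hi⟩ := hcov q
      exact Opens.mem_iSup.mpr ⟨i, ⟨hq, hi⟩⟩
    · intro i
      rw [res_zero]
      apply app_injective_of_le Φ (hU i) (h₁ i) (h₂ i) (hinj i) (inf_le_right : W ⊓ U i ≤ U i)
      rw [app_res, hy, res_zero]
      exact (map_zero _).symm
  intro x x' hxx'
  have h0 : Φ.app W (x - x') = 0 := by
    have : Φ.app W (x - x') = Φ.app W x - Φ.app W x' := map_sub _ _ _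
    rw [this, hxx', sub_self]
  exact sub_eq_zero.1 (key _ h0)

include hU hcov in
theorem epi_of_affine_cover (h₂ : ∀ i, IsLocOn G₂ (U i))
    (hsurj : ∀ i, Function.Surjective (Φ.app (U i))) : Epi Φ := by
  refine epi_of_locally_in_range Φ ?_
  intro W z q hq
  obtain ⟨i, hi⟩ := hcov q
  obtain ⟨r, hr, hqr⟩ := (hU i).exists_basicOpen_le (V := W ⊓ U i) ⟨q, ⟨hq, hi⟩⟩ hi
  have hrW : X.basicOpen r ≤ W := hr.trans inf_le_left
  obtain ⟨k, m', hkm⟩ := (h₂ i).surj r (res G₂ hrW z)
  obtain ⟨m, rfl⟩ := hsurj i m'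
  refine ⟨X.basicOpen r, hrW, hqr, ?_⟩
  refine ⟨((((isUnit_ur r).pow k).unit⁻¹ : (Γ(X, X.basicOpen r))ˣ) : Γ(X, X.basicOpen r)) •
    res G₁ (X.basicOpen_le r) m, ?_⟩
  rw [Scheme.Modules.Hom.app_smul, app_res, ← hkm, smul_smul, IsUnit.val_inv_mul, one_smul]

include hU hcov in
/-- a morphism which is bijective on the sections over the members of an affine cover is an isomorphism -/
theorem isIso_of_affine_cover (h₁ : ∀ i, IsLocOn G₁ (U i)) (h₂ : ∀ i, IsLocOn G₂ (U i))
    (hbij : ∀ i, Function.Bijective (Φ.app (U i))) : IsIso Φ := by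
  haveI := mono_of_affine_cover Φ U hU hcov h₁ h₂ fun i => (hbij i).injective
  haveI := epi_of_affine_cover Φ U hU hcov h₂ fun i => (hbij i).surjective
  exact isIso_of_mono_of_epi Φ

end Groth.Agent.Lib.Helper28.QCohLoc
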