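import Groth.Agent.Lib.Helper28.SecExtendQC
import Groth.Agent.Lib.Helper28.FinTypeConv

/-!
# Twists of a module by an invertible module

* `tmulSec_right_bijective`: if `γ` generates `N` over `W`, then `x ↦ x ⊗ γ` is a bijection `Γ(F, W) → Γ(F ⊗ N, W)`.
* `IsTwist F L d P Θ`: the family `Θ W g : Γ(F, W) → Γ(P, W)` (`g` a section of `L` over `W`) exhibits `P` as `F`
  twisted by `L^d`.  Two twists of the same degree are isomorphic (`IsTwist.exists_iso`), twists of a quasi-coherent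
  module (of finite type) are quasi-coherent (of finite type).
-/

set_option autoImplicit false
universe u
open CategoryTheory CategoryTheory.Limits AlgebraicGeometry Opposite TopologicalSpace MonoidalCategory
noncomputable section

namespace Groth.Agent.Lib.Helper28.GenLocus

open Groth.Agent.Lib.Helper28 Groth.Agent.Lib.Helper28.QCohLoc Groth.Agent.Lib.Helper28.TensorGen
  Groth.Agent.Lib.Helper28.InvTensor Groth.Agent.Lib.Helper28.FinType

open TensorProduct in
/-- tensoring with a free module of rank one -/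
theorem tmul_right_bijective {R M N : Type*} [CommRing R] [AddCommGroup M] [AddCommGroup N] [Module R M]
    [Module R N] (g' : N) (hg' : Function.Bijective (fun c : R => c • g')) :
    Function.Bijective (fun m : M => m ⊗ₜ[R] g') := by
  let eN : R ≃ₗ[R] N := LinearEquiv.ofBijective (LinearMap.toSpanSingleton R N g') hg'
  let E : M ≃ₗ[R] M ⊗[R] N := (TensorProduct.rid R M).symm ≪≫ₗ TensorProduct.congr (LinearEquiv.refl R M) eN
  have hE : ∀ m : M, E m = m ⊗ₜ[R] g' := by
    intro m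
    show (TensorProduct.congr (LinearEquiv.refl R M) eN) ((TensorProduct.rid R M).symm m) = _
    rw [TensorProduct.rid_symm_apply, TensorProduct.congr_tmul]
    show m ⊗ₜ[R] ((1 : R) • g') = _
    rw [one_smul]
  have : (fun m : M => m ⊗ₜ[R] g') = E := funext fun m => (hE m).symm
  rw [this]
  exact E.bijective

variable {X : Scheme.{u}} (F N : X.Modules)

theorem map_ptmul {W V : X.Opens} (hV : V ≤ W) (x : Γ(F, W)) (γ : Γ(N, W)) :
    (show X.PresheafOfModules from CohB1.tensorPre F N).map (homOfLE hV).op (ptmul F N x γ) =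
      ptmul F N (res F hV x) (res N hV γ) := rfl

/-- injectivity of `x ↦ x ⊗ γ` -/
theorem tmulSec_right_eq_zero {W : X.Opens} {γ : Γ(N, W)} (hγ : IsGen N W γ) (x : Γ(F, W))
    (hx : tmulSec F N x γ = 0) : x = 0 := by
  have hli : Presheaf.IsLocallyInjective (Opens.grothendieckTopology X)
      (CategoryTheory.toSheafify (Opens.grothendieckTopology X)
        (show X.PresheafOfModules from CohB1.tensorPre F N).presheaf) := inferInstance
  have h0 : (ηT F N).app (op W) (ptmul F N x γ) = (ηT F N).app (op W) 0 := by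
    rw [show (ηT F N).app (op W) (ptmul F N x γ) = tmulSec F N x γ from rfl, hx]
    exact (map_zero ((ηT F N).app (op W)).hom).symm
  have h1 := hli.equalizerSieve_mem (X := op W) _ _ h0
  rw [Opens.mem_grothendieckTopology] at h1
  choose V i hV hptV using h1
  refine eq_of_locally_eq F (fun pt : W => V pt.1 pt.2) W (fun pt => (i pt.1 pt.2).le) ?_ x 0 ?_
  · intro q hq
    exact Opens.mem_iSup.mpr ⟨⟨q, hq⟩, hptV q hq⟩
  · intro pt
    have h2 := hV pt.1 pt.2
    have hle : V pt.1 pt.2 ≤ W := (i pt.1 pt.2).le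
    have h3 : (show X.PresheafOfModules from CohB1.tensorPre F N).map (homOfLE hle).op (ptmul F N x γ) =
        (show X.PresheafOfModules from CohB1.tensorPre F N).map (homOfLE hle).op 0 := h2
    rw [map_ptmul, map_zero] at h3
    have hb := tmul_right_bijective (R := Γ(X, V pt.1 pt.2)) (M := Γ(F, V pt.1 pt.2)) (res N hle γ)
      (isGen_self N (hγ.res hle))
    rw [res_zero]
    apply hb.1
    show ptmul F N (res F hle x) (res N hle γ) = _
    rw [h3]
    exact (TensorProduct.zero_tmul _ _).symm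

theorem tmulSec_sub_left {W : X.Opens} (m m' : Γ(F, W)) (n : Γ(N, W)) :
    tmulSec F N (m - m') n = tmulSec F N m n - tmulSec F N m' n := by
  have h := tmulSec_add_left F N (m - m') m' n
  rw [sub_add_cancel] at h
  rw [h, add_sub_cancel_right]

/-- **`x ↦ x ⊗ γ` is bijective when `γ` generates `N`** -/
theorem tmulSec_right_bijective {W : X.Opens} {γ : Γ(N, W)} (hγ : IsGen N W γ) :
    Function.Bijective (fun x : Γ(F, W) => tmulSec F N x γ) := by
  constructor
  · intro x x' hxx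
    have h1 : tmulSec F N (x - x') γ = 0 := by
      rw [tmulSec_sub_left]; exact sub_eq_zero.2 hxx
    exact sub_eq_zero.1 (tmulSec_right_eq_zero F N hγ _ h1)
  · intro t
    have hloc : ∀ pt : W, ∃ (V : X.Opens) (hV : V ≤ W), pt.1 ∈ V ∧ ∃ c : Γ(F, V),
        tmulSec F N c (res N hV γ) = res (CohB1.tensorMod F N) hV t := by
      intro pt
      obtain ⟨V, hV, hptV, z, hz⟩ := exists_ηT_eq F N t pt.1 pt.2
      refine ⟨V, hV, hptV, ?_⟩
      obtain ⟨c, hc⟩ := (tmul_right_bijective (R := Γ(X, V)) (M := Γ(F, V)) (res N hV γ)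
        (isGen_self N (hγ.res hV))).2 z
      refine ⟨c, ?_⟩
      rw [← hz]
      exact congrArg _ hc
    choose V hV hptV c hc using hloc
    obtain ⟨c₀, hc₀⟩ := exists_gluing F V W hV
      (fun q hq => Opens.mem_iSup.mpr ⟨⟨q, hq⟩, hptV ⟨q, hq⟩⟩) c (by
        intro p q
        have hle : V p ⊓ V q ≤ W := inf_le_left.trans (hV p)
        have e1 := congrArg (res (CohB1.tensorMod F N) (inf_le_left : V p ⊓ V q ≤ V p)) (hc p)
        have e2 := congrArg (res (CohB1.tensorMod F N) (inf_le_right : V p ⊓ V q ≤ V q)) (hc q)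
        rw [tmulSec_res, res_res, res_res] at e1 e2
        have h3 : tmulSec F N (res F (inf_le_left : V p ⊓ V q ≤ V p) (c p) -
            res F (inf_le_right : V p ⊓ V q ≤ V q) (c q)) (res N hle γ) = 0 := by
          rw [tmulSec_sub_left, e1, e2, sub_self]
        exact sub_eq_zero.1 (tmulSec_right_eq_zero F N (hγ.res hle) _ h3))
    refine ⟨c₀, ?_⟩
    refine eq_of_locally_eq (CohB1.tensorMod F N) V W hV
      (fun q hq => Opens.mem_iSup.mpr ⟨⟨q, hq⟩, hptV ⟨q, hq⟩⟩) _ _ ?_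
    intro pt
    show res (CohB1.tensorMod F N) (hV pt) (tmulSec F N c₀ γ) = _
    rw [tmulSec_res, ← hc pt, hc₀ pt]


/-- `Θ` exhibits `P` as the twist of `F` by `L^{⊗ d}` -/
structure IsTwist (F L : X.Modules) (d : ℕ) (P : X.Modules)
    (Θ : ∀ W : X.Opens, Γ(L, W) → Γ(F, W) → Γ(P, W)) : Prop where
  bij : ∀ (W : X.Opens) (g : Γ(L, W)), IsGen L W g → Function.Bijective (Θ W g)
  add : ∀ (W : X.Opens) (g : Γ(L, W)) (x y : Γ(F, W)), Θ W g (x + y) = Θ W g x + Θ W g y
  smul : ∀ (W : X.Opens) (g : Γ(L, W)) (a : Γ(X, W)) (x : Γ(F, W)),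
    Θ W g (a • x : Γ(F, W)) = (a • Θ W g x : Γ(P, W))
  res : ∀ (W W' : X.Opens) (h : W' ≤ W) (g : Γ(L, W)) (x : Γ(F, W)),
    QCohLoc.res P h (Θ W g x) = Θ W' (QCohLoc.res L h g) (QCohLoc.res F h x)
  hom : ∀ (W : X.Opens) (c : Γ(X, W)) (g : Γ(L, W)) (x : Γ(F, W)),
    Θ W (c • g : Γ(L, W)) x = (c ^ d • Θ W g x : Γ(P, W))

namespace IsTwist

variable {F} {L P P' : X.Modules} {d : ℕ} {Θ : ∀ W : X.Opens, Γ(L, W) → Γ(F, W) → Γ(P, W)}
  {Θ' : ∀ W : X.Opens, Γ(L, W) → Γ(F, W) → Γ(P', W)}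

theorem refl (F L : X.Modules) : IsTwist F L 0 F (fun _ _ x => x) where
  bij _ _ _ := Function.bijective_id
  add _ _ _ _ := rfl
  smul _ _ _ _ := rfl
  res _ _ _ _ _ := rfl
  hom _ c _ x := by rw [pow_zero, one_smul]

theorem congr_deg (h : IsTwist F L d P Θ) {d' : ℕ} (e : d = d') : IsTwist F L d' P Θ := e ▸ h

theorem map_zero (h : IsTwist F L d P Θ) (W : X.Opens) (g : Γ(L, W)) : Θ W g 0 = 0 := by
  have := h.add W g 0 0
  rw [add_zero] at this
  exact left_eq_add.1 this

/-- twisting a twist -/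
theorem tensor (h : IsTwist F L d P Θ) (N : X.Modules) (γ : ∀ W : X.Opens, Γ(L, W) → Γ(N, W)) (e : ℕ)
    (hγ : ∀ (W : X.Opens) (g : Γ(L, W)), IsGen L W g → IsGen N W (γ W g))
    (hres : ∀ (W W' : X.Opens) (hW : W' ≤ W) (g : Γ(L, W)), QCohLoc.res N hW (γ W g) = γ W' (QCohLoc.res L hW g))
    (hhom : ∀ (W : X.Opens) (c : Γ(X, W)) (g : Γ(L, W)), γ W (c • g : Γ(L, W)) = (c ^ e • γ W g : Γ(N, W))) :
    IsTwist F L (d + e) (CohB1.tensorMod P N) (fun W g x => tmulSec P N (Θ W g x) (γ W g)) where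
  bij W g hg := (tmulSec_right_bijective P N (hγ W g hg)).comp (h.bij W g hg)
  add W g x y := by
    show tmulSec P N (Θ W g (x + y)) (γ W g) = _
    rw [h.add, tmulSec_add_left]
  smul W g a x := by
    show tmulSec P N (Θ W g (a • x : Γ(F, W))) (γ W g) = _
    rw [h.smul, tmulSec_smul_left]
  res W W' hW g x := by
    show QCohLoc.res _ hW (tmulSec P N (Θ W g x) (γ W g)) = _
    rw [tmulSec_res, h.res, hres]
  hom W c g x := by
    show tmulSec P N (Θ W (c • g : Γ(L, W)) x) (γ W (c • g : Γ(L, W))) = _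
    rw [h.hom, hhom, tmulSec_smul_left, tmulSec_smul_right, ← mul_smul, pow_add, mul_comm]

/-- the standard twist `F ⊗ L^{⊗ n}` -/
theorem tensorPow (h : IsTwist F L d P Θ) (n : ℕ) :
    IsTwist F L (d + n) (CohB1.tensorMod P (CohB1.tensorPow L n))
      (fun W g x => tmulSec P (CohB1.tensorPow L n) (Θ W g x) (gpow L g n)) :=
  h.tensor (CohB1.tensorPow L n) (fun _ g => gpow L g n) n (fun _ _ hg => isGen_gpow hg n)
    (fun _ _ hW g => gpow_res L hW g n) (fun _ c g => gpow_smul L c g n)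

/-- the twist by a power of a power -/
theorem tensorPowPow (h : IsTwist F L d P Θ) (m K : ℕ) :
    IsTwist F L (d + m * K) (CohB1.tensorMod P (CohB1.tensorPow (CohB1.tensorPow L m) K))
      (fun W g x => tmulSec P (CohB1.tensorPow (CohB1.tensorPow L m) K) (Θ W g x)
        (gpow (CohB1.tensorPow L m) (gpow L g m) K)) :=
  h.tensor (CohB1.tensorPow (CohB1.tensorPow L m) K) (fun _ g => gpow (CohB1.tensorPow L m) (gpow L g m) K) (m * K)
    (fun _ _ hg => isGen_gpow (isGen_gpow hg m) K)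
    (fun _ _ hW g => by rw [gpow_res, gpow_res])
    (fun _ c g => by rw [gpow_smul, gpow_smul, ← pow_mul])

section Iso

variable (h : IsTwist F L d P Θ) (h' : IsTwist F L d P' Θ')

/-- the local comparison map -/
def tw {W : X.Opens} {g : Γ(L, W)} (hg : IsGen L W g) (y : Γ(P, W)) : Γ(P', W) :=
  Θ' W g ((Equiv.ofBijective _ (h.bij W g hg)).symm y)

include h' in
theorem tw_apply {W : X.Opens} {g : Γ(L, W)} (hg : IsGen L W g) (x : Γ(F, W)) :
    tw h (Θ' := Θ') hg (Θ W g x) = Θ' W g x := by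
  unfold tw
  congr 1
  exact (Equiv.ofBijective _ (h.bij W g hg)).symm_apply_apply x

include h' in
theorem tw_indep {W : X.Opens} {g g' : Γ(L, W)} (hg : IsGen L W g) (hg' : IsGen L W g') (y : Γ(P, W)) :
    tw h (Θ' := Θ') hg' y = tw h (Θ' := Θ') hg y := by
  obtain ⟨x', rfl⟩ := (h.bij W g' hg').2 y
  have hc : (hg.coef le_rfl g' • g : Γ(L, W)) = g' := by
    have := hg.coef_smul le_rfl g'
    rwa [res_self] at this
  rw [tw_apply h h' hg']
  have e1 : Θ W g' x' = Θ W g ((hg.coef le_rfl g') ^ d • x' : Γ(F, W)) := by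
    rw [h.smul, ← h.hom, hc]
  rw [e1, tw_apply h h' hg, h'.smul, ← h'.hom, hc]

include h' in
theorem tw_add {W : X.Opens} {g : Γ(L, W)} (hg : IsGen L W g) (y y' : Γ(P, W)) :
    tw h (Θ' := Θ') hg (y + y') = tw h (Θ' := Θ') hg y + tw h (Θ' := Θ') hg y' := by
  obtain ⟨x, rfl⟩ := (h.bij W g hg).2 y
  obtain ⟨x', rfl⟩ := (h.bij W g hg).2 y'
  rw [← h.add, tw_apply h h' hg, tw_apply h h' hg, tw_apply h h' hg, h'.add]

include h' in
theorem tw_smul {W : X.Opens} {g : Γ(L, W)} (hg : IsGen L W g) (a : Γ(X, W)) (y : Γ(P, W)) :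
    tw h (Θ' := Θ') hg (a • y : Γ(P, W)) = (a • tw h (Θ' := Θ') hg y : Γ(P', W)) := by
  obtain ⟨x, rfl⟩ := (h.bij W g hg).2 y
  rw [← h.smul, tw_apply h h' hg, tw_apply h h' hg, h'.smul]

include h' in
theorem tw_res {W W' : X.Opens} (hW : W' ≤ W) {g : Γ(L, W)} (hg : IsGen L W g) (y : Γ(P, W)) :
    tw h (Θ' := Θ') (hg.res hW) (QCohLoc.res P hW y) = QCohLoc.res P' hW (tw h (Θ' := Θ') hg y) := by
  obtain ⟨x, rfl⟩ := (h.bij W g hg).2 y
  rw [h.res, tw_apply h h' (hg.res hW), tw_apply h h' hg, h'.res]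

include h' in
theorem tw_tw {W : X.Opens} {g : Γ(L, W)} (hg : IsGen L W g) (y : Γ(P, W)) :
    tw h' (Θ' := Θ) hg (tw h (Θ' := Θ') hg y) = y := by
  obtain ⟨x, rfl⟩ := (h.bij W g hg).2 y
  rw [tw_apply h h' hg, tw_apply h' h hg]

include h h' in
/-- **two twists of `F` of the same degree are isomorphic** -/
theorem exists_iso (hL : PicF.IsInvertible L) :
    ∃ ψ : P ≅ P', ∀ (W : X.Opens) (g : Γ(L, W)), IsGen L W g → ∀ x : Γ(F, W),
      ψ.hom.app W (Θ W g x) = Θ' W g x := by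
  let D : QCohLoc.LocalHomData P P' :=
    { B := fun V => ∃ g : Γ(L, V), IsGen L V g
      down := fun V V' hle ⟨g, hg⟩ => ⟨QCohLoc.res L hle g, hg.res hle⟩
      cov := fun x => by
        obtain ⟨U, g, hxU, hg⟩ := exists_isGen L hL x
        exact ⟨U, ⟨g, hg⟩, hxU⟩
      φ := fun V hV y => tw h (Θ' := Θ') hV.choose_spec y
      add := fun V hV y y' => tw_add h h' _ y y'
      smul := fun V hV a y => tw_smul h h' _ a y
      nat := fun V hV V' hle y => by
        rw [← tw_res h h' hle hV.choose_spec y]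
        exact tw_indep h h' _ _ _ }
  have happ : ∀ (W : X.Opens) (g : Γ(L, W)) (hg : IsGen L W g) (y : Γ(P, W)),
      D.hom.app W y = tw h (Θ' := Θ') hg y := by
    intro W g hg y
    have hB : D.B W := ⟨g, hg⟩
    rw [D.hom_app W hB y]
    exact tw_indep h h' hg hB.choose_spec y
  haveI : IsIso D.hom := by
    refine TensorIso.isIso_of_bijective_on_basis D.hom D.B ?_ ?_
    · intro W x hx
      obtain ⟨U, g, hxU, hg⟩ := exists_isGen L hL x
      exact ⟨W ⊓ U, ⟨QCohLoc.res L inf_le_right g, hg.res inf_le_right⟩, ⟨hx, hxU⟩, inf_le_left⟩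
    · rintro W ⟨g, hg⟩
      have : (D.hom.app W : Γ(P, W) → Γ(P', W)) = tw h (Θ' := Θ') hg := funext fun y => happ W g hg y
      rw [this]
      exact Function.bijective_iff_has_inverse.2
        ⟨tw h' (Θ' := Θ) hg, fun y => tw_tw h h' hg y, fun y => tw_tw h' h hg y⟩
  refine ⟨asIso D.hom, fun W g hg x => ?_⟩
  show D.hom.app W (Θ W g x) = _
  rw [happ W g hg, tw_apply h h' hg]

end Iso


section QC

variable (h : IsTwist F L d P Θ)

include h in
theorem isLocOn {U : X.Opens} (g : Γ(L, U)) (hg : IsGen L U g) (hF : IsLocOn F U) : IsLocOn P U where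
  surj r y := by
    obtain ⟨a, rfl⟩ := (h.bij _ _ (hg.res (X.basicOpen_le r))).2 y
    obtain ⟨n, b, hb⟩ := hF.surj r a
    refine ⟨n, Θ U g b, ?_⟩
    rw [h.res, ← hb, h.smul]
  inj r x hx := by
    obtain ⟨b, rfl⟩ := (h.bij _ _ hg).2 x
    rw [h.res] at hx
    have hb : QCohLoc.res F (X.basicOpen_le r) b = 0 := by
      apply (h.bij _ _ (hg.res (X.basicOpen_le r))).1
      show Θ _ _ _ = Θ _ _ 0
      rw [hx, h.map_zero]
    obtain ⟨n, hn⟩ := hF.inj r b hb
    refine ⟨n, ?_⟩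
    rw [← h.smul, hn, h.map_zero]

include h in
/-- a twist of a quasi-coherent module is quasi-coherent -/
theorem isQuasicoherent (hL : PicF.IsInvertible L) [F.IsQuasicoherent] : P.IsQuasicoherent := by
  have h0 : ∀ x : X, ∃ V : X.Opens, x ∈ V ∧ IsAffineOpen V ∧ ∃ g : Γ(L, V), IsGen L V g := by
    intro x
    obtain ⟨U, g, hxU, hg⟩ := exists_isGen L hL x
    obtain ⟨_, ⟨V, hV, rfl⟩, hxV, hVU⟩ := X.isBasis_affineOpens.exists_subset_of_mem_open hxU U.isOpen
    exact ⟨V, hxV, hV, QCohLoc.res L (show V ≤ U from hVU) g, hg.res _⟩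
  choose V hxV hV g hg using h0
  refine isQuasicoherent_of_isLocOn P V ?_ hV
    (fun x => h.isLocOn (g x) (hg x) (isLocOn_of_isQuasicoherent F (hV x)))
  exact (IsOpenCover.mk (eq_top_iff.2 fun x _ => Opens.mem_iSup.2 ⟨x, hxV x⟩))

include h in
/-- a twist of a quasi-coherent module of finite type is of finite type -/
theorem isFiniteType (hL : PicF.IsInvertible L) [F.IsQuasicoherent]
    [SheafOfModules.IsFiniteType.{u} (R := X.ringCatSheaf) F] :
    SheafOfModules.IsFiniteType.{u} (R := X.ringCatSheaf) P := by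
  haveI := h.isQuasicoherent hL
  have h0 : ∀ x : X, ∃ V : X.Opens, x ∈ V ∧ IsAffineOpen V ∧ ∃ g : Γ(L, V), IsGen L V g := by
    intro x
    obtain ⟨U, g, hxU, hg⟩ := exists_isGen L hL x
    obtain ⟨_, ⟨V, hV, rfl⟩, hxV, hVU⟩ := X.isBasis_affineOpens.exists_subset_of_mem_open hxU U.isOpen
    exact ⟨V, hxV, hV, QCohLoc.res L (show V ≤ U from hVU) g, hg.res _⟩
  choose V hxV hV g hg using h0
  refine isFiniteType_of_finite_cover P V
    (IsOpenCover.mk (eq_top_iff.2 fun x _ => Opens.mem_iSup.2 ⟨x, hxV x⟩)) hV (fun x => ?_)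
  haveI := finite_of_isAffineOpen F (hV x)
  let φ : Γ(F, V x) →ₗ[Γ(X, V x)] Γ(P, V x) :=
    { toFun := Θ (V x) (g x)
      map_add' := h.add _ _
      map_smul' := h.smul _ _ }
  exact Module.Finite.of_surjective φ (h.bij _ _ (hg x)).2

end QC

end IsTwist

end Groth.Agent.Lib.Helper28.GenLocus
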