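import Groth.Agent.Lib.Helper28.DualMod
import Groth.Agent.Lib.Helper28.TwistIso

/-!
# The dual of an invertible module

* `HomMod.dual L := Hom(L, O_X)`, with evaluation `evO`.
* `HomMod.gdual hg`: the dual generator of a local generator `g`; `isGen_gdual`, `isInvertible_dual`.
* `HomMod.homOfTensorSec`: a global section `σ` of `M ⊗ L` (with `L` invertible) defines a morphism `L^∨ ⟶ M`,
  characterised by `g^∨ ↦ x` whenever `σ = x ⊗ g` locally.
-/

set_option autoImplicit false
universe u
open CategoryTheory CategoryTheory.Limits AlgebraicGeometry Opposite TopologicalSpace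
noncomputable section

namespace Groth.Agent.Lib.Helper28.HomMod

open Groth.Agent.Lib.Helper28 Groth.Agent.Lib.Helper28.QCohLoc Groth.Agent.Lib.Helper28.GenLocus
  Groth.Agent.Lib.Helper28.TensorGen

variable {X : Scheme.{u}}

/-- the dual of a module -/
abbrev dual (L : X.Modules) : X.Modules := homMod L (Coh.structureModule X)

variable {L : X.Modules}

/-- evaluation of a section of the dual, as a function -/
def evO {V : X.Opens} (φ : Γ(dual L, V)) {W : X.Opens} (h : W ≤ V) (x : Γ(L, W)) : Γ(X, W) :=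
  ev φ h x

theorem evO_add {V : X.Opens} (φ : Γ(dual L, V)) {W : X.Opens} (h : W ≤ V) (x y : Γ(L, W)) :
    evO φ h (x + y) = evO φ h x + evO φ h y := ev_add φ h x y

theorem evO_smul {V : X.Opens} (φ : Γ(dual L, V)) {W : X.Opens} (h : W ≤ V) (a : Γ(X, W)) (x : Γ(L, W)) :
    evO φ h (a • x : Γ(L, W)) = a * evO φ h x := ev_smul φ h a x

theorem evO_res {V : X.Opens} (φ : Γ(dual L, V)) {W W' : X.Opens} (h : W ≤ V) (h' : W' ≤ W) (x : Γ(L, W)) :
    evO φ (h'.trans h) (res L h' x) = resO h' (evO φ h x) := ev_res φ h h' x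

theorem add_evO {V : X.Opens} (φ ψ : Γ(dual L, V)) {W : X.Opens} (h : W ≤ V) (x : Γ(L, W)) :
    evO (φ + ψ) h x = evO φ h x + evO ψ h x := rfl

theorem smul_evO {V : X.Opens} (a : Γ(X, V)) (φ : Γ(dual L, V)) {W : X.Opens} (h : W ≤ V) (x : Γ(L, W)) :
    evO (a • φ : Γ(dual L, V)) h x = resO h a * evO φ h x := rfl

theorem res_evO {V V' : X.Opens} (hV : V' ≤ V) (φ : Γ(dual L, V)) {W : X.Opens} (h : W ≤ V') (x : Γ(L, W)) :
    evO (res (dual L) hV φ) h x = evO φ (h.trans hV) x := rfl

theorem ext_evO {V : X.Opens} (φ ψ : Γ(dual L, V))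
    (h : ∀ (W : X.Opens) (hW : W ≤ V) (x : Γ(L, W)), evO φ hW x = evO ψ hW x) : φ = ψ :=
  ext_ev φ ψ h

theorem resO_self {U : X.Opens} (a : Γ(X, U)) : resO (le_refl U) a = a := by
  have : (homOfLE (le_refl U)).op = 𝟙 (op U) := rfl
  unfold resO
  rw [this, X.presheaf.map_id]
  rfl

section Gen

variable {U : X.Opens} {g : Γ(L, U)} (hg : IsGen L U g)

/-- the dual generator -/
def gdual : Γ(dual L, U) :=
  mkSec (N := Coh.structureModule X)
    (fun W h x => (show Γ(Coh.structureModule X, W) from hg.coef h x))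
    (fun _ h x y => hg.coef_add h x y)
    (fun _ h a x => hg.coef_smul_left h a x)
    (fun _ _ h h' x => hg.coef_res h h' x)

theorem evO_gdual {W : X.Opens} (h : W ≤ U) (x : Γ(L, W)) : evO (gdual hg) h x = hg.coef h x := rfl

theorem evO_gdual_self {W : X.Opens} (h : W ≤ U) : evO (gdual hg) h (res L h g) = 1 :=
  hg.coef_res_self h

theorem evO_eq_coef_mul {V : X.Opens} (hV : V ≤ U) (φ : Γ(dual L, V)) {W : X.Opens} (h : W ≤ V) (x : Γ(L, W)) :
    evO φ h x = hg.coef (h.trans hV) x * resO h (evO φ le_rfl (res L hV g)) := by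
  conv_lhs => rw [← hg.coef_smul (h.trans hV) x]
  rw [evO_smul, ← res_res L hV h, evO_res φ le_rfl h]

/-- **the dual generator generates the dual** -/
theorem isGen_gdual : IsGen (dual L) U (gdual hg) := by
  intro W hW
  constructor
  · intro c c' hcc
    have h1 := congrArg (fun φ : Γ(dual L, W) => evO φ le_rfl (res L hW g)) hcc
    simp only [smul_evO, res_evO, evO_gdual_self, mul_one, resO_self] at h1
    exact h1
  · intro φ
    refine ⟨evO φ le_rfl (res L hW g), ?_⟩
    apply ext_evO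
    intro W' hW' x
    rw [smul_evO, res_evO, evO_gdual, evO_eq_coef_mul hg hW φ hW' x, mul_comm]

end Gen

/-- **the dual of an invertible module is invertible** -/
theorem isInvertible_dual (hL : PicF.IsInvertible L) : PicF.IsInvertible (dual L) := by
  refine isInvertible_of_isGen _ fun x => ?_
  obtain ⟨U, g, hxU, hg⟩ := exists_isGen L hL x
  exact ⟨U, gdual hg, hxU, isGen_gdual hg⟩

section Untwist

variable (M : X.Modules) {V : X.Opens} {g : Γ(L, V)}

/-- `x ↦ x ⊗ g`, as a linear map -/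
def tmulLin (g : Γ(L, V)) : Γ(M, V) →ₗ[Γ(X, V)] Γ(CohB1.tensorMod M L, V) where
  toFun x := tmulSec M L x g
  map_add' x y := tmulSec_add_left M L x y g
  map_smul' a x := tmulSec_smul_left M L a x g

/-- `x ↦ x ⊗ g` for a generator `g`, as a linear equivalence -/
def tmulEquiv (hg : IsGen L V g) : Γ(M, V) ≃ₗ[Γ(X, V)] Γ(CohB1.tensorMod M L, V) :=
  LinearEquiv.ofBijective (tmulLin M g) (tmulSec_right_bijective M L hg)

/-- the unique `x` with `x ⊗ g = τ` -/
def untw (hg : IsGen L V g) (τ : Γ(CohB1.tensorMod M L, V)) : Γ(M, V) := (tmulEquiv M hg).symm τ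

theorem tmulSec_untw (hg : IsGen L V g) (τ : Γ(CohB1.tensorMod M L, V)) :
    tmulSec M L (untw M hg τ) g = τ := (tmulEquiv M hg).apply_symm_apply τ

theorem untw_eq (hg : IsGen L V g) (τ : Γ(CohB1.tensorMod M L, V)) (x : Γ(M, V))
    (hx : tmulSec M L x g = τ) : untw M hg τ = x := by
  apply (tmulSec_right_bijective M L hg).1
  show tmulSec M L (untw M hg τ) g = tmulSec M L x g
  rw [tmulSec_untw, hx]

theorem untw_tmulSec (hg : IsGen L V g) (x : Γ(M, V)) : untw M hg (tmulSec M L x g) = x :=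
  untw_eq M hg _ x rfl

theorem untw_res (hg : IsGen L V g) (τ : Γ(CohB1.tensorMod M L, V)) {V' : X.Opens} (h : V' ≤ V) :
    untw M (hg.res h) (res (CohB1.tensorMod M L) h τ) = res M h (untw M hg τ) := by
  apply untw_eq
  rw [← tmulSec_res, tmulSec_untw]

/-- the value at `η` of the morphism `L^∨ ⟶ M` defined by `τ`, computed with the generator `g` -/
def pair (hg : IsGen L V g) (τ : Γ(CohB1.tensorMod M L, V)) (η : Γ(dual L, V)) : Γ(M, V) :=
  (evO η le_rfl g • untw M hg τ : Γ(M, V))

theorem pair_indep {g' : Γ(L, V)} (hg : IsGen L V g) (hg' : IsGen L V g') (τ : Γ(CohB1.tensorMod M L, V))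
    (η : Γ(dual L, V)) : pair M hg τ η = pair M hg' τ η := by
  have hu : (hg.coef le_rfl g' • g : Γ(L, V)) = g' := by
    have := hg.coef_smul le_rfl g'
    rwa [res_self] at this
  have h1 : untw M hg τ = (hg.coef le_rfl g' • untw M hg' τ : Γ(M, V)) := by
    apply untw_eq
    rw [tmulSec_smul_left, ← tmulSec_smul_right, hu, tmulSec_untw]
  have h2 : evO η le_rfl g' = hg.coef le_rfl g' * evO η le_rfl g := by
    conv_lhs => rw [← hu]
    rw [evO_smul]
  unfold pair
  rw [h1, h2, ← mul_smul, mul_comm]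

theorem pair_add (hg : IsGen L V g) (τ : Γ(CohB1.tensorMod M L, V)) (η η' : Γ(dual L, V)) :
    pair M hg τ (η + η') = pair M hg τ η + pair M hg τ η' := by
  unfold pair
  rw [add_evO, add_smul]

theorem pair_smul (hg : IsGen L V g) (τ : Γ(CohB1.tensorMod M L, V)) (a : Γ(X, V)) (η : Γ(dual L, V)) :
    pair M hg τ (a • η : Γ(dual L, V)) = (a • pair M hg τ η : Γ(M, V)) := by
  unfold pair
  rw [smul_evO, resO_self, mul_smul]

theorem pair_res (hg : IsGen L V g) (τ : Γ(CohB1.tensorMod M L, V)) (η : Γ(dual L, V)) {V' : X.Opens}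
    (h : V' ≤ V) :
    pair M (hg.res h) (res (CohB1.tensorMod M L) h τ) (res (dual L) h η) = res M h (pair M hg τ η) := by
  unfold pair
  rw [untw_res M hg, res_evO, res_smul]
  congr 1
  have := evO_res η le_rfl h g
  exact this

end Untwist

section HomOfSec

variable (M : X.Modules) (hL : PicF.IsInvertible L) (σ : Γ(CohB1.tensorMod M L, ⊤))

/-- the local data of the morphism `L^∨ ⟶ M` defined by a global section of `M ⊗ L` -/
def homData : LocalHomData (dual L) M where
  B V := ∃ g : Γ(L, V), IsGen L V g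
  down V V' h := fun ⟨g, hg⟩ => ⟨res L h g, hg.res h⟩
  cov x := by
    obtain ⟨U, g, hxU, hg⟩ := exists_isGen L hL x
    exact ⟨U, ⟨g, hg⟩, hxU⟩
  φ V hV η := pair M hV.choose_spec (res (CohB1.tensorMod M L) le_top σ) η
  add V hV η η' := pair_add M _ _ η η'
  smul V hV a η := pair_smul M _ _ a η
  nat V hV V' h η := by
    have h1 := pair_res M hV.choose_spec (res (CohB1.tensorMod M L) le_top σ) η h
    rw [res_res] at h1
    rw [← h1]
    exact pair_indep M _ _ _ _

/-- **the morphism `L^∨ ⟶ M` defined by a global section of `M ⊗ L`** -/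
def homOfTensorSec : dual L ⟶ M := (homData M hL σ).hom

theorem homOfTensorSec_app {V : X.Opens} {g : Γ(L, V)} (hg : IsGen L V g) (η : Γ(dual L, V)) :
    (homOfTensorSec M hL σ).app V η = pair M hg (res (CohB1.tensorMod M L) le_top σ) η := by
  have h := (homData M hL σ).hom_app V ⟨g, hg⟩ η
  rw [homOfTensorSec, h]
  exact pair_indep M _ _ _ _

theorem homOfTensorSec_app_gdual {V : X.Opens} {g : Γ(L, V)} (hg : IsGen L V g) :
    (homOfTensorSec M hL σ).app V (gdual hg) = untw M hg (res (CohB1.tensorMod M L) le_top σ) := by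
  rw [homOfTensorSec_app M hL σ hg]
  unfold pair
  rw [evO_gdual, hg.coef_self, one_smul]

end HomOfSec

end Groth.Agent.Lib.Helper28.HomMod
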