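import Groth.Agent.Lib.Helper28.GrTildeQC

/-!
# The functions `a / f^d` on the standard opens of `Proj` (`f` of degree one)

* `fr`: the function `a / f^d` on `D₊(f)`, for `a` of degree `d`; its algebra (`fr_add`, `fr_mul`, `fr_self`, ...);
* `fr_overlap`: `a / g^d = (f/g)^d * (a / f^d)` on `D₊(f) ∩ D₊(g)`;
* `θ`: the ring homomorphism `A → Γ(D₊(f), O)[X]`, `a ↦ (a/f^d) X^d` for `a` of degree `d`.
-/

set_option autoImplicit false
universe u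
open CategoryTheory AlgebraicGeometry Opposite TopologicalSpace HomogeneousLocalization
noncomputable section

namespace Groth.Agent.Lib.Helper28.ProjFrac

open Groth.Agent.Lib.Helper28 Groth.Agent.Lib.Helper28.GrTildeQC Groth.Agent.Lib.Helper28.QCohLoc

variable {R A : Type u} [CommRing R] [CommRing A] [Algebra R A] (𝒜 : ℕ → Submodule R A) [GradedAlgebra 𝒜]

/-- functions on an open of `Proj` are determined by their values -/
theorem valO_ext {V : (Proj 𝒜).Opens} (s t : Γ(Proj 𝒜, V))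
    (h : ∀ x : V, (valO 𝒜 s x).val = (valO 𝒜 t x).val) : s = t := by
  have : (show (ProjectiveSpectrum.Proj.structureSheaf 𝒜).1.obj (op V) from s) =
      (show (ProjectiveSpectrum.Proj.structureSheaf 𝒜).1.obj (op V) from t) :=
    Subtype.ext (funext fun x => HomogeneousLocalization.val_injective _ (h x))
  exact this

theorem valO_add {V : (Proj 𝒜).Opens} (s t : Γ(Proj 𝒜, V)) (x : V) :
    valO 𝒜 (s + t) x = valO 𝒜 s x + valO 𝒜 t x := rfl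

theorem valO_mul {V : (Proj 𝒜).Opens} (s t : Γ(Proj 𝒜, V)) (x : V) :
    valO 𝒜 (s * t) x = valO 𝒜 s x * valO 𝒜 t x := rfl

theorem valO_one {V : (Proj 𝒜).Opens} (x : V) : valO 𝒜 (1 : Γ(Proj 𝒜, V)) x = 1 := rfl

theorem valO_zero {V : (Proj 𝒜).Opens} (x : V) : valO 𝒜 (0 : Γ(Proj 𝒜, V)) x = 0 := rfl

theorem mem_smul_one {n : ℕ} {x : A} (hx : x ∈ 𝒜 n) : x ∈ 𝒜 (n • 1) := by
  rwa [smul_eq_mul, mul_one]

variable {f : A} (hf : f ∈ 𝒜 1)

/-- the function `a / f^d` on `D₊(f)` -/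
def fr (d : ℕ) (a : A) (ha : a ∈ 𝒜 d) : Γ(Proj 𝒜, Proj.basicOpen 𝒜 f) :=
  Proj.awayToSection 𝒜 f (Away.mk 𝒜 hf d a (mem_smul_one 𝒜 ha))

theorem val_fr (d : ℕ) (a : A) (ha : a ∈ 𝒜 d) (x : Proj.basicOpen 𝒜 f) :
    (valO 𝒜 (fr 𝒜 hf d a ha) x).val = Localization.mk a ⟨f ^ d, GrSectMod.pow_nin 𝒜 d x⟩ := rfl

theorem fr_zero (d : ℕ) : fr 𝒜 hf d 0 (zero_mem _) = 0 := by
  refine valO_ext 𝒜 _ _ fun x => ?_
  rw [val_fr, valO_zero, HomogeneousLocalization.val_zero, Localization.mk_zero]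

theorem fr_add (d : ℕ) (a b : A) (ha : a ∈ 𝒜 d) (hb : b ∈ 𝒜 d) :
    fr 𝒜 hf d (a + b) (add_mem ha hb) = fr 𝒜 hf d a ha + fr 𝒜 hf d b hb := by
  refine valO_ext 𝒜 _ _ fun x => ?_
  rw [valO_add, HomogeneousLocalization.val_add, val_fr, val_fr, val_fr, Localization.add_mk_self]

theorem fr_mul (d e : ℕ) (a b : A) (ha : a ∈ 𝒜 d) (hb : b ∈ 𝒜 e) :
    fr 𝒜 hf (d + e) (a * b) (SetLike.mul_mem_graded ha hb) = fr 𝒜 hf d a ha * fr 𝒜 hf e b hb := by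
  refine valO_ext 𝒜 _ _ fun x => ?_
  rw [valO_mul, HomogeneousLocalization.val_mul, val_fr, val_fr, val_fr, Localization.mk_mul]
  congr 1
  exact Subtype.ext (pow_add _ _ _)

theorem fr_one : fr 𝒜 hf 0 1 SetLike.GradedOne.one_mem = 1 := by
  refine valO_ext 𝒜 _ _ fun x => ?_
  rw [val_fr, valO_one, HomogeneousLocalization.val_one]
  have e : (⟨f ^ 0, GrSectMod.pow_nin 𝒜 0 x⟩ : x.1.asHomogeneousIdeal.toIdeal.primeCompl) = 1 :=
    Subtype.ext (pow_zero _)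
  rw [e]
  exact Localization.mk_self (1 : x.1.asHomogeneousIdeal.toIdeal.primeCompl)

theorem fr_self : fr 𝒜 hf 1 f hf = 1 := by
  refine valO_ext 𝒜 _ _ fun x => ?_
  rw [val_fr, valO_one, HomogeneousLocalization.val_one]
  convert Localization.mk_self (⟨f ^ 1, GrSectMod.pow_nin 𝒜 1 x⟩ : x.1.asHomogeneousIdeal.toIdeal.primeCompl) using 2
  exact (pow_one f).symm

theorem fr_pow_self (d : ℕ) : fr 𝒜 hf d (f ^ d) (by simpa using SetLike.pow_mem_graded d hf) = 1 := by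
  refine valO_ext 𝒜 _ _ fun x => ?_
  rw [val_fr, valO_one, HomogeneousLocalization.val_one]
  exact Localization.mk_self (⟨f ^ d, GrSectMod.pow_nin 𝒜 d x⟩ : x.1.asHomogeneousIdeal.toIdeal.primeCompl)

variable {g : A} (hg : g ∈ 𝒜 1)

/-- `a / g^d = (f/g)^d * (a / f^d)` on the opens inside `D₊(f) ∩ D₊(g)` -/
theorem fr_overlap {V : (Proj 𝒜).Opens} (hVf : V ≤ Proj.basicOpen 𝒜 f) (hVg : V ≤ Proj.basicOpen 𝒜 g)
    (d : ℕ) (a : A) (ha : a ∈ 𝒜 d) :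
    resO hVg (fr 𝒜 hg d a ha) = (resO hVg (fr 𝒜 hg 1 f hf)) ^ d * resO hVf (fr 𝒜 hf d a ha) := by
  refine valO_ext 𝒜 _ _ fun x => ?_
  rw [valO_mul, HomogeneousLocalization.val_mul, valO_pow, HomogeneousLocalization.val_pow, valO_resO, valO_resO,
    valO_resO, val_fr, val_fr, val_fr, Localization.mk_pow, Localization.mk_mul, Localization.mk_eq_mk_iff,
    Localization.r_iff_exists]
  refine ⟨1, ?_⟩
  simp only [OneMemClass.coe_one, one_mul, Submonoid.coe_mul, SubmonoidClass.coe_pow]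
  ring

/-- `(f/g) * (g/f) = 1` on the opens inside `D₊(f) ∩ D₊(g)` -/
theorem fr_mul_fr {V : (Proj 𝒜).Opens} (hVf : V ≤ Proj.basicOpen 𝒜 f) (hVg : V ≤ Proj.basicOpen 𝒜 g) :
    resO hVg (fr 𝒜 hg 1 f hf) * resO hVf (fr 𝒜 hf 1 g hg) = 1 := by
  refine valO_ext 𝒜 _ _ fun x => ?_
  rw [valO_mul, HomogeneousLocalization.val_mul, valO_resO, valO_resO, val_fr, val_fr, valO_one,
    HomogeneousLocalization.val_one, Localization.mk_mul]
  convert Localization.mk_self (⟨g ^ 1, GrSectMod.pow_nin 𝒜 1 ⟨x.1, hVg x.2⟩⟩ * ⟨f ^ 1, GrSectMod.pow_nin 𝒜 1 ⟨x.1, hVf x.2⟩⟩ :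
    x.1.asHomogeneousIdeal.toIdeal.primeCompl) using 2
  simp only [Submonoid.coe_mul]
  ring

theorem isUnit_resO_fr {V : (Proj 𝒜).Opens} (hVf : V ≤ Proj.basicOpen 𝒜 f) (hVg : V ≤ Proj.basicOpen 𝒜 g) :
    IsUnit (resO hVg (fr 𝒜 hg 1 f hf)) :=
  IsUnit.of_mul_eq_one _ (fr_mul_fr 𝒜 hf hg hVf hVg)

/-- the basic open of `f/g` in `D₊(g)` is `D₊(g) ∩ D₊(f)` -/
theorem basicOpen_fr : (Proj 𝒜).basicOpen (fr 𝒜 hg 1 f hf) = Proj.basicOpen 𝒜 g ⊓ Proj.basicOpen 𝒜 f := by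
  unfold fr
  rw [basicOpen_awayToSection, Proj.basicOpen_mul]

/-- the maps on graded pieces: `x ↦ (x/f^n) X^n` -/
def piece (n : ℕ) : 𝒜 n →+ Polynomial Γ(Proj 𝒜, Proj.basicOpen 𝒜 f) where
  toFun x := Polynomial.monomial n (fr 𝒜 hf n x.1 x.2)
  map_zero' := by
    change Polynomial.monomial n (fr 𝒜 hf n 0 _) = 0
    rw [fr_zero, map_zero]
  map_add' x y := by
    change Polynomial.monomial n (fr 𝒜 hf n (x.1 + y.1) _) = _
    rw [fr_add 𝒜 hf n x.1 y.1 x.2 y.2, map_add]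

theorem piece_apply (n : ℕ) (x : 𝒜 n) : piece 𝒜 hf n x = Polynomial.monomial n (fr 𝒜 hf n x.1 x.2) := rfl

theorem piece_one : piece 𝒜 hf 0 (GradedMonoid.GOne.one (A := fun i => 𝒜 i)) = 1 := by
  rw [piece_apply]
  change Polynomial.monomial 0 (fr 𝒜 hf 0 1 _) = 1
  rw [fr_one]
  rfl

theorem piece_mul {i j : ℕ} (x : 𝒜 i) (y : 𝒜 j) :
    piece 𝒜 hf (i + j) (GradedMonoid.GMul.mul (A := fun i => 𝒜 i) x y) =
      piece 𝒜 hf i x * piece 𝒜 hf j y := by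
  rw [piece_apply, piece_apply, piece_apply, Polynomial.monomial_mul_monomial]
  change Polynomial.monomial (i + j) (fr 𝒜 hf (i + j) (x.1 * y.1) _) = _
  rw [fr_mul 𝒜 hf i j x.1 y.1 x.2 y.2]

/-- `θ : A → Γ(D₊(f), O)[X]`, `a ↦ (a/f^n) X^n` for `a` of degree `n` -/
def θ : A →+* Polynomial Γ(Proj 𝒜, Proj.basicOpen 𝒜 f) :=
  (DirectSum.toSemiring (piece 𝒜 hf) (piece_one 𝒜 hf) (piece_mul 𝒜 hf)).comp
    (DirectSum.decomposeRingEquiv 𝒜).toRingHom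

theorem θ_of_mem {n : ℕ} {x : A} (hx : x ∈ 𝒜 n) :
    θ 𝒜 hf x = Polynomial.monomial n (fr 𝒜 hf n x hx) := by
  have : θ 𝒜 hf x = piece 𝒜 hf n ⟨x, hx⟩ := by
    change DirectSum.toSemiring (piece 𝒜 hf) (piece_one 𝒜 hf) (piece_mul 𝒜 hf)
      (DirectSum.decompose 𝒜 x) = _
    rw [DirectSum.decompose_of_mem 𝒜 hx, DirectSum.toSemiring_of]
  rw [this, piece_apply]

end Groth.Agent.Lib.Helper28.ProjFrac
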