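import Groth.Agent.Lib.Helper28.TwistQC
import Groth.Agent.Lib.Helper28.ProjFrac
import Groth.Agent.Lib.Helper28.QCohGen
import Groth.Prelude.Def_FlatMod2

/-!
# `O(n)` on `Proj` is generated by the sections `f^n`, `f` running through degree one generators
-/

set_option autoImplicit false
universe u
open CategoryTheory CategoryTheory.Limits AlgebraicGeometry Opposite TopologicalSpace HomogeneousLocalization
noncomputable section

namespace Groth.Agent.Lib.Helper28.TwistGen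

open Groth.Agent.Lib.Helper28 Groth.Agent.Lib.Helper28.QCohLoc Groth.Agent.Lib.Helper28.GrTildeQC

section general

variable {X : Scheme.{u}} (M : X.Modules)

/-- the morphism `O_X ⟶ M` defined by a global section -/
def ofSection (σ : Γ(M, ⊤)) : Coh.structureModule X ⟶ M :=
  SheafOfModules.unitHomEquiv M |>.symm (globalSection M σ)

theorem ofSection_app_one (σ : Γ(M, ⊤)) (V : X.Opens) :
    (ofSection M σ).app V (1 : Γ(X, V)) = res M (le_top : V ≤ ⊤) σ := by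
  have h := SheafOfModules.unitHomEquiv_apply_coe M (ofSection M σ) (op V)
  have h2 : SheafOfModules.unitHomEquiv M (ofSection M σ) = globalSection M σ :=
    Equiv.apply_symm_apply _ _
  rw [h2] at h
  exact h.symm

theorem ofSection_app (σ : Γ(M, ⊤)) (V : X.Opens) (c : Γ(X, V)) :
    (ofSection M σ).app V (show Γ(Coh.structureModule X, V) from c) = c • res M (le_top : V ≤ ⊤) σ := by
  have h1 : (show Γ(Coh.structureModule X, V) from c) =
      (c • (show Γ(Coh.structureModule X, V) from (1 : Γ(X, V))) : Γ(Coh.structureModule X, V)) :=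
    (mul_one c).symm
  rw [h1, Scheme.Modules.Hom.app_smul]
  congr 1
  exact ofSection_app_one M σ V

end general

variable {R A : Type u} [CommRing R] [CommRing A] [Algebra R A] (𝒜 : ℕ → Submodule R A) [GradedAlgebra 𝒜]

/-- the global section `a/1` of `O(i)` -/
def gsec {i : ℕ} (a : A) (ha : a ∈ 𝒜 i) : Γ(Twist.twist 𝒜 (i : ℤ), ⊤) := Twist.globalOf 𝒜 ⟨a, ha⟩

theorem val_gsec {i : ℕ} (a : A) (ha : a ∈ 𝒜 i) (x : (⊤ : (Proj 𝒜).Opens)) :
    TwistQC.val 𝒜 (gsec 𝒜 a ha) x = Localization.mk a 1 := rfl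

theorem pow_mem_one {f : A} (hf : f ∈ 𝒜 1) (n : ℕ) : f ^ n ∈ 𝒜 n := by
  simpa using SetLike.pow_mem_graded n hf

/-- locally on `D₊(f)` every section of `O(n)` is a multiple of `f^n` -/
theorem exists_smul_eq {f : A} (hf : f ∈ 𝒜 1) (n : ℕ) {V : (Proj 𝒜).Opens} (hV : V ≤ Proj.basicOpen 𝒜 f)
    (t : Γ(Twist.twist 𝒜 (n : ℤ), V)) (q : Proj 𝒜) (hq : q ∈ V) :
    ∃ (V' : (Proj 𝒜).Opens) (hV' : V' ≤ V), q ∈ V' ∧ ∃ c : Γ(Proj 𝒜, V'),
      res (Twist.twist 𝒜 (n : ℤ)) hV' t =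
        (c • res (Twist.twist 𝒜 (n : ℤ)) (le_top : V' ≤ ⊤) (gsec 𝒜 (f ^ n) (pow_mem_one 𝒜 hf n)) :
          Γ(Twist.twist 𝒜 (n : ℤ), V')) := by
  obtain ⟨e, h, he, hh, hhq, hhV⟩ := GrSectComap.exists_pos_basicOpen 𝒜 V q hq
  have hfh : f * h ∈ 𝒜 (1 + e) := SetLike.mul_mem_graded hf hh
  have hpos : 0 < 1 + e := by omega
  have hV' : Proj.basicOpen 𝒜 (f * h) ≤ V := by
    intro y hy
    rw [Proj.basicOpen_mul] at hy
    exact hhV y ((Proj.mem_basicOpen 𝒜 h y).1 hy.2)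
  have hqV' : q ∈ Proj.basicOpen 𝒜 (f * h) := by
    rw [Proj.basicOpen_mul]
    exact ⟨hV hq, (Proj.mem_basicOpen 𝒜 h q).2 hhq⟩
  refine ⟨Proj.basicOpen 𝒜 (f * h), hV', hqV', ?_⟩
  obtain ⟨k, i, m, hm, hi, hval⟩ := TwistQC.exists_frac 𝒜 hfh hpos (n : ℤ)
    (res (Twist.twist 𝒜 (n : ℤ)) hV' t)
  have hdeg : m * h ^ n ∈ 𝒜 ((k + n) • (1 + e)) := by
    have h1 : m * h ^ n ∈ 𝒜 (i + n • e) := SetLike.mul_mem_graded hm (SetLike.pow_mem_graded n hh)
    have h2 : i + n • e = (k + n) • (1 + e) := by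
      have : (i : ℤ) = k * ((1 + e : ℕ) : ℤ) + n := hi
      simp only [smul_eq_mul]
      push_cast at this
      zify
      rw [this]; ring
    rwa [h2] at h1
  refine ⟨Proj.awayToSection 𝒜 (f * h) (Away.mk 𝒜 hfh (k + n) (m * h ^ n) hdeg), ?_⟩
  apply TwistQC.ext_val
  intro x
  rw [hval x, TwistQC.val_smul, val_valO_awayToSection 𝒜 hfh (k + n) (m * h ^ n) hdeg x, TwistQC.val_res, val_gsec,
    Localization.mk_mul, Localization.mk_eq_mk_iff, Localization.r_iff_exists]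
  refine ⟨1, ?_⟩
  simp only [OneMemClass.coe_one, one_mul, Submonoid.coe_mul, mul_one]
  ring


/-- the standard opens of a generating set of the irrelevant ideal cover `Proj` -/
theorem exists_mem_basicOpen (s : Finset A)
    (hs : (HomogeneousIdeal.irrelevant 𝒜).toIdeal = Ideal.span (s : Set A)) (x : Proj 𝒜) :
    ∃ f ∈ s, x ∈ Proj.basicOpen 𝒜 f := by
  by_contra hcon
  push_neg at hcon
  have hx : ¬ HomogeneousIdeal.irrelevant 𝒜 ≤ (show ProjectiveSpectrum 𝒜 from x).asHomogeneousIdeal :=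
    (show ProjectiveSpectrum 𝒜 from x).not_irrelevant_le
  apply hx
  intro a ha
  have ha' : a ∈ (HomogeneousIdeal.irrelevant 𝒜).toIdeal := ha
  rw [hs] at ha'
  refine (Ideal.span_le.2 ?_) ha'
  intro f hf
  by_contra hfx
  exact hcon f hf ((Proj.mem_basicOpen 𝒜 f x).2 hfx)

/-- **`O(n)` is a quotient of a finite free module** (degree one generators). -/
theorem exists_epi_free (s : Finset A) (hs1 : ∀ f ∈ s, f ∈ 𝒜 1)
    (hs : (HomogeneousIdeal.irrelevant 𝒜).toIdeal = Ideal.span (s : Set A)) (n : ℕ) :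
    ∃ (k : ℕ) (p : FlatMod.freeMod (Proj 𝒜) k ⟶ Twist.twist 𝒜 (n : ℤ)), Epi p := by
  classical
  let e : Fin s.card ≃ {f // f ∈ s} := s.equivFin.symm
  let φ : ∀ i : Fin s.card, Coh.structureModule (Proj 𝒜) ⟶ Twist.twist 𝒜 (n : ℤ) := fun i =>
    ofSection (Twist.twist 𝒜 (n : ℤ)) (gsec 𝒜 ((e i).1 ^ n) (pow_mem_one 𝒜 (hs1 _ (e i).2) n))
  refine ⟨s.card, Sigma.desc φ, ?_⟩
  refine epi_of_locally_in_range _ ?_
  intro W t q hq
  obtain ⟨f, hf, hqf⟩ := exists_mem_basicOpen 𝒜 s hs q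
  obtain ⟨V', hV', hqV', c, hc⟩ := exists_smul_eq 𝒜 (hs1 f hf) n
    (inf_le_right : W ⊓ Proj.basicOpen 𝒜 f ≤ Proj.basicOpen 𝒜 f)
    (res (Twist.twist 𝒜 (n : ℤ)) inf_le_left t) q ⟨hq, hqf⟩
  refine ⟨V', hV'.trans inf_le_left, hqV', ?_⟩
  let i : Fin s.card := e.symm ⟨f, hf⟩
  have hi : (e i).1 = f := by simp [i]
  refine ⟨(Sigma.ι (fun _ : Fin s.card => Coh.structureModule (Proj 𝒜)) i).app V'
    (show Γ(Coh.structureModule (Proj 𝒜), V') from c), ?_⟩
  have h1 : (Sigma.desc φ).app V' ((Sigma.ι (fun _ : Fin s.card => Coh.structureModule (Proj 𝒜)) i).app V'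
      (show Γ(Coh.structureModule (Proj 𝒜), V') from c)) =
      (Sigma.ι (fun _ : Fin s.card => Coh.structureModule (Proj 𝒜)) i ≫ Sigma.desc φ).app V'
        (show Γ(Coh.structureModule (Proj 𝒜), V') from c) := rfl
  rw [h1, Sigma.ι_desc]
  change (ofSection (Twist.twist 𝒜 (n : ℤ)) (gsec 𝒜 ((e i).1 ^ n) (pow_mem_one 𝒜 (hs1 _ (e i).2) n))).app V' _ = _
  rw [ofSection_app, res_res] at *
  rw [hc]
  congr 2
  · simp only [hi]

end Groth.Agent.Lib.Helper28.TwistGen
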