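import Groth.Agent.Lib.Helper28.TwistInv

/-!
# Twisting sheaves on `Proj` covered by the `D₊(f)`, `f` of degree one
(the results of `TwistMul`, `TwistInv` under the covering hypothesis only)
-/

set_option autoImplicit false
universe u
open CategoryTheory CategoryTheory.Limits AlgebraicGeometry Opposite TopologicalSpace HomogeneousLocalization
noncomputable section

namespace Groth.Agent.Lib.Helper28.TwistCov

open Groth.Agent.Lib.Helper28 Groth.Agent.Lib.Helper28.QCohLoc Groth.Agent.Lib.Helper28.GrTildeQC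
  Groth.Agent.Lib.Helper28.TwistMul Groth.Agent.Lib.Helper28.TwistInv

variable {R A : Type u} [CommRing R] [CommRing A] [Algebra R A] (𝒜 : ℕ → Submodule R A) [GradedAlgebra 𝒜]

theorem isChart_basis (hcov : ∀ x : Proj 𝒜, ∃ f : A, f ∈ 𝒜 1 ∧ x ∈ Proj.basicOpen 𝒜 f)
    (U : (Proj 𝒜).Opens) (x : Proj 𝒜) (hx : x ∈ U) :
    ∃ V : (Proj 𝒜).Opens, IsChart 𝒜 V ∧ x ∈ V ∧ V ≤ U := by
  obtain ⟨f, hf, hxf⟩ := hcov x
  obtain ⟨e, h, he, hh, hhx, hhU⟩ := GrSectComap.exists_pos_basicOpen 𝒜 U x hx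
  refine ⟨Proj.basicOpen 𝒜 (f * h), ⟨f, h, e, hf, he, hh, rfl⟩, ?_, ?_⟩
  · rw [Proj.basicOpen_mul]
    exact ⟨hxf, (Proj.mem_basicOpen 𝒜 h x).2 hhx⟩
  · intro y hy
    rw [Proj.basicOpen_mul] at hy
    exact hhU y ((Proj.mem_basicOpen 𝒜 h y).1 hy.2)

theorem nonempty_tensor_iso (hcov : ∀ x : Proj 𝒜, ∃ f : A, f ∈ 𝒜 1 ∧ x ∈ Proj.basicOpen 𝒜 f) (m n : ℤ) :
    Nonempty (CohB1.tensorMod (Twist.twist 𝒜 m) (Twist.twist 𝒜 n) ≅ Twist.twist 𝒜 (m + n)) := by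
  refine TensorIso.nonempty_tensorMod_iso (Twist.twist 𝒜 m) (Twist.twist 𝒜 n) (Twist.twist 𝒜 (m + n))
    (fun W => mul 𝒜 m n) (fun W => mul_add_left 𝒜 m n) (fun W => mul_add_right 𝒜 m n)
    (fun W => mul_smul_left 𝒜 m n) (fun W => mul_smul_right 𝒜 m n) (fun W W' h => mul_res 𝒜 m n h)
    (IsChart 𝒜) (isChart_basis 𝒜 hcov) ?_
  rintro W ⟨f, h, e, hf, he, hh, rfl⟩
  exact TensorIso.tensorDesc_app_bijective_left _ _ _ _ _ _ _ _ _ _ (genW 𝒜 hf h m)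
    (exists_smul_genW_eq 𝒜 hf he hh m) (mul_genW_bijective 𝒜 hf he hh m n)

theorem isInvertible_twist (hcov : ∀ x : Proj 𝒜, ∃ f : A, f ∈ 𝒜 1 ∧ x ∈ Proj.basicOpen 𝒜 f) (m : ℤ) :
    PicF.IsInvertible (Twist.twist 𝒜 m) := by
  intro y
  obtain ⟨f, hf, hyf⟩ := hcov y
  exact ⟨Proj.basicOpen 𝒜 f, hyf, TwistInv.nonempty_restrict_iso 𝒜 hf m⟩

theorem nonempty_twist_zero_iso (hcov : ∀ x : Proj 𝒜, ∃ f : A, f ∈ 𝒜 1 ∧ x ∈ Proj.basicOpen 𝒜 f) :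
    Nonempty (Twist.twist 𝒜 ((0 : ℕ) : ℤ) ≅ Coh.structureModule (Proj 𝒜)) := by
  let σ : Γ(Twist.twist 𝒜 ((0 : ℕ) : ℤ), ⊤) := TwistGen.gsec 𝒜 (1 : A) SetLike.GradedOne.one_mem
  let ψ : Coh.structureModule (Proj 𝒜) ⟶ Twist.twist 𝒜 ((0 : ℕ) : ℤ) := TwistGen.ofSection _ σ
  have hiso : IsIso ψ := by
    refine TensorIso.isIso_of_bijective_on_basis ψ (IsChart 𝒜) (isChart_basis 𝒜 hcov) ?_
    rintro W ⟨f, h, e, hf, he, hh, rfl⟩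
    have hres : res (Twist.twist 𝒜 ((0 : ℕ) : ℤ)) (le_top : Proj.basicOpen 𝒜 (f * h) ≤ ⊤) σ =
        genW 𝒜 hf h ((0 : ℕ) : ℤ) := by
      apply TwistQC.ext_val
      intro x
      rw [val_genW]
      show Localization.mk (1 : A) 1 = _
      rw [Localization.mk_eq_mk_iff, Localization.r_iff_exists]
      refine ⟨1, ?_⟩
      simp
    have hfun : (ψ.app (Proj.basicOpen 𝒜 (f * h)) :
        Γ(Coh.structureModule (Proj 𝒜), Proj.basicOpen 𝒜 (f * h)) → _) =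
        (fun c : Γ(Proj 𝒜, Proj.basicOpen 𝒜 (f * h)) =>
          (c • genW 𝒜 hf h ((0 : ℕ) : ℤ) : Γ(Twist.twist 𝒜 ((0 : ℕ) : ℤ), Proj.basicOpen 𝒜 (f * h)))) := by
      funext c
      have h1 := TwistGen.ofSection_app (Twist.twist 𝒜 ((0 : ℕ) : ℤ)) σ (Proj.basicOpen 𝒜 (f * h)) c
      rw [hres] at h1
      exact h1
    rw [hfun]
    exact smul_genW_bijective 𝒜 hf he hh _
  exact ⟨(asIso ψ).symm⟩

theorem nonempty_twist_iso_tensorPow (hcov : ∀ x : Proj 𝒜, ∃ f : A, f ∈ 𝒜 1 ∧ x ∈ Proj.basicOpen 𝒜 f)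
    (n : ℕ) : Nonempty (Twist.twist 𝒜 (n : ℤ) ≅ CohB1.tensorPow (Twist.twist 𝒜 1) n) := by
  induction n with
  | zero => exact nonempty_twist_zero_iso 𝒜 hcov
  | succ n ih =>
    obtain ⟨e⟩ := ih
    obtain ⟨t⟩ := nonempty_tensor_iso 𝒜 hcov (n : ℤ) 1
    have hcast : ((n + 1 : ℕ) : ℤ) = (n : ℤ) + 1 := by push_cast; rfl
    rw [hcast]
    exact ⟨t.symm ≪≫ PicGrp.tensorModIso e (Iso.refl _)⟩

theorem cov_of_iSup (hcov : (⨆ f : 𝒜 1, Proj.basicOpen 𝒜 (f : A)) = ⊤) :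
    ∀ x : Proj 𝒜, ∃ f : A, f ∈ 𝒜 1 ∧ x ∈ Proj.basicOpen 𝒜 f := by
  intro x
  have hx : x ∈ (⨆ f : 𝒜 1, Proj.basicOpen 𝒜 (f : A)) := by rw [hcov]; trivial
  obtain ⟨f, hf⟩ := Opens.mem_iSup.1 hx
  exact ⟨f.1, f.2, hf⟩

end Groth.Agent.Lib.Helper28.TwistCov
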