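import Groth.Agent.Lib.Helper28.ProjUPUniq1

set_option autoImplicit false
universe u
open CategoryTheory CategoryTheory.Limits AlgebraicGeometry Opposite TopologicalSpace HomogeneousLocalization
noncomputable section

namespace Groth.Agent.Lib.Helper28.ProjUPUniq

open Groth.Agent.Lib.Helper28 Groth.Agent.Lib.Helper28.QCohLoc Groth.Agent.Lib.Helper28.GenLocus
  Groth.Agent.Lib.Helper28.ProjUPAlg Groth.Agent.Lib.Helper28.ProjUPChart Groth.Agent.Lib.Helper28.PullbackInv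
  Groth.Agent.Lib.Helper28.ProjUPGeom

section

variable {A : Type u} [CommRing A] {S : Type u} [CommRing S] [Algebra A S] (𝒮 : ℕ → Submodule A S)
  [GradedAlgebra 𝒮] {X : Scheme.{u}}


theorem appLE_congr_hom' {X Y : Scheme.{u}} {f g : X ⟶ Y} (e : f = g) (V : Y.Opens) (U : X.Opens)
    (h : U ≤ f ⁻¹ᵁ V) (h' : U ≤ g ⁻¹ᵁ V) : f.appLE V U h = g.appLE V U h' := by
  subst e; rfl

set_option backward.isDefEq.respectTransparency false in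
/-- the structure map `A → Γ(D₊(t), O)` through the structure morphism of `Proj` -/
theorem algebraMap_awayToSection {t : S} (ht : t ∈ 𝒮 1) :
    CommRingCat.ofHom (algebraMap A (Away 𝒮 t)) ≫ Proj.awayToSection 𝒮 t =
      (Scheme.ΓSpecIso (CommRingCat.of A)).inv ≫
        (Segre2.str 𝒮).appLE ⊤ (Proj.basicOpen 𝒮 t) le_top := by
  have hj0 : (⊤ : (Spec (CommRingCat.of (Away 𝒮 t))).Opens) ≤
      Proj.awayι 𝒮 t ht one_pos ⁻¹ᵁ Proj.basicOpen 𝒮 t := by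
    rw [ProjSect.awayι_preimage_self]
  have hK := ProjSect.awayToSection_appLE 𝒮 one_pos ht
  have hj : (Proj.awayι 𝒮 t ht one_pos).appLE (Proj.basicOpen 𝒮 t) ⊤ hj0 =
      (Proj.basicOpenIsoAway 𝒮 t ht one_pos).inv ≫ (Scheme.ΓSpecIso _).inv := by
    rw [Iso.eq_inv_comp]
    exact hK
  haveI : Mono ((Proj.awayι 𝒮 t ht one_pos).appLE (Proj.basicOpen 𝒮 t) ⊤ hj0) := by
    rw [hj]; infer_instance
  rw [← cancel_mono ((Proj.awayι 𝒮 t ht one_pos).appLE (Proj.basicOpen 𝒮 t) ⊤ hj0)]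
  rw [Category.assoc, Category.assoc, hK, Scheme.Hom.appLE_comp_appLE,
    appLE_congr_hom' (Segre2.awayι_str 𝒮 ht one_pos) ⊤ ⊤ _ le_top]
  have e1 : (Spec.map (CommRingCat.ofHom (algebraMap A (Away 𝒮 t)))).appLE ⊤ ⊤ le_top =
      (Spec.map (CommRingCat.ofHom (algebraMap A (Away 𝒮 t)))).appTop :=
    Scheme.Hom.appLE_eq_app (Spec.map (CommRingCat.ofHom (algebraMap A (Away 𝒮 t))))
  rw [e1]
  exact Scheme.ΓSpecIso_inv_naturality _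

theorem algebraMap_comp_appLE (r : X ⟶ Proj 𝒮) {t : S} (ht : t ∈ 𝒮 1) (W : X.Opens)
    (e : W ≤ r ⁻¹ᵁ Proj.basicOpen 𝒮 t) :
    CommRingCat.ofHom (algebraMap A (Away 𝒮 t)) ≫ Proj.awayToSection 𝒮 t ≫
        r.appLE (Proj.basicOpen 𝒮 t) W e =
      (Scheme.ΓSpecIso (CommRingCat.of A)).inv ≫ (r ≫ Segre2.str 𝒮).appLE ⊤ W le_top := by
  rw [← Category.assoc, algebraMap_awayToSection 𝒮 ht, Category.assoc, Scheme.Hom.appLE_comp_appLE]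

/-- the coefficient comparison: `r^♯(f/g) = r'^♯(f/g)` when an isomorphism matches the pulled back sections -/
theorem appLE_fr_eq (r r' : X ⟶ Proj 𝒮)
    (τ : (Scheme.Modules.pullback r).obj (Twist.twist 𝒮 ((1 : ℕ) : ℤ)) ≅
      (Scheme.Modules.pullback r').obj (Twist.twist 𝒮 ((1 : ℕ) : ℤ)))
    {f g : S} (hf : f ∈ 𝒮 1) (hg : g ∈ 𝒮 1)
    (hτf : τ.hom.app ⊤ (pbs r (Twist.twist 𝒮 ((1 : ℕ) : ℤ)) ⊤ (TwistGen.gsec 𝒮 f hf)) =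
      pbs r' (Twist.twist 𝒮 ((1 : ℕ) : ℤ)) ⊤ (TwistGen.gsec 𝒮 f hf))
    (hτg : τ.hom.app ⊤ (pbs r (Twist.twist 𝒮 ((1 : ℕ) : ℤ)) ⊤ (TwistGen.gsec 𝒮 g hg)) =
      pbs r' (Twist.twist 𝒮 ((1 : ℕ) : ℤ)) ⊤ (TwistGen.gsec 𝒮 g hg))
    (W : X.Opens) (e : W ≤ r ⁻¹ᵁ Proj.basicOpen 𝒮 g) (e' : W ≤ r' ⁻¹ᵁ Proj.basicOpen 𝒮 g) :
    r.appLE (Proj.basicOpen 𝒮 g) W e (ProjFrac.fr 𝒮 hg 1 f hf) =
      r'.appLE (Proj.basicOpen 𝒮 g) W e' (ProjFrac.fr 𝒮 hg 1 f hf) := by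
  exact coef_eq_of_iso τ W (pbs r (Twist.twist 𝒮 ((1 : ℕ) : ℤ)) ⊤ (TwistGen.gsec 𝒮 f hf))
    (pbs r (Twist.twist 𝒮 ((1 : ℕ) : ℤ)) ⊤ (TwistGen.gsec 𝒮 g hg))
    (pbs r' (Twist.twist 𝒮 ((1 : ℕ) : ℤ)) ⊤ (TwistGen.gsec 𝒮 f hf))
    (pbs r' (Twist.twist 𝒮 ((1 : ℕ) : ℤ)) ⊤ (TwistGen.gsec 𝒮 g hg)) hτf hτg _ _
    (pbs_gsec_coef 𝒮 r hf hg W e) (pbs_gsec_coef 𝒮 r' hf hg W e') (isGen_pbs_gsec 𝒮 r' hg W e')

/-- **uniqueness of a morphism to `Proj` with prescribed pull back of `O(1)` and its degree one sections** -/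
theorem eq_of_iso {J : Type*} (xs : J → S) (hxs : ∀ j, xs j ∈ 𝒮 1)
    (hgen : Algebra.adjoin A (Set.range xs) = ⊤)
    (r r' : X ⟶ Proj 𝒮) (hrr' : r ≫ Segre2.str 𝒮 = r' ≫ Segre2.str 𝒮)
    (τ : (Scheme.Modules.pullback r).obj (Twist.twist 𝒮 ((1 : ℕ) : ℤ)) ≅
      (Scheme.Modules.pullback r').obj (Twist.twist 𝒮 ((1 : ℕ) : ℤ)))
    (hτ : ∀ j, τ.hom.app ⊤ (pbs r (Twist.twist 𝒮 ((1 : ℕ) : ℤ)) ⊤ (TwistGen.gsec 𝒮 (xs j) (hxs j))) =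
      pbs r' (Twist.twist 𝒮 ((1 : ℕ) : ℤ)) ⊤ (TwistGen.gsec 𝒮 (xs j) (hxs j))) : r = r' := by
  have hcov : ∀ x : Proj 𝒮, ∃ f : S, f ∈ 𝒮 1 ∧ x ∈ Proj.basicOpen 𝒮 f := fun x => by
    obtain ⟨j, hj⟩ := Segre5.cover_of_adjoin 𝒮 xs hxs hgen x
    exact ⟨xs j, hxs j, hj⟩
  refine RelProjGlue.hom_ext_of_local r r' fun x => ?_
  obtain ⟨j, hj⟩ := Segre5.cover_of_adjoin 𝒮 xs hxs hgen (r x)
  have e : r ⁻¹ᵁ Proj.basicOpen 𝒮 (xs j) ≤ r ⁻¹ᵁ Proj.basicOpen 𝒮 (xs j) := le_rfl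
  have e' : r ⁻¹ᵁ Proj.basicOpen 𝒮 (xs j) ≤ r' ⁻¹ᵁ Proj.basicOpen 𝒮 (xs j) :=
    le_of_eq (preimage_eq_of_iso 𝒮 hcov r r' τ (hxs j) (hτ j))
  refine ⟨_, (r ⁻¹ᵁ Proj.basicOpen 𝒮 (xs j)).ι, inferInstance, ⟨⟨x, hj⟩, rfl⟩, ?_⟩
  refine ι_comp_eq_of_appLE_eq r r' (Proj.isAffineOpen_basicOpen 𝒮 (xs j) (hxs j) one_pos) _ e e' ?_
  rw [← cancel_epi (Proj.basicOpenIsoAway 𝒮 (xs j) (hxs j) one_pos).hom]
  show Proj.awayToSection 𝒮 (xs j) ≫ r.appLE _ _ e = Proj.awayToSection 𝒮 (xs j) ≫ r'.appLE _ _ e'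
  ext y
  have hy : y ∈ Algebra.adjoin A (Set.range fun k => ProjClosed.fr 𝒮 (hxs j) 1 (xs k)) := by
    rw [Segre5.adjoin_fr_eq_top 𝒮 (hxs j) xs hxs hgen]; trivial
  induction hy using Algebra.adjoin_induction with
  | mem y hy =>
    obtain ⟨k, rfl⟩ := hy
    have h1 : (Proj.awayToSection 𝒮 (xs j)).hom (ProjClosed.fr 𝒮 (hxs j) 1 (xs k)) =
        ProjFrac.fr 𝒮 (hxs j) 1 (xs k) (hxs k) := by
      rw [ProjClosed.fr_of_mem 𝒮 (hxs j) (hxs k)]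
      rfl
    show (r.appLE _ _ e).hom ((Proj.awayToSection 𝒮 (xs j)).hom _) =
      (r'.appLE _ _ e').hom ((Proj.awayToSection 𝒮 (xs j)).hom _)
    rw [h1]
    exact appLE_fr_eq 𝒮 r r' τ (hxs k) (hxs j) (hτ k) (hτ j) _ e e'
  | algebraMap a =>
    have h1 := congrArg (fun φ => φ.hom a) (algebraMap_comp_appLE 𝒮 r (hxs j) _ e)
    have h2 := congrArg (fun φ => φ.hom a) (algebraMap_comp_appLE 𝒮 r' (hxs j) _ e')
    have h3 : (r ≫ Segre2.str 𝒮).appLE ⊤ (r ⁻¹ᵁ Proj.basicOpen 𝒮 (xs j)) le_top =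
        (r' ≫ Segre2.str 𝒮).appLE ⊤ (r ⁻¹ᵁ Proj.basicOpen 𝒮 (xs j)) le_top :=
      appLE_congr_hom' hrr' _ _ _ _
    rw [h3] at h1
    exact h1.trans h2.symm
  | add y z _ _ hy hz =>
    show (Proj.awayToSection 𝒮 (xs j) ≫ r.appLE _ _ e).hom (y + z) =
      (Proj.awayToSection 𝒮 (xs j) ≫ r'.appLE _ _ e').hom (y + z)
    rw [map_add, map_add]
    exact congrArg₂ (· + ·) hy hz
  | mul y z _ _ hy hz =>
    show (Proj.awayToSection 𝒮 (xs j) ≫ r.appLE _ _ e).hom (y * z) =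
      (Proj.awayToSection 𝒮 (xs j) ≫ r'.appLE _ _ e').hom (y * z)
    rw [map_mul, map_mul]
    exact congrArg₂ (· * ·) hy hz

end

end Groth.Agent.Lib.Helper28.ProjUPUniq
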