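import Groth.Agent.Lib.Helper28.TwistQC
import Groth.Agent.Lib.Helper28.TensorIso

/-!
# The multiplication `O(m) × O(n) → O(m + n)` on `Proj`, and `O(m) ⊗ O(n) ≅ O(m + n)`
-/

set_option autoImplicit false
universe u
open CategoryTheory AlgebraicGeometry Opposite TopologicalSpace
noncomputable section

namespace Groth.Agent.Lib.Helper28.TwistMul

open Groth.Agent.Lib.Helper28 Groth.Agent.Lib.Helper28.GrSect Groth.Agent.Lib.Helper28.QCohLoc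

variable {R A : Type u} [CommRing R] [CommRing A] [Algebra R A] (𝒜 : ℕ → Submodule R A) [GradedAlgebra 𝒜]

theorem mul_mem_twistAt (m n : ℤ) (x : ProjectiveSpectrum 𝒜) {p q : Twist.Loc 𝒜 x}
    (hp : p ∈ Twist.twistAt 𝒜 m x) (hq : q ∈ Twist.twistAt 𝒜 n x) : p * q ∈ Twist.twistAt 𝒜 (m + n) x := by
  induction hp using Submodule.span_induction with
  | mem p hp =>
    obtain ⟨i, j, a, s, hs, hdeg, rfl⟩ := hp
    induction hq using Submodule.span_induction with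
    | mem q hq =>
      obtain ⟨i', j', a', s', hs', hdeg', rfl⟩ := hq
      rw [Localization.mk_mul]
      refine Submodule.subset_span ⟨i + i', j + j', ⟨a.1 * a'.1, SetLike.mul_mem_graded a.2 a'.2⟩,
        ⟨s.1 * s'.1, SetLike.mul_mem_graded s.2 s'.2⟩,
        fun h => (x.isPrime.mem_or_mem h).elim hs hs', by push_cast; omega, rfl⟩
    | zero => rw [mul_zero]; exact zero_mem _
    | add q q' _ _ hq hq' => rw [mul_add]; exact add_mem hq hq'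
    | smul c q _ hq =>
      have : Localization.mk a.1 ⟨s.1, hs⟩ * (c • q) = c • (Localization.mk a.1 ⟨s.1, hs⟩ * q) := by
        rw [Algebra.smul_def, Algebra.smul_def]; ring
      rw [this]
      exact Submodule.smul_mem _ c hq
  | zero => rw [zero_mul]; exact zero_mem _
  | add p p' _ _ hp hp' => rw [add_mul]; exact add_mem hp hp'
  | smul c p _ hp =>
    have : (c • p) * q = c • (p * q) := by
      rw [Algebra.smul_def, Algebra.smul_def]; ring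
    rw [this]
    exact Submodule.smul_mem _ c hp

/-- the product of two sections -/
def mulSect' (m n : ℤ) (U : (Opens (ProjectiveSpectrum.top 𝒜))ᵒᵖ)
    (t : Twist.sectN (𝒜 := 𝒜) m U) (t' : Twist.sectN (𝒜 := 𝒜) n U) : Twist.sectN (𝒜 := 𝒜) (m + n) U :=
  ⟨fun x => ⟨(t.1 x).1 * (t'.1 x).1, mul_mem_twistAt 𝒜 m n x.1 (t.1 x).2 (t'.1 x).2⟩, fun x => by
    rcases t.2 x with ⟨Va, ma, ia, i, j, ⟨a, a_mem⟩, ⟨s, s_mem⟩, nina, ca, wa⟩
    rcases t'.2 x with ⟨Vb, mb, ib, i', j', ⟨b, b_mem⟩, ⟨s', s'_mem⟩, ninb, cb, wb⟩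
    replace ca : (i : ℤ) = j + m ∨ a = 0 := ca
    replace cb : (i' : ℤ) = j' + n ∨ b = 0 := cb
    have nin : ∀ y : (Va ⊓ Vb : Opens _), s * s' ∉ y.1.asHomogeneousIdeal := fun y h =>
      ((y.1.isPrime.mem_or_mem h).elim (nina ⟨y.1, y.2.1⟩)) (ninb ⟨y.1, y.2.2⟩)
    refine ⟨Va ⊓ Vb, ⟨ma, mb⟩, Opens.infLELeft _ _ ≫ ia, i + i', j + j',
      ⟨a * b, SetLike.mul_mem_graded a_mem b_mem⟩, ⟨s * s', SetLike.mul_mem_graded s_mem s'_mem⟩, nin, ?_,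
      fun y => ?_⟩
    · rcases ca with ha | ha
      · rcases cb with hb | hb
        · exact Or.inl (by push_cast; omega)
        · exact Or.inr (show a * b = 0 by rw [hb, mul_zero])
      · exact Or.inr (show a * b = 0 by rw [ha, zero_mul])
    · have e1 := wa ⟨y.1, y.2.1⟩
      have e2 := wb ⟨y.1, y.2.2⟩
      dsimp only at e1 e2 ⊢
      erw [e1, e2]
      rw [Localization.mk_mul]
      rfl⟩

/-- the product of two sections of twisting sheaves -/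
def mul (m n : ℤ) {W : (Proj 𝒜).Opens} (t : Γ(Twist.twist 𝒜 m, W)) (t' : Γ(Twist.twist 𝒜 n, W)) :
    Γ(Twist.twist 𝒜 (m + n), W) :=
  mulSect' 𝒜 m n (op W) t t'

theorem val_mul (m n : ℤ) {W : (Proj 𝒜).Opens} (t : Γ(Twist.twist 𝒜 m, W)) (t' : Γ(Twist.twist 𝒜 n, W))
    (x : W) : TwistQC.val 𝒜 (mul 𝒜 m n t t') x = TwistQC.val 𝒜 t x * TwistQC.val 𝒜 t' x := rfl

theorem val_add {n : ℤ} {V : (Proj 𝒜).Opens} (s t : Γ(Twist.twist 𝒜 n, V)) (x : V) :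
    TwistQC.val 𝒜 (s + t) x = TwistQC.val 𝒜 s x + TwistQC.val 𝒜 t x := rfl

theorem mul_add_left (m n : ℤ) {W : (Proj 𝒜).Opens} (t₁ t₂ : Γ(Twist.twist 𝒜 m, W))
    (t' : Γ(Twist.twist 𝒜 n, W)) : mul 𝒜 m n (t₁ + t₂) t' = mul 𝒜 m n t₁ t' + mul 𝒜 m n t₂ t' := by
  apply TwistQC.ext_val; intro x
  rw [val_add, val_mul, val_mul, val_mul, val_add, add_mul]

theorem mul_add_right (m n : ℤ) {W : (Proj 𝒜).Opens} (t : Γ(Twist.twist 𝒜 m, W))
    (t₁ t₂ : Γ(Twist.twist 𝒜 n, W)) : mul 𝒜 m n t (t₁ + t₂) = mul 𝒜 m n t t₁ + mul 𝒜 m n t t₂ := by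
  apply TwistQC.ext_val; intro x
  rw [val_add, val_mul, val_mul, val_mul, val_add, mul_add]

theorem mul_smul_left (m n : ℤ) {W : (Proj 𝒜).Opens} (a : Γ(Proj 𝒜, W)) (t : Γ(Twist.twist 𝒜 m, W))
    (t' : Γ(Twist.twist 𝒜 n, W)) :
    mul 𝒜 m n (a • t) t' = (a • mul 𝒜 m n t t' : Γ(Twist.twist 𝒜 (m + n), W)) := by
  apply TwistQC.ext_val; intro x
  rw [TwistQC.val_smul, val_mul, val_mul, TwistQC.val_smul, mul_assoc]

theorem mul_smul_right (m n : ℤ) {W : (Proj 𝒜).Opens} (a : Γ(Proj 𝒜, W)) (t : Γ(Twist.twist 𝒜 m, W))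
    (t' : Γ(Twist.twist 𝒜 n, W)) :
    mul 𝒜 m n t (a • t') = (a • mul 𝒜 m n t t' : Γ(Twist.twist 𝒜 (m + n), W)) := by
  apply TwistQC.ext_val; intro x
  rw [TwistQC.val_smul, val_mul, val_mul, TwistQC.val_smul]
  ring

theorem mul_res (m n : ℤ) {W W' : (Proj 𝒜).Opens} (h : W' ≤ W) (t : Γ(Twist.twist 𝒜 m, W))
    (t' : Γ(Twist.twist 𝒜 n, W)) :
    mul 𝒜 m n (res (Twist.twist 𝒜 m) h t) (res (Twist.twist 𝒜 n) h t') =
      res (Twist.twist 𝒜 (m + n)) h (mul 𝒜 m n t t') := rfl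

/-- the generator `f^m` of `O(m)` over `D₊(f)`, `f` of degree one, `m ∈ ℤ` -/
def gen {f : A} (hf : f ∈ 𝒜 1) (m : ℤ) : Γ(Twist.twist 𝒜 m, Proj.basicOpen 𝒜 f) :=
  TwistQC.mkSect 𝒜 hf m (-m).toNat m.toNat (f ^ m.toNat) (by simpa using SetLike.pow_mem_graded m.toNat hf)
    (by have := Int.toNat_sub_toNat_neg m; push_cast; omega)

theorem val_gen {f : A} (hf : f ∈ 𝒜 1) (m : ℤ) (x : Proj.basicOpen 𝒜 f) :
    TwistQC.val 𝒜 (gen 𝒜 hf m) x =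
      Localization.mk (f ^ m.toNat) ⟨f ^ (-m).toNat, GrSectMod.pow_nin 𝒜 _ x⟩ := rfl

theorem isUnit_val_gen {f : A} (hf : f ∈ 𝒜 1) (m : ℤ) (x : Proj.basicOpen 𝒜 f) :
    IsUnit (TwistQC.val 𝒜 (gen 𝒜 hf m) x) := by
  rw [val_gen]
  refine IsUnit.of_mul_eq_one (Localization.mk (f ^ (-m).toNat) ⟨f ^ m.toNat, GrSectMod.pow_nin 𝒜 _ x⟩) ?_
  rw [Localization.mk_mul, mul_comm]
  exact Localization.mk_self (⟨f ^ (-m).toNat, GrSectMod.pow_nin 𝒜 _ x⟩ * ⟨f ^ m.toNat, GrSectMod.pow_nin 𝒜 _ x⟩ :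
    x.1.asHomogeneousIdeal.toIdeal.primeCompl)

section Chart

variable {f : A} (hf : f ∈ 𝒜 1)

theorem basicOpen_mul_le (f h : A) : Proj.basicOpen 𝒜 (f * h) ≤ Proj.basicOpen 𝒜 f := by
  rw [Proj.basicOpen_mul]; exact inf_le_left

/-- the generator `f^m` restricted to `D₊(f h)` -/
def genW (h : A) (m : ℤ) : Γ(Twist.twist 𝒜 m, Proj.basicOpen 𝒜 (f * h)) :=
  res (Twist.twist 𝒜 m) (basicOpen_mul_le 𝒜 f h) (gen 𝒜 hf m)

theorem val_genW (h : A) (m : ℤ) (x : Proj.basicOpen 𝒜 (f * h)) :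
    TwistQC.val 𝒜 (genW 𝒜 hf h m) x =
      Localization.mk (f ^ m.toNat) ⟨f ^ (-m).toNat,
        GrSectMod.pow_nin 𝒜 _ (⟨x.1, basicOpen_mul_le 𝒜 f h x.2⟩ : Proj.basicOpen 𝒜 f)⟩ := rfl

theorem isUnit_val_genW (h : A) (m : ℤ) (x : Proj.basicOpen 𝒜 (f * h)) :
    IsUnit (TwistQC.val 𝒜 (genW 𝒜 hf h m) x) :=
  isUnit_val_gen 𝒜 hf m ⟨x.1, basicOpen_mul_le 𝒜 f h x.2⟩

include hf in
theorem num_mem {h : A} {e : ℕ} (hh : h ∈ 𝒜 e) (m : ℤ) {i : ℕ} {a : A} (ha : a ∈ 𝒜 i) :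
    a * f ^ (-m).toNat * h ^ m.toNat ∈ 𝒜 (i + (-m).toNat + m.toNat * e) := by
  have h1 : f ^ (-m).toNat ∈ 𝒜 ((-m).toNat) := by simpa using SetLike.pow_mem_graded (-m).toNat hf
  have h2 : h ^ m.toNat ∈ 𝒜 (m.toNat * e) := by simpa using SetLike.pow_mem_graded m.toNat hh
  exact SetLike.mul_mem_graded (SetLike.mul_mem_graded ha h1) h2

/-- division by the generator: `O(m + n)(W) → O(n)(W)` -/
theorem exists_mul_genW_eq {h : A} {e : ℕ} (he : 0 < e) (hh : h ∈ 𝒜 e) (m n : ℤ) (t'' : Γ(Twist.twist 𝒜 (m + n), Proj.basicOpen 𝒜 (f * h))) :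
    ∃ t' : Γ(Twist.twist 𝒜 n, Proj.basicOpen 𝒜 (f * h)), mul 𝒜 m n (genW 𝒜 hf h m) t' = t'' := by
  have hg : f * h ∈ 𝒜 (1 + e) := SetLike.mul_mem_graded hf hh
  obtain ⟨k, i, a, ha, hi, hval⟩ := TwistQC.exists_frac 𝒜 hg (by omega) (m + n) t''
  have hm := Int.toNat_sub_toNat_neg m
  refine ⟨TwistQC.mkSect 𝒜 hg n (k + m.toNat) (i + (-m).toNat + m.toNat * e)
    (a * f ^ (-m).toNat * h ^ m.toNat) (num_mem 𝒜 hf hh m ha) ?_, ?_⟩
  · push_cast at hi ⊢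
    linarith
  · apply TwistQC.ext_val
    intro x
    rw [val_mul, val_genW, TwistQC.val_mkSect, hval x, Localization.mk_mul, Localization.mk_eq_mk_iff,
      Localization.r_iff_exists]
    refine ⟨1, ?_⟩
    simp only [OneMemClass.coe_one, one_mul, Submonoid.coe_mul]
    ring

/-- every section of `O(m)` over `D₊(f h)` is a multiple of the generator -/
theorem exists_smul_genW_eq {h : A} {e : ℕ} (he : 0 < e) (hh : h ∈ 𝒜 e) (m : ℤ) (t : Γ(Twist.twist 𝒜 m, Proj.basicOpen 𝒜 (f * h))) :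
    ∃ c : Γ(Proj 𝒜, Proj.basicOpen 𝒜 (f * h)),
      t = (c • genW 𝒜 hf h m : Γ(Twist.twist 𝒜 m, Proj.basicOpen 𝒜 (f * h))) := by
  have hg : f * h ∈ 𝒜 (1 + e) := SetLike.mul_mem_graded hf hh
  obtain ⟨k, i, a, ha, hi, hval⟩ := TwistQC.exists_frac 𝒜 hg (by omega) m t
  have hm := Int.toNat_sub_toNat_neg m
  have hdeg : a * f ^ (-m).toNat * h ^ m.toNat ∈ 𝒜 ((k + m.toNat) • (1 + e)) := by
    have h1 := num_mem 𝒜 hf hh m ha
    have h2 : i + (-m).toNat + m.toNat * e = (k + m.toNat) • (1 + e) := by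
      rw [smul_eq_mul]
      zify
      push_cast at hi
      linarith
    rwa [h2] at h1
  refine ⟨Proj.awayToSection 𝒜 (f * h) (HomogeneousLocalization.Away.mk 𝒜 hg (k + m.toNat)
    (a * f ^ (-m).toNat * h ^ m.toNat) hdeg), ?_⟩
  apply TwistQC.ext_val
  intro x
  rw [hval x, TwistQC.val_smul, GrTildeQC.val_valO_awayToSection 𝒜 hg _ _ hdeg x, val_genW,
    Localization.mk_mul, Localization.mk_eq_mk_iff, Localization.r_iff_exists]
  refine ⟨1, ?_⟩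
  simp only [OneMemClass.coe_one, one_mul, Submonoid.coe_mul]
  ring

theorem mul_genW_bijective {h : A} {e : ℕ} (he : 0 < e) (hh : h ∈ 𝒜 e) (m n : ℤ) :
    Function.Bijective (fun t' : Γ(Twist.twist 𝒜 n, Proj.basicOpen 𝒜 (f * h)) =>
      mul 𝒜 m n (genW 𝒜 hf h m) t') := by
  constructor
  · intro t₁ t₂ h12
    apply TwistQC.ext_val
    intro x
    have h1 : TwistQC.val 𝒜 (mul 𝒜 m n (genW 𝒜 hf h m) t₁) x =
        TwistQC.val 𝒜 (mul 𝒜 m n (genW 𝒜 hf h m) t₂) x := by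
      have := congrArg (fun t => TwistQC.val 𝒜 t x) h12
      exact this
    rw [val_mul, val_mul] at h1
    exact (isUnit_val_genW 𝒜 hf h m x).mul_right_injective h1
  · intro t''
    exact exists_mul_genW_eq 𝒜 hf he hh m n t''

end Chart

/-- the basis of opens `D₊(f h)`, `f` of degree one, `h` homogeneous of positive degree -/
def IsChart (W : (Proj 𝒜).Opens) : Prop :=
  ∃ (f h : A) (e : ℕ), f ∈ 𝒜 1 ∧ 0 < e ∧ h ∈ 𝒜 e ∧ W = Proj.basicOpen 𝒜 (f * h)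

theorem exists_deg_one_of_span
    (hgen : (HomogeneousIdeal.irrelevant 𝒜).toIdeal = Ideal.span ((𝒜 1 : Submodule R A) : Set A)) (x : Proj 𝒜) :
    ∃ f : A, f ∈ 𝒜 1 ∧ x ∈ Proj.basicOpen 𝒜 f := by
  by_contra hcon
  push_neg at hcon
  have hx : ¬ HomogeneousIdeal.irrelevant 𝒜 ≤ (show ProjectiveSpectrum 𝒜 from x).asHomogeneousIdeal :=
    (show ProjectiveSpectrum 𝒜 from x).not_irrelevant_le
  apply hx
  intro a ha
  have ha' : a ∈ (HomogeneousIdeal.irrelevant 𝒜).toIdeal := ha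
  rw [hgen] at ha'
  refine (Ideal.span_le.2 ?_) ha'
  intro f hf
  by_contra hfx
  exact hcon f hf ((Proj.mem_basicOpen 𝒜 f x).2 hfx)

theorem isChart_basis
    (hgen : (HomogeneousIdeal.irrelevant 𝒜).toIdeal = Ideal.span ((𝒜 1 : Submodule R A) : Set A))
    (U : (Proj 𝒜).Opens) (x : Proj 𝒜) (hx : x ∈ U) :
    ∃ V : (Proj 𝒜).Opens, IsChart 𝒜 V ∧ x ∈ V ∧ V ≤ U := by
  obtain ⟨f, hf, hxf⟩ := exists_deg_one_of_span 𝒜 hgen x
  obtain ⟨e, h, he, hh, hhx, hhU⟩ := GrSectComap.exists_pos_basicOpen 𝒜 U x hx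
  refine ⟨Proj.basicOpen 𝒜 (f * h), ⟨f, h, e, hf, he, hh, rfl⟩, ?_, ?_⟩
  · rw [Proj.basicOpen_mul]
    exact ⟨hxf, (Proj.mem_basicOpen 𝒜 h x).2 hhx⟩
  · intro y hy
    rw [Proj.basicOpen_mul] at hy
    exact hhU y ((Proj.mem_basicOpen 𝒜 h y).1 hy.2)

/-- **`O(m) ⊗ O(n) ≅ O(m + n)`** when the irrelevant ideal is generated in degree one. -/
theorem nonempty_tensor_iso
    (hgen : (HomogeneousIdeal.irrelevant 𝒜).toIdeal = Ideal.span ((𝒜 1 : Submodule R A) : Set A)) (m n : ℤ) :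
    Nonempty (CohB1.tensorMod (Twist.twist 𝒜 m) (Twist.twist 𝒜 n) ≅ Twist.twist 𝒜 (m + n)) := by
  refine TensorIso.nonempty_tensorMod_iso (Twist.twist 𝒜 m) (Twist.twist 𝒜 n) (Twist.twist 𝒜 (m + n))
    (fun W => mul 𝒜 m n) (fun W => mul_add_left 𝒜 m n) (fun W => mul_add_right 𝒜 m n)
    (fun W => mul_smul_left 𝒜 m n) (fun W => mul_smul_right 𝒜 m n) (fun W W' h => mul_res 𝒜 m n h)
    (IsChart 𝒜) (isChart_basis 𝒜 hgen) ?_
  rintro W ⟨f, h, e, hf, he, hh, rfl⟩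
  exact TensorIso.tensorDesc_app_bijective_left _ _ _ _ _ _ _ _ _ _ (genW 𝒜 hf h m)
    (exists_smul_genW_eq 𝒜 hf he hh m) (mul_genW_bijective 𝒜 hf he hh m n)

end Groth.Agent.Lib.Helper28.TwistMul
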