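import Groth.Agent.Lib.Helper28.InvGen
import Groth.Agent.Lib.Helper28.TwistMul
import Groth.Prelude.Def_PicGrp

/-!
# `O(n)` on `Proj` is invertible when the irrelevant ideal is generated in degree one;
`O(n) ≅ O(1)^{⊗ n}`
-/

set_option autoImplicit false
universe u
open CategoryTheory CategoryTheory.Limits AlgebraicGeometry Opposite TopologicalSpace HomogeneousLocalization
noncomputable section

namespace Groth.Agent.Lib.Helper28.TwistInv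

open Groth.Agent.Lib.Helper28 Groth.Agent.Lib.Helper28.QCohLoc Groth.Agent.Lib.Helper28.GrTildeQC
  Groth.Agent.Lib.Helper28.TwistMul

variable {R A : Type u} [CommRing R] [CommRing A] [Algebra R A] (𝒜 : ℕ → Submodule R A) [GradedAlgebra 𝒜]

theorem smul_genW_bijective {f : A} (hf : f ∈ 𝒜 1) {h : A} {e : ℕ} (he : 0 < e) (hh : h ∈ 𝒜 e) (m : ℤ) :
    Function.Bijective (fun c : Γ(Proj 𝒜, Proj.basicOpen 𝒜 (f * h)) =>
      (c • genW 𝒜 hf h m : Γ(Twist.twist 𝒜 m, Proj.basicOpen 𝒜 (f * h)))) := by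
  constructor
  · intro c c' hcc
    apply ProjFrac.valO_ext
    intro x
    have h1 : TwistQC.val 𝒜 (c • genW 𝒜 hf h m : Γ(Twist.twist 𝒜 m, Proj.basicOpen 𝒜 (f * h))) x =
        TwistQC.val 𝒜 (c' • genW 𝒜 hf h m : Γ(Twist.twist 𝒜 m, Proj.basicOpen 𝒜 (f * h))) x :=
      congrArg (fun t => TwistQC.val 𝒜 t x) hcc
    rw [TwistQC.val_smul, TwistQC.val_smul] at h1
    exact (isUnit_val_genW 𝒜 hf h m x).mul_left_injective h1
  · intro t
    obtain ⟨c, hc⟩ := exists_smul_genW_eq 𝒜 hf he hh m t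
    exact ⟨c, hc.symm⟩

theorem nonempty_restrict_iso {f : A} (hf : f ∈ 𝒜 1) (m : ℤ) :
    Nonempty ((Twist.twist 𝒜 m).restrict (Proj.basicOpen 𝒜 f).ι ≅
      Coh.structureModule (↑(Proj.basicOpen 𝒜 f))) := by
  refine InvGen.nonempty_restrict_iso_of_generator (Twist.twist 𝒜 m) (Proj.basicOpen 𝒜 f) (gen 𝒜 hf m)
    (fun W => ∃ (h : A) (e : ℕ), 0 < e ∧ h ∈ 𝒜 e ∧ W = Proj.basicOpen 𝒜 (f * h)) ?_ ?_
  · intro V x hxV hVU
    obtain ⟨e, h, he, hh, hhx, hhV⟩ := GrSectComap.exists_pos_basicOpen 𝒜 V x hxV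
    refine ⟨Proj.basicOpen 𝒜 (f * h), ⟨h, e, he, hh, rfl⟩, ?_, ?_⟩
    · rw [Proj.basicOpen_mul]
      exact ⟨hVU hxV, (Proj.mem_basicOpen 𝒜 h x).2 hhx⟩
    · intro y hy
      rw [Proj.basicOpen_mul] at hy
      exact hhV y ((Proj.mem_basicOpen 𝒜 h y).1 hy.2)
  · rintro W hW ⟨h, e, he, hh, rfl⟩
    exact smul_genW_bijective 𝒜 hf he hh m

theorem isInvertible_twist
    (hgen : (HomogeneousIdeal.irrelevant 𝒜).toIdeal = Ideal.span ((𝒜 1 : Submodule R A) : Set A)) (m : ℤ) :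
    PicF.IsInvertible (Twist.twist 𝒜 m) := by
  intro y
  obtain ⟨f, hf, hyf⟩ := exists_deg_one_of_span 𝒜 hgen y
  exact ⟨Proj.basicOpen 𝒜 f, hyf, nonempty_restrict_iso 𝒜 hf m⟩

/-- `O(0) ≅ O_X` -/
theorem nonempty_twist_zero_iso
    (hgen : (HomogeneousIdeal.irrelevant 𝒜).toIdeal = Ideal.span ((𝒜 1 : Submodule R A) : Set A)) :
    Nonempty (Twist.twist 𝒜 ((0 : ℕ) : ℤ) ≅ Coh.structureModule (Proj 𝒜)) := by
  let σ : Γ(Twist.twist 𝒜 ((0 : ℕ) : ℤ), ⊤) := TwistGen.gsec 𝒜 (1 : A) SetLike.GradedOne.one_mem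
  let ψ : Coh.structureModule (Proj 𝒜) ⟶ Twist.twist 𝒜 ((0 : ℕ) : ℤ) := TwistGen.ofSection _ σ
  have hiso : IsIso ψ := by
    refine TensorIso.isIso_of_bijective_on_basis ψ (IsChart 𝒜) (isChart_basis 𝒜 hgen) ?_
    rintro W ⟨f, h, e, hf, he, hh, rfl⟩
    have hres : res (Twist.twist 𝒜 ((0 : ℕ) : ℤ)) (le_top : Proj.basicOpen 𝒜 (f * h) ≤ ⊤) σ =
        genW 𝒜 hf h ((0 : ℕ) : ℤ) := by
      apply TwistQC.ext_val
      intro x
      rw [val_genW]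
      show Localization.mk (1 : A) 1 = _
      rw [Localization.mk_eq_mk_iff, Localization.r_iff_exists]
      refine ⟨1, ?_⟩
      simp
    have hfun : (ψ.app (Proj.basicOpen 𝒜 (f * h)) :
        Γ(Coh.structureModule (Proj 𝒜), Proj.basicOpen 𝒜 (f * h)) → _) =
        (fun c : Γ(Proj 𝒜, Proj.basicOpen 𝒜 (f * h)) =>
          (c • genW 𝒜 hf h ((0 : ℕ) : ℤ) : Γ(Twist.twist 𝒜 ((0 : ℕ) : ℤ), Proj.basicOpen 𝒜 (f * h)))) := by
      funext c
      have h1 := TwistGen.ofSection_app (Twist.twist 𝒜 ((0 : ℕ) : ℤ)) σ (Proj.basicOpen 𝒜 (f * h)) c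
      rw [hres] at h1
      exact h1
    rw [hfun]
    exact smul_genW_bijective 𝒜 hf he hh _
  exact ⟨(asIso ψ).symm⟩

/-- `O(n) ≅ O(1)^{⊗ n}` -/
theorem nonempty_twist_iso_tensorPow
    (hgen : (HomogeneousIdeal.irrelevant 𝒜).toIdeal = Ideal.span ((𝒜 1 : Submodule R A) : Set A)) (n : ℕ) :
    Nonempty (Twist.twist 𝒜 (n : ℤ) ≅ CohB1.tensorPow (Twist.twist 𝒜 1) n) := by
  induction n with
  | zero => exact nonempty_twist_zero_iso 𝒜 hgen
  | succ n ih =>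
    obtain ⟨e⟩ := ih
    obtain ⟨t⟩ := nonempty_tensor_iso 𝒜 hgen (n : ℤ) 1
    have hcast : ((n + 1 : ℕ) : ℤ) = (n : ℤ) + 1 := by push_cast; rfl
    rw [hcast]
    exact ⟨t.symm ≪≫ PicGrp.tensorModIso e (Iso.refl _)⟩

end Groth.Agent.Lib.Helper28.TwistInv
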