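import Groth.Agent.Lib.Helper28.TwistNegHom
import Groth.Agent.Lib.Helper28.TensorGen
import Groth.Agent.Lib.Helper28.TwistInv

/-!
# `F(n)` is a quotient of a finite free module for `n` large (quasi-coherent of finite type on `Proj`)
-/

set_option autoImplicit false
universe u
open CategoryTheory CategoryTheory.Limits AlgebraicGeometry Opposite TopologicalSpace HomogeneousLocalization
noncomputable section

namespace Groth.Agent.Lib.Helper28.GammaStar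

open Groth.Agent.Lib.Helper28 Groth.Agent.Lib.Helper28.GrTildeQC Groth.Agent.Lib.Helper28.QCohLoc
  Groth.Agent.Lib.Helper28.ProjFrac Groth.Agent.Lib.Helper28.TensorGen

variable {R A : Type u} [CommRing R] [CommRing A] [Algebra R A] {𝒜 : ℕ → Submodule R A} [GradedAlgebra 𝒜]
  {s : Finset A} {F : (Proj 𝒜).Modules}

/-- **A quasi-coherent module of finite type on `Proj` (degree one generators) is, for all large `n`, locally generated
by finitely many morphisms from `O(-n)`.** -/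
theorem exists_locGen_twistNeg [F.IsQuasicoherent] [SheafOfModules.IsFiniteType.{u} (R := (Proj 𝒜).ringCatSheaf) F]
    (hs1 : ∀ f ∈ s, f ∈ 𝒜 1) (hs : (HomogeneousIdeal.irrelevant 𝒜).toIdeal = Ideal.span (s : Set A)) :
    ∃ n₀ : ℕ, ∀ n : ℕ, n₀ ≤ n →
      ∃ (k : ℕ) (φ : Fin k → (Twist.twist 𝒜 (-(n : ℤ)) ⟶ F)), LocGen φ := by
  classical
  letI : Fintype (J 𝒜 s) := Fintype.ofFinite _
  have hcov := cover_of_span (𝒜 := 𝒜) (s := s) hs1 hs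
  have hloc : ∀ g : J 𝒜 s, IsLocOn F (U 𝒜 s g) := fun g => isLocOn_of_isQuasicoherent F (isAffineOpen_U g)
  have hloc2 : ∀ g g' : J 𝒜 s, IsLocOn F (U 𝒜 s g ⊓ U 𝒜 s g') := by
    intro g g'
    refine isLocOn_of_isQuasicoherent F ?_
    have : U 𝒜 s g ⊓ U 𝒜 s g' = Proj.basicOpen 𝒜 (g.1 * g'.1) := (Proj.basicOpen_mul 𝒜 g.1 g'.1).symm
    rw [this]
    exact Proj.isAffineOpen_basicOpen 𝒜 (g.1 * g'.1) (SetLike.mul_mem_graded g.2.1 g'.2.1) (by norm_num)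
  have hfin : ∀ f : J 𝒜 s, ∃ Y : Finset Γ(F, U 𝒜 s f),
      Submodule.span Γ(Proj 𝒜, U 𝒜 s f) (Y : Set Γ(F, U 𝒜 s f)) = ⊤ := fun f =>
    (FinType.finite_of_isAffineOpen F (isAffineOpen_U f)).1
  choose Y hY using hfin
  have hμ : ∀ (f : J 𝒜 s) (y : Γ(F, U 𝒜 s f)), ∃ (n' : ℕ) (μ : MM 𝒜 s F),
      μ ∈ grading 𝒜 s F n' ∧ cf f n' μ = y := fun f y => exists_cf_eq hloc hloc2 f y
  choose N μ hμg hμy using hμ
  refine ⟨Finset.univ.sup (fun f : J 𝒜 s => (Y f).sup (N f)), fun n hn => ?_⟩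
  let I : Type u := Σ f : J 𝒜 s, {y // y ∈ Y f}
  letI : Fintype I := inferInstanceAs (Fintype (Σ f : J 𝒜 s, {y // y ∈ Y f}))
  let e : Fin (Fintype.card I) ≃ I := (Fintype.equivFin I).symm
  have hN : ∀ i : I, N i.1 i.2.1 ≤ n := fun i =>
    le_trans (le_trans (Finset.le_sup (f := N i.1) i.2.2)
      (Finset.le_sup (f := fun f : J 𝒜 s => (Y f).sup (N f)) (Finset.mem_univ i.1))) hn
  let ν : I → MM 𝒜 s F := fun i => i.1.1 ^ (n - N i.1 i.2.1) • μ i.1 i.2.1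
  have hν : ∀ i : I, cf i.1 n (ν i) = i.2.1 := by
    intro i
    have h1 := cf_pow_smul i.1 (n - N i.1 i.2.1) (N i.1 i.2.1) (μ i.1 i.2.1)
    have h2 : n - N i.1 i.2.1 + N i.1 i.2.1 = n := Nat.sub_add_cancel (hN i)
    rw [h2] at h1
    exact h1.trans (hμy i.1 i.2.1)
  let φ : Fin (Fintype.card I) → (Twist.twist 𝒜 (-(n : ℤ)) ⟶ F) := fun a => twistHom hcov n (ν (e a))
  refine ⟨Fintype.card I, φ, ?_⟩
  intro W t q hq
  obtain ⟨f, hqf⟩ := hcov q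
  obtain ⟨r, hr, hqr⟩ := (isAffineOpen_U f).exists_basicOpen_le (V := W ⊓ U 𝒜 s f) ⟨q, ⟨hq, hqf⟩⟩ hqf
  refine ⟨(Proj 𝒜).basicOpen r, hr.trans inf_le_left, hqr, ?_⟩
  have hspan := mem_span_res_basicOpen F (hloc f) r (Y f : Set Γ(F, U 𝒜 s f)) (hY f)
    (res F (hr.trans inf_le_left) t)
  refine (Submodule.span_le.2 ?_) hspan
  rintro z ⟨y0, hy0, rfl⟩
  let i : I := ⟨f, ⟨y0, hy0⟩⟩
  have h2 : (φ (e.symm i)).app ((Proj 𝒜).basicOpen r)
      (res (Twist.twist 𝒜 (-(n : ℤ))) ((Proj 𝒜).basicOpen_le r) (en f n)) =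
      res F ((Proj 𝒜).basicOpen_le r) y0 := by
    change (twistHom hcov n (ν (e (e.symm i)))).app _ _ = _
    rw [Equiv.apply_symm_apply, app_res, twistHom_app_en]
    exact congrArg _ (hν i)
  have h3 := app_mem_genRange φ ((Proj 𝒜).basicOpen r) (e.symm i)
    (res (Twist.twist 𝒜 (-(n : ℤ))) ((Proj 𝒜).basicOpen_le r) (en f n))
  rw [h2] at h3
  exact h3

theorem hgen_of_span (hs1 : ∀ f ∈ s, f ∈ 𝒜 1)
    (hs : (HomogeneousIdeal.irrelevant 𝒜).toIdeal = Ideal.span (s : Set A)) :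
    (HomogeneousIdeal.irrelevant 𝒜).toIdeal = Ideal.span ((𝒜 1 : Submodule R A) : Set A) := by
  apply le_antisymm
  · rw [hs]
    exact Ideal.span_mono (fun f hf => hs1 f hf)
  · rw [Ideal.span_le]
    intro a ha
    show a ∈ HomogeneousIdeal.irrelevant 𝒜
    rw [HomogeneousIdeal.mem_irrelevant_iff, GradedRing.proj_apply]
    exact DirectSum.decompose_of_mem_ne 𝒜 ha one_ne_zero

/-- **`F(n)` is a quotient of a finite free module for `n` large.** -/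
theorem exists_epi_free_twistBy [F.IsQuasicoherent]
    [SheafOfModules.IsFiniteType.{u} (R := (Proj 𝒜).ringCatSheaf) F]
    (hs1 : ∀ f ∈ s, f ∈ 𝒜 1) (hs : (HomogeneousIdeal.irrelevant 𝒜).toIdeal = Ideal.span (s : Set A)) :
    ∃ n₀ : ℕ, ∀ n : ℕ, n₀ ≤ n →
      ∃ (k : ℕ) (p : FlatMod.freeMod (Proj 𝒜) k ⟶ Twist.twistBy 𝒜 F (n : ℤ)), Epi p := by
  obtain ⟨n₀, h⟩ := exists_locGen_twistNeg (𝒜 := 𝒜) (s := s) (F := F) hs1 hs
  refine ⟨n₀, fun n hn => ?_⟩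
  obtain ⟨k, φ, hφ⟩ := h n hn
  have hgen := hgen_of_span hs1 hs
  obtain ⟨ψ₁⟩ := TwistMul.nonempty_tensor_iso 𝒜 hgen (-(n : ℤ)) (n : ℤ)
  obtain ⟨ψ₀⟩ := TwistInv.nonempty_twist_zero_iso 𝒜 hgen
  have h0 : -(n : ℤ) + (n : ℤ) = ((0 : ℕ) : ℤ) := by simp
  rw [h0] at ψ₁
  let ψ : Coh.structureModule (Proj 𝒜) ⟶
      CohB1.tensorMod (Twist.twist 𝒜 (-(n : ℤ))) (Twist.twist 𝒜 (n : ℤ)) := ψ₀.inv ≫ ψ₁.inv
  have hL := (hφ.tensor (Twist.twist 𝒜 (n : ℤ))).iso_comp ψ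
  exact ⟨k, Sigma.desc (fun a => ψ ≫ LimSh.tensorModMap (φ a) (Twist.twist 𝒜 (n : ℤ))), hL.epi_desc⟩

end Groth.Agent.Lib.Helper28.GammaStar
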