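import Groth.Agent.Lib.Helper28.TwistInv
import Groth.Agent.Lib.Helper28.ModIsoApp
import Groth.Agent.Lib.Helper28.TwistNegGen

set_option autoImplicit false
universe u
open CategoryTheory CategoryTheory.Limits AlgebraicGeometry Opposite TopologicalSpace
noncomputable section

namespace Groth.Agent.Lib.Helper28.TwistAmple

open Groth.Agent.Lib.Helper28 Groth.Agent.Lib.Helper28.QCohLoc Groth.Agent.Lib.Helper28.TwistMul Groth.Agent.Lib.Helper28.TwistGen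


variable {X : Scheme.{u}} {M N : X.Modules}

theorem restrictFunctor_map_app (φ : M ⟶ N) (U : X.Opens) (V : (↑U : Scheme.{u}).Opens) (y : Γ(M, U.ι ''ᵁ V)) :
    ((Scheme.Modules.restrictFunctor U.ι).map φ).app V y = φ.app (U.ι ''ᵁ V) y := rfl

theorem isIso_restrict_of_bijective_on_basis (φ : M ⟶ N) (U : X.Opens) (B : X.Opens → Prop)
    (basis : ∀ (V : X.Opens) (x : X), x ∈ V → V ≤ U → ∃ W : X.Opens, B W ∧ x ∈ W ∧ W ≤ V)
    (hbij : ∀ (W : X.Opens), W ≤ U → B W → Function.Bijective (φ.app W)) :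
    IsIso ((Scheme.Modules.restrictFunctor U.ι).map φ) := by
  refine TensorIso.isIso_of_bijective_on_basis _ (fun V => B (U.ι ''ᵁ V)) ?_ ?_
  · intro V y hy
    obtain ⟨W, hBW, hyW, hWV⟩ := basis (U.ι ''ᵁ V) (U.ι y) ⟨y, hy, rfl⟩ (InvGen.image_le U V)
    have hWU : W ≤ U := hWV.trans (InvGen.image_le U V)
    have himg : U.ι ''ᵁ (U.ι ⁻¹ᵁ W) = W := by
      rw [Scheme.Hom.image_preimage_eq_opensRange_inf, Scheme.Opens.opensRange_ι]
      exact inf_eq_right.2 hWU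
    refine ⟨U.ι ⁻¹ᵁ W, ?_, hyW, ?_⟩
    · show B (U.ι ''ᵁ (U.ι ⁻¹ᵁ W))
      rw [himg]; exact hBW
    · intro z hz
      obtain ⟨z', hz', hzz'⟩ := hWV hz
      have : z' = z := U.ι.isOpenEmbedding.injective hzz'
      rwa [← this]
  · intro V hV
    exact hbij (U.ι ''ᵁ V) (InvGen.image_le U V) hV

theorem app_bijective_of_isIso_restrict (φ : M ⟶ N) (U : X.Opens)
    [IsIso ((Scheme.Modules.restrictFunctor U.ι).map φ)] (W : X.Opens) (hW : W ≤ U) :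
    Function.Bijective (φ.app W) := by
  have himg : U.ι ''ᵁ (U.ι ⁻¹ᵁ W) = W := by
    rw [Scheme.Hom.image_preimage_eq_opensRange_inf, Scheme.Opens.opensRange_ι]
    exact inf_eq_right.2 hW
  have h := app_bijective_of_isIso ((Scheme.Modules.restrictFunctor U.ι).map φ) (U.ι ⁻¹ᵁ W)
  have h2 : Function.Bijective (φ.app (U.ι ''ᵁ (U.ι ⁻¹ᵁ W))) := h
  rw [himg] at h2
  exact h2

section Proj

variable {R A : Type u} [CommRing R] [CommRing A] [Algebra R A] (𝒜 : ℕ → Submodule R A) [GradedAlgebra 𝒜]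

theorem compactSpace_proj (s : Finset A) (hs1 : ∀ f ∈ s, f ∈ 𝒜 1)
    (hs : (HomogeneousIdeal.irrelevant 𝒜).toIdeal = Ideal.span (s : Set A)) : CompactSpace (Proj 𝒜) := by
  have hU : (Set.univ : Set (Proj 𝒜)) = ⋃ f ∈ s, (Proj.basicOpen 𝒜 f : Set (Proj 𝒜)) := by
    ext x
    simp only [Set.mem_univ, Set.mem_iUnion, SetLike.mem_coe, exists_prop, true_iff]
    exact exists_mem_basicOpen 𝒜 s hs x
  rw [← isCompact_univ_iff, hU]
  refine s.finite_toSet.isCompact_biUnion fun f hf => ?_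
  exact (Proj.isAffineOpen_basicOpen 𝒜 f (hs1 f hf) one_pos).isCompact

/-- the morphism `O ⟶ O(1)` defined by an element of degree one -/
def secHom {f : A} (hf : f ∈ 𝒜 1) : Coh.structureModule (Proj 𝒜) ⟶ Twist.twist 𝒜 ((1 : ℕ) : ℤ) :=
  ofSection _ (gsec 𝒜 f hf)

theorem res_gsec_eq_genW {f : A} (hf : f ∈ 𝒜 1) (h : A) :
    res (Twist.twist 𝒜 ((1 : ℕ) : ℤ)) (le_top : Proj.basicOpen 𝒜 (f * h) ≤ ⊤) (gsec 𝒜 f hf) =
      genW 𝒜 hf h ((1 : ℕ) : ℤ) := by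
  apply TwistQC.ext_val
  intro x
  rw [val_genW]
  show Localization.mk f 1 = _
  rw [Localization.mk_eq_mk_iff, Localization.r_iff_exists]
  refine ⟨1, ?_⟩
  simp

theorem secHom_app {f : A} (hf : f ∈ 𝒜 1) (V : (Proj 𝒜).Opens) (c : Γ(Proj 𝒜, V)) :
    (secHom 𝒜 hf).app V (show Γ(Coh.structureModule (Proj 𝒜), V) from c) =
      c • res (Twist.twist 𝒜 ((1 : ℕ) : ℤ)) (le_top : V ≤ ⊤) (gsec 𝒜 f hf) :=
  ofSection_app _ _ V c

theorem isIso_restrict_secHom {f : A} (hf : f ∈ 𝒜 1) :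
    IsIso ((Scheme.Modules.restrictFunctor (Proj.basicOpen 𝒜 f).ι).map (secHom 𝒜 hf)) := by
  refine isIso_restrict_of_bijective_on_basis (secHom 𝒜 hf) (Proj.basicOpen 𝒜 f)
    (fun W => ∃ (h : A) (e : ℕ), 0 < e ∧ h ∈ 𝒜 e ∧ W = Proj.basicOpen 𝒜 (f * h)) ?_ ?_
  · intro V x hxV hVU
    obtain ⟨e, h, he, hh, hhx, hhV⟩ := GrSectComap.exists_pos_basicOpen 𝒜 V x hxV
    refine ⟨Proj.basicOpen 𝒜 (f * h), ⟨h, e, he, hh, rfl⟩, ?_, ?_⟩
    · rw [Proj.basicOpen_mul]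
      exact ⟨hVU hxV, (Proj.mem_basicOpen 𝒜 h x).2 hhx⟩
    · intro y hy
      rw [Proj.basicOpen_mul] at hy
      exact hhV y ((Proj.mem_basicOpen 𝒜 h y).1 hy.2)
  · rintro W hW ⟨h, e, he, hh, rfl⟩
    have hfun : ((secHom 𝒜 hf).app (Proj.basicOpen 𝒜 (f * h)) :
        Γ(Coh.structureModule (Proj 𝒜), Proj.basicOpen 𝒜 (f * h)) → _) =
        (fun c : Γ(Proj 𝒜, Proj.basicOpen 𝒜 (f * h)) =>
          (c • genW 𝒜 hf h ((1 : ℕ) : ℤ) : Γ(Twist.twist 𝒜 ((1 : ℕ) : ℤ), Proj.basicOpen 𝒜 (f * h)))) := by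
      funext c
      have h1 := secHom_app 𝒜 hf (Proj.basicOpen 𝒜 (f * h)) c
      rw [res_gsec_eq_genW] at h1
      exact h1
    rw [hfun]
    exact TwistInv.smul_genW_bijective 𝒜 hf he hh _

/-- where `f : O ⟶ O(1)` is an isomorphism, `f` does not vanish -/
theorem le_basicOpen_of_isIso_restrict
    (hgen : (HomogeneousIdeal.irrelevant 𝒜).toIdeal = Ideal.span ((𝒜 1 : Submodule R A) : Set A))
    {f : A} (hf : f ∈ 𝒜 1) (U : (Proj 𝒜).Opens)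
    [IsIso ((Scheme.Modules.restrictFunctor U.ι).map (secHom 𝒜 hf))] : U ≤ Proj.basicOpen 𝒜 f := by
  intro x hxU
  obtain ⟨W, ⟨g, h, e, hg, he, hh, rfl⟩, hxW, hWU⟩ := isChart_basis 𝒜 hgen U x hxU
  obtain ⟨c0, hc⟩ := (app_bijective_of_isIso_restrict (secHom 𝒜 hf) U _ hWU).2 (genW 𝒜 hg h ((1 : ℕ) : ℤ))
  let c : Γ(Proj 𝒜, Proj.basicOpen 𝒜 (g * h)) := c0
  have hc' : (c • res (Twist.twist 𝒜 ((1 : ℕ) : ℤ)) (le_top : Proj.basicOpen 𝒜 (g * h) ≤ ⊤) (gsec 𝒜 f hf) :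
      Γ(Twist.twist 𝒜 ((1 : ℕ) : ℤ), Proj.basicOpen 𝒜 (g * h))) = genW 𝒜 hg h ((1 : ℕ) : ℤ) :=
    (secHom_app 𝒜 hf _ c).symm.trans hc
  have hv := congrArg (fun t => TwistQC.val 𝒜 t ⟨x, hxW⟩) hc'
  simp only at hv
  rw [TwistQC.val_smul, val_genW] at hv
  have hv2 : TwistQC.val 𝒜 (res (Twist.twist 𝒜 ((1 : ℕ) : ℤ)) (le_top : Proj.basicOpen 𝒜 (g * h) ≤ ⊤)
      (gsec 𝒜 f hf)) ⟨x, hxW⟩ = Localization.mk f 1 := rfl
  rw [hv2] at hv
  rw [Proj.mem_basicOpen]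
  intro hfx
  have hxg : x ∈ Proj.basicOpen 𝒜 g := basicOpen_mul_le 𝒜 g h hxW
  rw [Proj.mem_basicOpen] at hxg
  apply hxg
  -- `g / 1` is a multiple of `f / 1` in the local ring at `x`
  have hmem : (Localization.mk f 1 : Twist.Loc 𝒜 x) ∈
      IsLocalRing.maximalIdeal (Twist.Loc 𝒜 x) := by
    rw [Localization.mk_one_eq_algebraMap]
    exact (IsLocalization.AtPrime.to_map_mem_maximal_iff (Twist.Loc 𝒜 x)
      (show ProjectiveSpectrum 𝒜 from x).asHomogeneousIdeal.toIdeal f).2 hfx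
  have hmem2 := Ideal.mul_mem_left _ ((GrTildeQC.valO 𝒜 c ⟨x, hxW⟩).val) hmem
  rw [hv, Localization.mk_eq_mk', IsLocalization.AtPrime.mk'_mem_maximal_iff (Twist.Loc 𝒜 x)
    (show ProjectiveSpectrum 𝒜 from x).asHomogeneousIdeal.toIdeal] at hmem2
  exact (show ProjectiveSpectrum 𝒜 from x).isPrime.mem_of_pow_mem _ hmem2

/-- **`O(1)` is ample on `Proj`** (irrelevant ideal generated by finitely many elements of degree one). -/
theorem isAmple_twist_one (s : Finset A) (hs1 : ∀ f ∈ s, f ∈ 𝒜 1)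
    (hs : (HomogeneousIdeal.irrelevant 𝒜).toIdeal = Ideal.span (s : Set A)) :
    CohB1.IsAmple (Twist.twist 𝒜 1) := by
  have hgen := GammaStar.hgen_of_span hs1 hs
  refine ⟨TwistInv.isInvertible_twist 𝒜 hgen 1, compactSpace_proj 𝒜 s hs1 hs, ?_⟩
  intro x
  obtain ⟨f, hfs, hxf⟩ := exists_mem_basicOpen 𝒜 s hs x
  have hf := hs1 f hfs
  obtain ⟨ι⟩ := TwistInv.nonempty_twist_iso_tensorPow 𝒜 hgen 1
  refine ⟨0, secHom 𝒜 hf ≫ ι.hom, ?_⟩
  have hloc : CohB1.genLocus _ (secHom 𝒜 hf ≫ ι.hom) = Proj.basicOpen 𝒜 f := by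
    apply le_antisymm
    · refine sSup_le ?_
      intro U hU
      have hU' : IsIso ((Scheme.Modules.restrictFunctor U.ι).map (secHom 𝒜 hf ≫ ι.hom)) := hU
      rw [Functor.map_comp] at hU'
      haveI : IsIso ((Scheme.Modules.restrictFunctor U.ι).map (secHom 𝒜 hf)) :=
        IsIso.of_isIso_comp_right _ ((Scheme.Modules.restrictFunctor U.ι).map ι.hom)
      exact le_basicOpen_of_isIso_restrict 𝒜 hgen hf U
    · refine le_sSup ?_
      show IsIso ((Scheme.Modules.restrictFunctor (Proj.basicOpen 𝒜 f).ι).map (secHom 𝒜 hf ≫ ι.hom))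
      rw [Functor.map_comp]
      haveI := isIso_restrict_secHom 𝒜 hf
      infer_instance
  rw [hloc]
  exact ⟨hxf, Proj.isAffineOpen_basicOpen 𝒜 f hf one_pos⟩

end Proj

end Groth.Agent.Lib.Helper28.TwistAmple
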