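import Groth.Agent.Lib.Helper28.ProjUPGeom2
import Groth.Agent.Lib.Helper28.ProjFrac
import Groth.Agent.Lib.Helper28.TwistAmple
import Groth.Agent.Lib.Helper28.GenIso

set_option autoImplicit false
universe u
open CategoryTheory CategoryTheory.Limits AlgebraicGeometry Opposite TopologicalSpace HomogeneousLocalization
noncomputable section

namespace Groth.Agent.Lib.Helper28.ProjUPGeom

open Groth.Agent.Lib.Helper28 Groth.Agent.Lib.Helper28.QCohLoc Groth.Agent.Lib.Helper28.GenLocus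
  Groth.Agent.Lib.Helper28.ProjUPAlg Groth.Agent.Lib.Helper28.ProjUPChart Groth.Agent.Lib.Helper28.PullbackInv

variable {X : Scheme.{u}}

/-- two modules with families of global sections, generating on the same opens with the same coefficients,
are isomorphic compatibly with the sections -/
theorem exists_iso_of_sections {I : Type*} (M' N : X.Modules) (U : I → X.Opens)
    (P : I → Γ(M', ⊤)) (Q : I → Γ(N, ⊤))
    (hP : ∀ i, IsGen M' (U i) (res M' le_top (P i))) (hQ : ∀ i, IsGen N (U i) (res N le_top (Q i)))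
    (hcov : ∀ x : X, ∃ i, x ∈ U i)
    (c : ∀ (i j : I), Γ(X, U j))
    (hcP : ∀ i j, res M' le_top (P i) = (c i j • res M' le_top (P j) : Γ(M', U j)))
    (hcQ : ∀ i j, res N le_top (Q i) = (c i j • res N le_top (Q j) : Γ(N, U j))) :
    ∃ ψ : M' ≅ N, ∀ i, ψ.hom.app ⊤ (P i) = Q i := by
  obtain ⟨ψ, hψ⟩ := exists_iso_of_cocycle_gen U (fun i => res M' le_top (P i)) (fun i => res N le_top (Q i))
    hP hQ hcov (by
      intro i j
      refine ⟨resO inf_le_right (c i j), ?_, ?_⟩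
      · rw [res_res, ← res_smul, ← hcP i j, res_res]
      · rw [res_res, ← res_smul, ← hcQ i j, res_res])
  refine ⟨ψ, fun i => ?_⟩
  refine eq_of_locally_eq N U ⊤ (fun _ => le_top) ?_ _ _ fun j => ?_
  · intro x _
    obtain ⟨j, hj⟩ := hcov x
    exact Opens.mem_iSup.2 ⟨j, hj⟩
  · rw [← app_res, hcP i j, hcQ i j, Scheme.Modules.Hom.app_smul, hψ j]


theorem appLE_congr_hom {X Y : Scheme.{u}} {f g : X ⟶ Y} (e : f = g) (V : Y.Opens) (U : X.Opens)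
    (h : U ≤ f ⁻¹ᵁ V) : f.appLE V U h = g.appLE V U (e ▸ h) := by
  subst e; rfl

section twist

variable {A : Type u} [CommRing A] {S : Type u} [CommRing S] [Algebra A S] (𝒮 : ℕ → Submodule A S)
  [GradedAlgebra 𝒮]

theorem isGen_gsec {f : S} (hf : f ∈ 𝒮 1) :
    IsGen (Twist.twist 𝒮 ((1 : ℕ) : ℤ)) (Proj.basicOpen 𝒮 f)
      (res (Twist.twist 𝒮 ((1 : ℕ) : ℤ)) le_top (TwistGen.gsec 𝒮 f hf)) := by
  have h1 := isGen_genLocus (TwistAmple.secHom 𝒮 hf)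
  have hle : Proj.basicOpen 𝒮 f ≤ CohB1.genLocus _ (TwistAmple.secHom 𝒮 hf) :=
    le_sSup (TwistAmple.isIso_restrict_secHom 𝒮 hf)
  have h2 := h1.res hle
  rw [res_res] at h2
  have h3 : secOf (TwistAmple.secHom 𝒮 hf) = TwistGen.gsec 𝒮 f hf := secOf_ofSection _
  rw [h3] at h2
  exact h2

theorem gsec_eq_fr_smul {f g : S} (hf : f ∈ 𝒮 1) (hg : g ∈ 𝒮 1) :
    res (Twist.twist 𝒮 ((1 : ℕ) : ℤ)) (le_top : Proj.basicOpen 𝒮 g ≤ ⊤) (TwistGen.gsec 𝒮 f hf) =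
      (ProjFrac.fr 𝒮 hg 1 f hf • res (Twist.twist 𝒮 ((1 : ℕ) : ℤ)) (le_top : Proj.basicOpen 𝒮 g ≤ ⊤)
        (TwistGen.gsec 𝒮 g hg) : Γ(Twist.twist 𝒮 ((1 : ℕ) : ℤ), Proj.basicOpen 𝒮 g)) := by
  apply TwistQC.ext_val
  intro x
  rw [TwistQC.val_smul, TwistQC.val_res, TwistQC.val_res, TwistGen.val_gsec, TwistGen.val_gsec, ProjFrac.val_fr,
    Localization.mk_mul, Localization.mk_eq_mk_iff, Localization.r_iff_exists]
  refine ⟨1, ?_⟩
  simp only [OneMemClass.coe_one, one_mul, Submonoid.coe_mul, mul_one, pow_one]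
  ring

end twist

section univ

variable {A : Type u} [CommRing A] {S : Type u} [CommRing S] [Algebra A S] (𝒮 : ℕ → Submodule A S)
  [GradedAlgebra 𝒮] {M : Type u} [AddCommGroup M] [Module A M] (ι : M →ₗ[A] S) (hι : ∀ m : M, ι m ∈ 𝒮 1)
  (hsym : IsSymmetricAlgebra ι)
  (q : X ⟶ Spec (CommRingCat.of A)) {L : X.Modules}
  (v : M →+ ProjUP.Γm L) (hv : ∀ (a : A) (m : M), v (a • m) = ProjUP.toGlobal q a • v m)
  (r : X ⟶ Proj 𝒮) (hr : ∀ m, (UU v m).ι ≫ r = chart 𝒮 ι hι hsym q v hv m)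

include hr in
theorem r_apply (m : M) (y : ↥(UU v m)) : r y.1 = chart 𝒮 ι hι hsym q v hv m y := by
  rw [← hr m]; rfl

include hr in
theorem mem_preimage_iff (hcov : ∀ x : X, ∃ m, x ∈ UU v m) (m : M) (x : X) :
    r x ∈ Proj.basicOpen 𝒮 (ι m) ↔ x ∈ UU v m := by
  obtain ⟨m', hx'⟩ := hcov x
  have h1 : r x = chart 𝒮 ι hι hsym q v hv m' ⟨x, hx'⟩ := r_apply 𝒮 ι hι hsym q v hv r hr m' ⟨x, hx'⟩
  rw [h1]
  unfold chart
  rw [opensChart_mem_basicOpen_iff 𝒮 _ _ (hι m') one_pos _ (hι m) ⟨x, hx'⟩]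
  have h2 : FF ι hsym q v hv m' (ι m) = cf v (isGen_γ v m') m := ev_ι ι hsym q v hv _ m
  rw [h2, ← UU_inf_eq v (isGen_γ v m') m]
  exact ⟨fun h => h.1, fun h => ⟨h, hx'⟩⟩

include hr in
theorem preimage_eq (hcov : ∀ x : X, ∃ m, x ∈ UU v m) (m : M) :
    r ⁻¹ᵁ Proj.basicOpen 𝒮 (ι m) = UU v m := by
  ext x
  exact mem_preimage_iff 𝒮 ι hι hsym q v hv r hr hcov m x

include hr in
/-- the comorphism of `r` on `a / (ι m)^d` -/
theorem appLE_fr (m : M) (hpre : UU v m ≤ r ⁻¹ᵁ Proj.basicOpen 𝒮 (ι m)) (d : ℕ) (a : S) (ha : a ∈ 𝒮 d) :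
    r.appLE (Proj.basicOpen 𝒮 (ι m)) (UU v m) hpre (ProjFrac.fr 𝒮 (hι m) d a ha) =
      FF ι hsym q v hv m a := by
  have h0 := awayToSection_opensChart_appLE 𝒮 (UU v m) (FF ι hsym q v hv m) (hι m) one_pos
    (isUnit_FF_self ι hsym q v hv m)
  have h1 : (opensChart 𝒮 (UU v m) (FF ι hsym q v hv m) (hι m) one_pos
      (isUnit_FF_self ι hsym q v hv m)).appLE (Proj.basicOpen 𝒮 (ι m)) ⊤
        (by rw [opensChart_preimage_self]) =
      r.appLE (Proj.basicOpen 𝒮 (ι m)) (UU v m) hpre ≫ (UU v m).ι.appLE (UU v m) ⊤ (by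
        intro y _; exact y.2) := by
    rw [Scheme.Hom.appLE_comp_appLE]
    exact (appLE_congr_hom (hr m) _ _ _).symm
  have h2 : (UU v m).ι.appLE (UU v m) ⊤ (by intro y _; exact y.2) = (UU v m).topIso.inv := by
    rw [Scheme.Opens.ι_appLE, Scheme.Opens.topIso_inv]
    rfl
  rw [h1, h2, ← Category.assoc] at h0
  have h3 := (cancel_mono (UU v m).topIso.inv).1 h0
  have h4 := congrArg (fun φ => φ.hom (Away.mk 𝒮 (hι m) d a (ProjFrac.mem_smul_one 𝒮 ha))) h3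
  have h5 := Segre1.awayLift_mk 𝒮 (FF ι hsym q v hv m) (isUnit_FF_self ι hsym q v hv m) (hι m) d a
    (ProjFrac.mem_smul_one 𝒮 ha)
  rw [FF_self, one_pow, mul_one] at h5
  rw [← h5]
  exact h4

/-- the pulled back coordinate sections -/
def Pm (m : M) : Γ((Scheme.Modules.pullback r).obj (Twist.twist 𝒮 ((1 : ℕ) : ℤ)), ⊤) :=
  pbs r (Twist.twist 𝒮 ((1 : ℕ) : ℤ)) ⊤ (TwistGen.gsec 𝒮 (ι m) (hι m))

theorem isGen_Pm (m : M) (hpre : UU v m ≤ r ⁻¹ᵁ Proj.basicOpen 𝒮 (ι m)) :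
    IsGen ((Scheme.Modules.pullback r).obj (Twist.twist 𝒮 ((1 : ℕ) : ℤ))) (UU v m)
      (res _ le_top (Pm 𝒮 ι hι r m)) := by
  have h1 := isGen_pbs (f := r) (isGen_gsec 𝒮 (hι m))
  rw [pbs_res] at h1
  have h2 := h1.res hpre
  rw [res_res] at h2
  exact h2

include hr in
theorem Pm_coef (m m' : M) (hpre : UU v m' ≤ r ⁻¹ᵁ Proj.basicOpen 𝒮 (ι m')) :
    res ((Scheme.Modules.pullback r).obj (Twist.twist 𝒮 ((1 : ℕ) : ℤ))) (le_top : UU v m' ≤ ⊤) (Pm 𝒮 ι hι r m) =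
      (cf v (isGen_γ v m') m • res ((Scheme.Modules.pullback r).obj (Twist.twist 𝒮 ((1 : ℕ) : ℤ)))
        (le_top : UU v m' ≤ ⊤) (Pm 𝒮 ι hι r m') :
        Γ((Scheme.Modules.pullback r).obj (Twist.twist 𝒮 ((1 : ℕ) : ℤ)), UU v m')) := by
  have h1 := congrArg (pbs r (Twist.twist 𝒮 ((1 : ℕ) : ℤ)) (Proj.basicOpen 𝒮 (ι m')))
    (gsec_eq_fr_smul 𝒮 (hι m) (hι m'))
  rw [pbs_smul, pbs_res, pbs_res] at h1
  have h2 := congrArg (res _ hpre) h1
  rw [res_res, res_smul, res_res] at h2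
  have h3 : resO hpre (r.app (Proj.basicOpen 𝒮 (ι m')) (ProjFrac.fr 𝒮 (hι m') 1 (ι m) (hι m))) =
      cf v (isGen_γ v m') m := by
    have h4 := appLE_fr 𝒮 ι hι hsym q v hv r hr m' hpre 1 (ι m) (hι m)
    have h5 : FF ι hsym q v hv m' (ι m) = cf v (isGen_γ v m') m := ev_ι ι hsym q v hv _ m
    rw [h5] at h4
    exact h4
  rw [h3] at h2
  exact h2

include hr in
theorem exists_iso (hL : PicF.IsInvertible L) (hgen : ProjUP.GeneratedBy L v) :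
    ∃ τ : (Scheme.Modules.pullback r).obj (Twist.twist 𝒮 ((1 : ℕ) : ℤ)) ≅ L,
      ∀ m, τ.hom.app ⊤ (Pm 𝒮 ι hι r m) = vs L v m := by
  have hcov := exists_mem_UU v hL hgen
  have hpre : ∀ m, UU v m ≤ r ⁻¹ᵁ Proj.basicOpen 𝒮 (ι m) := fun m =>
    le_of_eq (preimage_eq 𝒮 ι hι hsym q v hv r hr hcov m).symm
  exact exists_iso_of_sections _ L (UU v) (Pm 𝒮 ι hι r) (vs L v)
    (fun m => isGen_Pm 𝒮 ι hι v r m (hpre m)) (fun m => isGen_γ v m) hcov
    (fun m m' => cf v (isGen_γ v m') m) (fun m m' => Pm_coef 𝒮 ι hι hsym q v hv r hr m m' (hpre m'))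
    (fun m m' => (cf_spec v (isGen_γ v m') m).symm)

end univ

end Groth.Agent.Lib.Helper28.ProjUPGeom
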