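import Groth.Agent.Lib.Helper28.VeryAmpleSec
import Groth.Agent.Lib.Helper28.ProjUPUniq2
import Groth.Agent.S3572

/-!
# Immersions into projective space from sections (helper28)
-/

set_option autoImplicit false
universe u
open CategoryTheory CategoryTheory.Limits AlgebraicGeometry Opposite TopologicalSpace
noncomputable section

namespace Groth.Agent.Lib.Helper28.VeryAmpleImm

open Groth.Agent.Lib.Helper28 Groth.Agent.Lib.Helper28.QCohLoc Groth.Agent.Lib.Helper28.GenLocus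
  Groth.Agent.Lib.Helper28.PullbackInv Groth.Agent.Lib.Helper28.ProjUPUniq Groth.Agent.Lib.Helper28.ProjUPGeom

variable {X P : Scheme.{u}}

theorem app_surjective_of_eq (f : X ⟶ P) {V V' : P.Opens} (h : V = V') (hs : Function.Surjective (f.app V)) :
    Function.Surjective (f.app V') := by
  subst h; exact hs

set_option backward.isDefEq.respectTransparency false in
theorem isClosedImmersion_of_affine_cover (W : P.Opens) (i' : X ⟶ (↑W : Scheme.{u})) {ι : Type*} (D : ι → P.Opens)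
    (hDW : ∀ a, D a ≤ W) (hD : ∀ a, IsAffineOpen (D a)) (hpre : ∀ a, IsAffineOpen ((i' ≫ W.ι) ⁻¹ᵁ D a))
    (hsurj : ∀ a, Function.Surjective ((i' ≫ W.ι).app (D a)))
    (hcov : ∀ y : (↑W : Scheme.{u}), ∃ a, W.ι y ∈ D a) : IsClosedImmersion i' := by
  have hDr : ∀ a, D a ≤ W.ι.opensRange := fun a => by rw [Scheme.Opens.opensRange_ι]; exact hDW a
  let U : ι → (↑W : Scheme.{u}).affineOpens := fun a =>
    ⟨W.ι ⁻¹ᵁ D a, (hD a).preimage_of_isOpenImmersion W.ι (hDr a)⟩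
  have hU : ⨆ a, ((U a : (↑W : Scheme.{u}).affineOpens) : (↑W : Scheme.{u}).Opens) = ⊤ := by
    rw [eq_top_iff]
    intro y _
    obtain ⟨a, ha⟩ := hcov y
    exact Opens.mem_iSup.2 ⟨a, ha⟩
  refine HasAffineProperty.of_iSup_eq_top (P := @IsClosedImmersion) U hU fun a => ⟨?_, ?_⟩
  · exact hpre a
  · rw [morphismRestrict_appTop]
    have h3 : Function.Surjective (i'.app (W.ι ⁻¹ᵁ D a)) := by
      have h5 := hsurj a
      rw [Scheme.Hom.comp_app] at h5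
      exact Function.Surjective.of_comp h5
    have h6 : Function.Surjective (i'.app ((U a).1.ι ''ᵁ ⊤)) :=
      app_surjective_of_eq i' (Scheme.Opens.ι_image_top _).symm h3
    exact (ConcreteCategory.bijective_of_isIso
      (X.presheaf.map (eqToHom (image_morphismRestrict_preimage i' (U a).1 ⊤)).op)).surjective.comp h6

/-- **immersion criterion**: a morphism is an immersion if the target has affine opens `D a` with affine preimages
covering the source, on each of which the comorphism is surjective -/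
theorem isImmersion_of_affine_cover (i : X ⟶ P) {ι : Type*} (D : ι → P.Opens)
    (hD : ∀ a, IsAffineOpen (D a)) (hpre : ∀ a, IsAffineOpen (i ⁻¹ᵁ D a))
    (hsurj : ∀ a, Function.Surjective (i.app (D a)))
    (hcov : ∀ x : X, ∃ a, i x ∈ D a) : IsImmersion i := by
  obtain ⟨W, hW⟩ : ∃ W : P.Opens, W = ⨆ a, D a := ⟨_, rfl⟩
  have hDW : ∀ a, D a ≤ W := fun a => by rw [hW]; exact le_iSup D a
  have hrange : Set.range i ⊆ Set.range W.ι := by
    rintro _ ⟨x, rfl⟩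
    rw [Scheme.Opens.range_ι]
    obtain ⟨a, ha⟩ := hcov x
    exact hDW a ha
  obtain ⟨i', hfac⟩ : ∃ i' : X ⟶ (↑W : Scheme.{u}), i' ≫ W.ι = i :=
    ⟨IsOpenImmersion.lift W.ι i hrange, IsOpenImmersion.lift_fac W.ι i hrange⟩
  subst hfac
  have hcl : IsClosedImmersion i' := by
    refine isClosedImmersion_of_affine_cover W i' D hDW hD hpre hsurj fun y => ?_
    have hy : W.ι y ∈ W := y.2
    have hle : W ≤ ⨆ a, D a := le_of_eq hW
    exact Opens.mem_iSup.1 (hle hy)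
  infer_instance

/-- an isomorphism of modules carries generators to generators -/
theorem isGen_app_iso {M N : X.Modules} (τ : M ≅ N) {U : X.Opens} {g : Γ(M, U)} (hg : IsGen M U g) :
    IsGen N U (τ.hom.app U g) := by
  intro W hW
  have hb := hg W hW
  have hfun : (fun c : Γ(X, W) => (c • res N hW (τ.hom.app U g) : Γ(N, W))) =
      (fun z : Γ(M, W) => τ.hom.app W z) ∘ (fun c : Γ(X, W) => (c • res M hW g : Γ(M, W))) := by
    funext c
    show _ = τ.hom.app W _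
    rw [Scheme.Modules.Hom.app_smul, app_res]
  rw [hfun]
  exact (app_bijective_of_isIso τ.hom W).comp hb

section proj

variable {A : Type u} [CommRing A] {S : Type u} [CommRing S] [Algebra A S] (𝒮 : ℕ → Submodule A S)
  [GradedAlgebra 𝒮] (r : X ⟶ Proj 𝒮) {M : X.Modules}
  (τ : (Scheme.Modules.pullback r).obj (Twist.twist 𝒮 ((1 : ℕ) : ℤ)) ≅ M)

/-- the section of `M` corresponding to an element of degree one -/
def sec {f : S} (hf : f ∈ 𝒮 1) : Γ(M, ⊤) :=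
  τ.hom.app ⊤ (pbs r (Twist.twist 𝒮 ((1 : ℕ) : ℤ)) ⊤ (TwistGen.gsec 𝒮 f hf))

/-- `r⁻¹ D₊(f)` is the locus of the section `r^* f` -/
theorem preimage_basicOpen_eq_genLocus (hcov : ∀ x : Proj 𝒮, ∃ f : S, f ∈ 𝒮 1 ∧ x ∈ Proj.basicOpen 𝒮 f)
    {f : S} (hf : f ∈ 𝒮 1) :
    r ⁻¹ᵁ Proj.basicOpen 𝒮 f = CohB1.genLocus M (TwistGen.ofSection M (sec 𝒮 r τ hf)) := by
  have hO1 := TwistCov.isInvertible_twist 𝒮 hcov ((1 : ℕ) : ℤ)
  have h1 := genLocus_pbSec r hO1 (TwistAmple.secHom 𝒮 hf)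
  rw [genLocus_secHom 𝒮 hcov hf] at h1
  rw [← h1, ← AmpleUnit.genLocus_comp_iso (pbSec r (TwistAmple.secHom 𝒮 hf)) τ]
  congr 1
  rw [← ofSection_secOf (pbSec r (TwistAmple.secHom 𝒮 hf) ≫ τ.hom)]
  unfold pbSec
  congr 1
  have h3 : secOf (TwistAmple.secHom 𝒮 hf) = TwistGen.gsec 𝒮 f hf := secOf_ofSection _
  rw [h3]
  show τ.hom.app ⊤ (secOf (TwistGen.ofSection _ (pbs r (Twist.twist 𝒮 ((1 : ℕ) : ℤ)) ⊤ (TwistGen.gsec 𝒮 f hf)))) = _
  rw [secOf_ofSection]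
  rfl

/-- on `r⁻¹ D₊(g)`: `r^* f = r^♯(f/g) • r^* g` -/
theorem res_sec_eq {f g : S} (hf : f ∈ 𝒮 1) (hg : g ∈ 𝒮 1) (W : X.Opens)
    (e : W ≤ r ⁻¹ᵁ Proj.basicOpen 𝒮 g) :
    res M (le_top : W ≤ ⊤) (sec 𝒮 r τ hf) =
      (r.appLE (Proj.basicOpen 𝒮 g) W e (ProjFrac.fr 𝒮 hg 1 f hf) • res M (le_top : W ≤ ⊤) (sec 𝒮 r τ hg) :
        Γ(M, W)) := by
  unfold sec
  rw [← app_res, ← app_res, pbs_gsec_coef 𝒮 r hf hg W e, Scheme.Modules.Hom.app_smul]

/-- `r^* g` generates `M` over `r⁻¹ D₊(g)` -/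
theorem isGen_res_sec {g : S} (hg : g ∈ 𝒮 1) (W : X.Opens) (e : W ≤ r ⁻¹ᵁ Proj.basicOpen 𝒮 g) :
    IsGen M W (res M (le_top : W ≤ ⊤) (sec 𝒮 r τ hg)) := by
  have h1 := isGen_app_iso τ (isGen_pbs_gsec 𝒮 r hg W e)
  unfold sec
  rw [← app_res]
  exact h1

end proj

variable {Y : Scheme.{u}}

section imm

variable {A : Type u} [CommRing A] {S : Type u} [CommRing S] [Algebra A S] (𝒮 : ℕ → Submodule A S)
  [GradedAlgebra 𝒮] {P' : Scheme.{u}} (p₁ : P' ⟶ Proj 𝒮) [IsAffineHom p₁] (p₂ : P' ⟶ Y) (i : X ⟶ P')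
  {M : X.Modules} (τ : (Scheme.Modules.pullback (i ≫ p₁)).obj (Twist.twist 𝒮 ((1 : ℕ) : ℤ)) ≅ M)

set_option maxHeartbeats 800000 in
theorem isImmersion_of_sections (hcovP : ∀ x : Proj 𝒮, ∃ f : S, f ∈ 𝒮 1 ∧ x ∈ Proj.basicOpen 𝒮 f)
    {J : Type*} (xs : J → S) (hxs : ∀ j, xs j ∈ 𝒮 1) (I₀ : Set J)
    (hcov : ∀ x : X, ∃ a ∈ I₀, x ∈ CohB1.genLocus M (TwistGen.ofSection M (sec 𝒮 (i ≫ p₁) τ (hxs a))))
    (haff : ∀ a ∈ I₀, IsAffineOpen (CohB1.genLocus M (TwistGen.ofSection M (sec 𝒮 (i ≫ p₁) τ (hxs a)))))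
    (hgenr : ∀ a ∈ I₀, ∀ (W : X.Opens)
      (_ : W = CohB1.genLocus M (TwistGen.ofSection M (sec 𝒮 (i ≫ p₁) τ (hxs a)))) (z : Γ(X, W)),
      z ∈ Subring.closure ({c | ∃ k, res M (le_top : W ≤ ⊤) (sec 𝒮 (i ≫ p₁) τ (hxs k)) =
          (c • res M (le_top : W ≤ ⊤) (sec 𝒮 (i ≫ p₁) τ (hxs a)) : Γ(M, W))} ∪
        Set.range ((i ≫ p₂).appLE ⊤ W le_top))) :
    IsImmersion i := by
  classical
  have hpre : ∀ a, i ⁻¹ᵁ (p₁ ⁻¹ᵁ Proj.basicOpen 𝒮 (xs a)) =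
      CohB1.genLocus M (TwistGen.ofSection M (sec 𝒮 (i ≫ p₁) τ (hxs a))) := fun a =>
    preimage_basicOpen_eq_genLocus 𝒮 (i ≫ p₁) τ hcovP (hxs a)
  refine isImmersion_of_affine_cover i (fun a : I₀ => p₁ ⁻¹ᵁ Proj.basicOpen 𝒮 (xs a.1)) ?_ ?_ ?_ ?_
  · intro a
    exact (Proj.isAffineOpen_basicOpen _ _ (hxs a.1) one_pos).preimage p₁
  · intro a
    rw [hpre a.1]; exact haff a.1 a.2
  · intro a
    obtain ⟨D, hD⟩ : ∃ D : P'.Opens, D = p₁ ⁻¹ᵁ Proj.basicOpen 𝒮 (xs a.1) := ⟨_, rfl⟩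
    show Function.Surjective (i.app (p₁ ⁻¹ᵁ Proj.basicOpen 𝒮 (xs a.1)))
    rw [← hD]
    intro z
    have hWg : i ⁻¹ᵁ D = CohB1.genLocus M (TwistGen.ofSection M (sec 𝒮 (i ≫ p₁) τ (hxs a.1))) := by
      rw [hD]; exact hpre a.1
    have hz := hgenr a.1 a.2 (i ⁻¹ᵁ D) hWg z
    have e : i ⁻¹ᵁ D ≤ (i ≫ p₁) ⁻¹ᵁ Proj.basicOpen 𝒮 (xs a.1) := by rw [hD]; exact le_rfl
    have hDle : D ≤ p₁ ⁻¹ᵁ Proj.basicOpen 𝒮 (xs a.1) := le_of_eq hD
    have hle : Subring.closure ({c | ∃ k, res M (le_top : i ⁻¹ᵁ D ≤ ⊤) (sec 𝒮 (i ≫ p₁) τ (hxs k)) =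
          (c • res M (le_top : i ⁻¹ᵁ D ≤ ⊤) (sec 𝒮 (i ≫ p₁) τ (hxs a.1)) : Γ(M, i ⁻¹ᵁ D))} ∪
        Set.range ((i ≫ p₂).appLE ⊤ (i ⁻¹ᵁ D) le_top)) ≤ (i.app D).hom.range := by
      refine Subring.closure_le.2 ?_
      rintro c (⟨k, hk⟩ | ⟨y, rfl⟩)
      · have h1 := res_sec_eq 𝒮 (i ≫ p₁) τ (hxs k) (hxs a.1) (i ⁻¹ᵁ D) e
        have hg := isGen_res_sec 𝒮 (i ≫ p₁) τ (hxs a.1) (i ⁻¹ᵁ D) e
        have hinj := (hg (i ⁻¹ᵁ D) le_rfl).1
        have hc : c = (i ≫ p₁).appLE _ (i ⁻¹ᵁ D) e (ProjFrac.fr 𝒮 (hxs a.1) 1 (xs k) (hxs k)) := by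
          apply hinj
          show (c • res M le_rfl _ : Γ(M, i ⁻¹ᵁ D)) = (_ • res M le_rfl _ : Γ(M, i ⁻¹ᵁ D))
          rw [QCohLoc.res_self, ← hk, h1]
        rw [hc, ← Scheme.Hom.appLE_comp_appLE i p₁ _ D (i ⁻¹ᵁ D) hDle le_rfl, Scheme.Hom.appLE_eq_app]
        exact ⟨_, rfl⟩
      · rw [← Scheme.Hom.appLE_comp_appLE i p₂ ⊤ D (i ⁻¹ᵁ D) le_top le_rfl, Scheme.Hom.appLE_eq_app]
        exact ⟨_, rfl⟩
    exact hle hz
  · intro x
    obtain ⟨a, ha, hx⟩ := hcov x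
    refine ⟨⟨a, ha⟩, ?_⟩
    have : x ∈ i ⁻¹ᵁ (p₁ ⁻¹ᵁ Proj.basicOpen 𝒮 (xs a)) := by
      rw [hpre a]; exact hx
    exact this

include p₂ in
theorem isImmersion_of_sections' (hcovP : ∀ x : Proj 𝒮, ∃ f : S, f ∈ 𝒮 1 ∧ x ∈ Proj.basicOpen 𝒮 f)
    {J : Type*} (xs : J → S) (hxs : ∀ j, xs j ∈ 𝒮 1) (I₀ : Set J)
    (s : J → (Coh.structureModule X ⟶ M)) (hτ : ∀ k, sec 𝒮 (i ≫ p₁) τ (hxs k) = secOf (s k))
    (hcov : ∀ x : X, ∃ a ∈ I₀, x ∈ CohB1.genLocus M (s a))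
    (haff : ∀ a ∈ I₀, IsAffineOpen (CohB1.genLocus M (s a)))
    (hgenr : ∀ a ∈ I₀, ∀ z : Γ(X, CohB1.genLocus M (s a)),
      z ∈ Subring.closure ({c | ∃ k, res M (le_top : CohB1.genLocus M (s a) ≤ ⊤) (secOf (s k)) =
          (c • res M (le_top : CohB1.genLocus M (s a) ≤ ⊤) (secOf (s a)) : Γ(M, CohB1.genLocus M (s a)))} ∪
        Set.range ((i ≫ p₂).appLE ⊤ (CohB1.genLocus M (s a)) le_top))) :
    IsImmersion i := by
  have hgenr' : ∀ a ∈ I₀, ∀ (W : X.Opens) (hW : W = CohB1.genLocus M (s a)) (z : Γ(X, W)),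
      z ∈ Subring.closure ({c | ∃ k, res M (le_top : W ≤ ⊤) (secOf (s k)) =
          (c • res M (le_top : W ≤ ⊤) (secOf (s a)) : Γ(M, W))} ∪
        Set.range ((i ≫ p₂).appLE ⊤ W le_top)) := by
    intro a ha W hW
    subst hW
    exact hgenr a ha
  refine isImmersion_of_sections 𝒮 p₁ p₂ i τ hcovP xs hxs I₀ ?_ ?_ ?_
  · intro x
    obtain ⟨a, ha, hx⟩ := hcov x
    refine ⟨a, ha, ?_⟩
    rw [hτ a, ofSection_secOf]
    exact hx
  · intro a ha
    rw [hτ a, ofSection_secOf]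
    exact haff a ha
  · intro a ha W hW z
    rw [hτ a, ofSection_secOf] at hW
    have h1 := hgenr' a ha W hW z
    simp only [hτ]
    exact h1

end imm

theorem generatedBy_of_cover {M : X.Modules} {J : Type*} (s : J → (Coh.structureModule X ⟶ M))
    (hcov : ∀ x : X, ∃ a, x ∈ CohB1.genLocus M (s a)) :
    ProjUP.GeneratedBy M (fun k => (secOf (s k) : ProjUP.Γm M)) := by
  intro x
  obtain ⟨a, hx⟩ := hcov x
  have h1 := TwistGenD.span_germ_eq_top_of_isGen (isGen_genLocus (s a)) x hx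
  rw [eq_top_iff, ← h1]
  refine Submodule.span_le.2 ?_
  rintro _ rfl
  refine Submodule.subset_span ⟨a, ?_⟩
  exact (ProjUPGeom.germ_res_L _ x le_top hx _).symm

/-- the morphism to `P^N_ℤ` with the data of S3572 -/
theorem exists_map_to_projSpace {M : X.Modules} (hM : PicF.IsInvertible M) (N : ℕ)
    (s : Fin (N + 1) → (Coh.structureModule X ⟶ M))
    (hcov : ∀ x : X, ∃ a, x ∈ CohB1.genLocus M (s a)) :
    ∃ (r : X ⟶ CohB1.ProjSpace N (ULift.{u} ℤ))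
      (τ : (Scheme.Modules.pullback r).obj (Twist.twist (CohB1.polyGrading N (ULift.{u} ℤ)) ((1 : ℕ) : ℤ)) ≅ M),
      ∀ k, sec (CohB1.polyGrading N (ULift.{u} ℤ)) r τ
        (MvPolynomial.isHomogeneous_X (ULift.{u} ℤ) k : MvPolynomial.X k ∈ CohB1.polyGrading N (ULift.{u} ℤ) 1) =
          secOf (s k) := by
  obtain ⟨r, -, τ, hτ⟩ := Groth.Agent.S3572.result (R := ULift.{u} ℤ) N (specULiftZIsTerminal.from X) M hM
    (fun k => (secOf (s k) : ProjUP.Γm M)) (generatedBy_of_cover s hcov)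
  exact ⟨r, τ, fun k => hτ k⟩

theorem projSpace_cover (N : ℕ) (R : Type u) [CommRing R] (x : Proj (CohB1.polyGrading N R)) :
    ∃ f : MvPolynomial (Fin (N + 1)) R, f ∈ CohB1.polyGrading N R 1 ∧ x ∈ Proj.basicOpen (CohB1.polyGrading N R) f := by
  obtain ⟨j, hj⟩ := Segre5.cover_of_adjoin (CohB1.polyGrading N R) (fun k : Fin (N + 1) => (MvPolynomial.X k : MvPolynomial (Fin (N + 1)) R))
    (fun k => MvPolynomial.isHomogeneous_X R k) (MvPolynomial.adjoin_range_X) x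
  exact ⟨_, MvPolynomial.isHomogeneous_X R j, hj⟩

set_option maxHeartbeats 800000 in
/-- **very ampleness from sections** -/
theorem isRelVeryAmplePn_of_sections [IsAffine Y] (q : X ⟶ Y) {M : X.Modules} (hM : PicF.IsInvertible M) (N : ℕ)
    (s : Fin (N + 1) → (Coh.structureModule X ⟶ M)) (I₀ : Set (Fin (N + 1)))
    (hcov : ∀ x : X, ∃ a ∈ I₀, x ∈ CohB1.genLocus M (s a))
    (haff : ∀ a ∈ I₀, IsAffineOpen (CohB1.genLocus M (s a)))
    (hgenr : ∀ a ∈ I₀, ∀ z : Γ(X, CohB1.genLocus M (s a)),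
      z ∈ Subring.closure ({c | ∃ k, res M (le_top : CohB1.genLocus M (s a) ≤ ⊤) (secOf (s k)) =
          (c • res M (le_top : CohB1.genLocus M (s a) ≤ ⊤) (secOf (s a)) : Γ(M, CohB1.genLocus M (s a)))} ∪
        Set.range (q.appLE ⊤ (CohB1.genLocus M (s a)) le_top))) :
    RelAmple.IsRelVeryAmplePn q M := by
  classical
  obtain ⟨r, τ, hτ⟩ := exists_map_to_projSpace hM N s (fun x => by
    obtain ⟨a, -, ha⟩ := hcov x; exact ⟨a, ha⟩)
  -- generalised generation hypothesis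
  have hgenr' : ∀ a ∈ I₀, ∀ (W : X.Opens) (hW : W = CohB1.genLocus M (s a)) (z : Γ(X, W)),
      z ∈ Subring.closure ({c | ∃ k, res M (le_top : W ≤ ⊤) (secOf (s k)) =
          (c • res M (le_top : W ≤ ⊤) (secOf (s a)) : Γ(M, W))} ∪
        Set.range (q.appLE ⊤ W le_top)) := by
    intro a ha W hW
    subst hW
    exact hgenr a ha
  obtain ⟨i, hi1, hi2⟩ : ∃ i : X ⟶ CohB1.ProjSpaceOver N Y,
      i ≫ pullback.fst (CohB1.ProjSpace.toSpec N (ULift.{u} ℤ)) (specULiftZIsTerminal.from Y) = r ∧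
      i ≫ pullback.snd (CohB1.ProjSpace.toSpec N (ULift.{u} ℤ)) (specULiftZIsTerminal.from Y) = q :=
    ⟨pullback.lift r q (specULiftZIsTerminal.hom_ext _ _), pullback.lift_fst _ _ _, pullback.lift_snd _ _ _⟩
  subst hi1
  subst hi2
  refine ⟨N, i, ?_, rfl, ⟨?_⟩⟩
  · have hfstaff : @IsAffineHom (CohB1.ProjSpaceOver N Y) (Proj (CohB1.polyGrading N (ULift.{u} ℤ)))
        (pullback.fst (CohB1.ProjSpace.toSpec N (ULift.{u} ℤ)) (specULiftZIsTerminal.from Y)) :=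
      MorphismProperty.pullback_fst (P := @IsAffineHom) _ _
        (inferInstance : IsAffineHom (specULiftZIsTerminal.from Y))
    exact isImmersion_of_sections' (P' := CohB1.ProjSpaceOver N Y) (CohB1.polyGrading N (ULift.{u} ℤ))
      (pullback.fst (CohB1.ProjSpace.toSpec N (ULift.{u} ℤ)) (specULiftZIsTerminal.from Y))
      (pullback.snd (CohB1.ProjSpace.toSpec N (ULift.{u} ℤ)) (specULiftZIsTerminal.from Y)) i τ
      (projSpace_cover N _) (fun k : Fin (N + 1) => (MvPolynomial.X k : MvPolynomial (Fin (N + 1)) (ULift.{u} ℤ)))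
      (fun k => MvPolynomial.isHomogeneous_X _ k) I₀ s hτ hcov haff hgenr
  · exact τ.symm ≪≫ ((Scheme.Modules.pullbackComp i _).app _).symm



theorem exists_generators (q : X ⟶ Y) [LocallyOfFiniteType q] {V : Y.Opens} (hV : IsAffineOpen V)
    {U : X.Opens} (hU : IsAffineOpen U) (e : U ≤ q ⁻¹ᵁ V) :
    ∃ (k : ℕ) (b : Fin k → Γ(X, U)),
      ∀ z : Γ(X, U), z ∈ Subring.closure (Set.range b ∪ Set.range (q.appLE V U e)) := by
  classical
  have h := q.finiteType_appLE hV hU e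
  let _ : Algebra Γ(Y, V) Γ(X, U) := (q.appLE V U e).hom.toAlgebra
  have h' : Algebra.FiniteType Γ(Y, V) Γ(X, U) := h
  obtain ⟨T, hT⟩ := h'.out
  refine ⟨T.card, fun j => (T.equivFin.symm j).1, fun z => ?_⟩
  have hz : z ∈ (Algebra.adjoin Γ(Y, V) (T : Set Γ(X, U))).toSubring := by
    rw [hT]; trivial
  rw [Algebra.adjoin_eq_ring_closure] at hz
  refine Subring.closure_mono ?_ hz
  rintro c (⟨y, rfl⟩ | hc)
  · exact Or.inr ⟨y, rfl⟩
  · exact Or.inl ⟨T.equivFin ⟨c, hc⟩, by simp⟩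

theorem mem_closure_of_ratios (q : X ⟶ Y) {M : X.Modules} {J : Type*} (s' : J → (Coh.structureModule X ⟶ M))
    (a : J) (W : X.Opens) (hW : CohB1.genLocus M (s' a) = W) {k : ℕ} (b : Fin k → Γ(X, W))
    (hb : ∀ z : Γ(X, W), z ∈ Subring.closure (Set.range b ∪ Set.range (q.appLE ⊤ W le_top)))
    (hr : ∀ j, ∃ k', res M (le_top : W ≤ ⊤) (secOf (s' k')) =
      (b j • res M (le_top : W ≤ ⊤) (secOf (s' a)) : Γ(M, W))) :
    ∀ z : Γ(X, CohB1.genLocus M (s' a)),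
      z ∈ Subring.closure ({c | ∃ k', res M (le_top : CohB1.genLocus M (s' a) ≤ ⊤) (secOf (s' k')) =
          (c • res M (le_top : CohB1.genLocus M (s' a) ≤ ⊤) (secOf (s' a)) : Γ(M, CohB1.genLocus M (s' a)))} ∪
        Set.range (q.appLE ⊤ (CohB1.genLocus M (s' a)) le_top)) := by
  subst hW
  intro z
  refine Subring.closure_mono ?_ (hb z)
  rintro c (⟨j, rfl⟩ | hc)
  · exact Or.inl (hr j)
  · exact Or.inr hc

/-- the family of sections assembled from the local data -/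
def famSec {M : X.Modules} {ι : Type u} {κ : ι → ℕ} (s : ι → (Coh.structureModule X ⟶ M))
    (sk : ∀ i, Fin (κ i) → (Coh.structureModule X ⟶ M)) :
    Option (Σ i : ι, Option (Fin (κ i))) → (Coh.structureModule X ⟶ M)
  | none => 0
  | some ⟨i, none⟩ => s i
  | some ⟨i, some j⟩ => sk i j

set_option maxHeartbeats 800000 in
/-- **EGA II 4.5.10 / Hartshorne II.7.6 core** -/
theorem exists_forall_isRelVeryAmplePn [IsAffine Y] (q : X ⟶ Y) [LocallyOfFiniteType q]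
    {L L' : X.Modules} (hL : CohB1.IsAmple L) (hL' : PicF.IsInvertible L') :
    ∃ n₀ : ℕ, ∀ n : ℕ, n₀ ≤ n →
      RelAmple.IsRelVeryAmplePn q (CohB1.tensorMod (CohB1.tensorPow L n) L') := by
  classical
  have : CompactSpace X := hL.2.1
  have hgen : ∀ U : X.affineOpens, ∃ (k : ℕ) (b : Fin k → Γ(X, U.1)),
      ∀ z : Γ(X, U.1), z ∈ Subring.closure (Set.range b ∪ Set.range (q.appLE ⊤ U.1 le_top)) :=
    fun U => exists_generators q (isAffineOpen_top Y) U.2 le_top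
  choose k b hb using hgen
  obtain ⟨ι, hι, U, hUcov, n₀, hn₀⟩ := VeryAmpleSec.exists_cover_sections hL hL' k b
  refine ⟨n₀, fun n hn => ?_⟩
  have key := hn₀ n hn
  choose s sk hloc hratio using key
  have hM : PicF.IsInvertible (CohB1.tensorMod (CohB1.tensorPow L n) L') :=
    isInvertible_tensorMod (isInvertible_tensorPow hL.1 n) hL'
  obtain ⟨N, hN⟩ : ∃ N : ℕ, Fintype.card (Option (Σ i : ι, Option (Fin (k (U i))))) = N + 1 :=
    ⟨_, Fintype.card_option⟩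
  let e : Option (Σ i : ι, Option (Fin (k (U i)))) ≃ Fin (N + 1) := Fintype.equivFinOfCardEq hN
  refine isRelVeryAmplePn_of_sections q hM N (fun a => famSec s sk (e.symm a))
    {a | ∃ i, e.symm a = some ⟨i, none⟩} ?_ ?_ ?_
  · intro x
    obtain ⟨i, hi⟩ := hUcov x
    refine ⟨e (some ⟨i, none⟩), ⟨i, e.symm_apply_apply _⟩, ?_⟩
    show x ∈ CohB1.genLocus _ (famSec s sk (e.symm (e (some ⟨i, none⟩))))
    rw [e.symm_apply_apply]
    show x ∈ CohB1.genLocus _ (s i)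
    rw [hloc i]
    exact hi
  · rintro a ⟨i, hai⟩
    show IsAffineOpen (CohB1.genLocus _ (famSec s sk (e.symm a)))
    rw [hai]
    show IsAffineOpen (CohB1.genLocus _ (s i))
    rw [hloc i]
    exact (U i).2
  · rintro a ⟨i, hai⟩
    refine mem_closure_of_ratios q (fun a => famSec s sk (e.symm a)) a (U i).1 ?_ (b (U i)) (hb (U i)) ?_
    · show CohB1.genLocus _ (famSec s sk (e.symm a)) = (U i).1
      rw [hai]
      exact hloc i
    · intro j
      refine ⟨e (some ⟨i, some j⟩), ?_⟩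
      show res _ _ (secOf (famSec s sk (e.symm (e (some ⟨i, some j⟩))))) =
        (b (U i) j • res _ _ (secOf (famSec s sk (e.symm a))) : Γ(CohB1.tensorMod (CohB1.tensorPow L n) L', (U i).1))
      rw [e.symm_apply_apply, hai]
      exact hratio i j


end Groth.Agent.Lib.Helper28.VeryAmpleImm
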