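import Groth.Agent.Lib.Helper28.RelTildeMap
import Mathlib.Algebra.Homology.ShortComplex.ExactFunctor
import Mathlib.Algebra.Homology.ShortComplex.Abelian

/-!
# Exactness of sequences of `O_X`-modules, checked locally on sections
-/

set_option autoImplicit false
universe u
open CategoryTheory CategoryTheory.Limits AlgebraicGeometry Opposite TopologicalSpace

namespace Groth.Agent.Lib.Helper28.QCohLoc

variable {X : Scheme.{u}}

/-- a monomorphism of modules is injective on sections -/
theorem injective_of_mono {F G : X.Modules} (φ : F ⟶ G) (hφ : Mono φ) (U : X.Opens) :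
    Function.Injective (φ.app U) := by
  have : (SheafOfModules.evaluation.{u} X.ringCatSheaf (op U)).PreservesMonomorphisms :=
    preservesMonomorphisms_of_preservesLimitsOfShape _
  have h1 : Mono ((SheafOfModules.evaluation.{u} X.ringCatSheaf (op U)).map φ) :=
    @Functor.map_mono _ _ _ _ (SheafOfModules.evaluation.{u} X.ringCatSheaf (op U)) _ _ _ φ hφ
  have h2 := (ModuleCat.mono_iff_injective _).1 h1
  exact h2

/-- a complex of modules in which every section killed by `g` is locally in the image of `f` is exact -/
theorem exact_of_locally {F₁ F₂ F₃ : X.Modules} (f : F₁ ⟶ F₂) (g : F₂ ⟶ F₃) (w : f ≫ g = 0)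
    (h : ∀ (U : X.Opens) (x : Γ(F₂, U)), g.app U x = 0 → ∀ pt : X, pt ∈ U →
      ∃ (V : X.Opens) (hV : V ≤ U), pt ∈ V ∧ ∃ y : Γ(F₁, V), f.app V y = res F₂ hV x) :
    (ShortComplex.mk f g w).Exact := by
  rw [ShortComplex.exact_iff_epi_kernel_lift]
  apply epi_of_locally_in_range
  intro U k pt hpt
  have hk : g.app U ((kernel.ι g).app U k) = 0 := by
    have := congrArg (fun φ => Scheme.Modules.Hom.app φ U k) (kernel.condition g)
    exact this
  obtain ⟨V, hV, hptV, y, hy⟩ := h U _ hk pt hpt
  refine ⟨V, hV, hptV, y, ?_⟩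
  apply injective_of_mono (kernel.ι g) inferInstance V
  have e1 : (kernel.ι g).app V ((kernel.lift g f w).app V y) = f.app V y := by
    have := congrArg (fun φ => Scheme.Modules.Hom.app φ V y) (kernel.lift_ι g f w)
    exact this
  rw [app_res]
  exact e1.trans hy

end Groth.Agent.Lib.Helper28.QCohLoc
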