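import Groth.Agent.Lib.Helper28.AmpleH1A
import Groth.Agent.Lib.Helper28.TensorPowGen
import Groth.Agent.Lib.Helper28.TwistGen
import Groth.Agent.Lib.Helper17.Serre

/-!
# The cohomological criterion for ampleness (twisted Serre criterion)
-/

set_option autoImplicit false
universe u
open CategoryTheory CategoryTheory.Limits AlgebraicGeometry Opposite TopologicalSpace
noncomputable section

namespace Groth.Agent.Lib.Helper28.AmpleH1

open Groth.Agent.Lib.Helper28 Groth.Agent.Lib.Helper28.QCohLoc Groth.Agent.Lib.Helper28.GenLocus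
  Groth.Agent.Lib.Helper28.TensorGen Groth.Agent.Lib.Helper28.IdealDual Groth.Agent.Lib.Helper17.Serre

variable {X : Scheme.{u}} (I : X.IdealSheafData)

/-- functions on an open disjoint from the closed subscheme restrict to zero on it -/
theorem subschemeι_app_eq_zero_of_disjoint (V : X.Opens) (hV : ∀ y ∈ V, y ∉ I.support)
    (a : Γ(X, V)) : I.subschemeι.app V a = 0 := by
  have hpre : I.subschemeι ⁻¹ᵁ V = ⊥ := by
    rw [eq_bot_iff]
    intro z hz
    exfalso
    refine hV _ hz ?_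
    have : I.subschemeι z ∈ Set.range I.subschemeι := ⟨z, rfl⟩
    rw [Scheme.IdealSheafData.range_subschemeι] at this
    exact this
  have hsub : ∀ (T : I.subscheme.Opens), T = ⊥ → ∀ (b b' : Γ(I.subscheme, T)), b = b' := by
    rintro T rfl b b'
    have : Subsingleton Γ(I.subscheme, (⊥ : I.subscheme.Opens)) :=
      CommRingCat.subsingleton_of_isTerminal I.subscheme.sheaf.isTerminalOfEmpty
    exact Subsingleton.elim b b'
  exact hsub _ hpre _ _

/-- sections of the ideal module vanish at the points of the closed subscheme -/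
theorem not_mem_basicOpen_iota {V : X.Opens} (k : Γ(ClSub.idealMod I, V)) (y : X) (hy : y ∈ I.support) :
    y ∉ X.basicOpen (iota I k) := by
  intro hyb
  obtain ⟨z, rfl⟩ : y ∈ Set.range I.subschemeι := by
    rw [Scheme.IdealSheafData.range_subschemeι]
    exact hy
  have h1 : z ∈ I.subschemeι ⁻¹ᵁ X.basicOpen (iota I k) := hyb
  rw [Scheme.preimage_basicOpen] at h1
  have h2 : I.subschemeι.app V (iota I k) = 0 := subschemeι_app_iota I k
  rw [h2, Scheme.basicOpen_zero] at h1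
  exact h1

/-- a function congruent to `1` modulo functions vanishing at `x` does not vanish at `x` -/
theorem mem_basicOpen_of_sub_one {U : X.Opens} (c : Γ(X, U)) (x : X) (hxU : x ∈ U)
    (hx : x ∉ X.basicOpen (c - 1)) : x ∈ X.basicOpen c := by
  rw [Scheme.mem_basicOpen _ _ x hxU] at hx ⊢
  have h1 : X.presheaf.germ U x hxU c + (-(X.presheaf.germ U x hxU (c - 1))) = 1 := by
    rw [map_sub, map_one]
    ring
  rcases IsLocalRing.isUnit_or_isUnit_of_add_one h1 with h | h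
  · exact h
  · exact absurd (IsUnit.neg_iff _ |>.1 h) hx

section main

/-- the key step, for an invertible module `Λ` trivialised on an affine neighbourhood `U` of a closed point `x`:
if `H¹(X, I ⊗ Λ) = 0` for the ideal `I` of `(X ∖ U) ∪ {x}`, there is a section `s` of `Λ` with `x ∈ X_s ⊆ U` and `X_s` affine -/
theorem exists_affine_genLocus_aux (Λ : X.Modules) (hΛ : PicF.IsInvertible Λ) (U : X.Opens) (hU : IsAffineOpen U)
    (γ : Γ(Λ, U)) (hγ : IsGen Λ U γ) (x : X) (hxU : x ∈ U) (hx : IsClosed ({x} : Set X))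
    (hn : Subsingleton (Coh.HH X (CohB1.tensorMod (ClSub.idealMod (Scheme.IdealSheafData.vanishingIdeal
      (⟨(U : Set X)ᶜ ∪ {x}, U.isOpen.isClosed_compl.union hx⟩ : Closeds X))) Λ) 1)) :
    ∃ s : Coh.structureModule X ⟶ Λ, x ∈ CohB1.genLocus _ s ∧ IsAffineOpen (CohB1.genLocus _ s) := by
  have hsupp : ∀ y : X, y ∈ (Scheme.IdealSheafData.vanishingIdeal
      (⟨(U : Set X)ᶜ ∪ {x}, U.isOpen.isClosed_compl.union hx⟩ : Closeds X)).support ↔ (y ∉ U ∨ y = x) := by
    intro y
    have h0 : ((Scheme.IdealSheafData.vanishingIdeal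
        (⟨(U : Set X)ᶜ ∪ {x}, U.isOpen.isClosed_compl.union hx⟩ : Closeds X)).support : Set X) =
        (U : Set X)ᶜ ∪ {x} :=
      Scheme.IdealSheafData.coe_support_vanishingIdeal _
    have h1 : y ∈ (Scheme.IdealSheafData.vanishingIdeal
        (⟨(U : Set X)ᶜ ∪ {x}, U.isOpen.isClosed_compl.union hx⟩ : Closeds X)).support ↔
        y ∈ ((Scheme.IdealSheafData.vanishingIdeal
          (⟨(U : Set X)ᶜ ∪ {x}, U.isOpen.isClosed_compl.union hx⟩ : Closeds X)).support : Set X) := Iff.rfl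
    rw [h1, h0]
    rfl
  generalize Scheme.IdealSheafData.vanishingIdeal
    (⟨(U : Set X)ᶜ ∪ {x}, U.isOpen.isClosed_compl.union hx⟩ : Closeds X) = I' at hn hsupp
  have : Mono (ClSub.idealModι I') := inferInstanceAs (Mono (ClSub.idealModι I'))
  have hmono : Mono (mulMap (ClSub.idealModι I') Λ) := mono_mulMap (ClSub.idealModι I') Λ hΛ
  have hS : (ShortComplex.mk (mulMap (ClSub.idealModι I') Λ) (cokernel.π (mulMap (ClSub.idealModι I') Λ))
      (cokernel.condition _)).ShortExact :=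
    { exact := ShortComplex.exact_of_g_is_cokernel _ (cokernelIsCokernel _)
      mono_f := hmono
      epi_g := inferInstanceAs (Epi (cokernel.π (mulMap (ClSub.idealModι I') Λ))) }
  have hsurj : Function.Surjective ((cokernel.π (mulMap (ClSub.idealModι I') Λ)).app ⊤) :=
    surjective_app_top_of_H1 _ hS hn
  have hcond : ∀ (V : X.Opens) (z : Γ(CohB1.tensorMod (ClSub.idealMod I') Λ, V)),
      (cokernel.π (mulMap (ClSub.idealModι I') Λ)).app V ((mulMap (ClSub.idealModι I') Λ).app V z) = 0 := by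
    intro V z
    have := congrArg (fun ψ : (CohB1.tensorMod (ClSub.idealMod I') Λ ⟶ cokernel (mulMap (ClSub.idealModι I') Λ)) =>
      ψ.app V z) (cokernel.condition (mulMap (ClSub.idealModι I') Λ))
    exact this
  -- sections in the kernel of the projection are of the form `iota y • γ'` for a generator `γ'`
  have hker : ∀ (V : X.Opens) (γ' : Γ(Λ, V)), IsGen Λ V γ' → ∀ c : Γ(X, V),
      (cokernel.π (mulMap (ClSub.idealModι I') Λ)).app V (c • γ' : Γ(Λ, V)) = 0 →
      ∃ y : Γ(ClSub.idealMod I', V), iota I' y = c := by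
    intro V γ' hγ' c hc
    obtain ⟨z, hz⟩ := exists_app_eq_of_exact _ _ _ hS.exact V _ hc
    obtain ⟨y, hy⟩ := (tmulSec_right_bijective (ClSub.idealMod I') Λ hγ').2 z
    have hy' : tmulSec (ClSub.idealMod I') Λ y γ' = z := hy
    refine ⟨y, ?_⟩
    apply (hγ' V le_rfl).1
    show (iota I' y • res Λ le_rfl γ' : Γ(Λ, V)) = (c • res Λ le_rfl γ' : Γ(Λ, V))
    rw [res_self, ← hz, ← hy', mulMap_app_tmulSec]
    rfl
  let U₂ : X.Opens := ⟨({x} : Set X)ᶜ, hx.isOpen_compl⟩
  have hcov : U ⊔ U₂ = ⊤ := by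
    rw [eq_top_iff]
    intro y _
    by_cases hy : y = x
    · left
      rw [hy]
      exact hxU
    · right
      exact hy
  have hzero : res (cokernel (mulMap (ClSub.idealModι I') Λ)) (inf_le_left : U ⊓ U₂ ≤ U)
      ((cokernel.π (mulMap (ClSub.idealModι I') Λ)).app U γ) =
      res (cokernel (mulMap (ClSub.idealModι I') Λ)) (inf_le_right : U ⊓ U₂ ≤ U₂) 0 := by
    rw [res_zero, ← app_res]
    obtain ⟨k, hk⟩ := exists_iota_eq I' (1 : Γ(X, U ⊓ U₂))
      (subschemeι_app_eq_zero_of_disjoint I' _ (by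
        rintro y ⟨hyU, hyx⟩ hy
        rcases (hsupp y).1 hy with h1 | h1
        · exact h1 hyU
        · exact hyx h1) 1)
    have h1 : res Λ (inf_le_left : U ⊓ U₂ ≤ U) γ =
        (mulMap (ClSub.idealModι I') Λ).app (U ⊓ U₂)
          (tmulSec (ClSub.idealMod I') Λ k (res Λ (inf_le_left : U ⊓ U₂ ≤ U) γ)) := by
      rw [mulMap_app_tmulSec]
      have : (show Γ(X, U ⊓ U₂) from (ClSub.idealModι I').app (U ⊓ U₂) k) = 1 := hk
      rw [this, one_smul]
    rw [h1]
    exact hcond _ _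
  obtain ⟨t, ht1, ht2⟩ := exists_glue_two (cokernel (mulMap (ClSub.idealModι I') Λ)) U U₂ hcov _ 0 hzero
  obtain ⟨σ, hσ⟩ := hsurj t
  refine ⟨TwistGen.ofSection Λ σ, ?_⟩
  -- the coefficient of `σ` on `U`
  have hc := hγ.coef_smul le_rfl (res Λ (le_top : U ≤ ⊤) σ)
  generalize hγ.coef le_rfl (res Λ (le_top : U ≤ ⊤) σ) = c at hc
  rw [res_self] at hc
  have hloc : CohB1.genLocus Λ (TwistGen.ofSection Λ σ) ⊓ U = X.basicOpen c :=
    genLocus_inf_eq_basicOpen (TwistGen.ofSection Λ σ) U γ hγ c (by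
      rw [TwistGen.ofSection_app, one_smul, hc])
  -- `x` lies in `D(c)`
  have h1 : (cokernel.π (mulMap (ClSub.idealModι I') Λ)).app U ((c - 1) • γ : Γ(Λ, U)) = 0 := by
    rw [sub_smul, one_smul, map_sub, hc, app_res, hσ, ht1, sub_self]
  obtain ⟨y, hy⟩ := hker U γ hγ (c - 1) h1
  have hx1 : x ∉ X.basicOpen (c - 1) := by
    rw [← hy]
    exact not_mem_basicOpen_iota I' y x ((hsupp x).2 (Or.inr rfl))
  have hxc : x ∈ X.basicOpen c := mem_basicOpen_of_sub_one c x hxU hx1
  -- `X_s ⊆ U`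
  have hle : CohB1.genLocus Λ (TwistGen.ofSection Λ σ) ≤ U := by
    intro p hp
    by_contra hpU
    have hpx : p ≠ x := fun h => hpU (h ▸ hxU)
    obtain ⟨W', γ', hpW', hγ'⟩ := exists_isGen Λ hΛ p
    have hpV' : p ∈ W' ⊓ U₂ := ⟨hpW', hpx⟩
    have hγV := hγ'.res (inf_le_left : W' ⊓ U₂ ≤ W')
    have hc' := hγV.coef_smul le_rfl (res Λ (le_top : W' ⊓ U₂ ≤ ⊤) σ)
    generalize hγV.coef le_rfl (res Λ (le_top : W' ⊓ U₂ ≤ ⊤) σ) = c' at hc'
    rw [res_self] at hc'
    have hloc' : CohB1.genLocus Λ (TwistGen.ofSection Λ σ) ⊓ (W' ⊓ U₂) = X.basicOpen c' :=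
      genLocus_inf_eq_basicOpen (TwistGen.ofSection Λ σ) (W' ⊓ U₂) _ hγV c' (by
        rw [TwistGen.ofSection_app, one_smul, hc'])
    have h1' : (cokernel.π (mulMap (ClSub.idealModι I') Λ)).app (W' ⊓ U₂)
        ((c' • res Λ (inf_le_left : W' ⊓ U₂ ≤ W') γ' : Γ(Λ, W' ⊓ U₂))) = 0 := by
      rw [hc', app_res, hσ, ← res_res (cokernel (mulMap (ClSub.idealModι I') Λ)) (le_top : U₂ ≤ ⊤)
        (inf_le_right : W' ⊓ U₂ ≤ U₂), ht2, res_zero]
    obtain ⟨y', hy'⟩ := hker (W' ⊓ U₂) _ hγV c' h1'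
    have hp1 : p ∉ X.basicOpen c' := by
      rw [← hy']
      exact not_mem_basicOpen_iota I' y' p ((hsupp p).2 (Or.inl hpU))
    apply hp1
    rw [← hloc']
    exact ⟨hp, hpV'⟩
  have heq : CohB1.genLocus Λ (TwistGen.ofSection Λ σ) = X.basicOpen c := by
    rw [← hloc, inf_eq_left.2 hle]
  rw [heq]
  exact ⟨hxc, hU.basicOpen c⟩

variable (L : X.Modules) (hL : PicF.IsInvertible L)

include hL in
/-- around a closed point there is an affine `X_s` -/
theorem exists_affine_genLocus_of_closed_point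
    (h : ∀ (I : X.Modules) (i : I ⟶ Coh.structureModule X), Mono i → Coh.IsQCoh I →
      ∃ n : ℕ, Subsingleton (Coh.HH X (CohB1.tensorMod I (CohB1.tensorPow L (n + 1))) 1))
    (x : X) (hx : IsClosed ({x} : Set X)) :
    ∃ (n : ℕ) (s : Coh.structureModule X ⟶ CohB1.tensorPow L (n + 1)),
      x ∈ CohB1.genLocus _ s ∧ IsAffineOpen (CohB1.genLocus _ s) := by
  obtain ⟨W₀, g₀, hxW₀, hg₀⟩ := exists_isGen L hL x
  obtain ⟨_, ⟨U, hU, rfl⟩, hxU, hUW⟩ := X.isBasis_affineOpens.exists_subset_of_mem_open hxW₀ W₀.2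
  have hg : IsGen L U (res L hUW g₀) := hg₀.res hUW
  have key : ∀ I' : X.IdealSheafData,
      ∃ n : ℕ, Subsingleton (Coh.HH X (CohB1.tensorMod (ClSub.idealMod I') (CohB1.tensorPow L (n + 1))) 1) :=
    fun I' => h (ClSub.idealMod I') (ClSub.idealModι I') (inferInstanceAs (Mono (ClSub.idealModι I')))
      (inferInstanceAs ((ClSub.idealMod I').IsQuasicoherent))
  obtain ⟨n, hn⟩ := key (Scheme.IdealSheafData.vanishingIdeal
      (⟨(U : Set X)ᶜ ∪ {x}, U.isOpen.isClosed_compl.union hx⟩ : Closeds X))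
  exact ⟨n, exists_affine_genLocus_aux (CohB1.tensorPow L (n + 1)) (isInvertible_tensorPow hL (n + 1)) U hU
    (gpow L (res L hUW g₀) (n + 1)) (isGen_gpow hg (n + 1)) x hxU hx hn⟩

end main

section final

variable (L : X.Modules) (hL : PicF.IsInvertible L)

include hL in
/-- **the cohomological criterion for ampleness** -/
theorem isAmple_of_H1 [CompactSpace X]
    (h : ∀ (I : X.Modules) (i : I ⟶ Coh.structureModule X), Mono i → Coh.IsQCoh I →
      ∃ n : ℕ, Subsingleton (Coh.HH X (CohB1.tensorMod I (CohB1.tensorPow L (n + 1))) 1)) :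
    CohB1.IsAmple L := by
  refine ⟨hL, inferInstance, ?_⟩
  let W : X.Opens := ⨆ p : {p : Σ n : ℕ, (Coh.structureModule X ⟶ CohB1.tensorPow L (n + 1)) //
    IsAffineOpen (CohB1.genLocus _ p.2)}, CohB1.genLocus _ p.1.2
  suffices hW : W = ⊤ by
    intro y
    have hy : y ∈ W := hW ▸ trivial
    obtain ⟨p, hp⟩ := Opens.mem_iSup.1 hy
    exact ⟨p.1.1, p.1.2, hp, p.2⟩
  by_contra hne
  have hne' : ((W : Set X)ᶜ).Nonempty := by
    rw [Set.nonempty_compl]
    intro h'
    exact hne (Opens.ext h')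
  obtain ⟨x, hxW, hx⟩ := W.isOpen.isClosed_compl.exists_closed_singleton hne'
  obtain ⟨n, s, hxs, haff⟩ := exists_affine_genLocus_of_closed_point L hL h x hx
  exact hxW (Opens.mem_iSup.2 ⟨⟨⟨n, s⟩, haff⟩, hxs⟩)

end final

end Groth.Agent.Lib.Helper28.AmpleH1
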