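import Groth.Agent.Lib.Helper28.SecExtend2
import Groth.Agent.Lib.Helper28.QCohGen
import Groth.Prelude.Def_Curv2

/-!
# Twisting an invertible module by a high power of an ample module gives an ample, globally generated module
-/

set_option autoImplicit false
universe u
open CategoryTheory CategoryTheory.Limits AlgebraicGeometry Opposite TopologicalSpace
noncomputable section

namespace Groth.Agent.Lib.Helper28.GenLocus

open Groth.Agent.Lib.Helper28 Groth.Agent.Lib.Helper28.QCohLoc Groth.Agent.Lib.Helper28.TensorGen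
  Groth.Agent.Lib.Helper28.InvTensor Groth.Agent.Lib.Helper28.AmpleUnit Groth.Agent.Lib.Helper28.TwistAmple

variable {X : Scheme.{u}}

/-- a global section which restricts to a generator over `G` generates over `G` -/
theorem le_genLocus_of_isGen_res {N : X.Modules} (T : Coh.structureModule X ⟶ N) (G : X.Opens)
    (h : IsGen N G (res N le_top (secOf T))) : G ≤ CohB1.genLocus N T := by
  have h1 := genLocus_inf_eq T G _ h 1 (one_smul _ _).symm
  rw [Scheme.basicOpen_one] at h1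
  exact inf_eq_right.1 h1

/-- a module covered by the loci of its global sections is globally generated -/
theorem isGloballyGenerated_of_cover (N : X.Modules)
    (h : ∀ x : X, ∃ T : Coh.structureModule X ⟶ N, x ∈ CohB1.genLocus N T) :
    Curv2.IsGloballyGenerated N := by
  refine ⟨_, QCohLoc.fromFree N, ?_⟩
  apply epi_of_locally_in_range (G := (SheafOfModules.free (N.val.obj (op ⊤)) : X.Modules)) (F := N)
  intro U y pt hpt
  obtain ⟨T, hT⟩ := h pt
  have hgen := isGen_genLocus T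
  refine ⟨U ⊓ CohB1.genLocus N T, inf_le_left, ⟨hpt, hT⟩, ?_⟩
  let c : Γ(X, U ⊓ CohB1.genLocus N T) := hgen.coef inf_le_right (res N inf_le_left y)
  have hc : (c • res N inf_le_right (res N le_top (secOf T)) : Γ(N, U ⊓ CohB1.genLocus N T)) =
      res N inf_le_left y := hgen.coef_smul inf_le_right _
  refine ⟨(c • (show Γ((SheafOfModules.free (N.val.obj (op ⊤)) : X.Modules), U ⊓ CohB1.genLocus N T) from
      (SheafOfModules.freeSection (R := X.ringCatSheaf) (secOf T)).1 (op (U ⊓ CohB1.genLocus N T))) :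
      Γ((SheafOfModules.free (N.val.obj (op ⊤)) : X.Modules), U ⊓ CohB1.genLocus N T)), ?_⟩
  rw [Scheme.Modules.Hom.app_smul]
  have h1 := fromFree_app N (U ⊓ CohB1.genLocus N T) (secOf T)
  rw [← hc, res_res]
  congr 1

section Isos

variable {L L' : X.Modules}

/-- `(L^r ⊗ L') ⊗ (L^m)^k ≅ L^n ⊗ L'` for `n = r + m k` -/
theorem exists_iso_pow_tensor (hL : PicF.IsInvertible L) (hL' : PicF.IsInvertible L') (r m k n : ℕ)
    (hn : n = r + m * k) :
    Nonempty (CohB1.tensorMod (CohB1.tensorMod (CohB1.tensorPow L r) L')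
        (CohB1.tensorPow (CohB1.tensorPow L m) k) ≅ CohB1.tensorMod (CohB1.tensorPow L n) L') := by
  subst hn
  have hψ := exists_iso_of_homogeneous₂ L L' hL hL'
    (CohB1.tensorMod (CohB1.tensorMod (CohB1.tensorPow L r) L') (CohB1.tensorPow (CohB1.tensorPow L m) k))
    (CohB1.tensorMod (CohB1.tensorPow L (r + m * k)) L')
    (fun U g g' => tmulSec (CohB1.tensorMod (CohB1.tensorPow L r) L') (CohB1.tensorPow (CohB1.tensorPow L m) k)
      (tmulSec (CohB1.tensorPow L r) L' (gpow L g r) g') (gpow (CohB1.tensorPow L m) (gpow L g m) k))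
    (fun U g g' => tmulSec (CohB1.tensorPow L (r + m * k)) L' (gpow L g (r + m * k)) g')
    (fun U g g' hg hg' => isGen_tmulSec _ _ (isGen_tmulSec _ _ (isGen_gpow hg r) hg')
      (isGen_gpow (isGen_gpow hg m) k))
    (fun U g g' hg hg' => isGen_tmulSec _ _ (isGen_gpow hg _) hg') (r + m * k) 1
    (by
      intro U V h g g'
      rw [tmulSec_res, tmulSec_res, gpow_res, gpow_res, gpow_res])
    (by
      intro U V h g g'
      rw [tmulSec_res, gpow_res])
    (by
      intro U u u' g g'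
      simp only [gpow_smul, tmulSec_smul_left, tmulSec_smul_right, smul_smul, pow_one]
      congr 1
      ring)
    (by
      intro U u u' g g'
      simp only [gpow_smul, tmulSec_smul_left, tmulSec_smul_right, smul_smul, pow_one]
      congr 1
      ring)
  obtain ⟨ψ, -⟩ := hψ
  exact ⟨ψ⟩

/-- `L^(n+1) ⊗ L' ≅ L ⊗ (L^n ⊗ L')` -/
theorem exists_iso_succ_tensor (hL : PicF.IsInvertible L) (hL' : PicF.IsInvertible L') (n : ℕ) :
    Nonempty (CohB1.tensorMod (CohB1.tensorPow L (n + 1)) L' ≅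
      CohB1.tensorMod L (CohB1.tensorMod (CohB1.tensorPow L n) L')) := by
  have hψ := exists_iso_of_homogeneous₂ L L' hL hL'
    (CohB1.tensorMod (CohB1.tensorPow L (n + 1)) L')
    (CohB1.tensorMod L (CohB1.tensorMod (CohB1.tensorPow L n) L'))
    (fun U g g' => tmulSec (CohB1.tensorPow L (n + 1)) L' (gpow L g (n + 1)) g')
    (fun U g g' => tmulSec L (CohB1.tensorMod (CohB1.tensorPow L n) L') g
      (tmulSec (CohB1.tensorPow L n) L' (gpow L g n) g'))
    (fun U g g' hg hg' => isGen_tmulSec _ _ (isGen_gpow hg _) hg')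
    (fun U g g' hg hg' => isGen_tmulSec _ _ hg (isGen_tmulSec _ _ (isGen_gpow hg n) hg')) (n + 1) 1
    (by
      intro U V h g g'
      rw [tmulSec_res, gpow_res])
    (by
      intro U V h g g'
      rw [tmulSec_res, tmulSec_res, gpow_res])
    (by
      intro U u u' g g'
      simp only [gpow_smul, tmulSec_smul_left, tmulSec_smul_right, smul_smul, pow_one]
      congr 1
      ring)
    (by
      intro U u u' g g'
      simp only [gpow_smul, tmulSec_smul_left, tmulSec_smul_right, smul_smul, pow_one]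
      congr 1
      ring)
  obtain ⟨ψ, -⟩ := hψ
  exact ⟨ψ⟩

end Isos

/-- sections of `L^n ⊗ L'` generating over a chart `X_t`, for all large `n` -/
theorem exists_sections_of_chart [CompactSpace X] [QuasiSeparatedSpace X] {L L' : X.Modules}
    (hL : PicF.IsInvertible L) (hL' : PicF.IsInvertible L') (m : ℕ) (hm : 0 < m)
    (t : Coh.structureModule X ⟶ CohB1.tensorPow L m)
    (g : Γ(L, CohB1.genLocus _ t)) (g' : Γ(L', CohB1.genLocus _ t))
    (hg : IsGen L (CohB1.genLocus _ t) g) (hg' : IsGen L' (CohB1.genLocus _ t) g') :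
    ∃ N : ℕ, ∀ n : ℕ, N ≤ n → ∃ T : Coh.structureModule X ⟶ CohB1.tensorMod (CohB1.tensorPow L n) L',
      CohB1.genLocus _ t ≤ CohB1.genLocus _ T := by
  have hM := isInvertible_tensorPow hL m
  have key : ∃ k₁ : ℕ, ∀ r : Fin m, ∀ k : ℕ, k₁ ≤ k →
      ∃ T' : Coh.structureModule X ⟶ CohB1.tensorMod (CohB1.tensorMod (CohB1.tensorPow L r) L')
        (CohB1.tensorPow (CohB1.tensorPow L m) k), CohB1.genLocus _ t ≤ CohB1.genLocus _ T' := by
    refine exists_uniform (fun (r : Fin m) k₁ => ∀ k : ℕ, k₁ ≤ k →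
      ∃ T' : Coh.structureModule X ⟶ CohB1.tensorMod (CohB1.tensorMod (CohB1.tensorPow L r) L')
        (CohB1.tensorPow (CohB1.tensorPow L m) k), CohB1.genLocus _ t ≤ CohB1.genLocus _ T')
      (fun r k₁ h k hk => h k (Nat.le_of_succ_le hk)) ?_
    intro r
    have hF := isInvertible_tensorMod (isInvertible_tensorPow hL r) hL'
    obtain ⟨k₀, hk₀⟩ := exists_extension_tmul hF hM t (tmulSec (CohB1.tensorPow L r) L' (gpow L g r) g')
    refine ⟨k₀, fun k hk => ?_⟩
    obtain ⟨T', hT'⟩ := hk₀ k hk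
    refine ⟨T', le_genLocus_of_isGen_res T' _ ?_⟩
    rw [hT']
    exact isGen_tmulSec _ _ (isGen_tmulSec _ _ (isGen_gpow hg r) hg') (isGen_gpow (isGen_genLocus t) k)
  obtain ⟨k₁, hk₁⟩ := key
  refine ⟨m * k₁, fun n hn => ?_⟩
  have hk : k₁ ≤ n / m := (Nat.le_div_iff_mul_le hm).2 (by rw [mul_comm]; exact hn)
  obtain ⟨T', hT'⟩ := hk₁ ⟨n % m, Nat.mod_lt n hm⟩ (n / m) hk
  obtain ⟨ψ⟩ := exists_iso_pow_tensor hL hL' (n % m) m (n / m) n (Nat.mod_add_div n m).symm
  refine ⟨T' ≫ ψ.hom, ?_⟩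
  rw [genLocus_comp_iso _ ψ]
  exact hT'

/-- **for `L` ample and `L'` invertible, `L^n ⊗ L'` is ample and globally generated for all large `n`** -/
theorem exists_isAmple_isGloballyGenerated {L L' : X.Modules} (hA : CohB1.IsAmple L)
    (hL' : PicF.IsInvertible L') :
    ∃ n₀ : ℕ, 0 < n₀ ∧ ∀ n, n₀ ≤ n →
      CohB1.IsAmple (CohB1.tensorMod (CohB1.tensorPow L n) L') ∧
        Curv2.IsGloballyGenerated (CohB1.tensorMod (CohB1.tensorPow L n) L') := by
  haveI := hA.2.1
  haveI : X.IsSeparated := isSeparated_of_isAmple hA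
  have hL := hA.1
  -- good charts
  have h1 : ∀ x : X, ∃ (G : X.Opens) (N : ℕ), x ∈ G ∧ ∀ n : ℕ, N ≤ n →
      ∃ T : Coh.structureModule X ⟶ CohB1.tensorMod (CohB1.tensorPow L n) L', G ≤ CohB1.genLocus _ T := by
    intro x
    obtain ⟨W₁, g, hxW₁, hg⟩ := exists_isGen L hL x
    obtain ⟨W₂, g', hxW₂, hg'⟩ := exists_isGen L' hL' x
    obtain ⟨n, t, hxt, htW, -⟩ := exists_genLocus_le_of_isAmple hA (W₁ ⊓ W₂) x ⟨hxW₁, hxW₂⟩
    obtain ⟨N, hN⟩ := exists_sections_of_chart hL hL' (n + 1) (Nat.succ_pos n) t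
      (res L (htW.trans inf_le_left) g) (res L' (htW.trans inf_le_right) g') (hg.res _) (hg'.res _)
    exact ⟨_, N, hxt, hN⟩
  choose G N hxG hN using h1
  obtain ⟨S, hS⟩ := finite_cover_nhds (U := fun x => (G x : Set X)) (fun x => (G x).isOpen.mem_nhds (hxG x))
  have hcov : ∀ x : X, ∃ i : S, x ∈ G i.1 := by
    intro x
    have hx : x ∈ ⋃ y ∈ S, (G y : Set X) := by rw [hS]; trivial
    simp only [Set.mem_iUnion] at hx
    obtain ⟨y, hy, hxy⟩ := hx
    exact ⟨⟨y, hy⟩, hxy⟩
  obtain ⟨n₁, hn₁⟩ := exists_uniform (I := S) (fun i N' => ∀ n : ℕ, N' ≤ n →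
      ∃ T : Coh.structureModule X ⟶ CohB1.tensorMod (CohB1.tensorPow L n) L', G i.1 ≤ CohB1.genLocus _ T)
    (fun i k h n hn => h n (Nat.le_of_succ_le hn)) (fun i => ⟨N i.1, hN i.1⟩)
  have hsec : ∀ n : ℕ, n₁ ≤ n → ∀ x : X,
      ∃ T : Coh.structureModule X ⟶ CohB1.tensorMod (CohB1.tensorPow L n) L', x ∈ CohB1.genLocus _ T := by
    intro n hn x
    obtain ⟨i, hi⟩ := hcov x
    obtain ⟨T, hT⟩ := hn₁ i n hn
    exact ⟨T, hT hi⟩
  refine ⟨n₁ + 1, Nat.succ_pos _, fun n hn => ⟨?_, ?_⟩⟩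
  · obtain ⟨n', rfl⟩ := Nat.exists_eq_add_of_le' (Nat.succ_le_of_lt (Nat.lt_of_lt_of_le (Nat.lt_succ_self n₁) hn) |>.trans' (Nat.succ_le_succ (Nat.zero_le _)))
    have hn' : n₁ ≤ n' := Nat.le_of_succ_le_succ hn
    have hN' := isInvertible_tensorMod (isInvertible_tensorPow hL n') hL'
    obtain ⟨e⟩ := InvQC.nonempty_unit_tensor_iso (CohB1.tensorMod (CohB1.tensorPow L n') L')
    have hamp : CohB1.IsAmple (CohB1.tensorMod L (CohB1.tensorMod (CohB1.tensorPow L n') L')) := by
      refine isAmple_tensorMod_of_cover hA hN' fun x => ?_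
      obtain ⟨T, hT⟩ := hsec n' hn' x
      refine ⟨0, T ≫ e.inv, ?_⟩
      have := genLocus_comp_iso T e.symm
      exact this ▸ hT
    obtain ⟨ψ⟩ := exists_iso_succ_tensor hL hL' n'
    exact AmpleIso.isAmple_of_iso ψ.symm hamp
  · exact isGloballyGenerated_of_cover _ (hsec n (Nat.le_of_succ_le hn))

end Groth.Agent.Lib.Helper28.GenLocus
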