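import Groth.Agent.Lib.Helper28.AmpleBasis
import Groth.Agent.Lib.Helper28.RestrictGen

/-!
# Restriction of global sections to an open subscheme, and ampleness of restrictions
-/

set_option autoImplicit false
universe u
open CategoryTheory CategoryTheory.Limits AlgebraicGeometry Opposite TopologicalSpace
noncomputable section

namespace Groth.Agent.Lib.Helper28.GenLocus

open Groth.Agent.Lib.Helper28 Groth.Agent.Lib.Helper28.QCohLoc Groth.Agent.Lib.Helper28.TensorGen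
  Groth.Agent.Lib.Helper28.InvTensor Groth.Agent.Lib.Helper28.AmpleUnit Groth.Agent.Lib.Helper28.TwistAmple

variable {X : Scheme.{u}}

/-- the restriction of a global section to an open subscheme -/
def restrictSec {M : X.Modules} (U : X.Opens) (t : Coh.structureModule X ⟶ M) :
    Coh.structureModule (↑U : Scheme.{u}) ⟶ M.restrict U.ι :=
  TwistGen.ofSection (M.restrict U.ι)
    (show Γ(M.restrict U.ι, ⊤) from res M (le_top : U.ι ''ᵁ ⊤ ≤ ⊤) (secOf t))

theorem secOf_restrictSec {M : X.Modules} (U : X.Opens) (t : Coh.structureModule X ⟶ M) :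
    secOf (restrictSec U t) =
      (show Γ(M.restrict U.ι, ⊤) from res M (le_top : U.ι ''ᵁ ⊤ ≤ ⊤) (secOf t)) := secOf_ofSection _

theorem genLocus_restrictSec {M : X.Modules} (hM : PicF.IsInvertible M) (U : X.Opens)
    (t : Coh.structureModule X ⟶ M) :
    CohB1.genLocus _ (restrictSec U t) = U.ι ⁻¹ᵁ CohB1.genLocus M t := by
  ext y
  obtain ⟨W, g, hxW, hg⟩ := exists_isGen M hM (U.ι y)
  let V : (↑U : Scheme.{u}).Opens := U.ι ⁻¹ᵁ W
  have hyV : y ∈ V := hxW
  let γ : Γ(M, U.ι ''ᵁ V) := res M (U.ι.image_preimage_le W) g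
  have hγ : IsGen M (U.ι ''ᵁ V) γ := hg.res _
  have hγ' : IsGen (M.restrict U.ι) V (show Γ(M.restrict U.ι, V) from γ) := isGen_restrict_of_isGen M U γ hγ
  let r : Γ(X, U.ι ''ᵁ V) := hγ.coef le_rfl (res M le_top (secOf t))
  have hr : res M (le_top : U.ι ''ᵁ V ≤ ⊤) (secOf t) = (r • γ : Γ(M, U.ι ''ᵁ V)) := by
    have := hγ.coef_smul le_rfl (res M le_top (secOf t))
    rw [res_self] at this
    exact this.symm
  have h1 : CohB1.genLocus M t ⊓ U.ι ''ᵁ V = X.basicOpen r := genLocus_inf_eq t _ γ hγ r hr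
  let r' : Γ((↑U : Scheme.{u}), V) := (U.ι.appIso V).hom r
  have hr'r : (U.ι.appIso V).inv r' = r := by
    show (U.ι.appIso V).inv ((U.ι.appIso V).hom r) = r
    rw [← CommRingCat.comp_apply, Iso.hom_inv_id]; rfl
  have h2 : CohB1.genLocus _ (restrictSec U t) ⊓ V = (↑U : Scheme.{u}).basicOpen r' := by
    refine genLocus_inf_eq (restrictSec U t) V (show Γ(M.restrict U.ι, V) from γ) hγ' r' ?_
    rw [secOf_restrictSec, restrict_smul, hr'r, ← hr]
    exact res_res M _ _ _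
  have h3 : U.ι ''ᵁ ((↑U : Scheme.{u}).basicOpen r') = X.basicOpen r := by
    rw [Scheme.image_basicOpen, hr'r]
  show y ∈ CohB1.genLocus _ (restrictSec U t) ↔ U.ι y ∈ CohB1.genLocus M t
  have e1 : y ∈ CohB1.genLocus _ (restrictSec U t) ↔ y ∈ CohB1.genLocus _ (restrictSec U t) ⊓ V :=
    ⟨fun h => ⟨h, hyV⟩, fun h => h.1⟩
  have e2 : U.ι y ∈ CohB1.genLocus M t ↔ U.ι y ∈ CohB1.genLocus M t ⊓ U.ι ''ᵁ V :=
    ⟨fun h => ⟨h, ⟨y, hyV, rfl⟩⟩, fun h => h.1⟩
  rw [e1, e2, h1, h2, ← h3, Scheme.Hom.apply_mem_image_iff]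

/-- restriction of an ample module to a quasi-compact open subscheme is ample -/
theorem isAmple_restrict {L : X.Modules} (hA : CohB1.IsAmple L) (U : X.Opens) (hU : IsCompact (U : Set X)) :
    CohB1.IsAmple (L.restrict U.ι) := by
  have hL := hA.1
  have hLU := AmpleIso.isInvertible_restrict U.ι L hL
  refine ⟨hLU, isCompact_iff_compactSpace.1 hU, fun y => ?_⟩
  obtain ⟨n, t, hxt, htU, haff⟩ := exists_genLocus_le_of_isAmple hA U (U.ι y) y.2
  obtain ⟨e⟩ := exists_restrict_tensorPow_iso L U hLU (n + 1)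
  refine ⟨n, restrictSec U t ≫ e.hom, ?_⟩
  rw [genLocus_comp_iso _ e, genLocus_restrictSec (isInvertible_tensorPow hL (n + 1))]
  refine ⟨hxt, ?_⟩
  rw [← Scheme.Hom.isAffineOpen_iff_of_isOpenImmersion U.ι, Scheme.Hom.image_preimage_eq_opensRange_inf,
    Scheme.Opens.opensRange_ι, inf_eq_right.2 htU]
  exact haff

/-- if the restriction of `L` to the open subscheme `⊤` is ample, then `L` is ample -/
theorem isAmple_of_isAmple_restrict_of_eq_top {L : X.Modules} (U : X.Opens) (hU : U = ⊤)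
    (h : CohB1.IsAmple (L.restrict U.ι)) : CohB1.IsAmple L := by
  have hLU := h.1
  have hmem : ∀ x : X, x ∈ U := fun x => hU ▸ trivial
  have hL : PicF.IsInvertible L := by
    refine isInvertible_of_isGen L fun x => ?_
    obtain ⟨V', γ, hyV', hγ⟩ := exists_isGen (L.restrict U.ι) hLU ⟨x, hmem x⟩
    exact ⟨U.ι ''ᵁ V', γ, ⟨⟨x, hmem x⟩, hyV', rfl⟩, isGen_of_isGen_restrict L U γ hγ⟩
  have hc : CompactSpace X := by
    have h0 : CompactSpace (↑U : Scheme.{u}) := h.2.1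
    have h1 : IsCompact (U : Set X) := isCompact_iff_compactSpace.2 h0
    rw [hU] at h1
    exact isCompact_univ_iff.1 h1
  refine ⟨hL, hc, fun x => ?_⟩
  obtain ⟨n, s, hys, haff⟩ := h.2.2 ⟨x, hmem x⟩
  obtain ⟨e⟩ := exists_restrict_tensorPow_iso L U hLU (n + 1)
  let s₁ : Coh.structureModule (↑U : Scheme.{u}) ⟶ (CohB1.tensorPow L (n + 1)).restrict U.ι := s ≫ e.inv
  have hle : (⊤ : X.Opens) ≤ U.ι ''ᵁ ⊤ := by
    rw [Scheme.Opens.ι_image_top, hU]
  let z : Γ(CohB1.tensorPow L (n + 1), ⊤) :=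
    res (CohB1.tensorPow L (n + 1)) hle (show Γ(CohB1.tensorPow L (n + 1), U.ι ''ᵁ ⊤) from secOf s₁)
  let t : Coh.structureModule X ⟶ CohB1.tensorPow L (n + 1) := TwistGen.ofSection _ z
  have hts : restrictSec U t = s₁ := by
    rw [← ofSection_secOf s₁]
    unfold restrictSec
    congr 1
    show res (CohB1.tensorPow L (n + 1)) (le_top : U.ι ''ᵁ ⊤ ≤ ⊤) (secOf t) = _
    rw [secOf_ofSection]
    show res (CohB1.tensorPow L (n + 1)) (le_top : U.ι ''ᵁ ⊤ ≤ ⊤)
      (res (CohB1.tensorPow L (n + 1)) hle (show Γ(CohB1.tensorPow L (n + 1), U.ι ''ᵁ ⊤) from secOf s₁)) = _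
    rw [res_res, res_self]
  have hloc : CohB1.genLocus _ s = U.ι ⁻¹ᵁ CohB1.genLocus _ t := by
    rw [← genLocus_restrictSec (isInvertible_tensorPow hL (n + 1)) U t, hts]
    exact (genLocus_comp_iso s e.symm).symm
  refine ⟨n, t, ?_, ?_⟩
  · have : (⟨x, hmem x⟩ : (↑U : Scheme.{u})) ∈ U.ι ⁻¹ᵁ CohB1.genLocus _ t := hloc ▸ hys
    exact this
  · rw [hloc, ← Scheme.Hom.isAffineOpen_iff_of_isOpenImmersion U.ι, Scheme.Hom.image_preimage_eq_opensRange_inf,
      Scheme.Opens.opensRange_ι, hU, top_inf_eq] at haff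
    exact haff

end Groth.Agent.Lib.Helper28.GenLocus
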