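import Groth.Agent.Lib.Helper28.TwistIso
import Groth.Prelude.Def_Curv2

/-!
# Global generation of twists of quasi-coherent modules of finite type by powers of an ample module
-/

set_option autoImplicit false
universe u
open CategoryTheory CategoryTheory.Limits AlgebraicGeometry Opposite TopologicalSpace
noncomputable section

namespace Groth.Agent.Lib.Helper28.GenLocus

open Groth.Agent.Lib.Helper28 Groth.Agent.Lib.Helper28.QCohLoc Groth.Agent.Lib.Helper28.TensorGen
  Groth.Agent.Lib.Helper28.InvTensor Groth.Agent.Lib.Helper28.AmpleUnit Groth.Agent.Lib.Helper28.TwistAmple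
  Groth.Agent.Lib.Helper28.FinType

variable {X : Scheme.{u}}

/-- **extension of `t ⊗ s^K` from `X_s` to `X` for all large `K`** for a quasi-coherent module on a quasi-compact quasi-separated
scheme -/
theorem exists_extension_qcoh_ge [CompactSpace X] [QuasiSeparatedSpace X] {L : X.Modules}
    (hL : PicF.IsInvertible L) (s : Coh.structureModule X ⟶ L) (F : X.Modules) [F.IsQuasicoherent]
    (t : Γ(F, CohB1.genLocus L s)) :
    ∃ k₀ : ℕ, ∀ K : ℕ, k₀ ≤ K → ∃ t' : Γ(CohB1.tensorMod F (CohB1.tensorPow L K), ⊤),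
      res _ (le_top : CohB1.genLocus L s ≤ ⊤) t' =
        tmulSec F (CohB1.tensorPow L K) t (gpow L (res L le_top (secOf s)) K) := by
  classical
  obtain ⟨I, hI, U, g, hU, hg, hcov⟩ := exists_finite_charts L hL
  have hqs : ∀ i j, IsCompact ((U i ⊓ U j : X.Opens) : Set X) := fun i j =>
    QuasiSeparatedSpace.inter_isCompact _ _ (U i).isOpen (hU i).isCompact (U j).isOpen (hU j).isCompact
  let r : ∀ i, Γ(X, U i) := fun i => (hg i).coef le_rfl (res L le_top (secOf s))
  have hr : ∀ i, res L (le_top : U i ≤ ⊤) (secOf s) = (r i • g i : Γ(L, U i)) := fun i => by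
    have := (hg i).coef_smul le_rfl (res L le_top (secOf s))
    rw [res_self] at this
    exact this.symm
  have hD : ∀ i, CohB1.genLocus L s ⊓ U i = X.basicOpen (r i) := fun i =>
    genLocus_inf_eq s (U i) (g i) (hg i) (r i) (hr i)
  let c : ∀ i j, Γ(X, U i ⊓ U j) := fun i j => (hg j).coef inf_le_right (res L inf_le_left (g i))
  have hc : ∀ i j, res L (inf_le_left : U i ⊓ U j ≤ U i) (g i) =
      (c i j • res L inf_le_right (g j) : Γ(L, U i ⊓ U j)) := fun i j =>
    ((hg j).coef_smul inf_le_right _).symm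
  have hrc : ∀ i j, resO (inf_le_left : U i ⊓ U j ≤ U i) (r i) * c i j = resO inf_le_right (r j) := by
    intro i j
    apply ((hg j) _ inf_le_right).1
    show ((resO inf_le_left (r i) * c i j) • res L inf_le_right (g j) : Γ(L, U i ⊓ U j)) =
      (resO inf_le_right (r j) • res L inf_le_right (g j) : Γ(L, U i ⊓ U j))
    rw [mul_smul, ← hc, ← res_smul, ← res_smul, ← hr, ← hr, res_res, res_res]
  -- Step 1: numerators
  obtain ⟨k, hk⟩ := exists_uniform (fun i k => ∃ y : Γ(F, U i),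
      res F (inf_le_right : CohB1.genLocus L s ⊓ U i ≤ U i) y =
        (resO (inf_le_right : CohB1.genLocus L s ⊓ U i ≤ U i) (r i) ^ k •
          res F (inf_le_left : CohB1.genLocus L s ⊓ U i ≤ _) t : Γ(F, CohB1.genLocus L s ⊓ U i)))
    (by
      rintro i k ⟨y, hy⟩
      refine ⟨(r i • y : Γ(F, U i)), ?_⟩
      rw [res_smul, hy, ← mul_smul, pow_succ, mul_comm])
    (fun i => exists_pow_smul_eq_res' F (hU i) (r i) (hD i) inf_le_right _)
  choose y hy using hk
  -- Step 2: discrepancies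
  obtain ⟨n, hn⟩ := exists_uniform (fun (p : I × I) n =>
      (resO (inf_le_right : U p.1 ⊓ U p.2 ≤ U p.2) (r p.2) ^ n •
        ((c p.1 p.2 ^ k • res F (inf_le_left : U p.1 ⊓ U p.2 ≤ U p.1) (y p.1) : Γ(F, U p.1 ⊓ U p.2)) -
          res F (inf_le_right : U p.1 ⊓ U p.2 ≤ U p.2) (y p.2)) : Γ(F, U p.1 ⊓ U p.2)) = 0)
    (fun p n h => by rw [pow_succ, mul_comm, mul_smul, h, smul_zero])
    (by
      rintro ⟨i, j⟩
      have hW : CohB1.genLocus L s ⊓ (U i ⊓ U j) =
          X.basicOpen (resO (inf_le_right : U i ⊓ U j ≤ U j) (r j)) := by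
        rw [basicOpen_resO, ← hD j]
        apply le_antisymm
        · exact le_inf inf_le_right (le_inf inf_le_left (inf_le_right.trans inf_le_right))
        · exact le_inf (inf_le_right.trans inf_le_left) inf_le_left
      refine exists_pow_smul_eq_zero' F (hqs i j) _ _ hW inf_le_right ?_
      have hWi : CohB1.genLocus L s ⊓ (U i ⊓ U j) ≤ CohB1.genLocus L s ⊓ U i :=
        le_inf inf_le_left (inf_le_right.trans inf_le_left)
      have hWj : CohB1.genLocus L s ⊓ (U i ⊓ U j) ≤ CohB1.genLocus L s ⊓ U j :=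
        le_inf inf_le_left (inf_le_right.trans inf_le_right)
      have eyi := congrArg (res F hWi) (hy i)
      have eyj := congrArg (res F hWj) (hy j)
      have erc := congrArg (resO (inf_le_right : CohB1.genLocus L s ⊓ (U i ⊓ U j) ≤ U i ⊓ U j)) (hrc i j)
      rw [res_res, res_smul, resO_pow, resO_resO, res_res] at eyi eyj
      rw [resO_mul, resO_resO, resO_resO] at erc
      rw [res_sub, res_smul, resO_pow, res_res, res_res, eyi, eyj, ← erc, ← mul_smul, mul_pow,
        mul_comm, sub_self])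
  -- Step 3: local sections
  refine ⟨k + n, fun K hK => ?_⟩
  obtain ⟨n', rfl⟩ : ∃ n', K = k + n' := ⟨K - k, by omega⟩
  have hnn : n ≤ n' := by omega
  have hn' : ∀ p : I × I, (resO (inf_le_right : U p.1 ⊓ U p.2 ≤ U p.2) (r p.2) ^ n' •
        ((c p.1 p.2 ^ k • res F (inf_le_left : U p.1 ⊓ U p.2 ≤ U p.1) (y p.1) : Γ(F, U p.1 ⊓ U p.2)) -
          res F (inf_le_right : U p.1 ⊓ U p.2 ≤ U p.2) (y p.2)) : Γ(F, U p.1 ⊓ U p.2)) = 0 := by
    intro p
    obtain ⟨e, rfl⟩ := Nat.exists_eq_add_of_le hnn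
    rw [pow_add, mul_comm, mul_smul, hn p, smul_zero]
  let T' : ∀ i, Γ(CohB1.tensorMod F (CohB1.tensorPow L (k + n')), U i) := fun i =>
    tmulSec F (CohB1.tensorPow L (k + n')) (r i ^ n' • y i : Γ(F, U i)) (gpow L (g i) (k + n'))
  have hagree : ∀ i j, res _ (inf_le_left : U i ⊓ U j ≤ U i) (T' i) =
      res _ (inf_le_right : U i ⊓ U j ≤ U j) (T' j) := by
    intro i j
    show res _ (inf_le_left : U i ⊓ U j ≤ U i)
        (tmulSec F (CohB1.tensorPow L (k + n')) (r i ^ n' • y i : Γ(F, U i))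
          (gpow L (g i) (k + n'))) =
      res _ (inf_le_right : U i ⊓ U j ≤ U j)
        (tmulSec F (CohB1.tensorPow L (k + n')) (r j ^ n' • y j : Γ(F, U j))
          (gpow L (g j) (k + n')))
    rw [tmulSec_res, tmulSec_res, gpow_res, gpow_res, hc, gpow_smul, tmulSec_smul_right, ← tmulSec_smul_left,
      res_smul, res_smul, resO_pow, resO_pow]
    congr 1
    have h4 : (resO (inf_le_right : U i ⊓ U j ≤ U j) (r j) ^ n' •
        ((c i j ^ k • res F (inf_le_left : U i ⊓ U j ≤ U i) (y i) : Γ(F, U i ⊓ U j)) -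
          res F (inf_le_right : U i ⊓ U j ≤ U j) (y j)) : Γ(F, U i ⊓ U j)) = 0 := hn' (i, j)
    rw [smul_sub, sub_eq_zero] at h4
    rw [← h4, ← mul_smul, ← mul_smul, ← hrc i j]
    congr 1
    ring
  obtain ⟨z, hz⟩ := exists_gluing (CohB1.tensorMod F (CohB1.tensorPow L (k + n'))) U ⊤
    (fun i => le_top) (fun x _ => Opens.mem_iSup.2 (hcov x)) T' hagree
  refine ⟨z, ?_⟩
  refine eq_of_locally_eq (CohB1.tensorMod F (CohB1.tensorPow L (k + n')))
    (fun i => CohB1.genLocus L s ⊓ U i) _ (fun i => inf_le_left) (fun x hx => ?_) _ _ (fun i => ?_)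
  · obtain ⟨i, hi⟩ := hcov x
    exact Opens.mem_iSup.2 ⟨i, ⟨hx, hi⟩⟩
  · have e1 : res (CohB1.tensorMod F (CohB1.tensorPow L (k + n')))
        (inf_le_left : CohB1.genLocus L s ⊓ U i ≤ _) (res _ (le_top : CohB1.genLocus L s ≤ ⊤) z) =
        res _ (inf_le_right : CohB1.genLocus L s ⊓ U i ≤ U i) (T' i) := by
      rw [res_res, ← hz i, res_res]
    have e2 : res L (inf_le_left : CohB1.genLocus L s ⊓ U i ≤ _) (res L le_top (secOf s)) =
        (resO (inf_le_right : CohB1.genLocus L s ⊓ U i ≤ U i) (r i) •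
          res L (inf_le_right : CohB1.genLocus L s ⊓ U i ≤ U i) (g i) : Γ(L, CohB1.genLocus L s ⊓ U i)) := by
      rw [res_res, ← res_smul, ← hr, res_res]
    have eL : res (CohB1.tensorMod F (CohB1.tensorPow L (k + n')))
        (inf_le_right : CohB1.genLocus L s ⊓ U i ≤ U i) (T' i) =
        tmulSec F (CohB1.tensorPow L (k + n'))
          ((resO (inf_le_right : CohB1.genLocus L s ⊓ U i ≤ U i) (r i) ^ n' *
            resO (inf_le_right : CohB1.genLocus L s ⊓ U i ≤ U i) (r i) ^ k) •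
            res F (inf_le_left : CohB1.genLocus L s ⊓ U i ≤ _) t : Γ(F, CohB1.genLocus L s ⊓ U i))
          (gpow L (res L (inf_le_right : CohB1.genLocus L s ⊓ U i ≤ U i) (g i)) (k + n')) := by
      show res _ (inf_le_right : CohB1.genLocus L s ⊓ U i ≤ U i)
        (tmulSec F (CohB1.tensorPow L (k + n')) (r i ^ n' • y i : Γ(F, U i))
          (gpow L (g i) (k + n'))) = _
      rw [tmulSec_res, gpow_res, res_smul, resO_pow, hy i, ← mul_smul]
    rw [e1, eL, tmulSec_res, gpow_res, e2, gpow_smul, tmulSec_smul_right, ← tmulSec_smul_left]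
    congr 2
    ring


/-- `N` is generated by its global sections at the point `x` -/
def GGAt (N : X.Modules) (x : X) : Prop :=
  ∀ (U : X.Opens) (y : Γ(N, U)), x ∈ U → ∃ (V : X.Opens) (hV : V ≤ U), x ∈ V ∧
    res N hV y ∈ Submodule.span Γ(X, V) (Set.range fun T : Γ(N, ⊤) => res N (le_top : V ≤ ⊤) T)

theorem GGAt.of_iso {N N' : X.Modules} (ψ : N ≅ N') {x : X} (h : GGAt N x) : GGAt N' x := by
  intro U y hx
  obtain ⟨V, hV, hxV, hmem⟩ := h U (ψ.inv.app U y) hx
  refine ⟨V, hV, hxV, ?_⟩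
  have h0 : ψ.hom.app U (ψ.inv.app U y) = y := by
    have := congrArg (fun φ : N' ⟶ N' => φ.app U y) ψ.inv_hom_id
    exact this
  have h1 : ψ.hom.app V (res N hV (ψ.inv.app U y)) = res N' hV y := by
    rw [app_res, h0]
  rw [← h1]
  have h2 := Submodule.apply_mem_span_image_of_mem_span (appLin ψ.hom V) hmem
  refine Submodule.span_mono ?_ h2
  rintro _ ⟨_, ⟨T, rfl⟩, rfl⟩
  exact ⟨ψ.hom.app ⊤ T, (app_res ψ.hom le_top T).symm⟩

theorem isGloballyGenerated_of_ggAt (N : X.Modules) (h : ∀ x : X, GGAt N x) : Curv2.IsGloballyGenerated N := by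
  refine ⟨_, QCohLoc.fromFree N, ?_⟩
  apply epi_of_locally_in_range (G := (SheafOfModules.free (N.val.obj (op ⊤)) : X.Modules)) (F := N)
  intro U y pt hpt
  obtain ⟨V, hV, hptV, hmem⟩ := h pt U y hpt
  refine ⟨V, hV, hptV, ?_⟩
  refine Submodule.span_induction
    (p := fun z _ => ∃ y' : Γ((SheafOfModules.free (N.val.obj (op ⊤)) : X.Modules), V),
      Scheme.Modules.Hom.app (M := (SheafOfModules.free (N.val.obj (op ⊤)) : X.Modules)) (N := N)
        (QCohLoc.fromFree N) V y' = z) ?_ ?_ ?_ ?_ hmem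
  · rintro _ ⟨T, rfl⟩
    exact ⟨(SheafOfModules.freeSection (R := X.ringCatSheaf) T).1 (op V), fromFree_app N V T⟩
  · exact ⟨0, map_zero _⟩
  · rintro z z' _ _ ⟨a, rfl⟩ ⟨a', rfl⟩
    exact ⟨a + a', map_add _ _ _⟩
  · rintro c z _ ⟨a, rfl⟩
    exact ⟨(c • a : Γ((SheafOfModules.free (N.val.obj (op ⊤)) : X.Modules), V)),
      Scheme.Modules.Hom.app_smul _ _ _⟩

/-- **generation of `G ⊗ M^K` by global sections at the points of an affine `X_s`** -/
theorem exists_ggAt_of_affine [CompactSpace X] [QuasiSeparatedSpace X] {M : X.Modules} (hM : PicF.IsInvertible M)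
    (s : Coh.structureModule X ⟶ M) (hs : IsAffineOpen (CohB1.genLocus M s)) (G : X.Modules) [G.IsQuasicoherent]
    (hfin : Module.Finite Γ(X, CohB1.genLocus M s) Γ(G, CohB1.genLocus M s)) :
    ∃ k₀ : ℕ, ∀ K : ℕ, k₀ ≤ K → ∀ x : X, x ∈ CohB1.genLocus M s →
      GGAt (CohB1.tensorMod G (CohB1.tensorPow M K)) x := by
  classical
  obtain ⟨S, hS⟩ := Module.finite_def.1 hfin
  have h1 := fun t : Γ(G, CohB1.genLocus M s) => exists_extension_qcoh_ge hM s G t
  choose k₀ hk₀ using h1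
  refine ⟨S.sup k₀, fun K hK x hx => ?_⟩
  have hK' : ∀ t ∈ S, k₀ t ≤ K := fun t ht => (Finset.le_sup ht).trans hK
  have h2 : ∀ t : Γ(G, CohB1.genLocus M s), ∃ t' : Γ(CohB1.tensorMod G (CohB1.tensorPow M K), ⊤), t ∈ S →
      res _ (le_top : CohB1.genLocus M s ≤ ⊤) t' =
        tmulSec G (CohB1.tensorPow M K) t (gpow M (res M le_top (secOf s)) K) := by
    intro t
    by_cases ht : t ∈ S
    · obtain ⟨t', ht'⟩ := hk₀ t K (hK' t ht)
      exact ⟨t', fun _ => ht'⟩
    · exact ⟨0, fun h => absurd h ht⟩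
  choose t' ht' using h2
  intro U y hxU
  have hσ : IsGen M (CohB1.genLocus M s) (res M le_top (secOf s)) := isGen_genLocus s
  have hγ : IsGen (CohB1.tensorPow M K) (CohB1.genLocus M s) (gpow M (res M le_top (secOf s)) K) :=
    isGen_gpow hσ K
  generalize gpow M (res M le_top (secOf s)) K = γ at hγ ht'
  obtain ⟨a, ha⟩ := (tmulSec_right_bijective G (CohB1.tensorPow M K)
    (hγ.res (inf_le_right : U ⊓ CohB1.genLocus M s ≤ _))).2 (res _ inf_le_left y)
  obtain ⟨r, hrW, hxr⟩ := hs.exists_basicOpen_le (V := U ⊓ CohB1.genLocus M s) ⟨x, ⟨hxU, hx⟩⟩ hx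
  obtain ⟨n, b, hb⟩ := (isLocOn_of_isQuasicoherent G hs).surj r (res G hrW a)
  have hunit : IsUnit (resO (X.basicOpen_le r) r) := RingedSpace.isUnit_res_basicOpen _ r
  obtain ⟨u, hu⟩ := hunit.pow n
  have hVU : X.basicOpen r ≤ U := hrW.trans inf_le_left
  refine ⟨X.basicOpen r, hVU, hxr, ?_⟩
  have e1 : res _ hVU y = tmulSec G _ (res G hrW a) (res _ (X.basicOpen_le r) γ) := by
    have := congrArg (res _ hrW) ha
    rw [tmulSec_res, res_res, res_res] at this
    exact this.symm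
  have e2 : res G hrW a = ((↑u⁻¹ : Γ(X, X.basicOpen r)) • res G (X.basicOpen_le r) b : Γ(G, X.basicOpen r)) := by
    rw [← hb, ← hu, ← mul_smul, Units.inv_mul, one_smul]
  rw [e1, e2, tmulSec_smul_left]
  apply Submodule.smul_mem
  have hbS : b ∈ Submodule.span Γ(X, CohB1.genLocus M s) (S : Set Γ(G, CohB1.genLocus M s)) := by
    rw [hS]; trivial
  refine Submodule.span_induction
    (p := fun b _ => tmulSec G (CohB1.tensorPow M K) (res G (X.basicOpen_le r) b) (res _ (X.basicOpen_le r) γ) ∈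
      Submodule.span Γ(X, X.basicOpen r)
        (Set.range fun T : Γ(CohB1.tensorMod G (CohB1.tensorPow M K), ⊤) =>
          res _ (le_top : X.basicOpen r ≤ ⊤) T)) ?_ ?_ ?_ ?_ hbS
  · intro t ht
    apply Submodule.subset_span
    refine ⟨t' t, ?_⟩
    show res _ (le_top : X.basicOpen r ≤ ⊤) (t' t) = _
    rw [← res_res _ (le_top : CohB1.genLocus M s ≤ ⊤) (X.basicOpen_le r), ht' t ht, tmulSec_res]
  · rw [res_zero, tmulSec_zero_left]
    exact Submodule.zero_mem _
  · intro b b' _ _ hb hb'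
    rw [res_add, tmulSec_add_left]
    exact Submodule.add_mem _ hb hb'
  · intro c b _ hb
    rw [res_smul, tmulSec_smul_left]
    exact Submodule.smul_mem _ _ hb

/-- **Serre's theorem (global generation)**: for `L` ample and `F` quasi-coherent of finite type on a quasi-compact
quasi-separated scheme, `F ⊗ L^n` is generated by its global sections for all large `n` -/
theorem exists_forall_isGloballyGenerated [QuasiSeparatedSpace X] {L : X.Modules}
    (hL : CohB1.IsAmple L) (F : X.Modules) (hF : Coh.IsCoh F) :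
    ∃ n₀ : ℕ, ∀ n : ℕ, n₀ ≤ n → Curv2.IsGloballyGenerated (CohB1.tensorMod F (CohB1.tensorPow L n)) := by
  classical
  haveI : F.IsQuasicoherent := hF.1
  haveI : SheafOfModules.IsFiniteType.{u} (R := X.ringCatSheaf) F := hF.2
  obtain ⟨hinv, hcomp, hpts⟩ := hL
  haveI := hcomp
  choose m s hxs haff using hpts
  obtain ⟨T, hT⟩ := finite_cover_nhds (U := fun x => (CohB1.genLocus _ (s x) : Set X))
    (fun x => (CohB1.genLocus _ (s x)).isOpen.mem_nhds (hxs x))
  have h2 : ∀ (p : X) (r : ℕ), ∃ k₀ : ℕ, ∀ K : ℕ, k₀ ≤ K → ∀ x : X, x ∈ CohB1.genLocus _ (s p) →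
      GGAt (CohB1.tensorMod (CohB1.tensorMod F (CohB1.tensorPow L r))
        (CohB1.tensorPow (CohB1.tensorPow L (m p + 1)) K)) x := by
    intro p r
    have htw := (IsTwist.refl F L).tensorPow r
    haveI := htw.isQuasicoherent hinv
    haveI := htw.isFiniteType hinv
    exact exists_ggAt_of_affine (isInvertible_tensorPow hinv (m p + 1)) (s p) (haff p) _
      (finite_of_isAffineOpen (CohB1.tensorMod F (CohB1.tensorPow L r)) (haff p))
  choose k₀ hk₀ using h2
  refine ⟨T.sup (fun p => (m p + 1) * ((Finset.range (m p + 1)).sup (k₀ p) + 1)), fun n hn => ?_⟩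
  apply isGloballyGenerated_of_ggAt
  intro x
  obtain ⟨p, hpT, hxp⟩ : ∃ p ∈ T, x ∈ CohB1.genLocus _ (s p) := by
    have : x ∈ ⋃ y ∈ T, (CohB1.genLocus _ (s y) : Set X) := by rw [hT]; trivial
    simp only [Set.mem_iUnion] at this
    obtain ⟨y, hy, hxy⟩ := this
    exact ⟨y, hy, hxy⟩
  have hn1 : (m p + 1) * ((Finset.range (m p + 1)).sup (k₀ p) + 1) ≤ n :=
    (Finset.le_sup (f := fun p => (m p + 1) * ((Finset.range (m p + 1)).sup (k₀ p) + 1)) hpT).trans hn
  have hK : k₀ p (n % (m p + 1)) ≤ n / (m p + 1) := by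
    have h3 : k₀ p (n % (m p + 1)) ≤ (Finset.range (m p + 1)).sup (k₀ p) :=
      Finset.le_sup (f := k₀ p) (Finset.mem_range.2 (Nat.mod_lt _ (Nat.succ_pos _)))
    have h4 : (Finset.range (m p + 1)).sup (k₀ p) + 1 ≤ n / (m p + 1) := by
      rw [Nat.le_div_iff_mul_le (Nat.succ_pos _), mul_comm]
      exact hn1
    omega
  have hgg := hk₀ p (n % (m p + 1)) (n / (m p + 1)) hK x hxp
  have tw1 := ((IsTwist.refl F L).tensorPow (n % (m p + 1))).tensorPowPow (m p + 1) (n / (m p + 1))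
  have tw2 := (IsTwist.refl F L).tensorPow n
  have hdeg : 0 + n % (m p + 1) + (m p + 1) * (n / (m p + 1)) = 0 + n := by
    rw [zero_add, zero_add]
    exact Nat.mod_add_div n (m p + 1)
  obtain ⟨ψ, -⟩ := (tw1.congr_deg hdeg).exists_iso tw2 hinv
  exact hgg.of_iso ψ

end Groth.Agent.Lib.Helper28.GenLocus
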