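import Groth.Agent.Lib.Helper28.PullbackAmple2
import Groth.Agent.Lib.Helper28.RestrictAmple
import Groth.Agent.Lib.Helper28.TwistGG

set_option autoImplicit false
universe u
open CategoryTheory CategoryTheory.Limits AlgebraicGeometry Opposite TopologicalSpace
noncomputable section

namespace Groth.Agent.Lib.Helper28.AmpleLocal

open Groth.Agent.Lib.Helper28 Groth.Agent.Lib.Helper28.QCohLoc Groth.Agent.Lib.Helper28.GenLocus
  Groth.Agent.Lib.Helper28.PullbackInv Groth.Agent.Lib.Helper28.TensorGen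

variable {X : Scheme.{u}}

/-- restriction along `j₁ = h ≫ j₂` is the inverse image along `h` of the restriction along `j₂` -/
def restrictCompIso {W W' : Scheme.{u}} (j₁ : W ⟶ X) (j₂ : W' ⟶ X) [IsOpenImmersion j₁] [IsOpenImmersion j₂]
    (h : W ⟶ W') (hh : h ≫ j₂ = j₁) :
    Scheme.Modules.restrictFunctor j₁ ≅ Scheme.Modules.restrictFunctor j₂ ⋙ Scheme.Modules.pullback h :=
  Scheme.Modules.restrictFunctorIsoPullback j₁ ≪≫ Scheme.Modules.pullbackCongr hh.symm ≪≫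
    (Scheme.Modules.pullbackComp h j₂).symm ≪≫
    Functor.isoWhiskerRight (Scheme.Modules.restrictFunctorIsoPullback j₂).symm _

/-- ampleness passes to smaller (quasi-compact) open immersions -/
theorem isAmple_restrict_of_factor {W W' : Scheme.{u}} (j₁ : W ⟶ X) (j₂ : W' ⟶ X) [IsOpenImmersion j₁]
    [IsOpenImmersion j₂] [CompactSpace W] (h : W ⟶ W') (hh : h ≫ j₂ = j₁) (L : X.Modules)
    (hA : CohB1.IsAmple (L.restrict j₂)) : CohB1.IsAmple (L.restrict j₁) := by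
  have : IsOpenImmersion h := by
    have : IsOpenImmersion (h ≫ j₂) := hh ▸ inferInstance
    exact IsOpenImmersion.of_comp h j₂
  have hemb : Topology.IsEmbedding h := h.isOpenEmbedding.isEmbedding
  have h2 := isAmple_pullback_of_isEmbedding h hemb _ hA
  exact AmpleIso.isAmple_of_iso ((restrictCompIso j₁ j₂ h hh).app L).symm h2

/-- `X_{c τ} = X_c ∩ X_τ` -/
theorem genLocus_ofSection_smul {N : X.Modules} (hN : PicF.IsInvertible N)
    (τ : Coh.structureModule X ⟶ N) (c : Γ(X, ⊤)) :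
    CohB1.genLocus N (TwistGen.ofSection N (c • secOf τ : Γ(N, ⊤))) =
      X.basicOpen c ⊓ CohB1.genLocus N τ := by
  ext x
  obtain ⟨W, g, hxW, hg⟩ := exists_isGen N hN x
  let r : Γ(X, W) := hg.coef le_rfl (res N le_top (secOf τ))
  have hr : res N (le_top : W ≤ ⊤) (secOf τ) = (r • g : Γ(N, W)) := by
    have := hg.coef_smul le_rfl (res N le_top (secOf τ))
    rw [res_self] at this
    exact this.symm
  have h1 : CohB1.genLocus N τ ⊓ W = X.basicOpen r := genLocus_inf_eq τ W g hg r hr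
  have h2 : CohB1.genLocus N (TwistGen.ofSection N (c • secOf τ : Γ(N, ⊤))) ⊓ W =
      X.basicOpen (resO (le_top : W ≤ ⊤) c * r) := by
    refine genLocus_inf_eq _ W g hg _ ?_
    rw [secOf_ofSection, res_smul, hr, mul_smul]
  have e1 : x ∈ CohB1.genLocus N (TwistGen.ofSection N (c • secOf τ : Γ(N, ⊤))) ↔
      x ∈ CohB1.genLocus N (TwistGen.ofSection N (c • secOf τ : Γ(N, ⊤))) ⊓ W :=
    ⟨fun h => ⟨h, hxW⟩, fun h => h.1⟩
  have e2 : x ∈ CohB1.genLocus N τ ↔ x ∈ CohB1.genLocus N τ ⊓ W := ⟨fun h => ⟨h, hxW⟩, fun h => h.1⟩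
  show x ∈ CohB1.genLocus N (TwistGen.ofSection N (c • secOf τ : Γ(N, ⊤))) ↔
    x ∈ X.basicOpen c ∧ x ∈ CohB1.genLocus N τ
  rw [e1, e2, h1, h2, Scheme.basicOpen_mul, basicOpen_resO]
  exact ⟨fun h => ⟨h.1.2, h.2⟩, fun h => ⟨⟨hxW, h.1⟩, h.2⟩⟩

/-- a section of the structure module, as a function -/
def fnOf {W : X.Opens} (g : Γ(Coh.structureModule X, W)) : Γ(X, W) := g

theorem fnOf_res {W W' : X.Opens} (h : W' ≤ W) (g : Γ(Coh.structureModule X, W)) :
    fnOf (res (Coh.structureModule X) h g) = resO h (fnOf g) := rfl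

theorem fnOf_smul {W : X.Opens} (c : Γ(X, W)) (g : Γ(Coh.structureModule X, W)) :
    fnOf (c • g : Γ(Coh.structureModule X, W)) = c * fnOf g := rfl

theorem isUnit_fnOf {W : X.Opens} {g : Γ(Coh.structureModule X, W)} (hg : IsGen (Coh.structureModule X) W g) :
    IsUnit (fnOf g) := by
  obtain ⟨c, hc⟩ := (hg W le_rfl).2 (show Γ(Coh.structureModule X, W) from (1 : Γ(X, W)))
  rw [res_self] at hc
  have h1 : c * fnOf g = 1 := hc
  exact IsUnit.of_mul_eq_one_right c h1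

/-- the trivial twist by powers of the structure module -/
theorem isTwist_unit (F : X.Modules) (K : ℕ) :
    IsTwist F (Coh.structureModule X) (0 + K) F (fun W g x => ((fnOf g) ^ K • x : Γ(F, W))) where
  bij W g hg := by
    obtain ⟨u, hu⟩ := (isUnit_fnOf hg).pow K
    refine Function.bijective_iff_has_inverse.2 ⟨fun y => ((↑u⁻¹ : Γ(X, W)) • y : Γ(F, W)), fun x => ?_, fun y => ?_⟩
    · show ((↑u⁻¹ : Γ(X, W)) • ((fnOf g) ^ K • x : Γ(F, W)) : Γ(F, W)) = x
      rw [← hu, ← mul_smul, Units.inv_mul, one_smul]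
    · show ((fnOf g) ^ K • ((↑u⁻¹ : Γ(X, W)) • y : Γ(F, W)) : Γ(F, W)) = y
      rw [← hu, ← mul_smul, Units.mul_inv, one_smul]
  add W g x y := smul_add _ x y
  smul W g a x := smul_comm _ a x
  res W W' h g x := by
    show res F h ((fnOf g) ^ K • x : Γ(F, W)) = _
    rw [res_smul, fnOf_res, resO_pow]
  hom W c g x := by
    show ((fnOf (c • g : Γ(Coh.structureModule X, W))) ^ K • x : Γ(F, W)) = _
    rw [fnOf_smul, mul_pow, mul_smul, zero_add]

/-- **extension of `a^k σ` from `X_a` to `X`** for sections of a quasi-coherent module on a qcqs scheme -/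
theorem exists_extension_fn [CompactSpace X] [QuasiSeparatedSpace X] (F : X.Modules) [F.IsQuasicoherent]
    (a : Γ(X, ⊤)) (σ : Γ(F, X.basicOpen a)) :
    ∃ (k : ℕ) (t : Γ(F, ⊤)),
      res F (le_top : X.basicOpen a ≤ ⊤) t =
        ((resO (le_top : X.basicOpen a ≤ ⊤) a) ^ k • σ : Γ(F, X.basicOpen a)) := by
  let O := Coh.structureModule X
  let a' : Γ(O, ⊤) := a
  let α : O ⟶ O := TwistGen.ofSection O a'
  have hsec : secOf α = a' := secOf_ofSection _
  have hα : CohB1.genLocus O α = X.basicOpen a := by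
    rw [AmpleUnit.genLocus_unit]
    congr 1
  have hO := AmpleUnit.isInvertible_structureModule X
  let σ' : Γ(F, CohB1.genLocus O α) := res F (le_of_eq hα) σ
  obtain ⟨k₀, hk⟩ := exists_extension_qcoh_ge hO α F σ'
  obtain ⟨t', ht'⟩ := hk k₀ le_rfl
  obtain ⟨ψ, hψ⟩ := IsTwist.exists_iso ((IsTwist.refl F O).tensorPow k₀) (isTwist_unit F k₀) hO
  refine ⟨k₀, ψ.hom.app ⊤ t', ?_⟩
  have key : res F (le_top : CohB1.genLocus O α ≤ ⊤) (ψ.hom.app ⊤ t') =
      ((fnOf (res O (le_top : CohB1.genLocus O α ≤ ⊤) (secOf α))) ^ k₀ • σ' : Γ(F, CohB1.genLocus O α)) := by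
    rw [← app_res, ht']
    exact hψ _ _ (isGen_genLocus α) σ'
  have h1 : res F (le_top : X.basicOpen a ≤ ⊤) (ψ.hom.app ⊤ t') =
      res F (le_of_eq hα.symm) (res F (le_top : CohB1.genLocus O α ≤ ⊤) (ψ.hom.app ⊤ t')) := by
    rw [res_res]
  rw [h1, key, res_smul, resO_pow, res_res, res_self, hsec, fnOf_res, resO_resO]
  rfl

/-- a section of `M|_U` over `V`, as a section of `M` over the image of `V` -/
def upSec (M : X.Modules) (U : X.Opens) {V : (↑U : Scheme.{u}).Opens} (γ : Γ(M.restrict U.ι, V)) :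
    Γ(M, U.ι ''ᵁ V) := γ

/-- a section of `M` over the image of `V`, as a section of `M|_U` over `V` -/
def downSec (M : X.Modules) (U : X.Opens) {V : (↑U : Scheme.{u}).Opens} (γ : Γ(M, U.ι ''ᵁ V)) :
    Γ(M.restrict U.ι, V) := γ

theorem res_injective_of_le (M : X.Modules) {U V : X.Opens} (h : V ≤ U) (h' : U ≤ V) :
    Function.Injective (res M h) := by
  intro x y hxy
  have := congr_arg (res M h') hxy
  rwa [res_res, res_res, res_self, res_self] at this

/-- a quasi-compact scheme covered by quasi-separated opens of the form `X_a` is quasi-separated -/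
theorem quasiSeparatedSpace_of_basicOpen_cover {ι : Type*} (a : ι → Γ(X, ⊤))
    (hcov : ∀ x : X, ∃ i, x ∈ X.basicOpen (a i))
    (hqs : ∀ i, QuasiSeparatedSpace ((X.basicOpen (a i) : X.Opens) : Scheme.{u})) : QuasiSeparatedSpace X := by
  classical
  rw [quasiSeparatedSpace_iff_forall_affineOpens]
  intro P Q
  obtain ⟨T, hT⟩ := P.2.isCompact.elim_finite_subcover (fun i => ((X.basicOpen (a i) : X.Opens) : Set X))
    (fun i => (X.basicOpen (a i)).isOpen) (fun x _ => Set.mem_iUnion.2 (hcov x))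
  have hPQ : ((P : X.Opens) ∩ (Q : X.Opens) : Set X) =
      ⋃ i ∈ T, ((((P : X.Opens) ⊓ X.basicOpen (a i) : X.Opens) : Set X) ∩
        (((Q : X.Opens) ⊓ X.basicOpen (a i) : X.Opens) : Set X)) := by
    ext x
    simp only [Set.mem_inter_iff, Set.mem_iUnion, SetLike.mem_coe, Opens.mem_inf, exists_prop]
    constructor
    · rintro ⟨hP, hQ⟩
      obtain ⟨i, hi, hxi⟩ : ∃ i ∈ T, x ∈ X.basicOpen (a i) := by
        have := hT hP
        simpa only [Set.mem_iUnion, exists_prop, SetLike.mem_coe] using this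
      exact ⟨i, hi, ⟨hP, hxi⟩, ⟨hQ, hxi⟩⟩
    · rintro ⟨i, -, ⟨hP, -⟩, ⟨hQ, -⟩⟩
      exact ⟨hP, hQ⟩
  rw [hPQ]
  refine T.isCompact_biUnion fun i _ => ?_
  have hB : IsQuasiSeparated ((X.basicOpen (a i) : X.Opens) : Set X) :=
    (isQuasiSeparated_iff_quasiSeparatedSpace _ (X.basicOpen (a i)).isOpen).2 (hqs i)
  have hc : ∀ R : X.affineOpens, IsCompact ((((R : X.Opens) ⊓ X.basicOpen (a i) : X.Opens)) : Set X) := by
    intro R
    have h1 := (R.2.basicOpen (resO (le_top : (R : X.Opens) ≤ ⊤) (a i))).isCompact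
    rwa [basicOpen_resO] at h1
  exact hB _ _ (fun x hx => hx.2) (Opens.isOpen _) (hc P) (fun x hx => hx.2) (Opens.isOpen _) (hc Q)

/-- **ampleness is local for covers by basic opens of global functions** -/
theorem isAmple_of_basicOpen_cover [CompactSpace X] (L : X.Modules)
    {ι : Type*} (a : ι → Γ(X, ⊤)) (hcov : ∀ x : X, ∃ i, x ∈ X.basicOpen (a i))
    (hA : ∀ i, CohB1.IsAmple (L.restrict (X.basicOpen (a i)).ι)) : CohB1.IsAmple L := by
  have : QuasiSeparatedSpace X := by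
    refine quasiSeparatedSpace_of_basicOpen_cover a hcov fun i => ?_
    have : ((X.basicOpen (a i) : X.Opens) : Scheme.{u}).IsSeparated := isSeparated_of_isAmple (hA i)
    infer_instance
  have hL : PicF.IsInvertible L := by
    refine isInvertible_of_isGen L fun x => ?_
    obtain ⟨i, hx⟩ := hcov x
    obtain ⟨V', γ, hyV', hγ⟩ := exists_isGen (L.restrict (X.basicOpen (a i)).ι) (hA i).1 ⟨x, hx⟩
    exact ⟨(X.basicOpen (a i)).ι ''ᵁ V', γ, ⟨⟨x, hx⟩, hyV', rfl⟩, isGen_of_isGen_restrict L _ γ hγ⟩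
  refine ⟨hL, inferInstance, fun x => ?_⟩
  obtain ⟨i, hx⟩ := hcov x
  obtain ⟨U, hU⟩ : ∃ U : X.Opens, U = X.basicOpen (a i) := ⟨_, rfl⟩
  have hA' : CohB1.IsAmple (L.restrict U.ι) := by rw [hU]; exact hA i
  have hxU : x ∈ U := by rw [hU]; exact hx
  have hLU := hA'.1
  obtain ⟨n, s, hys, haff⟩ := hA'.2.2 ⟨x, hxU⟩
  obtain ⟨e⟩ := exists_restrict_tensorPow_iso L U hLU (n + 1)
  let N := CohB1.tensorPow L (n + 1)
  have hN : PicF.IsInvertible N := isInvertible_tensorPow hL (n + 1)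
  have : N.IsQuasicoherent := InvQC.isQuasicoherent_of_isInvertible N hN
  let s₁ : Coh.structureModule (↑U : Scheme.{u}) ⟶ N.restrict U.ι := s ≫ e.inv
  have hs₁ : CohB1.genLocus _ s₁ = CohB1.genLocus _ s := AmpleUnit.genLocus_comp_iso s e.symm
  let σ₀ : Γ(N, U.ι ''ᵁ ⊤) := upSec N U (secOf s₁)
  have hle : X.basicOpen (a i) ≤ U.ι ''ᵁ ⊤ := by rw [Scheme.Opens.ι_image_top, hU]
  have hle' : U.ι ''ᵁ ⊤ ≤ X.basicOpen (a i) := by rw [Scheme.Opens.ι_image_top, hU]
  obtain ⟨k, t, ht⟩ := exists_extension_fn N (a i) (res N hle σ₀)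
  let τ : Coh.structureModule X ⟶ N := TwistGen.ofSection N t
  let τ' : Coh.structureModule X ⟶ N := TwistGen.ofSection N (a i • secOf τ : Γ(N, ⊤))
  have hτ' : CohB1.genLocus N τ' = X.basicOpen (a i) ⊓ CohB1.genLocus N τ := genLocus_ofSection_smul hN τ (a i)
  -- the restriction of `τ'` to `U`
  let c₀ : Γ(X, U.ι ''ᵁ ⊤) := resO le_top (a i) ^ (k + 1)
  let c : Γ((↑U : Scheme.{u}), ⊤) := (U.ι.appIso ⊤).hom c₀
  have hc₀ : (U.ι.appIso ⊤).inv c = c₀ := by
    show (U.ι.appIso ⊤).inv ((U.ι.appIso ⊤).hom c₀) = c₀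
    rw [← CommRingCat.comp_apply, Iso.hom_inv_id]; rfl
  have hunit₀ : IsUnit c₀ := by
    refine IsUnit.pow _ ?_
    have h1 : IsUnit (resO (X.basicOpen_le (a i)) (a i)) := X.toRingedSpace.isUnit_res_basicOpen (a i)
    have h2 : resO (le_top : U.ι ''ᵁ ⊤ ≤ ⊤) (a i) = resO hle' (resO (X.basicOpen_le (a i)) (a i)) := by
      rw [resO_resO]
    rw [h2]
    exact h1.map (X.presheaf.map (homOfLE hle').op).hom
  have hunit : IsUnit c := hunit₀.map (U.ι.appIso ⊤).hom.hom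
  have hres : res N (le_top : U.ι ''ᵁ ⊤ ≤ ⊤) (secOf τ') = (c₀ • σ₀ : Γ(N, U.ι ''ᵁ ⊤)) := by
    apply res_injective_of_le N hle hle'
    rw [res_res, secOf_ofSection, res_smul, secOf_ofSection, ht, res_smul, ← mul_smul, resO_pow, resO_resO,
      pow_succ']
  have hrs : restrictSec U τ' =
      TwistGen.ofSection (N.restrict U.ι) (c • secOf s₁ : Γ(N.restrict U.ι, ⊤)) := by
    unfold restrictSec
    congr 1
    rw [restrict_smul, hc₀]
    exact hres
  have h3 : CohB1.genLocus _ (restrictSec U τ') = CohB1.genLocus _ s₁ := by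
    rw [hrs, genLocus_ofSection_smul (AmpleIso.isInvertible_restrict U.ι N hN) s₁ c,
      Scheme.basicOpen_of_isUnit _ hunit, top_inf_eq]
  have h4 : U.ι ⁻¹ᵁ CohB1.genLocus N τ' = CohB1.genLocus _ s := by
    rw [← genLocus_restrictSec hN U τ', h3, hs₁]
  have h5 : CohB1.genLocus N τ' ≤ U := by rw [hτ', hU]; exact inf_le_left
  have h6 : CohB1.genLocus N τ' = U.ι ''ᵁ CohB1.genLocus _ s := by
    rw [← h4, Scheme.Hom.image_preimage_eq_opensRange_inf, Scheme.Opens.opensRange_ι, inf_eq_right.2 h5]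
  refine ⟨n, τ', ?_, ?_⟩
  · rw [h6]; exact ⟨⟨x, hxU⟩, hys, rfl⟩
  · rw [h6]; exact haff.image_of_isOpenImmersion U.ι

/-- ampleness of restrictions along open immersions only depends on the range, and passes to smaller ranges -/
theorem isAmple_restrict_of_range_subset {W W' : Scheme.{u}} (j₁ : W ⟶ X) (j₂ : W' ⟶ X) [IsOpenImmersion j₁]
    [IsOpenImmersion j₂] [CompactSpace W] (H : Set.range j₁ ⊆ Set.range j₂) (L : X.Modules)
    (hA : CohB1.IsAmple (L.restrict j₂)) : CohB1.IsAmple (L.restrict j₁) :=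
  isAmple_restrict_of_factor j₁ j₂ (IsOpenImmersion.lift j₂ j₁ H) (IsOpenImmersion.lift_fac j₂ j₁ H) L hA

theorem isAmple_restrict_restrict_iff {W W' : Scheme.{u}} (j₁ : W ⟶ W') (j₂ : W' ⟶ X) [IsOpenImmersion j₁]
    [IsOpenImmersion j₂] (L : X.Modules) :
    CohB1.IsAmple ((L.restrict j₂).restrict j₁) ↔ CohB1.IsAmple (L.restrict (j₁ ≫ j₂)) :=
  ⟨AmpleIso.isAmple_of_iso ((Scheme.Modules.restrictFunctorComp j₁ j₂).app L).symm,
    AmpleIso.isAmple_of_iso ((Scheme.Modules.restrictFunctorComp j₁ j₂).app L)⟩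

theorem range_ι_comp_ι (A : X.Opens) (B : (↑A : Scheme.{u}).Opens) :
    Set.range (B.ι ≫ A.ι) = ((A.ι ''ᵁ B : X.Opens) : Set X) := by
  ext x
  constructor
  · rintro ⟨z, rfl⟩
    exact ⟨z.1, z.2, rfl⟩
  · rintro ⟨z, hz, rfl⟩
    exact ⟨⟨z, hz⟩, rfl⟩

/-- ampleness over an affine open is local on that affine open -/
theorem isAmple_restrict_preimage_of_local {Y : Scheme.{u}} (f : X ⟶ Y) [QuasiCompact f] (L : X.Modules)
    (V : Y.Opens) (hV : IsAffineOpen V)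
    (h : ∀ y ∈ V, ∃ b : Γ(Y, V), y ∈ Y.basicOpen b ∧
      CohB1.IsAmple (L.restrict (f ⁻¹ᵁ (Y.basicOpen b)).ι)) :
    CohB1.IsAmple (L.restrict (f ⁻¹ᵁ V).ι) := by
  choose b hyb hAb using h
  have hmem : ∀ z : (f ⁻¹ᵁ V : X.Opens), f z.1 ∈ V := fun z => z.2
  have : CompactSpace ((f ⁻¹ᵁ V : X.Opens) : Scheme.{u}) :=
    isCompact_iff_compactSpace.mp (QuasiCompact.isCompact_preimage (f := f) _ V.isOpen hV.isCompact)
  let r : (f ⁻¹ᵁ V : X.Opens) → Γ(X, f ⁻¹ᵁ V) := fun z => f.app V (b (f z.1) (hmem z))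
  let a : (f ⁻¹ᵁ V : X.Opens) → Γ(((f ⁻¹ᵁ V : X.Opens) : Scheme.{u}), ⊤) := fun z => (f ⁻¹ᵁ V).topIso.inv (r z)
  have himg : ∀ z : (f ⁻¹ᵁ V : X.Opens), (f ⁻¹ᵁ V).ι ''ᵁ ((f ⁻¹ᵁ V : X.Opens) : Scheme.{u}).basicOpen (a z) =
      f ⁻¹ᵁ (Y.basicOpen (b (f z.1) (hmem z))) := by
    intro z
    rw [Scheme.Opens.ι_image_basicOpen_topIso_inv, Scheme.preimage_basicOpen]
  refine isAmple_of_basicOpen_cover (L.restrict (f ⁻¹ᵁ V).ι) a (fun z => ⟨z, ?_⟩) (fun z => ?_)
  · have h1 : (f ⁻¹ᵁ V).ι z ∈ (f ⁻¹ᵁ V).ι ''ᵁ ((f ⁻¹ᵁ V : X.Opens) : Scheme.{u}).basicOpen (a z) := by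
      rw [himg]; exact hyb _ _
    exact (Scheme.Hom.apply_mem_image_iff _).1 h1
  · rw [isAmple_restrict_restrict_iff]
    have hAz := hAb (f z.1) (hmem z)
    have : CompactSpace ((((f ⁻¹ᵁ V : X.Opens) : Scheme.{u}).basicOpen (a z) :
        ((f ⁻¹ᵁ V : X.Opens) : Scheme.{u}).Opens) : Scheme.{u}) := by
      apply isCompact_iff_compactSpace.mp
      rw [(f ⁻¹ᵁ V).ι.isOpenEmbedding.isEmbedding.isCompact_iff]
      have h2 : IsCompact ((f ⁻¹ᵁ (Y.basicOpen (b (f z.1) (hmem z))) : X.Opens) : Set X) :=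
        isCompact_iff_compactSpace.mpr hAz.2.1
      rw [← himg] at h2
      exact h2
    refine isAmple_restrict_of_range_subset _ (f ⁻¹ᵁ (Y.basicOpen (b (f z.1) (hmem z)))).ι ?_ L hAz
    rw [range_ι_comp_ι, himg, Scheme.Opens.range_ι]

/-- ampleness of restrictions along open immersions only depends on the range -/
theorem isAmple_restrict_of_range_eq {W W' : Scheme.{u}} (j₁ : W ⟶ X) (j₂ : W' ⟶ X) [IsOpenImmersion j₁]
    [IsOpenImmersion j₂] (H : Set.range j₁ = Set.range j₂) (L : X.Modules)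
    (hA : CohB1.IsAmple (L.restrict j₂)) : CohB1.IsAmple (L.restrict j₁) := by
  have : CompactSpace W' := hA.2.1
  have : CompactSpace W := (IsOpenImmersion.isoOfRangeEq j₁ j₂ H).inv.homeomorph.compactSpace
  exact isAmple_restrict_of_range_subset j₁ j₂ (le_of_eq H) L hA

/-- ampleness over `V' ⊆ U` computed in `U` or in `Y` -/
theorem isAmple_restrict_morphismRestrict_iff {Y : Scheme.{u}} (f : X ⟶ Y) (L : X.Modules) (U : Y.Opens)
    (V' : (↑U : Scheme.{u}).Opens) :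
    CohB1.IsAmple ((L.restrict (f ⁻¹ᵁ U).ι).restrict ((f ∣_ U) ⁻¹ᵁ V').ι) ↔
      CohB1.IsAmple (L.restrict (f ⁻¹ᵁ (U.ι ''ᵁ V')).ι) := by
  rw [isAmple_restrict_restrict_iff]
  have H : Set.range (((f ∣_ U) ⁻¹ᵁ V').ι ≫ (f ⁻¹ᵁ U).ι) = Set.range (f ⁻¹ᵁ (U.ι ''ᵁ V')).ι := by
    rw [range_ι_comp_ι, image_morphismRestrict_preimage, Scheme.Opens.range_ι]
  exact ⟨isAmple_restrict_of_range_eq _ _ H.symm L, isAmple_restrict_of_range_eq _ _ H L⟩

/-- relative ampleness can be checked on the affine opens contained in the members of an open cover -/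
theorem isRelAmple_of_forall_exists {Y : Scheme.{u}} (f : X ⟶ Y) [QuasiCompact f] (L : X.Modules)
    (h : ∀ y : Y, ∃ W : Y.Opens, y ∈ W ∧ ∀ V : Y.Opens, IsAffineOpen V → V ≤ W →
      CohB1.IsAmple (L.restrict (f ⁻¹ᵁ V).ι)) :
    RelAmple.IsRelAmple f L := by
  refine ⟨inferInstance, fun V => ?_⟩
  refine isAmple_restrict_preimage_of_local f L V.1 V.2 (fun y hy => ?_)
  obtain ⟨W, hyW, hW⟩ := h y
  obtain ⟨b, hb, hyb⟩ := V.2.exists_basicOpen_le (V := W) ⟨y, hyW⟩ hy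
  exact ⟨b, hyb, hW _ (V.2.basicOpen b) hb⟩

/-- **relative ampleness is local on the base** -/
theorem isRelAmple_iff_of_iSup_eq_top {Y : Scheme.{u}} (f : X ⟶ Y) [QuasiCompact f] (L : X.Modules)
    {ι : Type*} (U : ι → Y.Opens) (hU : ⨆ i, U i = ⊤) :
    RelAmple.IsRelAmple f L ↔ ∀ i, RelAmple.IsRelAmple (f ∣_ (U i)) (L.restrict (f ⁻¹ᵁ (U i)).ι) := by
  constructor
  · intro hL i
    refine ⟨inferInstance, fun V' => ?_⟩
    rw [isAmple_restrict_morphismRestrict_iff]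
    exact hL.2 ⟨(U i).ι ''ᵁ V'.1, V'.2.image_of_isOpenImmersion (U i).ι⟩
  · intro h
    refine isRelAmple_of_forall_exists f L fun y => ?_
    have hy : y ∈ ⨆ i, U i := hU ▸ trivial
    obtain ⟨i, hyi⟩ := Opens.mem_iSup.1 hy
    refine ⟨U i, hyi, fun V hV hVU => ?_⟩
    have himg : (U i).ι ''ᵁ ((U i).ι ⁻¹ᵁ V) = V := by
      rw [Scheme.Hom.image_preimage_eq_opensRange_inf, Scheme.Opens.opensRange_ι, inf_eq_right.2 hVU]
    have haff : IsAffineOpen ((U i).ι ⁻¹ᵁ V) := by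
      rw [← Scheme.Hom.isAffineOpen_iff_of_isOpenImmersion (U i).ι, himg]
      exact hV
    have := (isAmple_restrict_morphismRestrict_iff f L (U i) ((U i).ι ⁻¹ᵁ V)).1 ((h i).2 ⟨_, haff⟩)
    rwa [himg] at this

end Groth.Agent.Lib.Helper28.AmpleLocal
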