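import Groth.Agent.Lib.Helper28.SecExtend

/-!
# Ample invertible modules: the loci `X_s` form a basis
-/

set_option autoImplicit false
universe u
open CategoryTheory CategoryTheory.Limits AlgebraicGeometry Opposite TopologicalSpace
noncomputable section

namespace Groth.Agent.Lib.Helper28.GenLocus

open Groth.Agent.Lib.Helper28 Groth.Agent.Lib.Helper28.QCohLoc Groth.Agent.Lib.Helper28.TensorGen
  Groth.Agent.Lib.Helper28.InvTensor Groth.Agent.Lib.Helper28.AmpleUnit Groth.Agent.Lib.Helper28.TwistAmple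

variable {X : Scheme.{u}}

/-- an invertible module has affine charts -/
theorem exists_isGen_affine (M : X.Modules) (hM : PicF.IsInvertible M) (x : X) :
    ∃ (U : X.Opens) (g : Γ(M, U)), x ∈ U ∧ IsAffineOpen U ∧ IsGen M U g := by
  obtain ⟨U, g, hxU, hg⟩ := exists_isGen M hM x
  obtain ⟨_, ⟨V, hV, rfl⟩, hxV, hVU⟩ := X.isBasis_affineOpens.exists_subset_of_mem_open hxU U.isOpen
  have hVU' : V ≤ U := hVU
  exact ⟨V, res M hVU' g, hxV, hV, hg.res hVU'⟩

/-- **extension of `a • s^k` from `X_s` to `X`**, on a quasi-compact quasi-separated scheme -/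
theorem exists_extension [CompactSpace X] [QuasiSeparatedSpace X] {M : X.Modules} (hM : PicF.IsInvertible M)
    (s : Coh.structureModule X ⟶ M) (a : Γ(X, CohB1.genLocus M s)) :
    ∃ (k : ℕ) (t : Coh.structureModule X ⟶ CohB1.tensorPow M k),
      res _ (le_top : CohB1.genLocus M s ≤ ⊤) (secOf t) =
        (a • gpow M (res M le_top (secOf s)) k : Γ(CohB1.tensorPow M k, CohB1.genLocus M s)) := by
  choose U g hxU hU hg using exists_isGen_affine M hM
  obtain ⟨t, ht⟩ := finite_cover_nhds (U := fun x => (U x : Set X)) (fun x => (U x).isOpen.mem_nhds (hxU x))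
  refine exists_extension_of_charts (I := t) (fun i => U i.1) (fun i => hU i.1) ?_ ?_ (fun i => g i.1)
    (fun i => hg i.1) s a
  · intro x
    have hx : x ∈ ⋃ y ∈ t, (U y : Set X) := by rw [ht]; trivial
    simp only [Set.mem_iUnion] at hx
    obtain ⟨y, hy, hxy⟩ := hx
    exact ⟨⟨y, hy⟩, hxy⟩
  · intro i j
    exact QuasiSeparatedSpace.inter_isCompact _ _ (U i.1).isOpen (hU i.1).isCompact (U j.1).isOpen
      (hU j.1).isCompact

/-- on a scheme with an ample module, the loci `X_t` contained in a given open cover it -/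
theorem exists_genLocus_le_of_isAmple {L : X.Modules} (hA : CohB1.IsAmple L) (U : X.Opens) (x : X) (hxU : x ∈ U) :
    ∃ (n : ℕ) (t : Coh.structureModule X ⟶ CohB1.tensorPow L (n + 1)),
      x ∈ CohB1.genLocus _ t ∧ CohB1.genLocus _ t ≤ U ∧ IsAffineOpen (CohB1.genLocus _ t) := by
  haveI := hA.2.1
  haveI : X.IsSeparated := isSeparated_of_isAmple hA
  have hL := hA.1
  obtain ⟨m, s, hxs, haff⟩ := hA.2.2 x
  obtain ⟨a, haU, hxa⟩ := haff.exists_basicOpen_le (V := U) ⟨x, hxU⟩ hxs
  have hM := isInvertible_tensorPow hL (m + 1)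
  obtain ⟨k, t', ht'⟩ := exists_extension hM s a
  have h1 : CohB1.genLocus _ t' ⊓ CohB1.genLocus _ s = X.basicOpen a :=
    genLocus_inf_eq t' _ _ (isGen_gpow (isGen_genLocus s) k) a ht'
  obtain ⟨ψ, -⟩ := exists_tensorPow_tensorPow_iso hL (m + 1) (k + 1) ((m * (k + 1) + k) + 1) (by ring)
  let t'' : Coh.structureModule X ⟶ CohB1.tensorPow (CohB1.tensorPow L (m + 1)) (k + 1) := smulSec t' s
  have h2 : CohB1.genLocus _ (t'' ≫ ψ.hom) = X.basicOpen a := by
    refine (genLocus_comp_iso t'' ψ).trans ?_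
    exact (genLocus_smulSec (isInvertible_tensorPow hM k) hM t' s).trans h1
  refine ⟨m * (k + 1) + k, t'' ≫ ψ.hom, ?_⟩
  rw [h2]
  exact ⟨hxa, haU, haff.basicOpen a⟩

/-- **an invertible module on a quasi-compact scheme is ample iff the loci `X_s` form a basis** -/
theorem isAmple_iff_isBasis [CompactSpace X] (L : X.Modules) (hL : PicF.IsInvertible L) :
    CohB1.IsAmple L ↔
      TopologicalSpace.Opens.IsBasis
        {U : X.Opens | ∃ (n : ℕ) (s : Coh.structureModule X ⟶ CohB1.tensorPow L (n + 1)),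
          U = CohB1.genLocus _ s} := by
  rw [Opens.isBasis_iff_nbhd]
  constructor
  · intro hA U x hxU
    obtain ⟨n, t, hxt, htU, -⟩ := exists_genLocus_le_of_isAmple hA U x hxU
    exact ⟨_, ⟨n, t, rfl⟩, hxt, htU⟩
  · intro h
    refine ⟨hL, inferInstance, fun x => ?_⟩
    obtain ⟨_, ⟨V, hV, rfl⟩, hxV, -⟩ :=
      X.isBasis_affineOpens.exists_subset_of_mem_open (Set.mem_univ x) isOpen_univ
    obtain ⟨_, ⟨n, s, rfl⟩, hxs, hsV⟩ := h (U := V) (x := x) hxV
    refine ⟨n, s, hxs, ?_⟩
    have := isAffineOpen_genLocus_inf (isInvertible_tensorPow hL (n + 1)) s hV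
    rwa [inf_eq_left.2 hsV] at this

end Groth.Agent.Lib.Helper28.GenLocus
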