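import Groth.Agent.Lib.Helper28.PullbackInv2
import Groth.Agent.Lib.Helper28.AmpleBasis
import Groth.Agent.Lib.Helper28.AmpleIso
import Groth.Prelude.Def_LCI2

/-!
# Ampleness and inverse images

* `restrictPullbackIso`: `(j^* L)|_{j⁻¹ U} ≅ (j|_U)^* (L|_U)`.
* `isAmple_pullback_of_isEmbedding`, `isRelAmple_pullback_of_isEmbedding`: inverse images of (relatively) ample
  modules along quasi-compact topological embeddings are (relatively) ample.
-/

set_option autoImplicit false
universe u
open CategoryTheory CategoryTheory.Limits AlgebraicGeometry Opposite TopologicalSpace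
noncomputable section

namespace Groth.Agent.Lib.Helper28.PullbackInv

open Groth.Agent.Lib.Helper28 Groth.Agent.Lib.Helper28.QCohLoc Groth.Agent.Lib.Helper28.GenLocus

variable {X X' : Scheme.{u}}

/-- restriction to an open commutes with inverse image -/
def restrictPullbackIso (j : X' ⟶ X) (U : X.Opens) :
    Scheme.Modules.pullback j ⋙ Scheme.Modules.restrictFunctor (j ⁻¹ᵁ U).ι ≅
      Scheme.Modules.restrictFunctor U.ι ⋙ Scheme.Modules.pullback (j ∣_ U) :=
  Functor.isoWhiskerLeft _ (Scheme.Modules.restrictFunctorIsoPullback _) ≪≫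
    Scheme.Modules.pullbackComp _ _ ≪≫
    Scheme.Modules.pullbackCongr (morphismRestrict_ι j U).symm ≪≫ (Scheme.Modules.pullbackComp _ _).symm ≪≫
    Functor.isoWhiskerRight (Scheme.Modules.restrictFunctorIsoPullback _).symm _

/-- **the inverse image of an ample module along a quasi-compact embedding is ample** -/
theorem isAmple_pullback_of_isEmbedding (i : X' ⟶ X) [CompactSpace X']
    (hi : Topology.IsEmbedding i) (L : X.Modules) (hL : CohB1.IsAmple L) :
    CohB1.IsAmple ((Scheme.Modules.pullback i).obj L) := by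
  have hinv := isInvertible_pullback i hL.1
  rw [isAmple_iff_isBasis _ hinv, Opens.isBasis_iff_nbhd]
  intro W x' hx'
  obtain ⟨V, hV, hVW⟩ := hi.isOpen_iff.mp W.isOpen
  have hxV : i.base x' ∈ (⟨V, hV⟩ : X.Opens) := by
    show x' ∈ i.base ⁻¹' V
    rw [hVW]; exact hx'
  obtain ⟨n, t, hxt, htV, -⟩ := exists_genLocus_le_of_isAmple hL ⟨V, hV⟩ (i.base x') hxV
  obtain ⟨t', ht'⟩ := exists_section_pullback_tensorPow i hL.1 (n + 1) t
  refine ⟨CohB1.genLocus _ t', ⟨n, t', rfl⟩, ?_, ?_⟩
  · rw [ht']; exact hxt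
  · rw [ht']
    intro y hy
    have h1 : i.base y ∈ V := htV hy
    have h2 : y ∈ i.base ⁻¹' V := h1
    rw [hVW] at h2
    exact h2

/-- relative version -/
theorem isRelAmple_pullback_of_isEmbedding {Y : Scheme.{u}} (f : X ⟶ Y) (j : X' ⟶ X) [QuasiCompact j]
    (hj : Topology.IsEmbedding j.base) (L : X.Modules) (hL : RelAmple.IsRelAmple f L) :
    RelAmple.IsRelAmple (j ≫ f) ((Scheme.Modules.pullback j).obj L) := by
  haveI := hL.1
  refine ⟨inferInstance, fun V => ?_⟩
  have hA := hL.2 V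
  haveI hcomp : CompactSpace ((j ⁻¹ᵁ (f ⁻¹ᵁ V.1) : X'.Opens) : Scheme.{u}) :=
    isCompact_iff_compactSpace.mp
      (QuasiCompact.isCompact_preimage (f := j ≫ f) _ V.1.isOpen V.2.isCompact)
  have hemb : Topology.IsEmbedding (j ∣_ (f ⁻¹ᵁ V.1)) := by
    rw [morphismRestrict_base]
    exact hj.restrictPreimage (f ⁻¹ᵁ V.1 : Set X)
  have h2 := isAmple_pullback_of_isEmbedding (j ∣_ (f ⁻¹ᵁ V.1)) hemb _ hA
  exact AmpleIso.isAmple_of_iso ((restrictPullbackIso j (f ⁻¹ᵁ V.1)).app L).symm h2

end Groth.Agent.Lib.Helper28.PullbackInv
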