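import Groth.Agent.Lib.Helper28.TwistGenDAmple
import Groth.Agent.Lib.Helper28.RestrictAmple
import Groth.Agent.Lib.Helper28.PullbackAmple

/-!
# Ampleness of `O(N)` on quasi-compact opens of `Proj` covered by `D₊(g)`, `deg g = N`
-/

set_option autoImplicit false
universe u
open CategoryTheory CategoryTheory.Limits AlgebraicGeometry Opposite TopologicalSpace HomogeneousLocalization
noncomputable section

namespace Groth.Agent.Lib.Helper28.GenLocus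

open Groth.Agent.Lib.Helper28 Groth.Agent.Lib.Helper28.QCohLoc Groth.Agent.Lib.Helper28.TensorGen
  Groth.Agent.Lib.Helper28.InvTensor Groth.Agent.Lib.Helper28.AmpleUnit Groth.Agent.Lib.Helper28.TwistAmple

variable {X : Scheme.{u}}

/-- `genLocus_restrictSec` with only local generators over `U` -/
theorem genLocus_restrictSec' {M : X.Modules} (U : X.Opens)
    (hM : ∀ y : (↑U : Scheme.{u}), ∃ (W : X.Opens) (g : Γ(M, W)), U.ι y ∈ W ∧ IsGen M W g)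
    (t : Coh.structureModule X ⟶ M) :
    CohB1.genLocus _ (restrictSec U t) = U.ι ⁻¹ᵁ CohB1.genLocus M t := by
  ext y
  obtain ⟨W, g, hxW, hg⟩ := hM y
  let V : (↑U : Scheme.{u}).Opens := U.ι ⁻¹ᵁ W
  have hyV : y ∈ V := hxW
  let γ : Γ(M, U.ι ''ᵁ V) := res M (U.ι.image_preimage_le W) g
  have hγ : IsGen M (U.ι ''ᵁ V) γ := hg.res _
  have hγ' : IsGen (M.restrict U.ι) V (show Γ(M.restrict U.ι, V) from γ) := isGen_restrict_of_isGen M U γ hγ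
  let r : Γ(X, U.ι ''ᵁ V) := hγ.coef le_rfl (res M le_top (secOf t))
  have hr : res M (le_top : U.ι ''ᵁ V ≤ ⊤) (secOf t) = (r • γ : Γ(M, U.ι ''ᵁ V)) := by
    have := hγ.coef_smul le_rfl (res M le_top (secOf t))
    rw [res_self] at this
    exact this.symm
  have h1 : CohB1.genLocus M t ⊓ U.ι ''ᵁ V = X.basicOpen r := genLocus_inf_eq t _ γ hγ r hr
  let r' : Γ((↑U : Scheme.{u}), V) := (U.ι.appIso V).hom r
  have hr'r : (U.ι.appIso V).inv r' = r := by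
    show (U.ι.appIso V).inv ((U.ι.appIso V).hom r) = r
    rw [← CommRingCat.comp_apply, Iso.hom_inv_id]; rfl
  have h2 : CohB1.genLocus _ (restrictSec U t) ⊓ V = (↑U : Scheme.{u}).basicOpen r' := by
    refine genLocus_inf_eq (restrictSec U t) V (show Γ(M.restrict U.ι, V) from γ) hγ' r' ?_
    rw [secOf_restrictSec, restrict_smul, hr'r, ← hr]
    exact res_res M _ _ _
  have h3 : U.ι ''ᵁ ((↑U : Scheme.{u}).basicOpen r') = X.basicOpen r := by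
    rw [Scheme.image_basicOpen, hr'r]
  show y ∈ CohB1.genLocus _ (restrictSec U t) ↔ U.ι y ∈ CohB1.genLocus M t
  have e1 : y ∈ CohB1.genLocus _ (restrictSec U t) ↔ y ∈ CohB1.genLocus _ (restrictSec U t) ⊓ V :=
    ⟨fun h => ⟨h, hyV⟩, fun h => h.1⟩
  have e2 : U.ι y ∈ CohB1.genLocus M t ↔ U.ι y ∈ CohB1.genLocus M t ⊓ U.ι ''ᵁ V :=
    ⟨fun h => ⟨h, ⟨y, hyV, rfl⟩⟩, fun h => h.1⟩
  rw [e1, e2, h1, h2, ← h3, Scheme.Hom.apply_mem_image_iff]

end Groth.Agent.Lib.Helper28.GenLocus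

namespace Groth.Agent.Lib.Helper28.TwistGenD

open Groth.Agent.Lib.Helper28 Groth.Agent.Lib.Helper28.QCohLoc Groth.Agent.Lib.Helper28.GrTildeQC
  Groth.Agent.Lib.Helper28.TwistMul Groth.Agent.Lib.Helper28.GenLocus Groth.Agent.Lib.Helper28.TwistGen

variable {R A : Type u} [CommRing R] [CommRing A] [Algebra R A] (𝒜 : ℕ → Submodule R A) [GradedAlgebra 𝒜]

section gen

variable {g : A} {N : ℕ} (hg : g ∈ 𝒜 N)

/-- pointwise version of `le_basicOpen_of_isIso_restrictD` -/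
theorem mem_basicOpen_of_isIso_restrictD (U : (Proj 𝒜).Opens)
    [IsIso ((Scheme.Modules.restrictFunctor U.ι).map (ofSection (Twist.twist 𝒜 (N : ℤ)) (gsec 𝒜 g hg)))]
    (x : Proj 𝒜) (hxU : x ∈ U) (hx : ∃ g' : A, g' ∈ 𝒜 N ∧ x ∈ Proj.basicOpen 𝒜 g') :
    x ∈ Proj.basicOpen 𝒜 g := by
  obtain ⟨g', hg', hxg'⟩ := hx
  obtain ⟨e, h, he, hh, hhx, hhU⟩ := GrSectComap.exists_pos_basicOpen 𝒜 U x hxU
  have hxW : x ∈ Proj.basicOpen 𝒜 (g' * h) := by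
    rw [Proj.basicOpen_mul]
    exact ⟨hxg', (Proj.mem_basicOpen 𝒜 h x).2 hhx⟩
  have hWU : Proj.basicOpen 𝒜 (g' * h) ≤ U := by
    intro y hy
    rw [Proj.basicOpen_mul] at hy
    exact hhU y ((Proj.mem_basicOpen 𝒜 h y).1 hy.2)
  obtain ⟨c0, hc⟩ := (TwistAmple.app_bijective_of_isIso_restrict
    (ofSection (Twist.twist 𝒜 (N : ℤ)) (gsec 𝒜 g hg)) U _ hWU).2
    (res (Twist.twist 𝒜 (N : ℤ)) (le_top : Proj.basicOpen 𝒜 (g' * h) ≤ ⊤) (gsec 𝒜 g' hg'))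
  let c : Γ(Proj 𝒜, Proj.basicOpen 𝒜 (g' * h)) := c0
  have hc' : (c • res (Twist.twist 𝒜 (N : ℤ)) (le_top : Proj.basicOpen 𝒜 (g' * h) ≤ ⊤) (gsec 𝒜 g hg) :
      Γ(Twist.twist 𝒜 (N : ℤ), Proj.basicOpen 𝒜 (g' * h))) =
      res (Twist.twist 𝒜 (N : ℤ)) (le_top : Proj.basicOpen 𝒜 (g' * h) ≤ ⊤) (gsec 𝒜 g' hg') :=
    (ofSection_app _ _ _ c).symm.trans hc
  have hv := congrArg (fun t => TwistQC.val 𝒜 t ⟨x, hxW⟩) hc'
  simp only at hv
  rw [TwistQC.val_smul] at hv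
  have hv2 : TwistQC.val 𝒜 (res (Twist.twist 𝒜 (N : ℤ)) (le_top : Proj.basicOpen 𝒜 (g' * h) ≤ ⊤)
      (gsec 𝒜 g hg)) ⟨x, hxW⟩ = Localization.mk g 1 := rfl
  have hv3 : TwistQC.val 𝒜 (res (Twist.twist 𝒜 (N : ℤ)) (le_top : Proj.basicOpen 𝒜 (g' * h) ≤ ⊤)
      (gsec 𝒜 g' hg')) ⟨x, hxW⟩ = Localization.mk g' 1 := rfl
  rw [hv2, hv3] at hv
  rw [Proj.mem_basicOpen]
  intro hgx
  rw [Proj.mem_basicOpen] at hxg'
  apply hxg'
  have hmem : (Localization.mk g 1 : Twist.Loc 𝒜 x) ∈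
      IsLocalRing.maximalIdeal (Twist.Loc 𝒜 x) := by
    rw [Localization.mk_one_eq_algebraMap]
    exact (IsLocalization.AtPrime.to_map_mem_maximal_iff (Twist.Loc 𝒜 x)
      (show ProjectiveSpectrum 𝒜 from x).asHomogeneousIdeal.toIdeal g).2 hgx
  have hmem2 := Ideal.mul_mem_left _ ((GrTildeQC.valO 𝒜 c ⟨x, hxW⟩).val) hmem
  rw [hv, Localization.mk_one_eq_algebraMap, IsLocalization.AtPrime.to_map_mem_maximal_iff (Twist.Loc 𝒜 x)
    (show ProjectiveSpectrum 𝒜 from x).asHomogeneousIdeal.toIdeal] at hmem2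
  exact hmem2

include hg in
theorem genLocus_ofSection_gsec_inf (hN : 0 < N) (W : (Proj 𝒜).Opens)
    (hcov : ∀ x ∈ W, ∃ g' : A, g' ∈ 𝒜 N ∧ x ∈ Proj.basicOpen 𝒜 g') :
    CohB1.genLocus (Twist.twist 𝒜 (N : ℤ)) (ofSection (Twist.twist 𝒜 (N : ℤ)) (gsec 𝒜 g hg)) ⊓ W =
      Proj.basicOpen 𝒜 g ⊓ W := by
  apply le_antisymm
  · rintro x ⟨hx1, hx2⟩
    refine ⟨?_, hx2⟩
    unfold CohB1.genLocus at hx1
    obtain ⟨V, hV, hxV⟩ := Opens.mem_sSup.1 hx1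
    have : IsIso ((Scheme.Modules.restrictFunctor (Scheme.Opens.ι (X := Proj 𝒜) V)).map
      (ofSection (Twist.twist 𝒜 (N : ℤ)) (gsec 𝒜 g hg))) := hV
    exact mem_basicOpen_of_isIso_restrictD 𝒜 hg V x hxV (hcov x hx2)
  · exact inf_le_inf_right _ (le_sSup (isIso_restrict_ofSection 𝒜 hg hN))

end gen

/-- **`O(N)` is ample on a quasi-compact open of `Proj` covered by `D₊(g)`s with `g` of degree `N`** -/
theorem isAmple_restrict_twist_of_cover (N : ℕ) (hN : 0 < N) (U : (Proj 𝒜).Opens)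
    (hU : IsCompact (U : Set (Proj 𝒜)))
    (hcov : ∀ x ∈ U, ∃ g : A, g ∈ 𝒜 N ∧ x ∈ Proj.basicOpen 𝒜 g ∧ Proj.basicOpen 𝒜 g ≤ U) :
    CohB1.IsAmple ((Twist.twist 𝒜 (N : ℤ)).restrict U.ι) := by
  have hgenU : ∀ y : (↑U : Scheme.{u}), ∃ (W : (Proj 𝒜).Opens) (γ : Γ(Twist.twist 𝒜 (N : ℤ), W)),
      U.ι y ∈ W ∧ IsGen (Twist.twist 𝒜 (N : ℤ)) W γ := by
    intro y
    obtain ⟨g, hg, hx, -⟩ := hcov y.1 y.2
    exact ⟨Proj.basicOpen 𝒜 g, _, hx, isGen_gsecD 𝒜 hg hN⟩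
  refine ⟨?_, isCompact_iff_compactSpace.1 hU, ?_⟩
  · refine GenLocus.isInvertible_of_isGen _ fun y => ?_
    obtain ⟨W, γ, hy, hγ⟩ := hgenU y
    exact ⟨U.ι ⁻¹ᵁ W, (show Γ((Twist.twist 𝒜 (N : ℤ)).restrict U.ι, U.ι ⁻¹ᵁ W) from
      res (Twist.twist 𝒜 (N : ℤ)) (U.ι.image_preimage_le W) γ), hy,
      isGen_restrict_of_isGen _ U _ (hγ.res _)⟩
  · intro y
    obtain ⟨g, hg, hx, hgU⟩ := hcov y.1 y.2
    obtain ⟨e⟩ := InvQC.nonempty_unit_tensor_iso ((Twist.twist 𝒜 (N : ℤ)).restrict U.ι)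
    refine ⟨0, restrictSec U (ofSection _ (gsec 𝒜 g hg)) ≫ e.inv, ?_⟩
    have hloc : CohB1.genLocus _ (restrictSec U (ofSection (Twist.twist 𝒜 (N : ℤ)) (gsec 𝒜 g hg)) ≫ e.inv) =
        U.ι ⁻¹ᵁ Proj.basicOpen 𝒜 g := by
      have h1 := AmpleUnit.genLocus_comp_iso
        (restrictSec U (ofSection (Twist.twist 𝒜 (N : ℤ)) (gsec 𝒜 g hg))) e.symm
      refine h1.trans ?_
      rw [genLocus_restrictSec' U hgenU]
      have h2 := genLocus_ofSection_gsec_inf 𝒜 hg hN U (fun x hx => by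
        obtain ⟨g', hg', hxg', -⟩ := hcov x hx
        exact ⟨g', hg', hxg'⟩)
      ext z
      constructor
      · intro hz
        have hz' : U.ι z ∈ CohB1.genLocus (Twist.twist 𝒜 (N : ℤ))
            (ofSection (Twist.twist 𝒜 (N : ℤ)) (gsec 𝒜 g hg)) ⊓ U := ⟨hz, z.2⟩
        rw [h2] at hz'
        exact hz'.1
      · intro hz
        have hz' : U.ι z ∈ Proj.basicOpen 𝒜 g ⊓ U := ⟨hz, z.2⟩
        rw [← h2] at hz'
        exact hz'.1
    show y ∈ CohB1.genLocus (CohB1.tensorMod (Coh.structureModule _) ((Twist.twist 𝒜 (N : ℤ)).restrict U.ι))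
        (restrictSec U (ofSection (Twist.twist 𝒜 (N : ℤ)) (gsec 𝒜 g hg)) ≫ e.inv) ∧
      IsAffineOpen (CohB1.genLocus (CohB1.tensorMod (Coh.structureModule _)
        ((Twist.twist 𝒜 (N : ℤ)).restrict U.ι))
        (restrictSec U (ofSection (Twist.twist 𝒜 (N : ℤ)) (gsec 𝒜 g hg)) ≫ e.inv))
    rw [hloc]
    refine ⟨hx, ?_⟩
    have himg : U.ι ''ᵁ (U.ι ⁻¹ᵁ Proj.basicOpen 𝒜 g) = Proj.basicOpen 𝒜 g := by
      rw [Scheme.Hom.image_preimage_eq_opensRange_inf, Scheme.Opens.opensRange_ι]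
      exact inf_eq_right.2 hgU
    rw [← Scheme.Hom.isAffineOpen_iff_of_isOpenImmersion U.ι, himg]
    exact Proj.isAffineOpen_basicOpen 𝒜 g hg hN

/-- **pull back along an open immersion from a quasi-compact scheme** -/
theorem exists_isAmple_pullback_twist (X : Scheme.{u}) [CompactSpace X]
    (j : X ⟶ Proj 𝒜) [IsOpenImmersion j] :
    ∃ d : ℕ, 0 < d ∧ CohB1.IsAmple ((Scheme.Modules.pullback j).obj (Twist.twist 𝒜 (d : ℤ))) := by
  classical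
  let U : (Proj 𝒜).Opens := j.opensRange
  have hUc : IsCompact (U : Set (Proj 𝒜)) := by
    show IsCompact (Set.range j)
    exact isCompact_range j.continuous
  have hex : ∀ x : U, ∃ (e : ℕ) (h : A), 0 < e ∧ h ∈ 𝒜 e ∧ x.1 ∈ Proj.basicOpen 𝒜 h ∧
      Proj.basicOpen 𝒜 h ≤ U := by
    intro x
    obtain ⟨e, h, he, hh, hhx, hhU⟩ := GrSectComap.exists_pos_basicOpen 𝒜 U x.1 x.2
    exact ⟨e, h, he, hh, (Proj.mem_basicOpen 𝒜 h x.1).2 hhx,
      fun y hy => hhU y ((Proj.mem_basicOpen 𝒜 h y).1 hy)⟩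
  choose e h he hh hxh hhU using hex
  obtain ⟨t, ht⟩ := hUc.elim_finite_subcover (fun x : U => ((Proj.basicOpen 𝒜 (h x) : (Proj 𝒜).Opens) : Set (Proj 𝒜)))
    (fun x => (Proj.basicOpen 𝒜 (h x)).isOpen) (fun x hx => Set.mem_iUnion.2 ⟨⟨x, hx⟩, hxh _⟩)
  let d : ℕ := ∏ x ∈ t, e x
  have hd : 0 < d := Finset.prod_pos fun x _ => he x
  refine ⟨d, hd, ?_⟩
  have hcov : ∀ x ∈ U, ∃ g : A, g ∈ 𝒜 d ∧ x ∈ Proj.basicOpen 𝒜 g ∧ Proj.basicOpen 𝒜 g ≤ U := by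
    intro x hx
    have hx' := ht hx
    simp only [Set.mem_iUnion] at hx'
    obtain ⟨y, hyt, hxy⟩ := hx'
    obtain ⟨k, hk⟩ := Finset.dvd_prod_of_mem e hyt
    have hk0 : 0 < k := by
      rcases Nat.eq_zero_or_pos k with h0 | h0
      · exfalso
        rw [h0, mul_zero] at hk
        exact (ne_of_gt hd) hk
      · exact h0
    refine ⟨h y ^ k, ?_, ?_, ?_⟩
    · have := SetLike.pow_mem_graded k (hh y)
      rw [smul_eq_mul, mul_comm] at this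
      show h y ^ k ∈ 𝒜 (∏ x ∈ t, e x)
      rw [hk]
      exact this
    · rw [Proj.basicOpen_pow 𝒜 _ _ hk0]
      exact hxy
    · rw [Proj.basicOpen_pow 𝒜 _ _ hk0]
      exact hhU y
  have hA := isAmple_restrict_twist_of_cover 𝒜 d hd U hUc hcov
  have hA2 : CohB1.IsAmple ((Scheme.Modules.pullback U.ι).obj (Twist.twist 𝒜 (d : ℤ))) :=
    AmpleIso.isAmple_of_iso ((Scheme.Modules.restrictFunctorIsoPullback U.ι).app _) hA
  have hemb : Topology.IsEmbedding j.isoOpensRange.hom :=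
    j.isoOpensRange.hom.homeomorph.isEmbedding
  have hA3 := PullbackInv.isAmple_pullback_of_isEmbedding j.isoOpensRange.hom hemb _ hA2
  have e1 : (Scheme.Modules.pullback j.isoOpensRange.hom).obj
      ((Scheme.Modules.pullback U.ι).obj (Twist.twist 𝒜 (d : ℤ))) ≅
      (Scheme.Modules.pullback j).obj (Twist.twist 𝒜 (d : ℤ)) :=
    (Scheme.Modules.pullbackComp j.isoOpensRange.hom U.ι).app _ ≪≫
      (Scheme.Modules.pullbackCongr j.isoOpensRange_hom_ι).app _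
  exact AmpleIso.isAmple_of_iso e1 hA3

end Groth.Agent.Lib.Helper28.TwistGenD
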