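import Groth.Agent.Lib.Helper28.RelProjFT
import Groth.Agent.Lib.Helper28.TwistOpenAmple

set_option autoImplicit false
universe u
open CategoryTheory CategoryTheory.Limits AlgebraicGeometry Opposite TopologicalSpace
open scoped HomogeneousIdeal
noncomputable section

namespace Groth.Agent.Lib.Helper28.RelProjAmple

open Groth.Agent.Lib.Helper28 Groth.Agent.Lib.Helper28.QCohLoc Groth.Agent.Lib.Helper28.GenLocus

section general

variable {X : Scheme.{u}}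

/-- a section over `U` as a global section of the restriction -/
def topSec (M : X.Modules) (U : X.Opens) (σ : Γ(M, U)) : Γ(M.restrict U.ι, ⊤) :=
  (show Γ(M, U.ι ''ᵁ ⊤) from res M (InvGen.image_le U ⊤) σ)

/-- the locus where a section over `U` generates, read on an open with a generator -/
theorem mem_genLocus_ofSection_topSec {M : X.Modules} (U : X.Opens) (σ : Γ(M, U))
    (V : (↑U : Scheme.{u}).Opens) (γ : Γ(M, U.ι ''ᵁ V)) (hγ : IsGen M (U.ι ''ᵁ V) γ) (r : Γ(X, U.ι ''ᵁ V))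
    (hr : res M (InvGen.image_le U V) σ = (r • γ : Γ(M, U.ι ''ᵁ V))) (y : (↑U : Scheme.{u})) (hy : y ∈ V) :
    y ∈ CohB1.genLocus (M.restrict U.ι) (TwistGen.ofSection (M.restrict U.ι) (topSec M U σ)) ↔
      U.ι y ∈ X.basicOpen r := by
  have hγ' : IsGen (M.restrict U.ι) V (show Γ(M.restrict U.ι, V) from γ) := isGen_restrict_of_isGen M U γ hγ
  let r' : Γ((↑U : Scheme.{u}), V) := (U.ι.appIso V).hom r
  have hr'r : (U.ι.appIso V).inv r' = r := by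
    show (U.ι.appIso V).inv ((U.ι.appIso V).hom r) = r
    rw [← CommRingCat.comp_apply, Iso.hom_inv_id]; rfl
  have h2 : CohB1.genLocus _ (TwistGen.ofSection (M.restrict U.ι) (topSec M U σ)) ⊓ V =
      (↑U : Scheme.{u}).basicOpen r' := by
    refine genLocus_inf_eq _ V (show Γ(M.restrict U.ι, V) from γ) hγ' r' ?_
    rw [secOf_ofSection, restrict_smul, hr'r, ← hr]
    exact res_res M _ _ _
  have h3 : U.ι ''ᵁ ((↑U : Scheme.{u}).basicOpen r') = X.basicOpen r := by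
    rw [Scheme.image_basicOpen, hr'r]
  have e1 : y ∈ CohB1.genLocus _ (TwistGen.ofSection (M.restrict U.ι) (topSec M U σ)) ↔
      y ∈ CohB1.genLocus _ (TwistGen.ofSection (M.restrict U.ι) (topSec M U σ)) ⊓ V :=
    ⟨fun h => ⟨h, hy⟩, fun h => h.1⟩
  rw [e1, h2, ← h3, Scheme.Hom.apply_mem_image_iff]

end general

section rel

variable {Y P : Scheme.{u}} {𝒮 : RelProj.QCGrAlg Y} {p : P ⟶ Y}
  {chart : ∀ (U : Y.Opens) (hU : IsAffineOpen U), (((p ⁻¹ᵁ U : P.Opens) : Scheme.{u}) ≅ Proj (𝒮.deg U hU))}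
  {d : ℕ} {L : P.Modules}
  {lam : ∀ (U : Y.Opens) (hU : IsAffineOpen U),
    L ⟶ (Scheme.Modules.pushforward (RelProj.emb p chart U hU)).obj (GrTwist.twist (𝒮.deg U hU) (d : ℤ))}
  (hL : RelProj.IsRelTwist 𝒮 p chart (d : ℤ) L lam)

include hL in
/-- the section of `O_P(d)` over `p⁻¹V` defined by a homogeneous element of degree `d` -/
theorem exists_section {V : Y.Opens} (hV : IsAffineOpen V) (a : 𝒮.presheaf.obj (op V)) (ha : a ∈ 𝒮.deg V hV d) :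
    ∃ σ : Γ(L, p ⁻¹ᵁ V), ∀ (y : Proj (𝒮.deg V hV)) (hy : (RelProj.emb p chart V hV).base y ∈ p ⁻¹ᵁ V),
      RelTwistVal.cv lam hV σ y hy = Localization.mk a 1 := by
  let τ0 : Γ(GrTwist.twist (𝒮.deg V hV) (d : ℤ), ⊤) := GrTwist.globalOf (𝒮.deg V hV) ⟨a, ha⟩
  let τ : Γ((Scheme.Modules.pushforward (RelProj.emb p chart V hV)).obj (GrTwist.twist (𝒮.deg V hV) (d : ℤ)),
      p ⁻¹ᵁ V) :=
    (show Γ(GrTwist.twist (𝒮.deg V hV) (d : ℤ), RelProj.emb p chart V hV ⁻¹ᵁ (p ⁻¹ᵁ V)) from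
      res (GrTwist.twist (𝒮.deg V hV) (d : ℤ)) le_top τ0)
  obtain ⟨σ, hσ⟩ := (hL.bijective V hV (p ⁻¹ᵁ V) le_rfl).2 τ
  refine ⟨σ, fun y hy => ?_⟩
  unfold RelTwistVal.cv
  rw [hσ]
  rfl

include hL in
/-- the locus where the section `a / 1` generates `O_P(d)`, at a point of `D₊(g)` with `deg g ∣ d` -/
theorem mem_genLocus_iff {V : Y.Opens} (hV : IsAffineOpen V) (a : 𝒮.presheaf.obj (op V))
    (σ : Γ(L, p ⁻¹ᵁ V))
    (hσ : ∀ (y : Proj (𝒮.deg V hV)) (hy : (RelProj.emb p chart V hV).base y ∈ p ⁻¹ᵁ V),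
      RelTwistVal.cv lam hV σ y hy = Localization.mk a 1)
    (z : Proj (𝒮.deg V hV)) {g : 𝒮.presheaf.obj (op V)} {e : ℕ} (hg : g ∈ 𝒮.deg V hV e) (he : 0 < e)
    (hed : e ∣ d) (hz : z ∈ Proj.basicOpen (𝒮.deg V hV) g) (y : (↑(p ⁻¹ᵁ V) : Scheme.{u}))
    (hy : (p ⁻¹ᵁ V).ι y = (RelProj.emb p chart V hV).base z) :
    y ∈ CohB1.genLocus (L.restrict (p ⁻¹ᵁ V).ι)
        (TwistGen.ofSection (L.restrict (p ⁻¹ᵁ V).ι) (topSec L (p ⁻¹ᵁ V) σ)) ↔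
      a ∉ z.asHomogeneousIdeal := by
  obtain ⟨T, hTdef⟩ : ∃ T : P.Opens,
      T = RelProj.emb p chart V hV ''ᵁ Proj.basicOpen (𝒮.deg V hV) g := ⟨_, rfl⟩
  have hTle : T ≤ p ⁻¹ᵁ V := by
    rw [hTdef]
    exact (Scheme.Hom.image_le_opensRange _ _).trans (RelProjQC.opensRange_emb p chart V hV).le
  have hT' : (p ⁻¹ᵁ V).ι ''ᵁ ((p ⁻¹ᵁ V).ι ⁻¹ᵁ T) = T := by
    rw [Scheme.Hom.image_preimage_eq_opensRange_inf, Scheme.Opens.opensRange_ι]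
    exact inf_eq_right.2 hTle
  have hκ : ((d : ℕ) : ℤ) = ((d / e : ℕ) : ℤ) * (e : ℤ) := by
    exact_mod_cast (Nat.div_mul_cancel hed).symm
  obtain ⟨γ, hγ, hrγ⟩ := RelTwistVal.exists_gen_reads' hL hV hg he ((d / e : ℕ) : ℤ) hκ
    ((p ⁻¹ᵁ V).ι ''ᵁ ((p ⁻¹ᵁ V).ι ⁻¹ᵁ T)) (hT'.trans hTdef)
  obtain ⟨r, hr⟩ := (hγ _ le_rfl).2 (res L (InvGen.image_le (p ⁻¹ᵁ V) ((p ⁻¹ᵁ V).ι ⁻¹ᵁ T)) σ)
  have hr' : res L (InvGen.image_le (p ⁻¹ᵁ V) ((p ⁻¹ᵁ V).ι ⁻¹ᵁ T)) σ =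
      (r • γ : Γ(L, (p ⁻¹ᵁ V).ι ''ᵁ ((p ⁻¹ᵁ V).ι ⁻¹ᵁ T))) := by
    rw [← hr]
    show (r • res L le_rfl γ : Γ(L, _)) = (r • γ : Γ(L, _))
    rw [res_self]
  have hzT : (RelProj.emb p chart V hV).base z ∈ T := by
    rw [hTdef]; exact ⟨z, hz, rfl⟩
  have hyV : y ∈ (p ⁻¹ᵁ V).ι ⁻¹ᵁ T := by
    show (p ⁻¹ᵁ V).ι y ∈ T
    rw [hy]; exact hzT
  have hzT' : (RelProj.emb p chart V hV).base z ∈ (p ⁻¹ᵁ V).ι ''ᵁ ((p ⁻¹ᵁ V).ι ⁻¹ᵁ T) := by
    rw [hT']; exact hzT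
  rw [mem_genLocus_ofSection_topSec (p ⁻¹ᵁ V) σ _ γ hγ r hr' y hyV, hy,
    RelTwistVal.mem_basicOpen_iff_isUnit_cvO hV r z hzT']
  obtain ⟨hgz, hval⟩ := hrγ z hzT'
  have e1 : RelTwistVal.cv lam hV
      (res L (InvGen.image_le (p ⁻¹ᵁ V) ((p ⁻¹ᵁ V).ι ⁻¹ᵁ T)) σ) z hzT' = Localization.mk a 1 := by
    rw [RelTwistVal.cv_res]
    exact hσ z _
  rw [hr', RelTwistVal.cv_smul, hval] at e1
  have hu := GrTwistGenVal.isUnit_pw (𝒮.deg V hV) z g hgz ((d / e : ℕ) : ℤ)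
  rw [← GrModQC.isUnit_mk_iff (𝒮.deg V hV) z a 1, ← e1, IsUnit.mul_iff]
  exact ⟨fun h => ⟨h, hu⟩, fun h => h.1⟩


include hL in
/-- `O_P(d)` is invertible when `P` is covered by images of `D₊(g)` with `deg g ∣ d` -/
theorem isInvertible_of_cover
    (hcov : ∀ x : P, ∃ (V : Y.Opens) (hV : IsAffineOpen V) (z : Proj (𝒮.deg V hV))
      (g : 𝒮.presheaf.obj (op V)) (e : ℕ), g ∈ 𝒮.deg V hV e ∧ 0 < e ∧ e ∣ d ∧
        z ∈ Proj.basicOpen (𝒮.deg V hV) g ∧ (RelProj.emb p chart V hV).base z = x) :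
    PicF.IsInvertible L := by
  refine GenLocus.isInvertible_of_isGen L fun x => ?_
  obtain ⟨V, hV, z, g, e, hg, he, hed, hz, hzx⟩ := hcov x
  have hκ : ((d : ℕ) : ℤ) = ((d / e : ℕ) : ℤ) * (e : ℤ) := by
    exact_mod_cast (Nat.div_mul_cancel hed).symm
  obtain ⟨γ, hγ, -⟩ := RelTwistVal.exists_gen_reads hL hV hg he ((d / e : ℕ) : ℤ) hκ
  exact ⟨_, γ, ⟨z, hz, hzx⟩, hγ⟩

include hL in
/-- `O_P(d)` is ample over an affine open `V` whose chart is quasi-compact and covered by `D₊(g)`s with `deg g ∣ d` -/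
theorem isAmple_restrict_of_cover (hinv : PicF.IsInvertible L) (hd : 0 < d) {V : Y.Opens} (hV : IsAffineOpen V)
    (hc : IsCompact ((p ⁻¹ᵁ V : P.Opens) : Set P))
    (hcov : ∀ z : Proj (𝒮.deg V hV), ∃ (g : 𝒮.presheaf.obj (op V)) (e : ℕ), g ∈ 𝒮.deg V hV e ∧ 0 < e ∧ e ∣ d ∧
        z ∈ Proj.basicOpen (𝒮.deg V hV) g) :
    CohB1.IsAmple (L.restrict (p ⁻¹ᵁ V).ι) := by
  have hemb : ∀ y : (↑(p ⁻¹ᵁ V) : Scheme.{u}),
      (p ⁻¹ᵁ V).ι y = (RelProj.emb p chart V hV).base ((chart V hV).hom.base y) := by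
    intro y
    show _ = (p ⁻¹ᵁ V).ι.base ((chart V hV).inv.base ((chart V hV).hom.base y))
    rw [← Scheme.Hom.comp_apply (chart V hV).hom, Iso.hom_inv_id]
    rfl
  refine ⟨AmpleIso.isInvertible_restrict _ L hinv, isCompact_iff_compactSpace.1 hc, fun y => ?_⟩
  obtain ⟨g, e, hg, he, hed, hz⟩ := hcov ((chart V hV).hom.base y)
  have ha : g ^ (d / e) ∈ 𝒮.deg V hV d := by
    have h1 := SetLike.pow_mem_graded (d / e) hg
    rwa [smul_eq_mul, Nat.div_mul_cancel hed] at h1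
  obtain ⟨σ, hσ⟩ := exists_section hL hV (g ^ (d / e)) ha
  obtain ⟨ε⟩ := InvQC.nonempty_unit_tensor_iso (L.restrict (p ⁻¹ᵁ V).ι)
  refine ⟨0, TwistGen.ofSection _ (topSec L _ σ) ≫ ε.inv, ?_⟩
  obtain ⟨T, hTdef⟩ : ∃ T : P.Opens,
      T = RelProj.emb p chart V hV ''ᵁ Proj.basicOpen (𝒮.deg V hV) (g ^ (d / e)) := ⟨_, rfl⟩
  have hTle : T ≤ p ⁻¹ᵁ V := by
    rw [hTdef]
    exact (Scheme.Hom.image_le_opensRange _ _).trans (RelProjQC.opensRange_emb p chart V hV).le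
  have hloc : CohB1.genLocus _ (TwistGen.ofSection (L.restrict (p ⁻¹ᵁ V).ι) (topSec L _ σ) ≫ ε.inv) =
      (p ⁻¹ᵁ V).ι ⁻¹ᵁ T := by
    refine (AmpleUnit.genLocus_comp_iso _ ε.symm).trans ?_
    ext y'
    obtain ⟨g', e', hg', he', hed', hz'⟩ := hcov ((chart V hV).hom.base y')
    rw [SetLike.mem_coe, mem_genLocus_iff hL hV (g ^ (d / e)) σ hσ _ hg' he' hed' hz' y' (hemb y')]
    show _ ↔ (p ⁻¹ᵁ V).ι y' ∈ T
    rw [hemb y', hTdef]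
    constructor
    · intro h
      exact ⟨_, (Proj.mem_basicOpen _ _ _).2 h, rfl⟩
    · rintro ⟨z'', hz'', heq⟩
      have : z'' = (chart V hV).hom.base y' := (RelProj.emb p chart V hV).isOpenEmbedding.injective heq
      rw [this] at hz''
      exact (Proj.mem_basicOpen _ _ _).1 hz''
  show y ∈ CohB1.genLocus (CohB1.tensorMod (Coh.structureModule _) (L.restrict (p ⁻¹ᵁ V).ι))
      (TwistGen.ofSection (L.restrict (p ⁻¹ᵁ V).ι) (topSec L _ σ) ≫ ε.inv) ∧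
    IsAffineOpen (CohB1.genLocus (CohB1.tensorMod (Coh.structureModule _) (L.restrict (p ⁻¹ᵁ V).ι))
      (TwistGen.ofSection (L.restrict (p ⁻¹ᵁ V).ι) (topSec L _ σ) ≫ ε.inv))
  rw [hloc]
  refine ⟨?_, ?_⟩
  · show (p ⁻¹ᵁ V).ι y ∈ T
    rw [hemb y, hTdef]
    refine ⟨_, ?_, rfl⟩
    rw [SetLike.mem_coe, Proj.mem_basicOpen]
    intro hmem
    exact (Proj.mem_basicOpen _ _ _).1 hz
      ((show ProjectiveSpectrum (𝒮.deg V hV) from (chart V hV).hom.base y).isPrime.mem_of_pow_mem _ hmem)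
  · have himg : (p ⁻¹ᵁ V).ι ''ᵁ ((p ⁻¹ᵁ V).ι ⁻¹ᵁ T) = T := by
      rw [Scheme.Hom.image_preimage_eq_opensRange_inf, Scheme.Opens.opensRange_ι]
      exact inf_eq_right.2 hTle
    rw [← Scheme.Hom.isAffineOpen_iff_of_isOpenImmersion (p ⁻¹ᵁ V).ι, himg, hTdef,
      Scheme.Hom.isAffineOpen_iff_of_isOpenImmersion]
    exact Proj.isAffineOpen_basicOpen (𝒮.deg V hV) _ ha hd

end rel

end Groth.Agent.Lib.Helper28.RelProjAmple
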