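import Groth.Agent.Lib.Helper28.PullbackInv2
import Groth.Agent.Lib.Helper28.AmpleLocal
import Groth.Agent.Lib.Helper28.RelProjAmple
import Groth.Agent.Lib.Helper28.AmpleGG
import Groth.Agent.Lib.Helper28.AmpleSep
import Groth.Agent.Lib.Helper28.InvQC

/-!
# An epimorphic counit `f^* f_* M ⟶ M` for an invertible module: local sections from the base generate
-/

set_option autoImplicit false
universe u
open CategoryTheory CategoryTheory.Limits AlgebraicGeometry Opposite TopologicalSpace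
noncomputable section

namespace Groth.Agent.Lib.Helper28.CounitGen

open Groth.Agent.Lib.Helper28 Groth.Agent.Lib.Helper28.QCohLoc Groth.Agent.Lib.Helper28.GenLocus
  Groth.Agent.Lib.Helper28.PullbackInv

variable {X : Scheme.{u}}

/-- a unit multiple of a generator is a generator -/
theorem isGen_smul_of_isUnit {L : X.Modules} {U : X.Opens} {g : Γ(L, U)} (hg : IsGen L U g) (c : Γ(X, U))
    (hc : IsUnit c) : IsGen L U (c • g : Γ(L, U)) := by
  intro W hW
  have hb := hg W hW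
  have hu : IsUnit (resO hW c) := hc.map (X.presheaf.map (homOfLE hW).op).hom
  have hfun : (fun c' : Γ(X, W) => (c' • res L hW (c • g : Γ(L, U)) : Γ(L, W))) =
      (fun c' : Γ(X, W) => (c' • res L hW g : Γ(L, W))) ∘ (fun c' : Γ(X, W) => c' * resO hW c) := by
    funext c'
    show (c' • res L hW (c • g : Γ(L, U)) : Γ(L, W)) = ((c' * resO hW c) • res L hW g : Γ(L, W))
    rw [res_smul, mul_smul]
  rw [hfun]
  refine hb.comp ?_
  obtain ⟨v, hv⟩ := hu
  have : (fun c' : Γ(X, W) => c' * resO hW c) = ⇑(Units.mulRight v) := by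
    funext c'
    rw [← hv]
    rfl
  rw [this]
  exact (Units.mulRight v).bijective

/-- sections over the empty open are equal -/
theorem eq_of_le_bot (M : X.Modules) {U : X.Opens} (hU : U ≤ ⊥) (x y : Γ(M, U)) : x = y := by
  refine eq_of_locally_eq M (fun i : Empty => Empty.elim i) U (fun i => Empty.elim i) ?_ x y
    (fun i => Empty.elim i)
  intro z hz
  exact absurd (hU hz) (by simp)


section counit

variable {Y : Scheme.{u}} (f : X ⟶ Y) (M : X.Modules)

/-- the counit is `pbLift` of the identity -/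
theorem counit_eq_pbLift :
    (Scheme.Modules.pullbackPushforwardAdjunction f).counit.app M =
      pbLift f (𝟙 ((Scheme.Modules.pushforward f).obj M)) := by
  unfold pbLift
  rw [Adjunction.homEquiv_counit, CategoryTheory.Functor.map_id, Category.id_comp]

theorem counit_app_pbs (V' : Y.Opens) (t : Γ(M, f ⁻¹ᵁ V')) :
    ((Scheme.Modules.pullbackPushforwardAdjunction f).counit.app M).app (f ⁻¹ᵁ V')
      (pbs f ((Scheme.Modules.pushforward f).obj M) V' t) = t := by
  rw [counit_eq_pbLift, pbLift_pbs]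
  rfl

/-- **if the counit `f^* f_* M ⟶ M` is an epimorphism and `M` is invertible, then near every point `M` is generated by
a section coming from an open of the base** -/
theorem exists_isGen_of_epi_counit (hM : PicF.IsInvertible M)
    [Epi ((Scheme.Modules.pullbackPushforwardAdjunction f).counit.app M)] (x₀ : X) :
    ∃ (V' : Y.Opens) (t : Γ(M, f ⁻¹ᵁ V')) (W : X.Opens) (hW : W ≤ f ⁻¹ᵁ V'),
      x₀ ∈ W ∧ IsGen M W (res M hW t) := by
  by_contra H
  push Not at H
  obtain ⟨W, γ, hxW, hγ⟩ := exists_isGen M hM x₀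
  have hi : ∀ p : Spec (X.residueField x₀), (X.fromSpecResidueField x₀) p = x₀ :=
    fun p => Scheme.fromSpecResidueField_apply x₀ p
  have hzero : (Scheme.Modules.pullbackPushforwardAdjunction f).counit.app M ≫
      (Scheme.Modules.pullbackPushforwardAdjunction (X.fromSpecResidueField x₀)).unit.app M = 0 := by
    refine pb_hom_ext f _ _ ?_
    intro V' t
    show ((Scheme.Modules.pullbackPushforwardAdjunction (X.fromSpecResidueField x₀)).unit.app M).app (f ⁻¹ᵁ V')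
      (((Scheme.Modules.pullbackPushforwardAdjunction f).counit.app M).app (f ⁻¹ᵁ V')
        (pbs f ((Scheme.Modules.pushforward f).obj M) V' t)) = 0
    rw [counit_app_pbs]
    show pbs (X.fromSpecResidueField x₀) M (f ⁻¹ᵁ V') t = 0
    by_cases hx : x₀ ∈ f ⁻¹ᵁ V'
    · have hc := hγ.coef_smul (inf_le_left : W ⊓ f ⁻¹ᵁ V' ≤ W)
        (res M (inf_le_right : W ⊓ f ⁻¹ᵁ V' ≤ f ⁻¹ᵁ V') t)
      obtain ⟨c, hcdef⟩ : ∃ c : Γ(X, W ⊓ f ⁻¹ᵁ V'), c = hγ.coef (inf_le_left : W ⊓ f ⁻¹ᵁ V' ≤ W)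
        (res M (inf_le_right : W ⊓ f ⁻¹ᵁ V' ≤ f ⁻¹ᵁ V') t) := ⟨_, rfl⟩
      rw [← hcdef] at hc
      have hxc : x₀ ∉ X.basicOpen c := by
        intro hxc
        have hle : X.basicOpen c ≤ W ⊓ f ⁻¹ᵁ V' := X.basicOpen_le c
        refine H V' t (X.basicOpen c) (hle.trans inf_le_right) hxc ?_
        have h1 : res M (hle.trans inf_le_right) t =
            (resO hle c • res M (hle.trans inf_le_left) γ : Γ(M, X.basicOpen c)) := by
          have h2 := congrArg (res M hle) hc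
          rw [res_smul, res_res, res_res] at h2
          exact h2.symm
        rw [h1]
        exact isGen_smul_of_isUnit (hγ.res _) _ (isUnit_resO_of_le_basicOpen c le_rfl)
      have hic : (X.fromSpecResidueField x₀).app (W ⊓ f ⁻¹ᵁ V') c = 0 := by
        have h1 := Scheme.preimage_basicOpen (X.fromSpecResidueField x₀) c
        have h2 : (X.fromSpecResidueField x₀) ⁻¹ᵁ X.basicOpen c = ⊥ := by
          ext p
          simp only [Opens.coe_bot, Set.mem_empty_iff_false, iff_false]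
          intro hp
          apply hxc
          have hp' : (X.fromSpecResidueField x₀) p ∈ X.basicOpen c := hp
          rwa [hi p] at hp'
        rw [h2] at h1
        exact (basicOpen_eq_bot_iff _).1 h1.symm
      have h3 : res _ ((X.fromSpecResidueField x₀).preimage_mono (inf_le_right : W ⊓ f ⁻¹ᵁ V' ≤ f ⁻¹ᵁ V'))
          (pbs (X.fromSpecResidueField x₀) M (f ⁻¹ᵁ V') t) = 0 := by
        rw [← pbs_res (X.fromSpecResidueField x₀) M (inf_le_right : W ⊓ f ⁻¹ᵁ V' ≤ f ⁻¹ᵁ V') t, ← hc, pbs_smul, hic,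
          zero_smul]
      refine AmpleLocal.res_injective_of_le _
        ((X.fromSpecResidueField x₀).preimage_mono (inf_le_right : W ⊓ f ⁻¹ᵁ V' ≤ f ⁻¹ᵁ V')) ?_
        (h3.trans (res_zero _ _).symm)
      intro p _
      show (X.fromSpecResidueField x₀) p ∈ W ⊓ f ⁻¹ᵁ V'
      rw [hi p]
      exact ⟨hxW, hx⟩
    · refine eq_of_le_bot _ ?_ _ _
      intro p hp
      exfalso
      apply hx
      have hp' : (X.fromSpecResidueField x₀) p ∈ f ⁻¹ᵁ V' := hp
      rwa [hi p] at hp'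
  have hu : (Scheme.Modules.pullbackPushforwardAdjunction (X.fromSpecResidueField x₀)).unit.app M = 0 := by
    have h1 : (Scheme.Modules.pullbackPushforwardAdjunction f).counit.app M ≫
        (Scheme.Modules.pullbackPushforwardAdjunction (X.fromSpecResidueField x₀)).unit.app M =
        (Scheme.Modules.pullbackPushforwardAdjunction f).counit.app M ≫ 0 := by rw [hzero, comp_zero]
    exact (cancel_epi _).1 h1
  have hpg : pbs (X.fromSpecResidueField x₀) M W γ = 0 := by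
    show ((Scheme.Modules.pullbackPushforwardAdjunction (X.fromSpecResidueField x₀)).unit.app M).app W γ = 0
    rw [hu]
    rfl
  have hgen := isGen_pbs (f := X.fromSpecResidueField x₀) hγ
  obtain ⟨p⟩ : Nonempty (Spec (X.residueField x₀)) := inferInstance
  have : Nonempty ((X.fromSpecResidueField x₀) ⁻¹ᵁ W : (Spec (X.residueField x₀)).Opens) := by
    refine ⟨⟨p, ?_⟩⟩
    show (X.fromSpecResidueField x₀) p ∈ W
    rw [hi p]
    exact hxW
  have hnt : Nontrivial Γ(Spec (X.residueField x₀), (X.fromSpecResidueField x₀) ⁻¹ᵁ W) :=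
    Scheme.component_nontrivial _ _
  have h01 := (hgen _ le_rfl).1 (a₁ := (1 : Γ(Spec (X.residueField x₀), (X.fromSpecResidueField x₀) ⁻¹ᵁ W)))
    (a₂ := 0) (by
      show ((1 : Γ(Spec (X.residueField x₀), (X.fromSpecResidueField x₀) ⁻¹ᵁ W)) • res _ le_rfl
          (pbs (X.fromSpecResidueField x₀) M W γ) : Γ((Scheme.Modules.pullback (X.fromSpecResidueField x₀)).obj M, (X.fromSpecResidueField x₀) ⁻¹ᵁ W)) =
        ((0 : Γ(Spec (X.residueField x₀), (X.fromSpecResidueField x₀) ⁻¹ᵁ W)) • res _ le_rfl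
          (pbs (X.fromSpecResidueField x₀) M W γ) : Γ((Scheme.Modules.pullback (X.fromSpecResidueField x₀)).obj M, (X.fromSpecResidueField x₀) ⁻¹ᵁ W))
      rw [hpg, res_zero, smul_zero, smul_zero])
  exact one_ne_zero h01

end counit


section extend

variable {Y : Scheme.{u}} (f : X ⟶ Y) (M : X.Modules)

/-- a section over `f⁻¹V'` generating near `x₀` gives, over an affine open `V ∋ f x₀` with `f⁻¹V` quasi-compact and
quasi-separated, a section over `f⁻¹V` generating near `x₀` -/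
theorem exists_section_isGen [M.IsQuasicoherent] (V : Y.Opens) (hV : IsAffineOpen V)
    (hUc : IsCompact ((f ⁻¹ᵁ V : X.Opens) : Set X)) (hUqs : IsQuasiSeparated ((f ⁻¹ᵁ V : X.Opens) : Set X))
    (x₀ : X) (hx₀ : x₀ ∈ f ⁻¹ᵁ V) (V' : Y.Opens) (t : Γ(M, f ⁻¹ᵁ V')) (W : X.Opens) (hW : W ≤ f ⁻¹ᵁ V')
    (hxW : x₀ ∈ W) (hgen : IsGen M W (res M hW t)) :
    ∃ (σ : Γ(M, f ⁻¹ᵁ V)) (W' : X.Opens) (hW' : W' ≤ f ⁻¹ᵁ V), x₀ ∈ W' ∧ IsGen M W' (res M hW' σ) := by
  have hfx : f x₀ ∈ V ⊓ V' := ⟨hx₀, hW hxW⟩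
  obtain ⟨r, hr, hxr⟩ := hV.exists_basicOpen_le (V := V ⊓ V') ⟨f x₀, hfx⟩ hx₀
  have hbo : X.basicOpen (f.app V r) = f ⁻¹ᵁ (Y.basicOpen r) := (Scheme.preimage_basicOpen f r).symm
  have hle' : X.basicOpen (f.app V r) ≤ f ⁻¹ᵁ V' := by
    rw [hbo]; exact f.preimage_mono (hr.trans inf_le_right)
  obtain ⟨n, σ, hσ⟩ := exists_pow_smul_eq_res_of_qcqs M hUc hUqs (f.app V r) (res M hle' t)
  have hxρ : x₀ ∈ X.basicOpen (f.app V r) := by rw [hbo]; exact hxr
  refine ⟨σ, W ⊓ X.basicOpen (f.app V r), inf_le_right.trans (X.basicOpen_le _), ⟨hxW, hxρ⟩, ?_⟩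
  have hu : IsUnit (resO (X.basicOpen_le (f.app V r)) (f.app V r)) := isUnit_resO_of_le_basicOpen _ le_rfl
  have hu2 : IsUnit (resO (inf_le_right : W ⊓ X.basicOpen (f.app V r) ≤ X.basicOpen (f.app V r))
      (resO (X.basicOpen_le (f.app V r)) (f.app V r) ^ n)) :=
    (hu.pow n).map (X.presheaf.map (homOfLE inf_le_right).op).hom
  have h1 : res M (inf_le_right.trans (X.basicOpen_le _) : W ⊓ X.basicOpen (f.app V r) ≤ f ⁻¹ᵁ V) σ =
      (resO (inf_le_right : W ⊓ X.basicOpen (f.app V r) ≤ X.basicOpen (f.app V r))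
        (resO (X.basicOpen_le (f.app V r)) (f.app V r) ^ n) •
        res M (inf_le_left : W ⊓ X.basicOpen (f.app V r) ≤ W) (res M hW t) :
          Γ(M, W ⊓ X.basicOpen (f.app V r))) := by
    have h2 := congrArg (res M (inf_le_right : W ⊓ X.basicOpen (f.app V r) ≤ X.basicOpen (f.app V r))) hσ
    rw [res_res, res_smul, res_res] at h2
    rw [res_res]
    exact h2
  rw [h1]
  exact isGen_smul_of_isUnit (hgen.res inf_le_left) _ hu2

end extend

section main

variable {Y : Scheme.{u}}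

/-- **`L` relatively ample, `L'` invertible with `f^* f_* (L'^n) ⟶ L'^n` an epimorphism for some `n > 0`: then `L ⊗ L'`
is relatively ample** -/
theorem isRelAmple_tensorMod_of_epi_counit (f : X ⟶ Y) [QuasiCompact f] (L L' : X.Modules)
    (hL : RelAmple.IsRelAmple f L) (hL' : PicF.IsInvertible L') (n : ℕ) (hn : 0 < n)
    (hepi : Epi ((Scheme.Modules.pullbackPushforwardAdjunction f).counit.app (CohB1.tensorPow L' n))) :
    RelAmple.IsRelAmple f (CohB1.tensorMod L L') := by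
  refine ⟨hL.1, fun V => ?_⟩
  have h1 := hL.2 V
  have hL'U : PicF.IsInvertible (L'.restrict (f ⁻¹ᵁ V.1).ι) := AmpleIso.isInvertible_restrict _ L' hL'
  obtain ⟨e⟩ := GenLocus.exists_restrict_tensorMod_iso L L' (f ⁻¹ᵁ V.1) h1.1 hL'U
  refine AmpleIso.isAmple_of_iso e.symm (GenLocus.isAmple_tensorMod_of_cover h1 hL'U fun x => ?_)
  obtain ⟨m, rfl⟩ : ∃ m, n = m + 1 := ⟨n - 1, by omega⟩
  have hM : PicF.IsInvertible (CohB1.tensorPow L' (m + 1)) := isInvertible_tensorPow hL' _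
  have : (CohB1.tensorPow L' (m + 1)).IsQuasicoherent := InvQC.isQuasicoherent_of_isInvertible _ hM
  have := hepi
  obtain ⟨V', t, W, hW, hxW, hgen⟩ :=
    exists_isGen_of_epi_counit f (CohB1.tensorPow L' (m + 1)) hM ((f ⁻¹ᵁ V.1).ι x)
  have hUc : IsCompact ((f ⁻¹ᵁ V.1 : X.Opens) : Set X) := f.isCompact_preimage V.2.isCompact
  have : (↑(f ⁻¹ᵁ V.1) : Scheme.{u}).IsSeparated := isSeparated_of_isAmple h1
  have hqs : QuasiSeparatedSpace ((↑(f ⁻¹ᵁ V.1) : Scheme.{u})) := inferInstance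
  have hUqs : IsQuasiSeparated ((f ⁻¹ᵁ V.1 : X.Opens) : Set X) :=
    (isQuasiSeparated_iff_quasiSeparatedSpace _ (f ⁻¹ᵁ V.1).isOpen).2 hqs
  obtain ⟨σ, W', hW', hxW', hgen'⟩ := exists_section_isGen f (CohB1.tensorPow L' (m + 1)) V.1 V.2 hUc hUqs _ x.2
    V' t W hW hxW hgen
  obtain ⟨ψ⟩ := exists_restrict_tensorPow_iso L' (f ⁻¹ᵁ V.1) hL'U (m + 1)
  refine ⟨m, TwistGen.ofSection _ (RelProjAmple.topSec _ _ σ) ≫ ψ.hom, ?_⟩
  rw [AmpleUnit.genLocus_comp_iso]
  refine le_genLocus_of_isGen_res _ ((f ⁻¹ᵁ V.1).ι ⁻¹ᵁ W') ?_ hxW'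
  rw [secOf_ofSection]
  have h2 := isGen_restrict_of_isGen (CohB1.tensorPow L' (m + 1)) (f ⁻¹ᵁ V.1)
    (V := (f ⁻¹ᵁ V.1).ι ⁻¹ᵁ W')
    (res (CohB1.tensorPow L' (m + 1)) ((f ⁻¹ᵁ V.1).ι.image_preimage_le W') (res _ hW' σ)) (hgen'.res _)
  have h3 : res ((CohB1.tensorPow L' (m + 1)).restrict (f ⁻¹ᵁ V.1).ι) (le_top : (f ⁻¹ᵁ V.1).ι ⁻¹ᵁ W' ≤ ⊤)
      (RelProjAmple.topSec (CohB1.tensorPow L' (m + 1)) (f ⁻¹ᵁ V.1) σ) =
      (show Γ((CohB1.tensorPow L' (m + 1)).restrict (f ⁻¹ᵁ V.1).ι, (f ⁻¹ᵁ V.1).ι ⁻¹ᵁ W') from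
        res (CohB1.tensorPow L' (m + 1)) ((f ⁻¹ᵁ V.1).ι.image_preimage_le W') (res _ hW' σ)) := by
    rw [restrict_res]
    unfold RelProjAmple.topSec
    show res _ _ (res _ _ σ) = res _ _ (res _ _ σ)
    rw [res_res, res_res]
  rw [h3]
  exact h2

end main

end Groth.Agent.Lib.Helper28.CounitGen
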