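import Groth.Agent.Lib.Helper28.SymPowB
import Groth.Agent.Lib.Helper28.RestrictAmple

set_option autoImplicit false
universe u
open CategoryTheory CategoryTheory.Limits AlgebraicGeometry Opposite TopologicalSpace
noncomputable section

namespace Groth.Agent.Lib.Helper28.SymPow

open Groth.Agent.Lib.Helper28 Groth.Agent.Lib.Helper28.QCohLoc Groth.Agent.Lib.Helper28.TraceAlg
open Groth.Agent.Lib.Helper28.GenLocus Groth.Agent.Lib.Helper28.SymAlg
open Groth.Agent.Lib.Helper28.RLPsi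

attribute [local instance] algAt

section genat

variable {X : Scheme.{u}} {M : X.Modules}

/-- a unit multiple of a generator is a generator -/
theorem isGen_smul_of_isUnit' {U : X.Opens} {g : Γ(M, U)} (hg : IsGen M U g) (c : Γ(X, U))
    (hc : IsUnit c) : IsGen M U (c • g : Γ(M, U)) := by
  intro W hW
  have hb := hg W hW
  have hu : IsUnit (resO hW c) := hc.map (X.presheaf.map (homOfLE hW).op).hom
  have hfun : (fun c' : Γ(X, W) => (c' • res M hW (c • g : Γ(M, U)) : Γ(M, W))) =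
      (fun c' : Γ(X, W) => (c' • res M hW g : Γ(M, W))) ∘ (fun c' : Γ(X, W) => c' * resO hW c) := by
    funext c'
    show (c' • res M hW (c • g : Γ(M, U)) : Γ(M, W)) = ((c' * resO hW c) • res M hW g : Γ(M, W))
    rw [res_smul, mul_smul]
  rw [hfun]
  refine hb.comp ?_
  obtain ⟨v, hv⟩ := hu
  have : (fun c' : Γ(X, W) => c' * resO hW c) = ⇑(Units.mulRight v) := by
    funext c'
    rw [← hv]
    rfl
  rw [this]
  exact (Units.mulRight v).bijective

theorem isUnit_coef_of_isGen' {W : X.Opens} {g g' : Γ(M, W)} (hg : IsGen M W g) (hg' : IsGen M W g') :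
    IsUnit (hg'.coef le_rfl g) := by
  refine IsUnit.of_mul_eq_one (hg.coef le_rfl g') ?_
  apply (hg W le_rfl).1
  show ((hg'.coef le_rfl g * hg.coef le_rfl g') • res M le_rfl g : Γ(M, W)) = ((1 : Γ(X, W)) • res M le_rfl g : Γ(M, W))
  have h1 : (hg.coef le_rfl g' • g : Γ(M, W)) = g' := by
    have := hg.coef_smul le_rfl g'
    rwa [res_self] at this
  have h2 : (hg'.coef le_rfl g • g' : Γ(M, W)) = g := by
    have := hg'.coef_smul le_rfl g
    rwa [res_self] at this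
  rw [res_self, mul_smul, h1, h2, one_smul]

/-- the section `σ` over `V` generates `M` near `x` -/
def GenAt (M : X.Modules) (V : X.Opens) (σ : Γ(M, V)) (x : X) : Prop :=
  ∃ (W : X.Opens) (hWV : W ≤ V), x ∈ W ∧ IsGen M W (res M hWV σ)

/-- generation near a point, in terms of the coefficient with respect to a local generator -/
theorem genAt_iff_mem_basicOpen (V : X.Opens) (σ : Γ(M, V)) {W : X.Opens} (hWV : W ≤ V) {γ : Γ(M, W)}
    (hγ : IsGen M W γ) (b : Γ(X, W)) (hb : res M hWV σ = (b • γ : Γ(M, W))) (x : X) (hxW : x ∈ W) :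
    GenAt M V σ x ↔ x ∈ X.basicOpen b := by
  constructor
  · rintro ⟨W', hW'V, hxW', hgen⟩
    have h1 : W ⊓ W' ≤ W := inf_le_left
    have h2 : W ⊓ W' ≤ W' := inf_le_right
    have hgen' : IsGen M (W ⊓ W') (res M (h1.trans hWV) σ) := by
      have := hgen.res h2
      rwa [res_res] at this
    have hγ' : IsGen M (W ⊓ W') (res M h1 γ) := hγ.res h1
    have hb' : res M (h1.trans hWV) σ = (resO h1 b • res M h1 γ : Γ(M, W ⊓ W')) := by
      rw [← res_res M hWV h1, hb, res_smul]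
    have hu := isUnit_coef_of_isGen' hgen' hγ'
    have hc : hγ'.coef le_rfl (res M (h1.trans hWV) σ) = resO h1 b := by
      apply hγ'.coef_eq
      rw [res_self]
      exact hb'.symm
    rw [hc] at hu
    exact le_basicOpen_of_isUnit_resO b h1 hu ⟨hxW, hxW'⟩
  · intro hx
    refine ⟨X.basicOpen b, (X.basicOpen_le b).trans hWV, hx, ?_⟩
    have hu : IsUnit (resO (X.basicOpen_le b) b) := isUnit_resO_of_le_basicOpen b le_rfl
    have h1 : res M ((X.basicOpen_le b).trans hWV) σ =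
        (resO (X.basicOpen_le b) b • res M (X.basicOpen_le b) γ : Γ(M, X.basicOpen b)) := by
      rw [← res_res M hWV (X.basicOpen_le b), hb, res_smul]
    rw [h1]
    exact isGen_smul_of_isUnit' (hγ.res (X.basicOpen_le b)) _ hu

/-- a section over an open `V`, as a global section of the restriction to `V` -/
def secOpen (V : X.Opens) (σ : Γ(M, V)) : Coh.structureModule (↑V : Scheme.{u}) ⟶ M.restrict V.ι :=
  TwistGen.ofSection (M.restrict V.ι)
    (show Γ(M.restrict V.ι, ⊤) from res M (le_of_eq (Scheme.Opens.ι_image_top V)) σ)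

theorem secOf_secOpen (V : X.Opens) (σ : Γ(M, V)) :
    secOf (secOpen V σ) =
      (show Γ(M.restrict V.ι, ⊤) from res M (le_of_eq (Scheme.Opens.ι_image_top V)) σ) := secOf_ofSection _

/-- **the locus of the section `σ|_V` on the open subscheme `V`** -/
theorem mem_genLocus_secOpen_iff (hM : PicF.IsInvertible M) (V : X.Opens) (σ : Γ(M, V))
    (y : (↑V : Scheme.{u})) :
    y ∈ CohB1.genLocus _ (secOpen V σ) ↔ GenAt M V σ (V.ι y) := by
  obtain ⟨W, g, hxW, hg⟩ := exists_isGen M hM (V.ι y)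
  let V' : (↑V : Scheme.{u}).Opens := V.ι ⁻¹ᵁ W
  have hyV : y ∈ V' := hxW
  have hle : V.ι ''ᵁ V' ≤ V := InvGen.image_le V V'
  let γ : Γ(M, V.ι ''ᵁ V') := res M (V.ι.image_preimage_le W) g
  have hγ : IsGen M (V.ι ''ᵁ V') γ := hg.res _
  have hγ' : IsGen (M.restrict V.ι) V' (show Γ(M.restrict V.ι, V') from γ) := isGen_restrict_of_isGen M V γ hγ
  let r : Γ(X, V.ι ''ᵁ V') := hγ.coef le_rfl (res M hle σ)
  have hr : res M hle σ = (r • γ : Γ(M, V.ι ''ᵁ V')) := by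
    have := hγ.coef_smul le_rfl (res M hle σ)
    rw [res_self] at this
    exact this.symm
  have hmem : V.ι y ∈ V.ι ''ᵁ V' := ⟨y, hyV, rfl⟩
  rw [genAt_iff_mem_basicOpen V σ hle hγ r hr (V.ι y) hmem]
  let r' : Γ((↑V : Scheme.{u}), V') := (V.ι.appIso V').hom r
  have hr'r : (V.ι.appIso V').inv r' = r := by
    show (V.ι.appIso V').inv ((V.ι.appIso V').hom r) = r
    rw [← CommRingCat.comp_apply, Iso.hom_inv_id]; rfl
  have h2 : CohB1.genLocus _ (secOpen V σ) ⊓ V' = (↑V : Scheme.{u}).basicOpen r' := by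
    refine genLocus_inf_eq (secOpen V σ) V' (show Γ(M.restrict V.ι, V') from γ) hγ' r' ?_
    rw [secOf_secOpen, restrict_smul, hr'r, ← hr]
    exact res_res M _ _ _
  have h3 : V.ι ''ᵁ ((↑V : Scheme.{u}).basicOpen r') = X.basicOpen r := by
    rw [Scheme.image_basicOpen, hr'r]
  have e1 : y ∈ CohB1.genLocus _ (secOpen V σ) ↔ y ∈ CohB1.genLocus _ (secOpen V σ) ⊓ V' :=
    ⟨fun h => ⟨h, hyV⟩, fun h => h.1⟩
  rw [e1, h2, ← h3, Scheme.Hom.apply_mem_image_iff]

end genat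

section nv

variable {X : Scheme.{u}} {L : X.Modules} [L.IsQuasicoherent]
  {𝒮 : RelProj.QCGrAlg X} {j : L ⟶ 𝒮.toModule} (hS : RelProj.IsGrSymAlg L 𝒮 j) (hL : PicF.IsInvertible L)

omit [L.IsQuasicoherent] in
theorem rS_rS {V V' V'' : X.Opens} (h : V' ≤ V) (h' : V'' ≤ V') (τ : 𝒮.presheaf.obj (op V)) :
    rS 𝒮 h' (rS 𝒮 h τ) = rS 𝒮 (h'.trans h) τ := by
  show (𝒮.presheaf.map (homOfLE h').op).hom ((𝒮.presheaf.map (homOfLE h).op).hom τ) = _
  rw [← CommRingCat.comp_apply, ← Functor.map_comp]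
  rfl

/-- the nonvanishing locus of a section of the algebra, regarded as of degree `k` -/
def NVloc (𝒮 : RelProj.QCGrAlg X) (k : ℕ) (V : X.Opens) (τ : 𝒮.presheaf.obj (op V)) : X.Opens :=
  ⨆ W : {W : X.affineOpens // ∃ hWV : (W.1 : X.Opens) ≤ V,
    ((𝒮.deg W.1 W.2 k : AddSubgroup (𝒮.presheaf.obj (op (W.1 : X.Opens)))) : Set (𝒮.presheaf.obj (op (W.1 : X.Opens)))) ⊆
      (Ideal.span {rS 𝒮 hWV τ} : Set (𝒮.presheaf.obj (op (W.1 : X.Opens))))},
    (W.1.1 : X.Opens)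

omit [L.IsQuasicoherent] in
theorem mem_NVloc_iff (k : ℕ) (V : X.Opens) (τ : 𝒮.presheaf.obj (op V)) (x : X) :
    x ∈ NVloc 𝒮 k V τ ↔ ∃ (W : X.Opens) (hW : IsAffineOpen W) (hWV : W ≤ V), x ∈ W ∧
      ((𝒮.deg W hW k : AddSubgroup (𝒮.presheaf.obj (op W))) : Set (𝒮.presheaf.obj (op W))) ⊆
        (Ideal.span {rS 𝒮 hWV τ} : Set (𝒮.presheaf.obj (op W))) := by
  constructor
  · intro h
    obtain ⟨⟨⟨W, hW⟩, hWV, hsub⟩, hxW⟩ := Opens.mem_iSup.1 h
    exact ⟨W, hW, hWV, hxW, hsub⟩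
  · rintro ⟨W, hW, hWV, hxW, hsub⟩
    exact Opens.mem_iSup.2 ⟨⟨⟨W, hW⟩, hWV, hsub⟩, hxW⟩

omit [L.IsQuasicoherent] in
theorem NVloc_le (k : ℕ) (V : X.Opens) (τ : 𝒮.presheaf.obj (op V)) : NVloc 𝒮 k V τ ≤ V := by
  intro x hx
  obtain ⟨W, -, hWV, hxW, -⟩ := (mem_NVloc_iff k V τ x).1 hx
  exact hWV hxW

include hS in
theorem mem_NVloc_iff_mem_basicOpen (k : ℕ) (V : X.Opens) (τ : 𝒮.presheaf.obj (op V)) {W : X.Opens}
    (hW : IsAffineOpen W) {g : Γ(L, W)} (hg : IsGen L W g) (hWV : W ≤ V) (b : Γ(X, W))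
    (hb : rS 𝒮 hWV τ = (𝒮.str.app (op W)).hom b * asR 𝒮.toQCAlg (j.app W g) ^ k) (x : X) (hxW : x ∈ W) :
    x ∈ NVloc 𝒮 k V τ ↔ x ∈ X.basicOpen b := by
  rw [mem_NVloc_iff]
  constructor
  · rintro ⟨V', hV', hV'V, hxV', hsub⟩
    refine mem_basicOpen_of_subset_span hS hg b k x hxW V' hV' hxV' (rS 𝒮 hV'V τ) (fun W'' h1 h2 => ?_) hsub
    rw [← hb, rS_rS, rS_rS]
  · intro hx
    refine ⟨X.basicOpen b, hW.basicOpen b, (X.basicOpen_le b).trans hWV, hx, ?_⟩
    have h := subset_span_of_basicOpen hS hW hg b k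
    rw [← hb, rS_rS] at h
    exact h

include hS in
/-- **the nonvanishing locus of `ρ_k(σ)` is the locus where `σ` generates `L^{⊗k}`** -/
theorem mem_NVloc_rho_iff (k : ℕ) (V : X.Opens) (σ : Γ(CohB1.tensorPow L k, V)) (x : X) :
    x ∈ NVloc 𝒮 k V (asR 𝒮.toQCAlg ((rho j hL k).app V σ)) ↔ GenAt (CohB1.tensorPow L k) V σ x := by
  by_cases hxV : x ∈ V
  · obtain ⟨W, g, hxW, hW, hg, hWV⟩ := exists_isGen_affine_le hL x V hxV
    have hc := (isGen_gpow hg k).coef_smul le_rfl (res (CohB1.tensorPow L k) hWV σ)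
    rw [res_self] at hc
    have hb : rS 𝒮 hWV (asR 𝒮.toQCAlg ((rho j hL k).app V σ)) =
        (𝒮.str.app (op W)).hom ((isGen_gpow hg k).coef le_rfl (res (CohB1.tensorPow L k) hWV σ)) *
          asR 𝒮.toQCAlg (j.app W g) ^ k := by
      have e : rS 𝒮 hWV (asR 𝒮.toQCAlg ((rho j hL k).app V σ)) =
          asR 𝒮.toQCAlg ((rho j hL k).app W (res (CohB1.tensorPow L k) hWV σ)) := by
        rw [app_res]
        rfl
      rw [e]
      conv_lhs => rw [← hc]
      exact asR_rho_smul_gpow hL k hg _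
    rw [mem_NVloc_iff_mem_basicOpen hS k V _ hW hg hWV _ hb x hxW,
      genAt_iff_mem_basicOpen V σ hWV (isGen_gpow hg k) _ hc.symm x hxW]
  · constructor
    · intro h
      exact absurd (NVloc_le k V _ h) hxV
    · rintro ⟨W, hWV, hxW, -⟩
      exact absurd (hWV hxW) hxV

end nv

end Groth.Agent.Lib.Helper28.SymPow
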