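import Groth.Agent.Lib.Helper28.AmpleSep

/-!
# Extension of sections over the locus of a section of an invertible module

On a scheme with a finite cover by affine charts of an invertible module `M` with quasi-compact pairwise
intersections, for a global section `s` of `M` and a function `a` on `X_s`, some `a • s^k` extends to a global section
of `M^k`.
-/

set_option autoImplicit false
universe u
open CategoryTheory CategoryTheory.Limits AlgebraicGeometry Opposite TopologicalSpace
noncomputable section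

namespace Groth.Agent.Lib.Helper28.GenLocus

open Groth.Agent.Lib.Helper28 Groth.Agent.Lib.Helper28.QCohLoc Groth.Agent.Lib.Helper28.TensorGen
  Groth.Agent.Lib.Helper28.InvTensor Groth.Agent.Lib.Helper28.AmpleUnit Groth.Agent.Lib.Helper28.TwistAmple

variable {X : Scheme.{u}}

theorem exists_uniform {I : Type*} [Finite I] (P : I → ℕ → Prop) (hP : ∀ i k, P i k → P i (k + 1))
    (h : ∀ i, ∃ k, P i k) : ∃ k, ∀ i, P i k := by
  classical
  haveI := Fintype.ofFinite I
  choose k hk using h
  refine ⟨Finset.univ.sup k, fun i => ?_⟩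
  have hle : k i ≤ Finset.univ.sup k := Finset.le_sup (Finset.mem_univ i)
  exact Nat.le_induction (hk i) (fun n _ hn => hP i n hn) _ hle

theorem resO_mul {U V : X.Opens} (h : V ≤ U) (x y : Γ(X, U)) : resO h (x * y) = resO h x * resO h y :=
  map_mul (X.presheaf.map (homOfLE h).op).hom x y

theorem resO_sub {U V : X.Opens} (h : V ≤ U) (x y : Γ(X, U)) : resO h (x - y) = resO h x - resO h y :=
  map_sub (X.presheaf.map (homOfLE h).op).hom x y

theorem resO_zero {U V : X.Opens} (h : V ≤ U) : resO h (0 : Γ(X, U)) = 0 :=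
  map_zero (X.presheaf.map (homOfLE h).op).hom

theorem exists_pow_mul_eq_resO {U W : X.Opens} (hU : IsAffineOpen U) (f : Γ(X, U)) (hW : W = X.basicOpen f)
    (hWU : W ≤ U) (x : Γ(X, W)) :
    ∃ (n : ℕ) (y : Γ(X, U)), resO hWU y = resO hWU f ^ n * x := by
  subst hW
  exact exists_eq_pow_mul_of_isAffineOpen X U hU f x

theorem exists_pow_mul_eq_zero {U W : X.Opens} (hU : IsCompact (U : Set X)) (x f : Γ(X, U))
    (hW : W = X.basicOpen f) (hWU : W ≤ U) (H : resO hWU x = 0) : ∃ n : ℕ, f ^ n * x = 0 := by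
  subst hW
  exact exists_pow_mul_eq_zero_of_res_basicOpen_eq_zero_of_isCompact X hU x f H

/-- **extension of `a • s^k` from `X_s` to `X`** -/
theorem exists_extension_of_charts {M : X.Modules} {I : Type*} [Finite I] (U : I → X.Opens)
    (hU : ∀ i, IsAffineOpen (U i)) (hcov : ∀ x : X, ∃ i, x ∈ U i)
    (hqs : ∀ i j, IsCompact ((U i ⊓ U j : X.Opens) : Set X))
    (g : ∀ i, Γ(M, U i)) (hg : ∀ i, IsGen M (U i) (g i))
    (s : Coh.structureModule X ⟶ M) (a : Γ(X, CohB1.genLocus M s)) :
    ∃ (k : ℕ) (t : Coh.structureModule X ⟶ CohB1.tensorPow M k),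
      res _ (le_top : CohB1.genLocus M s ≤ ⊤) (secOf t) =
        (a • gpow M (res M le_top (secOf s)) k : Γ(CohB1.tensorPow M k, CohB1.genLocus M s)) := by
  classical
  let r : ∀ i, Γ(X, U i) := fun i => (hg i).coef le_rfl (res M le_top (secOf s))
  have hr : ∀ i, res M (le_top : U i ≤ ⊤) (secOf s) = (r i • g i : Γ(M, U i)) := fun i => by
    have := (hg i).coef_smul le_rfl (res M le_top (secOf s))
    rw [res_self] at this
    exact this.symm
  have hD : ∀ i, CohB1.genLocus M s ⊓ U i = X.basicOpen (r i) := fun i =>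
    genLocus_inf_eq s (U i) (g i) (hg i) (r i) (hr i)
  -- Step 1: numerators
  have h1 : ∃ k, ∀ i, ∃ b : Γ(X, U i),
      resO (inf_le_right : CohB1.genLocus M s ⊓ U i ≤ U i) b =
        resO inf_le_right (r i) ^ k * resO (inf_le_left : CohB1.genLocus M s ⊓ U i ≤ _) a := by
    refine exists_uniform (fun i k => ∃ b : Γ(X, U i),
      resO (inf_le_right : CohB1.genLocus M s ⊓ U i ≤ U i) b =
        resO inf_le_right (r i) ^ k * resO (inf_le_left : CohB1.genLocus M s ⊓ U i ≤ _) a) ?_ ?_
    · rintro i k ⟨b, hb⟩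
      refine ⟨r i * b, ?_⟩
      rw [resO_mul, hb, pow_succ]
      ring
    · intro i
      obtain ⟨n, y, hy⟩ := exists_pow_mul_eq_resO (hU i) (r i) (hD i) inf_le_right (resO inf_le_left a)
      exact ⟨n, y, hy⟩
  obtain ⟨k, hk⟩ := h1
  choose b hb using hk
  -- Step 2: transition functions
  let c : ∀ i j, Γ(X, U i ⊓ U j) := fun i j => (hg j).coef inf_le_right (res M inf_le_left (g i))
  have hc : ∀ i j, res M (inf_le_left : U i ⊓ U j ≤ U i) (g i) =
      (c i j • res M inf_le_right (g j) : Γ(M, U i ⊓ U j)) := fun i j =>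
    ((hg j).coef_smul inf_le_right _).symm
  have hrc : ∀ i j, resO (inf_le_left : U i ⊓ U j ≤ U i) (r i) * c i j = resO inf_le_right (r j) := by
    intro i j
    apply ((hg j) _ inf_le_right).1
    show ((resO inf_le_left (r i) * c i j) • res M inf_le_right (g j) : Γ(M, U i ⊓ U j)) =
      (resO inf_le_right (r j) • res M inf_le_right (g j) : Γ(M, U i ⊓ U j))
    rw [mul_smul, ← hc, ← res_smul, ← res_smul, ← hr, ← hr, res_res, res_res]
  -- Step 2b: the local sections agree after multiplying by a power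
  have h2 : ∃ n, ∀ p : I × I, resO (inf_le_right : U p.1 ⊓ U p.2 ≤ U p.2) (r p.2) ^ n *
      (resO inf_le_left (b p.1) * c p.1 p.2 ^ k - resO inf_le_right (b p.2)) = 0 := by
    refine exists_uniform (fun (p : I × I) n => resO (inf_le_right : U p.1 ⊓ U p.2 ≤ U p.2) (r p.2) ^ n *
      (resO inf_le_left (b p.1) * c p.1 p.2 ^ k - resO inf_le_right (b p.2)) = 0) ?_ ?_
    · intro p n hn
      rw [pow_succ, mul_comm _ (resO inf_le_right (r p.2)), mul_assoc, hn, mul_zero]
    · rintro ⟨i, j⟩
      have hW : CohB1.genLocus M s ⊓ (U i ⊓ U j) =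
          X.basicOpen (resO (inf_le_right : U i ⊓ U j ≤ U j) (r j)) := by
        rw [basicOpen_resO, ← hD j]
        apply le_antisymm
        · exact le_inf inf_le_right (le_inf inf_le_left (inf_le_right.trans inf_le_right))
        · exact le_inf (inf_le_right.trans inf_le_left) inf_le_left
      refine exists_pow_mul_eq_zero (hqs i j) _ _ hW inf_le_right ?_
      have hWi : CohB1.genLocus M s ⊓ (U i ⊓ U j) ≤ CohB1.genLocus M s ⊓ U i :=
        le_inf inf_le_left (inf_le_right.trans inf_le_left)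
      have hWj : CohB1.genLocus M s ⊓ (U i ⊓ U j) ≤ CohB1.genLocus M s ⊓ U j :=
        le_inf inf_le_left (inf_le_right.trans inf_le_right)
      have ebi := congrArg (resO hWi) (hb i)
      have ebj := congrArg (resO hWj) (hb j)
      have erc := congrArg (resO (inf_le_right : CohB1.genLocus M s ⊓ (U i ⊓ U j) ≤ U i ⊓ U j)) (hrc i j)
      rw [resO_mul, resO_pow, resO_resO, resO_resO, resO_resO] at ebi ebj
      rw [resO_mul, resO_resO, resO_resO] at erc
      rw [resO_sub, resO_mul, resO_pow, resO_resO, resO_resO, ebi, ebj, ← erc]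
      ring
  obtain ⟨n, hn⟩ := h2
  -- Step 3: the local sections
  let t' : ∀ i, Γ(CohB1.tensorPow M (k + n), U i) := fun i =>
    ((r i ^ n * b i) • gpow M (g i) (k + n) : Γ(CohB1.tensorPow M (k + n), U i))
  have hagree : ∀ i j, res _ (inf_le_left : U i ⊓ U j ≤ U i) (t' i) = res _ (inf_le_right : U i ⊓ U j ≤ U j) (t' j) := by
    intro i j
    show res _ (inf_le_left : U i ⊓ U j ≤ U i)
        ((r i ^ n * b i) • gpow M (g i) (k + n) : Γ(CohB1.tensorPow M (k + n), U i)) =
      res _ (inf_le_right : U i ⊓ U j ≤ U j)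
        ((r j ^ n * b j) • gpow M (g j) (k + n) : Γ(CohB1.tensorPow M (k + n), U j))
    rw [res_smul, res_smul, gpow_res, gpow_res, hc, gpow_smul, ← mul_smul, resO_mul, resO_mul, resO_pow, resO_pow]
    congr 1
    have h3 := hn (i, j)
    rw [mul_sub, sub_eq_zero] at h3
    calc resO inf_le_left (r i) ^ n * resO inf_le_left (b i) * c i j ^ (k + n)
        = (resO inf_le_left (r i) * c i j) ^ n * (resO inf_le_left (b i) * c i j ^ k) := by ring
      _ = resO inf_le_right (r j) ^ n * (resO inf_le_left (b i) * c i j ^ k) := by rw [hrc]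
      _ = resO inf_le_right (r j) ^ n * resO inf_le_right (b j) := h3
  -- Step 4: glue
  obtain ⟨z, hz⟩ := exists_gluing (CohB1.tensorPow M (k + n)) U ⊤ (fun i => le_top)
    (fun x _ => Opens.mem_iSup.2 (hcov x)) t' hagree
  refine ⟨k + n, TwistGen.ofSection _ z, ?_⟩
  rw [secOf_ofSection]
  refine eq_of_locally_eq (CohB1.tensorPow M (k + n)) (fun i => CohB1.genLocus M s ⊓ U i) _
    (fun i => inf_le_left) (fun x hx => ?_) _ _ (fun i => ?_)
  · obtain ⟨i, hi⟩ := hcov x
    exact Opens.mem_iSup.2 ⟨i, ⟨hx, hi⟩⟩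
  · have e1 : res (CohB1.tensorPow M (k + n)) (inf_le_left : CohB1.genLocus M s ⊓ U i ≤ _)
        (res _ (le_top : CohB1.genLocus M s ≤ ⊤) z) =
        res _ (inf_le_right : CohB1.genLocus M s ⊓ U i ≤ U i) (t' i) := by
      rw [res_res, ← hz i, res_res]
    have e2 : res M (inf_le_left : CohB1.genLocus M s ⊓ U i ≤ _) (res M le_top (secOf s)) =
        (resO (inf_le_right : CohB1.genLocus M s ⊓ U i ≤ U i) (r i) •
          res M (inf_le_right : CohB1.genLocus M s ⊓ U i ≤ U i) (g i) : Γ(M, CohB1.genLocus M s ⊓ U i)) := by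
      rw [res_res, ← res_smul, ← hr, res_res]
    have eR : res (CohB1.tensorPow M (k + n)) (inf_le_left : CohB1.genLocus M s ⊓ U i ≤ _)
        (a • gpow M (res M le_top (secOf s)) (k + n) : Γ(CohB1.tensorPow M (k + n), CohB1.genLocus M s)) =
        ((resO (inf_le_left : CohB1.genLocus M s ⊓ U i ≤ _) a *
          resO (inf_le_right : CohB1.genLocus M s ⊓ U i ≤ U i) (r i) ^ (k + n)) •
          gpow M (res M (inf_le_right : CohB1.genLocus M s ⊓ U i ≤ U i) (g i)) (k + n) :
          Γ(CohB1.tensorPow M (k + n), CohB1.genLocus M s ⊓ U i)) := by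
      rw [res_smul, gpow_res, e2, gpow_smul, ← mul_smul]
    have eL : res (CohB1.tensorPow M (k + n)) (inf_le_right : CohB1.genLocus M s ⊓ U i ≤ U i) (t' i) =
        ((resO (inf_le_right : CohB1.genLocus M s ⊓ U i ≤ U i) (r i) ^ n *
          resO (inf_le_right : CohB1.genLocus M s ⊓ U i ≤ U i) (b i)) •
          gpow M (res M (inf_le_right : CohB1.genLocus M s ⊓ U i ≤ U i) (g i)) (k + n) :
          Γ(CohB1.tensorPow M (k + n), CohB1.genLocus M s ⊓ U i)) := by
      show res _ (inf_le_right : CohB1.genLocus M s ⊓ U i ≤ U i)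
        ((r i ^ n * b i) • gpow M (g i) (k + n) : Γ(CohB1.tensorPow M (k + n), U i)) = _
      rw [res_smul, gpow_res, resO_mul, resO_pow]
    rw [e1, eL, eR, hb i]
    congr 1
    ring

end Groth.Agent.Lib.Helper28.GenLocus
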