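import Groth.Agent.Lib.Helper28.TwistGG
import Groth.Agent.Lib.Helper28.QCohPush
import Groth.Agent.Lib.Helper28.RestrictGen
import Groth.Prelude.Def_ProjUP

/-!
# Inverse images of invertible modules

For `f : X ⟶ Y` and a `Y`-module `M`:
* `pbs f M U y`: the inverse image of a local section `y ∈ Γ(M, U)`, a section of `f^* M` over `f⁻¹ U` (the unit of the
  adjunction); it is additive, semilinear, compatible with restrictions and natural in `M`; `ProjUP.pullSec` is the
  case `U = ⊤`.
* `pb_hom_ext`, `pbLift`: morphisms out of `f^* M` are determined by / can be defined by their values on the `pbs y`.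
* `isGen_pbs`: if `γ` generates `M` over `U`, then `pbs γ` generates `f^* M` over `f⁻¹ U`.
-/

set_option autoImplicit false
universe u
open CategoryTheory CategoryTheory.Limits AlgebraicGeometry Opposite TopologicalSpace
noncomputable section

namespace Groth.Agent.Lib.Helper28.PullbackInv

open Groth.Agent.Lib.Helper28 Groth.Agent.Lib.Helper28.QCohLoc Groth.Agent.Lib.Helper28.GenLocus

section Cut
variable {X : Scheme.{u}} (O : X.Opens) (N : X.Modules)

/-- `W ∩ O`, in the form in which it appears in sections of `j_* j^* N` -/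
abbrev cut (W : X.Opens) : X.Opens := O.ι ''ᵁ (O.ι ⁻¹ᵁ W)

theorem cut_eq_inf (W : X.Opens) : cut O W = O ⊓ W := by
  unfold cut
  rw [Scheme.Hom.image_preimage_eq_opensRange_inf, Scheme.Opens.opensRange_ι]

theorem cut_le_left (W : X.Opens) : cut O W ≤ W := by rw [cut_eq_inf]; exact inf_le_right
theorem cut_le_right (W : X.Opens) : cut O W ≤ O := by rw [cut_eq_inf]; exact inf_le_left
theorem cut_eq {W : X.Opens} (h : W ≤ O) : cut O W = W := by rw [cut_eq_inf]; exact inf_eq_right.2 h
theorem cut_mono {W W' : X.Opens} (h : W' ≤ W) : cut O W' ≤ cut O W :=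
  O.ι.image_mono (O.ι.preimage_mono h)

/-- `j_* j^* N` for the inclusion `j` of the open `O` -/
def cutMod : X.Modules := (Scheme.Modules.pushforward O.ι).obj (N.restrict O.ι)

theorem cutMod_res {W W' : X.Opens} (h : W' ≤ W) (z : Γ(cutMod O N, W)) :
    res (cutMod O N) h z = res N (cut_mono O h) (show Γ(N, cut O W) from z) := rfl

theorem cutMod_smul {W : X.Opens} (b : Γ(X, W)) (z : Γ(cutMod O N, W)) :
    (b • z : Γ(cutMod O N, W)) = (resO (cut_le_left O W) b • (show Γ(N, cut O W) from z) : Γ(N, cut O W)) := by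
  show ((O.ι.appIso (O.ι ⁻¹ᵁ W)).inv (O.ι.app W b) • (show Γ(N, cut O W) from z) : Γ(N, cut O W)) = _
  congr 1
  have h := congrArg (fun φ => φ.hom b) (Scheme.Hom.app_appIso_inv O.ι W)
  exact h

end Cut

variable {X Y : Scheme.{u}} (f : X ⟶ Y) (M : Y.Modules)

/-- the inverse image of a local section -/
def pbs (U : Y.Opens) (y : Γ(M, U)) : Γ((Scheme.Modules.pullback f).obj M, f ⁻¹ᵁ U) :=
  ((Scheme.Modules.pullbackPushforwardAdjunction f).unit.app M).app U y

theorem pbs_add (U : Y.Opens) (y y' : Γ(M, U)) : pbs f M U (y + y') = pbs f M U y + pbs f M U y' :=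
  map_add _ _ _

theorem pbs_smul (U : Y.Opens) (a : Γ(Y, U)) (y : Γ(M, U)) :
    pbs f M U (a • y : Γ(M, U)) = (f.app U a • pbs f M U y : Γ((Scheme.Modules.pullback f).obj M, f ⁻¹ᵁ U)) := by
  unfold pbs
  rw [Scheme.Modules.Hom.app_smul]
  rfl

theorem pbs_res {U V : Y.Opens} (h : V ≤ U) (y : Γ(M, U)) :
    pbs f M V (res M h y) = res _ (f.preimage_mono h) (pbs f M U y) := by
  exact app_res ((Scheme.Modules.pullbackPushforwardAdjunction f).unit.app M) h y

theorem pullSec_eq (s : ProjUP.Γm M) : ProjUP.pullSec f M s = pbs f M ⊤ s := rfl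

variable {M} in
theorem pbs_map {M' : Y.Modules} (φ : M ⟶ M') (U : Y.Opens) (y : Γ(M, U)) :
    ((Scheme.Modules.pullback f).map φ).app (f ⁻¹ᵁ U) (pbs f M U y) = pbs f M' U (φ.app U y) := by
  have h := (Scheme.Modules.pullbackPushforwardAdjunction f).unit.naturality φ
  have h2 := congrArg (fun θ => (Scheme.Modules.Hom.app θ U) y) h
  exact h2.symm

variable {M} in
theorem pb_hom_ext {N : X.Modules} (ψ ψ' : (Scheme.Modules.pullback f).obj M ⟶ N)
    (h : ∀ (U : Y.Opens) (y : Γ(M, U)), ψ.app (f ⁻¹ᵁ U) (pbs f M U y) = ψ'.app (f ⁻¹ᵁ U) (pbs f M U y)) :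
    ψ = ψ' := by
  apply ((Scheme.Modules.pullbackPushforwardAdjunction f).homEquiv M N).injective
  rw [Adjunction.homEquiv_unit, Adjunction.homEquiv_unit]
  apply Scheme.Modules.hom_ext
  intro U
  ext y
  exact h U y

variable {M} in
/-- the morphism `f^* M ⟶ N` adjoint to `φ : M ⟶ f_* N` -/
def pbLift {N : X.Modules} (φ : M ⟶ (Scheme.Modules.pushforward f).obj N) :
    (Scheme.Modules.pullback f).obj M ⟶ N :=
  ((Scheme.Modules.pullbackPushforwardAdjunction f).homEquiv M N).symm φ

variable {M} in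
theorem pbLift_pbs {N : X.Modules} (φ : M ⟶ (Scheme.Modules.pushforward f).obj N) (U : Y.Opens) (y : Γ(M, U)) :
    (pbLift f φ).app (f ⁻¹ᵁ U) (pbs f M U y) = φ.app U y := by
  have h : (Scheme.Modules.pullbackPushforwardAdjunction f).homEquiv M N (pbLift f φ) = φ :=
    Equiv.apply_symm_apply _ φ
  rw [Adjunction.homEquiv_unit] at h
  have h2 := congrArg (fun θ => (Scheme.Modules.Hom.app θ U) y) h
  exact h2


section Gen

variable {f M} {U : Y.Opens} {γ : Γ(M, U)} (hγ : IsGen M U γ)

theorem cut_le_preimage (V : Y.Opens) : cut (f ⁻¹ᵁ U) (f ⁻¹ᵁ V) ≤ f ⁻¹ᵁ (V ⊓ U) :=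
  le_inf (cut_le_left _ _) (cut_le_right _ _)

/-- the coefficient of `y` with respect to `γ`, pulled back to `X` -/
def coefr (V : Y.Opens) (y : Γ(M, V)) : Γ(X, cut (f ⁻¹ᵁ U) (f ⁻¹ᵁ V)) :=
  resO (cut_le_preimage V) (f.app (V ⊓ U) (hγ.coef inf_le_right (res M inf_le_left y)))

theorem coefr_add (V : Y.Opens) (y y' : Γ(M, V)) : coefr (f := f) hγ V (y + y') = coefr hγ V y + coefr hγ V y' := by
  unfold coefr
  rw [res_add, hγ.coef_add, map_add]
  exact map_add _ _ _

theorem coefr_smul (V : Y.Opens) (a : Γ(Y, V)) (y : Γ(M, V)) :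
    coefr (f := f) hγ V (a • y : Γ(M, V)) = resO (cut_le_left _ _) (f.app V a) * coefr hγ V y := by
  unfold coefr
  rw [res_smul, hγ.coef_smul_left, map_mul, app_resO, resO_mul, resO_resO]

theorem coefr_res {V V' : Y.Opens} (h : V' ≤ V) (y : Γ(M, V)) :
    coefr (f := f) hγ V' (res M h y) = resO (cut_mono _ (f.preimage_mono h)) (coefr hγ V y) := by
  unfold coefr
  have h1 : res M (inf_le_left : V' ⊓ U ≤ V') (res M h y) =
      res M (inf_le_inf_right U h) (res M (inf_le_left : V ⊓ U ≤ V) y) := by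
    rw [res_res, res_res]
  rw [h1, hγ.coef_res inf_le_right (inf_le_inf_right U h), app_resO, resO_resO, resO_resO]

theorem coefr_self : coefr (f := f) hγ U γ = 1 := by
  unfold coefr
  rw [hγ.coef_res_self, map_one]
  exact map_one _

/-- the coefficient morphism `M ⟶ f_* j_* O` -/
def coefData : LocalHomData M ((Scheme.Modules.pushforward f).obj (cutMod (f ⁻¹ᵁ U) (Coh.structureModule X))) where
  B := fun _ => True
  down := fun _ _ _ _ => trivial
  cov := fun _ => ⟨⊤, trivial, trivial⟩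
  φ := fun V _ y => coefr hγ V y
  add := fun V _ y y' => coefr_add hγ V y y'
  smul := fun V _ a y => by
    refine (coefr_smul hγ V a y).trans ?_
    exact (cutMod_smul (f ⁻¹ᵁ U) (Coh.structureModule X) (f.app V a) (coefr hγ V y)).symm
  nat := fun V _ V' h y => coefr_res hγ h y

/-- the morphism `f^* M ⟶ j_* O` dual to `pbs γ` -/
def dualHom : (Scheme.Modules.pullback f).obj M ⟶ cutMod (f ⁻¹ᵁ U) (Coh.structureModule X) :=
  pbLift f (coefData (f := f) hγ).hom

theorem dualHom_pbs (V : Y.Opens) (y : Γ(M, V)) :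
    (dualHom (f := f) hγ).app (f ⁻¹ᵁ V) (pbs f M V y) = coefr hγ V y := by
  unfold dualHom
  rw [pbLift_pbs]
  exact (coefData (f := f) hγ).hom_app V trivial y

/-- the restriction morphism `N ⟶ j_* j^* N` -/
def cutUnit {X : Scheme.{u}} (O : X.Opens) (N : X.Modules) : LocalHomData N (cutMod O N) where
  B := fun _ => True
  down := fun _ _ _ _ => trivial
  cov := fun _ => ⟨⊤, trivial, trivial⟩
  φ := fun W _ z => res N (cut_le_left O W) z
  add := fun W _ z z' => res_add N _ z z'
  smul := fun W _ b z => by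
    refine (res_smul N _ b z).trans ?_
    exact (cutMod_smul O N b (res N (cut_le_left O W) z)).symm
  nat := fun W _ W' h z => by
    show res N (cut_le_left O W') (res N h z) = res N (cut_mono O h) (res N (cut_le_left O W) z)
    rw [res_res, res_res]

/-- `ψ(z)` as a function on `W ∩ f⁻¹U` -/
def dualr (W : X.Opens) (z : Γ((Scheme.Modules.pullback f).obj M, W)) : Γ(X, cut (f ⁻¹ᵁ U) W) :=
  (dualHom (f := f) hγ).app W z

theorem dualr_add (W : X.Opens) (z z' : Γ((Scheme.Modules.pullback f).obj M, W)) :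
    dualr (f := f) hγ W (z + z') = dualr hγ W z + dualr hγ W z' := by
  unfold dualr
  rw [map_add]
  rfl

theorem dualr_smul (W : X.Opens) (b : Γ(X, W)) (z : Γ((Scheme.Modules.pullback f).obj M, W)) :
    dualr (f := f) hγ W (b • z : Γ((Scheme.Modules.pullback f).obj M, W)) =
      resO (cut_le_left _ _) b * dualr hγ W z := by
  unfold dualr
  rw [Scheme.Modules.Hom.app_smul, cutMod_smul]
  rfl

theorem dualr_res {W W' : X.Opens} (h : W' ≤ W) (z : Γ((Scheme.Modules.pullback f).obj M, W)) :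
    dualr (f := f) hγ W' (res _ h z) = resO (cut_mono _ h) (dualr hγ W z) := by
  unfold dualr
  rw [app_res, cutMod_res]
  rfl

theorem dualr_pbs (V : Y.Opens) (y : Γ(M, V)) : dualr (f := f) hγ (f ⁻¹ᵁ V) (pbs f M V y) = coefr hγ V y :=
  dualHom_pbs hγ V y

/-- `z ↦ ψ(z) • pbs γ` -/
def betaφ (W : X.Opens) (z : Γ((Scheme.Modules.pullback f).obj M, W)) :
    Γ((Scheme.Modules.pullback f).obj M, cut (f ⁻¹ᵁ U) W) :=
  (dualr (f := f) hγ W z • res _ (cut_le_right (f ⁻¹ᵁ U) W) (pbs f M U γ) :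
    Γ((Scheme.Modules.pullback f).obj M, cut (f ⁻¹ᵁ U) W))

theorem betaφ_add (W : X.Opens) (z z' : Γ((Scheme.Modules.pullback f).obj M, W)) :
    betaφ (f := f) hγ W (z + z') = betaφ hγ W z + betaφ hγ W z' := by
  unfold betaφ
  rw [dualr_add, add_smul]

theorem betaφ_smul (W : X.Opens) (b : Γ(X, W)) (z : Γ((Scheme.Modules.pullback f).obj M, W)) :
    betaφ (f := f) hγ W (b • z : Γ((Scheme.Modules.pullback f).obj M, W)) =
      (resO (cut_le_left (f ⁻¹ᵁ U) W) b • betaφ hγ W z :
        Γ((Scheme.Modules.pullback f).obj M, cut (f ⁻¹ᵁ U) W)) := by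
  unfold betaφ
  rw [dualr_smul, mul_smul]

theorem betaφ_res {W W' : X.Opens} (h : W' ≤ W) (z : Γ((Scheme.Modules.pullback f).obj M, W)) :
    betaφ (f := f) hγ W' (res _ h z) = res _ (cut_mono _ h) (betaφ hγ W z) := by
  unfold betaφ
  rw [dualr_res, res_smul, res_res]

/-- `z ↦ ψ(z) • pbs γ` as local data -/
def cutBeta : LocalHomData ((Scheme.Modules.pullback f).obj M)
    (cutMod (f ⁻¹ᵁ U) ((Scheme.Modules.pullback f).obj M)) where
  B := fun _ => True
  down := fun _ _ _ _ => trivial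
  cov := fun _ => ⟨⊤, trivial, trivial⟩
  φ := fun W _ z => betaφ hγ W z
  add := fun W _ z z' => betaφ_add hγ W z z'
  smul := fun W _ b z => by
    refine (betaφ_smul hγ W b z).trans ?_
    exact (cutMod_smul (f ⁻¹ᵁ U) _ b (betaφ hγ W z)).symm
  nat := fun W _ W' h z => betaφ_res hγ h z

theorem cutUnit_eq_cutBeta :
    (cutUnit (f ⁻¹ᵁ U) ((Scheme.Modules.pullback f).obj M)).hom = (cutBeta (f := f) hγ).hom := by
  apply pb_hom_ext
  intro V y
  rw [(cutUnit (f ⁻¹ᵁ U) ((Scheme.Modules.pullback f).obj M)).hom_app _ trivial,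
    (cutBeta (f := f) hγ).hom_app _ trivial]
  show res _ (cut_le_left (f ⁻¹ᵁ U) (f ⁻¹ᵁ V)) (pbs f M V y) = betaφ hγ (f ⁻¹ᵁ V) (pbs f M V y)
  unfold betaφ
  rw [dualr_pbs]
  unfold coefr
  have h1 : res M (inf_le_left : V ⊓ U ≤ V) y =
      (hγ.coef inf_le_right (res M inf_le_left y) • res M (inf_le_right : V ⊓ U ≤ U) γ : Γ(M, V ⊓ U)) :=
    (hγ.coef_smul inf_le_right _).symm
  have h2 := congrArg (pbs f M (V ⊓ U)) h1
  rw [pbs_smul, pbs_res, pbs_res] at h2
  have h3 := congrArg (res _ (cut_le_preimage (f := f) (U := U) V)) h2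
  rw [res_res, res_smul, res_res] at h3
  exact h3

theorem dualr_zero (W : X.Opens) : dualr (f := f) hγ W 0 = 0 := by
  have h := dualr_add (f := f) hγ W 0 0
  rw [add_zero] at h
  exact left_eq_add.1 h

include hγ in
/-- **the inverse image of a local generator is a local generator** -/
theorem isGen_pbs : IsGen ((Scheme.Modules.pullback f).obj M) (f ⁻¹ᵁ U) (pbs f M U γ) := by
  intro W hW
  have e : cut (f ⁻¹ᵁ U) W = W := cut_eq _ hW
  have hle : W ≤ cut (f ⁻¹ᵁ U) W := le_of_eq e.symm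
  have hone : dualr (f := f) hγ W (res _ hW (pbs f M U γ)) = 1 := by
    rw [dualr_res, dualr_pbs, coefr_self]
    exact map_one _
  constructor
  · intro c c' hcc
    have hd : ((c - c') • res _ hW (pbs f M U γ) : Γ((Scheme.Modules.pullback f).obj M, W)) = 0 := by
      rw [sub_smul]; exact sub_eq_zero.2 hcc
    have h1 := congrArg (dualr (f := f) hγ W) hd
    rw [dualr_smul, hone, mul_one, dualr_zero] at h1
    have h2 := congrArg (resO hle) h1
    rw [resO_resO, resO_zero] at h2
    have h3 : resO (le_refl W) (c - c') = c - c' := by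
      unfold resO
      rw [show (homOfLE (le_refl W)) = 𝟙 W from rfl, op_id, X.presheaf.map_id]
      rfl
    rw [h3] at h2
    exact sub_eq_zero.1 h2
  · intro z
    have h1 := congrArg (fun θ => (Scheme.Modules.Hom.app θ W) z) (cutUnit_eq_cutBeta (f := f) hγ)
    have h2 : res _ (cut_le_left (f ⁻¹ᵁ U) W) z = betaφ hγ W z := by
      have ha := (cutUnit (f ⁻¹ᵁ U) ((Scheme.Modules.pullback f).obj M)).hom_app W trivial z
      have hb := (cutBeta (f := f) hγ).hom_app W trivial z
      exact ha.symm.trans (h1.trans hb)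
    have h3 := congrArg (res _ hle) h2
    unfold betaφ at h3
    rw [res_res, res_self, res_smul, res_res] at h3
    exact ⟨resO hle (dualr hγ W z), h3.symm⟩

end Gen

end Groth.Agent.Lib.Helper28.PullbackInv
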