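import Mathlib.RingTheory.GradedAlgebra.Homogeneous.Ideal
import Mathlib.RingTheory.GradedAlgebra.HomogeneousLocalization
import Mathlib.AlgebraicGeometry.ProjectiveSpectrum.Topology
import Mathlib.Algebra.Module.GradedModule
import Mathlib.RingTheory.Finiteness.Ideal

/-!
# Conditions (TN) and (TF) for graded modules: pure algebra

For a graded ring `𝒜` whose irrelevant ideal is finitely generated and generated by the degree-one part, and a
graded module `ℳ` with (TF), local nilpotence of the action of homogeneous elements of positive degree forces (TN).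
-/

set_option autoImplicit false
universe u
open DirectSum

namespace Groth.Agent.Lib.Helper28.GrTN

variable {A σ : Type u} [CommRing A] [SetLike σ A] [AddSubgroupClass σ A] (𝒜 : ℕ → σ) [GradedRing 𝒜]
variable {M τ : Type u} [AddCommGroup M] [Module A M] [SetLike τ M] [AddSubgroupClass τ M] (ℳ : ℕ → τ)
  [DirectSum.Decomposition ℳ] [SetLike.GradedSMul 𝒜 ℳ]

/-- (TN) implies that every homogeneous element of positive degree acts locally nilpotently. -/
theorem nilp_of_TN (n : ℕ) (hTN : ∀ k : ℕ, n ≤ k → ∀ m : M, m ∈ ℳ k → m = 0)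
    (z : M) (d : ℕ) (f : A) (hd : 0 < d) (hf : f ∈ 𝒜 d) : ∃ k : ℕ, f ^ k • z = 0 := by
  classical
  refine ⟨n, ?_⟩
  rw [← DirectSum.sum_support_decompose ℳ z, Finset.smul_sum]
  refine Finset.sum_eq_zero fun i _ => ?_
  have h1 : f ^ n ∈ 𝒜 (n • d) := SetLike.pow_mem_graded n hf
  have h2 : f ^ n • (decompose ℳ z i : M) ∈ ℳ (n • d + i) :=
    SetLike.GradedSMul.smul_mem h1 (decompose ℳ z i).2
  refine hTN _ ?_ _ h2
  have : n ≤ n • d := by rw [smul_eq_mul]; exact Nat.le_mul_of_pos_right n hd
  omega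

/-- the component of `a • m` in degree `k + i`, for `m` homogeneous of degree `i` -/
theorem decompose_smul_add {i : ℕ} (a : A) (m : M) (hm : m ∈ ℳ i) (k : ℕ) :
    (decompose ℳ (a • m) (k + i) : M) = (decompose 𝒜 a k : A) • m := by
  classical
  have hsum : a • m = ∑ j ∈ (decompose 𝒜 a).support, ((decompose 𝒜 a j : A)) • m := by
    conv_lhs => rw [← DirectSum.sum_support_decompose 𝒜 a]
    rw [Finset.sum_smul]
  have hmem : ∀ j, ((decompose 𝒜 a j : A)) • m ∈ ℳ (j + i) := fun j =>
    SetLike.GradedSMul.smul_mem (decompose 𝒜 a j).2 hm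
  rw [hsum, decompose_sum]
  rw [DFinsupp.finsetSum_apply, AddSubmonoidClass.coe_finsetSum]
  rw [Finset.sum_eq_single k]
  · rw [decompose_of_mem_same ℳ (hmem k)]
  · intro j _ hjk
    rw [decompose_of_mem_ne ℳ (hmem j) (by omega)]
  · intro hk
    rw [DFinsupp.notMem_support_iff] at hk
    rw [hk]
    simp

/-- the degree-`l` part lies in the `l`-th power of the irrelevant ideal, when the latter is generated in degree one -/
theorem deg_le_irrelevant_pow
    (hgen : (HomogeneousIdeal.irrelevant 𝒜).toIdeal = Ideal.span ((𝒜 1 : σ) : Set A)) :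
    ∀ (l : ℕ) (a : A), a ∈ 𝒜 l → a ∈ (HomogeneousIdeal.irrelevant 𝒜).toIdeal ^ l := by
  classical
  intro l
  induction l with
  | zero => intro a _; rw [pow_zero, Ideal.one_eq_top]; trivial
  | succ l ih =>
    intro a ha
    have ha' : a ∈ (HomogeneousIdeal.irrelevant 𝒜).toIdeal := by
      rw [HomogeneousIdeal.mem_iff, HomogeneousIdeal.mem_irrelevant_iff, GradedRing.proj_apply,
        DirectSum.decompose_of_mem_ne 𝒜 ha (Nat.succ_ne_zero l)]
    rw [hgen] at ha'
    obtain ⟨N, c, g, hsum⟩ := Submodule.mem_span_set'.1 ha'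
    have h1 : a = (decompose 𝒜 a (l + 1) : A) := (decompose_of_mem_same 𝒜 ha).symm
    rw [h1, ← hsum, decompose_sum, DFinsupp.finsetSum_apply, AddSubmonoidClass.coe_finsetSum]
    refine Ideal.sum_mem _ fun j _ => ?_
    rw [smul_eq_mul, DirectSum.coe_decompose_mul_add_of_right_mem 𝒜 (g j).2, pow_succ]
    refine Ideal.mul_mem_mul (ih _ (SetLike.coe_mem _)) ?_
    rw [hgen]
    exact Ideal.subset_span (g j).2

/-- Under (TF), with the irrelevant ideal finitely generated and generated in degree one, local nilpotence of the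
degree-one elements forces (TN). -/
theorem TN_of_nilp (hfg : (HomogeneousIdeal.irrelevant 𝒜).toIdeal.FG)
    (hgen : (HomogeneousIdeal.irrelevant 𝒜).toIdeal = Ideal.span ((𝒜 1 : σ) : Set A))
    (hTF : ∃ n : ℕ, (Submodule.span A (⋃ k ∈ Set.Ici n, ((ℳ k : τ) : Set M))).FG)
    (hnil : ∀ (z : M) (f : A), f ∈ 𝒜 1 → ∃ k : ℕ, f ^ k • z = 0) :
    ∃ n : ℕ, ∀ k : ℕ, n ≤ k → ∀ m : M, m ∈ ℳ k → m = 0 := by
  classical
  obtain ⟨n, hn⟩ := hTF
  obtain ⟨H, hHsub, hHspan⟩ := (Submodule.fg_span_iff_fg_span_finset_subset _).1 hn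
  have hdeg : ∀ h ∈ H, ∃ e : ℕ, h ∈ ℳ e := by
    intro h hh
    obtain ⟨e, -, he⟩ := Set.mem_iUnion₂.1 (hHsub hh)
    exact ⟨e, he⟩
  have hann : ∀ h : M, ∃ K : ℕ, ∀ a ∈ (HomogeneousIdeal.irrelevant 𝒜).toIdeal ^ K, a • h = 0 := by
    intro h
    have hIJ : (HomogeneousIdeal.irrelevant 𝒜).toIdeal ≤
        Ideal.radical (LinearMap.ker (LinearMap.toSpanSingleton A M h) : Ideal A) := by
      rw [hgen, Ideal.span_le]
      intro f hf
      obtain ⟨k, hk⟩ := hnil h f hf
      exact ⟨k, by rw [LinearMap.mem_ker, LinearMap.toSpanSingleton_apply]; exact hk⟩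
    obtain ⟨K, hK⟩ := Ideal.exists_pow_le_of_le_radical_of_fg hIJ hfg
    refine ⟨K, fun a ha => ?_⟩
    have := hK ha
    rwa [LinearMap.mem_ker, LinearMap.toSpanSingleton_apply] at this
  choose! e he using hdeg
  choose K hK using hann
  refine ⟨n + H.sup (fun h => e h + K h), fun k hk m hm => ?_⟩
  have hmspan : m ∈ Submodule.span A (H : Set M) := by
    rw [← hHspan]
    exact Submodule.subset_span (Set.mem_iUnion₂.2 ⟨k, Set.mem_Ici.2 (by omega), hm⟩)
  obtain ⟨c, -, rfl⟩ := Submodule.mem_span_finset.1 hmspan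
  have h1 : (∑ h ∈ H, c h • h) = (decompose ℳ (∑ h ∈ H, c h • h) k : M) := (decompose_of_mem_same ℳ hm).symm
  rw [h1, decompose_sum, DFinsupp.finsetSum_apply, AddSubmonoidClass.coe_finsetSum]
  refine Finset.sum_eq_zero fun h hh => ?_
  have hle : e h + K h ≤ H.sup (fun h => e h + K h) := Finset.le_sup (f := fun h => e h + K h) hh
  have hke : k = (k - e h) + e h := by omega
  rw [hke, decompose_smul_add 𝒜 ℳ _ _ (he h hh)]
  apply hK h
  refine Ideal.pow_le_pow_right (show K h ≤ k - e h by omega) ?_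
  exact deg_le_irrelevant_pow 𝒜 hgen _ _ (SetLike.coe_mem _)

end Groth.Agent.Lib.Helper28.GrTN

namespace Groth.Agent.Lib.Helper28.GrTN

variable {A σ : Type u} [CommRing A] [SetLike σ A] [AddSubgroupClass σ A] (𝒜 : ℕ → σ) [GradedRing 𝒜]

/-- if the ring is generated by its parts of degree zero and one, the irrelevant ideal is generated by the degree-one
part -/
theorem irrelevant_eq_span_deg_one
    (hgen : Subring.closure (((𝒜 0 : σ) : Set A) ∪ ((𝒜 1 : σ) : Set A)) = ⊤) :
    (HomogeneousIdeal.irrelevant 𝒜).toIdeal = Ideal.span ((𝒜 1 : σ) : Set A) := by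
  classical
  apply le_antisymm
  · have key : ∀ a : A, a - GradedRing.projZeroRingHom 𝒜 a ∈ Ideal.span ((𝒜 1 : σ) : Set A) := by
      intro a
      have ha : a ∈ Subring.closure (((𝒜 0 : σ) : Set A) ∪ ((𝒜 1 : σ) : Set A)) := by rw [hgen]; trivial
      induction ha using Subring.closure_induction with
      | mem x hx =>
        rcases hx with hx | hx
        · have : GradedRing.projZeroRingHom 𝒜 x = x := by
            change (decompose 𝒜 x 0 : A) = x
            rw [decompose_of_mem_same 𝒜 hx]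
          rw [this, sub_self]; exact zero_mem _
        · have : GradedRing.projZeroRingHom 𝒜 x = 0 := by
            change (decompose 𝒜 x 0 : A) = 0
            rw [decompose_of_mem_ne 𝒜 hx one_ne_zero]
          rw [this, sub_zero]; exact Ideal.subset_span hx
      | zero => rw [map_zero, sub_zero]; exact zero_mem _
      | one => rw [map_one, sub_self]; exact zero_mem _
      | add x y _ _ hx hy =>
        rw [map_add, add_sub_add_comm]; exact add_mem hx hy
      | neg x _ hx =>
        rw [map_neg, ← neg_sub']; exact neg_mem hx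
      | mul x y _ _ hx hy =>
        have : x * y - GradedRing.projZeroRingHom 𝒜 (x * y) =
            (x - GradedRing.projZeroRingHom 𝒜 x) * y +
              GradedRing.projZeroRingHom 𝒜 x * (y - GradedRing.projZeroRingHom 𝒜 y) := by
          rw [map_mul]; ring
        rw [this]
        exact add_mem (Ideal.mul_mem_right _ _ hx) (Ideal.mul_mem_left _ _ hy)
    intro a ha
    have h0 : GradedRing.projZeroRingHom 𝒜 a = 0 := by
      rw [HomogeneousIdeal.mem_iff, HomogeneousIdeal.mem_irrelevant_iff, GradedRing.proj_apply] at ha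
      exact ha
    have := key a
    rwa [h0, sub_zero] at this
  · rw [Ideal.span_le]
    intro x hx
    exact HomogeneousIdeal.mem_irrelevant_of_mem 𝒜 Nat.one_pos hx

/-- if moreover the degree-one part is spanned by a finite set over a ring mapping to `A`, the irrelevant ideal is
finitely generated -/
theorem irrelevant_fg
    (hgen : Subring.closure (((𝒜 0 : σ) : Set A) ∪ ((𝒜 1 : σ) : Set A)) = ⊤)
    {R : Type*} [CommRing R] (ψ : R →+* A) (T : Finset A) (hT : (↑T : Set A) ⊆ ((𝒜 1 : σ) : Set A))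
    (hspan : ∀ x ∈ 𝒜 1, ∃ c : A → R, x = ∑ t ∈ T, ψ (c t) * t) :
    (HomogeneousIdeal.irrelevant 𝒜).toIdeal.FG := by
  refine ⟨T, ?_⟩
  rw [irrelevant_eq_span_deg_one 𝒜 hgen]
  apply le_antisymm
  · exact Ideal.span_mono hT
  · rw [Ideal.span_le]
    intro x hx
    obtain ⟨c, rfl⟩ := hspan x hx
    exact Ideal.sum_mem _ fun t ht => Ideal.mul_mem_left _ _ (Ideal.subset_span ht)

end Groth.Agent.Lib.Helper28.GrTN
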