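import Groth.Agent.Lib.Helper28.RelProjQC
import Groth.Agent.Lib.Helper28.GrTN

/-!
# Vanishing of `M~` for (TN) modules, absolute (gradings by additive subgroups) and relative
-/

set_option autoImplicit false
universe u
open CategoryTheory CategoryTheory.Limits AlgebraicGeometry Opposite TopologicalSpace

namespace Groth.Agent.Lib.Helper28.GrModQC

open Groth.Agent.Lib.Helper28

variable {A σ : Type u} [CommRing A] [SetLike σ A] [AddSubgroupClass σ A] (𝒜 : ℕ → σ) [GradedRing 𝒜]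
variable {M τ : Type u} [AddCommGroup M] [Module A M] [SetLike τ M] [AddSubgroupClass τ M] (ℳ : ℕ → τ)
  [DirectSum.Decomposition ℳ] [SetLike.GradedSMul 𝒜 ℳ]

omit [DirectSum.Decomposition ℳ] [SetLike.GradedSMul 𝒜 ℳ] in
theorem locMod_subsingleton
    (h : ∀ (z : M) (d : ℕ) (f : A), 0 < d → f ∈ 𝒜 d → ∃ k : ℕ, f ^ k • z = 0)
    (x : ProjectiveSpectrum 𝒜) : Subsingleton (GrMod.LocMod 𝒜 (M := M) x) := by
  obtain ⟨d, f, hd, hfd, hfx, -⟩ := GrSectComap.exists_pos_basicOpen 𝒜 ⊤ x trivial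
  refine ⟨fun p q => ?_⟩
  suffices ∀ p : GrMod.LocMod 𝒜 (M := M) x, p = 0 by rw [this p, this q]
  intro p
  induction p using LocalizedModule.induction_on with
  | h z s =>
    obtain ⟨k, hk⟩ := h z d f hd hfd
    rw [← LocalizedModule.zero_mk (1 : x.asHomogeneousIdeal.toIdeal.primeCompl), LocalizedModule.mk_eq]
    refine ⟨⟨f ^ k, fun hmem => hfx (x.isPrime.mem_of_pow_mem k hmem)⟩, ?_⟩
    simp only [smul_zero, one_smul]
    exact hk

theorem section_eq_zero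
    (h : ∀ (z : M) (d : ℕ) (f : A), 0 < d → f ∈ 𝒜 d → ∃ k : ℕ, f ^ k • z = 0)
    {n : ℤ} {V : (Proj 𝒜).Opens} (t : Γ(GrMod.tilde 𝒜 ℳ n, V)) : t = 0 :=
  ext_val 𝒜 ℳ _ _ fun x => @Subsingleton.elim _ (locMod_subsingleton 𝒜 h x.1) _ _

end Groth.Agent.Lib.Helper28.GrModQC

namespace Groth.Agent.Lib.Helper28.QCohLoc

variable {X : Scheme.{u}}

theorem isZero_of_sections_zero (F : X.Modules) (h : ∀ (U : X.Opens) (x : Γ(F, U)), x = 0) : IsZero F := by
  rw [Limits.IsZero.iff_id_eq_zero]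
  apply Scheme.Modules.hom_ext
  intro U
  ext x
  exact (h U _).trans (h U _).symm

theorem sections_zero_of_isZero (F : X.Modules) (h : IsZero F) (U : X.Opens) (x : Γ(F, U)) : x = 0 := by
  have h1 : 𝟙 F = 0 := (Limits.IsZero.iff_id_eq_zero F).1 h
  have h2 : (𝟙 F : F ⟶ F).app U x = (0 : F ⟶ F).app U x := by rw [h1]
  exact h2

end Groth.Agent.Lib.Helper28.QCohLoc

namespace Groth.Agent.Lib.Helper28.RelProjQC

open Groth.Agent.Lib.Helper28 Groth.Agent.Lib.Helper28.QCohLoc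

variable {Y P : Scheme.{u}} {𝒮 : RelProj.QCGrAlg Y} (p : P ⟶ Y)
    (chart : ∀ (U : Y.Opens) (hU : IsAffineOpen U), (((p ⁻¹ᵁ U : P.Opens) : Scheme.{u}) ≅ Proj (𝒮.deg U hU)))

/-- a module on `P` which injects chartwise into modules all of whose sections vanish is zero -/
theorem isZero_of_charts (F : P.Modules) (N : ∀ (U : Y.Opens) (hU : IsAffineOpen U), (Proj (𝒮.deg U hU)).Modules)
    (lam : ∀ (U : Y.Opens) (hU : IsAffineOpen U),
      F ⟶ (Scheme.Modules.pushforward (RelProj.emb p chart U hU)).obj (N U hU))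
    (hinj : ∀ (U : Y.Opens) (hU : IsAffineOpen U) (W : P.Opens), W ≤ p ⁻¹ᵁ U →
      Function.Injective ((lam U hU).app W))
    (hN : ∀ (U : Y.Opens) (hU : IsAffineOpen U) (V : (Proj (𝒮.deg U hU)).Opens) (t : Γ(N U hU, V)), t = 0) :
    IsZero F := by
  refine isZero_of_sections_zero F fun W x => ?_
  refine eq_of_locally_eq F (fun i : Y.affineOpens => W ⊓ p ⁻¹ᵁ i.1) W (fun i => inf_le_left) ?_ x 0 fun i => ?_
  · intro q hq
    have hy : p.base q ∈ (⨆ V : Y.affineOpens, V.1 : Y.Opens) := by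
      rw [iSup_affineOpens_eq_top]; trivial
    obtain ⟨V, hV⟩ := Opens.mem_iSup.mp hy
    exact Opens.mem_iSup.mpr ⟨V, ⟨hq, hV⟩⟩
  · apply hinj i.1 i.2 _ inf_le_right
    exact (hN i.1 i.2 _ _).trans (hN i.1 i.2 _ _).symm

end Groth.Agent.Lib.Helper28.RelProjQC
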