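import Mathlib
import Groth.Prelude.Def_SGA1

/-!
# Quotients of schemes by finite groups: basic structure (helper28)

For `hp : SGA1.IsQuot ρ p` we equip `Γ(X, p⁻¹U)` with the left `G`-action `g • s = (ρ g⁻¹)^* s`,
show `Γ(Y, U) → Γ(X, p⁻¹U)` is the ring of invariants (`Algebra.IsInvariant`), and derive
integrality, surjectivity, transitivity on fibres, closedness.
-/

set_option autoImplicit false
universe u
open CategoryTheory CategoryTheory.Limits AlgebraicGeometry Opposite TopologicalSpace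
open scoped Pointwise

namespace Groth.Agent.Lib.Helper28.FinQuot

variable {X Y : Scheme.{u}} {G : Type u} [Group G] (ρ : G →* Aut X) (p : X ⟶ Y)
  (hinv : ∀ g : G, (ρ g).hom ≫ p = p)

/-- pullback of sections along `ρ g` (contravariant in `g`). -/
noncomputable def σ (U : Y.Opens) (g : G) : Γ(X, p ⁻¹ᵁ U) →+* Γ(X, p ⁻¹ᵁ U) :=
  ((ρ g).hom.appLE (p ⁻¹ᵁ U) (p ⁻¹ᵁ U) (SGA1.preimage_le_of_inv ρ p hinv g U)).hom

theorem appLE_congr {X Y : Scheme.{u}} {ψ ψ' : X ⟶ Y} (e : ψ = ψ') (U : Y.Opens) (V : X.Opens)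
    (h : V ≤ ψ ⁻¹ᵁ U) : ψ.appLE U V h = ψ'.appLE U V (e ▸ h) := by
  subst e; rfl

theorem σ_mul (U : Y.Opens) (a b : G) (s : Γ(X, p ⁻¹ᵁ U)) :
    σ ρ p hinv U a (σ ρ p hinv U b s) = σ ρ p hinv U (b * a) s := by
  have h1 := Scheme.Hom.appLE_comp_appLE (ρ a).hom (ρ b).hom (p ⁻¹ᵁ U) (p ⁻¹ᵁ U) (p ⁻¹ᵁ U)
    (SGA1.preimage_le_of_inv ρ p hinv b U) (SGA1.preimage_le_of_inv ρ p hinv a U)
  have h2 : (ρ a).hom ≫ (ρ b).hom = (ρ (b * a)).hom := by
    rw [map_mul]; rfl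
  have h3 := congrArg (fun φ => φ.hom s) h1
  simp only [CommRingCat.hom_comp, RingHom.coe_comp, Function.comp_apply] at h3
  change σ ρ p hinv U a (σ ρ p hinv U b s) = _ at h3
  rw [h3, appLE_congr h2]
  rfl

theorem appLE_id_apply {X : Scheme.{u}} (W : X.Opens) (f : X ⟶ X) (hf : f = 𝟙 X)
    (e : W ≤ f ⁻¹ᵁ W) (s : Γ(X, W)) : (f.appLE W W e).hom s = s := by
  subst hf
  have h2 : X.presheaf.map (homOfLE e).op = 𝟙 (X.presheaf.obj (Opposite.op W)) := by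
    have h3 : (homOfLE e) = 𝟙 W := Subsingleton.elim _ _
    rw [h3]
    exact X.presheaf.map_id _
  simp only [Scheme.Hom.appLE, Scheme.Hom.id_app]
  rw [h2]
  rfl

theorem σ_one (U : Y.Opens) (s : Γ(X, p ⁻¹ᵁ U)) : σ ρ p hinv U 1 s = s := by
  have h1 : (ρ 1).hom = 𝟙 X := by rw [map_one]; rfl
  exact appLE_id_apply _ _ h1 _ s

/-- The left action of `G` on `Γ(X, p⁻¹U)`: `g • s = (ρ g⁻¹)^* s`. -/
@[reducible] noncomputable def action (U : Y.Opens) : MulSemiringAction G Γ(X, p ⁻¹ᵁ U) where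
  smul g s := σ ρ p hinv U g⁻¹ s
  one_smul s := by change σ ρ p hinv U (1 : G)⁻¹ s = s; rw [inv_one, σ_one]
  mul_smul a b s := by
    change σ ρ p hinv U (a * b)⁻¹ s = σ ρ p hinv U a⁻¹ (σ ρ p hinv U b⁻¹ s)
    rw [σ_mul, mul_inv_rev]
  smul_zero g := map_zero _
  smul_add g s t := map_add _ _ _
  smul_one g := map_one _
  smul_mul g s t := map_mul _ _ _

theorem smul_def (U : Y.Opens) (g : G) (s : Γ(X, p ⁻¹ᵁ U)) :
    letI := action ρ p hinv U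
    g • s = σ ρ p hinv U g⁻¹ s := rfl

section Quot

variable {X Y : Scheme.{u}} {G : Type u} [Group G] (ρ : G →* Aut X) (p : X ⟶ Y)
  (hp : SGA1.IsQuot ρ p)

/-- invariance of pulled back sections -/
theorem σ_app (U : Y.Opens) (g : G) (a : Γ(Y, U)) :
    σ ρ p hp.inv U g ((p.app U).hom a) = (p.app U).hom a := by
  have h := (hp.range_iff U ((p.app U).hom a)).1 ⟨a, rfl⟩ g
  exact h

theorem mem_range_iff (U : Y.Opens) (s : Γ(X, p ⁻¹ᵁ U)) :
    s ∈ Set.range (p.app U).hom ↔ ∀ g : G, σ ρ p hp.inv U g s = s :=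
  hp.range_iff U s

theorem isInvariant (U : Y.Opens) :
    letI := action ρ p hp.inv U
    letI := (p.app U).hom.toAlgebra
    Algebra.IsInvariant Γ(Y, U) Γ(X, p ⁻¹ᵁ U) G := by
  letI := action ρ p hp.inv U
  letI := (p.app U).hom.toAlgebra
  refine ⟨fun b hb => ?_⟩
  have : b ∈ Set.range (p.app U).hom := by
    rw [mem_range_iff ρ p hp]
    intro g
    have := hb g⁻¹
    rw [smul_def, inv_inv] at this
    exact this
  obtain ⟨a, ha⟩ := this
  exact ⟨a, ha⟩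

theorem smulCommClass (U : Y.Opens) :
    letI := action ρ p hp.inv U
    letI := (p.app U).hom.toAlgebra
    SMulCommClass G Γ(Y, U) Γ(X, p ⁻¹ᵁ U) := by
  letI := action ρ p hp.inv U
  letI := (p.app U).hom.toAlgebra
  refine ⟨fun g a b => ?_⟩
  rw [Algebra.smul_def, smul_mul', Algebra.smul_def]
  congr 1
  exact σ_app ρ p hp U g⁻¹ a

/-- `g • P = comap (σ g) P` -/
theorem smul_ideal (U : Y.Opens) (g : G) (P : Ideal Γ(X, p ⁻¹ᵁ U)) :
    letI := action ρ p hp.inv U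
    g • P = P.comap (σ ρ p hp.inv U g) := by
  letI := action ρ p hp.inv U
  ext x
  rw [Ideal.mem_pointwise_smul_iff_inv_smul_mem, Ideal.mem_comap, smul_def, inv_inv]

variable [Finite G]

include hp in
theorem isIntegral_app (U : Y.Opens) : (p.app U).hom.IsIntegral := by
  letI := action ρ p hp.inv U
  letI := (p.app U).hom.toAlgebra
  haveI := isInvariant ρ p hp U
  have := Algebra.IsInvariant.isIntegral Γ(Y, U) Γ(X, p ⁻¹ᵁ U) G
  exact this.isIntegral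

include hp in
theorem isIntegralHom : IsIntegralHom p := by
  haveI := hp.affine
  exact ⟨fun U _ => isIntegral_app ρ p hp U⟩

/-- transitivity on primes -/
theorem exists_comap_eq (U : Y.Opens) (P Q : Ideal Γ(X, p ⁻¹ᵁ U)) [P.IsPrime] [Q.IsPrime]
    (h : P.comap (p.app U).hom = Q.comap (p.app U).hom) :
    ∃ g : G, Q = P.comap (σ ρ p hp.inv U g) := by
  letI := action ρ p hp.inv U
  letI := (p.app U).hom.toAlgebra
  haveI := isInvariant ρ p hp U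
  haveI := smulCommClass ρ p hp U
  obtain ⟨g, hg⟩ := Algebra.IsInvariant.exists_smul_of_under_eq Γ(Y, U) Γ(X, p ⁻¹ᵁ U) G P Q h
  exact ⟨g, hg.trans (smul_ideal ρ p hp U g P)⟩

end Quot

section Points

theorem exists_fromSpec_eq {X : Scheme.{u}} {W : X.Opens} (hW : IsAffineOpen W) (x : X)
    (hx : x ∈ W) : ∃ P : Spec Γ(X, W), hW.fromSpec P = x := by
  have : x ∈ Set.range hW.fromSpec := by rw [hW.range_fromSpec]; exact hx
  exact this

theorem exists_affine_mem {Y : Scheme.{u}} (y : Y) : ∃ V : Y.Opens, IsAffineOpen V ∧ y ∈ V := by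
  obtain ⟨_, ⟨V, hV : IsAffineOpen V, rfl⟩, hyV, -⟩ :=
    Y.isBasis_affineOpens.exists_subset_of_mem_open (Set.mem_univ y) isOpen_univ
  exact ⟨V, hV, hyV⟩

variable {X Y : Scheme.{u}} {G : Type u} [Group G] (ρ : G →* Aut X) (p : X ⟶ Y)
  (hp : SGA1.IsQuot ρ p) [Finite G]

omit [Group G] [Finite G] in
theorem fromSpec_comp (V : Y.Opens) (hV : IsAffineOpen V) (hW : IsAffineOpen (p ⁻¹ᵁ V)) :
    hW.fromSpec ≫ p = Spec.map (p.app V) ≫ hV.fromSpec := by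
  have h1 := IsAffineOpen.SpecMap_appLE_fromSpec p hV hW le_rfl
  rw [← Scheme.Hom.app_eq_appLE] at h1
  exact h1.symm

omit [Group G] [Finite G] in
theorem fromSpec_apply (V : Y.Opens) (hV : IsAffineOpen V) (hW : IsAffineOpen (p ⁻¹ᵁ V))
    (P : Spec Γ(X, p ⁻¹ᵁ V)) : p (hW.fromSpec P) = hV.fromSpec (Spec.map (p.app V) P) := by
  rw [← Scheme.Hom.comp_apply, fromSpec_comp p V hV hW, Scheme.Hom.comp_apply]

include hp in
theorem surjective : Function.Surjective p := by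
  haveI := hp.affine
  intro y
  obtain ⟨V, hV, hyV⟩ := exists_affine_mem y
  have hW : IsAffineOpen (p ⁻¹ᵁ V) := hV.preimage p
  obtain ⟨P₀, rfl⟩ := exists_fromSpec_eq hV y hyV
  letI := (p.app V).hom.toAlgebra
  haveI : Algebra.IsIntegral Γ(Y, V) Γ(X, p ⁻¹ᵁ V) := ⟨isIntegral_app ρ p hp V⟩
  have hle : (⊥ : Ideal Γ(X, p ⁻¹ᵁ V)).comap (algebraMap Γ(Y, V) Γ(X, p ⁻¹ᵁ V)) ≤ P₀.asIdeal := by
    intro a ha
    rw [Ideal.mem_comap, Ideal.mem_bot] at ha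
    have : a = 0 := hp.injective V (by rw [map_zero]; exact ha)
    rw [this]; exact zero_mem _
  haveI : P₀.asIdeal.IsPrime := P₀.isPrime
  obtain ⟨Q, -, hQ, hQP⟩ := Ideal.exists_ideal_over_prime_of_isIntegral P₀.asIdeal ⊥ hle
  let Qp : Spec Γ(X, p ⁻¹ᵁ V) := (⟨Q, hQ⟩ : PrimeSpectrum Γ(X, p ⁻¹ᵁ V))
  refine ⟨hW.fromSpec Qp, ?_⟩
  rw [fromSpec_apply p V hV hW]
  congr 1
  exact PrimeSpectrum.ext hQP

include hp in
theorem exists_of_apply_eq (x x' : X) (h : p x = p x') : ∃ g : G, (ρ g).hom x = x' := by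
  haveI := hp.affine
  obtain ⟨V, hV, hyV⟩ := exists_affine_mem (p x)
  have hW : IsAffineOpen (p ⁻¹ᵁ V) := hV.preimage p
  obtain ⟨P, rfl⟩ := exists_fromSpec_eq hW x hyV
  obtain ⟨Q, rfl⟩ := exists_fromSpec_eq hW x' (by change p x' ∈ V; rw [← h]; exact hyV)
  rw [fromSpec_apply p V hV hW, fromSpec_apply p V hV hW] at h
  have h2 : Spec.map (p.app V) P = Spec.map (p.app V) Q := hV.fromSpec.isOpenEmbedding.injective h
  have h3 : P.asIdeal.comap (p.app V).hom = Q.asIdeal.comap (p.app V).hom :=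
    congrArg PrimeSpectrum.asIdeal h2
  haveI : P.asIdeal.IsPrime := P.isPrime
  haveI : Q.asIdeal.IsPrime := Q.isPrime
  obtain ⟨g, hg⟩ := exists_comap_eq ρ p hp V P.asIdeal Q.asIdeal h3
  refine ⟨g, ?_⟩
  have h4 := IsAffineOpen.SpecMap_appLE_fromSpec (ρ g).hom hW hW
    (SGA1.preimage_le_of_inv ρ p hp.inv g V)
  rw [← Scheme.Hom.comp_apply, ← h4, Scheme.Hom.comp_apply]
  congr 1
  exact PrimeSpectrum.ext hg.symm

end Points

section Restrict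

variable {X Y : Scheme.{u}} {G : Type u} [Group G] (ρ : G →* Aut X) (p : X ⟶ Y)
  (hp : SGA1.IsQuot ρ p)

set_option backward.isDefEq.respectTransparency false in
include hp in
/-- The restriction of a quotient to an open of the target is a quotient. -/
theorem isQuot_restrict (U : Y.Opens) (ρU : G →* Aut (p ⁻¹ᵁ U).toScheme)
    (hρU : ∀ g : G, (ρU g).hom ≫ (p ⁻¹ᵁ U).ι = (p ⁻¹ᵁ U).ι ≫ (ρ g).hom) :
    SGA1.IsQuot ρU (p ∣_ U) := by
  haveI := hp.affine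
  have hinvU : ∀ g : G, (ρU g).hom ≫ (p ∣_ U) = p ∣_ U := by
    intro g
    rw [← cancel_mono U.ι, Category.assoc, morphismRestrict_ι, reassoc_of% hρU g, hp.inv g]
  -- the comparison isomorphism
  have hφ : ∀ V : (U : Scheme.{u}).Opens, ∃ (φ : Γ(X, p ⁻¹ᵁ (U.ι ''ᵁ V)) ⟶ Γ((p ⁻¹ᵁ U).toScheme, (p ∣_ U) ⁻¹ᵁ V)),
      Function.Bijective φ.hom ∧ (p ∣_ U).app V = p.app (U.ι ''ᵁ V) ≫ φ ∧
      ∀ g : G, φ ≫ (ρU g).hom.appLE ((p ∣_ U) ⁻¹ᵁ V) ((p ∣_ U) ⁻¹ᵁ V)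
          (SGA1.preimage_le_of_inv ρU (p ∣_ U) hinvU g V) =
        (ρ g).hom.appLE (p ⁻¹ᵁ (U.ι ''ᵁ V)) (p ⁻¹ᵁ (U.ι ''ᵁ V))
          (SGA1.preimage_le_of_inv ρ p hp.inv g (U.ι ''ᵁ V)) ≫ φ := by
    intro V
    have e := image_morphismRestrict_preimage p U V
    refine ⟨X.presheaf.map (eqToHom e).op, ?_, ?_, ?_⟩
    · exact (ConcreteCategory.isIso_iff_bijective _).mp inferInstance
    · exact morphismRestrict_app p U V
    · intro g
      have hle : (p ∣_ U) ⁻¹ᵁ V ≤ (p ⁻¹ᵁ U).ι ⁻¹ᵁ (p ⁻¹ᵁ (U.ι ''ᵁ V)) := by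
        rw [← e]
        exact fun x hx => ⟨x, hx, rfl⟩
      have h1 : (p ⁻¹ᵁ U).ι.appLE (p ⁻¹ᵁ (U.ι ''ᵁ V)) ((p ∣_ U) ⁻¹ᵁ V) hle =
          X.presheaf.map (eqToHom e).op := by
        rw [Scheme.Opens.ι_appLE]
        congr 1
      rw [← h1, Scheme.Hom.appLE_comp_appLE, Scheme.Hom.appLE_comp_appLE]
      exact appLE_congr (hρU g) _ _ _
  refine ⟨IsZariskiLocalAtTarget.restrict hp.affine U, hinvU, fun V => ?_, fun V s => ?_⟩
  · obtain ⟨φ, hφb, hφ1, -⟩ := hφ V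
    rw [hφ1, CommRingCat.hom_comp, RingHom.coe_comp]
    exact hφb.1.comp (hp.injective _)
  · obtain ⟨φ, hφb, hφ1, hφ2⟩ := hφ V
    have hφ2' : ∀ (g : G) (t : Γ(X, p ⁻¹ᵁ (U.ι ''ᵁ V))),
        ((ρU g).hom.appLE ((p ∣_ U) ⁻¹ᵁ V) ((p ∣_ U) ⁻¹ᵁ V)
          (SGA1.preimage_le_of_inv ρU (p ∣_ U) hinvU g V)).hom (φ.hom t) =
        φ.hom (σ ρ p hp.inv (U.ι ''ᵁ V) g t) := fun g t => congr($(hφ2 g) t)
    constructor
    · rintro ⟨a, rfl⟩ g
      rw [hφ1]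
      change _ = φ.hom ((p.app (U.ι ''ᵁ V)).hom a)
      rw [← σ_app ρ p hp (U.ι ''ᵁ V) g a, ← hφ2' g]
      rfl
    · intro hs
      obtain ⟨s', rfl⟩ := hφb.2 s
      have : s' ∈ Set.range (p.app (U.ι ''ᵁ V)).hom := by
        rw [mem_range_iff ρ p hp]
        intro g
        apply hφb.1
        rw [← hφ2' g]
        exact hs g
      obtain ⟨a, rfl⟩ := this
      exact ⟨a, by rw [hφ1]; rfl⟩

end Restrict

end Groth.Agent.Lib.Helper28.FinQuot
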