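import Mathlib

/-!
# Local-on-target properties of `Proj.map` (helper28)

`Proj.map φ hφ : Proj ℬ ⟶ Proj 𝒜` has a target-local property `P` as soon as all the affine pieces
`Spec ℬ_(φ s) ⟶ Spec 𝒜_(s)` have it.
-/

set_option autoImplicit false
universe u
open CategoryTheory CategoryTheory.Limits AlgebraicGeometry Opposite TopologicalSpace
open scoped HomogeneousIdeal
open HomogeneousLocalization

namespace Groth.Agent.Lib.Helper28.ProjMap

variable {A B : Type u} [CommRing A] [CommRing B] {𝒜 : ℕ → AddSubgroup A} {ℬ : ℕ → AddSubgroup B}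
  [GradedRing 𝒜] [GradedRing ℬ] (φ : 𝒜 →+*ᵍ ℬ) (hφ : ℬ₊ ≤ (𝒜₊).map φ)

set_option backward.isDefEq.respectTransparency false in
/-- The affine pieces of `Proj.map` form pullback squares. -/
theorem isPullback_away {i : ℕ} (hi : 0 < i) (s : A) (hs : s ∈ 𝒜 i) :
    IsPullback (Spec.map (CommRingCat.ofHom (Away.map φ s))) (Proj.awayι ℬ (φ s) (φ.2 hs) hi)
      (Proj.awayι 𝒜 s hs hi) (Proj.map φ hφ) := by
  refine IsOpenImmersion.isPullback _ _ _ _ (Proj.awayι_comp_map φ hφ hi s hs) ?_
  rw [Proj.opensRange_awayι, Proj.opensRange_awayι, Proj.map_preimage_basicOpen]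

set_option backward.isDefEq.respectTransparency false in
/-- A target-local property holds for `f` if it holds for a family of base changes of `f` along
an open cover of the target. -/
theorem of_isPullback_openCover (P : MorphismProperty Scheme.{u}) [IsZariskiLocalAtTarget P]
    {X Y : Scheme.{u}} (f : X ⟶ Y) (𝒰 : Y.OpenCover) (V : 𝒰.I₀ → Scheme.{u}) (iV : ∀ i, V i ⟶ X)
    (g : ∀ i, V i ⟶ 𝒰.X i) (hpb : ∀ i, IsPullback (g i) (iV i) (𝒰.f i) f) (H : ∀ i, P (g i)) :
    P f := by
  rw [IsZariskiLocalAtTarget.iff_of_openCover (P := P) 𝒰]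
  intro i
  let e := (hpb i).flip.isoPullback
  have h1 : e.hom ≫ pullback.snd f (𝒰.f i) = g i := (hpb i).flip.isoPullback_hom_snd
  have h2 : P (e.hom ≫ pullback.snd f (𝒰.f i)) := by rw [h1]; exact H i
  exact (P.cancel_left_of_respectsIso e.hom _).1 h2

set_option backward.isDefEq.respectTransparency false in
/-- A target-local property holds for `Proj.map` if it holds on all affine pieces. -/
theorem of_away (P : MorphismProperty Scheme.{u}) [IsZariskiLocalAtTarget P]
    (H : ∀ (i : ℕ) (_ : 0 < i) (s : A) (_ : s ∈ 𝒜 i),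
      P (Spec.map (CommRingCat.ofHom (Away.map φ s)))) :
    P (Proj.map φ hφ) := by
  rw [IsZariskiLocalAtTarget.iff_of_openCover (P := P) (Proj.affineOpenCover 𝒜).openCover]
  intro s
  have hpb := isPullback_away φ hφ s.1.2 s.2.1 s.2.2
  let e := hpb.flip.isoPullback
  have h1 : e.hom ≫ pullback.snd (Proj.map φ hφ) (Proj.awayι 𝒜 s.2.1 s.2.2 s.1.2) =
      Spec.map (CommRingCat.ofHom (Away.map φ s.2.1)) := hpb.flip.isoPullback_hom_snd
  have h2 : P (e.hom ≫ pullback.snd (Proj.map φ hφ) (Proj.awayι 𝒜 s.2.1 s.2.2 s.1.2)) := by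
    rw [h1]; exact H _ s.1.2 _ s.2.2
  exact (P.cancel_left_of_respectsIso e.hom _).1 h2


/-- The degree-zero part of a graded ring homomorphism. -/
def zeroHom : 𝒜 0 →+* ℬ 0 where
  toFun x := ⟨φ x.1, φ.map_mem x.2⟩
  map_one' := Subtype.ext (map_one φ)
  map_mul' a b := Subtype.ext (map_mul φ a.1 b.1)
  map_zero' := Subtype.ext (map_zero φ)
  map_add' a b := Subtype.ext (map_add φ a.1 b.1)

@[simp] theorem zeroHom_coe (x : 𝒜 0) : ((zeroHom φ x : ℬ 0) : B) = φ x.1 := rfl

theorem away_map_fromZero (s : A) (x : 𝒜 0) :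
    Away.map φ s (fromZeroRingHom 𝒜 (Submonoid.powers s) x) =
      fromZeroRingHom ℬ (Submonoid.powers (φ s)) (zeroHom φ x) := by
  apply HomogeneousLocalization.val_injective
  change Localization.mk (φ x.1) ⟨φ 1, _⟩ = Localization.mk (φ x.1) 1
  congr 1
  exact Subtype.ext (map_one φ)

set_option backward.isDefEq.respectTransparency false in
/-- `Proj.map` is compatible with the structure maps to the degree-zero spectra. -/
@[reassoc] theorem map_toSpecZero :
    Proj.map φ hφ ≫ Proj.toSpecZero 𝒜 =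
      Proj.toSpecZero ℬ ≫ Spec.map (CommRingCat.ofHom (zeroHom φ)) := by
  refine (Proj.mapAffineOpenCover φ hφ).openCover.hom_ext _ _ fun s ↦ ?_
  simp only [Scheme.AffineOpenCover.openCover_f, Proj.mapAffineOpenCover_f]
  rw [Proj.awayι_comp_map_assoc φ hφ s.1.2 _ s.2.2, Proj.awayι_toSpecZero,
    Proj.awayι_toSpecZero_assoc, ← Spec.map_comp, ← Spec.map_comp]
  congr 1
  ext x
  exact congrArg val (away_map_fromZero φ _ x)

/-- `Away.map` of a surjective graded homomorphism is surjective. -/
theorem away_map_surjective (hsurj : Function.Surjective φ) {i : ℕ} (s : A) (hs : s ∈ 𝒜 i) :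
    Function.Surjective (Away.map φ s) := by
  classical
  intro z
  obtain ⟨n, y, hy, rfl⟩ := Away.mk_surjective ℬ (φ.2 hs) z
  obtain ⟨x, rfl⟩ := hsurj y
  refine ⟨Away.mk 𝒜 hs n (DirectSum.decompose 𝒜 x (n • i) : A) (SetLike.coe_mem _), ?_⟩
  rw [Away.map_mk]
  congr 1
  rw [GradedRingHom.map_directSumDecompose, DirectSum.decompose_of_mem_same _ hy]

set_option backward.isDefEq.respectTransparency false in
/-- `Proj.map` of a surjective graded homomorphism is a closed immersion. -/
theorem isClosedImmersion_map (hsurj : Function.Surjective φ) :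
    IsClosedImmersion (Proj.map φ hφ) := by
  refine of_away φ hφ @IsClosedImmersion fun i _ s hs => ?_
  exact IsClosedImmersion.spec_of_surjective _ (away_map_surjective φ hsurj s hs)

/-- `Away.map` of a graded homomorphism bijective in positive degrees is bijective. -/
theorem away_map_bijective (hpos : ∀ n : ℕ, 0 < n → Set.BijOn φ (𝒜 n) (ℬ n)) {i : ℕ} (hi : 0 < i)
    (s : A) (hs : s ∈ 𝒜 i) : Function.Bijective (Away.map φ s) := by
  constructor
  · rw [injective_iff_map_eq_zero]
    intro z hz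
    obtain ⟨n, x, hx, rfl⟩ := Away.mk_surjective 𝒜 hs z
    rw [Away.map_mk] at hz
    have hz' := congrArg val hz
    rw [Away.val_mk, val_zero, Localization.mk_eq_mk', IsLocalization.mk'_eq_zero_iff] at hz'
    obtain ⟨⟨_, k, rfl⟩, hk⟩ := hz'
    -- φ (s^(k+1) * x) = 0 with s^(k+1) * x of positive degree
    have hmem : s ^ (k + 1) * x ∈ 𝒜 ((k + 1) • i + n • i) :=
      SetLike.mul_mem_graded (SetLike.pow_mem_graded _ hs) hx
    have hdeg : 0 < (k + 1) • i + n • i := by
      have : 0 < (k + 1) • i := by rw [smul_eq_mul]; positivity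
      omega
    have hφ0 : φ (s ^ (k + 1) * x) = φ 0 := by
      rw [map_zero, map_mul, map_pow, pow_succ', mul_assoc]
      have : φ s ^ k * φ x = 0 := hk
      rw [this, mul_zero]
    have h0 := (hpos _ hdeg).injOn hmem (zero_mem _) hφ0
    apply HomogeneousLocalization.val_injective
    rw [Away.val_mk, val_zero, Localization.mk_eq_mk', IsLocalization.mk'_eq_zero_iff]
    exact ⟨⟨s ^ (k + 1), k + 1, rfl⟩, h0⟩
  · intro z
    obtain ⟨n, y, hy, rfl⟩ := Away.mk_surjective ℬ (φ.2 hs) z
    -- rewrite as a fraction with denominator of exponent n+1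
    have hy' : φ s * y ∈ ℬ ((n + 1) • i) := by
      have := SetLike.mul_mem_graded (A := ℬ) (φ.2 hs) hy
      rwa [show i + n • i = (n + 1) • i by rw [add_smul, one_smul, add_comm]] at this
    have hdeg : 0 < (n + 1) • i := by rw [smul_eq_mul]; positivity
    obtain ⟨x, hx, hxy⟩ := (hpos _ hdeg).surjOn hy'
    refine ⟨Away.mk 𝒜 hs (n + 1) x hx, ?_⟩
    rw [Away.map_mk]
    apply HomogeneousLocalization.val_injective
    rw [Away.val_mk, Away.val_mk, Localization.mk_eq_mk_iff, Localization.r_iff_exists]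
    refine ⟨1, ?_⟩
    simp only [OneMemClass.coe_one, one_mul]
    rw [hxy, pow_succ]
    change φ s ^ n * (φ s * y) = φ s ^ n * φ s * y
    ring

set_option backward.isDefEq.respectTransparency false in
/-- `Proj.map` of a graded homomorphism bijective in positive degrees is an isomorphism. -/
theorem isIso_map (hpos : ∀ n : ℕ, 0 < n → Set.BijOn φ (𝒜 n) (ℬ n)) :
    IsIso (Proj.map φ hφ) := by
  refine of_away φ hφ (MorphismProperty.isomorphisms Scheme.{u}) fun i hi s hs => ?_
  have hbij := away_map_bijective φ hpos hi s hs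
  have : IsIso (CommRingCat.ofHom (Away.map φ s)) :=
    (ConcreteCategory.isIso_iff_bijective _).2 hbij
  exact (inferInstance : IsIso (Spec.map (CommRingCat.ofHom (Away.map φ s))))


end Groth.Agent.Lib.Helper28.ProjMap
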