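import Groth.Prelude.Def_RelProj
import Groth.Agent.Lib.Helper28.ProjMap

/-!
# Chartwise reduction for morphisms of relative Proj's (helper28)
-/

set_option autoImplicit false
universe u
open CategoryTheory CategoryTheory.Limits AlgebraicGeometry Opposite TopologicalSpace
open scoped HomogeneousIdeal
open HomogeneousLocalization

namespace Groth.Agent.Lib.Helper28.RelProj

open Groth.Agent.Lib.Helper28.ProjMap

variable {Y : Scheme.{u}}

/-- The restriction of `p` over an affine open, in terms of the chart. -/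
theorem ι_comp {P : Scheme.{u}} (𝒮 : RelProj.QCGrAlg Y) (p : P ⟶ Y)
    (chart : ∀ (U : Y.Opens) (hU : IsAffineOpen U), (((p ⁻¹ᵁ U : P.Opens) : Scheme.{u}) ≅ Proj (𝒮.deg U hU)))
    (hP : RelProj.IsRelProj 𝒮 p chart) (U : Y.Opens) (hU : IsAffineOpen U) :
    (p ⁻¹ᵁ U).ι ≫ p = (chart U hU).hom ≫ Proj.toSpecZero (𝒮.deg U hU) ≫
      Spec.map (𝒮.strZero U hU) ≫ hU.fromSpec := (hP.chart_over U hU).symm

section Map

variable {PA PB : Scheme.{u}} {𝒜 ℬ : RelProj.QCGrAlg Y}
    (φ : 𝒜.toQCAlg ⟶ ℬ.toQCAlg) (hφ : RelProj.IsGradedHom φ)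
    (hirr : ∀ (U : Y.Opens) (hU : IsAffineOpen U),
      (ℬ.deg U hU)₊ ≤ ((𝒜.deg U hU)₊).map (RelProj.gradedHomAt φ hφ U hU))
    {pA : PA ⟶ Y} {pB : PB ⟶ Y}
    (chartA : ∀ (U : Y.Opens) (hU : IsAffineOpen U), (((pA ⁻¹ᵁ U : PA.Opens) : Scheme.{u}) ≅ Proj (𝒜.deg U hU)))
    (chartB : ∀ (U : Y.Opens) (hU : IsAffineOpen U), (((pB ⁻¹ᵁ U : PB.Opens) : Scheme.{u}) ≅ Proj (ℬ.deg U hU)))
    (hA : RelProj.IsRelProj 𝒜 pA chartA) (hB : RelProj.IsRelProj ℬ pB chartB)
    (h : PB ⟶ PA) (hh : RelProj.IsRelProjMap φ hφ hirr chartA chartB h)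

/-- compatibility of the structure maps into degree zero with a graded homomorphism -/
theorem strZero_comp (U : Y.Opens) (hU : IsAffineOpen U) :
    𝒜.strZero U hU ≫ CommRingCat.ofHom (zeroHom (RelProj.gradedHomAt φ hφ U hU)) =
      ℬ.strZero U hU := by
  ext r
  have := congrArg (fun t => (t.app (op U)).hom r) φ.comm
  exact this

include hA hB hh in
set_option backward.isDefEq.respectTransparency false in
/-- A morphism of relative Proj's induced by a graded homomorphism is a morphism over the base. -/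
theorem comp_eq : h ≫ pA = pB := by
  have hcov : IsOpenCover (fun U : Y.affineOpens => pB ⁻¹ᵁ U.1) := by
    rw [IsOpenCover, eq_top_iff]
    intro x _
    have hx : pB x ∈ (⊤ : Y.Opens) := trivial
    rw [← iSup_affineOpens_eq_top Y] at hx
    obtain ⟨U, hxU⟩ := Opens.mem_iSup.1 hx
    exact Opens.mem_iSup.2 ⟨U, hxU⟩
  refine (PB.openCoverOfIsOpenCover _ hcov).hom_ext _ _ fun U => ?_
  change (pB ⁻¹ᵁ U.1).ι ≫ h ≫ pA = (pB ⁻¹ᵁ U.1).ι ≫ pB
  rw [← Category.assoc, hh U.1 U.2, ι_comp ℬ pB chartB hB U.1 U.2]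
  simp only [Category.assoc]
  rw [ι_comp 𝒜 pA chartA hA U.1 U.2, Iso.inv_hom_id_assoc, map_toSpecZero_assoc, ← Spec.map_comp_assoc,
    strZero_comp]

include hA hB hh in
set_option backward.isDefEq.respectTransparency false in
/-- The chart squares of a morphism of relative Proj's are pullback squares. -/
theorem isPullback_chart (U : Y.Opens) (hU : IsAffineOpen U) :
    IsPullback ((chartB U hU).hom ≫ Proj.map (RelProj.gradedHomAt φ hφ U hU) (hirr U hU) ≫
      (chartA U hU).inv) (pB ⁻¹ᵁ U).ι (pA ⁻¹ᵁ U).ι h := by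
  refine IsOpenImmersion.isPullback _ _ _ _ ?_ ?_
  · rw [hh U hU]; simp only [Category.assoc]
  · rw [Scheme.Opens.opensRange_ι, Scheme.Opens.opensRange_ι, ← Scheme.Hom.comp_preimage,
      comp_eq φ hφ hirr chartA chartB hA hB h hh]

include hA hB hh in
set_option backward.isDefEq.respectTransparency false in
/-- A target-local property holds for a morphism of relative Proj's as soon as it holds for all the
chart morphisms `Proj.map`. -/
theorem of_chartwise (P : MorphismProperty Scheme.{u}) [IsZariskiLocalAtTarget P]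
    (H : ∀ (U : Y.Opens) (hU : IsAffineOpen U),
      P (Proj.map (RelProj.gradedHomAt φ hφ U hU) (hirr U hU))) : P h := by
  have hcov : IsOpenCover (fun U : Y.affineOpens => pA ⁻¹ᵁ U.1) := by
    rw [IsOpenCover, eq_top_iff]
    intro x _
    have hx : pA x ∈ (⊤ : Y.Opens) := trivial
    rw [← iSup_affineOpens_eq_top Y] at hx
    obtain ⟨U, hxU⟩ := Opens.mem_iSup.1 hx
    exact Opens.mem_iSup.2 ⟨U, hxU⟩
  refine of_isPullback_openCover P h (PA.openCoverOfIsOpenCover _ hcov)
    (fun U => (pB ⁻¹ᵁ U.1 : PB.Opens)) (fun U => (pB ⁻¹ᵁ U.1).ι)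
    (fun U => (chartB U.1 U.2).hom ≫ Proj.map (RelProj.gradedHomAt φ hφ U.1 U.2) (hirr U.1 U.2) ≫
      (chartA U.1 U.2).inv)
    (fun U => isPullback_chart φ hφ hirr chartA chartB hA hB h hh U.1 U.2) (fun U => ?_)
  rw [P.cancel_left_of_respectsIso, P.cancel_right_of_respectsIso]
  exact H U.1 U.2

end Map

end Groth.Agent.Lib.Helper28.RelProj
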