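import Groth.Prelude.Def_RelProj
import Groth.Agent.Lib.Helper28.RelProj

set_option autoImplicit false
universe u
open CategoryTheory CategoryTheory.Limits AlgebraicGeometry Opposite TopologicalSpace
open scoped HomogeneousIdeal
open HomogeneousLocalization

namespace Groth.Agent.Lib.Helper28.RelProjGlue

open Groth.Agent.Lib.Helper28.ProjMap Groth.Agent.Lib.Helper28.RelProj

/-- Two morphisms that agree locally (on open immersions covering the source) are equal. -/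
theorem hom_ext_of_local {X Z : Scheme.{u}} (f g : X ⟶ Z)
    (H : ∀ x : X, ∃ (W : Scheme.{u}) (j : W ⟶ X), IsOpenImmersion j ∧ x ∈ Set.range j ∧
      j ≫ f = j ≫ g) : f = g := by
  choose W j hj hx hfg using H
  have : ∀ x, IsOpenImmersion (j x) := hj
  have hcov : IsOpenCover (fun x : X => (j x).opensRange) := by
    rw [IsOpenCover, eq_top_iff]
    intro x _
    exact Opens.mem_iSup.2 ⟨x, hx x⟩
  refine (X.openCoverOfIsOpenCover _ hcov).hom_ext _ _ fun (x : X) => ?_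
  change (j x).opensRange.ι ≫ f = (j x).opensRange.ι ≫ g
  rw [← cancel_epi (j x).isoOpensRange.hom]
  rw [Scheme.Hom.isoOpensRange_hom_ι_assoc, Scheme.Hom.isoOpensRange_hom_ι_assoc]
  exact hfg x

section Glue

variable {Y : Scheme.{u}} {PA PB : Scheme.{u}} {𝒜 ℬ : RelProj.QCGrAlg Y}
    (φ : 𝒜.toQCAlg ⟶ ℬ.toQCAlg) (hφ : RelProj.IsGradedHom φ)
    (hirr : ∀ (U : Y.Opens) (hU : IsAffineOpen U),
      (ℬ.deg U hU)₊ ≤ ((𝒜.deg U hU)₊).map (RelProj.gradedHomAt φ hφ U hU))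
    {pA : PA ⟶ Y} {pB : PB ⟶ Y}
    (chartA : ∀ (U : Y.Opens) (hU : IsAffineOpen U), (((pA ⁻¹ᵁ U : PA.Opens) : Scheme.{u}) ≅ Proj (𝒜.deg U hU)))
    (chartB : ∀ (U : Y.Opens) (hU : IsAffineOpen U), (((pB ⁻¹ᵁ U : PB.Opens) : Scheme.{u}) ≅ Proj (ℬ.deg U hU)))
    (hA : RelProj.IsRelProj 𝒜 pA chartA) (hB : RelProj.IsRelProj ℬ pB chartB)

/-- the local pieces of the induced morphism -/
noncomputable def piece (U : Y.Opens) (hU : IsAffineOpen U) : ((pB ⁻¹ᵁ U : PB.Opens) : Scheme.{u}) ⟶ PA :=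
  (chartB U hU).hom ≫ Proj.map (RelProj.gradedHomAt φ hφ U hU) (hirr U hU) ≫ (chartA U hU).inv ≫ (pA ⁻¹ᵁ U).ι

/-- naturality of graded hom with restriction -/
theorem gradedHomAt_res (U : Y.Opens) (hU : IsAffineOpen U) (r : Γ(Y, U)) :
    (ℬ.res hU (hU.basicOpen r) (Y.basicOpen_le r)).comp (RelProj.gradedHomAt φ hφ U hU) =
    (RelProj.gradedHomAt φ hφ _ (hU.basicOpen r)).comp (𝒜.res hU (hU.basicOpen r) (Y.basicOpen_le r)) := by
  ext x
  have := congrArg (fun t => t.hom x) (φ.hom.naturality (homOfLE (Y.basicOpen_le r)).op)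
  exact this.symm

include hA hB in
set_option backward.isDefEq.respectTransparency false in
/-- the pieces are compatible with restriction to basic opens -/
theorem piece_basicOpen (U : Y.Opens) (hU : IsAffineOpen U) (r : Γ(Y, U)) :
    PB.homOfLE (pB.preimage_mono (Y.basicOpen_le r)) ≫ piece φ hφ hirr chartA chartB U hU =
      piece φ hφ hirr chartA chartB (Y.basicOpen r) (hU.basicOpen r) := by
  unfold piece
  rw [← Category.assoc, hB.chart_res U hU r]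
  have h1 : Proj.map (ℬ.res hU (hU.basicOpen r) (Y.basicOpen_le r)) (ℬ.irrelevant_le_map U hU r) ≫
      Proj.map (RelProj.gradedHomAt φ hφ U hU) (hirr U hU) =
      Proj.map (RelProj.gradedHomAt φ hφ _ (hU.basicOpen r)) (hirr _ (hU.basicOpen r)) ≫
      Proj.map (𝒜.res hU (hU.basicOpen r) (Y.basicOpen_le r)) (𝒜.irrelevant_le_map U hU r) := by
    rw [← Proj.map_comp, ← Proj.map_comp]
    congr 1
    exact gradedHomAt_res φ hφ U hU r
  have h2 : Proj.map (𝒜.res hU (hU.basicOpen r) (Y.basicOpen_le r)) (𝒜.irrelevant_le_map U hU r) ≫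
      (chartA U hU).inv = (chartA _ (hU.basicOpen r)).inv ≫
        PA.homOfLE (pA.preimage_mono (Y.basicOpen_le r)) := by
    rw [Iso.comp_inv_eq, Category.assoc, hA.chart_res U hU r, Iso.inv_hom_id_assoc]
  simp only [Category.assoc]
  rw [reassoc_of% h1, reassoc_of% h2, Scheme.homOfLE_ι]

include hA hB in
/-- variant with an arbitrary affine open equal to a basic open -/
theorem piece_of_eq_basicOpen (U : Y.Opens) (hU : IsAffineOpen U) (r : Γ(Y, U))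
    (V : Y.Opens) (hV : IsAffineOpen V) (e : V = Y.basicOpen r) :
    PB.homOfLE (pB.preimage_mono (e.le.trans (Y.basicOpen_le r))) ≫ piece φ hφ hirr chartA chartB U hU =
      piece φ hφ hirr chartA chartB V hV := by
  subst e
  exact piece_basicOpen φ hφ hirr chartA chartB hA hB U hU r

include hA hB in
set_option backward.isDefEq.respectTransparency false in
/-- the pieces agree on overlaps -/
theorem piece_compat (U U' : Y.Opens) (hU : IsAffineOpen U) (hU' : IsAffineOpen U') :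
    pullback.fst (pB ⁻¹ᵁ U).ι (pB ⁻¹ᵁ U').ι ≫ piece φ hφ hirr chartA chartB U hU =
      pullback.snd (pB ⁻¹ᵁ U).ι (pB ⁻¹ᵁ U').ι ≫ piece φ hφ hirr chartA chartB U' hU' := by
  refine hom_ext_of_local _ _ fun x => ?_
  set z : PB := (pullback.fst (pB ⁻¹ᵁ U).ι (pB ⁻¹ᵁ U').ι ≫ (pB ⁻¹ᵁ U).ι) x with hz
  have hzU : pB z ∈ U := ((pullback.fst (pB ⁻¹ᵁ U).ι (pB ⁻¹ᵁ U').ι) x).2
  have hzU' : pB z ∈ U' := by
    rw [hz, pullback.condition]
    exact ((pullback.snd (pB ⁻¹ᵁ U).ι (pB ⁻¹ᵁ U').ι) x).2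
  obtain ⟨f, g, e, hfz⟩ := exists_basicOpen_le_affine_inter hU hU' (pB z) ⟨hzU, hzU'⟩
  have hV : IsAffineOpen (Y.basicOpen f) := hU.basicOpen f
  have l1 : pB ⁻¹ᵁ (Y.basicOpen f) ≤ pB ⁻¹ᵁ U := pB.preimage_mono (Y.basicOpen_le f)
  have l2 : pB ⁻¹ᵁ (Y.basicOpen f) ≤ pB ⁻¹ᵁ U' := pB.preimage_mono (e.le.trans (Y.basicOpen_le g))
  let j : ((pB ⁻¹ᵁ (Y.basicOpen f) : PB.Opens) : Scheme.{u}) ⟶ pullback (pB ⁻¹ᵁ U).ι (pB ⁻¹ᵁ U').ι :=
    pullback.lift (PB.homOfLE l1) (PB.homOfLE l2) (by simp)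
  have hj1 : j ≫ pullback.fst _ _ = PB.homOfLE l1 := pullback.lift_fst _ _ _
  have hj2 : j ≫ pullback.snd _ _ = PB.homOfLE l2 := pullback.lift_snd _ _ _
  have hjι : j ≫ (pullback.fst (pB ⁻¹ᵁ U).ι (pB ⁻¹ᵁ U').ι ≫ (pB ⁻¹ᵁ U).ι) = (pB ⁻¹ᵁ (Y.basicOpen f)).ι := by
    rw [reassoc_of% hj1, Scheme.homOfLE_ι]
  have hjo : IsOpenImmersion j := by
    have : IsOpenImmersion (j ≫ (pullback.fst (pB ⁻¹ᵁ U).ι (pB ⁻¹ᵁ U').ι ≫ (pB ⁻¹ᵁ U).ι)) := by
      rw [hjι]; infer_instance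
    exact IsOpenImmersion.of_comp j (pullback.fst (pB ⁻¹ᵁ U).ι (pB ⁻¹ᵁ U').ι ≫ (pB ⁻¹ᵁ U).ι)
  refine ⟨_, j, hjo, ?_, ?_⟩
  · have hzV : z ∈ pB ⁻¹ᵁ (Y.basicOpen f) := hfz
    have : (j ≫ (pullback.fst (pB ⁻¹ᵁ U).ι (pB ⁻¹ᵁ U').ι ≫ (pB ⁻¹ᵁ U).ι)) ⟨z, hzV⟩ = z := by
      rw [hjι]; rfl
    refine ⟨⟨z, hzV⟩, ?_⟩
    apply (pullback.fst (pB ⁻¹ᵁ U).ι (pB ⁻¹ᵁ U').ι ≫ (pB ⁻¹ᵁ U).ι).isOpenEmbedding.injective
    rw [← Scheme.Hom.comp_apply, this]
  · rw [reassoc_of% hj1, reassoc_of% hj2,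
      piece_of_eq_basicOpen φ hφ hirr chartA chartB hA hB U hU f _ hV rfl,
      piece_of_eq_basicOpen φ hφ hirr chartA chartB hA hB U' hU' g _ hV e]

theorem isOpenCover_preimage {P : Scheme.{u}} (p : P ⟶ Y) :
    IsOpenCover (fun U : Y.affineOpens => p ⁻¹ᵁ U.1) := by
  rw [IsOpenCover, eq_top_iff]
  intro x _
  have hx : p x ∈ (⊤ : Y.Opens) := trivial
  rw [← iSup_affineOpens_eq_top Y] at hx
  obtain ⟨U, hxU⟩ := Opens.mem_iSup.1 hx
  exact Opens.mem_iSup.2 ⟨U, hxU⟩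

include hA hB in
set_option backward.isDefEq.respectTransparency false in
/-- existence of the induced morphism of relative Proj's -/
theorem exists_isRelProjMap : ∃ h : PB ⟶ PA, RelProj.IsRelProjMap φ hφ hirr chartA chartB h := by
  let 𝒰 := PB.openCoverOfIsOpenCover _ (isOpenCover_preimage pB)
  refine ⟨𝒰.glueMorphisms (fun U => piece φ hφ hirr chartA chartB U.1 U.2)
    (fun U U' => piece_compat φ hφ hirr chartA chartB hA hB U.1 U'.1 U.2 U'.2), fun U hU => ?_⟩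
  exact 𝒰.ι_glueMorphisms _ _ ⟨U, hU⟩

omit hA hB in
/-- uniqueness of the induced morphism of relative Proj's -/
theorem isRelProjMap_unique (h h' : PB ⟶ PA) (hh : RelProj.IsRelProjMap φ hφ hirr chartA chartB h)
    (hh' : RelProj.IsRelProjMap φ hφ hirr chartA chartB h') : h = h' := by
  refine (PB.openCoverOfIsOpenCover _ (isOpenCover_preimage pB)).hom_ext _ _ fun U => ?_
  exact (hh U.1 U.2).trans (hh' U.1 U.2).symm

end Glue

end Groth.Agent.Lib.Helper28.RelProjGlue
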