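import Mathlib
import Groth.Agent.Lib.Helper28.RelProjGlue

/-!
# Gluing morphisms along a family of charts (helper28)
-/

set_option autoImplicit false
universe u
open CategoryTheory CategoryTheory.Limits AlgebraicGeometry Opposite TopologicalSpace

namespace Groth.Agent.Lib.Helper28.Glue

open Groth.Agent.Lib.Helper28.RelProjGlue (hom_ext_of_local)

variable {X Z : Scheme.{u}} {I : Type u} (W : I → Scheme.{u}) (c : ∀ t, W t ⟶ X)
  [∀ t, IsOpenImmersion (c t)] (hc : ∀ x : X, ∃ t, x ∈ Set.range (c t))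

/-- the cover by charts -/
noncomputable def cov : X.OpenCover where
  I₀ := I
  X t := W t
  f t := c t
  mem₀ := by
    rw [Scheme.presieve₀_mem_precoverage_iff]
    exact ⟨fun x => hc x, inferInstance⟩

variable (g : ∀ t, W t ⟶ Z)
  (H : ∀ t s, ∃ (V : Scheme.{u}) (a : V ⟶ W t) (b : V ⟶ W s), a ≫ c t = b ≫ c s ∧
    IsOpenImmersion (a ≫ c t) ∧ (Set.range (c t) ∩ Set.range (c s) ⊆ Set.range (a ≫ c t)) ∧
    a ≫ g t = b ≫ g s)

include H in
set_option backward.isDefEq.respectTransparency false in
theorem compat (t s : I) :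
    pullback.fst (c t) (c s) ≫ g t = pullback.snd (c t) (c s) ≫ g s := by
  refine hom_ext_of_local _ _ fun x => ?_
  obtain ⟨V, a, b, hab, hopen, hrange, hg⟩ := H t s
  set k := pullback.fst (c t) (c s) ≫ c t with hk
  have hk' : k = pullback.snd (c t) (c s) ≫ c s := pullback.condition
  let j : V ⟶ pullback (c t) (c s) := pullback.lift a b hab
  have hj1 : j ≫ pullback.fst _ _ = a := pullback.lift_fst _ _ _
  have hj2 : j ≫ pullback.snd _ _ = b := pullback.lift_snd _ _ _
  have hjk : j ≫ k = a ≫ c t := by rw [hk, reassoc_of% hj1]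
  have hko : IsOpenImmersion k := by rw [hk]; infer_instance
  have hjo : IsOpenImmersion j := by
    have : IsOpenImmersion (j ≫ k) := by rw [hjk]; exact hopen
    exact IsOpenImmersion.of_comp j k
  refine ⟨_, j, hjo, ?_, ?_⟩
  · have h1 : k x ∈ Set.range (c t) := ⟨(pullback.fst (c t) (c s)) x, rfl⟩
    have h2 : k x ∈ Set.range (c s) := by
      rw [hk']
      exact ⟨(pullback.snd (c t) (c s)) x, rfl⟩
    obtain ⟨y, hy⟩ := hrange ⟨h1, h2⟩
    refine ⟨y, ?_⟩
    apply k.isOpenEmbedding.injective
    rw [← Scheme.Hom.comp_apply, hjk]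
    exact hy
  · rw [reassoc_of% hj1, reassoc_of% hj2, hg]

include hc H in
set_option backward.isDefEq.respectTransparency false in
/-- gluing morphisms given on charts -/
theorem existsUnique_glue : ∃! p : X ⟶ Z, ∀ t, c t ≫ p = g t := by
  refine ⟨(cov W c hc).glueMorphisms g (compat W c g H), ?_, ?_⟩
  · intro t
    exact (cov W c hc).ι_glueMorphisms g (compat W c g H) t
  · intro p' hp'
    refine (cov W c hc).hom_ext _ _ fun (t : I) => ?_
    change c t ≫ p' = c t ≫ _
    rw [hp' t]
    exact ((cov W c hc).ι_glueMorphisms g (compat W c g H) t).symm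

end Groth.Agent.Lib.Helper28.Glue
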