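import Mathlib
import Groth.Agent.Lib.Helper28.Glue

/-!
# Gluing morphisms along a family of charts, pointwise overlap condition (helper28)
-/

set_option autoImplicit false
universe u
open CategoryTheory CategoryTheory.Limits AlgebraicGeometry Opposite TopologicalSpace

namespace Groth.Agent.Lib.Helper28.GlueLocal

open Groth.Agent.Lib.Helper28.RelProjGlue (hom_ext_of_local)
open Groth.Agent.Lib.Helper28.Glue (cov)

variable {X Z : Scheme.{u}} {I : Type u} (W : I → Scheme.{u}) (c : ∀ t, W t ⟶ X)
  [∀ t, IsOpenImmersion (c t)] (hc : ∀ x : X, ∃ t, x ∈ Set.range (c t))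

variable (g : ∀ t, W t ⟶ Z)
  (H : ∀ (t s : I) (x : W t) (y : W s), c t x = c s y →
    ∃ (V : Scheme.{u}) (a : V ⟶ W t) (b : V ⟶ W s), a ≫ c t = b ≫ c s ∧
      IsOpenImmersion (a ≫ c t) ∧ c t x ∈ Set.range (a ≫ c t) ∧ a ≫ g t = b ≫ g s)

include H in
set_option backward.isDefEq.respectTransparency false in
theorem compat (t s : I) :
    pullback.fst (c t) (c s) ≫ g t = pullback.snd (c t) (c s) ≫ g s := by
  refine hom_ext_of_local _ _ fun x => ?_
  set k := pullback.fst (c t) (c s) ≫ c t with hk
  have hk' : k = pullback.snd (c t) (c s) ≫ c s := pullback.condition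
  have hxy : c t (pullback.fst (c t) (c s) x) = c s (pullback.snd (c t) (c s) x) := by
    rw [← Scheme.Hom.comp_apply, ← Scheme.Hom.comp_apply, pullback.condition]
  obtain ⟨V, a, b, hab, hopen, hrange, hg⟩ := H t s _ _ hxy
  let j : V ⟶ pullback (c t) (c s) := pullback.lift a b hab
  have hj1 : j ≫ pullback.fst _ _ = a := pullback.lift_fst _ _ _
  have hj2 : j ≫ pullback.snd _ _ = b := pullback.lift_snd _ _ _
  have hjk : j ≫ k = a ≫ c t := by rw [hk, reassoc_of% hj1]
  have hko : IsOpenImmersion k := by rw [hk]; infer_instance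
  have hjo : IsOpenImmersion j := by
    have : IsOpenImmersion (j ≫ k) := by rw [hjk]; exact hopen
    exact IsOpenImmersion.of_comp j k
  refine ⟨_, j, hjo, ?_, ?_⟩
  · obtain ⟨y, hy⟩ := hrange
    refine ⟨y, ?_⟩
    apply k.isOpenEmbedding.injective
    rw [← Scheme.Hom.comp_apply, hjk, hy, hk, Scheme.Hom.comp_apply]
  · rw [reassoc_of% hj1, reassoc_of% hj2, hg]

include hc H in
set_option backward.isDefEq.respectTransparency false in
/-- gluing morphisms given on charts, with a pointwise overlap condition -/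
theorem existsUnique_glue : ∃! p : X ⟶ Z, ∀ t, c t ≫ p = g t := by
  refine ⟨(cov W c hc).glueMorphisms g (compat W c g H), ?_, ?_⟩
  · intro t
    exact (cov W c hc).ι_glueMorphisms g (compat W c g H) t
  · intro p' hp'
    refine (cov W c hc).hom_ext _ _ fun (t : I) => ?_
    change c t ≫ p' = c t ≫ _
    rw [hp' t]
    exact ((cov W c hc).ι_glueMorphisms g (compat W c g H) t).symm

end Groth.Agent.Lib.Helper28.GlueLocal
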