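import Mathlib

/-!
# Integral morphisms over a normal integral scheme with a rational section (helper28)

EGA II 6.1.14/6.1.15: if `X` is integral and normal, `g : X' ⟶ X` is integral and `s : U ⟶ X'` is a
section of `g` over a dense open `U`, then `s` extends to a global section.
-/

set_option autoImplicit false
universe u
open CategoryTheory CategoryTheory.Limits AlgebraicGeometry Opposite TopologicalSpace

namespace Groth.Agent.Lib.Helper28.NormalSection

/-- Sections over a nonempty affine open of an integral scheme with integrally closed stalks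
form an integrally closed domain (same as `Lib/Helper13/IntBirational`). -/
theorem isIntegrallyClosed_of_isAffineOpen (X : Scheme.{u}) [IsIntegral X]
    (V : X.Opens) (hX : ∀ x ∈ V, IsIntegrallyClosed (X.presheaf.stalk x))
    (hV : IsAffineOpen V) [Nonempty V] : IsIntegrallyClosed Γ(X, V) := by
  let _ (y : PrimeSpectrum Γ(X, V)) : Algebra Γ(X, V) (X.presheaf.stalk (hV.fromSpec y)) :=
    TopCat.Presheaf.algebra_section_stalk X.presheaf ⟨hV.fromSpec y, (hV.isoSpec.inv _).2⟩
  have (P : Ideal Γ(X, V)) [hP : P.IsPrime] : IsLocalization.AtPrime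
      (X.presheaf.stalk (hV.fromSpec ⟨P, hP⟩)) P :=
    hV.isLocalization_stalk' ⟨P, hP⟩ (hV.isoSpec.inv _).2
  exact IsIntegrallyClosed.of_isLocalization_maximal
    (fun P hP => X.presheaf.stalk (hV.fromSpec ⟨P, hP.isPrime⟩))
    (fun P hP => hX _ (hV.isoSpec.inv _).2)

/-- Two morphisms that agree locally (on open immersions covering the source) are equal. -/
theorem hom_ext_of_local {X Z : Scheme.{u}} (f g : X ⟶ Z)
    (H : ∀ x : X, ∃ (W : Scheme.{u}) (j : W ⟶ X), IsOpenImmersion j ∧ x ∈ Set.range j ∧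
      j ≫ f = j ≫ g) : f = g := by
  choose W j hj hx hfg using H
  have : ∀ x, IsOpenImmersion (j x) := hj
  have hcov : IsOpenCover (fun x : X => (j x).opensRange) := by
    rw [IsOpenCover, eq_top_iff]
    intro x _
    exact Opens.mem_iSup.2 ⟨x, hx x⟩
  refine (X.openCoverOfIsOpenCover _ hcov).hom_ext _ _ fun (x : X) => ?_
  change (j x).opensRange.ι ≫ f = (j x).opensRange.ι ≫ g
  rw [← cancel_epi (j x).isoOpensRange.hom]
  rw [Scheme.Hom.isoOpensRange_hom_ι_assoc, Scheme.Hom.isoOpensRange_hom_ι_assoc]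
  exact hfg x

/-- **Algebra**: `A` an integrally closed domain with fraction field `K`, `φ : A → B` integral,
`τ : B → C`, `κ : C → K` injective with `κ ∘ τ ∘ φ` the canonical map. Then `τ` factors through
`ρ = τ ∘ φ : A → C` via a retraction of `φ`. -/
theorem exists_lift {A B C K : Type*} [CommRing A] [IsDomain A] [IsIntegrallyClosed A]
    [CommRing B] [CommRing C] [Field K] [Algebra A K] [IsFractionRing A K]
    (φ : A →+* B) (hφ : φ.IsIntegral) (ρ : A →+* C) (τ : B →+* C) (κ : C →+* K)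
    (hκ : Function.Injective κ) (hρ : τ.comp φ = ρ) (hκρ : κ.comp ρ = algebraMap A K) :
    ∃ ψ : B →+* A, ρ.comp ψ = τ ∧ ψ.comp φ = RingHom.id A := by
  have hρinj : Function.Injective ρ := by
    have : Function.Injective (κ.comp ρ) := by
      rw [hκρ]; exact IsFractionRing.injective A K
    exact Function.Injective.of_comp (f := κ) (by simpa using this)
  have key : ∀ b : B, ∃ a : A, ρ a = τ b := by
    intro b
    have hc : IsIntegral A (κ (τ b)) := by
      obtain ⟨p, hp, hp0⟩ := hφ b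
      refine ⟨p, hp, ?_⟩
      have := congrArg (κ.comp τ) hp0
      rw [Polynomial.hom_eval₂, map_zero, RingHom.comp_assoc, hρ, hκρ] at this
      exact this
    obtain ⟨a, ha⟩ := (isIntegrallyClosed_iff K).mp inferInstance hc
    refine ⟨a, hκ ?_⟩
    rw [← ha, ← hκρ]; rfl
  choose f hf using key
  refine ⟨{ toFun := f
            map_one' := hρinj (by rw [hf, map_one, map_one])
            map_mul' := fun x y => hρinj (by rw [hf, map_mul, map_mul, hf, hf])
            map_zero' := hρinj (by rw [hf, map_zero, map_zero])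
            map_add' := fun x y => hρinj (by rw [hf, map_add, map_add, hf, hf]) }, ?_, ?_⟩
  · ext b; exact hf b
  · ext a
    apply hρinj
    change ρ (f (φ a)) = ρ a
    rw [hf, ← hρ]; rfl

/-- A morphism landing in an affine open `W` is determined by its comorphism on `W`. -/
theorem eq_toSpecΓ_appLE_fromSpec {Y Z : Scheme.{u}} (f : Y ⟶ Z) (W : Z.Opens)
    (hW : IsAffineOpen W) (h : ⊤ ≤ f ⁻¹ᵁ W) :
    f = Y.toSpecΓ ≫ Spec.map (f.appLE W ⊤ h) ≫ hW.fromSpec := by
  have : IsIso (⊤ : Y.Opens).ι := by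
    have : (⊤ : Y.Opens).ι = Y.topIso.hom := rfl
    rw [this]; infer_instance
  rw [← cancel_epi (⊤ : Y.Opens).ι]
  have h1 := Scheme.Opens.toSpecΓ_SpecMap_appLE f W ⊤ h
  rw [Scheme.Opens.toSpecΓ_top] at h1
  rw [Category.assoc] at h1
  rw [reassoc_of% h1, IsAffineOpen.toSpecΓ_fromSpec, Scheme.Hom.resLE_comp_ι]

variable {X X' : Scheme.{u}} (g : X' ⟶ X) (U : X.Opens) (s : (U : Scheme.{u}) ⟶ X')

theorem isDominant_homOfLE (hU : Dense (U : Set X)) (V : X.Opens) :
    IsDominant (X.homOfLE (inf_le_right : U ⊓ V ≤ V)) := by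
  constructor
  have hd : Dense ((V.ι : V → X) ⁻¹' (U : Set X)) := hU.preimage V.ι.isOpenEmbedding.isOpenMap
  refine hd.mono ?_
  rintro x hx
  exact ⟨⟨x.1, hx, x.2⟩, Subtype.ext (X.homOfLE_apply _ _)⟩

/-- uniqueness of local extensions -/
theorem ext_unique [IsReduced X] [IsSeparated g] (hU : Dense (U : Set X)) (V : X.Opens)
    (σ σ' : (V : Scheme.{u}) ⟶ X') (h1 : σ ≫ g = V.ι) (h1' : σ' ≫ g = V.ι)
    (h2 : X.homOfLE (inf_le_right : U ⊓ V ≤ V) ≫ σ = X.homOfLE (inf_le_left : U ⊓ V ≤ U) ≫ s)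
    (h2' : X.homOfLE (inf_le_right : U ⊓ V ≤ V) ≫ σ' = X.homOfLE (inf_le_left : U ⊓ V ≤ U) ≫ s) :
    σ = σ' := by
  have := isDominant_homOfLE U hU V
  exact ext_of_isDominant_of_isSeparated g (h1.trans h1'.symm) (X.homOfLE inf_le_right)
    (h2.trans h2'.symm)

set_option backward.isDefEq.respectTransparency false in
/-- local existence on a nonempty affine open -/
theorem exists_ext_of_nonempty [IsIntegral X] (hX : ∀ x : X, IsIntegrallyClosed (X.presheaf.stalk x))
    [IsIntegralHom g] (hU : Dense (U : Set X)) (hs : s ≫ g = U.ι)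
    (V : X.Opens) (hV : IsAffineOpen V) [Nonempty V] :
    ∃ σ : (V : Scheme.{u}) ⟶ X', σ ≫ g = V.ι ∧
      X.homOfLE (inf_le_right : U ⊓ V ≤ V) ≫ σ = X.homOfLE (inf_le_left : U ⊓ V ≤ U) ≫ s := by
  have hW : IsAffineOpen (g ⁻¹ᵁ V) := hV.preimage g
  set P : X.Opens := U ⊓ V with hP
  have hPne : Nonempty P := by
    obtain ⟨v⟩ := (inferInstance : Nonempty V)
    obtain ⟨x, hxV, hxU⟩ := hU.inter_open_nonempty V V.isOpen ⟨v.1, v.2⟩
    exact ⟨⟨x, hxU, hxV⟩⟩
  -- the morphism `P ⟶ X'`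
  set t : (P : Scheme.{u}) ⟶ X' := X.homOfLE (inf_le_left : U ⊓ V ≤ U) ≫ s with ht
  have htg : t ≫ g = P.ι := by
    rw [ht, Category.assoc, hs, Scheme.homOfLE_ι]
  have hle : (⊤ : (P : Scheme.{u}).Opens) ≤ t ⁻¹ᵁ (g ⁻¹ᵁ V) := by
    rw [← Scheme.Hom.comp_preimage, htg]
    intro x _
    exact x.2.2
  -- rings
  have : IsDomain Γ(X, V) := IsIntegral.component_integral V
  have := isIntegrallyClosed_of_isAffineOpen X V (fun x _ => hX x) hV
  have := functionField_isFractionRing_of_isAffineOpen X V hV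
  let φ : Γ(X, V) ⟶ Γ(X', g ⁻¹ᵁ V) := g.app V
  let τ : Γ(X', g ⁻¹ᵁ V) ⟶ Γ(X, P) := t.appLE (g ⁻¹ᵁ V) ⊤ hle ≫ P.topIso.hom
  let ρ : Γ(X, V) ⟶ Γ(X, P) := X.presheaf.map (homOfLE (inf_le_right : U ⊓ V ≤ V)).op
  have hφτ : φ ≫ τ = ρ := by
    simp only [φ, τ, ρ]
    rw [Scheme.Hom.app_eq_appLE, ← Category.assoc, Scheme.Hom.appLE_comp_appLE]
    simp only [htg, Scheme.Opens.ι_appLE, Scheme.Opens.topIso_hom, ← Functor.map_comp]
    rfl
  obtain ⟨ψ, hψ1, hψ2⟩ := exists_lift (K := X.functionField) φ.hom (g.isIntegral_app V hV) ρ.hom τ.hom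
    (X.germToFunctionField P).hom (X.germToFunctionField_injective P)
    (by rw [← CommRingCat.hom_comp, hφτ]) (by
      rw [← CommRingCat.hom_comp]
      have : ρ ≫ X.germToFunctionField P = X.germToFunctionField V :=
        X.presheaf.germ_res _ _ _
      rw [this]; rfl)
  refine ⟨V.toSpecΓ ≫ Spec.map (CommRingCat.ofHom ψ) ≫ hW.fromSpec, ?_, ?_⟩
  · have h1 := IsAffineOpen.SpecMap_appLE_fromSpec g hV hW le_rfl
    rw [← Scheme.Hom.app_eq_appLE] at h1
    rw [Category.assoc, Category.assoc, ← h1, ← Spec.map_comp_assoc]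
    have : g.app V ≫ CommRingCat.ofHom ψ = 𝟙 _ := by
      ext a
      exact congr($hψ2 a)
    rw [this, Spec.map_id, Category.id_comp, IsAffineOpen.toSpecΓ_fromSpec]
  · rw [← Scheme.Opens.toSpecΓ_SpecMap_presheaf_map_assoc, ← Spec.map_comp_assoc]
    have : CommRingCat.ofHom ψ ≫ X.presheaf.map (homOfLE (inf_le_right : U ⊓ V ≤ V)).op = τ := by
      ext b
      exact congr($hψ1 b)
    rw [this]
    conv_rhs => rw [eq_toSpecΓ_appLE_fromSpec t (g ⁻¹ᵁ V) hW hle]
    simp only [τ, Scheme.Opens.toSpecΓ, Spec.map_comp, Category.assoc]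
    rw [← Spec.map_comp_assoc, Iso.hom_inv_id, Spec.map_id, Category.id_comp]

/-- local existence on an affine open -/
theorem exists_ext [IsIntegral X] (hX : ∀ x : X, IsIntegrallyClosed (X.presheaf.stalk x))
    [IsIntegralHom g] (hU : Dense (U : Set X)) (hs : s ≫ g = U.ι)
    (V : X.Opens) (hV : IsAffineOpen V) :
    ∃ σ : (V : Scheme.{u}) ⟶ X', σ ≫ g = V.ι ∧
      X.homOfLE (inf_le_right : U ⊓ V ≤ V) ≫ σ = X.homOfLE (inf_le_left : U ⊓ V ≤ U) ≫ s := by
  by_cases hne : Nonempty V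
  · exact exists_ext_of_nonempty g U s hX hU hs V hV
  · have hE : IsEmpty (V : Scheme.{u}) := by
      rw [not_nonempty_iff] at hne
      exact hne
    have hE' : IsEmpty ((U ⊓ V : X.Opens) : Scheme.{u}) :=
      ⟨fun x => hE.false ⟨x.1, x.2.2⟩⟩
    refine ⟨(isInitialOfIsEmpty : IsInitial (V : Scheme.{u})).to X', ?_, ?_⟩
    · exact (isInitialOfIsEmpty : IsInitial (V : Scheme.{u})).hom_ext _ _
    · exact (isInitialOfIsEmpty : IsInitial ((U ⊓ V : X.Opens) : Scheme.{u})).hom_ext _ _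

set_option backward.isDefEq.respectTransparency false in
/-- **EGA II 6.1.14**: a section over a dense open of an integral morphism over a normal integral
scheme extends to a global section. -/
theorem exists_section [IsIntegral X] (hX : ∀ x : X, IsIntegrallyClosed (X.presheaf.stalk x))
    [IsIntegralHom g] (hU : Dense (U : Set X)) (hs : s ≫ g = U.ι) :
    ∃ s' : X ⟶ X', s' ≫ g = 𝟙 X ∧ U.ι ≫ s' = s := by
  choose σ hσ1 hσ2 using fun V : X.affineOpens => exists_ext g U s hX hU hs V.1 V.2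
  have compat : ∀ {V V' : X.directedAffineCover.I₀} (hVV' : V ⟶ V'),
      X.directedAffineCover.trans hVV' ≫ σ V' = σ V := by
    intro V V' hVV'
    have hle : V.1 ≤ V'.1 := leOfHom hVV'
    have htr : X.directedAffineCover.trans hVV' = X.homOfLE hle := rfl
    rw [htr]
    refine ext_unique g U s hU V.1 _ _ ?_ (hσ1 V) ?_ (hσ2 V)
    · rw [Category.assoc, hσ1, Scheme.homOfLE_ι]
    · have hle' : U ⊓ V.1 ≤ U ⊓ V'.1 := inf_le_inf_left U hle
      have e1 : X.homOfLE (inf_le_right : U ⊓ V.1 ≤ V.1) ≫ X.homOfLE hle =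
          X.homOfLE hle' ≫ X.homOfLE (inf_le_right : U ⊓ V'.1 ≤ V'.1) := by
        rw [Scheme.homOfLE_homOfLE, Scheme.homOfLE_homOfLE]
      rw [reassoc_of% e1, hσ2, Scheme.homOfLE_homOfLE_assoc]
  let s' : X ⟶ X' := X.directedAffineCover.glueMorphismsOfLocallyDirected σ compat
  have hs' : ∀ V : X.affineOpens, V.1.ι ≫ s' = σ V := fun V =>
    X.directedAffineCover.map_glueMorphismsOfLocallyDirected σ compat V
  refine ⟨s', ?_, ?_⟩
  · refine X.directedAffineCover.hom_ext _ _ fun V => ?_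
    change V.1.ι ≫ s' ≫ g = V.1.ι ≫ 𝟙 X
    rw [reassoc_of% hs' V, hσ1, Category.comp_id]
  · refine hom_ext_of_local _ _ fun x => ?_
    obtain ⟨_, ⟨V, hV : IsAffineOpen V, rfl⟩, hxV, -⟩ :=
      X.isBasis_affineOpens.exists_subset_of_mem_open (Set.mem_univ x.1) isOpen_univ
    refine ⟨_, X.homOfLE (inf_le_left : U ⊓ V ≤ U), inferInstance, ⟨⟨x.1, x.2, hxV⟩, ?_⟩, ?_⟩
    · exact Subtype.ext (X.homOfLE_apply _ _)
    · rw [Scheme.homOfLE_ι_assoc, ← hσ2 ⟨V, hV⟩, ← hs' ⟨V, hV⟩, Scheme.homOfLE_ι_assoc]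

/-- **Algebra**: an integral ring map into a domain admitting a retraction is bijective
(incomparability). -/
theorem bijective_of_retraction {A B A' : Type*} [CommRing A] [Nontrivial A] [CommRing B]
    [IsDomain B] [CommRing A'] (φ : A →+* B) (hφ : φ.IsIntegral) (ψ : B →+* A')
    (h : Function.Bijective (ψ.comp φ)) : Function.Bijective φ := by
  letI := φ.toAlgebra
  haveI : Algebra.IsIntegral A B := ⟨hφ⟩
  have hker : RingHom.ker ψ = ⊥ := by
    apply Ideal.eq_bot_of_comap_eq_bot (R := A)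
    rw [eq_bot_iff]
    intro x hx
    rw [Ideal.mem_comap, RingHom.mem_ker] at hx
    have : (ψ.comp φ) x = (ψ.comp φ) 0 := by rw [map_zero]; exact hx
    exact h.1 this
  have hψ : Function.Injective ψ := (RingHom.injective_iff_ker_eq_bot ψ).2 hker
  refine ⟨Function.Injective.of_comp (f := ψ) (by simpa using h.1), fun b => ?_⟩
  obtain ⟨a, ha⟩ := h.2 (ψ b)
  exact ⟨a, hψ ha⟩

theorem bijective_app_of_eq_id {X : Scheme.{u}} (j : X ⟶ X) (hj : j = 𝟙 X) (V : X.Opens) :
    Function.Bijective (j.app V).hom := by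
  subst hj
  rw [Scheme.Hom.id_app]
  exact Function.bijective_id

set_option backward.isDefEq.respectTransparency false in
/-- An integral morphism from an integral scheme admitting a section is an isomorphism. -/
theorem isIso_of_section {X X' : Scheme.{u}} [IsIntegral X] [IsIntegral X'] (g : X' ⟶ X)
    [IsIntegralHom g] (s' : X ⟶ X') (hs' : s' ≫ g = 𝟙 X) : IsIso g := by
  refine (IsZariskiLocalAtTarget.iff_of_iSup_eq_top (P := .isomorphisms Scheme) _
    (iSup_affineOpens_eq_top X)).mpr fun V => ?_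
  obtain ⟨V, hV⟩ := V
  rw [MorphismProperty.isomorphisms.iff]
  by_cases hne : Nonempty V
  · rw [isIso_morphismRestrict_iff_isIso_app g hV]
    apply (ConcreteCategory.isIso_iff_bijective _).mpr
    obtain ⟨v⟩ := hne
    haveI hne' : Nonempty ↥(g ⁻¹ᵁ V) := by
      refine ⟨⟨s' v.1, ?_⟩⟩
      change g (s' v.1) ∈ V
      rw [← Scheme.Hom.comp_apply, hs']
      exact v.2
    haveI : Nonempty V := ⟨v⟩
    haveI : IsDomain Γ(X, V) := IsIntegral.component_integral V
    haveI : IsDomain Γ(X', g ⁻¹ᵁ V) := @IsIntegral.component_integral _ _ (g ⁻¹ᵁ V) hne'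
    have key := bijective_app_of_eq_id (s' ≫ g) hs' V
    exact bijective_of_retraction (g.app V).hom (g.isIntegral_app V hV) (s'.app (g ⁻¹ᵁ V)).hom key
  · have hE : IsEmpty (V : Scheme.{u}) := by
      rw [not_nonempty_iff] at hne
      exact hne
    infer_instance

end Groth.Agent.Lib.Helper28.NormalSection
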