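import Mathlib
import Groth.Agent.Lib.Helper28.FinQuot
import Groth.Agent.Lib.Helper28.GlueLocal
import Groth.Agent.Lib.Helper28.NormalSection

/-!
# Quotients by finite groups are categorical quotients (helper28)
-/

set_option autoImplicit false
universe u
open CategoryTheory CategoryTheory.Limits AlgebraicGeometry Opposite TopologicalSpace
open scoped Pointwise

namespace Groth.Agent.Lib.Helper28.FinQuot

/-- A surjective morphism which is injective on sections is an epimorphism (cf. S2913). -/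
theorem epi_of_surjective_of_app_injective {S' S : Scheme.{u}} (g : S' ⟶ S)
    (hsurj : Function.Surjective g)
    (hinj : ∀ U : S.Opens, Function.Injective (g.app U).hom) : Epi g := by
  constructor
  intro T f1 f2 h
  have hbase : f1.base = f2.base := by
    have h' : g.base ≫ f1.base = g.base ≫ f2.base := by
      rw [← Scheme.Hom.comp_base, ← Scheme.Hom.comp_base, h]
    have hepi : Epi g.base := (TopCat.epi_iff_surjective _).mpr hsurj
    exact (cancel_epi g.base).mp h'
  refine Scheme.Hom.ext hbase ?_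
  intro U
  have key : ∀ (φ ψ : Γ(T, U) ⟶ Γ(S, f2 ⁻¹ᵁ U)), φ ≫ g.app (f2 ⁻¹ᵁ U) = ψ ≫ g.app (f2 ⁻¹ᵁ U) → φ = ψ := by
    intro φ ψ hφψ
    apply CommRingCat.hom_ext
    apply RingHom.ext
    intro x
    apply hinj (f2 ⁻¹ᵁ U)
    have := congrArg (fun k => k.hom x) hφψ
    simpa using this
  apply key
  rw [Category.assoc, ← Scheme.Hom.comp_app, Scheme.Hom.naturality, ← Category.assoc,
    ← Scheme.Hom.comp_app, Scheme.Hom.congr_app h U]
  have hid : ∀ (V : S'.Opens) (e : op V ⟶ op V), S'.presheaf.map e = 𝟙 _ := by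
    intro V e
    rw [Subsingleton.elim e (𝟙 _), S'.presheaf.map_id]
  erw [Category.assoc, ← Functor.map_comp, hid, Category.comp_id]

variable {X Y : Scheme.{u}} {G : Type u} [Group G] (ρ : G →* Aut X) (p : X ⟶ Y)
  (hp : SGA1.IsQuot ρ p)

omit [Group G] in
theorem restrict_app_injective (hinj : ∀ U : Y.Opens, Function.Injective (p.app U).hom)
    (U : Y.Opens) (V : (U : Scheme.{u}).Opens) : Function.Injective ((p ∣_ U).app V).hom := by
  rw [morphismRestrict_app]
  have h1 : Function.Injective (X.presheaf.map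
      (eqToHom (image_morphismRestrict_preimage p U V)).op).hom :=
    ((ConcreteCategory.isIso_iff_bijective _).mp inferInstance).1
  exact h1.comp (hinj _)

omit [Group G] in
theorem restrict_surjective (hsurj : Function.Surjective p) (U : Y.Opens) :
    Function.Surjective (p ∣_ U) := by
  intro y
  obtain ⟨x, hx⟩ := hsurj y.1
  have hxU : x ∈ p ⁻¹ᵁ U := by change p x ∈ U; rw [hx]; exact y.2
  refine ⟨⟨x, hxU⟩, ?_⟩
  apply Subtype.ext
  have := congr($(morphismRestrict_ι p U) ⟨x, hxU⟩)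
  exact this.trans hx

variable [Finite G]

include hp in
theorem epi : Epi p :=
  epi_of_surjective_of_app_injective p (surjective ρ p hp) hp.injective

include hp in
theorem epi_restrict (U : Y.Opens) : Epi (p ∣_ U) :=
  epi_of_surjective_of_app_injective _ (restrict_surjective p (surjective ρ p hp) U)
    (restrict_app_injective p hp.injective U)

include hp in
theorem isQuotientMap : Topology.IsQuotientMap p := by
  have := isIntegralHom ρ p hp
  exact IsClosedMap.isQuotientMap p.isClosedMap p.continuous (surjective ρ p hp)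

include hp in
/-- `G`-stable opens of `X` descend to `Y`. -/
theorem exists_open_preimage_eq (S : X.Opens) (hS : ∀ g : G, (ρ g).hom ⁻¹ᵁ S = S) :
    ∃ V : Y.Opens, p ⁻¹ᵁ V = S := by
  have hsat : p ⁻¹' (p '' (S : Set X)) = S := by
    ext x
    constructor
    · rintro ⟨x', hx', hxx'⟩
      obtain ⟨g, rfl⟩ := exists_of_apply_eq ρ p hp x' x hxx'
      have : x' ∈ (ρ g).hom ⁻¹ᵁ S := by rw [hS g]; exact hx'
      exact this
    · intro hx
      exact ⟨x, hx, rfl⟩
  have hopen : IsOpen (p '' (S : Set X)) := by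
    rw [← (isQuotientMap ρ p hp).isOpen_preimage, hsat]
    exact S.isOpen
  exact ⟨⟨p '' (S : Set X), hopen⟩, Opens.ext hsat⟩

/-- lifting a ring hom through an injective one -/
theorem exists_ringHom_lift {A B C : Type*} [CommRing A] [CommRing B] [CommRing C]
    (ι : A →+* B) (hι : Function.Injective ι) (f : C →+* B) (hf : ∀ c, f c ∈ Set.range ι) :
    ∃ θ : C →+* A, ι.comp θ = f := by
  choose t ht using hf
  refine ⟨{ toFun := t
            map_one' := hι (by rw [ht, map_one, map_one])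
            map_mul' := fun x y => hι (by rw [ht, map_mul, map_mul, ht, ht])
            map_zero' := hι (by rw [ht, map_zero, map_zero])
            map_add' := fun x y => hι (by rw [ht, map_add, map_add, ht, ht]) }, ?_⟩
  ext c; exact ht c

set_option backward.isDefEq.respectTransparency false in
omit [Finite G] in
include hp in
/-- local descent of an invariant morphism over an affine open of the target -/
theorem exists_local_desc {Z : Scheme.{u}} (h : X ⟶ Z) (hh : ∀ g : G, (ρ g).hom ≫ h = h)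
    (T₀ : Z.Opens) (hT₀ : IsAffineOpen T₀) (V : Y.Opens) (e : p ⁻¹ᵁ V = h ⁻¹ᵁ T₀) :
    ∃ k : (V : Scheme.{u}) ⟶ Z, (p ∣_ V) ≫ k = (p ⁻¹ᵁ V).ι ≫ h := by
  have hrange : ∀ c : Γ(Z, T₀), (h.appLE T₀ (p ⁻¹ᵁ V) e.le).hom c ∈ Set.range (p.app V).hom := by
    intro c
    rw [mem_range_iff ρ p hp]
    intro g
    have h1 := Scheme.Hom.appLE_comp_appLE (ρ g).hom h T₀ (p ⁻¹ᵁ V) (p ⁻¹ᵁ V) e.le
      (SGA1.preimage_le_of_inv ρ p hp.inv g V)
    rw [appLE_congr (hh g)] at h1
    exact congr($h1 c)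
  obtain ⟨θ, hθ⟩ := exists_ringHom_lift (p.app V).hom (hp.injective V)
    (h.appLE T₀ (p ⁻¹ᵁ V) e.le).hom hrange
  have hθ' : CommRingCat.ofHom θ ≫ p.app V = h.appLE T₀ (p ⁻¹ᵁ V) e.le := by
    ext c; exact congr($hθ c)
  refine ⟨V.toSpecΓ ≫ Spec.map (CommRingCat.ofHom θ) ≫ hT₀.fromSpec, ?_⟩
  rw [← Scheme.Opens.toSpecΓ_naturality_assoc, ← Spec.map_comp_assoc, hθ',
    Scheme.Opens.toSpecΓ_SpecMap_appLE_assoc, IsAffineOpen.toSpecΓ_fromSpec,
    Scheme.Hom.resLE_comp_ι]

omit [Group G] in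
theorem restrict_homOfLE {U U' : Y.Opens} (hle : U' ≤ U) :
    (p ∣_ U') ≫ Y.homOfLE hle = X.homOfLE (p.preimage_mono hle) ≫ (p ∣_ U) := by
  rw [← cancel_mono U.ι, Category.assoc, Category.assoc, Scheme.homOfLE_ι, morphismRestrict_ι,
    morphismRestrict_ι, Scheme.homOfLE_ι_assoc]

set_option backward.isDefEq.respectTransparency false in
include hp in
/-- **SGA1 V 1.3**: a quotient by a finite group is a categorical quotient. -/
theorem existsUnique_desc {Z : Scheme.{u}} (h : X ⟶ Z) (hh : ∀ g : G, (ρ g).hom ≫ h = h) :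
    ∃! h' : Y ⟶ Z, p ≫ h' = h := by
  have hepi := epi ρ p hp
  -- local data indexed by affine opens of `Z`
  have hV : ∀ T : Z.affineOpens, ∃ V : Y.Opens, p ⁻¹ᵁ V = h ⁻¹ᵁ T.1 := fun T =>
    exists_open_preimage_eq ρ p hp (h ⁻¹ᵁ T.1) fun g => by
      rw [← Scheme.Hom.comp_preimage, hh g]
  choose V hVe using hV
  have hk : ∀ T : Z.affineOpens, ∃ k : ((V T : Y.Opens) : Scheme.{u}) ⟶ Z,
      (p ∣_ (V T)) ≫ k = (p ⁻¹ᵁ (V T)).ι ≫ h := fun T =>
    exists_local_desc ρ p hp h hh T.1 T.2 (V T) (hVe T)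
  choose k hk using hk
  have hcov : ∀ y : Y, ∃ T : Z.affineOpens, y ∈ Set.range (V T).ι := by
    intro y
    obtain ⟨x, rfl⟩ := surjective ρ p hp y
    obtain ⟨T, hT, hxT⟩ := exists_affine_mem (h x)
    refine ⟨⟨T, hT⟩, ?_⟩
    rw [Scheme.Opens.range_ι]
    have : x ∈ p ⁻¹ᵁ (V ⟨T, hT⟩) := by rw [hVe]; exact hxT
    exact this
  obtain ⟨h', hh', -⟩ := GlueLocal.existsUnique_glue (fun T : Z.affineOpens => ((V T : Y.Opens) : Scheme.{u}))
    (fun T => (V T).ι) hcov k (by
      intro t s x y hxy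
      have hx : (V t).ι x ∈ V t ⊓ V s := ⟨x.2, by rw [hxy]; exact y.2⟩
      refine ⟨((V t ⊓ V s : Y.Opens) : Scheme.{u}), Y.homOfLE inf_le_left, Y.homOfLE inf_le_right,
        ?_, ?_, ?_, ?_⟩
      · rw [Scheme.homOfLE_ι, Scheme.homOfLE_ι]
      · rw [Scheme.homOfLE_ι]; infer_instance
      · rw [Scheme.homOfLE_ι, Scheme.Opens.range_ι]; exact hx
      · haveI := epi_restrict ρ p hp (V t ⊓ V s)
        rw [← cancel_epi (p ∣_ (V t ⊓ V s)), ← Category.assoc, ← Category.assoc,
          restrict_homOfLE, restrict_homOfLE, Category.assoc, Category.assoc, hk, hk,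
          Scheme.homOfLE_ι_assoc, Scheme.homOfLE_ι_assoc])
  refine ⟨h', ?_, fun h'' hh'' => ?_⟩
  · refine NormalSection.hom_ext_of_local _ _ fun x => ?_
    obtain ⟨T, hT, hxT⟩ := exists_affine_mem (h x)
    have hx : x ∈ p ⁻¹ᵁ (V ⟨T, hT⟩) := by rw [hVe]; exact hxT
    refine ⟨_, (p ⁻¹ᵁ (V ⟨T, hT⟩)).ι, inferInstance, ?_, ?_⟩
    · rw [Scheme.Opens.range_ι]; exact hx
    · rw [← hk ⟨T, hT⟩, ← hh' ⟨T, hT⟩, ← morphismRestrict_ι_assoc]
  · rw [← cancel_epi p, hh'']
    refine NormalSection.hom_ext_of_local _ _ fun x => ?_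
    obtain ⟨T, hT, hxT⟩ := exists_affine_mem (h x)
    have hx : x ∈ p ⁻¹ᵁ (V ⟨T, hT⟩) := by rw [hVe]; exact hxT
    refine ⟨_, (p ⁻¹ᵁ (V ⟨T, hT⟩)).ι, inferInstance, ?_, ?_⟩
    · rw [Scheme.Opens.range_ι]; exact hx
    · rw [← hk ⟨T, hT⟩, ← hh' ⟨T, hT⟩, ← morphismRestrict_ι_assoc]

end Groth.Agent.Lib.Helper28.FinQuot
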