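import Groth.Prelude.Def_SGA1
import Mathlib.Topology.Sheaves.SheafCondition.UniqueGluing

set_option autoImplicit false
universe u
open CategoryTheory CategoryTheory.Limits AlgebraicGeometry Opposite TopologicalSpace
noncomputable section

namespace Groth.Agent.Lib.Helper28.QuotGlue

variable {X Y : Scheme.{u}}

theorem app_res (π : X ⟶ Y) {U V : Y.Opens} (hVU : V ≤ U) (t : Γ(Y, U)) :
    (π.app V).hom ((Y.presheaf.map (homOfLE hVU).op).hom t) =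
      (X.presheaf.map (homOfLE (show π ⁻¹ᵁ V ≤ π ⁻¹ᵁ U from fun _ hx => hVU hx)).op).hom
        ((π.app U).hom t) := by
  have h := π.naturality (homOfLE hVU).op
  have h2 := congrArg (fun φ => φ.hom t) h
  simp only [CommRingCat.hom_comp, RingHom.comp_apply] at h2
  exact h2

/-- injectivity of `π♯` can be checked on a basis -/
theorem injective_of_basis (π : X ⟶ Y) (P : Y.Opens → Prop)
    (hB : ∀ (U : Y.Opens) (y : Y), y ∈ U → ∃ W, P W ∧ y ∈ W ∧ W ≤ U)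
    (hinj : ∀ W, P W → Function.Injective (π.app W).hom) (U : Y.Opens) :
    Function.Injective (π.app U).hom := by
  rw [injective_iff_map_eq_zero]
  intro s hs
  refine Y.sheaf.eq_of_locally_eq' (fun W : {W : Y.Opens // P W ∧ W ≤ U} => W.1) U
    (fun W => homOfLE W.2.2) ?_ s 0 (fun W => ?_)
  · intro y hy
    obtain ⟨W, hPW, hyW, hWU⟩ := hB U y hy
    exact Opens.mem_iSup.2 ⟨⟨W, hPW, hWU⟩, hyW⟩
  · apply hinj W.1 W.2.1
    have h1 := app_res π W.2.2 s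
    have h2 := app_res π W.2.2 (0 : Γ(Y, U))
    refine h1.trans (Eq.trans ?_ h2.symm)
    rw [hs, map_zero, map_zero, map_zero]

section inv
variable {G : Type u} [Group G] (ρ : G →* Aut X) (π : X ⟶ Y) (hinv : ∀ g : G, (ρ g).hom ≫ π = π)

/-- `G`-invariance of a section over `π⁻¹U` -/
def IsInv (U : Y.Opens) (s : Γ(X, π ⁻¹ᵁ U)) : Prop :=
  ∀ g : G, ((ρ g).hom.appLE (π ⁻¹ᵁ U) (π ⁻¹ᵁ U) (SGA1.preimage_le_of_inv ρ π hinv g U)).hom s = s

theorem isInv_res {U V : Y.Opens} (hVU : V ≤ U) (s : Γ(X, π ⁻¹ᵁ U)) (hs : IsInv ρ π hinv U s) :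
    IsInv ρ π hinv V ((X.presheaf.map
      (homOfLE (show π ⁻¹ᵁ V ≤ π ⁻¹ᵁ U from fun _ hx => hVU hx)).op).hom s) := by
  intro g
  have hle : π ⁻¹ᵁ V ≤ π ⁻¹ᵁ U := fun _ hx => hVU hx
  have h1 := Scheme.Hom.map_appLE (ρ g).hom (SGA1.preimage_le_of_inv ρ π hinv g V) (homOfLE hle).op
  have h2 := Scheme.Hom.appLE_map (ρ g).hom (SGA1.preimage_le_of_inv ρ π hinv g U) (homOfLE hle).op
  have h3 := congrArg (fun φ => φ.hom s) (h1.trans h2.symm)
  simp only [CommRingCat.hom_comp, RingHom.comp_apply] at h3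
  rw [h3, hs g]

theorem appLE_congr' {ψ ψ' : X ⟶ Y} (e : ψ = ψ') (U : Y.Opens) (V : X.Opens)
    (h1 : V ≤ ψ ⁻¹ᵁ U) (h2 : V ≤ ψ' ⁻¹ᵁ U) : ψ.appLE U V h1 = ψ'.appLE U V h2 := by
  subst e; rfl

theorem isInv_app (U : Y.Opens) (t : Γ(Y, U)) : IsInv ρ π hinv U ((π.app U).hom t) := by
  intro g
  have h1 := Scheme.Hom.appLE_comp_appLE (ρ g).hom π U (π ⁻¹ᵁ U) (π ⁻¹ᵁ U) le_rfl
    (SGA1.preimage_le_of_inv ρ π hinv g U)
  rw [appLE_congr' (hinv g) U (π ⁻¹ᵁ U) _ le_rfl, Scheme.Hom.appLE_eq_app] at h1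
  have h2 := congrArg (fun φ => φ.hom t) h1
  simp only [CommRingCat.hom_comp, RingHom.comp_apply] at h2
  exact h2

/-- `O_Y = (π_* O_X)^G` can be checked on a basis -/
theorem range_of_basis (P : Y.Opens → Prop)
    (hB : ∀ (U : Y.Opens) (y : Y), y ∈ U → ∃ W, P W ∧ y ∈ W ∧ W ≤ U)
    (hinj : ∀ U : Y.Opens, Function.Injective (π.app U).hom)
    (hsurj : ∀ W, P W → ∀ s : Γ(X, π ⁻¹ᵁ W), IsInv ρ π hinv W s → s ∈ Set.range (π.app W).hom)
    (U : Y.Opens) (s : Γ(X, π ⁻¹ᵁ U)) (hs : IsInv ρ π hinv U s) :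
    s ∈ Set.range (π.app U).hom := by
  let I := {W : Y.Opens // P W ∧ W ≤ U}
  have hle : ∀ W : I, π ⁻¹ᵁ W.1 ≤ π ⁻¹ᵁ U := fun W _ hx => W.2.2 hx
  have hex : ∀ W : I, ∃ t : Γ(Y, W.1), (π.app W.1).hom t =
      (X.presheaf.map (homOfLE (hle W)).op).hom s := fun W =>
    hsurj W.1 W.2.1 _ (isInv_res ρ π hinv W.2.2 s hs)
  choose tW htW using hex
  have hcov : U ≤ iSup fun W : I => W.1 := by
    intro y hy
    obtain ⟨W, hPW, hyW, hWU⟩ := hB U y hy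
    exact Opens.mem_iSup.2 ⟨⟨W, hPW, hWU⟩, hyW⟩
  have hcompat : TopCat.Presheaf.IsCompatible Y.sheaf.1 (fun W : I => W.1) tW := by
    intro W W'
    apply hinj (W.1 ⊓ W'.1)
    have e1 := app_res π (inf_le_left : W.1 ⊓ W'.1 ≤ W.1) (tW W)
    have e2 := app_res π (inf_le_right : W.1 ⊓ W'.1 ≤ W'.1) (tW W')
    refine e1.trans (Eq.trans ?_ e2.symm)
    rw [htW W, htW W', ← RingHom.comp_apply, ← RingHom.comp_apply, ← CommRingCat.hom_comp,
      ← CommRingCat.hom_comp, ← Functor.map_comp, ← Functor.map_comp]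
    rfl
  obtain ⟨t, ht, -⟩ := Y.sheaf.existsUnique_gluing' (fun W : I => W.1) U
    (fun W => homOfLE W.2.2) hcov tW hcompat
  refine ⟨t, ?_⟩
  refine X.sheaf.eq_of_locally_eq' (fun W : I => π ⁻¹ᵁ W.1) (π ⁻¹ᵁ U)
    (fun W => homOfLE (hle W)) ?_ _ _ (fun W => ?_)
  · intro x hx
    obtain ⟨W, hPW, hyW, hWU⟩ := hB U (π x) hx
    exact Opens.mem_iSup.2 ⟨⟨W, hPW, hWU⟩, hyW⟩
  · have e1 := app_res π W.2.2 t
    refine e1.symm.trans ?_
    rw [show (Y.presheaf.map (homOfLE W.2.2).op).hom t = tW W from ht W, htW W]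
    rfl

end inv

end Groth.Agent.Lib.Helper28.QuotGlue
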