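import Mathlib
import Groth.Agent.Lib.Helper28.FinQuot
import Groth.Agent.Lib.Helper28.FinQuotDesc
import Groth.Agent.Lib.Helper28.QuotGlue

set_option autoImplicit false
set_option linter.style.haveILetI false
universe u
open CategoryTheory AlgebraicGeometry TopologicalSpace Limits
open Groth.Agent.Lib.Helper28.FinQuot

namespace Groth.Agent.Lib.Helper28.FinQuotSect

variable {X Y : Scheme.{u}} {G : Type u} [Group G] (ρ : G →* Aut X) (p : X ⟶ Y)
  (hinv : ∀ g : G, (ρ g).hom ≫ p = p) (s : Y ⟶ X) (hs : s ≫ p = 𝟙 Y)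

include hs in
theorem apply_apply (y : Y) : p (s y) = y := by
  have := Scheme.Hom.comp_apply s p y
  rw [hs] at this
  exact this.symm

include hs in
theorem isClosedImmersion [IsSeparated p] : IsClosedImmersion s := by
  haveI : IsClosedImmersion (s ≫ p) := by rw [hs]; infer_instance
  exact IsClosedImmersion.of_comp s p

include hs in
/-- a field-valued point with image in the range of the section factors through the section -/
theorem eq_comp_of_range [IsSeparated p] (K : Type u) [Field K] (ξ : Spec (.of K) ⟶ X)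
    (hξ : ∀ t, ξ t ∈ Set.range s) : ξ = (ξ ≫ p) ≫ s := by
  haveI := isClosedImmersion p s hs
  haveI : Surjective (pullback.fst ξ s) := by
    constructor
    intro t
    obtain ⟨y, hy⟩ := hξ t
    obtain ⟨z, hz, -⟩ := Scheme.Pullback.exists_preimage_pullback (f := ξ) (g := s) t y hy.symm
    exact ⟨z, hz⟩
  haveI : IsIso (pullback.fst ξ s) := isIso_of_isClosedImmersion_of_surjective _
  have h1 : ξ = (inv (pullback.fst ξ s) ≫ pullback.snd ξ s) ≫ s := by
    rw [Category.assoc, ← pullback.condition, IsIso.inv_hom_id_assoc]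
  have h2 : ξ ≫ p = inv (pullback.fst ξ s) ≫ pullback.snd ξ s := by
    conv_lhs => rw [h1]
    rw [Category.assoc, hs, Category.comp_id]
  rw [h2]
  exact h1

include hinv hs in
theorem comp_eq_of_range [IsSeparated p] (h : G) (K : Type u) [Field K] (ξ : Spec (.of K) ⟶ X)
    (hξ : ∀ t, ξ t ∈ Set.range s) (hξ' : ∀ t, (ρ h).hom (ξ t) ∈ Set.range s) :
    ξ ≫ (ρ h).hom = ξ := by
  have h1 := eq_comp_of_range p s hs K (ξ ≫ (ρ h).hom) (fun t => by
    rw [Scheme.Hom.comp_apply]; exact hξ' t)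
  have h0 : (ξ ≫ (ρ h).hom) ≫ p = ξ ≫ p := by rw [Category.assoc, hinv h]
  rw [h0] at h1
  rw [h1]
  exact (eq_comp_of_range p s hs K ξ hξ).symm

include hinv hs in
/-- freeness on geometric points: a translate of a point of `s(Y)` lying in `s(Y)` is trivial -/
theorem eq_one_of_mem_range [IsSeparated p]
    (hfree : ∀ (K : Type u) [Field K] [IsAlgClosed K] (ξ : Spec (CommRingCat.of K) ⟶ X) (g : G),
      ξ ≫ (ρ g).hom = ξ → g = 1)
    (h : G) (y : Y) (hy : (ρ h).hom (s y) ∈ Set.range s) : h = 1 := by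
  let K := AlgebraicClosure (X.residueField (s y))
  let j : X.residueField (s y) ⟶ .of K := CommRingCat.ofHom (algebraMap (X.residueField (s y)) K)
  let ξ : Spec (.of K) ⟶ X := Spec.map j ≫ X.fromSpecResidueField (s y)
  have hpt : ∀ t, ξ t = s y := fun t => by
    simp only [ξ]
    rw [Scheme.Hom.comp_apply, Scheme.fromSpecResidueField_apply]
  apply hfree K ξ h
  apply comp_eq_of_range ρ p hinv s hs h K ξ
  · intro t; rw [hpt]; exact ⟨y, rfl⟩
  · intro t; rw [hpt]; exact hy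

section Top

variable (hp : SGA1.IsQuot ρ p)
  (hfree : ∀ (K : Type u) [Field K] [IsAlgClosed K] (ξ : Spec (CommRingCat.of K) ⟶ X) (g : G),
      ξ ≫ (ρ g).hom = ξ → g = 1)

theorem ρ_mul_apply (a b : G) (x : X) : (ρ (a * b)).hom x = (ρ a).hom ((ρ b).hom x) := by
  have h2 : (ρ b).hom ≫ (ρ a).hom = (ρ (a * b)).hom := by
    rw [map_mul]; rfl
  rw [← h2, Scheme.Hom.comp_apply]

theorem ρ_one_apply (x : X) : (ρ 1).hom x = x := by
  have h1 : (ρ 1).hom = 𝟙 X := by rw [map_one]; rfl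
  rw [h1]; rfl

theorem ρ_inv_apply (a : G) (x : X) : (ρ a⁻¹).hom ((ρ a).hom x) = x := by
  rw [← ρ_mul_apply, inv_mul_cancel, ρ_one_apply]

include hp hs in
theorem cover [Finite G] (x : X) : ∃ g : G, x ∈ Set.range (s ≫ (ρ g).hom) := by
  obtain ⟨g, hg⟩ := exists_of_apply_eq ρ p hp (s (p x)) x (apply_apply p s hs (p x))
  exact ⟨g, p x, by rw [Scheme.Hom.comp_apply]; exact hg⟩

include hp hs hfree in
theorem eq_of_apply_eq (g g' : G) (y y' : Y) (h : (ρ g).hom (s y) = (ρ g').hom (s y')) :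
    g = g' := by
  haveI := hp.affine
  have h1 : (ρ (g'⁻¹ * g)).hom (s y) = s y' := by
    rw [ρ_mul_apply, h, ρ_inv_apply]
  have h2 := eq_one_of_mem_range ρ p hp.inv s hs hfree (g'⁻¹ * g) y (h1 ▸ ⟨y', rfl⟩)
  exact (inv_mul_eq_one.mp h2).symm

include hp hs in
theorem isClosed_range (g : G) : IsClosed (Set.range (s ≫ (ρ g).hom)) := by
  haveI := hp.affine
  haveI := isClosedImmersion p s hs
  exact (s ≫ (ρ g).hom).isClosedEmbedding.isClosed_range

include hp hs hfree in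
theorem isOpen_range [Finite G] : IsOpen (Set.range s) := by
  have h1 : (Set.range s)ᶜ = ⋃ g ∈ {g : G | g ≠ 1}, Set.range (s ≫ (ρ g).hom) := by
    ext x
    simp only [Set.mem_compl_iff, Set.mem_iUnion, Set.mem_setOf_eq, exists_prop]
    constructor
    · intro hx
      obtain ⟨g, hg⟩ := cover ρ p s hs hp x
      refine ⟨g, ?_, hg⟩
      rintro rfl
      obtain ⟨y, rfl⟩ := hg
      apply hx
      rw [Scheme.Hom.comp_apply, ρ_one_apply]
      exact ⟨y, rfl⟩
    · rintro ⟨g, hg1, y, rfl⟩ ⟨y', hy'⟩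
      apply hg1
      rw [Scheme.Hom.comp_apply] at hy'
      have := eq_of_apply_eq ρ p s hs hp hfree 1 g y' y (by rw [ρ_one_apply]; exact hy')
      exact this.symm
  rw [← isClosed_compl_iff, h1]
  exact Set.Finite.isClosed_biUnion (Set.toFinite _) (fun g _ => isClosed_range ρ p s hs hp g)

end Top

section Trace

variable (U Uc : X.Opens) (hdisjU : U ⊓ Uc = ⊥) (hcovU : U ⊔ Uc = ⊤)

include hdisjU hcovU in
theorem exists_extension (W : X.Opens) (c : Γ(X, U ⊓ W)) :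
    ∃ b : Γ(X, W), (X.presheaf.map (homOfLE (inf_le_right : U ⊓ W ≤ W)).op).hom b = c ∧
      (X.presheaf.map (homOfLE (inf_le_right : Uc ⊓ W ≤ W)).op).hom b = 0 := by
  let Ufam : Bool → X.Opens := fun i => Bool.rec (Uc ⊓ W) (U ⊓ W) i
  let sf : ∀ i : Bool, Γ(X, Ufam i) := fun i =>
    match i with
    | true => c
    | false => (0 : Γ(X, Uc ⊓ W))
  have hle : ∀ i, Ufam i ≤ W := fun i => by cases i <;> exact inf_le_right
  have hcover : W ≤ iSup Ufam := by
    intro x hx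
    have hx' : x ∈ U ⊔ Uc := by rw [hcovU]; trivial
    rcases (Opens.mem_sup.mp hx') with h | h
    · exact Opens.mem_iSup.2 ⟨true, ⟨h, hx⟩⟩
    · exact Opens.mem_iSup.2 ⟨false, ⟨h, hx⟩⟩
  have hbot : ∀ i j, i ≠ j → Ufam i ⊓ Ufam j = ⊥ := by
    intro i j hij
    have key : (U ⊓ W) ⊓ (Uc ⊓ W) = ⊥ := by
      apply le_bot_iff.mp
      calc (U ⊓ W) ⊓ (Uc ⊓ W) ≤ U ⊓ Uc := inf_le_inf inf_le_left inf_le_left
        _ = ⊥ := hdisjU
    cases i <;> cases j
    · exact absurd rfl hij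
    · change (Uc ⊓ W) ⊓ (U ⊓ W) = ⊥
      rw [inf_comm]; exact key
    · exact key
    · exact absurd rfl hij
  have hcompat : TopCat.Presheaf.IsCompatible X.sheaf.1 Ufam sf := by
    intro i j
    by_cases hij : i = j
    · subst hij
      rfl
    · haveI : Subsingleton Γ(X, Ufam i ⊓ Ufam j) := by
        rw [hbot i j hij]; infer_instance
      exact Subsingleton.elim (α := Γ(X, Ufam i ⊓ Ufam j)) _ _
  obtain ⟨b, hb, -⟩ := X.sheaf.existsUnique_gluing' Ufam W (fun i => homOfLE (hle i)) hcover sf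
    hcompat
  exact ⟨b, hb true, hb false⟩

variable (hp : SGA1.IsQuot ρ p) [Finite G]
  (hmove : ∀ g : G, g ≠ 1 → U ≤ (ρ g).hom ⁻¹ᵁ Uc)

include hdisjU hcovU hmove hp in
theorem exists_app_eq (V : Y.Opens) (c : Γ(X, U ⊓ p ⁻¹ᵁ V)) :
    ∃ a : Γ(Y, V), (p.appLE V (U ⊓ p ⁻¹ᵁ V) inf_le_right).hom a = c := by
  classical
  haveI : Fintype G := Fintype.ofFinite G
  obtain ⟨b, hb1, hb0⟩ := exists_extension U Uc hdisjU hcovU (p ⁻¹ᵁ V) c
  let t : Γ(X, p ⁻¹ᵁ V) := ∑ g : G, σ ρ p hp.inv V g b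
  have ht : ∀ h : G, σ ρ p hp.inv V h t = t := by
    intro h
    simp only [t, map_sum]
    rw [show (∑ g : G, σ ρ p hp.inv V h (σ ρ p hp.inv V g b)) =
        ∑ g : G, σ ρ p hp.inv V (g * h) b from
      Finset.sum_congr rfl (fun g _ => σ_mul ρ p hp.inv V h g b)]
    exact Fintype.sum_equiv (Equiv.mulRight h) _ _ (fun g => rfl)
  obtain ⟨a, ha⟩ := (mem_range_iff ρ p hp V t).2 ht
  refine ⟨a, ?_⟩
  have hres : (p.appLE V (U ⊓ p ⁻¹ᵁ V) inf_le_right).hom a =
      (X.presheaf.map (homOfLE (inf_le_right : U ⊓ p ⁻¹ᵁ V ≤ p ⁻¹ᵁ V)).op).hom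
        ((p.app V).hom a) := rfl
  rw [hres, ha]
  simp only [t, map_sum]
  rw [Finset.sum_eq_single (1 : G)]
  · rw [σ_one]; exact hb1
  · intro g _ hg
    have e' : U ⊓ p ⁻¹ᵁ V ≤ (ρ g).hom ⁻¹ᵁ (Uc ⊓ p ⁻¹ᵁ V) := by
      intro x hx
      exact ⟨hmove g hg hx.1, SGA1.preimage_le_of_inv ρ p hp.inv g V hx.2⟩
    have h1 := Scheme.Hom.appLE_map (ρ g).hom (SGA1.preimage_le_of_inv ρ p hp.inv g V)
      (homOfLE (inf_le_right : U ⊓ p ⁻¹ᵁ V ≤ p ⁻¹ᵁ V)).op
    have h2 := Scheme.Hom.map_appLE (ρ g).hom e'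
      (homOfLE (inf_le_right : Uc ⊓ p ⁻¹ᵁ V ≤ p ⁻¹ᵁ V)).op
    have h3 := congrArg (fun φ => φ.hom b) (h1.trans h2.symm)
    simp only [CommRingCat.hom_comp, RingHom.comp_apply] at h3
    change (X.presheaf.map (homOfLE (inf_le_right : U ⊓ p ⁻¹ᵁ V ≤ p ⁻¹ᵁ V)).op).hom
      (((ρ g).hom.appLE (p ⁻¹ᵁ V) (p ⁻¹ᵁ V) (SGA1.preimage_le_of_inv ρ p hp.inv g V)).hom b) = 0
    rw [h3, hb0, map_zero]
  · intro h; exact absurd (Finset.mem_univ _) h

include hdisjU hcovU hmove hp in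
theorem exists_appLE_eq (V : Y.Opens) (W' : X.Opens) (hW' : W' = U ⊓ p ⁻¹ᵁ V) (c : Γ(X, W')) :
    ∃ a : Γ(Y, V), (p.appLE V W' (hW' ▸ inf_le_right)).hom a = c := by
  subst hW'
  exact exists_app_eq ρ p U Uc hdisjU hcovU hp hmove V c

end Trace

section Main

variable (hp : SGA1.IsQuot ρ p) [Finite G]
  (hfree : ∀ (K : Type u) [Field K] [IsAlgClosed K] (ξ : Spec (CommRingCat.of K) ⟶ X) (g : G),
      ξ ≫ (ρ g).hom = ξ → g = 1)

include hp hs hfree in
theorem isOpenImmersion_section : IsOpenImmersion s := by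
  haveI := hp.affine
  let U : X.Opens := ⟨Set.range s, isOpen_range ρ p s hs hp hfree⟩
  let Uc : X.Opens := ⟨(Set.range s)ᶜ, (isClosed_range ρ p s hs hp 1 |> fun h => by
    have h1 : Set.range (s ≫ (ρ 1).hom) = Set.range s := by
      ext x
      constructor
      · rintro ⟨y, rfl⟩
        exact ⟨y, by rw [Scheme.Hom.comp_apply, ρ_one_apply]⟩
      · rintro ⟨y, rfl⟩
        exact ⟨y, by rw [Scheme.Hom.comp_apply, ρ_one_apply]⟩
    rw [h1] at h
    exact h.isOpen_compl)⟩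
  have hdisjU : U ⊓ Uc = ⊥ := by
    ext x
    simp only [Opens.coe_inf, Opens.coe_bot, Set.mem_inter_iff, Set.mem_empty_iff_false,
      iff_false, not_and]
    intro h1 h2
    exact h2 h1
  have hcovU : U ⊔ Uc = ⊤ := by
    ext x
    simp only [Opens.coe_sup, Opens.coe_top, Set.mem_union, Set.mem_univ, iff_true]
    exact em _
  have hmove : ∀ g : G, g ≠ 1 → U ≤ (ρ g).hom ⁻¹ᵁ Uc := by
    rintro g hg x ⟨y, rfl⟩ hx
    exact hg (eq_one_of_mem_range ρ p hp.inv s hs hfree g y hx)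
  let s' : Y ⟶ U := IsOpenImmersion.lift U.ι s (by rw [Scheme.Opens.range_ι]; exact fun x hx => hx)
  have hs' : s' ≫ U.ι = s := IsOpenImmersion.lift_fac _ _ _
  have hs'r : s' ≫ (U.ι ≫ p) = 𝟙 Y := by rw [← Category.assoc, hs', hs]
  have hsurj : Function.Surjective s' := by
    rintro ⟨x, y, rfl⟩
    refine ⟨y, ?_⟩
    apply U.ι.isOpenEmbedding.injective
    rw [← Scheme.Hom.comp_apply, hs']
    rfl
  have happ : ∀ y : Y, (U.ι ≫ p) (s' y) = y := by
    intro y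
    rw [← Scheme.Hom.comp_apply, hs'r]
    rfl
  have hinj : ∀ W : U.toScheme.Opens, Function.Injective (s'.app W).hom := by
    intro W
    rw [injective_iff_map_eq_zero]
    intro c hc
    have hW' : U.ι ''ᵁ W = U ⊓ p ⁻¹ᵁ (s' ⁻¹ᵁ W) := by
      ext x
      constructor
      · rintro ⟨u, hu, rfl⟩
        obtain ⟨y, rfl⟩ := hsurj u
        refine ⟨(s' y).2, ?_⟩
        change p (U.ι (s' y)) ∈ s' ⁻¹ᵁ W
        have := happ y
        rw [Scheme.Hom.comp_apply] at this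
        rw [this]
        exact hu
      · rintro ⟨hxU, hxV⟩
        obtain ⟨y, hy⟩ := hsurj ⟨x, hxU⟩
        refine ⟨s' y, ?_, by rw [hy]; rfl⟩
        have h1 : p x = y := by
          have := happ y
          rw [Scheme.Hom.comp_apply, hy] at this
          exact this
        change p x ∈ s' ⁻¹ᵁ W at hxV
        rw [h1] at hxV
        exact hxV
    obtain ⟨a, ha⟩ := exists_appLE_eq ρ p U Uc hdisjU hcovU hp hmove (s' ⁻¹ᵁ W) (U.ι ''ᵁ W) hW' c
    have e₁ : W ≤ (U.ι ≫ p) ⁻¹ᵁ (s' ⁻¹ᵁ W) := by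
      intro u hu
      obtain ⟨y, rfl⟩ := hsurj u
      change (U.ι ≫ p) (s' y) ∈ s' ⁻¹ᵁ W
      rw [happ y]
      exact hu
    have h1 : ((U.ι ≫ p).appLE (s' ⁻¹ᵁ W) W e₁).hom a = c := by
      have h2 := Scheme.Hom.appLE_comp_appLE U.ι p (s' ⁻¹ᵁ W) (U.ι ''ᵁ W) W
        (hW' ▸ inf_le_right) (by
          intro u hu
          exact ⟨u, hu, rfl⟩)
      rw [Scheme.Opens.ι_appLE] at h2
      have h3 := congrArg (fun φ => φ.hom a) h2
      simp only [CommRingCat.hom_comp, RingHom.comp_apply] at h3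
      rw [← h3, ha]
      have h4 : X.presheaf.map (homOfLE (x := U.ι ''ᵁ W) (y := U.ι ''ᵁ W) le_rfl).op = 𝟙 _ := by
        have : (homOfLE (x := U.ι ''ᵁ W) (y := U.ι ''ᵁ W) le_rfl) = 𝟙 _ := Subsingleton.elim _ _
        rw [this]; exact X.presheaf.map_id _
      rw [h4]
      rfl
    have h5 := Scheme.Hom.appLE_comp_appLE s' (U.ι ≫ p) (s' ⁻¹ᵁ W) W (s' ⁻¹ᵁ W) e₁ le_rfl
    have h6 := congrArg (fun φ => φ.hom a) h5
    simp only [CommRingCat.hom_comp, RingHom.comp_apply] at h6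
    rw [h1, Scheme.Hom.appLE_eq_app, hc] at h6
    have h7 := appLE_id_apply (s' ⁻¹ᵁ W) (s' ≫ U.ι ≫ p) hs'r
      (le_rfl.trans ((Opens.map s'.base).map (homOfLE e₁)).le) a
    have ha0 : a = 0 := h7.symm.trans h6.symm
    rw [← ha, ha0, map_zero]
    rfl
  haveI : Epi s' := epi_of_surjective_of_app_injective s' hsurj hinj
  have hrs' : (U.ι ≫ p) ≫ s' = 𝟙 _ := by
    rw [← cancel_epi s', ← Category.assoc, hs'r, Category.id_comp, Category.comp_id]
  haveI : IsIso s' := ⟨U.ι ≫ p, hs'r, hrs'⟩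
  rw [← hs']
  infer_instance

end Main

end Groth.Agent.Lib.Helper28.FinQuotSect
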