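import Groth.Agent.Lib.Helper28.AmpleExtTensor2
import Groth.Agent.Lib.Helper28.FinQuotSect

set_option autoImplicit false
universe u
open CategoryTheory CategoryTheory.Limits AlgebraicGeometry Opposite TopologicalSpace
noncomputable section

namespace Groth.Agent.Lib.Helper28.AmpleLocal

open Groth.Agent.Lib.Helper28 Groth.Agent.Lib.Helper28.QCohLoc Groth.Agent.Lib.Helper28.GenLocus
  Groth.Agent.Lib.Helper28.PullbackInv Groth.Agent.Lib.Helper28.TensorGen Groth.Agent.Lib.Helper28.AmpleUnit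

variable {X X' Y : Scheme.{u}}

theorem coprod_desc_inl_apply (f : X ⟶ Y) (f' : X' ⟶ Y) (x : X) :
    (coprod.desc f f') ((coprod.inl : X ⟶ X ⨿ X') x) = f x := by
  rw [← Scheme.Hom.comp_apply, coprod.inl_desc]

theorem coprod_desc_inr_apply (f : X ⟶ Y) (f' : X' ⟶ Y) (x : X') :
    (coprod.desc f f') ((coprod.inr : X' ⟶ X ⨿ X') x) = f' x := by
  rw [← Scheme.Hom.comp_apply, coprod.inr_desc]

theorem mem_range_inl_or_inr (z : (X ⨿ X' : Scheme.{u})) :
    z ∈ Set.range (coprod.inl : X ⟶ X ⨿ X') ∨ z ∈ Set.range (coprod.inr : X' ⟶ X ⨿ X') := by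
  have h := (isCompl_range_inl_inr X X').sup_eq_top
  have : z ∈ Set.range (coprod.inl : X ⟶ X ⨿ X') ⊔ Set.range (coprod.inr : X' ⟶ X ⨿ X') := by
    rw [h]; trivial
  exact this

theorem quasiCompact_coprod_desc (f : X ⟶ Y) (f' : X' ⟶ Y) [QuasiCompact f] [QuasiCompact f'] :
    QuasiCompact (coprod.desc f f') := by
  constructor
  intro K hK hc
  have h : (coprod.desc f f') ⁻¹' K = (coprod.inl : X ⟶ X ⨿ X') '' (f ⁻¹' K) ∪
      (coprod.inr : X' ⟶ X ⨿ X') '' (f' ⁻¹' K) := by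
    ext z
    constructor
    · intro hz
      rcases mem_range_inl_or_inr z with ⟨x, rfl⟩ | ⟨x, rfl⟩
      · left
        refine ⟨x, ?_, rfl⟩
        have : (coprod.desc f f') ((coprod.inl : X ⟶ X ⨿ X') x) ∈ K := hz
        rwa [coprod_desc_inl_apply] at this
      · right
        refine ⟨x, ?_, rfl⟩
        have : (coprod.desc f f') ((coprod.inr : X' ⟶ X ⨿ X') x) ∈ K := hz
        rwa [coprod_desc_inr_apply] at this
    · rintro (⟨x, hx, rfl⟩ | ⟨x, hx, rfl⟩)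
      · show (coprod.desc f f') ((coprod.inl : X ⟶ X ⨿ X') x) ∈ K
        rw [coprod_desc_inl_apply]; exact hx
      · show (coprod.desc f f') ((coprod.inr : X' ⟶ X ⨿ X') x) ∈ K
        rw [coprod_desc_inr_apply]; exact hx
  rw [h]
  exact ((QuasiCompact.isCompact_preimage (f := f) K hK hc).image (coprod.inl : X ⟶ X ⨿ X').continuous).union
    ((QuasiCompact.isCompact_preimage (f := f') K hK hc).image (coprod.inr : X' ⟶ X ⨿ X').continuous)

/-- a function equal to `1` on `U` and `0` on the complementary open `Uc` has `D(b) = U` -/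
theorem basicOpen_eq_of_compl {Z : Scheme.{u}} (U Uc : Z.Opens) (hcov : U ⊔ Uc = ⊤) (b : Γ(Z, ⊤))
    (h1 : resO (le_top : U ≤ ⊤) b = 1) (h0 : resO (le_top : Uc ≤ ⊤) b = 0) : Z.basicOpen b = U := by
  have e1 : U ⊓ Z.basicOpen b = U := by
    rw [← basicOpen_resO (le_top : U ≤ ⊤), h1]
    exact Scheme.basicOpen_of_isUnit _ isUnit_one
  have e2 : Uc ⊓ Z.basicOpen b = ⊥ := by
    rw [← basicOpen_resO (le_top : Uc ≤ ⊤), h0]
    exact Scheme.basicOpen_zero _ _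
  calc Z.basicOpen b = (U ⊔ Uc) ⊓ Z.basicOpen b := by rw [hcov, top_inf_eq]
    _ = (U ⊓ Z.basicOpen b) ⊔ (Uc ⊓ Z.basicOpen b) := inf_sup_right _ _ _
    _ = U := by rw [e1, e2, sup_bot_eq]

theorem resO_one {Z : Scheme.{u}} {U V : Z.Opens} (h : V ≤ U) : resO h (1 : Γ(Z, U)) = 1 :=
  map_one (Z.presheaf.map (homOfLE h).op).hom

/-- the idempotent cutting out the first summand of a coproduct -/
theorem exists_idem (X X' : Scheme.{u}) : ∃ e : Γ((X ⨿ X' : Scheme.{u}), ⊤),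
    (X ⨿ X' : Scheme.{u}).basicOpen e = (coprod.inl : X ⟶ X ⨿ X').opensRange ∧
      (X ⨿ X' : Scheme.{u}).basicOpen (1 - e) = (coprod.inr : X' ⟶ X ⨿ X').opensRange := by
  have hc := isCompl_opensRange_inl_inr X X'
  obtain ⟨b, hb1, hb0⟩ := FinQuotSect.exists_extension (coprod.inl : X ⟶ X ⨿ X').opensRange
    (coprod.inr : X' ⟶ X ⨿ X').opensRange hc.inf_eq_bot hc.sup_eq_top ⊤ 1
  have hb1' : resO (inf_le_right : (coprod.inl : X ⟶ X ⨿ X').opensRange ⊓ ⊤ ≤ ⊤) b = 1 := hb1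
  have hb0' : resO (inf_le_right : (coprod.inr : X' ⟶ X ⨿ X').opensRange ⊓ ⊤ ≤ ⊤) b = 0 := hb0
  have h1 : resO (le_top : (coprod.inl : X ⟶ X ⨿ X').opensRange ≤ ⊤) b = 1 := by
    rw [← resO_resO (inf_le_right : (coprod.inl : X ⟶ X ⨿ X').opensRange ⊓ ⊤ ≤ ⊤) (le_inf le_rfl le_top) b,
      hb1', resO_one]
  have h0 : resO (le_top : (coprod.inr : X' ⟶ X ⨿ X').opensRange ≤ ⊤) b = 0 := by
    rw [← resO_resO (inf_le_right : (coprod.inr : X' ⟶ X ⨿ X').opensRange ⊓ ⊤ ≤ ⊤) (le_inf le_rfl le_top) b,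
      hb0', resO_zero]
  refine ⟨b, basicOpen_eq_of_compl _ _ hc.sup_eq_top b h1 h0,
    basicOpen_eq_of_compl _ _ (by rw [sup_comm]; exact hc.sup_eq_top) (1 - b) ?_ ?_⟩
  · rw [resO_sub, h0, resO_one, sub_zero]
  · rw [resO_sub, h1, resO_one, sub_self]

theorem isAmple_restrict_coprod_desc_preimage (f : X ⟶ Y) (f' : X' ⟶ Y) [QuasiCompact f] [QuasiCompact f']
    (L'' : (X ⨿ X' : Scheme.{u}).Modules) (V : Y.Opens) (hV : IsAffineOpen V)
    (h₁ : CohB1.IsAmple ((L''.restrict (coprod.inl : X ⟶ X ⨿ X')).restrict (f ⁻¹ᵁ V).ι))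
    (h₂ : CohB1.IsAmple ((L''.restrict (coprod.inr : X' ⟶ X ⨿ X')).restrict (f' ⁻¹ᵁ V).ι)) :
    CohB1.IsAmple (L''.restrict ((coprod.desc f f') ⁻¹ᵁ V).ι) := by
  have := quasiCompact_coprod_desc f f'
  have : CompactSpace (((coprod.desc f f') ⁻¹ᵁ V : (X ⨿ X' : Scheme.{u}).Opens) : Scheme.{u}) :=
    isCompact_iff_compactSpace.mp
      (QuasiCompact.isCompact_preimage (f := coprod.desc f f') _ V.isOpen hV.isCompact)
  obtain ⟨e, he1, he0⟩ := exists_idem X X'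
  let e' : Bool → Γ((X ⨿ X' : Scheme.{u}), ⊤) := fun i => Bool.rec (1 - e) e i
  let a : Bool → Γ((((coprod.desc f f') ⁻¹ᵁ V : (X ⨿ X' : Scheme.{u}).Opens) : Scheme.{u}), ⊤) :=
    fun i => ((coprod.desc f f') ⁻¹ᵁ V).ι.appTop (e' i)
  have hbo : ∀ i, (((coprod.desc f f') ⁻¹ᵁ V : (X ⨿ X' : Scheme.{u}).Opens) : Scheme.{u}).basicOpen (a i) =
      ((coprod.desc f f') ⁻¹ᵁ V).ι ⁻¹ᵁ ((X ⨿ X' : Scheme.{u}).basicOpen (e' i)) :=
    fun i => (Scheme.preimage_basicOpen_top ((coprod.desc f f') ⁻¹ᵁ V).ι (e' i)).symm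
  refine isAmple_of_basicOpen_cover (L''.restrict ((coprod.desc f f') ⁻¹ᵁ V).ι) a (fun z => ?_) (fun i => ?_)
  · rcases mem_range_inl_or_inr (((coprod.desc f f') ⁻¹ᵁ V).ι z) with h | h
    · refine ⟨true, ?_⟩
      rw [hbo true]
      show ((coprod.desc f f') ⁻¹ᵁ V).ι z ∈ (X ⨿ X' : Scheme.{u}).basicOpen e
      rw [he1]; exact h
    · refine ⟨false, ?_⟩
      rw [hbo false]
      show ((coprod.desc f f') ⁻¹ᵁ V).ι z ∈ (X ⨿ X' : Scheme.{u}).basicOpen (1 - e)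
      rw [he0]; exact h
  · rw [isAmple_restrict_restrict_iff]
    cases i
    · refine isAmple_restrict_of_range_eq _ ((f' ⁻¹ᵁ V).ι ≫ (coprod.inr : X' ⟶ X ⨿ X')) ?_ L''
        ((isAmple_restrict_restrict_iff _ _ _).1 h₂)
      rw [range_ι_comp_ι, hbo false]
      ext z
      constructor
      · rintro ⟨w, hw, rfl⟩
        have hw' : ((coprod.desc f f') ⁻¹ᵁ V).ι w ∈ (X ⨿ X' : Scheme.{u}).basicOpen (1 - e) := hw
        rw [he0] at hw'
        obtain ⟨x, hx⟩ := hw'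
        have hxV : f' x ∈ V := by
          have := w.2
          rw [← coprod_desc_inr_apply f f' x, hx]
          exact this
        exact ⟨⟨x, hxV⟩, hx⟩
      · rintro ⟨x, rfl⟩
        have hmem : (coprod.inr : X' ⟶ X ⨿ X') x.1 ∈ (coprod.desc f f') ⁻¹ᵁ V := by
          show (coprod.desc f f') ((coprod.inr : X' ⟶ X ⨿ X') x.1) ∈ V
          rw [coprod_desc_inr_apply]; exact x.2
        refine ⟨⟨_, hmem⟩, ?_, rfl⟩
        show (coprod.inr : X' ⟶ X ⨿ X') x.1 ∈ (X ⨿ X' : Scheme.{u}).basicOpen (1 - e)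
        rw [he0]; exact ⟨x.1, rfl⟩
    · refine isAmple_restrict_of_range_eq _ ((f ⁻¹ᵁ V).ι ≫ (coprod.inl : X ⟶ X ⨿ X')) ?_ L''
        ((isAmple_restrict_restrict_iff _ _ _).1 h₁)
      rw [range_ι_comp_ι, hbo true]
      ext z
      constructor
      · rintro ⟨w, hw, rfl⟩
        have hw' : ((coprod.desc f f') ⁻¹ᵁ V).ι w ∈ (X ⨿ X' : Scheme.{u}).basicOpen e := hw
        rw [he1] at hw'
        obtain ⟨x, hx⟩ := hw'
        have hxV : f x ∈ V := by
          have := w.2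
          rw [← coprod_desc_inl_apply f f' x, hx]
          exact this
        exact ⟨⟨x, hxV⟩, hx⟩
      · rintro ⟨x, rfl⟩
        have hmem : (coprod.inl : X ⟶ X ⨿ X') x.1 ∈ (coprod.desc f f') ⁻¹ᵁ V := by
          show (coprod.desc f f') ((coprod.inl : X ⟶ X ⨿ X') x.1) ∈ V
          rw [coprod_desc_inl_apply]; exact x.2
        refine ⟨⟨_, hmem⟩, ?_, rfl⟩
        show (coprod.inl : X ⟶ X ⨿ X') x.1 ∈ (X ⨿ X' : Scheme.{u}).basicOpen e
        rw [he1]; exact ⟨x.1, rfl⟩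

theorem quasiCompact_inl (X X' : Scheme.{u}) : QuasiCompact (coprod.inl : X ⟶ X ⨿ X') := by
  constructor
  intro K _ hc
  have hcl : IsClosed (Set.range (coprod.inl : X ⟶ X ⨿ X')) := by
    rw [← isOpen_compl_iff, (isCompl_range_inl_inr X X').compl_eq]
    exact (coprod.inr : X' ⟶ X ⨿ X').isOpenEmbedding.isOpen_range
  exact (Topology.IsClosedEmbedding.mk (coprod.inl : X ⟶ X ⨿ X').isOpenEmbedding.isEmbedding hcl).isCompact_preimage hc

theorem quasiCompact_inr (X X' : Scheme.{u}) : QuasiCompact (coprod.inr : X' ⟶ X ⨿ X') := by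
  constructor
  intro K _ hc
  have hcl : IsClosed (Set.range (coprod.inr : X' ⟶ X ⨿ X')) := by
    rw [← isOpen_compl_iff, (isCompl_range_inl_inr X X').symm.compl_eq]
    exact (coprod.inl : X ⟶ X ⨿ X').isOpenEmbedding.isOpen_range
  exact (Topology.IsClosedEmbedding.mk (coprod.inr : X' ⟶ X ⨿ X').isOpenEmbedding.isEmbedding hcl).isCompact_preimage hc

/-- **relative ampleness on a disjoint union** -/
theorem isRelAmple_coprod_iff (f : X ⟶ Y) (f' : X' ⟶ Y) [QuasiCompact f] [QuasiCompact f']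
    (L'' : (X ⨿ X' : Scheme.{u}).Modules) :
    RelAmple.IsRelAmple (coprod.desc f f') L'' ↔
      RelAmple.IsRelAmple f ((Scheme.Modules.pullback (coprod.inl : X ⟶ X ⨿ X')).obj L'') ∧
        RelAmple.IsRelAmple f' ((Scheme.Modules.pullback (coprod.inr : X' ⟶ X ⨿ X')).obj L'') := by
  constructor
  · intro h
    have := quasiCompact_inl X X'
    have := quasiCompact_inr X X'
    have h1 := isRelAmple_pullback_of_isEmbedding (coprod.desc f f') (coprod.inl : X ⟶ X ⨿ X')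
      (coprod.inl : X ⟶ X ⨿ X').isOpenEmbedding.isEmbedding L'' h
    have h2 := isRelAmple_pullback_of_isEmbedding (coprod.desc f f') (coprod.inr : X' ⟶ X ⨿ X')
      (coprod.inr : X' ⟶ X ⨿ X').isOpenEmbedding.isEmbedding L'' h
    rw [coprod.inl_desc] at h1
    rw [coprod.inr_desc] at h2
    exact ⟨h1, h2⟩
  · rintro ⟨h1, h2⟩
    refine ⟨quasiCompact_coprod_desc f f', fun V => ?_⟩
    refine isAmple_restrict_coprod_desc_preimage f f' L'' V.1 V.2 ?_ ?_
    · exact AmpleIso.isAmple_of_iso ((Scheme.Modules.restrictFunctor (f ⁻¹ᵁ V.1).ι).mapIso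
        ((Scheme.Modules.restrictFunctorIsoPullback (coprod.inl : X ⟶ X ⨿ X')).app L'').symm) (h1.2 V)
    · exact AmpleIso.isAmple_of_iso ((Scheme.Modules.restrictFunctor (f' ⁻¹ᵁ V.1).ι).mapIso
        ((Scheme.Modules.restrictFunctorIsoPullback (coprod.inr : X' ⟶ X ⨿ X')).app L'').symm) (h2.2 V)

end Groth.Agent.Lib.Helper28.AmpleLocal
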