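import Groth.Agent.Lib.Helper28.VeryAmpleLocal
import Groth.Agent.Lib.Helper28.AmpleCoprod

/-!
# Modules on a disjoint union; quasi-projectivity of a disjoint union (helper28)
-/

set_option autoImplicit false
universe u
open CategoryTheory CategoryTheory.Limits AlgebraicGeometry Opposite TopologicalSpace
noncomputable section

namespace Groth.Agent.Lib.Helper28.CoprodMod

open Groth.Agent.Lib.Helper28

variable {X X' Z : Scheme.{u}}

theorem subsingleton_sections_of_eq_bot (M : X.Modules) (U : X.Opens) (hU : U = ⊥) : Subsingleton Γ(M, U) := by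
  have hT : IsTerminal (M.presheaf.obj (op U)) :=
    TopCat.Sheaf.isTerminalOfEqEmpty (⟨M.presheaf, M.isSheaf⟩ : TopCat.Sheaf Ab X) hU
  have hz : IsZero (M.presheaf.obj (op U)) := by
    rw [IsZero.iff_id_eq_zero]
    exact hT.hom_ext _ _
  exact AddCommGrpCat.subsingleton_of_isZero hz

theorem isZero_of_subsingleton (N : X.Modules) (h : ∀ U : X.Opens, Subsingleton Γ(N, U)) : IsZero N := by
  rw [IsZero.iff_id_eq_zero]
  refine Scheme.Modules.hom_ext _ _ fun U => ?_
  ext x
  exact Subsingleton.elim _ _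

theorem isZero_restrict_pushforward_of_disjoint (j : X ⟶ Z) (j' : X' ⟶ Z) [IsOpenImmersion j] [IsOpenImmersion j']
    (hdisj : Disjoint (Set.range j) (Set.range j')) (M : X'.Modules) :
    IsZero (((Scheme.Modules.pushforward j').obj M).restrict j) := by
  refine isZero_of_subsingleton _ fun U => ?_
  show Subsingleton Γ(M, j' ⁻¹ᵁ (j ''ᵁ U))
  refine subsingleton_sections_of_eq_bot M _ ?_
  ext x
  simp only [Opens.coe_bot, Set.mem_empty_iff_false, iff_false]
  rintro ⟨y, -, hy⟩
  exact Set.disjoint_left.1 hdisj ⟨y, hy⟩ ⟨x, rfl⟩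

attribute [local instance] preservesBinaryBiproducts_of_preservesBinaryCoproducts

/-- glueing two modules over two disjoint opens -/
def glueMod (j : X ⟶ Z) (j' : X' ⟶ Z) (L : X.Modules) (L' : X'.Modules) : Z.Modules :=
  (Scheme.Modules.pushforward j).obj L ⊞ (Scheme.Modules.pushforward j').obj L'

def glueModIso₁ (j : X ⟶ Z) (j' : X' ⟶ Z) [IsOpenImmersion j] [IsOpenImmersion j']
    (hdisj : Disjoint (Set.range j) (Set.range j')) (L : X.Modules) (L' : X'.Modules) :
    (Scheme.Modules.pullback j).obj (glueMod j j' L L') ≅ L :=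
  ((Scheme.Modules.pullback j).mapBiprod _ _) ≪≫
    (isoBiprodZero (IsZero.of_iso (isZero_restrict_pushforward_of_disjoint j j' hdisj L')
      ((Scheme.Modules.restrictFunctorIsoPullback j).app _).symm)).symm ≪≫
    ((Scheme.Modules.restrictFunctorIsoPullback j).app _).symm ≪≫
    (Scheme.Modules.restrictFunctorAdjCounitIso j).app L

def glueModIso₂ (j : X ⟶ Z) (j' : X' ⟶ Z) [IsOpenImmersion j] [IsOpenImmersion j']
    (hdisj : Disjoint (Set.range j) (Set.range j')) (L : X.Modules) (L' : X'.Modules) :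
    (Scheme.Modules.pullback j').obj (glueMod j j' L L') ≅ L' :=
  ((Scheme.Modules.pullback j').mapBiprod _ _) ≪≫
    (isoZeroBiprod (IsZero.of_iso (isZero_restrict_pushforward_of_disjoint j' j hdisj.symm L)
      ((Scheme.Modules.restrictFunctorIsoPullback j').app _).symm)).symm ≪≫
    ((Scheme.Modules.restrictFunctorIsoPullback j').app _).symm ≪≫
    (Scheme.Modules.restrictFunctorAdjCounitIso j').app L'

end Groth.Agent.Lib.Helper28.CoprodMod

namespace Groth.Agent.Lib.Helper28.CoprodMod

open Groth.Agent.Lib.Helper28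

variable {X X' Y : Scheme.{u}}

theorem locallyOfFiniteType_coprod_desc (f : X ⟶ Y) (f' : X' ⟶ Y) [LocallyOfFiniteType f] [LocallyOfFiniteType f'] :
    LocallyOfFiniteType (coprod.desc f f') := by
  rw [IsZariskiLocalAtSource.iff_of_openCover (P := @LocallyOfFiniteType) (coprodOpenCover.{u, u} X X')]
  rintro (_ | _)
  · show LocallyOfFiniteType (coprod.inl ≫ coprod.desc f f')
    rw [coprod.inl_desc]; infer_instance
  · show LocallyOfFiniteType (coprod.inr ≫ coprod.desc f f')
    rw [coprod.inr_desc]; infer_instance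

theorem isQuasiProjective_coprod_desc (f : X ⟶ Y) (f' : X' ⟶ Y)
    (hf : RelProj.IsQuasiProjective f) (hf' : RelProj.IsQuasiProjective f') :
    RelProj.IsQuasiProjective (coprod.desc f f') := by
  obtain ⟨hlft, hqc, L, hL⟩ := hf
  obtain ⟨hlft', hqc', L', hL'⟩ := hf'
  have hdisj : Disjoint (Set.range (coprod.inl : X ⟶ X ⨿ X')) (Set.range (coprod.inr : X' ⟶ X ⨿ X')) :=
    (isCompl_range_inl_inr X X').disjoint
  refine ⟨locallyOfFiniteType_coprod_desc f f', AmpleLocal.quasiCompact_coprod_desc f f',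
    glueMod coprod.inl coprod.inr L L', ?_⟩
  rw [AmpleLocal.isRelAmple_coprod_iff]
  exact ⟨VeryAmpleLocal.isRelAmple_of_iso f (glueModIso₁ _ _ hdisj L L').symm hL,
    VeryAmpleLocal.isRelAmple_of_iso f' (glueModIso₂ _ _ hdisj L L').symm hL'⟩

end Groth.Agent.Lib.Helper28.CoprodMod
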