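import Groth.Agent.Lib.Helper28.RelProjQC
import Groth.Agent.Lib.Helper28.GrTN
import Groth.Agent.Lib.Helper28.FinTypeConv

/-!
# Finite type of `ℳ~` under (TF), over a graded ring / graded algebra generated in degree one
-/

set_option autoImplicit false
universe u
open CategoryTheory AlgebraicGeometry Opposite TopologicalSpace DirectSum
noncomputable section

namespace Groth.Agent.Lib.Helper28.GrModFin

open Groth.Agent.Lib.Helper28 Groth.Agent.Lib.Helper28.GrModQC Groth.Agent.Lib.Helper28.GrSect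

section Alg

theorem mk_add_same {R : Type*} [CommSemiring R] {M : Type*} [AddCommMonoid M] [Module R M] {S : Submonoid R}
    (m m' : M) (s : S) :
    (LocalizedModule.mk (m + m') s : LocalizedModule S M) = LocalizedModule.mk m s + LocalizedModule.mk m' s := by
  rw [LocalizedModule.mk_add_mk, ← smul_add, LocalizedModule.mk_cancel_common_left]

theorem mk_sum_same {R : Type*} [CommSemiring R] {M : Type*} [AddCommMonoid M] [Module R M] {S : Submonoid R}
    {ι : Type*} (T : Finset ι) (m : ι → M) (s : S) :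
    (LocalizedModule.mk (∑ i ∈ T, m i) s : LocalizedModule S M) = ∑ i ∈ T, LocalizedModule.mk (m i) s := by
  classical
  induction T using Finset.induction_on with
  | empty => simp
  | insert a T ha ih => rw [Finset.sum_insert ha, Finset.sum_insert ha, mk_add_same, ih]

/-- transfer of finite generation along a bijection semilinear over a surjective ring homomorphism -/
theorem finite_of_semilinear {R R' L N : Type*} [CommRing R] [CommRing R'] [AddCommGroup L] [AddCommGroup N]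
    [Module R L] [Module R' N] (φ : R →+* R') (hφ : Function.Surjective φ) (l : L →+ N)
    (hl : Function.Bijective l) (hsmul : ∀ (a : R) (y : L), l (a • y) = φ a • l y)
    (hfin : Module.Finite R' N) : Module.Finite R L := by
  classical
  obtain ⟨G, hG⟩ := hfin.1
  have hpre : ∀ z : N, ∃ y : L, l y = z := hl.2
  choose pre hpre' using hpre
  refine ⟨⟨G.image pre, ?_⟩⟩
  rw [eq_top_iff]
  intro y _
  have key : ∀ z ∈ Submodule.span R' (G : Set N), ∀ y : L, l y = z →
      y ∈ Submodule.span R ((G.image pre : Finset L) : Set L) := by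
    intro z hz
    induction hz using Submodule.span_induction with
    | mem z hz =>
      intro y hy
      have : y = pre z := hl.1 (hy.trans (hpre' z).symm)
      rw [this]
      exact Submodule.subset_span (Finset.mem_coe.2 (Finset.mem_image_of_mem pre hz))
    | zero =>
      intro y hy
      have : y = 0 := hl.1 (hy.trans (map_zero l).symm)
      rw [this]; exact zero_mem _
    | add z₁ z₂ _ _ h₁ h₂ =>
      intro y hy
      have : y = pre z₁ + pre z₂ := hl.1 (by rw [hy, map_add, hpre', hpre'])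
      rw [this]
      exact add_mem (h₁ _ (hpre' z₁)) (h₂ _ (hpre' z₂))
    | smul a' z₁ _ h₁ =>
      intro y hy
      obtain ⟨a, rfl⟩ := hφ a'
      have : y = a • pre z₁ := hl.1 (by rw [hy, hsmul, hpre'])
      rw [this]
      exact Submodule.smul_mem _ _ (h₁ _ (hpre' z₁))
  exact key (l y) (by rw [hG]; trivial) y rfl

end Alg

variable {A σ : Type u} [CommRing A] [SetLike σ A] [AddSubgroupClass σ A] (𝒜 : ℕ → σ) [GradedRing 𝒜]
variable {M τ : Type u} [AddCommGroup M] [Module A M] [SetLike τ M] [AddSubgroupClass τ M] (ℳ : ℕ → τ)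
  [DirectSum.Decomposition ℳ] [SetLike.GradedSMul 𝒜 ℳ]

theorem val_add {n : ℤ} {V : (Proj 𝒜).Opens} (s t : Γ(GrMod.tilde 𝒜 ℳ n, V)) (x : V) :
    val 𝒜 ℳ (s + t) x = val 𝒜 ℳ s x + val 𝒜 ℳ t x := rfl

theorem val_sum {n : ℤ} {V : (Proj 𝒜).Opens} {ι : Type*} (T : Finset ι) (g : ι → Γ(GrMod.tilde 𝒜 ℳ n, V)) (x : V) :
    val 𝒜 ℳ (∑ i ∈ T, g i) x = ∑ i ∈ T, val 𝒜 ℳ (g i) x := by
  classical
  induction T using Finset.induction_on with
  | empty => rw [Finset.sum_empty, Finset.sum_empty]; exact val_zero 𝒜 ℳ x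
  | insert a T ha ih => rw [Finset.sum_insert ha, Finset.sum_insert ha, val_add, ih]

/-- every point of `Proj` lies in some `D₊(f)` with `f` of degree one, when the ring is generated in degrees `0, 1` -/
theorem exists_deg_one_mem_basicOpen
    (hgen : Subring.closure (((𝒜 0 : σ) : Set A) ∪ ((𝒜 1 : σ) : Set A)) = ⊤) (x : Proj 𝒜) :
    ∃ f : A, f ∈ 𝒜 1 ∧ x ∈ Proj.basicOpen 𝒜 f := by
  by_contra hcon
  push_neg at hcon
  have h1 : (HomogeneousIdeal.irrelevant 𝒜).toIdeal ≤ x.asHomogeneousIdeal.toIdeal := by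
    rw [GrTN.irrelevant_eq_span_deg_one 𝒜 hgen, Ideal.span_le]
    intro f hf
    by_contra hfx
    exact hcon f hf ((Proj.mem_basicOpen 𝒜 f x).2 hfx)
  exact x.not_irrelevant_le h1

/-- **(TF) gives finite generation over `D₊(f)`, `f` of degree one.** -/
theorem finite_basicOpen_of_fg {f : A} (hf : f ∈ 𝒜 1) (n : ℕ)
    (hfg : (Submodule.span A (⋃ k ∈ Set.Ici n, ((ℳ k : τ) : Set M))).FG) :
    Module.Finite Γ(Proj 𝒜, Proj.basicOpen 𝒜 f) Γ(GrMod.tilde 𝒜 ℳ 0, Proj.basicOpen 𝒜 f) := by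
  classical
  obtain ⟨T, hTsub, hTspan⟩ := (Submodule.fg_span_iff_fg_span_finset_subset _).1 hfg
  have hk : ∀ μ : M, ∃ k : ℕ, μ ∈ T → μ ∈ ℳ k := by
    intro μ
    by_cases hμ : μ ∈ T
    · obtain ⟨k, -, hk⟩ := Set.mem_iUnion₂.1 (hTsub (Finset.mem_coe.2 hμ))
      exact ⟨k, fun _ => hk⟩
    · exact ⟨0, fun h => absurd h hμ⟩
  choose kk hkk using hk
  let g : M → Γ(GrMod.tilde 𝒜 ℳ 0, Proj.basicOpen 𝒜 f) := fun μ =>
    if h : μ ∈ T then mkSect 𝒜 ℳ hf 0 (kk μ) (kk μ) μ (hkk μ h) (by simp) else 0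
  refine ⟨⟨T.image g, ?_⟩⟩
  rw [eq_top_iff]
  intro t _
  obtain ⟨k, i, m, hm, hi, hval⟩ := exists_frac 𝒜 ℳ hf one_pos 0 t
  have hik : i = k := by omega
  subst hik
  set s : ℕ := n + ∑ μ ∈ T, kk μ with hs_def
  have hs : ∀ μ ∈ T, kk μ ≤ s := fun μ hμ =>
    le_add_left (Finset.single_le_sum (f := kk) (fun _ _ => Nat.zero_le _) hμ)
  have hfm : f ^ s • m ∈ ℳ (s + i) := by
    have h1 : f ^ s • m ∈ ℳ (s • 1 + i) := SetLike.GradedSMul.smul_mem (SetLike.pow_mem_graded s hf) hm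
    simpa using h1
  have hmem : f ^ s • m ∈ Submodule.span A (T : Set M) := by
    rw [← hTspan]
    exact Submodule.subset_span (Set.mem_iUnion₂.2 ⟨s + i, by simp only [Set.mem_Ici]; omega, hfm⟩)
  obtain ⟨a, -, ha⟩ := Submodule.mem_span_finset.1 hmem
  have hproj : f ^ s • m = ∑ μ ∈ T, ((decompose 𝒜 (a μ) (s + i - kk μ) : A)) • μ := by
    have h1 : (decompose ℳ (f ^ s • m) (s + i) : M) = f ^ s • m := decompose_of_mem_same ℳ hfm
    rw [← h1, ← ha, decompose_sum, DFinsupp.finsetSum_apply, AddSubmonoidClass.coe_finsetSum]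
    refine Finset.sum_congr rfl fun μ hμ => ?_
    have h2 : s + i = (s + i - kk μ) + kk μ := by have := hs μ hμ; omega
    conv_lhs => rw [h2]
    exact GrTN.decompose_smul_add 𝒜 ℳ (a μ) μ (hkk μ hμ) (s + i - kk μ)
  let c : M → Γ(Proj 𝒜, Proj.basicOpen 𝒜 f) := fun μ =>
    Proj.awayToSection 𝒜 f (HomogeneousLocalization.Away.mk 𝒜 hf (s + i - kk μ)
      (decompose 𝒜 (a μ) (s + i - kk μ) : A) (by simpa using (decompose 𝒜 (a μ) (s + i - kk μ)).2))
  have ht : t = ∑ μ ∈ T, c μ • g μ := by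
    refine ext_val 𝒜 ℳ _ _ fun x => ?_
    rw [hval x, val_sum]
    have hterm : ∀ μ ∈ T, val 𝒜 ℳ (c μ • g μ) x =
        LocalizedModule.mk (((decompose 𝒜 (a μ) (s + i - kk μ) : A)) • μ)
          ⟨f ^ (s + i), GrSectMod.pow_nin 𝒜 (s + i) x⟩ := by
      intro μ hμ
      have hg : g μ = mkSect 𝒜 ℳ hf 0 (kk μ) (kk μ) μ (hkk μ hμ) (by simp) := dif_pos hμ
      rw [val_smul, hg, val_mkSect, val_valO_awayToSection, LocalizedModule.mk_smul_mk]
      congr 1
      apply Subtype.ext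
      change f ^ (s + i - kk μ) * f ^ kk μ = f ^ (s + i)
      rw [← pow_add]
      congr 1
      have := hs μ hμ; omega
    rw [Finset.sum_congr rfl hterm, ← mk_sum_same, ← hproj]
    have h3 : (⟨f ^ (s + i), GrSectMod.pow_nin 𝒜 (s + i) x⟩ : x.1.asHomogeneousIdeal.toIdeal.primeCompl) =
        ⟨f ^ s, GrSectMod.pow_nin 𝒜 s x⟩ * ⟨f ^ i, GrSectMod.pow_nin 𝒜 i x⟩ := Subtype.ext (pow_add f s i)
    rw [h3]
    exact (LocalizedModule.mk_cancel_common_left (⟨f ^ s, GrSectMod.pow_nin 𝒜 s x⟩ :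
      x.1.asHomogeneousIdeal.toIdeal.primeCompl) ⟨f ^ i, GrSectMod.pow_nin 𝒜 i x⟩ m).symm
  rw [ht]
  exact Submodule.sum_mem _ fun μ hμ => Submodule.smul_mem _ _
    (Submodule.subset_span (Finset.mem_coe.2 (Finset.mem_image_of_mem g hμ)))

end Groth.Agent.Lib.Helper28.GrModFin

namespace Groth.Agent.Lib.Helper28.QCohLoc

variable {P Q : Scheme.{u}} (e : Q ⟶ P) [IsOpenImmersion e] (L : P.Modules) (N : Q.Modules)
  (lam : L ⟶ (Scheme.Modules.pushforward e).obj N)

theorem app_image_bijective (V : Q.Opens) : Function.Bijective (e.app (e ''ᵁ V)).hom := by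
  have h := e.appIso_hom V
  haveI : IsIso (e.app (e ''ᵁ V)) := by
    have : IsIso (e.app (e ''ᵁ V) ≫ Q.presheaf.map (eqToHom (e.preimage_image_eq V).symm).op) := by
      rw [← h]; infer_instance
    exact IsIso.of_isIso_comp_right _ (Q.presheaf.map (eqToHom (e.preimage_image_eq V).symm).op)
  exact ConcreteCategory.bijective_of_isIso (e.app (e ''ᵁ V))

/-- finite generation of sections transfers from a chart to its image -/
theorem finite_image_of_bijective (V : Q.Opens)
    (hbij : Function.Bijective (lam.app (e ''ᵁ V)))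
    (hfin : Module.Finite Γ(Q, V) Γ(N, V)) : Module.Finite Γ(P, e ''ᵁ V) Γ(L, e ''ᵁ V) := by
  have hfin' : Module.Finite Γ(Q, e ⁻¹ᵁ (e ''ᵁ V)) Γ(N, e ⁻¹ᵁ (e ''ᵁ V)) :=
    FinType.finite_congr (M := N) (e.preimage_image_eq V).symm hfin
  let l : Γ(L, e ''ᵁ V) →+ Γ(N, e ⁻¹ᵁ (e ''ᵁ V)) :=
    AddMonoidHom.mk' (fun y => lam.app (e ''ᵁ V) y) (fun a b => map_add _ a b)
  exact GrModFin.finite_of_semilinear (e.app (e ''ᵁ V)).hom (app_image_bijective e V).2 l hbij
    (fun a y => lam_smul e L N lam _ a y) hfin'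

/-- **Chart criterion for finite type**: a quasi-coherent module identified, over the ranges of open immersions `e i`,
with direct images of modules `N i` whose sections over affine opens `V i k` (with images covering `P`) are
finitely generated, is of finite type. -/
theorem isFiniteType_of_charts {P : Scheme.{u}} (L : P.Modules) [L.IsQuasicoherent] {ι : Type u} (Q : ι → Scheme.{u})
    (e : ∀ i, Q i ⟶ P) [∀ i, IsOpenImmersion (e i)] (N : ∀ i, (Q i).Modules)
    (lam : ∀ i, L ⟶ (Scheme.Modules.pushforward (e i)).obj (N i))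
    (hbij : ∀ i (W : P.Opens), W ≤ (e i).opensRange → Function.Bijective ((lam i).app W))
    {κ : ι → Type u} (V : ∀ i, κ i → (Q i).Opens) (hV : ∀ i k, IsAffineOpen (V i k))
    (hcov : ∀ x : P, ∃ i k, x ∈ (e i) ''ᵁ (V i k))
    (hfin : ∀ i k, Module.Finite Γ(Q i, V i k) Γ(N i, V i k)) :
    SheafOfModules.IsFiniteType.{u} (R := P.ringCatSheaf) L := by
  refine FinType.isFiniteType_of_finite_cover L (fun j : Σ i, κ i => (e j.1) ''ᵁ (V j.1 j.2)) ?_
    (fun j => (hV j.1 j.2).image_of_isOpenImmersion (e j.1)) ?_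
  · refine IsOpenCover.mk (eq_top_iff.mpr ?_)
    intro x _
    obtain ⟨i, k, hx⟩ := hcov x
    exact Opens.mem_iSup.mpr ⟨⟨i, k⟩, hx⟩
  · intro j
    refine finite_image_of_bijective (e j.1) L (N j.1) (lam j.1) (V j.1 j.2) (hbij j.1 _ ?_) (hfin j.1 j.2)
    rintro _ ⟨y, -, rfl⟩
    exact ⟨y, rfl⟩

end Groth.Agent.Lib.Helper28.QCohLoc
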