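import Groth.Agent.Lib.Helper28.CounitGen
import Groth.Agent.Lib.Helper28.TwistGG
import Groth.Agent.Lib.Helper28.RelTildeFin

/-!
# Relative form of Serre's theorem on global generation: the counit `f^* f_* (F ⊗ L^n) ⟶ F ⊗ L^n` is an epimorphism
for large `n`
-/

set_option autoImplicit false
universe u
open CategoryTheory CategoryTheory.Limits AlgebraicGeometry Opposite TopologicalSpace
noncomputable section

namespace Groth.Agent.Lib.Helper28.CounitSerre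

open Groth.Agent.Lib.Helper28 Groth.Agent.Lib.Helper28.QCohLoc Groth.Agent.Lib.Helper28.GenLocus
  Groth.Agent.Lib.Helper28.PullbackInv Groth.Agent.Lib.Helper28.FinType

variable {X : Scheme.{u}}

section restrict

/-- the restriction of a twist to an open subscheme is a twist of the restrictions -/
theorem isTwist_restrict {F L P : X.Modules} {d : ℕ} {Θ : ∀ W : X.Opens, Γ(L, W) → Γ(F, W) → Γ(P, W)}
    (h : IsTwist F L d P Θ) (U : X.Opens) :
    IsTwist (F.restrict U.ι) (L.restrict U.ι) d (P.restrict U.ι)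
      (fun V g x => (show Γ(P.restrict U.ι, V) from
        Θ (U.ι ''ᵁ V) (show Γ(L, U.ι ''ᵁ V) from g) (show Γ(F, U.ι ''ᵁ V) from x))) where
  bij V g hg := h.bij (U.ι ''ᵁ V) _ (isGen_of_isGen_restrict L U g hg)
  add V g x y := h.add (U.ι ''ᵁ V) _ _ _
  smul V g a x := h.smul (U.ι ''ᵁ V) _ ((U.ι.appIso V).inv a) _
  res V V' hV g x := h.res (U.ι ''ᵁ V) (U.ι ''ᵁ V') (U.ι.image_mono hV) _ _
  hom V c g x := by
    show Θ (U.ι ''ᵁ V) ((U.ι.appIso V).inv c • (show Γ(L, U.ι ''ᵁ V) from g) : Γ(L, U.ι ''ᵁ V)) _ =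
      ((U.ι.appIso V).inv (c ^ d) • Θ (U.ι ''ᵁ V) (show Γ(L, U.ι ''ᵁ V) from g)
        (show Γ(F, U.ι ''ᵁ V) from x) : Γ(P, U.ι ''ᵁ V))
    rw [h.hom, map_pow]

/-- sections of the restriction over `V` are finitely generated when the sections over the image are -/
theorem finite_restrict (F : X.Modules) (U : X.Opens) (V : (↑U : Scheme.{u}).Opens)
    (hfin : Module.Finite Γ(X, U.ι ''ᵁ V) Γ(F, U.ι ''ᵁ V)) :
    Module.Finite Γ((↑U : Scheme.{u}), V) Γ(F.restrict U.ι, V) := by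
  refine GrModFin.finite_of_semilinear (R := Γ((↑U : Scheme.{u}), V)) (R' := Γ(X, U.ι ''ᵁ V))
    (L := Γ(F.restrict U.ι, V)) (N := Γ(F, U.ι ''ᵁ V)) (U.ι.appIso V).inv.hom
    (ConcreteCategory.bijective_of_isIso (U.ι.appIso V).inv).2
    (AddMonoidHom.id _) Function.bijective_id (fun a y => rfl) hfin

/-- the restriction of a quasi-coherent module of finite type to an open subscheme is of finite type -/
theorem isFiniteType_restrict (F : X.Modules) [F.IsQuasicoherent]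
    [SheafOfModules.IsFiniteType.{u} (R := X.ringCatSheaf) F] (U : X.Opens) :
    SheafOfModules.IsFiniteType.{u} (R := (↑U : Scheme.{u}).ringCatSheaf) (F.restrict U.ι) := by
  refine isFiniteType_of_finite_cover (F.restrict U.ι)
    (fun V : (↑U : Scheme.{u}).affineOpens => V.1) ?_ (fun V => V.2) ?_
  · refine IsOpenCover.mk (eq_top_iff.mpr ?_)
    intro x _
    obtain ⟨_, ⟨V, hV, rfl⟩, hxV, -⟩ :=
      (↑U : Scheme.{u}).isBasis_affineOpens.exists_subset_of_mem_open (Set.mem_univ x) isOpen_univ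
    exact Opens.mem_iSup.mpr ⟨⟨V, hV⟩, hxV⟩
  · intro V
    exact finite_restrict F U V.1 (finite_of_isAffineOpen F (V.2.image_of_isOpenImmersion U.ι))

end restrict


section serre

open Groth.Agent.Lib.Helper28.TensorGen Groth.Agent.Lib.Helper28.InvTensor Groth.Agent.Lib.Helper28.AmpleUnit
  Groth.Agent.Lib.Helper28.TwistAmple

/-- **Serre's theorem (global generation), pointwise form** -/
theorem exists_forall_ggAt [QuasiSeparatedSpace X] {L : X.Modules}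
    (hL : CohB1.IsAmple L) (F : X.Modules) (hF : Coh.IsCoh F) :
    ∃ n₀ : ℕ, ∀ n : ℕ, n₀ ≤ n → ∀ x : X, GGAt (CohB1.tensorMod F (CohB1.tensorPow L n)) x := by
  classical
  have : F.IsQuasicoherent := hF.1
  have : SheafOfModules.IsFiniteType.{u} (R := X.ringCatSheaf) F := hF.2
  obtain ⟨hinv, hcomp, hpts⟩ := hL
  have := hcomp
  choose m s hxs haff using hpts
  obtain ⟨T, hT⟩ := finite_cover_nhds (U := fun x => (CohB1.genLocus _ (s x) : Set X))
    (fun x => (CohB1.genLocus _ (s x)).isOpen.mem_nhds (hxs x))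
  have h2 : ∀ (p : X) (r : ℕ), ∃ k₀ : ℕ, ∀ K : ℕ, k₀ ≤ K → ∀ x : X, x ∈ CohB1.genLocus _ (s p) →
      GGAt (CohB1.tensorMod (CohB1.tensorMod F (CohB1.tensorPow L r))
        (CohB1.tensorPow (CohB1.tensorPow L (m p + 1)) K)) x := by
    intro p r
    have htw := (IsTwist.refl F L).tensorPow r
    have := htw.isQuasicoherent hinv
    have := htw.isFiniteType hinv
    exact exists_ggAt_of_affine (isInvertible_tensorPow hinv (m p + 1)) (s p) (haff p) _
      (finite_of_isAffineOpen (CohB1.tensorMod F (CohB1.tensorPow L r)) (haff p))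
  choose k₀ hk₀ using h2
  refine ⟨T.sup (fun p => (m p + 1) * ((Finset.range (m p + 1)).sup (k₀ p) + 1)), fun n hn => ?_⟩
  intro x
  obtain ⟨p, hpT, hxp⟩ : ∃ p ∈ T, x ∈ CohB1.genLocus _ (s p) := by
    have : x ∈ ⋃ y ∈ T, (CohB1.genLocus _ (s y) : Set X) := by rw [hT]; trivial
    simp only [Set.mem_iUnion] at this
    obtain ⟨y, hy, hxy⟩ := this
    exact ⟨y, hy, hxy⟩
  have hn1 : (m p + 1) * ((Finset.range (m p + 1)).sup (k₀ p) + 1) ≤ n :=
    (Finset.le_sup (f := fun p => (m p + 1) * ((Finset.range (m p + 1)).sup (k₀ p) + 1)) hpT).trans hn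
  have hK : k₀ p (n % (m p + 1)) ≤ n / (m p + 1) := by
    have h3 : k₀ p (n % (m p + 1)) ≤ (Finset.range (m p + 1)).sup (k₀ p) :=
      Finset.le_sup (f := k₀ p) (Finset.mem_range.2 (Nat.mod_lt _ (Nat.succ_pos _)))
    have h4 : (Finset.range (m p + 1)).sup (k₀ p) + 1 ≤ n / (m p + 1) := by
      rw [Nat.le_div_iff_mul_le (Nat.succ_pos _), mul_comm]
      exact hn1
    omega
  have hgg := hk₀ p (n % (m p + 1)) (n / (m p + 1)) hK x hxp
  have tw1 := ((IsTwist.refl F L).tensorPow (n % (m p + 1))).tensorPowPow (m p + 1) (n / (m p + 1))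
  have tw2 := (IsTwist.refl F L).tensorPow n
  have hdeg : 0 + n % (m p + 1) + (m p + 1) * (n / (m p + 1)) = 0 + n := by
    rw [zero_add, zero_add]
    exact Nat.mod_add_div n (m p + 1)
  obtain ⟨ψ, -⟩ := (tw1.congr_deg hdeg).exists_iso tw2 hinv
  exact hgg.of_iso ψ

end serre

section counit

variable {Y : Scheme.{u}} (f : X ⟶ Y) (M : X.Modules)

/-- sections of `M` over `f⁻¹V` are in the range of the counit, locally -/
theorem mem_range_counit_of_ggAt (V : Y.Opens) (x : (↑(f ⁻¹ᵁ V) : Scheme.{u}))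
    (hgg : GGAt (M.restrict (f ⁻¹ᵁ V).ι) x) (U₀ : X.Opens) (y : Γ(M, U₀)) (hx : (f ⁻¹ᵁ V).ι x ∈ U₀) :
    ∃ (V₁ : X.Opens) (hV₁ : V₁ ≤ U₀), (f ⁻¹ᵁ V).ι x ∈ V₁ ∧
      ∃ z : Γ((Scheme.Modules.pullback f).obj ((Scheme.Modules.pushforward f).obj M), V₁),
        ((Scheme.Modules.pullbackPushforwardAdjunction f).counit.app M).app V₁ z = res M hV₁ y := by
  -- the section over `ι⁻¹U₀`
  have hle : (f ⁻¹ᵁ V).ι ''ᵁ ((f ⁻¹ᵁ V).ι ⁻¹ᵁ U₀) ≤ U₀ := (f ⁻¹ᵁ V).ι.image_preimage_le U₀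
  obtain ⟨V', hV', hxV', hmem⟩ := hgg ((f ⁻¹ᵁ V).ι ⁻¹ᵁ U₀)
    (show Γ(M.restrict (f ⁻¹ᵁ V).ι, (f ⁻¹ᵁ V).ι ⁻¹ᵁ U₀) from res M hle y) hx
  have hle' : (f ⁻¹ᵁ V).ι ''ᵁ V' ≤ U₀ := ((f ⁻¹ᵁ V).ι.image_mono hV').trans hle
  have hleV : (f ⁻¹ᵁ V).ι ''ᵁ V' ≤ f ⁻¹ᵁ V := InvGen.image_le _ _
  refine ⟨(f ⁻¹ᵁ V).ι ''ᵁ V', hle', ⟨x, hxV', rfl⟩, ?_⟩
  have key : ∀ w ∈ Submodule.span Γ((↑(f ⁻¹ᵁ V) : Scheme.{u}), V')
      (Set.range fun T : Γ(M.restrict (f ⁻¹ᵁ V).ι, ⊤) =>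
        res (M.restrict (f ⁻¹ᵁ V).ι) (le_top : V' ≤ ⊤) T),
      ∃ z : Γ((Scheme.Modules.pullback f).obj ((Scheme.Modules.pushforward f).obj M), (f ⁻¹ᵁ V).ι ''ᵁ V'),
        ((Scheme.Modules.pullbackPushforwardAdjunction f).counit.app M).app ((f ⁻¹ᵁ V).ι ''ᵁ V') z =
          (show Γ(M, (f ⁻¹ᵁ V).ι ''ᵁ V') from w) := by
    intro w hw
    induction hw using Submodule.span_induction with
    | mem w hw =>
      obtain ⟨T, rfl⟩ := hw
      -- `T` as a section over `f⁻¹V`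
      have htop : f ⁻¹ᵁ V ≤ (f ⁻¹ᵁ V).ι ''ᵁ ⊤ := by
        intro p hp
        exact ⟨⟨p, hp⟩, trivial, rfl⟩
      obtain ⟨T', hT'⟩ : ∃ T' : Γ(M, f ⁻¹ᵁ V),
          T' = res M htop (show Γ(M, (f ⁻¹ᵁ V).ι ''ᵁ ⊤) from T) := ⟨_, rfl⟩
      refine ⟨res _ hleV (pbs f ((Scheme.Modules.pushforward f).obj M) V T'), ?_⟩
      have h1 := app_res ((Scheme.Modules.pullbackPushforwardAdjunction f).counit.app M) hleV
        (pbs f ((Scheme.Modules.pushforward f).obj M) V T')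
      have h2 := CounitGen.counit_app_pbs f M V T'
      refine h1.trans ((congrArg (res M hleV) h2).trans ?_)
      rw [hT', res_res]
      rfl
    | zero => exact ⟨0, map_zero _⟩
    | add a b _ _ ha hb =>
      obtain ⟨za, hza⟩ := ha
      obtain ⟨zb, hzb⟩ := hb
      refine ⟨za + zb, ?_⟩
      rw [map_add, hza, hzb]
      rfl
    | smul c a _ ha =>
      obtain ⟨za, hza⟩ := ha
      refine ⟨((f ⁻¹ᵁ V).ι.appIso V').inv c • za, ?_⟩
      rw [Scheme.Modules.Hom.app_smul, hza]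
      rfl
  obtain ⟨z, hz⟩ := key _ hmem
  refine ⟨z, hz.trans ?_⟩
  show res M ((f ⁻¹ᵁ V).ι.image_mono hV') (res M hle y) = res M hle' y
  rw [res_res]

end counit


section main

variable {Y : Scheme.{u}}

/-- **relative Serre theorem (global generation)**: over a quasi-compact base, for `L` relatively ample and `F`
quasi-coherent of finite type, the counit `f^* f_* (F ⊗ L^n) ⟶ F ⊗ L^n` is an epimorphism for all large `n` -/
theorem exists_forall_epi_counit [CompactSpace Y] (f : X ⟶ Y) [QuasiCompact f]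
    (L : X.Modules) (hamp : RelAmple.IsRelAmple f L) (F : X.Modules) (hF : Coh.IsCoh F) :
    ∃ N : ℕ, ∀ n : ℕ, N ≤ n →
      Epi ((Scheme.Modules.pullbackPushforwardAdjunction f).counit.app
        (CohB1.tensorMod F (CohB1.tensorPow L n))) := by
  classical
  have : F.IsQuasicoherent := hF.1
  have : SheafOfModules.IsFiniteType.{u} (R := X.ringCatSheaf) F := hF.2
  -- a finite affine cover of `Y`
  have hcovY : ∀ y : Y, ∃ V : Y.affineOpens, y ∈ V.1 := by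
    intro y
    obtain ⟨V, hV, hyV, -⟩ := Y.isBasis_affineOpens.exists_subset_of_mem_open (Set.mem_univ y) isOpen_univ
    obtain ⟨V', hV', rfl⟩ := hV
    exact ⟨⟨V', hV'⟩, hyV⟩
  obtain ⟨t, ht⟩ := isCompact_univ.elim_finite_subcover (fun V : Y.affineOpens => ((V.1 : Y.Opens) : Set Y))
    (fun V => V.1.isOpen) (fun y _ => Set.mem_iUnion.2 (hcovY y))
  have htmem : ∀ y : Y, ∃ V ∈ t, y ∈ V.1 := by
    intro y
    have := ht (Set.mem_univ y)
    simp only [Set.mem_iUnion] at this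
    obtain ⟨V, hVt, hyV⟩ := this
    exact ⟨V, hVt, hyV⟩
  have hS : ∀ V : Y.affineOpens, ∃ n₀ : ℕ, ∀ n : ℕ, n₀ ≤ n → ∀ x : (↑(f ⁻¹ᵁ V.1) : Scheme.{u}),
      GGAt (CohB1.tensorMod (F.restrict (f ⁻¹ᵁ V.1).ι) (CohB1.tensorPow (L.restrict (f ⁻¹ᵁ V.1).ι) n)) x := by
    intro V
    have h1 := hamp.2 V
    have : (↑(f ⁻¹ᵁ V.1) : Scheme.{u}).IsSeparated := isSeparated_of_isAmple h1
    have hqs : QuasiSeparatedSpace ((↑(f ⁻¹ᵁ V.1) : Scheme.{u})) := inferInstance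
    have hFU : Coh.IsCoh (F.restrict (f ⁻¹ᵁ V.1).ι) :=
      ⟨(inferInstance : ((Scheme.Modules.restrictFunctor (f ⁻¹ᵁ V.1).ι).obj F).IsQuasicoherent),
        isFiniteType_restrict F (f ⁻¹ᵁ V.1)⟩
    exact exists_forall_ggAt h1 _ hFU
  choose n₀ hn₀ using hS
  refine ⟨t.sup n₀, fun n hn => ?_⟩
  apply epi_of_locally_in_range
  intro U₀ y pt hpt
  obtain ⟨V, hVt, hptV⟩ := htmem (f pt)
  have hnV : n₀ V ≤ n := (Finset.le_sup (f := n₀) hVt).trans hn
  have hgg := hn₀ V n hnV ⟨pt, hptV⟩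
  have hLU : PicF.IsInvertible (L.restrict (f ⁻¹ᵁ V.1).ι) := (hamp.2 V).1
  have tw2 := (IsTwist.refl F L).tensorPow n
  have twU := isTwist_restrict tw2 (f ⁻¹ᵁ V.1)
  have tw3 := (IsTwist.refl (F.restrict (f ⁻¹ᵁ V.1).ι) (L.restrict (f ⁻¹ᵁ V.1).ι)).tensorPow n
  obtain ⟨ψ, -⟩ := tw3.exists_iso twU hLU
  exact mem_range_counit_of_ggAt f _ V.1 ⟨pt, hptV⟩ (hgg.of_iso ψ) U₀ y hpt

end main

end Groth.Agent.Lib.Helper28.CounitSerre
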