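import Groth.Agent.Lib.Helper28.AmpleLocal

set_option autoImplicit false
universe u
open CategoryTheory CategoryTheory.Limits AlgebraicGeometry Opposite TopologicalSpace
noncomputable section

namespace Groth.Agent.Lib.Helper28.AmpleLocal

open Groth.Agent.Lib.Helper28 Groth.Agent.Lib.Helper28.QCohLoc Groth.Agent.Lib.Helper28.GenLocus
  Groth.Agent.Lib.Helper28.PullbackInv

/-- inverse images along a commutative square whose horizontal maps are open immersions -/
def restrictSquareIso {Q P X W : Scheme.{u}} (a : Q ⟶ P) (b : P ⟶ X) (c : Q ⟶ W) (d : W ⟶ X)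
    [IsOpenImmersion a] [IsOpenImmersion d] (h : a ≫ b = c ≫ d) :
    Scheme.Modules.pullback b ⋙ Scheme.Modules.restrictFunctor a ≅
      Scheme.Modules.restrictFunctor d ⋙ Scheme.Modules.pullback c :=
  Functor.isoWhiskerLeft _ (Scheme.Modules.restrictFunctorIsoPullback a) ≪≫
    Scheme.Modules.pullbackComp a b ≪≫ Scheme.Modules.pullbackCongr h ≪≫
    (Scheme.Modules.pullbackComp c d).symm ≪≫
    Functor.isoWhiskerRight (Scheme.Modules.restrictFunctorIsoPullback d).symm _

/-- **base change of a relatively ample module is relatively ample** -/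
theorem isRelAmple_baseChange {X Y Y' : Scheme.{u}} (f : X ⟶ Y) [QuasiCompact f] (g : Y' ⟶ Y) (L : X.Modules)
    (hL : RelAmple.IsRelAmple f L) :
    RelAmple.IsRelAmple (pullback.snd f g) ((Scheme.Modules.pullback (pullback.fst f g)).obj L) := by
  refine isRelAmple_of_forall_exists _ _ fun y' => ?_
  obtain ⟨V, hV, hyV⟩ : ∃ V : Y.Opens, IsAffineOpen V ∧ g y' ∈ V := by
    obtain ⟨_, ⟨V, hV, rfl⟩, hyV, -⟩ :=
      Y.isBasis_affineOpens.exists_subset_of_mem_open (Set.mem_univ (g y')) isOpen_univ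
    exact ⟨V, hV, hyV⟩
  refine ⟨g ⁻¹ᵁ V, hyV, fun V' hV' hle => ?_⟩
  have hA := hL.2 ⟨V, hV⟩
  have e₁ : (f ∣_ V) ≫ V.ι = (f ⁻¹ᵁ V).ι ≫ f := morphismRestrict_ι f V
  have e₂ : g.resLE V V' hle ≫ V.ι = V'.ι ≫ g := Scheme.Hom.resLE_comp_ι g hle
  have : IsAffine (↑V : Scheme.{u}) := hV
  have : IsAffine (↑V' : Scheme.{u}) := hV'
  have : CompactSpace ((f ⁻¹ᵁ V : X.Opens) : Scheme.{u}) := hA.2.1
  have hg' : IsAffineHom (g.resLE V V' hle) := inferInstance
  have : IsAffineHom (pullback.fst (f ∣_ V) (g.resLE V V' hle)) :=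
    MorphismProperty.pullback_fst (P := @IsAffineHom) _ _ hg'
  have : ((f ⁻¹ᵁ V : X.Opens) : Scheme.{u}).IsSeparated := isSeparated_of_isAmple hA
  have : CompactSpace (pullback (f ∣_ V) (g.resLE V V' hle) : Scheme.{u}) :=
    QuasiCompact.compactSpace_of_compactSpace (pullback.fst (f ∣_ V) (g.resLE V V' hle))
  have : QuasiSeparatedSpace (pullback (f ∣_ V) (g.resLE V V' hle) : Scheme.{u}) :=
    quasiSeparatedSpace_of_quasiSeparated (pullback.fst (f ∣_ V) (g.resLE V V' hle))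
  have h1 : CohB1.IsAmple ((Scheme.Modules.pullback (pullback.fst (f ∣_ V) (g.resLE V V' hle))).obj
      (L.restrict (f ⁻¹ᵁ V).ι)) := by
    refine isAmple_pullback_of_quasiAffine _ (fun O hO => ?_) _ hA
    have : IsAffine ((pullback.fst (f ∣_ V) (g.resLE V V' hle) ⁻¹ᵁ O :
        (pullback (f ∣_ V) (g.resLE V V' hle) : Scheme.{u}).Opens) : Scheme.{u}) := hO.preimage _
    infer_instance
  have hm : pullback.map (f ∣_ V) (g.resLE V V' hle) f g (f ⁻¹ᵁ V).ι V'.ι V.ι e₁ e₂ ≫ pullback.fst f g =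
      pullback.fst (f ∣_ V) (g.resLE V V' hle) ≫ (f ⁻¹ᵁ V).ι := by
    exact pullback.lift_fst _ _ _
  have h2 : CohB1.IsAmple (((Scheme.Modules.pullback (pullback.fst f g)).obj L).restrict
      (pullback.map (f ∣_ V) (g.resLE V V' hle) f g (f ⁻¹ᵁ V).ι V'.ι V.ι e₁ e₂)) :=
    AmpleIso.isAmple_of_iso ((restrictSquareIso _ _ _ _ hm).app L).symm h1
  refine isAmple_restrict_of_range_eq _ _ ?_ _ h2
  rw [Scheme.Opens.range_ι, Scheme.Pullback.range_map, Scheme.Opens.range_ι, Scheme.Opens.range_ι]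
  ext z
  constructor
  · intro hz
    refine ⟨?_, hz⟩
    show f (pullback.fst f g z) ∈ V
    have : f (pullback.fst f g z) = g (pullback.snd f g z) := by
      rw [← Scheme.Hom.comp_apply, ← Scheme.Hom.comp_apply, pullback.condition]
    rw [this]
    exact hle hz
  · intro hz
    exact hz.2

end Groth.Agent.Lib.Helper28.AmpleLocal
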