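import Groth.Agent.Lib.Helper28.IdealDual
import Groth.Agent.Lib.Helper28.ModExact
import Groth.Agent.Lib.Helper28.TensorIso
import Groth.Agent.Lib.Helper28.TwistIso

/-!
# Multiplication `I ⊗ Λ ⟶ Λ` for a submodule `I` of `O_X`, gluing of two sections, exactness on sections
-/

set_option autoImplicit false
universe u
open CategoryTheory CategoryTheory.Limits AlgebraicGeometry Opposite TopologicalSpace
noncomputable section

namespace Groth.Agent.Lib.Helper28.AmpleH1

open Groth.Agent.Lib.Helper28 Groth.Agent.Lib.Helper28.QCohLoc Groth.Agent.Lib.Helper28.GenLocus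
  Groth.Agent.Lib.Helper28.TensorGen

variable {X : Scheme.{u}}

/-- gluing two sections of a module over a two-element cover -/
theorem exists_glue_two (M : X.Modules) (U₁ U₂ : X.Opens) (hcov : U₁ ⊔ U₂ = ⊤) (s₁ : Γ(M, U₁)) (s₂ : Γ(M, U₂))
    (h : res M (inf_le_left : U₁ ⊓ U₂ ≤ U₁) s₁ = res M (inf_le_right : U₁ ⊓ U₂ ≤ U₂) s₂) :
    ∃ s : Γ(M, ⊤), res M le_top s = s₁ ∧ res M le_top s = s₂ := by
  let W : Bool → X.Opens := fun b => cond b U₁ U₂
  let sf : ∀ b : Bool, Γ(M, W b) := fun b => match b with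
    | true => s₁
    | false => s₂
  have hcompat : TopCat.Presheaf.IsCompatible M.presheaf W sf := by
    intro a b
    cases a <;> cases b
    · rfl
    · show res M (inf_le_left : U₂ ⊓ U₁ ≤ U₂) s₂ = res M (inf_le_right : U₂ ⊓ U₁ ≤ U₁) s₁
      have hle : U₂ ⊓ U₁ ≤ U₁ ⊓ U₂ := le_inf inf_le_right inf_le_left
      have := congrArg (res M hle) h
      rw [res_res, res_res] at this
      exact this.symm
    · exact h
    · rfl
  obtain ⟨s, hs, -⟩ := TopCat.Sheaf.existsUnique_gluing' (⟨M.presheaf, M.isSheaf⟩ : TopCat.Sheaf Ab X) W ⊤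
    (fun b => homOfLE le_top) (by
      rw [← hcov]
      exact sup_le (le_iSup W true) (le_iSup W false)) sf hcompat
  exact ⟨s, hs true, hs false⟩

/-- exactness on sections for an exact complex with injective first map -/
theorem exists_app_eq_of_exact {F₁ F₂ F₃ : X.Modules} (f : F₁ ⟶ F₂) (g : F₂ ⟶ F₃) (w : f ≫ g = 0)
    (hS : (ShortComplex.mk f g w).Exact) [Mono f] (U : X.Opens)
    (y : Γ(F₂, U)) (hy : g.app U y = 0) : ∃ z : Γ(F₁, U), f.app U z = y := by
  let S : ShortComplex (SheafOfModules.{u} X.ringCatSheaf) := ShortComplex.mk f g w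
  have hS' : S.Exact := hS
  have : (SheafOfModules.evaluation.{u} X.ringCatSheaf (op U)).PreservesZeroMorphisms :=
    ⟨fun _ _ => rfl⟩
  have : Mono S.f := inferInstanceAs (Mono f)
  have hex := hS'.map_of_mono_of_preservesKernel
    (SheafOfModules.evaluation.{u} X.ringCatSheaf (op U)) inferInstance inferInstance
  rw [ShortComplex.moduleCat_exact_iff] at hex
  exact hex y hy

/-- the morphism from a sheafification induced by a morphism of presheaves, on sections coming from the presheaf -/
theorem lift_app_unit (P : X.PresheafOfModules) (F : X.Modules)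
    (φ : P ⟶ (PresheafOfModules.restrictScalars (𝟙 X.ringCatSheaf.obj)).obj F.val) (W : X.Opens)
    (z : (P.obj (op W) : Type u)) :
    (TensorIso.lift P F φ).app W
      (((PresheafOfModules.sheafificationAdjunction (𝟙 X.ringCatSheaf.obj)).unit.app P).app (op W) z) =
      φ.app (op W) z := by
  have h0 : (PresheafOfModules.sheafificationAdjunction (𝟙 X.ringCatSheaf.obj)).homEquiv P F
      (TensorIso.lift P F φ) = φ := by
    rw [PresheafOfModules.sheafificationAdjunction_homEquiv_apply]
    exact (PresheafOfModules.sheafificationHomEquiv (𝟙 X.ringCatSheaf.obj)).apply_symm_apply φ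
  rw [Adjunction.homEquiv_unit] at h0
  have h1 := congrArg (fun ψ => (ψ.app (op W)) z) h0
  exact h1

section mul

variable {I : X.Modules} (i : I ⟶ Coh.structureModule X) (Λ : X.Modules)

/-- the multiplication map `I ⊗ Λ ⟶ Λ` of a module `I` mapping to `O_X` -/
def mulMap : CohB1.tensorMod I Λ ⟶ Λ :=
  TensorIso.lift _ Λ (TensorIso.tensorDesc I Λ Λ
    (fun W y l => ((show Γ(X, W) from i.app W y) • l : Γ(Λ, W)))
    (fun W m m' n => by
      show ((show Γ(X, W) from i.app W (m + m')) • n : Γ(Λ, W)) = _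
      rw [map_add]
      exact add_smul _ _ _)
    (fun W m n n' => smul_add _ _ _)
    (fun W a m n => by
      show ((show Γ(X, W) from i.app W (a • m : Γ(I, W))) • n : Γ(Λ, W)) = _
      rw [Scheme.Modules.Hom.app_smul]
      exact mul_smul _ _ _)
    (fun W a m n => smul_comm _ _ _)
    (fun W W' h m n => by
      show ((show Γ(X, W') from i.app W' (res I h m)) • res Λ h n : Γ(Λ, W')) = _
      rw [app_res, res_smul]
      rfl))

theorem mulMap_app_tmulSec {W : X.Opens} (y : Γ(I, W)) (l : Γ(Λ, W)) :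
    (mulMap i Λ).app W (tmulSec I Λ y l) = ((show Γ(X, W) from i.app W y) • l : Γ(Λ, W)) := by
  unfold mulMap tmulSec ηT
  exact lift_app_unit _ Λ _ W (ptmul I Λ y l)

end mul

section mono

variable {I : X.Modules} (i : I ⟶ Coh.structureModule X) (Λ : X.Modules)

/-- **tensoring a submodule of `O_X` with an invertible module: the multiplication map is injective** -/
theorem mono_mulMap [Mono i] (hΛ : PicF.IsInvertible Λ) : Mono (mulMap i Λ) := by
  apply mono_of_injective
  intro V
  rw [injective_iff_map_eq_zero]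
  intro t ht
  have hloc : ∀ pt : V, ∃ (V' : X.Opens) (hV' : V' ≤ V), pt.1 ∈ V' ∧
      res (CohB1.tensorMod I Λ) hV' t = 0 := by
    intro pt
    obtain ⟨W, γ, hptW, hγ⟩ := exists_isGen Λ hΛ pt.1
    refine ⟨V ⊓ W, inf_le_left, ⟨pt.2, hptW⟩, ?_⟩
    obtain ⟨y, hy⟩ := (tmulSec_right_bijective I Λ (hγ.res (inf_le_right : V ⊓ W ≤ W))).2
      (res (CohB1.tensorMod I Λ) inf_le_left t)
    have hy' : tmulSec I Λ y (res Λ (inf_le_right : V ⊓ W ≤ W) γ) =
        res (CohB1.tensorMod I Λ) inf_le_left t := hy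
    have h1 : (mulMap i Λ).app (V ⊓ W) (res (CohB1.tensorMod I Λ) inf_le_left t) = 0 := by
      rw [app_res, ht, res_zero]
    rw [← hy', mulMap_app_tmulSec] at h1
    have h2 : (show Γ(X, V ⊓ W) from i.app (V ⊓ W) y) = 0 := by
      apply (hγ (V ⊓ W) inf_le_right).1
      show ((show Γ(X, V ⊓ W) from i.app (V ⊓ W) y) • res Λ inf_le_right γ : Γ(Λ, V ⊓ W)) =
        ((0 : Γ(X, V ⊓ W)) • res Λ inf_le_right γ : Γ(Λ, V ⊓ W))
      rw [h1, zero_smul]
    have h3 : y = 0 := by
      apply injective_of_mono i inferInstance (V ⊓ W)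
      rw [map_zero]
      exact h2
    rw [← hy', h3, tmulSec_zero_left]
  choose V' hV' hpt hzero using hloc
  refine eq_of_locally_eq (CohB1.tensorMod I Λ) V' V hV'
    (fun x hx => Opens.mem_iSup.2 ⟨⟨x, hx⟩, hpt _⟩) t 0 (fun x => ?_)
  rw [hzero, res_zero]

end mono

end Groth.Agent.Lib.Helper28.AmpleH1
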