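import Groth.Agent.Lib.Helper17.Frame
import Groth.Agent.Lib.Helper28.ModGlueHom
import Groth.Prelude.Def_FinCov

/-!
# The trace of a finite locally free quasi-coherent algebra: sections over framed opens
-/

set_option autoImplicit false
universe u
open CategoryTheory CategoryTheory.Limits AlgebraicGeometry Opposite TopologicalSpace
noncomputable section

namespace Groth.Agent.Lib.Helper28.TraceAlg

open Groth.Agent.Lib.Helper28 Groth.Agent.Lib.Helper28.QCohLoc Groth.Agent.Lib.Helper17.Frame

variable {X : Scheme.{u}} (A : RelSpec.QCAlg X)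

/-- the algebra structure on the sections of `A` -/
@[reducible] def algAt (V : X.Opens) : Algebra Γ(X, V) (A.presheaf.obj (op V)) :=
  (A.str.app (op V)).hom.toAlgebra

attribute [local instance] algAt

/-- a section of the underlying module, as an element of the ring of sections -/
abbrev asR {V : X.Opens} (x : Γ(A.toModule, V)) : A.presheaf.obj (op V) := x

/-- an element of the ring of sections, as a section of the underlying module -/
abbrev ofR {V : X.Opens} (x : A.presheaf.obj (op V)) : Γ(A.toModule, V) := x

theorem smul_eq {V : X.Opens} (a : Γ(X, V)) (x : Γ(A.toModule, V)) :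
    asR A (a • x : Γ(A.toModule, V)) = a • asR A x := rfl

theorem res_mul {V V' : X.Opens} (h : V' ≤ V) (x y : A.presheaf.obj (op V)) :
    asR A (res A.toModule h (ofR A (x * y))) =
      asR A (res A.toModule h (ofR A x)) * asR A (res A.toModule h (ofR A y)) :=
  map_mul (A.presheaf.map (homOfLE h).op).hom x y

theorem res_eq {V V' : X.Opens} (h : V' ≤ V) (x : A.presheaf.obj (op V)) :
    asR A (res A.toModule h (ofR A x)) = (A.presheaf.map (homOfLE h).op).hom x := rfl

section frame

variable {A} {U : X.Opens} {n : ℕ} {γ : Fin n → Γ(A.toModule, U)} (hγ : IsFrame A.toModule U γ)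

/-- the linear map `c ↦ Σ c_j γ_j` over `V ≤ U` -/
def frameLin {V : X.Opens} (hV : V ≤ U) : (Fin n → Γ(X, V)) →ₗ[Γ(X, V)] (A.presheaf.obj (op V)) where
  toFun c := ∑ j, c j • asR A (res A.toModule hV (γ j))
  map_add' c c' := by
    simp only [Pi.add_apply, add_smul, Finset.sum_add_distrib]
  map_smul' a c := by
    simp only [Pi.smul_apply, smul_eq_mul, mul_smul, RingHom.id_apply, Finset.smul_sum]

include hγ in
theorem frameLin_bijective {V : X.Opens} (hV : V ≤ U) : Function.Bijective (frameLin (γ := γ) hV) :=
  hγ V hV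

/-- the basis of the sections over `V ≤ U` given by the frame -/
def frameBasis {V : X.Opens} (hV : V ≤ U) : Module.Basis (Fin n) Γ(X, V) (A.presheaf.obj (op V)) :=
  Module.Basis.ofEquivFun (LinearEquiv.ofBijective (frameLin (γ := γ) hV) (frameLin_bijective hγ hV)).symm

theorem frameBasis_repr {V : X.Opens} (hV : V ≤ U) (x : A.presheaf.obj (op V)) (j : Fin n) :
    (frameBasis hγ hV).repr x j = hγ.coef hV (ofR A x) j := by
  have h1 : (frameBasis hγ hV).repr x j =
      (LinearEquiv.ofBijective (frameLin (γ := γ) hV) (frameLin_bijective hγ hV)).symm x j := rfl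
  rw [h1]
  have h2 : (LinearEquiv.ofBijective (frameLin (γ := γ) hV) (frameLin_bijective hγ hV)).symm x =
      hγ.coef hV (ofR A x) := by
    apply (LinearEquiv.ofBijective (frameLin (γ := γ) hV) (frameLin_bijective hγ hV)).injective
    rw [LinearEquiv.apply_symm_apply]
    exact (hγ.coef_sum hV (ofR A x)).symm
  rw [h2]

theorem frameBasis_apply {V : X.Opens} (hV : V ≤ U) (j : Fin n) :
    frameBasis hγ hV j = asR A (res A.toModule hV (γ j)) := by
  classical
  have h1 : frameBasis hγ hV j =
      (LinearEquiv.ofBijective (frameLin (γ := γ) hV) (frameLin_bijective hγ hV)) (Pi.single j 1) := by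
    unfold frameBasis
    rw [Module.Basis.coe_ofEquivFun]
    rfl
  rw [h1]
  show ∑ k, (Pi.single j (1 : Γ(X, V)) : Fin n → Γ(X, V)) k • asR A (res A.toModule hV (γ k)) = _
  rw [Finset.sum_eq_single j]
  · rw [Pi.single_eq_same, one_smul]
  · intro k _ hk
    rw [Pi.single_eq_of_ne hk, zero_smul]
  · intro h
    exact absurd (Finset.mem_univ j) h

include hγ in
theorem free_of_frame {V : X.Opens} (hV : V ≤ U) : Module.Free Γ(X, V) (A.presheaf.obj (op V)) :=
  Module.Free.of_basis (frameBasis hγ hV)

include hγ in
theorem finite_of_frame {V : X.Opens} (hV : V ≤ U) : Module.Finite Γ(X, V) (A.presheaf.obj (op V)) :=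
  Module.Finite.of_basis (frameBasis hγ hV)

/-- the trace in terms of the frame -/
theorem trace_eq_sum {V : X.Opens} (hV : V ≤ U) (a : A.presheaf.obj (op V)) :
    Algebra.trace Γ(X, V) (A.presheaf.obj (op V)) a =
      ∑ j, hγ.coef hV (ofR A (a * asR A (res A.toModule hV (γ j)))) j := by
  classical
  rw [Algebra.trace_eq_matrix_trace (frameBasis hγ hV), Matrix.trace]
  refine Finset.sum_congr rfl fun j _ => ?_
  rw [Matrix.diag_apply, Algebra.leftMulMatrix_eq_repr_mul, frameBasis_repr, frameBasis_apply]

include hγ in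
/-- the trace commutes with restriction inside a framed open -/
theorem trace_res {V V' : X.Opens} (hV : V ≤ U) (h : V' ≤ V) (a : A.presheaf.obj (op V)) :
    Algebra.trace Γ(X, V') (A.presheaf.obj (op V')) (asR A (res A.toModule h (ofR A a))) =
      resO h (Algebra.trace Γ(X, V) (A.presheaf.obj (op V)) a) := by
  rw [trace_eq_sum hγ hV, trace_eq_sum hγ (h.trans hV)]
  have : resO h (∑ j, hγ.coef hV (ofR A (a * asR A (res A.toModule hV (γ j)))) j) =
      ∑ j, resO h (hγ.coef hV (ofR A (a * asR A (res A.toModule hV (γ j)))) j) :=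
    map_sum (X.presheaf.map (homOfLE h).op).hom _ _
  rw [this]
  refine Finset.sum_congr rfl fun j _ => ?_
  rw [← hγ.coef_res hV h]
  congr 2
  show ofR A (asR A (res A.toModule h (ofR A a)) * asR A (res A.toModule (h.trans hV) (γ j))) =
    res A.toModule h (ofR A (a * asR A (res A.toModule hV (γ j))))
  rw [← res_res A.toModule hV h]
  exact (res_mul A h a _).symm

end frame

end Groth.Agent.Lib.Helper28.TraceAlg
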