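import Groth.Agent.Lib.Helper28.SymAlgGlue
import Groth.Agent.Lib.Helper28.TraceA

set_option autoImplicit false
universe u
open CategoryTheory CategoryTheory.Limits AlgebraicGeometry Opposite TopologicalSpace
noncomputable section

namespace Groth.Agent.Lib.Helper28.SymAlg

open Groth.Agent.Lib.Helper28 Groth.Agent.Lib.Helper28.QCohLoc

variable {S : Scheme.{u}} (E : S.Modules) (hQC : RelSpec.IsQC (symPre E) (symStr E))

/-- the symmetric algebra of `E` -/
def symAlg : RelSpec.QCAlg S := RelSpec.QCAlg.directImage (PreQC.π (symPre E) (symStr E) hQC)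

/-- the identification of the sections over an affine open -/
def eU (U : S.Opens) (hU : IsAffineOpen U) : (symAlg E hQC).presheaf.obj (op U) ≅ symObj E U :=
  @asIso _ _ _ _ (PreQC.gammaAff (symPre E) (symStr E) hQC U hU) (PreQC.isIso_gammaAff (symPre E) (symStr E) hQC U hU)

theorem str_eU (U : S.Opens) (hU : IsAffineOpen U) (a : Γ(S, U)) :
    (eU E hQC U hU).hom.hom (((symAlg E hQC).str.app (op U)).hom a) =
      algebraMap Γ(S, U) (SymmetricAlgebra Γ(S, U) Γ(E, U)) a := by
  have h := PreQC.π_app_gammaAff (symPre E) (symStr E) hQC U hU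
  exact congrArg (fun ψ => ψ.hom a) h

/-- naturality of the identification for basic opens -/
theorem eU_res (U : S.AffineZariskiSite) (V : S.AffineZariskiSite) (i : V ⟶ U)
    (z : (symAlg E hQC).presheaf.obj (op U.1)) :
    (eU E hQC V.1 V.2).hom.hom
      (((symAlg E hQC).presheaf.map (homOfLE (Scheme.AffineZariskiSite.toOpens_mono i.le)).op).hom z) =
      (symRes E (Scheme.AffineZariskiSite.toOpens_mono i.le)).hom ((eU E hQC U.1 U.2).hom.hom z) := by
  have h := (PreQC.gammaRestrict (symPre E) (symStr E) hQC).naturality i.op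
  exact congrArg (fun ψ => ψ.hom z) h

/-- sections of `E` over an affine open, in the symmetric algebra -/
def jAff (U : S.Opens) (hU : IsAffineOpen U) (m : Γ(E, U)) : (symAlg E hQC).presheaf.obj (op U) :=
  (eU E hQC U hU).inv.hom (SymmetricAlgebra.ι Γ(S, U) Γ(E, U) m)

theorem eU_jAff (U : S.Opens) (hU : IsAffineOpen U) (m : Γ(E, U)) :
    (eU E hQC U hU).hom.hom (jAff E hQC U hU m) = SymmetricAlgebra.ι Γ(S, U) Γ(E, U) m := by
  unfold jAff
  have h := (eU E hQC U hU).inv_hom_id
  exact congrArg (fun ψ => ψ.hom (SymmetricAlgebra.ι Γ(S, U) Γ(E, U) m)) h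

theorem eU_injective (U : S.Opens) (hU : IsAffineOpen U) : Function.Injective (eU E hQC U hU).hom.hom := by
  intro x y hxy
  have h := (eU E hQC U hU).hom_inv_id
  have hx := congrArg (fun ψ => ψ.hom x) h
  have hy := congrArg (fun ψ => ψ.hom y) h
  have h2 := congrArg (eU E hQC U hU).inv.hom hxy
  exact hx.symm.trans (h2.trans hy)

theorem jAff_add (U : S.Opens) (hU : IsAffineOpen U) (m m' : Γ(E, U)) :
    jAff E hQC U hU (m + m') = jAff E hQC U hU m + jAff E hQC U hU m' := by
  unfold jAff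
  rw [map_add, map_add]

theorem jAff_smul (U : S.Opens) (hU : IsAffineOpen U) (a : Γ(S, U)) (m : Γ(E, U)) :
    jAff E hQC U hU (a • m) = ((symAlg E hQC).str.app (op U)).hom a * jAff E hQC U hU m := by
  apply eU_injective E hQC U hU
  rw [map_mul, eU_jAff, eU_jAff, str_eU, map_smul, Algebra.smul_def]

theorem jAff_res (U V : S.AffineZariskiSite) (i : V ⟶ U) (m : Γ(E, U.1)) :
    ((symAlg E hQC).presheaf.map (homOfLE (Scheme.AffineZariskiSite.toOpens_mono i.le)).op).hom
      (jAff E hQC U.1 U.2 m) =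
      jAff E hQC V.1 V.2 (res E (Scheme.AffineZariskiSite.toOpens_mono i.le) m) := by
  apply eU_injective E hQC V.1 V.2
  rw [eU_res E hQC U V i, eU_jAff, eU_jAff, symRes_ι]

/-- `j` on the affine opens -/
def jRestrict : (Scheme.AffineZariskiSite.toOpensFunctor S).op ⋙ E.presheaf ⟶
    (Scheme.AffineZariskiSite.toOpensFunctor S).op ⋙ (symAlg E hQC).toAb where
  app U := AddCommGrpCat.ofHom (AddMonoidHom.mk' (jAff E hQC U.unop.1 U.unop.2) (jAff_add E hQC U.unop.1 U.unop.2))
  naturality U V i := by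
    ext m
    exact (jAff_res E hQC U.unop V.unop i.unop m).symm

/-- `j` as a map of abelian presheaves -/
def jAb : E.presheaf ⟶ (symAlg E hQC).toAb :=
  Functor.IsCoverDense.restrictHomEquivHom (G := Scheme.AffineZariskiSite.toOpensFunctor S)
    (K := Opens.grothendieckTopology S) (ℱ := E.presheaf)
    (ℱ' := (⟨(symAlg E hQC).toAb, (symAlg E hQC).isSheaf_toAb⟩ : TopCat.Sheaf AddCommGrpCat.{u} S.carrier))
    (jRestrict E hQC)

theorem jAb_restrict :
    (Scheme.AffineZariskiSite.toOpensFunctor S).op.whiskerLeft (jAb E hQC) = jRestrict E hQC :=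
  (Functor.IsCoverDense.restrictHomEquivHom (G := Scheme.AffineZariskiSite.toOpensFunctor S)
    (K := Opens.grothendieckTopology S) (ℱ := E.presheaf)
    (ℱ' := (⟨(symAlg E hQC).toAb, (symAlg E hQC).isSheaf_toAb⟩ :
      TopCat.Sheaf AddCommGrpCat.{u} S.carrier))).symm_apply_apply _

theorem jAb_app (U : S.Opens) (hU : IsAffineOpen U) (m : Γ(E, U)) :
    (jAb E hQC).app (op U) m = jAff E hQC U hU m := by
  have h := NatTrans.congr_app (jAb_restrict E hQC) (op ⟨U, hU⟩)
  exact congrArg (fun ψ => ψ.hom m) h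

theorem jAb_res {W W' : S.Opens} (h : W' ≤ W) (x : Γ(E, W)) :
    (jAb E hQC).app (op W') (res E h x) =
      res (symAlg E hQC).toModule h (show Γ((symAlg E hQC).toModule, W) from (jAb E hQC).app (op W) x) := by
  have h1 := (jAb E hQC).naturality (homOfLE h).op
  exact congrArg (fun ψ => ψ.hom x) h1

/-- the affine opens inside an open cover it -/
theorem le_iSup_affine (W : S.Opens) :
    W ≤ ⨆ i : {U : S.Opens // IsAffineOpen U ∧ U ≤ W}, i.1 := by
  intro x hx
  obtain ⟨_, ⟨U, hU, rfl⟩, hxU, hUW⟩ := S.isBasis_affineOpens.exists_subset_of_mem_open hx W.isOpen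
  exact Opens.mem_iSup.2 ⟨⟨U, hU, hUW⟩, hxU⟩

theorem jAb_smul (W : S.Opens) (a : Γ(S, W)) (x : Γ(E, W)) :
    (show Γ((symAlg E hQC).toModule, W) from (jAb E hQC).app (op W) (a • x)) =
      a • (show Γ((symAlg E hQC).toModule, W) from (jAb E hQC).app (op W) x) := by
  refine eq_of_locally_eq (symAlg E hQC).toModule (fun i : {U : S.Opens // IsAffineOpen U ∧ U ≤ W} => i.1) W
    (fun i => i.2.2) (le_iSup_affine W) _ _ (fun i => ?_)
  rw [res_smul, ← jAb_res, ← jAb_res, res_smul, jAb_app E hQC i.1 i.2.1, jAb_app E hQC i.1 i.2.1, jAff_smul]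
  rfl

/-- **the canonical map `E ⟶ Sym E`** -/
def jHom : E ⟶ (symAlg E hQC).toModule :=
  ⟨letI := (symAlg E hQC).moduleSect
   PresheafOfModules.homMk (jAb E hQC) (fun W a x => jAb_smul E hQC W.unop a x)⟩

theorem jHom_app (W : S.Opens) (x : Γ(E, W)) :
    (jHom E hQC).app W x = (jAb E hQC).app (op W) x := rfl

theorem jHom_app_affine (U : S.Opens) (hU : IsAffineOpen U) (m : Γ(E, U)) :
    (jHom E hQC).app U m = jAff E hQC U hU m := jAb_app E hQC U hU m

section univ

open Groth.Agent.Lib.Helper28.TraceAlg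

attribute [local instance] algAt

variable {E} (B : RelSpec.QCAlg S) (φ : E ⟶ B.toModule)

/-- `φ` over an open, as a linear map into the algebra of sections -/
def phiLin (U : S.Opens) : Γ(E, U) →ₗ[Γ(S, U)] (B.presheaf.obj (op U)) where
  toFun := fun m => asR B (φ.app U m)
  map_add' := fun x y => by rw [map_add]; rfl
  map_smul' := fun a x => by
    rw [Scheme.Modules.Hom.app_smul]
    rfl

/-- the algebra map on sections over an open induced by `φ` -/
def liftU (U : S.Opens) : SymmetricAlgebra Γ(S, U) Γ(E, U) →ₐ[Γ(S, U)] (B.presheaf.obj (op U)) :=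
  SymmetricAlgebra.lift (phiLin B φ U)

theorem liftU_ι (U : S.Opens) (m : Γ(E, U)) :
    liftU B φ U (SymmetricAlgebra.ι Γ(S, U) Γ(E, U) m) = asR B (φ.app U m) :=
  SymmetricAlgebra.lift_ι_apply _ m

theorem liftU_algebraMap (U : S.Opens) (a : Γ(S, U)) :
    liftU B φ U (algebraMap Γ(S, U) _ a) = (B.str.app (op U)).hom a :=
  AlgHom.commutes _ a

theorem liftU_res {U V : S.Opens} (h : V ≤ U) (z : SymmetricAlgebra Γ(S, U) Γ(E, U)) :
    liftU B φ V ((symRes E h).hom z) = (B.presheaf.map (homOfLE h).op).hom (liftU B φ U z) := by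
  have key : (liftU B φ V).toRingHom.comp (symRes E h).hom =
      (B.presheaf.map (homOfLE h).op).hom.comp (liftU B φ U).toRingHom := by
    apply ringHom_ext
    · intro a
      show liftU B φ V ((symRes E h).hom _) = (B.presheaf.map (homOfLE h).op).hom (liftU B φ U _)
      rw [symRes_algebraMap, liftU_algebraMap, liftU_algebraMap]
      have h1 := congrArg (fun ψ => ψ.hom a) (B.str.naturality (homOfLE h).op)
      exact h1
    · intro m
      show liftU B φ V ((symRes E h).hom _) = (B.presheaf.map (homOfLE h).op).hom (liftU B φ U _)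
      rw [symRes_ι, liftU_ι, liftU_ι]
      exact app_res φ h m
  exact congrArg (fun ψ => ψ z) key

end univ

section univ2

open Groth.Agent.Lib.Helper28.TraceAlg

attribute [local instance] algAt

variable {E} (B : RelSpec.QCAlg S) (φ : E ⟶ B.toModule)

/-- the algebra map over an affine open -/
def psiAff (U : S.Opens) (hU : IsAffineOpen U) : (symAlg E hQC).presheaf.obj (op U) ⟶ B.presheaf.obj (op U) :=
  (eU E hQC U hU).hom ≫ CommRingCat.ofHom (liftU B φ U).toRingHom

theorem psiAff_apply (U : S.Opens) (hU : IsAffineOpen U) (z : (symAlg E hQC).presheaf.obj (op U)) :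
    (psiAff hQC B φ U hU).hom z = liftU B φ U ((eU E hQC U hU).hom.hom z) := rfl

/-- the algebra map on the affine opens -/
def psiRestrict : (Scheme.AffineZariskiSite.toOpensFunctor S).op ⋙ (symAlg E hQC).presheaf ⟶
    (Scheme.AffineZariskiSite.toOpensFunctor S).op ⋙ B.presheaf where
  app U := psiAff hQC B φ U.unop.1 U.unop.2
  naturality U V i := by
    apply CommRingCat.hom_ext
    refine RingHom.ext fun z => ?_
    show (psiAff hQC B φ V.unop.1 V.unop.2).hom
        (((symAlg E hQC).presheaf.map (homOfLE (Scheme.AffineZariskiSite.toOpens_mono i.unop.le)).op).hom z) =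
      (B.presheaf.map (homOfLE (Scheme.AffineZariskiSite.toOpens_mono i.unop.le)).op).hom
        ((psiAff hQC B φ U.unop.1 U.unop.2).hom z)
    rw [psiAff_apply, psiAff_apply, eU_res E hQC U.unop V.unop i.unop, liftU_res]

/-- the algebra map `Sym E ⟶ B` of presheaves of rings -/
def psiMap : (symAlg E hQC).presheaf ⟶ B.presheaf :=
  Functor.IsCoverDense.restrictHomEquivHom (G := Scheme.AffineZariskiSite.toOpensFunctor S)
    (K := Opens.grothendieckTopology S) (ℱ := (symAlg E hQC).presheaf)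
    (ℱ' := (⟨B.presheaf, B.isSheaf⟩ : TopCat.Sheaf CommRingCat.{u} S.carrier)) (psiRestrict hQC B φ)

theorem psiMap_restrict :
    (Scheme.AffineZariskiSite.toOpensFunctor S).op.whiskerLeft (psiMap hQC B φ) = psiRestrict hQC B φ :=
  (Functor.IsCoverDense.restrictHomEquivHom (G := Scheme.AffineZariskiSite.toOpensFunctor S)
    (K := Opens.grothendieckTopology S) (ℱ := (symAlg E hQC).presheaf)
    (ℱ' := (⟨B.presheaf, B.isSheaf⟩ : TopCat.Sheaf CommRingCat.{u} S.carrier))).symm_apply_apply _

theorem psiMap_app (U : S.Opens) (hU : IsAffineOpen U) :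
    (psiMap hQC B φ).app (op U) = psiAff hQC B φ U hU :=
  NatTrans.congr_app (psiMap_restrict hQC B φ) (op ⟨U, hU⟩)

theorem str_psiMap : (symAlg E hQC).str ≫ psiMap hQC B φ = B.str := by
  apply (Functor.IsCoverDense.restrictHomEquivHom (G := Scheme.AffineZariskiSite.toOpensFunctor S)
    (K := Opens.grothendieckTopology S) (ℱ := S.presheaf)
    (ℱ' := (⟨B.presheaf, B.isSheaf⟩ : TopCat.Sheaf CommRingCat.{u} S.carrier))).symm.injective
  ext U : 2
  change (symAlg E hQC).str.app (op U.unop.1) ≫ (psiMap hQC B φ).app (op U.unop.1) = B.str.app (op U.unop.1)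
  rw [psiMap_app hQC B φ U.unop.1 U.unop.2]
  apply CommRingCat.hom_ext
  refine RingHom.ext fun a => ?_
  show (psiAff hQC B φ U.unop.1 U.unop.2).hom (((symAlg E hQC).str.app (op U.unop.1)).hom a) = _
  rw [psiAff_apply, str_eU, liftU_algebraMap]

/-- **the homomorphism of algebras extending `φ`** -/
def psiHom : symAlg E hQC ⟶ B := ⟨psiMap hQC B φ, str_psiMap hQC B φ⟩

end univ2

/-- morphisms of modules agreeing over the affine opens are equal -/
theorem hom_ext_affine {F G : S.Modules} (α β : F ⟶ G)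
    (h : ∀ (U : S.Opens), IsAffineOpen U → ∀ x : Γ(F, U), α.app U x = β.app U x) : α = β := by
  apply Scheme.Modules.hom_ext
  intro W
  ext x
  refine eq_of_locally_eq G (fun i : {U : S.Opens // IsAffineOpen U ∧ U ≤ W} => i.1) W
    (fun i => i.2.2) (le_iSup_affine W) _ _ (fun i => ?_)
  rw [← app_res, ← app_res]
  exact h i.1 i.2.1 _

section univ3

open Groth.Agent.Lib.Helper28.TraceAlg

attribute [local instance] algAt

variable {E} (B : RelSpec.QCAlg S) (φ : E ⟶ B.toModule)

theorem toModuleMap_app (ψ : symAlg E hQC ⟶ B) (W : S.Opens) (z : Γ((symAlg E hQC).toModule, W)) :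
    (RelSpec.QCAlg.Hom.toModuleMap ψ).app W z = (ψ.hom.app (op W)).hom z := rfl

theorem jHom_psiHom : jHom E hQC ≫ RelSpec.QCAlg.Hom.toModuleMap (psiHom hQC B φ) = φ := by
  apply hom_ext_affine
  intro U hU m
  show (RelSpec.QCAlg.Hom.toModuleMap (psiHom hQC B φ)).app U ((jHom E hQC).app U m) = φ.app U m
  rw [toModuleMap_app, jHom_app_affine E hQC U hU]
  show ((psiMap hQC B φ).app (op U)).hom (jAff E hQC U hU m) = φ.app U m
  rw [psiMap_app hQC B φ U hU, psiAff_apply, eU_jAff, liftU_ι]

theorem psiHom_unique (ψ : symAlg E hQC ⟶ B)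
    (hψ : jHom E hQC ≫ RelSpec.QCAlg.Hom.toModuleMap ψ = φ) : ψ = psiHom hQC B φ := by
  apply RelSpec.QCAlg.hom_ext
  apply (Functor.IsCoverDense.restrictHomEquivHom (G := Scheme.AffineZariskiSite.toOpensFunctor S)
    (K := Opens.grothendieckTopology S) (ℱ := (symAlg E hQC).presheaf)
    (ℱ' := (⟨B.presheaf, B.isSheaf⟩ : TopCat.Sheaf CommRingCat.{u} S.carrier))).symm.injective
  ext U : 2
  change ψ.hom.app (op U.unop.1) = (psiMap hQC B φ).app (op U.unop.1)
  rw [psiMap_app hQC B φ U.unop.1 U.unop.2]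
  have key : (ψ.hom.app (op U.unop.1)).hom.comp (eU E hQC U.unop.1 U.unop.2).inv.hom =
      (liftU B φ U.unop.1).toRingHom := by
    apply ringHom_ext
    · intro a
      show (ψ.hom.app (op U.unop.1)).hom ((eU E hQC U.unop.1 U.unop.2).inv.hom _) = liftU B φ U.unop.1 _
      rw [liftU_algebraMap, ← str_eU E hQC U.unop.1 U.unop.2 a]
      have h1 := congrArg (fun χ => χ.hom (((symAlg E hQC).str.app (op U.unop.1)).hom a))
        (eU E hQC U.unop.1 U.unop.2).hom_inv_id
      have h2 : (eU E hQC U.unop.1 U.unop.2).inv.hom ((eU E hQC U.unop.1 U.unop.2).hom.hom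
          (((symAlg E hQC).str.app (op U.unop.1)).hom a)) = ((symAlg E hQC).str.app (op U.unop.1)).hom a := h1
      rw [h2]
      have h3 := congrArg (fun χ => (χ.app (op U.unop.1)).hom a) ψ.comm
      exact h3
    · intro m
      show (ψ.hom.app (op U.unop.1)).hom (jAff E hQC U.unop.1 U.unop.2 m) = liftU B φ U.unop.1 _
      rw [liftU_ι, ← hψ]
      show _ = (RelSpec.QCAlg.Hom.toModuleMap ψ).app U.unop.1 ((jHom E hQC).app U.unop.1 m)
      rw [toModuleMap_app, jHom_app_affine E hQC U.unop.1 U.unop.2]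
  apply CommRingCat.hom_ext
  refine RingHom.ext fun z => ?_
  show (ψ.hom.app (op U.unop.1)).hom z = (psiAff hQC B φ U.unop.1 U.unop.2).hom z
  rw [psiAff_apply]
  have h1 := congrArg (fun χ => χ.hom z) (eU E hQC U.unop.1 U.unop.2).hom_inv_id
  have h2 : (eU E hQC U.unop.1 U.unop.2).inv.hom ((eU E hQC U.unop.1 U.unop.2).hom.hom z) = z := h1
  have h3 := RingHom.congr_fun key ((eU E hQC U.unop.1 U.unop.2).hom.hom z)
  have h4 : (ψ.hom.app (op U.unop.1)).hom ((eU E hQC U.unop.1 U.unop.2).inv.hom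
      ((eU E hQC U.unop.1 U.unop.2).hom.hom z)) = liftU B φ U.unop.1 ((eU E hQC U.unop.1 U.unop.2).hom.hom z) := h3
  rw [h2] at h4
  exact h4

/-- **the symmetric algebra of a quasi-coherent module** -/
theorem isSymAlg : RelSpec.IsSymAlg E (symAlg E hQC) (jHom E hQC) := by
  intro B φ
  exact ⟨psiHom hQC B φ, jHom_psiHom hQC B φ, fun ψ hψ => psiHom_unique hQC B φ ψ hψ⟩

end univ3

end Groth.Agent.Lib.Helper28.SymAlg
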