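import Groth.Agent.Lib.Helper28.DualInv

/-!
# Quotients of sums of duals of an invertible module

If finitely many global sections of `M ⊗ L` (`L` invertible) generate `M ⊗ L` at every point, then `M` is a quotient of a
finite direct sum of copies of the dual `L^∨`.
-/

set_option autoImplicit false
universe u
open CategoryTheory CategoryTheory.Limits AlgebraicGeometry Opposite TopologicalSpace
noncomputable section

namespace Groth.Agent.Lib.Helper28.HomMod

open Groth.Agent.Lib.Helper28 Groth.Agent.Lib.Helper28.QCohLoc Groth.Agent.Lib.Helper28.GenLocus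
  Groth.Agent.Lib.Helper28.TensorGen

variable {X : Scheme.{u}}

/-- the set `S` of global sections of `N` generates `N` at the point `x` -/
def GenAtBy (N : X.Modules) (S : Set Γ(N, ⊤)) (x : X) : Prop :=
  ∀ (U : X.Opens) (y : Γ(N, U)), x ∈ U → ∃ (V : X.Opens) (hV : V ≤ U), x ∈ V ∧
    res N hV y ∈ Submodule.span Γ(X, V) ((fun T : Γ(N, ⊤) => res N (le_top : V ≤ ⊤) T) '' S)

theorem GenAtBy.mono {N : X.Modules} {S S' : Set Γ(N, ⊤)} (hS : S ⊆ S') {x : X} (h : GenAtBy N S x) :
    GenAtBy N S' x := by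
  intro U y hx
  obtain ⟨V, hV, hxV, hmem⟩ := h U y hx
  exact ⟨V, hV, hxV, Submodule.span_mono (Set.image_mono hS) hmem⟩

theorem GenAtBy.of_iso {N N' : X.Modules} (ψ : N ≅ N') {S : Set Γ(N, ⊤)} {x : X} (h : GenAtBy N S x) :
    GenAtBy N' ((fun T : Γ(N, ⊤) => ψ.hom.app ⊤ T) '' S) x := by
  intro U y hx
  obtain ⟨V, hV, hxV, hmem⟩ := h U (ψ.inv.app U y) hx
  refine ⟨V, hV, hxV, ?_⟩
  have h0 : ψ.hom.app U (ψ.inv.app U y) = y := by
    have := congrArg (fun φ : N' ⟶ N' => φ.app U y) ψ.inv_hom_id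
    exact this
  have h1 : ψ.hom.app V (res N hV (ψ.inv.app U y)) = res N' hV y := by
    rw [app_res, h0]
  rw [← h1]
  have h2 := Submodule.apply_mem_span_image_of_mem_span (appLin ψ.hom V) hmem
  refine Submodule.span_mono ?_ h2
  rintro _ ⟨_, ⟨T, hT, rfl⟩, rfl⟩
  exact ⟨ψ.hom.app ⊤ T, ⟨T, hT, rfl⟩, (app_res ψ.hom le_top T).symm⟩

variable {L : X.Modules}

/-- sections of `M ⊗ L` generating at the point `pt` give morphisms `L^∨ ⟶ M` generating `M` near `pt` -/
theorem exists_mem_genRange_of_genAtBy (M : X.Modules) (hL : PicF.IsInvertible L) {k : ℕ}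
    (T : Fin k → Γ(CohB1.tensorMod M L, ⊤)) (pt : X)
    (h : GenAtBy (CohB1.tensorMod M L) (Set.range T) pt) (U : X.Opens) (x : Γ(M, U)) (hpt : pt ∈ U) :
    ∃ (V : X.Opens) (hV : V ≤ U), pt ∈ V ∧ res M hV x ∈ genRange (fun j => homOfTensorSec M hL (T j)) V := by
  obtain ⟨W, g, hptW, hg⟩ := exists_isGen L hL pt
  have hg₀ : IsGen L (U ⊓ W) (res L inf_le_right g) := hg.res inf_le_right
  obtain ⟨V, hV, hptV, hmem⟩ := h (U ⊓ W)
    (tmulSec M L (res M inf_le_left x) (res L inf_le_right g)) ⟨hpt, hptW⟩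
  refine ⟨V, hV.trans inf_le_left, hptV, ?_⟩
  have hgV : IsGen L V (res L hV (res L inf_le_right g)) := hg₀.res hV
  have hspan : Submodule.span Γ(X, V)
      ((fun T' : Γ(CohB1.tensorMod M L, ⊤) => res (CohB1.tensorMod M L) (le_top : V ≤ ⊤) T') '' Set.range T) ≤
      (genRange (fun j => homOfTensorSec M hL (T j)) V).comap (tmulEquiv M hgV).symm.toLinearMap := by
    rw [Submodule.span_le]
    rintro _ ⟨_, ⟨j, rfl⟩, rfl⟩
    show untw M hgV (res (CohB1.tensorMod M L) le_top (T j)) ∈ genRange (fun j => homOfTensorSec M hL (T j)) V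
    rw [← homOfTensorSec_app_gdual M hL (T j) hgV]
    exact app_mem_genRange (fun j => homOfTensorSec M hL (T j)) V j _
  have h3 : untw M hgV (res (CohB1.tensorMod M L) hV
      (tmulSec M L (res M inf_le_left x) (res L inf_le_right g))) ∈
      genRange (fun j => homOfTensorSec M hL (T j)) V := hspan hmem
  rw [tmulSec_res, untw_tmulSec, res_res] at h3
  exact h3

/-- **sections of `M ⊗ L` generating at every point give a locally generating family of morphisms `L^∨ ⟶ M`** -/
theorem locGen_homOfTensorSec (M : X.Modules) (hL : PicF.IsInvertible L) {k : ℕ}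
    (T : Fin k → Γ(CohB1.tensorMod M L, ⊤))
    (h : ∀ x : X, GenAtBy (CohB1.tensorMod M L) (Set.range T) x) :
    LocGen (fun j => homOfTensorSec M hL (T j)) :=
  fun U x pt hpt => exists_mem_genRange_of_genAtBy M hL T pt (h pt) U x hpt

/-- **`M` is a quotient of a finite direct sum of copies of `L^∨`** -/
theorem exists_epi_dual (M : X.Modules) (hL : PicF.IsInvertible L) {k : ℕ}
    (T : Fin k → Γ(CohB1.tensorMod M L, ⊤))
    (h : ∀ x : X, GenAtBy (CohB1.tensorMod M L) (Set.range T) x) :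
    ∃ φ : (∐ fun _ : Fin k => dual L) ⟶ M, Epi φ :=
  ⟨_, (locGen_homOfTensorSec M hL T h).epi_desc⟩

end Groth.Agent.Lib.Helper28.HomMod
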