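import Groth.Agent.Lib.Helper28.TwistGG
import Groth.Agent.Lib.Helper28.DualEpi

/-!
# Serre's theorem with finitely many sections

For `L` ample and `F` quasi-coherent of finite type, `F ⊗ L^n` is generated at every point by a finite set of global sections,
for all large `n`.
-/

set_option autoImplicit false
universe u
open CategoryTheory CategoryTheory.Limits AlgebraicGeometry Opposite TopologicalSpace
noncomputable section

namespace Groth.Agent.Lib.Helper28.GenLocus

open Groth.Agent.Lib.Helper28 Groth.Agent.Lib.Helper28.QCohLoc Groth.Agent.Lib.Helper28.TensorGen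
  Groth.Agent.Lib.Helper28.InvTensor Groth.Agent.Lib.Helper28.AmpleUnit Groth.Agent.Lib.Helper28.TwistAmple
  Groth.Agent.Lib.Helper28.FinType Groth.Agent.Lib.Helper28.HomMod

variable {X : Scheme.{u}}

/-- **generation of `G ⊗ M^K` by finitely many global sections at the points of an affine `X_s`** -/
theorem exists_genAtBy_of_affine [CompactSpace X] [QuasiSeparatedSpace X] {M : X.Modules} (hM : PicF.IsInvertible M)
    (s : Coh.structureModule X ⟶ M) (hs : IsAffineOpen (CohB1.genLocus M s)) (G : X.Modules) [G.IsQuasicoherent]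
    (hfin : Module.Finite Γ(X, CohB1.genLocus M s) Γ(G, CohB1.genLocus M s)) :
    ∃ k₀ : ℕ, ∀ K : ℕ, k₀ ≤ K → ∃ S' : Set Γ(CohB1.tensorMod G (CohB1.tensorPow M K), ⊤), S'.Finite ∧
      ∀ x : X, x ∈ CohB1.genLocus M s → GenAtBy (CohB1.tensorMod G (CohB1.tensorPow M K)) S' x := by
  classical
  obtain ⟨S, hS⟩ := Module.finite_def.1 hfin
  have h1 := fun t : Γ(G, CohB1.genLocus M s) => exists_extension_qcoh_ge hM s G t
  choose k₀ hk₀ using h1
  refine ⟨S.sup k₀, fun K hK => ?_⟩
  have hK' : ∀ t ∈ S, k₀ t ≤ K := fun t ht => (Finset.le_sup ht).trans hK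
  have h2 : ∀ t : Γ(G, CohB1.genLocus M s), ∃ t' : Γ(CohB1.tensorMod G (CohB1.tensorPow M K), ⊤), t ∈ S →
      res _ (le_top : CohB1.genLocus M s ≤ ⊤) t' =
        tmulSec G (CohB1.tensorPow M K) t (gpow M (res M le_top (secOf s)) K) := by
    intro t
    by_cases ht : t ∈ S
    · obtain ⟨t', ht'⟩ := hk₀ t K (hK' t ht)
      exact ⟨t', fun _ => ht'⟩
    · exact ⟨0, fun h => absurd h ht⟩
  choose t' ht' using h2
  refine ⟨t' '' (S : Set Γ(G, CohB1.genLocus M s)), S.finite_toSet.image _, fun x hx => ?_⟩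
  intro U y hxU
  have hσ : IsGen M (CohB1.genLocus M s) (res M le_top (secOf s)) := isGen_genLocus s
  have hγ : IsGen (CohB1.tensorPow M K) (CohB1.genLocus M s) (gpow M (res M le_top (secOf s)) K) :=
    isGen_gpow hσ K
  generalize gpow M (res M le_top (secOf s)) K = γ at hγ ht'
  obtain ⟨a, ha⟩ := (tmulSec_right_bijective G (CohB1.tensorPow M K)
    (hγ.res (inf_le_right : U ⊓ CohB1.genLocus M s ≤ _))).2 (res _ inf_le_left y)
  obtain ⟨r, hrW, hxr⟩ := hs.exists_basicOpen_le (V := U ⊓ CohB1.genLocus M s) ⟨x, ⟨hxU, hx⟩⟩ hx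
  obtain ⟨n, b, hb⟩ := (isLocOn_of_isQuasicoherent G hs).surj r (res G hrW a)
  have hunit : IsUnit (resO (X.basicOpen_le r) r) := RingedSpace.isUnit_res_basicOpen _ r
  obtain ⟨u, hu⟩ := hunit.pow n
  have hVU : X.basicOpen r ≤ U := hrW.trans inf_le_left
  refine ⟨X.basicOpen r, hVU, hxr, ?_⟩
  have e1 : res _ hVU y = tmulSec G _ (res G hrW a) (res _ (X.basicOpen_le r) γ) := by
    have := congrArg (res _ hrW) ha
    rw [tmulSec_res, res_res, res_res] at this
    exact this.symm
  have e2 : res G hrW a = ((↑u⁻¹ : Γ(X, X.basicOpen r)) • res G (X.basicOpen_le r) b : Γ(G, X.basicOpen r)) := by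
    rw [← hb, ← hu, ← mul_smul, Units.inv_mul, one_smul]
  rw [e1, e2, tmulSec_smul_left]
  apply Submodule.smul_mem
  have hbS : b ∈ Submodule.span Γ(X, CohB1.genLocus M s) (S : Set Γ(G, CohB1.genLocus M s)) := by
    rw [hS]; trivial
  refine Submodule.span_induction
    (p := fun b _ => tmulSec G (CohB1.tensorPow M K) (res G (X.basicOpen_le r) b) (res _ (X.basicOpen_le r) γ) ∈
      Submodule.span Γ(X, X.basicOpen r)
        ((fun T : Γ(CohB1.tensorMod G (CohB1.tensorPow M K), ⊤) =>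
          res _ (le_top : X.basicOpen r ≤ ⊤) T) '' (t' '' (S : Set Γ(G, CohB1.genLocus M s))))) ?_ ?_ ?_ ?_ hbS
  · intro t ht
    apply Submodule.subset_span
    refine ⟨t' t, ⟨t, ht, rfl⟩, ?_⟩
    show res _ (le_top : X.basicOpen r ≤ ⊤) (t' t) = _
    rw [← res_res _ (le_top : CohB1.genLocus M s ≤ ⊤) (X.basicOpen_le r), ht' t ht, tmulSec_res]
  · rw [res_zero, tmulSec_zero_left]
    exact Submodule.zero_mem _
  · intro b b' _ _ hb hb'
    rw [res_add, tmulSec_add_left]
    exact Submodule.add_mem _ hb hb'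
  · intro c b _ hb
    rw [res_smul, tmulSec_smul_left]
    exact Submodule.smul_mem _ _ hb

/-- **Serre's theorem with finitely many sections**: for `L` ample and `F` quasi-coherent of finite type on a quasi-compact
quasi-separated scheme, `F ⊗ L^n` is generated at every point by a finite set of global sections, for all large `n` -/
theorem exists_forall_finite_genAtBy [QuasiSeparatedSpace X] {L : X.Modules}
    (hL : CohB1.IsAmple L) (F : X.Modules) (hF : Coh.IsCoh F) :
    ∃ n₀ : ℕ, ∀ n : ℕ, n₀ ≤ n → ∃ S : Set Γ(CohB1.tensorMod F (CohB1.tensorPow L n), ⊤), S.Finite ∧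
      ∀ x : X, GenAtBy (CohB1.tensorMod F (CohB1.tensorPow L n)) S x := by
  classical
  have : F.IsQuasicoherent := hF.1
  have : SheafOfModules.IsFiniteType.{u} (R := X.ringCatSheaf) F := hF.2
  obtain ⟨hinv, hcomp, hpts⟩ := hL
  have := hcomp
  choose m s hxs haff using hpts
  obtain ⟨T, hT⟩ := finite_cover_nhds (U := fun x => (CohB1.genLocus _ (s x) : Set X))
    (fun x => (CohB1.genLocus _ (s x)).isOpen.mem_nhds (hxs x))
  have h2 : ∀ (p : X) (r : ℕ), ∃ k₀ : ℕ, ∀ K : ℕ, k₀ ≤ K →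
      ∃ S' : Set Γ(CohB1.tensorMod (CohB1.tensorMod F (CohB1.tensorPow L r))
        (CohB1.tensorPow (CohB1.tensorPow L (m p + 1)) K), ⊤), S'.Finite ∧
      ∀ x : X, x ∈ CohB1.genLocus _ (s p) →
      GenAtBy (CohB1.tensorMod (CohB1.tensorMod F (CohB1.tensorPow L r))
        (CohB1.tensorPow (CohB1.tensorPow L (m p + 1)) K)) S' x := by
    intro p r
    have htw := (IsTwist.refl F L).tensorPow r
    have := htw.isQuasicoherent hinv
    have := htw.isFiniteType hinv
    exact exists_genAtBy_of_affine (isInvertible_tensorPow hinv (m p + 1)) (s p) (haff p) _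
      (finite_of_isAffineOpen (CohB1.tensorMod F (CohB1.tensorPow L r)) (haff p))
  choose k₀ hk₀ using h2
  refine ⟨T.sup (fun p => (m p + 1) * ((Finset.range (m p + 1)).sup (k₀ p) + 1)), fun n hn => ?_⟩
  have hp : ∀ p ∈ (T : Set X), ∃ S' : Set Γ(CohB1.tensorMod F (CohB1.tensorPow L n), ⊤), S'.Finite ∧
      ∀ x : X, x ∈ CohB1.genLocus _ (s p) → GenAtBy (CohB1.tensorMod F (CohB1.tensorPow L n)) S' x := by
    intro p hpT
    have hn1 : (m p + 1) * ((Finset.range (m p + 1)).sup (k₀ p) + 1) ≤ n :=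
      (Finset.le_sup (f := fun p => (m p + 1) * ((Finset.range (m p + 1)).sup (k₀ p) + 1))
        (Finset.mem_coe.1 hpT)).trans hn
    have hK : k₀ p (n % (m p + 1)) ≤ n / (m p + 1) := by
      have h3 : k₀ p (n % (m p + 1)) ≤ (Finset.range (m p + 1)).sup (k₀ p) :=
        Finset.le_sup (f := k₀ p) (Finset.mem_range.2 (Nat.mod_lt _ (Nat.succ_pos _)))
      have h4 : (Finset.range (m p + 1)).sup (k₀ p) + 1 ≤ n / (m p + 1) := by
        rw [Nat.le_div_iff_mul_le (Nat.succ_pos _), mul_comm]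
        exact hn1
      omega
    obtain ⟨S', hS'fin, hS'⟩ := hk₀ p (n % (m p + 1)) (n / (m p + 1)) hK
    have tw1 := ((IsTwist.refl F L).tensorPow (n % (m p + 1))).tensorPowPow (m p + 1) (n / (m p + 1))
    have tw2 := (IsTwist.refl F L).tensorPow n
    have hdeg : 0 + n % (m p + 1) + (m p + 1) * (n / (m p + 1)) = 0 + n := by
      rw [zero_add, zero_add]
      exact Nat.mod_add_div n (m p + 1)
    obtain ⟨ψ, -⟩ := (tw1.congr_deg hdeg).exists_iso tw2 hinv
    exact ⟨_, hS'fin.image _, fun x hx => (hS' x hx).of_iso ψ⟩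
  choose! S' hS'fin hS' using hp
  refine ⟨⋃ p ∈ (T : Set X), S' p, T.finite_toSet.biUnion hS'fin, fun x => ?_⟩
  obtain ⟨p, hpT, hxp⟩ : ∃ p ∈ T, x ∈ CohB1.genLocus _ (s p) := by
    have : x ∈ ⋃ y ∈ T, (CohB1.genLocus _ (s y) : Set X) := by rw [hT]; trivial
    simp only [Set.mem_iUnion] at this
    obtain ⟨y, hy, hxy⟩ := this
    exact ⟨y, hy, hxy⟩
  exact (hS' p (Finset.mem_coe.2 hpT) x hxp).mono (Set.subset_biUnion_of_mem (Finset.mem_coe.2 hpT))

end Groth.Agent.Lib.Helper28.GenLocus
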