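import Mathlib

/-!
# Reducedness / nilpotents for `Proj` (helper28)
-/

set_option autoImplicit false
universe u
open CategoryTheory CategoryTheory.Limits AlgebraicGeometry Opposite TopologicalSpace
open scoped HomogeneousIdeal

namespace Groth.Agent.Lib.Helper28.ProjRed

variable {A : Type u} [CommRing A] {σ : Type u} [SetLike σ A] [AddSubgroupClass σ A]
  (𝒜 : ℕ → σ) [GradedRing 𝒜]

/-- A homogeneous localization at a relevant prime of an "essentially reduced" graded ring is
reduced. -/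
theorem redAtPrime
    (hred : ∀ x : A, x ∈ 𝒜₊ → IsNilpotent x → x = 0)
    (𝔭 : Ideal A) [𝔭.IsPrime] (hrel : ¬ 𝒜₊.toIdeal ≤ 𝔭) :
    IsReduced (HomogeneousLocalization.AtPrime 𝒜 𝔭) := by
  obtain ⟨f, hf, hf𝔭⟩ := SetLike.not_le_iff_exists.1 hrel
  constructor
  intro z hz
  obtain ⟨m, hm⟩ := hz
  rw [HomogeneousLocalization.ext_iff_val, HomogeneousLocalization.val_zero]
  have hv : z.val ^ m = 0 := by
    rw [← HomogeneousLocalization.val_pow, hm, HomogeneousLocalization.val_zero]
  rw [HomogeneousLocalization.eq_num_div_den] at hv ⊢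
  rw [Localization.mk_pow, Localization.mk_eq_mk', IsLocalization.mk'_eq_zero_iff] at hv
  obtain ⟨t, ht⟩ := hv
  rw [Localization.mk_eq_mk', IsLocalization.mk'_eq_zero_iff]
  have hnil : IsNilpotent (t.1 * f * z.num) := by
    refine ⟨m + 1, ?_⟩
    have : (t.1 * f * z.num) ^ (m + 1) = (t.1 * z.num ^ m) * (t.1 ^ m * f ^ (m + 1) * z.num) := by ring
    rw [this, ht, zero_mul]
  have hmem : t.1 * f * z.num ∈ 𝒜₊ := by
    have : t.1 * f * z.num = (t.1 * z.num) * f := by ring
    rw [this]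
    exact Ideal.mul_mem_left _ _ hf
  have h0 := hred _ hmem hnil
  refine ⟨⟨t.1 * f, ?_⟩, h0⟩
  exact Submonoid.mul_mem _ t.2 hf𝔭

set_option backward.isDefEq.respectTransparency false in
theorem projRed
    (hred : ∀ x : A, x ∈ 𝒜₊ → IsNilpotent x → x = 0) : IsReduced (Proj 𝒜) := by
  have : ∀ x : Proj 𝒜, _root_.IsReduced ((Proj 𝒜).presheaf.stalk x) := by
    intro x
    have h1 : _root_.IsReduced (HomogeneousLocalization.AtPrime 𝒜 x.asHomogeneousIdeal.toIdeal) :=
      redAtPrime 𝒜 hred _ (fun h => x.not_irrelevant_le h)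
    have e := (Proj.stalkIso 𝒜 x).commRingCatIsoToRingEquiv
    exact isReduced_of_injective e.toRingHom e.injective
  exact isReduced_of_isReduced_stalk _

/-- an element of the irrelevant ideal whose basic open is empty is nilpotent -/
theorem isNilpotent_of_basicOpen_eq_bot {a : A} (ha : a ∈ 𝒜₊)
    (h : ProjectiveSpectrum.basicOpen 𝒜 a = ⊥) : IsNilpotent a := by
  rw [← mem_nilradical, nilradical, Ideal.zero_eq_bot, (Ideal.IsHomogeneous.bot 𝒜).radical_eq]
  rw [Ideal.mem_sInf]
  rintro J ⟨hJh, -, hJp⟩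
  by_cases hirr : 𝒜₊.toIdeal ≤ J
  · exact hirr ha
  · let x : ProjectiveSpectrum 𝒜 := ⟨⟨J, hJh⟩, hJp, hirr⟩
    by_contra hxa
    have : x ∈ ProjectiveSpectrum.basicOpen 𝒜 a := hxa
    rw [h] at this
    exact this

/-- a nilpotent element has empty basic open -/
theorem basicOpen_eq_bot_of_isNilpotent {a : A} (h : IsNilpotent a) :
    ProjectiveSpectrum.basicOpen 𝒜 a = ⊥ := by
  obtain ⟨n, hn⟩ := h
  ext x
  simp only [Opens.coe_bot, Set.mem_empty_iff_false, iff_false]
  intro hx
  apply hx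
  have : a ^ n ∈ x.asHomogeneousIdeal.toIdeal := by rw [hn]; exact zero_mem _
  exact x.isPrime.mem_of_pow_mem _ this

end Groth.Agent.Lib.Helper28.ProjRed
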