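import Groth.Agent.Lib.Helper28.QCohConv
import Groth.Agent.Lib.Helper28.QCohGen
import Groth.Agent.Lib.Helper28.ModGlueHom

set_option autoImplicit false
universe u
open CategoryTheory CategoryTheory.Limits AlgebraicGeometry Opposite TopologicalSpace
noncomputable section

namespace Groth.Agent.Lib.Helper28.QCohLoc

variable {X : Scheme.{u}} (E F : X.Modules)

theorem biprod_decomp (W : X.Opens) (x : Γ(E ⊞ F, W)) :
    x = (biprod.inl : E ⟶ E ⊞ F).app W ((biprod.fst : E ⊞ F ⟶ E).app W x) +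
      (biprod.inr : F ⟶ E ⊞ F).app W ((biprod.snd : E ⊞ F ⟶ F).app W x) := by
  have h := congrArg (fun ψ : E ⊞ F ⟶ E ⊞ F => ψ.app W x) (biprod.total (X := E) (Y := F))
  exact h.symm

theorem biprod_inl_fst (W : X.Opens) (m : Γ(E, W)) :
    (biprod.fst : E ⊞ F ⟶ E).app W ((biprod.inl : E ⟶ E ⊞ F).app W m) = m := by
  have h := congrArg (fun ψ : E ⟶ E => ψ.app W m) (biprod.inl_fst (X := E) (Y := F))
  exact h

theorem biprod_inl_snd (W : X.Opens) (m : Γ(E, W)) :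
    (biprod.snd : E ⊞ F ⟶ F).app W ((biprod.inl : E ⟶ E ⊞ F).app W m) = 0 := by
  have h := congrArg (fun ψ : E ⟶ F => ψ.app W m) (biprod.inl_snd (X := E) (Y := F))
  exact h

theorem biprod_inr_fst (W : X.Opens) (m : Γ(F, W)) :
    (biprod.fst : E ⊞ F ⟶ E).app W ((biprod.inr : F ⟶ E ⊞ F).app W m) = 0 := by
  have h := congrArg (fun ψ : F ⟶ E => ψ.app W m) (biprod.inr_fst (X := E) (Y := F))
  exact h

theorem biprod_inr_snd (W : X.Opens) (m : Γ(F, W)) :
    (biprod.snd : E ⊞ F ⟶ F).app W ((biprod.inr : F ⟶ E ⊞ F).app W m) = m := by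
  have h := congrArg (fun ψ : F ⟶ F => ψ.app W m) (biprod.inr_snd (X := E) (Y := F))
  exact h

variable {E F}

theorem isLocOn_biprod {U : X.Opens} (hE : IsLocOn E U) (hF : IsLocOn F U) : IsLocOn (E ⊞ F) U where
  surj r y := by
    obtain ⟨n, m, hm⟩ := hE.surj r ((biprod.fst : E ⊞ F ⟶ E).app _ y)
    obtain ⟨n', m', hm'⟩ := hF.surj r ((biprod.snd : E ⊞ F ⟶ F).app _ y)
    refine ⟨n + n', (biprod.inl : E ⟶ E ⊞ F).app U (r ^ n' • m) + (biprod.inr : F ⟶ E ⊞ F).app U (r ^ n • m'), ?_⟩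
    have e1 : res (E ⊞ F) (X.basicOpen_le r) ((biprod.inl : E ⟶ E ⊞ F).app U (r ^ n' • m)) =
        (biprod.inl : E ⟶ E ⊞ F).app _ (resO (X.basicOpen_le r) r ^ (n + n') •
          (biprod.fst : E ⊞ F ⟶ E).app _ y) := by
      rw [← app_res, res_smul, resO_pow, ← hm, smul_smul, ← pow_add, add_comm n' n]
    have e2 : res (E ⊞ F) (X.basicOpen_le r) ((biprod.inr : F ⟶ E ⊞ F).app U (r ^ n • m')) =
        (biprod.inr : F ⟶ E ⊞ F).app _ (resO (X.basicOpen_le r) r ^ (n + n') •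
          (biprod.snd : E ⊞ F ⟶ F).app _ y) := by
      rw [← app_res, res_smul, resO_pow, ← hm', smul_smul, ← pow_add]
    have g1 := Scheme.Modules.Hom.app_smul (biprod.inl : E ⟶ E ⊞ F) (resO (X.basicOpen_le r) r ^ (n + n'))
      ((biprod.fst : E ⊞ F ⟶ E).app _ y)
    have g2 := Scheme.Modules.Hom.app_smul (biprod.inr : F ⟶ E ⊞ F) (resO (X.basicOpen_le r) r ^ (n + n'))
      ((biprod.snd : E ⊞ F ⟶ F).app _ y)
    rw [res_add, e1, e2, g1, g2, ← smul_add, ← biprod_decomp E F _ y]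
  inj r x hx := by
    have h1 : res E (X.basicOpen_le r) ((biprod.fst : E ⊞ F ⟶ E).app U x) = 0 := by
      rw [← app_res, hx, map_zero]
    have h2 : res F (X.basicOpen_le r) ((biprod.snd : E ⊞ F ⟶ F).app U x) = 0 := by
      rw [← app_res, hx, map_zero]
    obtain ⟨n, hn⟩ := hE.inj r _ h1
    obtain ⟨n', hn'⟩ := hF.inj r _ h2
    refine ⟨n + n', ?_⟩
    have e1 : r ^ (n + n') • (biprod.fst : E ⊞ F ⟶ E).app U x = 0 := by
      rw [pow_add, mul_comm, mul_smul, hn, smul_zero]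
    have e2 : r ^ (n + n') • (biprod.snd : E ⊞ F ⟶ F).app U x = 0 := by
      rw [pow_add, mul_smul, hn', smul_zero]
    have f1 : (biprod.fst : E ⊞ F ⟶ E).app U (r ^ (n + n') • x) = 0 :=
      (Scheme.Modules.Hom.app_smul _ _ _).trans e1
    have f2 : (biprod.snd : E ⊞ F ⟶ F).app U (r ^ (n + n') • x) = 0 :=
      (Scheme.Modules.Hom.app_smul _ _ _).trans e2
    have e3 := biprod_decomp E F U (r ^ (n + n') • x)
    rw [f1, f2, map_zero, map_zero, add_zero] at e3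
    exact e3

instance isQuasicoherent_biprod [E.IsQuasicoherent] [F.IsQuasicoherent] : (E ⊞ F).IsQuasicoherent :=
  isQuasicoherent_of_forall_isLocOn _ fun U =>
    isLocOn_biprod (isLocOn_of_isQuasicoherent E U.2) (isLocOn_of_isQuasicoherent F U.2)

end Groth.Agent.Lib.Helper28.QCohLoc
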