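import Groth.Agent.Lib.Helper28.SecAdd

/-!
# Finite sets of points in a scheme with an ample module lie in an affine open `X_s`

A homogeneous prime avoidance argument in terms of the loci `X_s`.
-/

set_option autoImplicit false
universe u
open CategoryTheory CategoryTheory.Limits AlgebraicGeometry Opposite TopologicalSpace
noncomputable section

namespace Groth.Agent.Lib.Helper28.GenLocus

open Groth.Agent.Lib.Helper28 Groth.Agent.Lib.Helper28.QCohLoc Groth.Agent.Lib.Helper28.TensorGen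
  Groth.Agent.Lib.Helper28.InvTensor Groth.Agent.Lib.Helper28.AmpleUnit Groth.Agent.Lib.Helper28.TwistAmple

variable {X : Scheme.{u}}

/-- global sections of the positive tensor powers of `L` -/
def Sec (L : X.Modules) := Σ n : ℕ, (Coh.structureModule X ⟶ CohB1.tensorPow L (n + 1))

/-- the locus where a homogeneous section generates -/
def Sec.loc {L : X.Modules} (F : Sec L) : X.Opens := CohB1.genLocus _ F.2

variable {L : X.Modules}

theorem exists_mul (hL : PicF.IsInvertible L) (F G : Sec L) : ∃ H : Sec L, H.loc = F.loc ⊓ G.loc := by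
  obtain ⟨n, f⟩ := F
  obtain ⟨m, g⟩ := G
  obtain ⟨ψ, -⟩ := exists_tensorPow_add_iso hL (n + 1) (m + 1) ((n + m + 1) + 1) (by ring)
  refine ⟨⟨n + m + 1, smulSec f g ≫ ψ.hom⟩, ?_⟩
  show CohB1.genLocus _ (smulSec f g ≫ ψ.hom) = CohB1.genLocus _ f ⊓ CohB1.genLocus _ g
  rw [genLocus_comp_iso _ ψ, genLocus_smulSec (isInvertible_tensorPow hL _) (isInvertible_tensorPow hL _)]

theorem exists_combine (hL : PicF.IsInvertible L) (F G : Sec L) :
    ∃ H : Sec L, H.loc ≤ F.loc ⊔ G.loc ∧ (∀ x, x ∈ F.loc → x ∉ G.loc → x ∈ H.loc) ∧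
      (∀ x, x ∉ F.loc → x ∈ G.loc → x ∈ H.loc) ∧
      (IsAffineOpen F.loc → IsAffineOpen G.loc → IsAffineOpen H.loc) := by
  obtain ⟨n, f⟩ := F
  obtain ⟨m, g⟩ := G
  obtain ⟨ψ₁, -⟩ := exists_tensorPow_tensorPow_iso hL (n + 1) (m + 1) ((n * (m + 1) + m) + 1) (by ring)
  obtain ⟨ψ₂, -⟩ := exists_tensorPow_tensorPow_iso hL (m + 1) (n + 1) ((n * (m + 1) + m) + 1) (by ring)
  have hN := isInvertible_tensorPow hL ((n * (m + 1) + m) + 1)
  have h1 : CohB1.genLocus _ (spow f (m + 1) ≫ ψ₁.hom) = CohB1.genLocus _ f := by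
    rw [genLocus_comp_iso _ ψ₁, genLocus_spow (isInvertible_tensorPow hL _) f (m + 1) (Nat.succ_pos m)]
  have h2 : CohB1.genLocus _ (spow g (n + 1) ≫ ψ₂.hom) = CohB1.genLocus _ g := by
    rw [genLocus_comp_iso _ ψ₂, genLocus_spow (isInvertible_tensorPow hL _) g (n + 1) (Nat.succ_pos n)]
  refine ⟨⟨n * (m + 1) + m, spow f (m + 1) ≫ ψ₁.hom + spow g (n + 1) ≫ ψ₂.hom⟩, ?_, ?_, ?_, ?_⟩
  · have := genLocus_add_le hN (spow f (m + 1) ≫ ψ₁.hom) (spow g (n + 1) ≫ ψ₂.hom)
    rw [h1, h2] at this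
    exact this
  · intro x hxf hxg
    have hxf' : x ∈ CohB1.genLocus _ f := hxf
    have hxg' : x ∉ CohB1.genLocus _ g := hxg
    rw [← h1] at hxf'
    rw [← h2] at hxg'
    exact mem_genLocus_add hN _ _ x hxf' hxg'
  · intro x hxf hxg
    have hxf' : x ∉ CohB1.genLocus _ f := hxf
    have hxg' : x ∈ CohB1.genLocus _ g := hxg
    rw [← h1] at hxf'
    rw [← h2] at hxg'
    exact mem_genLocus_add' hN _ _ x hxf' hxg'
  · intro hf hg
    have hf' : IsAffineOpen (CohB1.genLocus _ f) := hf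
    have hg' : IsAffineOpen (CohB1.genLocus _ g) := hg
    rw [← h1] at hf'
    rw [← h2] at hg'
    exact isAffineOpen_genLocus_add hN _ _ hf' hg'

theorem exists_prod (hL : PicF.IsInvertible L) (f : X → Sec L) (Z : Finset X) (hZ : Z.Nonempty) :
    ∃ P : Sec L, (∀ x, x ∈ P.loc ↔ ∀ z ∈ Z, x ∈ (f z).loc) ∧
      ((∀ z ∈ Z, IsAffineOpen (f z).loc) → IsAffineOpen P.loc) := by
  classical
  induction hZ using Finset.Nonempty.cons_induction with
  | singleton a =>
    refine ⟨f a, fun x => ?_, fun h => h a (Finset.mem_singleton_self a)⟩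
    simp
  | cons a s ha hs ih =>
    obtain ⟨P, hP1, hP2⟩ := ih
    obtain ⟨Q, hQ⟩ := exists_mul hL (f a) P
    refine ⟨Q, fun x => ?_, fun h => ?_⟩
    · rw [hQ]
      constructor
      · rintro ⟨h1, h2⟩ z hz
        rcases Finset.mem_cons.1 hz with rfl | hz
        · exact h1
        · exact (hP1 x).1 h2 z hz
      · intro h
        exact ⟨h a (Finset.mem_cons_self a s), (hP1 x).2 fun z hz => h z (Finset.mem_cons.2 (Or.inr hz))⟩
    · rw [hQ]
      exact isAffineOpen_genLocus_inf (isInvertible_tensorPow hL _) (f a).2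
        (hP2 fun z hz => h z (Finset.mem_cons.2 (Or.inr hz)))

/-- homogeneous prime avoidance -/
theorem exists_good_of_finset (hL : PicF.IsInvertible L) (U : X.Opens)
    (H : ∀ z ∈ U, ∃ F : Sec L, IsAffineOpen F.loc ∧ F.loc ≤ U ∧ z ∈ F.loc) :
    ∀ (n : ℕ) (Z : Finset X), Z.card = n → (∀ z ∈ Z, z ∈ U) → Z.Nonempty →
      ∃ F : Sec L, IsAffineOpen F.loc ∧ F.loc ≤ U ∧ ∀ z ∈ Z, z ∈ F.loc := by
  classical
  intro n
  induction n using Nat.strong_induction_on with
  | _ n ih =>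
    intro Z hcard hZU hne
    by_cases h1 : Z.card = 1
    · obtain ⟨z, rfl⟩ := Finset.card_eq_one.1 h1
      obtain ⟨F, hF1, hF2, hF3⟩ := H z (hZU z (Finset.mem_singleton_self z))
      exact ⟨F, hF1, hF2, fun w hw => by rw [Finset.mem_singleton.1 hw]; exact hF3⟩
    · have h2 : 2 ≤ Z.card := by
        have := Finset.card_pos.2 hne
        omega
      have hex : ∀ z : X, ∃ F : Sec L, z ∈ Z →
          (IsAffineOpen F.loc ∧ F.loc ≤ U ∧ ∀ w ∈ Z.erase z, w ∈ F.loc) := by
        intro z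
        by_cases hz : z ∈ Z
        · have hc : (Z.erase z).card = Z.card - 1 := Finset.card_erase_of_mem hz
          have hne' : (Z.erase z).Nonempty := by
            rw [← Finset.card_pos, hc]; omega
          obtain ⟨F, hF⟩ := ih (Z.card - 1) (by omega) (Z.erase z) hc
            (fun w hw => hZU w (Finset.mem_of_mem_erase hw)) hne'
          exact ⟨F, fun _ => hF⟩
        · exact ⟨⟨0, 0⟩, fun h => absurd h hz⟩
      choose F hF using hex
      by_cases h3 : ∃ z ∈ Z, z ∈ (F z).loc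
      · obtain ⟨z, hz, hzF⟩ := h3
        obtain ⟨a1, a2, a3⟩ := hF z hz
        refine ⟨F z, a1, a2, fun w hw => ?_⟩
        by_cases hwz : w = z
        · rw [hwz]; exact hzF
        · exact a3 w (Finset.mem_erase.2 ⟨hwz, hw⟩)
      · push Not at h3
        obtain ⟨z₀, hz₀⟩ := hne
        have hne₁ : (Z.erase z₀).Nonempty := by
          rw [← Finset.card_pos, Finset.card_erase_of_mem hz₀]; omega
        obtain ⟨P, hP1, hP2⟩ := exists_prod hL F (Z.erase z₀) hne₁
        obtain ⟨C, hC1, hC2, hC3, hC4⟩ := exists_combine hL P (F z₀)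
        obtain ⟨z₁, hz₁⟩ := hne₁
        have hz₁Z : z₁ ∈ Z := Finset.mem_of_mem_erase hz₁
        have hPle : P.loc ≤ (F z₁).loc := fun x hx => (hP1 x).1 hx z₁ hz₁
        have hPaff : IsAffineOpen P.loc :=
          hP2 fun z hz => (hF z (Finset.mem_of_mem_erase hz)).1
        refine ⟨C, hC4 hPaff (hF z₀ hz₀).1, ?_, fun w hw => ?_⟩
        · refine hC1.trans (sup_le (hPle.trans (hF z₁ hz₁Z).2.1) (hF z₀ hz₀).2.1)
        · by_cases hw0 : w = z₀
          · subst hw0
            refine hC2 w ((hP1 w).2 fun z hz => ?_) (h3 w hw)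
            have hzZ : z ∈ Z := Finset.mem_of_mem_erase hz
            exact (hF z hzZ).2.2 w (Finset.mem_erase.2 ⟨fun h => (Finset.mem_erase.1 hz).1 h.symm, hw⟩)
          · refine hC3 w (fun hwP => ?_) ((hF z₀ hz₀).2.2 w (Finset.mem_erase.2 ⟨hw0, hw⟩))
            exact h3 w hw ((hP1 w).1 hwP w (Finset.mem_erase.2 ⟨hw0, hw⟩))

/-- **a finite subset of an open of a scheme with an ample module lies in an affine `X_s` inside the open** -/
theorem exists_affine_genLocus_of_finite (hA : CohB1.IsAmple L) (Z : Set X) (hZ : Z.Finite) (U : X.Opens)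
    (hZU : Z ⊆ U) :
    ∃ (n : ℕ) (s : Coh.structureModule X ⟶ CohB1.tensorPow L (n + 1)),
      Z ⊆ CohB1.genLocus _ s ∧ (CohB1.genLocus _ s : Set X) ⊆ U ∧ IsAffineOpen (CohB1.genLocus _ s) := by
  classical
  have hL := hA.1
  by_cases hne : Z.Nonempty
  · have H : ∀ z ∈ U, ∃ F : Sec L, IsAffineOpen F.loc ∧ F.loc ≤ U ∧ z ∈ F.loc := by
      intro z hz
      obtain ⟨n, t, h1, h2, h3⟩ := exists_genLocus_le_of_isAmple hA U z hz
      exact ⟨⟨n, t⟩, h3, h2, h1⟩
    obtain ⟨F, hF1, hF2, hF3⟩ := exists_good_of_finset hL U H _ hZ.toFinset rfl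
      (fun z hz => hZU (hZ.mem_toFinset.1 hz)) (by
        obtain ⟨z, hz⟩ := hne
        exact ⟨z, hZ.mem_toFinset.2 hz⟩)
    exact ⟨F.1, F.2, fun z hz => hF3 z (hZ.mem_toFinset.2 hz), hF2, hF1⟩
  · rw [Set.not_nonempty_iff_eq_empty] at hne
    subst hne
    refine ⟨0, 0, Set.empty_subset _, ?_, ?_⟩
    · rw [genLocus_zero (isInvertible_tensorPow hL 1)]
      exact Set.empty_subset _
    · rw [genLocus_zero (isInvertible_tensorPow hL 1)]
      exact isAffineOpen_bot X

end Groth.Agent.Lib.Helper28.GenLocus
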