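import Mathlib.AlgebraicGeometry.ProjectiveSpectrum.Functor

set_option autoImplicit false
universe u
open CategoryTheory CategoryTheory.Limits AlgebraicGeometry Opposite TopologicalSpace
open HomogeneousLocalization
noncomputable section

namespace Groth.Agent.Lib.Helper28.ProjSect

variable {A σ : Type u} [CommRing A] [SetLike σ A] [AddSubgroupClass σ A] (𝒜 : ℕ → σ) [GradedRing 𝒜]

theorem awayι_preimage_self {n : ℕ} (hn : 0 < n) {f : A} (hf : f ∈ 𝒜 n) :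
    Proj.awayι 𝒜 f hf hn ⁻¹ᵁ Proj.basicOpen 𝒜 f = ⊤ := by
  rw [← Proj.opensRange_awayι 𝒜 f hf hn]
  exact Scheme.Hom.preimage_opensRange _

set_option backward.isDefEq.respectTransparency false in
/-- **(K)** -/
theorem awayToSection_appLE {n : ℕ} (hn : 0 < n) {f : A} (hf : f ∈ 𝒜 n) :
    Proj.awayToSection 𝒜 f ≫ (Proj.awayι 𝒜 f hf hn).appLE (Proj.basicOpen 𝒜 f) ⊤
      (by rw [awayι_preimage_self]) = (Scheme.ΓSpecIso _).inv := by
  let e := Proj.basicOpenIsoSpec 𝒜 f hf hn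
  have h1 : e.hom.appTop = (Scheme.ΓSpecIso _).hom ≫ Proj.awayToSection 𝒜 f ≫
      (Proj.basicOpen 𝒜 f).topIso.inv := Proj.basicOpenToSpec_app_top 𝒜 f
  have h2 : e.inv.appTop ≫ e.hom.appTop = 𝟙 _ := by
    rw [← Scheme.Hom.comp_appTop, e.hom_inv_id]
    rfl
  have h3 : e.hom.appTop ≫ e.inv.appTop = 𝟙 _ := by
    rw [← Scheme.Hom.comp_appTop, e.inv_hom_id]
    rfl
  have h4 : (Proj.awayι 𝒜 f hf hn).appLE (Proj.basicOpen 𝒜 f) ⊤ (by rw [awayι_preimage_self]) =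
      (Proj.basicOpen 𝒜 f).ι.appLE (Proj.basicOpen 𝒜 f) ⊤ (by simp) ≫ e.inv.appTop := by
    have : e.inv.appTop = e.inv.appLE ⊤ ⊤ le_rfl := (Scheme.Hom.appLE_eq_app e.inv).symm
    rw [this, Scheme.Hom.appLE_comp_appLE]
    rfl
  have h5 : (Proj.basicOpen 𝒜 f).ι.appLE (Proj.basicOpen 𝒜 f) ⊤ (by simp) =
      (Proj.basicOpen 𝒜 f).topIso.inv := by
    rw [Scheme.Opens.ι_appLE, Scheme.Opens.topIso_inv]
    rfl
  rw [h4, h5]
  have h6 : Proj.awayToSection 𝒜 f ≫ (Proj.basicOpen 𝒜 f).topIso.inv =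
      (Scheme.ΓSpecIso _).inv ≫ e.hom.appTop := by
    rw [h1, Iso.inv_hom_id_assoc]
  rw [← Category.assoc, h6, Category.assoc, h3, Category.comp_id]

variable {𝒜}
variable {B τ : Type u} [CommRing B] [SetLike τ B] [AddSubgroupClass τ B] {ℬ : ℕ → τ} [GradedRing ℬ]

section GL
variable {χ : Proj ℬ ⟶ Proj 𝒜} {n m : ℕ} (hn : 0 < n) (hm : 0 < m) {f : A} {g : B}
  (hf : f ∈ 𝒜 n) (hg : g ∈ ℬ m)
  (θ : CommRingCat.of (Away 𝒜 f) ⟶ CommRingCat.of (Away ℬ g))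
  (h : Proj.awayι ℬ g hg hm ≫ χ = Spec.map θ ≫ Proj.awayι 𝒜 f hf hn)

include h in
theorem basicOpen_le_preimage : Proj.basicOpen ℬ g ≤ χ ⁻¹ᵁ Proj.basicOpen 𝒜 f := by
  intro y hy
  rw [← Proj.opensRange_awayι ℬ g hg hm] at hy
  obtain ⟨z, rfl⟩ := hy
  change χ (Proj.awayι ℬ g hg hm z) ∈ Proj.basicOpen 𝒜 f
  rw [← Scheme.Hom.comp_apply, h, Scheme.Hom.comp_apply, ← Proj.opensRange_awayι 𝒜 f hf hn]
  exact ⟨_, rfl⟩

theorem appLE_congr' {X Y : Scheme.{u}} {ψ ψ' : X ⟶ Y} (e : ψ = ψ') (U : Y.Opens) (V : X.Opens)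
    (h1 : V ≤ ψ ⁻¹ᵁ U) (h2 : V ≤ ψ' ⁻¹ᵁ U) : ψ.appLE U V h1 = ψ'.appLE U V h2 := by
  subst e; rfl

set_option backward.isDefEq.respectTransparency false in
/-- **(GL)**: a morphism between `Proj`s given on a pair of standard charts by a ring map `θ` acts
on sections over these charts by `θ`. -/
theorem awayToSection_comp_appLE :
    Proj.awayToSection 𝒜 f ≫ χ.appLE (Proj.basicOpen 𝒜 f) (Proj.basicOpen ℬ g)
      (basicOpen_le_preimage hn hm hf hg θ h) = θ ≫ Proj.awayToSection ℬ g := by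
  have hKB := awayToSection_appLE ℬ hm hg
  have hKA := awayToSection_appLE 𝒜 hn hf
  have hisoB : IsIso (Proj.awayToSection ℬ g) := (Proj.basicOpenIsoAway ℬ g hg hm).isIso_hom
  have hiso : IsIso ((Proj.awayι ℬ g hg hm).appLE (Proj.basicOpen ℬ g) ⊤
      (by rw [awayι_preimage_self])) := by
    have : (Proj.awayι ℬ g hg hm).appLE (Proj.basicOpen ℬ g) ⊤ (by rw [awayι_preimage_self]) =
        inv (Proj.awayToSection ℬ g) ≫ (Scheme.ΓSpecIso _).inv := by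
      rw [← hKB, IsIso.inv_hom_id_assoc]
    rw [this]
    infer_instance
  rw [← cancel_mono ((Proj.awayι ℬ g hg hm).appLE (Proj.basicOpen ℬ g) ⊤
    (by rw [awayι_preimage_self]))]
  rw [Category.assoc, Category.assoc, hKB, Scheme.Hom.appLE_comp_appLE,
    appLE_congr' h (Proj.basicOpen 𝒜 f) ⊤ _
      (by rw [Scheme.Hom.comp_preimage, awayι_preimage_self]; exact le_rfl),
    ← Scheme.Hom.appLE_comp_appLE _ _ (Proj.basicOpen 𝒜 f) ⊤ ⊤ (by rw [awayι_preimage_self]) le_rfl,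
    ← Category.assoc, hKA]
  exact (Scheme.ΓSpecIso_inv_naturality θ).symm

end GL

end Groth.Agent.Lib.Helper28.ProjSect
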