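import Mathlib

/-!
# Points of the standard charts of `Proj` lying in another basic open (helper28)
-/

set_option autoImplicit false
universe u
open CategoryTheory CategoryTheory.Limits AlgebraicGeometry Opposite TopologicalSpace
open HomogeneousLocalization

namespace Groth.Agent.Lib.Helper28.ProjChart

variable {A : Type u} [CommRing A] {σ : Type*} [SetLike σ A] [AddSubgroupClass σ A]
  (𝒜 : ℕ → σ) [GradedRing 𝒜]

/-- the range of `Spec A_(gf) → Spec A_(g)` is the basic open of `f^e/g^d` -/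
theorem range_specMap_awayMap {e d : ℕ} {g f : A} (hg : g ∈ 𝒜 e) (hf : f ∈ 𝒜 d) (he : e ≠ 0)
    {x : A} (hx : x = g * f) :
    Set.range (Spec.map (CommRingCat.ofHom (awayMap 𝒜 hf hx))) =
      (PrimeSpectrum.basicOpen (Away.isLocalizationElem hg hf) :
        Set (PrimeSpectrum (Away 𝒜 g))) := by
  let := (awayMap 𝒜 hf hx).toAlgebra
  have := Away.isLocalization_mul hg hf hx he
  exact PrimeSpectrum.localization_away_comap_range (Away 𝒜 x) (Away.isLocalizationElem hg hf)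

set_option backward.isDefEq.respectTransparency false in
/-- **Lemma A**: `awayι g z ∈ D₊(f)` iff `z ∈ D(f^e/g^d)` -/
theorem awayι_mem_basicOpen_iff {e d : ℕ} {g f : A} (hg : g ∈ 𝒜 e) (hf : f ∈ 𝒜 d) (he : 0 < e)
    (z : Spec (CommRingCat.of (Away 𝒜 g))) :
    Proj.awayι 𝒜 g hg he z ∈ Proj.basicOpen 𝒜 f ↔
      z ∈ (PrimeSpectrum.basicOpen (Away.isLocalizationElem hg hf) :
        Set (PrimeSpectrum (Away 𝒜 g))) := by
  have hmem : g * f ∈ 𝒜 (e + d) := SetLike.mul_mem_graded hg hf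
  have hpos : 0 < e + d := Nat.add_pos_left he _
  have h0 : Proj.awayι 𝒜 g hg he z ∈ Proj.basicOpen 𝒜 g := by
    rw [← Proj.opensRange_awayι 𝒜 g hg he]
    exact ⟨z, rfl⟩
  rw [← range_specMap_awayMap 𝒜 hg hf he.ne' rfl]
  constructor
  · intro h
    have h1 : Proj.awayι 𝒜 g hg he z ∈ Proj.basicOpen 𝒜 (g * f) := by
      rw [Proj.basicOpen_mul]; exact ⟨h0, h⟩
    rw [← Proj.opensRange_awayι 𝒜 (g * f) hmem hpos] at h1
    obtain ⟨y, hy⟩ := h1
    refine ⟨y, ?_⟩
    apply (Proj.awayι 𝒜 g hg he).isOpenEmbedding.injective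
    rw [← Scheme.Hom.comp_apply, Proj.SpecMap_awayMap_awayι]
    exact hy
  · rintro ⟨y, rfl⟩
    rw [← Scheme.Hom.comp_apply, Proj.SpecMap_awayMap_awayι]
    have h1 : Proj.awayι 𝒜 (g * f) hmem hpos y ∈ Proj.basicOpen 𝒜 (g * f) := by
      rw [← Proj.opensRange_awayι 𝒜 (g * f) hmem hpos]
      exact ⟨y, rfl⟩
    rw [Proj.basicOpen_mul] at h1
    exact h1.2

end Groth.Agent.Lib.Helper28.ProjChart
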