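import Mathlib.AlgebraicGeometry.ProjectiveSpectrum.Basic
import Groth.Agent.Lib.Helper28.ProjChart

/-!
# Morphisms from affine schemes into `Proj` through a standard chart (helper28)

For a ring homomorphism `F : C → T` out of a graded ring and a homogeneous `t` of positive degree with
`F t` a unit, the morphism `Spec T ⟶ D₊(t) ⊆ Proj 𝒞`.
-/

set_option autoImplicit false
universe u
open CategoryTheory CategoryTheory.Limits AlgebraicGeometry Opposite TopologicalSpace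
open HomogeneousLocalization

noncomputable section

namespace Groth.Agent.Lib.Helper28.Segre1

variable {C : Type u} [CommRing C] {σ : Type*} [SetLike σ C] [AddSubgroupClass σ C]
  (𝒞 : ℕ → σ) [GradedRing 𝒞]
variable {T : Type u} [CommRing T] (F : C →+* T)

/-- the ring homomorphism `C_(t) → T` induced by `F : C → T` with `F t` a unit -/
def awayLift {t : C} (hu : IsUnit (F t)) : Away 𝒞 t →+* T :=
  (IsLocalization.Away.lift (S := Localization.Away t) t hu).comp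
    (algebraMap (Away 𝒞 t) (Localization.Away t))

theorem awayLift_mk {t : C} (hu : IsUnit (F t)) {d : ℕ} (ht : t ∈ 𝒞 d) (k : ℕ) (a : C)
    (ha : a ∈ 𝒞 (k • d)) :
    awayLift 𝒞 F hu (Away.mk 𝒞 ht k a ha) * F t ^ k = F a := by
  have h1 : algebraMap (Away 𝒞 t) (Localization.Away t) (Away.mk 𝒞 ht k a ha) =
      IsLocalization.mk' (Localization.Away t) a (⟨t ^ k, k, rfl⟩ : Submonoid.powers t) := by
    rw [HomogeneousLocalization.algebraMap_apply, Away.val_mk, Localization.mk_eq_mk']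
  change (IsLocalization.Away.lift (S := Localization.Away t) t hu)
    (algebraMap (Away 𝒞 t) (Localization.Away t) (Away.mk 𝒞 ht k a ha)) * F t ^ k = F a
  rw [h1]
  unfold IsLocalization.Away.lift
  have h2 := (IsLocalization.lift_mk'_spec (S := Localization.Away t) (g := F)
    (hg := fun y : Submonoid.powers t => by
      obtain ⟨n, hn⟩ := y.2
      rw [← hn, map_pow]; exact hu.pow n) a _ (⟨t ^ k, k, rfl⟩ : Submonoid.powers t)).mp rfl
  rw [h2, map_pow, mul_comm]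

/-- uniqueness of `awayLift` -/
theorem awayLift_unique {t : C} (hu : IsUnit (F t)) {d : ℕ} (ht : t ∈ 𝒞 d)
    (θ : Away 𝒞 t →+* T)
    (hθ : ∀ (k : ℕ) (a : C) (ha : a ∈ 𝒞 (k • d)), θ (Away.mk 𝒞 ht k a ha) * F t ^ k = F a) :
    θ = awayLift 𝒞 F hu := by
  ext q
  obtain ⟨k, a, ha, rfl⟩ := Away.mk_surjective 𝒞 ht q
  have h1 := hθ k a ha
  have h2 := awayLift_mk 𝒞 F hu ht k a ha
  exact (hu.pow k).mul_left_injective (h1.trans h2.symm)

theorem awayLift_comp {T' : Type u} [CommRing T'] (ψ : T →+* T') {t : C} (hu : IsUnit (F t))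
    {d : ℕ} (ht : t ∈ 𝒞 d) :
    ψ.comp (awayLift 𝒞 F hu) = awayLift 𝒞 (ψ.comp F) (hu.map ψ) := by
  apply awayLift_unique 𝒞 (ψ.comp F) (hu.map ψ) ht
  intro k a ha
  change ψ (awayLift 𝒞 F hu (Away.mk 𝒞 ht k a ha)) * ψ (F t) ^ k = ψ (F a)
  rw [← map_pow, ← map_mul, awayLift_mk]

/-- twisting `F` by powers of a unit does not change `awayLift` -/
theorem awayLift_twist (F' : C →+* T) (u : Tˣ)
    (hF : ∀ (k : ℕ) (a : C), a ∈ 𝒞 k → F' a = (u : T) ^ k * F a)
    {t : C} (hu : IsUnit (F t)) (hu' : IsUnit (F' t)) {d : ℕ} (ht : t ∈ 𝒞 d) :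
    awayLift 𝒞 F' hu' = awayLift 𝒞 F hu := by
  symm
  apply awayLift_unique 𝒞 F' hu' ht
  intro k a ha
  rw [hF _ _ ha, hF _ _ ht, mul_pow, ← pow_mul, mul_comm d k, ← smul_eq_mul k d, mul_left_comm,
    awayLift_mk]

/-- compatibility of `awayLift` with the transition maps of the standard charts -/
theorem awayLift_comp_awayMap {t t' : C} (hu : IsUnit (F t)) (hu' : IsUnit (F t')) {d d' : ℕ}
    (ht : t ∈ 𝒞 d) (ht' : t' ∈ 𝒞 d') {x : C} (hx : x = t * t') (hux : IsUnit (F x)) :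
    (awayLift 𝒞 F hux).comp (awayMap 𝒞 ht' hx) = awayLift 𝒞 F hu := by
  subst hx
  apply awayLift_unique 𝒞 F hu ht
  intro k a ha
  change awayLift 𝒞 F hux (awayMap 𝒞 ht' rfl (Away.mk 𝒞 ht k a ha)) * F t ^ k = F a
  rw [awayMap_mk]
  have h1 := awayLift_mk 𝒞 F hux (SetLike.mul_mem_graded ht ht') k (a * t' ^ k)
    (by
      rw [smul_eq_mul, mul_add]
      exact SetLike.mul_mem_graded ha (by
        have := SetLike.pow_mem_graded k ht'
        rwa [smul_eq_mul] at this))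
  apply (hu'.pow k).mul_left_injective
  change _ * F t ^ k * F t' ^ k = F a * F t' ^ k
  rw [mul_assoc, ← mul_pow, ← map_mul, h1, map_mul, map_pow]

/-- the morphism `Spec T ⟶ Proj 𝒞` through the chart `D₊(t)` -/
def chartMap {t : C} {d : ℕ} (ht : t ∈ 𝒞 d) (hd : 0 < d) (hu : IsUnit (F t)) :
    Spec (CommRingCat.of T) ⟶ Proj 𝒞 :=
  Spec.map (CommRingCat.ofHom (awayLift 𝒞 F hu)) ≫ Proj.awayι 𝒞 t ht hd

/-- independence of the chart -/
theorem chartMap_mul {t t' : C} {d d' : ℕ} (ht : t ∈ 𝒞 d) (hd : 0 < d) (ht' : t' ∈ 𝒞 d')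
    (hu : IsUnit (F t)) (hu' : IsUnit (F t')) :
    chartMap 𝒞 F ht hd hu =
      chartMap 𝒞 F (SetLike.mul_mem_graded ht ht') (Nat.add_pos_left hd d')
        (by rw [map_mul]; exact hu.mul hu') := by
  have hux : IsUnit (F (t * t')) := by rw [map_mul]; exact hu.mul hu'
  unfold chartMap
  rw [← Proj.SpecMap_awayMap_awayι (𝒜 := 𝒞) ht hd ht' rfl, ← Category.assoc, ← Spec.map_comp,
    ← CommRingCat.ofHom_comp, awayLift_comp_awayMap 𝒞 F hu hu' ht ht' rfl hux]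

theorem chartMap_congr {t t' : C} (e : t = t') {d d' : ℕ} (ht : t ∈ 𝒞 d) (hd : 0 < d)
    (ht' : t' ∈ 𝒞 d') (hd' : 0 < d') (hu : IsUnit (F t)) (hu' : IsUnit (F t')) :
    chartMap 𝒞 F ht hd hu = chartMap 𝒞 F ht' hd' hu' := by
  subst e
  rfl

theorem chartMap_eq {t t' : C} {d d' : ℕ} (ht : t ∈ 𝒞 d) (hd : 0 < d) (ht' : t' ∈ 𝒞 d')
    (hd' : 0 < d') (hu : IsUnit (F t)) (hu' : IsUnit (F t')) :
    chartMap 𝒞 F ht hd hu = chartMap 𝒞 F ht' hd' hu' := by
  rw [chartMap_mul 𝒞 F ht hd ht' hu hu', chartMap_mul 𝒞 F ht' hd' ht hu' hu]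
  exact chartMap_congr 𝒞 F (mul_comm t t') _ _ _ _ _ _

theorem chartMap_twist (F' : C →+* T) (u : Tˣ)
    (hF : ∀ (k : ℕ) (a : C), a ∈ 𝒞 k → F' a = (u : T) ^ k * F a)
    {t : C} {d : ℕ} (ht : t ∈ 𝒞 d) (hd : 0 < d) (hu : IsUnit (F t)) (hu' : IsUnit (F' t)) :
    chartMap 𝒞 F' ht hd hu' = chartMap 𝒞 F ht hd hu := by
  unfold chartMap
  rw [awayLift_twist 𝒞 F F' u hF hu hu' ht]

theorem chartMap_comp {T' : Type u} [CommRing T'] (ψ : T →+* T') {t : C} {d : ℕ} (ht : t ∈ 𝒞 d)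
    (hd : 0 < d) (hu : IsUnit (F t)) :
    Spec.map (CommRingCat.ofHom ψ) ≫ chartMap 𝒞 F ht hd hu =
      chartMap 𝒞 (ψ.comp F) ht hd (hu.map ψ) := by
  unfold chartMap
  rw [← Category.assoc, ← Spec.map_comp, ← CommRingCat.ofHom_comp, awayLift_comp 𝒞 F ψ hu ht]

set_option backward.isDefEq.respectTransparency false in
theorem chartMap_mem_basicOpen_iff {t : C} {d : ℕ} (ht : t ∈ 𝒞 d) (hd : 0 < d) (hu : IsUnit (F t))
    {s : C} {e : ℕ} (hs : s ∈ 𝒞 e) (w : Spec (CommRingCat.of T)) :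
    chartMap 𝒞 F ht hd hu w ∈ Proj.basicOpen 𝒞 s ↔ F s ∉ w.asIdeal := by
  unfold chartMap
  rw [Scheme.Hom.comp_apply, ProjChart.awayι_mem_basicOpen_iff 𝒞 ht hs hd]
  change awayLift 𝒞 F hu (Away.isLocalizationElem ht hs) ∉ w.asIdeal ↔ _
  have h1 : awayLift 𝒞 F hu (Away.isLocalizationElem ht hs) * F t ^ e = F s ^ d := by
    rw [← map_pow F s]
    exact awayLift_mk 𝒞 F hu ht e (s ^ d) _
  have hp := w.isPrime
  constructor
  · intro h hs'
    apply h
    have h2 : awayLift 𝒞 F hu (Away.isLocalizationElem ht hs) * F t ^ e ∈ w.asIdeal := by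
      rw [h1]; exact Ideal.pow_mem_of_mem _ hs' _ hd
    rcases hp.mem_or_mem h2 with h3 | h3
    · exact h3
    · exact absurd (w.asIdeal.eq_top_of_isUnit_mem h3 (hu.pow e)) hp.ne_top
  · intro h h'
    apply h
    have h2 : F s ^ d ∈ w.asIdeal := by
      rw [← h1]; exact Ideal.mul_mem_right _ _ h'
    exact hp.mem_of_pow_mem _ h2

end Groth.Agent.Lib.Helper28.Segre1
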