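import Mathlib
import Groth.Agent.Lib.Helper28.Segre1
import Groth.Agent.Lib.Helper28.ProjSect

set_option autoImplicit false
universe u
open CategoryTheory AlgebraicGeometry Opposite TopologicalSpace HomogeneousLocalization
noncomputable section

namespace Groth.Agent.Lib.Helper28.ProjUPChart

open Groth.Agent.Lib.Helper28.Segre1

variable {C : Type u} [CommRing C] {σ : Type u} [SetLike σ C] [AddSubgroupClass σ C]
  (𝒞 : ℕ → σ) [GradedRing 𝒞]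
variable {X : Scheme.{u}}

/-- the morphism `U ⟶ Proj 𝒞` through the chart `D₊(t)` defined by a ring homomorphism `C → Γ(X, U)` inverting `t` -/
def opensChart (U : X.Opens) (F : C →+* Γ(X, U)) {t : C} {d : ℕ} (ht : t ∈ 𝒞 d) (hd : 0 < d)
    (hu : IsUnit (F t)) : (U : Scheme.{u}) ⟶ Proj 𝒞 :=
  U.toSpecΓ ≫ chartMap 𝒞 F ht hd hu

theorem opensChart_congr (U : X.Opens) {F F' : C →+* Γ(X, U)} (e : F = F') {t : C} {d : ℕ} (ht : t ∈ 𝒞 d)
    (hd : 0 < d) (hu : IsUnit (F t)) (hu' : IsUnit (F' t)) :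
    opensChart 𝒞 U F ht hd hu = opensChart 𝒞 U F' ht hd hu' := by
  subst e; rfl

theorem homOfLE_opensChart {U V : X.Opens} (h : V ≤ U) (F : C →+* Γ(X, U)) {t : C} {d : ℕ} (ht : t ∈ 𝒞 d)
    (hd : 0 < d) (hu : IsUnit (F t)) :
    X.homOfLE h ≫ opensChart 𝒞 U F ht hd hu =
      opensChart 𝒞 V ((X.presheaf.map (homOfLE h).op).hom.comp F) ht hd
        (hu.map (X.presheaf.map (homOfLE h).op).hom) := by
  unfold opensChart
  rw [← Scheme.Opens.toSpecΓ_SpecMap_presheaf_map_assoc V U h]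
  congr 1
  exact chartMap_comp 𝒞 F (X.presheaf.map (homOfLE h).op).hom ht hd hu

theorem opensChart_eq (U : X.Opens) (F : C →+* Γ(X, U)) {t t' : C} {d d' : ℕ} (ht : t ∈ 𝒞 d) (hd : 0 < d)
    (ht' : t' ∈ 𝒞 d') (hd' : 0 < d') (hu : IsUnit (F t)) (hu' : IsUnit (F t')) :
    opensChart 𝒞 U F ht hd hu = opensChart 𝒞 U F ht' hd' hu' := by
  unfold opensChart
  rw [chartMap_eq 𝒞 F ht hd ht' hd' hu hu']

theorem opensChart_twist (U : X.Opens) (F F' : C →+* Γ(X, U)) (u : (Γ(X, U))ˣ)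
    (hF : ∀ (k : ℕ) (a : C), a ∈ 𝒞 k → F' a = (u : Γ(X, U)) ^ k * F a)
    {t : C} {d : ℕ} (ht : t ∈ 𝒞 d) (hd : 0 < d) (hu : IsUnit (F t)) (hu' : IsUnit (F' t)) :
    opensChart 𝒞 U F' ht hd hu' = opensChart 𝒞 U F ht hd hu := by
  unfold opensChart
  rw [chartMap_twist 𝒞 F F' u hF ht hd hu hu']

theorem opensChart_mem_basicOpen_iff (U : X.Opens) (F : C →+* Γ(X, U)) {t : C} {d : ℕ} (ht : t ∈ 𝒞 d)
    (hd : 0 < d) (hu : IsUnit (F t)) {s : C} {e : ℕ} (hs : s ∈ 𝒞 e) (y : U) :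
    opensChart 𝒞 U F ht hd hu y ∈ Proj.basicOpen 𝒞 s ↔ (y : X) ∈ X.basicOpen (F s) := by
  unfold opensChart
  rw [Scheme.Hom.comp_apply, chartMap_mem_basicOpen_iff 𝒞 F ht hd hu hs]
  have h := Scheme.Opens.toSpecΓ_preimage_basicOpen U (F s)
  have h1 : y ∈ U.toSpecΓ ⁻¹ᵁ PrimeSpectrum.basicOpen (F s) ↔ y ∈ U.ι ⁻¹ᵁ X.basicOpen (F s) := by rw [h]
  exact h1

theorem opensChart_preimage_self (U : X.Opens) (F : C →+* Γ(X, U)) {t : C} {d : ℕ} (ht : t ∈ 𝒞 d)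
    (hd : 0 < d) (hu : IsUnit (F t)) :
    opensChart 𝒞 U F ht hd hu ⁻¹ᵁ Proj.basicOpen 𝒞 t = ⊤ := by
  ext y
  refine ⟨fun _ => trivial, fun _ => ?_⟩
  show opensChart 𝒞 U F ht hd hu y ∈ Proj.basicOpen 𝒞 t
  rw [opensChart_mem_basicOpen_iff 𝒞 U F ht hd hu ht y, Scheme.basicOpen_of_isUnit _ hu]
  exact y.2

set_option backward.isDefEq.respectTransparency false in
/-- the comorphism of a chart map on the functions of `D₊(t)` -/
theorem awayToSection_opensChart_appLE (U : X.Opens) (F : C →+* Γ(X, U)) {t : C} {d : ℕ} (ht : t ∈ 𝒞 d)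
    (hd : 0 < d) (hu : IsUnit (F t)) :
    Proj.awayToSection 𝒞 t ≫ (opensChart 𝒞 U F ht hd hu).appLE (Proj.basicOpen 𝒞 t) ⊤
      (by rw [opensChart_preimage_self]) =
      CommRingCat.ofHom (awayLift 𝒞 F hu) ≫ U.topIso.inv := by
  have h1 : (opensChart 𝒞 U F ht hd hu).appLE (Proj.basicOpen 𝒞 t) ⊤ (by rw [opensChart_preimage_self]) =
      (Proj.awayι 𝒞 t ht hd).appLE (Proj.basicOpen 𝒞 t) ⊤ (by rw [ProjSect.awayι_preimage_self]) ≫
        (Spec.map (CommRingCat.ofHom (awayLift 𝒞 F hu))).appLE ⊤ ⊤ le_rfl ≫ U.toSpecΓ.appLE ⊤ ⊤ le_rfl := by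
    rw [Scheme.Hom.appLE_comp_appLE, Scheme.Hom.appLE_comp_appLE]
    rfl
  have e1 : (Spec.map (CommRingCat.ofHom (awayLift 𝒞 F hu))).appLE ⊤ ⊤ le_rfl =
      (Spec.map (CommRingCat.ofHom (awayLift 𝒞 F hu))).appTop :=
    Scheme.Hom.appLE_eq_app (Spec.map (CommRingCat.ofHom (awayLift 𝒞 F hu)))
  have e2 : U.toSpecΓ.appLE ⊤ ⊤ le_rfl = U.toSpecΓ.appTop := Scheme.Hom.appLE_eq_app U.toSpecΓ
  rw [h1, ← Category.assoc, ProjSect.awayToSection_appLE 𝒞 hd ht, e1, e2]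
  have h2 : (Scheme.ΓSpecIso (CommRingCat.of (Away 𝒞 t))).inv ≫
      (Spec.map (CommRingCat.ofHom (awayLift 𝒞 F hu))).appTop =
      CommRingCat.ofHom (awayLift 𝒞 F hu) ≫ (Scheme.ΓSpecIso _).inv :=
    (Scheme.ΓSpecIso_inv_naturality _).symm
  have h3 : U.toSpecΓ.appTop = (Scheme.ΓSpecIso Γ(X, U)).hom ≫ U.topIso.inv := Scheme.Opens.toSpecΓ_appTop U
  change (Scheme.ΓSpecIso (CommRingCat.of (Away 𝒞 t))).inv ≫
      (Spec.map (CommRingCat.ofHom (awayLift 𝒞 F hu))).appTop ≫ U.toSpecΓ.appTop = _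
  rw [reassoc_of% h2, h3]
  congr 1
  exact Iso.inv_hom_id_assoc (Scheme.ΓSpecIso Γ(X, U)) _

end Groth.Agent.Lib.Helper28.ProjUPChart
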