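import Mathlib.AlgebraicGeometry.ProjectiveSpectrum.Basic
import Mathlib.AlgebraicGeometry.Pullbacks
import Mathlib.AlgebraicGeometry.PullbackCarrier
import Groth.Agent.Lib.Helper28.Segre1

/-!
# Affine charts of a product of two homogeneous spectra over `Spec R` (helper28)
-/

set_option autoImplicit false
universe u
open CategoryTheory CategoryTheory.Limits AlgebraicGeometry Opposite TopologicalSpace
open HomogeneousLocalization TensorProduct

noncomputable section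

namespace Groth.Agent.Lib.Helper28.Segre2

variable {R A : Type u} [CommRing R] [CommRing A] [Algebra R A] (𝒜 : ℕ → Submodule R A)
  [GradedAlgebra 𝒜]

/-- the `R`-algebra structure of a degree zero localisation -/
instance (priority := low) awayAlg (f : A) : Algebra R (Away 𝒜 f) :=
  ((fromZeroRingHom 𝒜 _).comp (algebraMap R (𝒜 0))).toAlgebra

theorem algebraMap_away (f : A) (r : R) :
    algebraMap R (Away 𝒜 f) r = fromZeroRingHom 𝒜 _ (algebraMap R (𝒜 0) r) := rfl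

/-- the structure morphism of `Proj 𝒜` over `Spec R` -/
def str : Proj 𝒜 ⟶ Spec (CommRingCat.of R) :=
  Proj.toSpecZero 𝒜 ≫ Spec.map (CommRingCat.ofHom (algebraMap R (𝒜 0)))

theorem awayι_str {f : A} {d : ℕ} (hf : f ∈ 𝒜 d) (hd : 0 < d) :
    Proj.awayι 𝒜 f hf hd ≫ str 𝒜 = Spec.map (CommRingCat.ofHom (algebraMap R (Away 𝒜 f))) := by
  unfold str
  rw [← Category.assoc, Proj.awayι_toSpecZero, ← Spec.map_comp, ← CommRingCat.ofHom_comp]

/-- the transition maps of the standard charts, as `R`-algebra homomorphisms -/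
def awayMapR {f g : A} {e : ℕ} (hg : g ∈ 𝒜 e) {x : A} (hx : x = f * g) :
    Away 𝒜 f →ₐ[R] Away 𝒜 x :=
  { awayMap 𝒜 hg hx with
    commutes' := fun r => by
      change awayMap 𝒜 hg hx (fromZeroRingHom 𝒜 _ (algebraMap R (𝒜 0) r)) = _
      rw [awayMap_fromZeroRingHom]
      rfl }

theorem awayMapR_apply {f g : A} {e : ℕ} (hg : g ∈ 𝒜 e) {x : A} (hx : x = f * g)
    (q : Away 𝒜 f) : awayMapR 𝒜 hg hx q = awayMap 𝒜 hg hx q := rfl

theorem awayMapR_toRingHom {f g : A} {e : ℕ} (hg : g ∈ 𝒜 e) {x : A} (hx : x = f * g) :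
    (awayMapR 𝒜 hg hx : Away 𝒜 f →+* Away 𝒜 x) = awayMap 𝒜 hg hx := rfl

section product

variable {B : Type u} [CommRing B] [Algebra R B] (ℬ : ℕ → Submodule R B) [GradedAlgebra ℬ]

/-- the pullback square of affine schemes given by a tensor product -/
theorem isPullback_tensor (S T : Type u) [CommRing S] [CommRing T] [Algebra R S] [Algebra R T] :
    IsPullback
      (Spec.map (CommRingCat.ofHom (Algebra.TensorProduct.includeLeftRingHom : S →+* S ⊗[R] T)))
      (Spec.map (CommRingCat.ofHom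
        (Algebra.TensorProduct.includeRight (R := R) (A := S) (B := T)).toRingHom))
      (Spec.map (CommRingCat.ofHom (algebraMap R S)))
      (Spec.map (CommRingCat.ofHom (algebraMap R T))) :=
  isPullback_SpecMap_of_isPushout _ _ _ _ (CommRingCat.isPushout_tensorProduct R S T)

variable {f : A} {g : B} {d e : ℕ} (hf : f ∈ 𝒜 d) (hd : 0 < d) (hg : g ∈ ℬ e) (he : 0 < e)

/-- the chart `Spec (A_(f) ⊗ B_(g)) ⟶ Proj 𝒜 ×_R Proj ℬ` -/
def c : Spec (CommRingCat.of (Away 𝒜 f ⊗[R] Away ℬ g)) ⟶ pullback (str 𝒜) (str ℬ) :=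
  pullback.lift
    (Spec.map (CommRingCat.ofHom
      (Algebra.TensorProduct.includeLeftRingHom : Away 𝒜 f →+* Away 𝒜 f ⊗[R] Away ℬ g)) ≫
        Proj.awayι 𝒜 f hf hd)
    (Spec.map (CommRingCat.ofHom
      (Algebra.TensorProduct.includeRight (R := R) (A := Away 𝒜 f) (B := Away ℬ g)).toRingHom) ≫
        Proj.awayι ℬ g hg he)
    (by
      rw [Category.assoc, Category.assoc, awayι_str, awayι_str]
      exact (isPullback_tensor (R := R) (Away 𝒜 f) (Away ℬ g)).w)

theorem c_fst : c 𝒜 ℬ hf hd hg he ≫ pullback.fst _ _ =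
    Spec.map (CommRingCat.ofHom
      (Algebra.TensorProduct.includeLeftRingHom : Away 𝒜 f →+* Away 𝒜 f ⊗[R] Away ℬ g)) ≫
        Proj.awayι 𝒜 f hf hd := pullback.lift_fst _ _ _

theorem c_snd : c 𝒜 ℬ hf hd hg he ≫ pullback.snd _ _ =
    Spec.map (CommRingCat.ofHom
      (Algebra.TensorProduct.includeRight (R := R) (A := Away 𝒜 f) (B := Away ℬ g)).toRingHom) ≫
        Proj.awayι ℬ g hg he := pullback.lift_snd _ _ _

theorem c_eq : c 𝒜 ℬ hf hd hg he =
    (isPullback_tensor (R := R) (Away 𝒜 f) (Away ℬ g)).isoPullback.hom ≫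
      pullback.map _ _ (str 𝒜) (str ℬ) (Proj.awayι 𝒜 f hf hd) (Proj.awayι ℬ g hg he) (𝟙 _)
        (by rw [Category.comp_id, awayι_str]) (by rw [Category.comp_id, awayι_str]) := by
  apply pullback.hom_ext
  · rw [c_fst, Category.assoc, pullback.lift_fst, ← Category.assoc, IsPullback.isoPullback_hom_fst]
  · rw [c_snd, Category.assoc, pullback.lift_snd, ← Category.assoc, IsPullback.isoPullback_hom_snd]

instance : IsOpenImmersion (c 𝒜 ℬ hf hd hg he) := by
  rw [c_eq]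
  infer_instance

theorem range_c : Set.range (c 𝒜 ℬ hf hd hg he) =
    (pullback.fst (str 𝒜) (str ℬ)) ⁻¹' (Proj.basicOpen 𝒜 f : Set (Proj 𝒜)) ∩
      (pullback.snd (str 𝒜) (str ℬ)) ⁻¹' (Proj.basicOpen ℬ g : Set (Proj ℬ)) := by
  rw [c_eq, Scheme.Hom.comp_base, TopCat.coe_comp, Set.range_comp,
    Set.range_eq_univ.mpr (by
      exact (ConcreteCategory.bijective_of_isIso
        ((isPullback_tensor (R := R) (Away 𝒜 f) (Away ℬ g)).isoPullback.hom.base)).2),
    Set.image_univ, Scheme.Pullback.range_map]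
  congr 1
  · rw [← Proj.opensRange_awayι 𝒜 f hf hd]; rfl
  · rw [← Proj.opensRange_awayι ℬ g hg he]; rfl

section transition

variable {f' : A} {g' : B} {d' e' : ℕ} (hf' : f' ∈ 𝒜 d') (hg' : g' ∈ ℬ e')
  {x : A} {y : B} (hx : x = f * f') (hy : y = g * g')

/-- the transition homomorphism between the tensor charts -/
def τ : Away 𝒜 f ⊗[R] Away ℬ g →ₐ[R] Away 𝒜 x ⊗[R] Away ℬ y :=
  Algebra.TensorProduct.map (awayMapR 𝒜 hf' hx) (awayMapR ℬ hg' hy)

theorem τ_tmul (a : Away 𝒜 f) (b : Away ℬ g) :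
    τ 𝒜 ℬ hf' hg' hx hy (a ⊗ₜ b) = awayMap 𝒜 hf' hx a ⊗ₜ awayMap ℬ hg' hy b := rfl

include hf hg in
theorem τ_c {dx ex : ℕ} (hxm : x ∈ 𝒜 dx) (hdx : 0 < dx) (hym : y ∈ ℬ ex) (hex : 0 < ex) :
    Spec.map (CommRingCat.ofHom (τ 𝒜 ℬ hf' hg' hx hy).toRingHom) ≫ c 𝒜 ℬ hf hd hg he =
      c 𝒜 ℬ hxm hdx hym hex := by
  apply pullback.hom_ext
  · rw [Category.assoc, c_fst, c_fst, ← Category.assoc, ← Spec.map_comp, ← CommRingCat.ofHom_comp]
    have h1 : (τ 𝒜 ℬ hf' hg' hx hy).toRingHom.comp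
        (Algebra.TensorProduct.includeLeftRingHom : Away 𝒜 f →+* Away 𝒜 f ⊗[R] Away ℬ g) =
        (Algebra.TensorProduct.includeLeftRingHom : Away 𝒜 x →+* Away 𝒜 x ⊗[R] Away ℬ y).comp
          (awayMap 𝒜 hf' hx) := by
      ext a
      change τ 𝒜 ℬ hf' hg' hx hy (a ⊗ₜ 1) = awayMap 𝒜 hf' hx a ⊗ₜ 1
      rw [τ_tmul, map_one]
    rw [h1, CommRingCat.ofHom_comp, Spec.map_comp, Category.assoc,
      Proj.SpecMap_awayMap_awayι (𝒜 := 𝒜) hf hd hf' hx]
    rfl
  · rw [Category.assoc, c_snd, c_snd, ← Category.assoc, ← Spec.map_comp, ← CommRingCat.ofHom_comp]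
    have h1 : (τ 𝒜 ℬ hf' hg' hx hy).toRingHom.comp
        (Algebra.TensorProduct.includeRight (R := R) (A := Away 𝒜 f) (B := Away ℬ g)).toRingHom =
        (Algebra.TensorProduct.includeRight (R := R) (A := Away 𝒜 x)
          (B := Away ℬ y)).toRingHom.comp (awayMap ℬ hg' hy) := by
      ext b
      change τ 𝒜 ℬ hf' hg' hx hy (1 ⊗ₜ b) = 1 ⊗ₜ awayMap ℬ hg' hy b
      rw [τ_tmul, map_one]
    rw [h1, CommRingCat.ofHom_comp, Spec.map_comp, Category.assoc,
      Proj.SpecMap_awayMap_awayι (𝒜 := ℬ) hg he hg' hy]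
    rfl

end transition

end product

end Groth.Agent.Lib.Helper28.Segre2
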