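import Groth.Agent.Lib.Helper28.ProjUPAlg
import Groth.Agent.Lib.Helper28.ProjUPChart
import Groth.Agent.Lib.Helper28.PullbackInv2
import Groth.Agent.Lib.Helper28.AmpleSep
import Groth.Agent.Lib.Helper28.GlueLocal
import Groth.Agent.Lib.Helper28.Segre2
import Groth.Prelude.Def_ProjUP

set_option autoImplicit false
universe u
open CategoryTheory CategoryTheory.Limits AlgebraicGeometry Opposite TopologicalSpace HomogeneousLocalization
noncomputable section

namespace Groth.Agent.Lib.Helper28.ProjUPGeom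

open Groth.Agent.Lib.Helper28 Groth.Agent.Lib.Helper28.QCohLoc Groth.Agent.Lib.Helper28.GenLocus
  Groth.Agent.Lib.Helper28.ProjUPAlg Groth.Agent.Lib.Helper28.ProjUPChart

variable {A : Type u} [CommRing A] {S : Type u} [CommRing S] [Algebra A S] (𝒮 : ℕ → Submodule A S)
  [GradedAlgebra 𝒮] {M : Type u} [AddCommGroup M] [Module A M] (ι : M →ₗ[A] S) (hι : ∀ m : M, ι m ∈ 𝒮 1)
  (hsym : IsSymmetricAlgebra ι)
  {X : Scheme.{u}} (q : X ⟶ Spec (CommRingCat.of A)) (L : X.Modules)
  (v : M →+ ProjUP.Γm L) (hv : ∀ (a : A) (m : M), v (a • m) = ProjUP.toGlobal q a • v m)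

/-- the structure map `A → Γ(X, W)` -/
def ρ (W : X.Opens) : A →+* Γ(X, W) :=
  (X.presheaf.map (homOfLE (le_top : W ≤ ⊤)).op).hom.comp (ProjUP.toGlobal q)

theorem resO_ρ {W W' : X.Opens} (h : W' ≤ W) (a : A) : resO h (ρ q W a) = ρ q W' a :=
  resO_resO _ _ _

/-- the section `v m`, typed as a section over `⊤` -/
def vs (m : M) : Γ(L, ⊤) := v m

variable {L}

/-- the coefficient of `v m` with respect to a generator -/
def cf {W : X.Opens} {g : Γ(L, W)} (hg : IsGen L W g) (m : M) : Γ(X, W) :=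
  hg.coef le_rfl (res L le_top (vs L v m))

theorem cf_spec {W : X.Opens} {g : Γ(L, W)} (hg : IsGen L W g) (m : M) :
    (cf v hg m • g : Γ(L, W)) = res L le_top (vs L v m) := by
  have := hg.coef_smul le_rfl (res L le_top (vs L v m))
  rwa [res_self] at this

theorem cf_eq {W : X.Opens} {g : Γ(L, W)} (hg : IsGen L W g) (m : M) (c : Γ(X, W))
    (hc : (c • g : Γ(L, W)) = res L le_top (vs L v m)) : cf v hg m = c := by
  apply hg.coef_eq
  rw [res_self]; exact hc

theorem cf_add {W : X.Opens} {g : Γ(L, W)} (hg : IsGen L W g) (m m' : M) :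
    cf v hg (m + m') = cf v hg m + cf v hg m' := by
  apply cf_eq
  rw [add_smul, cf_spec, cf_spec]
  show _ = res L le_top (v (m + m'))
  rw [map_add]
  exact (map_add _ _ _).symm

include hv in
theorem cf_smul {W : X.Opens} {g : Γ(L, W)} (hg : IsGen L W g) (a : A) (m : M) :
    cf v hg (a • m) = ρ q W a * cf v hg m := by
  apply cf_eq
  rw [mul_smul, cf_spec]
  show _ = res L le_top (v (a • m))
  rw [hv]
  exact (res_smul L le_top _ _).symm

theorem cf_res {W W' : X.Opens} (h : W' ≤ W) {g : Γ(L, W)} (hg : IsGen L W g) (m : M) :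
    cf v (hg.res h) m = resO h (cf v hg m) := by
  apply cf_eq
  rw [← res_smul, cf_spec, res_res]

/-- the coefficient map as an additive map -/
def cfHom {W : X.Opens} {g : Γ(L, W)} (hg : IsGen L W g) : M →+ Γ(X, W) where
  toFun := cf v hg
  map_zero' := by
    have := cf_add v hg 0 0
    rw [add_zero] at this
    exact left_eq_add.1 this
  map_add' := cf_add v hg

include hsym hv in
theorem existsUnique_ev {W : X.Opens} {g : Γ(L, W)} (hg : IsGen L W g) :
    ∃! φ : S →+* Γ(X, W), (∀ m, φ (ι m) = cf v hg m) ∧ (∀ a, φ (algebraMap A S a) = ρ q W a) :=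
  existsUnique_ringHom ι hsym (ρ q W) (cfHom v hg) (cf_smul q v hv hg)

/-- the evaluation homomorphism `S → Γ(X, W)`, `ι m ↦ v m / g` -/
def ev {W : X.Opens} {g : Γ(L, W)} (hg : IsGen L W g) : S →+* Γ(X, W) :=
  (existsUnique_ev ι hsym q v hv hg).exists.choose

theorem ev_ι {W : X.Opens} {g : Γ(L, W)} (hg : IsGen L W g) (m : M) :
    ev ι hsym q v hv hg (ι m) = cf v hg m :=
  (existsUnique_ev ι hsym q v hv hg).exists.choose_spec.1 m

theorem ev_algebraMap {W : X.Opens} {g : Γ(L, W)} (hg : IsGen L W g) (a : A) :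
    ev ι hsym q v hv hg (algebraMap A S a) = ρ q W a :=
  (existsUnique_ev ι hsym q v hv hg).exists.choose_spec.2 a

theorem ev_unique {W : X.Opens} {g : Γ(L, W)} (hg : IsGen L W g) (φ : S →+* Γ(X, W))
    (h1 : ∀ m, φ (ι m) = cf v hg m) (h2 : ∀ a, φ (algebraMap A S a) = ρ q W a) :
    φ = ev ι hsym q v hv hg :=
  (existsUnique_ev ι hsym q v hv hg).unique ⟨h1, h2⟩ ⟨ev_ι ι hsym q v hv hg, ev_algebraMap ι hsym q v hv hg⟩

theorem ev_res {W W' : X.Opens} (h : W' ≤ W) {g : Γ(L, W)} (hg : IsGen L W g) :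
    (X.presheaf.map (homOfLE h).op).hom.comp (ev ι hsym q v hv hg) = ev ι hsym q v hv (hg.res h) := by
  apply ev_unique
  · intro m
    show resO h (ev ι hsym q v hv hg (ι m)) = _
    rw [ev_ι, cf_res]
  · intro a
    show resO h (ev ι hsym q v hv hg (algebraMap A S a)) = _
    rw [ev_algebraMap, resO_ρ]

include hι in
theorem ev_twist {W : X.Opens} {g g' : Γ(L, W)} (hg : IsGen L W g) (hg' : IsGen L W g') (k : ℕ) (a : S)
    (ha : a ∈ 𝒮 k) :
    ev ι hsym q v hv hg' a = (hg'.coef le_rfl g) ^ k * ev ι hsym q v hv hg a := by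
  refine ringHom_twist 𝒮 ι hι hsym (ρ q W) _ _ (ev_algebraMap ι hsym q v hv hg)
    (ev_algebraMap ι hsym q v hv hg') _ (fun m => ?_) k a ha
  rw [ev_ι, ev_ι]
  apply cf_eq
  have h1 : (hg'.coef le_rfl g • g' : Γ(L, W)) = g := by
    have := hg'.coef_smul le_rfl g
    rwa [res_self] at this
  rw [mul_comm, mul_smul, h1, cf_spec]

/-- the open where `v m` generates `L` -/
def UU (m : M) : X.Opens := CohB1.genLocus L (TwistGen.ofSection L (vs L v m))

/-- `v m` restricted to `UU m` -/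
def γ (m : M) : Γ(L, UU v m) := res L le_top (vs L v m)

theorem isGen_γ (m : M) : IsGen L (UU v m) (γ v m) := by
  have := isGen_genLocus (TwistGen.ofSection L (vs L v m))
  rwa [secOf_ofSection] at this

/-- the chart ring homomorphism -/
def FF (m : M) : S →+* Γ(X, UU v m) := ev ι hsym q v hv (isGen_γ v m)

theorem FF_self (m : M) : FF ι hsym q v hv m (ι m) = 1 := by
  unfold FF
  rw [ev_ι]
  apply cf_eq
  rw [one_smul]
  rfl

theorem isUnit_FF_self (m : M) : IsUnit (FF ι hsym q v hv m (ι m)) := by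
  rw [FF_self]; exact isUnit_one

/-- the chart morphism `UU m ⟶ Proj 𝒮` -/
def chart (m : M) : ((UU v m : X.Opens) : Scheme.{u}) ⟶ Proj 𝒮 :=
  opensChart 𝒮 (UU v m) (FF ι hsym q v hv m) (hι m) one_pos (isUnit_FF_self ι hsym q v hv m)

theorem isUnit_coef_of_isGen {W : X.Opens} {g g' : Γ(L, W)} (hg : IsGen L W g) (hg' : IsGen L W g') :
    IsUnit (hg'.coef le_rfl g) := by
  refine IsUnit.of_mul_eq_one (hg.coef le_rfl g') ?_
  apply (hg W le_rfl).1
  show ((hg'.coef le_rfl g * hg.coef le_rfl g') • res L le_rfl g : Γ(L, W)) = ((1 : Γ(X, W)) • res L le_rfl g : Γ(L, W))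
  have h1 : (hg.coef le_rfl g' • g : Γ(L, W)) = g' := by
    have := hg.coef_smul le_rfl g'
    rwa [res_self] at this
  have h2 : (hg'.coef le_rfl g • g' : Γ(L, W)) = g := by
    have := hg'.coef_smul le_rfl g
    rwa [res_self] at this
  rw [res_self, mul_smul, h1, h2, one_smul]

theorem chart_overlap (m m' : M) :
    X.homOfLE (inf_le_left : UU v m ⊓ UU v m' ≤ UU v m) ≫ chart 𝒮 ι hι hsym q v hv m =
      X.homOfLE (inf_le_right : UU v m ⊓ UU v m' ≤ UU v m') ≫ chart 𝒮 ι hι hsym q v hv m' := by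
  unfold chart
  rw [homOfLE_opensChart, homOfLE_opensChart]
  have hg := (isGen_γ v m).res (inf_le_left : UU v m ⊓ UU v m' ≤ UU v m)
  have hg' := (isGen_γ v m').res (inf_le_right : UU v m ⊓ UU v m' ≤ UU v m')
  have e1 : (X.presheaf.map (homOfLE (inf_le_left : UU v m ⊓ UU v m' ≤ UU v m)).op).hom.comp
      (FF ι hsym q v hv m) = ev ι hsym q v hv hg := ev_res ι hsym q v hv _ _
  have e2 : (X.presheaf.map (homOfLE (inf_le_right : UU v m ⊓ UU v m' ≤ UU v m')).op).hom.comp
      (FF ι hsym q v hv m') = ev ι hsym q v hv hg' := ev_res ι hsym q v hv _ _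
  -- units
  have hu1 : IsUnit (ev ι hsym q v hv hg (ι m)) := by
    rw [← e1]
    exact (isUnit_FF_self ι hsym q v hv m).map (X.presheaf.map (homOfLE (inf_le_left : UU v m ⊓ UU v m' ≤ UU v m)).op).hom
  have hu2 : IsUnit (ev ι hsym q v hv hg' (ι m')) := by
    rw [← e2]
    exact (isUnit_FF_self ι hsym q v hv m').map (X.presheaf.map (homOfLE (inf_le_right : UU v m ⊓ UU v m' ≤ UU v m')).op).hom
  have hu3 : IsUnit (ev ι hsym q v hv hg (ι m')) := by
    rw [ev_ι]
    have h1 : cf v hg m' = hg.coef le_rfl (res L inf_le_right (γ v m')) := by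
      apply cf_eq
      have := hg.coef_smul le_rfl (res L inf_le_right (γ v m'))
      rw [res_self] at this
      rw [this]
      exact res_res L _ _ _
    rw [h1]
    exact isUnit_coef_of_isGen hg' hg
  rw [opensChart_congr 𝒮 _ e1 (hι m) one_pos _ hu1, opensChart_congr 𝒮 _ e2 (hι m') one_pos _ hu2]
  obtain ⟨u, hu⟩ := isUnit_coef_of_isGen hg hg'
  rw [opensChart_eq 𝒮 _ (ev ι hsym q v hv hg) (hι m) one_pos (hι m') one_pos hu1 hu3]
  refine (opensChart_twist 𝒮 _ (ev ι hsym q v hv hg) (ev ι hsym q v hv hg') u (fun k a ha => ?_) (hι m') one_pos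
    hu3 hu2).symm
  rw [hu]
  exact ev_twist 𝒮 ι hι hsym q v hv hg hg' k a ha

end Groth.Agent.Lib.Helper28.ProjUPGeom
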