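import Groth.Agent.Lib.Helper28.RelChartHom

/-!
# Morphisms between modules on a relative Proj given through charts: existence and uniqueness
-/

set_option autoImplicit false
universe u
open CategoryTheory CategoryTheory.Limits AlgebraicGeometry Opposite TopologicalSpace

namespace Groth.Agent.Lib.Helper28.RelProjQC

open Groth.Agent.Lib.Helper28 Groth.Agent.Lib.Helper28.QCohLoc

variable {Y P : Scheme.{u}} {𝒮 : RelProj.QCGrAlg Y} (p : P ⟶ Y)
    (chart : ∀ (U : Y.Opens) (hU : IsAffineOpen U), (((p ⁻¹ᵁ U : P.Opens) : Scheme.{u}) ≅ Proj (𝒮.deg U hU)))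

section general

variable (F F' : P.Modules)
  (N' : ∀ (U : Y.Opens) (hU : IsAffineOpen U), (Proj (𝒮.deg U hU)).Modules)
  (μ : ∀ (U : Y.Opens) (hU : IsAffineOpen U),
    F ⟶ (Scheme.Modules.pushforward (RelProj.emb p chart U hU)).obj (N' U hU))
  (lam' : ∀ (U : Y.Opens) (hU : IsAffineOpen U),
    F' ⟶ (Scheme.Modules.pushforward (RelProj.emb p chart U hU)).obj (N' U hU))
  (hlam' : ∀ (U : Y.Opens) (hU : IsAffineOpen U) (W : P.Opens), W ≤ p ⁻¹ᵁ U →
    Function.Bijective ((lam' U hU).app W))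
  (hbasic : ∀ (U : Y.Opens) (hU : IsAffineOpen U) (r : Γ(Y, U)) (W : P.Opens)
    (_ : W ≤ p ⁻¹ᵁ (Y.basicOpen r)) (s : Γ(F, W)) (s' : Γ(F', W)),
    (μ U hU).app W s = (lam' U hU).app W s' →
      (μ (Y.basicOpen r) (hU.basicOpen r)).app W s = (lam' (Y.basicOpen r) (hU.basicOpen r)).app W s')

include hlam' hbasic in
/-- chartwise given maps, compatible with passage to basic opens, glue to a unique morphism -/
theorem existsUnique_hom_of_charts : ∃! ut : F ⟶ F', ∀ (U : Y.Opens) (hU : IsAffineOpen U), ut ≫ lam' U hU = μ U hU := by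
  refine ⟨(chartHomData p F F' _ μ lam' hlam' hbasic).hom, fun U hU => ?_, fun ψ hψ => ?_⟩
  · refine hom_ext_pushforward (RelProj.emb p chart U hU) (p ⁻¹ᵁ U) (opensRange_emb p chart U hU).le _ _
      fun W hW x => ?_
    exact lam'_chartHom_app p F F' _ μ lam' hlam' hbasic U hU W hW x
  · refine chartHom_unique p F F' _ μ lam' hlam' _ _ (fun U hU W hW x => ?_)
      (fun U hU W hW x => lam'_chartHom_app p F F' _ μ lam' hlam' hbasic U hU W hW x)
    have := congrArg (fun φ => Scheme.Modules.Hom.app φ W x) (hψ U hU)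
    exact this

end general

section relTilde

variable {p chart}
variable (hP : RelProj.IsRelProj 𝒮 p chart)

include hP in
theorem emb_basic_apply (U : Y.Opens) (hU : IsAffineOpen U) (r : Γ(Y, U))
    (y : Proj (𝒮.deg (Y.basicOpen r) (hU.basicOpen r))) :
    (RelProj.emb p chart (Y.basicOpen r) (hU.basicOpen r)).base y =
      (RelProj.emb p chart U hU).base (ProjectiveSpectrum.comap
        (𝒮.res hU (hU.basicOpen r) (Y.basicOpen_le r)) (𝒮.irrelevant_le_map U hU r) y) := by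
  rw [← RelProj.map_res_emb hP U hU r]
  rfl

variable (ℳ : RelProj.GrModule 𝒮) (n : ℤ) (F F' : P.Modules)
  (lam : ∀ (U : Y.Opens) (hU : IsAffineOpen U),
    F ⟶ (Scheme.Modules.pushforward (RelProj.emb p chart U hU)).obj (GrMod.tilde (𝒮.deg U hU) (ℳ.deg U hU) n))
  (lam' : ∀ (U : Y.Opens) (hU : IsAffineOpen U),
    F' ⟶ (Scheme.Modules.pushforward (RelProj.emb p chart U hU)).obj (GrMod.tilde (𝒮.deg U hU) (ℳ.deg U hU) n))

include hP in
/-- the identifications of two realisations of `(ℳ(n))~` correspond over basic opens as soon as they do over `U` -/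
theorem hbasic_id (hF : RelProj.IsRelTilde 𝒮 p chart ℳ n F lam) (hF' : RelProj.IsRelTilde 𝒮 p chart ℳ n F' lam')
    (U : Y.Opens) (hU : IsAffineOpen U) (r : Γ(Y, U)) (W : P.Opens)
    (_ : W ≤ p ⁻¹ᵁ (Y.basicOpen r)) (s : Γ(F, W)) (s' : Γ(F', W))
    (h : (lam U hU).app W s = (lam' U hU).app W s') :
    (lam (Y.basicOpen r) (hU.basicOpen r)).app W s = (lam' (Y.basicOpen r) (hU.basicOpen r)).app W s' := by
  refine GrModQC.ext_val (𝒮.deg (Y.basicOpen r) (hU.basicOpen r)) (ℳ.deg (Y.basicOpen r) (hU.basicOpen r))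
    (V := (RelProj.emb p chart (Y.basicOpen r) (hU.basicOpen r)) ⁻¹ᵁ W) _ _ fun y => ?_
  have hy : (RelProj.emb p chart (Y.basicOpen r) (hU.basicOpen r)).base y.1 ∈ W := y.2
  have hy' : (RelProj.emb p chart U hU).base (ProjectiveSpectrum.comap
      (𝒮.res hU (hU.basicOpen r) (Y.basicOpen_le r)) (𝒮.irrelevant_le_map U hU r) y.1) ∈ W := by
    rw [← emb_basic_apply hP]; exact hy
  have c1 := hF.compat U hU r W s y.1 hy hy'
  have c2 := hF'.compat U hU r W s' y.1 hy hy'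
  rw [h] at c1
  exact c1.trans c2.symm

end relTilde

section relTildeMap

variable {p chart}
variable (hP : RelProj.IsRelProj 𝒮 p chart)
variable (ℳ 𝒩 : RelProj.GrModule 𝒮) (u : ℳ.mod ⟶ 𝒩.mod) (hu : RelProj.IsGrModHom u) (n : ℤ)

/-- the map of sections over an affine open, as a linear map -/
noncomputable abbrev uAt (U : Y.Opens) : ℳ.mod.val.obj (op U) →ₗ[𝒮.presheaf.obj (op U)] 𝒩.mod.val.obj (op U) :=
  (u.val.app (op U)).hom

theorem uAt_res {U V : Y.Opens} (hU : IsAffineOpen U) (hV : IsAffineOpen V) (i : V ≤ U) (m : ℳ.mod.val.obj (op U)) :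
    uAt ℳ 𝒩 u V (ℳ.res hU hV i m) = 𝒩.res hU hV i (uAt ℳ 𝒩 u U m) :=
  PresheafOfModules.naturality_apply u.val (homOfLE i).op m

/-- the maps of localized modules induced by `u` commute with those induced by restriction -/
theorem locMap_locModMap (U : Y.Opens) (hU : IsAffineOpen U) (r : Γ(Y, U))
    (y : ProjectiveSpectrum (𝒮.deg (Y.basicOpen r) (hU.basicOpen r)))
    (q : GrMod.LocMod (𝒮.deg U hU) (M := ℳ.mod.val.obj (op U)) (ProjectiveSpectrum.comap
      (𝒮.res hU (hU.basicOpen r) (Y.basicOpen_le r)) (𝒮.irrelevant_le_map U hU r) y)) :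
    GrMod.locMap (uAt ℳ 𝒩 u (Y.basicOpen r)) y
        (GrMod.locModMap (𝒮.res hU (hU.basicOpen r) (Y.basicOpen_le r)) (𝒮.irrelevant_le_map U hU r)
          (ℳ.res hU (hU.basicOpen r) (Y.basicOpen_le r)) y q) =
      GrMod.locModMap (𝒮.res hU (hU.basicOpen r) (Y.basicOpen_le r)) (𝒮.irrelevant_le_map U hU r)
        (𝒩.res hU (hU.basicOpen r) (Y.basicOpen_le r)) y (GrMod.locMap (uAt ℳ 𝒩 u U) _ q) := by
  induction q using LocalizedModule.induction_on with
  | h m t =>
    rw [GrMod.locModMap_mk, GrMod.locMap_mk, GrMod.locMap_mk, GrMod.locModMap_mk, uAt_res]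

variable (F G : P.Modules)
  (lam : ∀ (U : Y.Opens) (hU : IsAffineOpen U),
    F ⟶ (Scheme.Modules.pushforward (RelProj.emb p chart U hU)).obj (GrMod.tilde (𝒮.deg U hU) (ℳ.deg U hU) n))
  (lam' : ∀ (U : Y.Opens) (hU : IsAffineOpen U),
    G ⟶ (Scheme.Modules.pushforward (RelProj.emb p chart U hU)).obj (GrMod.tilde (𝒮.deg U hU) (𝒩.deg U hU) n))

include hP in
theorem hbasic_map (hF : RelProj.IsRelTilde 𝒮 p chart ℳ n F lam) (hG : RelProj.IsRelTilde 𝒮 p chart 𝒩 n G lam')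
    (U : Y.Opens) (hU : IsAffineOpen U) (r : Γ(Y, U)) (W : P.Opens)
    (_ : W ≤ p ⁻¹ᵁ (Y.basicOpen r)) (s : Γ(F, W)) (s' : Γ(G, W))
    (h : (lam U hU ≫ (Scheme.Modules.pushforward (RelProj.emb p chart U hU)).map
        (GrMod.map (𝒮.deg U hU) (uAt ℳ 𝒩 u U) (hu U hU) n)).app W s = (lam' U hU).app W s') :
    (lam (Y.basicOpen r) (hU.basicOpen r) ≫
        (Scheme.Modules.pushforward (RelProj.emb p chart (Y.basicOpen r) (hU.basicOpen r))).map
          (GrMod.map (𝒮.deg (Y.basicOpen r) (hU.basicOpen r)) (uAt ℳ 𝒩 u (Y.basicOpen r))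
            (hu (Y.basicOpen r) (hU.basicOpen r)) n)).app W s =
      (lam' (Y.basicOpen r) (hU.basicOpen r)).app W s' := by
  refine GrModQC.ext_val (𝒮.deg (Y.basicOpen r) (hU.basicOpen r)) (𝒩.deg (Y.basicOpen r) (hU.basicOpen r))
    (V := (RelProj.emb p chart (Y.basicOpen r) (hU.basicOpen r)) ⁻¹ᵁ W) _ _ fun y => ?_
  have hy : (RelProj.emb p chart (Y.basicOpen r) (hU.basicOpen r)).base y.1 ∈ W := y.2
  have hy' : (RelProj.emb p chart U hU).base (ProjectiveSpectrum.comap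
      (𝒮.res hU (hU.basicOpen r) (Y.basicOpen_le r)) (𝒮.irrelevant_le_map U hU r) y.1) ∈ W := by
    rw [← emb_basic_apply hP]; exact hy
  have c1 := hF.compat U hU r W s y.1 hy hy'
  have c2 := hG.compat U hU r W s' y.1 hy hy'
  rw [← h] at c2
  refine Eq.trans ?_ c2.symm
  have e1 : GrModQC.val (𝒮.deg (Y.basicOpen r) (hU.basicOpen r)) (𝒩.deg (Y.basicOpen r) (hU.basicOpen r))
      ((lam (Y.basicOpen r) (hU.basicOpen r) ≫
        (Scheme.Modules.pushforward (RelProj.emb p chart (Y.basicOpen r) (hU.basicOpen r))).map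
          (GrMod.map (𝒮.deg (Y.basicOpen r) (hU.basicOpen r)) (uAt ℳ 𝒩 u (Y.basicOpen r))
            (hu (Y.basicOpen r) (hU.basicOpen r)) n)).app W s) y =
      GrMod.locMap (uAt ℳ 𝒩 u (Y.basicOpen r)) y.1
        (GrMod.val (V := RelProj.emb p chart (Y.basicOpen r) (hU.basicOpen r) ⁻¹ᵁ W)
          ((lam (Y.basicOpen r) (hU.basicOpen r)).app W s) ⟨y.1, hy⟩) := rfl
  rw [e1, c1, locMap_locModMap]
  rfl

end relTildeMap

end Groth.Agent.Lib.Helper28.RelProjQC
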