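import Groth.Agent.Lib.Helper28.QCohPush
import Groth.Agent.Lib.Helper28.QCohGen

/-!
# Quasi-coherence through charts

A module `L` on `P` which, over the images of open immersions `e i : Q i ⟶ P`, is identified (bijectively on
sections) with direct images of quasi-coherent modules `N i` on the `Q i`, is quasi-coherent.
-/

universe u
open CategoryTheory CategoryTheory.Limits AlgebraicGeometry Opposite TopologicalSpace

namespace Groth.Agent.Lib.Helper28.QCohLoc

variable {P Q : Scheme.{u}} (e : Q ⟶ P) (L : P.Modules) (N : Q.Modules)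
  (lam : L ⟶ (Scheme.Modules.pushforward e).obj N)

theorem lam_res {U V : P.Opens} (h : V ≤ U) (y : Γ(L, U)) :
    lam.app V (res L h y) = res N (e.preimage_mono h) (lam.app U y) :=
  app_res lam h y

theorem lam_smul (U : P.Opens) (a : Γ(P, U)) (y : Γ(L, U)) :
    lam.app U (a • y) = ((e.app U a) • (show Γ(N, e ⁻¹ᵁ U) from lam.app U y) : Γ(N, e ⁻¹ᵁ U)) :=
  Scheme.Modules.Hom.app_smul lam a y

theorem isLocOn_of_bijective (W : P.Opens)
    (hbij : ∀ W' : P.Opens, W' ≤ W → Function.Bijective (lam.app W'))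
    (hN : IsLocOn N (e ⁻¹ᵁ W)) : IsLocOn L W := by
  refine ⟨fun r y => ?_, fun r x hx => ?_⟩
  · have eo : e ⁻¹ᵁ (P.basicOpen r) = Q.basicOpen (e.app W r) := Scheme.preimage_basicOpen e r
    have hle : e ⁻¹ᵁ (P.basicOpen r) ≤ e ⁻¹ᵁ W := e.preimage_mono (P.basicOpen_le r)
    have key : ∀ (V : Q.Opens) (eV : V = Q.basicOpen (e.app W r)) (hV : V ≤ e ⁻¹ᵁ W) (y' : Γ(N, V)),
        ∃ (k : ℕ) (x' : Γ(N, e ⁻¹ᵁ W)), ((resO hV (e.app W r)) ^ k • y' : Γ(N, V)) = res N hV x' := by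
      intro V eV hV y'
      subst eV
      exact hN.surj (e.app W r) y'
    obtain ⟨k, x', hx'⟩ := key _ eo hle (lam.app (P.basicOpen r) y)
    obtain ⟨x, rfl⟩ := (hbij W le_rfl).surjective x'
    refine ⟨k, x, ?_⟩
    apply (hbij (P.basicOpen r) (P.basicOpen_le r)).injective
    rw [lam_res, lam_smul, map_pow, app_resO]
    exact hx'
  · have eo : e ⁻¹ᵁ (P.basicOpen r) = Q.basicOpen (e.app W r) := Scheme.preimage_basicOpen e r
    have hle : e ⁻¹ᵁ (P.basicOpen r) ≤ e ⁻¹ᵁ W := e.preimage_mono (P.basicOpen_le r)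
    have key : ∀ (V : Q.Opens) (eV : V = Q.basicOpen (e.app W r)) (hV : V ≤ e ⁻¹ᵁ W) (x' : Γ(N, e ⁻¹ᵁ W)),
        res N hV x' = 0 → ∃ (k : ℕ), ((e.app W r) ^ k • x' : Γ(N, e ⁻¹ᵁ W)) = 0 := by
      intro V eV hV x' h0
      subst eV
      exact hN.inj (e.app W r) x' h0
    have h1 : res N hle (lam.app W x) = 0 :=
      (lam_res e L N lam (P.basicOpen_le r) x).symm.trans
        ((congrArg (lam.app (P.basicOpen r)) hx).trans (map_zero _))
    obtain ⟨k, hk⟩ := key _ eo hle (lam.app W x) h1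
    refine ⟨k, ?_⟩
    apply (hbij W le_rfl).injective
    rw [lam_smul, map_pow, map_zero]
    exact hk

/-- **Chart criterion**: a module identified, over the ranges of open immersions `e i` covering `P`, with direct images
of quasi-coherent modules, is quasi-coherent. -/
theorem isQuasicoherent_of_charts {P : Scheme.{u}} (L : P.Modules) {ι : Type u} (Q : ι → Scheme.{u})
    (e : ∀ i, Q i ⟶ P) [∀ i, IsOpenImmersion (e i)] (N : ∀ i, (Q i).Modules) [∀ i, (N i).IsQuasicoherent]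
    (lam : ∀ i, L ⟶ (Scheme.Modules.pushforward (e i)).obj (N i))
    (hbij : ∀ i (W : P.Opens), W ≤ (e i).opensRange → Function.Bijective ((lam i).app W))
    (hcov : ∀ x : P, ∃ i, x ∈ (e i).opensRange) : L.IsQuasicoherent := by
  refine isQuasicoherent_of_isLocOn L (fun j : Σ i, (Q i).affineOpens => (e j.1) ''ᵁ j.2.1) ?_
    (fun j => j.2.2.image_of_isOpenImmersion (e j.1)) ?_
  · refine IsOpenCover.mk (eq_top_iff.mpr ?_)
    intro x _
    obtain ⟨i, y, rfl⟩ := hcov x
    have hy : y ∈ (⨆ V : (Q i).affineOpens, V.1 : (Q i).Opens) := by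
      rw [iSup_affineOpens_eq_top]; trivial
    obtain ⟨V, hV⟩ := Opens.mem_iSup.mp hy
    exact Opens.mem_iSup.mpr ⟨⟨i, V⟩, ⟨y, hV, rfl⟩⟩
  · intro j
    refine isLocOn_of_bijective (e j.1) L (N j.1) (lam j.1) _
      (fun W' hW' => hbij j.1 W' (hW'.trans ?_)) ?_
    · rintro _ ⟨y, -, rfl⟩
      exact ⟨y, rfl⟩
    · rw [Scheme.Hom.preimage_image_eq]
      exact isLocOn_of_isQuasicoherent (N j.1) j.2.2

end Groth.Agent.Lib.Helper28.QCohLoc
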