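import Groth.Agent.Lib.Helper28.GrSectComap
import Groth.Agent.Lib.Helper28.QCohConv

/-!
# `GrMod.tilde 𝒜 ℳ n` is quasi-coherent (gradings by additive subgroups)
-/

set_option autoImplicit false
universe u
open CategoryTheory AlgebraicGeometry Opposite TopologicalSpace
noncomputable section

namespace Groth.Agent.Lib.Helper28.GrModQC

open Groth.Agent.Lib.Helper28 Groth.Agent.Lib.Helper28.GrSect

variable {A σ : Type u} [CommRing A] [SetLike σ A] [AddSubgroupClass σ A] (𝒜 : ℕ → σ) [GradedRing 𝒜]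
variable {M τ : Type u} [AddCommGroup M] [Module A M] [SetLike τ M] [AddSubgroupClass τ M] (ℳ : ℕ → τ)
  [DirectSum.Decomposition ℳ] [SetLike.GradedSMul 𝒜 ℳ]

/-- the value of a section at a point, in the localized module -/
def val {n : ℤ} {V : (Proj 𝒜).Opens} (t : Γ(GrMod.tilde 𝒜 ℳ n, V)) (x : V) : GrMod.LocMod 𝒜 (M := M) x.1 :=
  (((t : GrMod.sect 𝒜 ℳ n (op V)).1 x : GrMod.tildeAt 𝒜 ℳ n x.1) : GrMod.LocMod 𝒜 (M := M) x.1)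

theorem ext_val {n : ℤ} {V : (Proj 𝒜).Opens} (s t : Γ(GrMod.tilde 𝒜 ℳ n, V))
    (h : ∀ x : V, val 𝒜 ℳ s x = val 𝒜 ℳ t x) : s = t := by
  have : (s : GrMod.sect 𝒜 ℳ n (op V)) = (t : GrMod.sect 𝒜 ℳ n (op V)) :=
    Subtype.ext (funext fun x => Subtype.ext (h x))
  exact this

theorem val_zero {n : ℤ} {V : (Proj 𝒜).Opens} (x : V) :
    val 𝒜 ℳ (0 : Γ(GrMod.tilde 𝒜 ℳ n, V)) x = 0 := rfl

theorem val_res {n : ℤ} {V W : (Proj 𝒜).Opens} (h : W ≤ V) (t : Γ(GrMod.tilde 𝒜 ℳ n, V)) (x : W) :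
    val 𝒜 ℳ (QCohLoc.res (GrMod.tilde 𝒜 ℳ n) h t) x = val 𝒜 ℳ t ⟨x.1, h x.2⟩ := rfl

/-- the value of a function at a point, in the homogeneous localization -/
def valO {V : (Proj 𝒜).Opens} (s : Γ(Proj 𝒜, V)) (x : V) : GrTwist.A0 𝒜 x.1 :=
  (show (ProjectiveSpectrum.Proj.structureSheaf 𝒜).1.obj (op V) from s).1 x

theorem valO_resO {V W : (Proj 𝒜).Opens} (h : W ≤ V) (s : Γ(Proj 𝒜, V)) (x : W) :
    valO 𝒜 (QCohLoc.resO h s) x = valO 𝒜 s ⟨x.1, h x.2⟩ := rfl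

theorem valO_pow {V : (Proj 𝒜).Opens} (s : Γ(Proj 𝒜, V)) (k : ℕ) (x : V) :
    valO 𝒜 (s ^ k) x = (valO 𝒜 s x) ^ k := rfl

theorem val_smul {n : ℤ} {V : (Proj 𝒜).Opens} (s : Γ(Proj 𝒜, V)) (t : Γ(GrMod.tilde 𝒜 ℳ n, V)) (x : V) :
    val 𝒜 ℳ (s • t) x = (valO 𝒜 s x).val • val 𝒜 ℳ t x := rfl


/-- membership in the basic open of a function on an open of `Proj`, through the value at the point -/
theorem mem_basicOpen_iff {V : (Proj 𝒜).Opens} (s : Γ(Proj 𝒜, V)) (x : Proj 𝒜) :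
    x ∈ (Proj 𝒜).basicOpen s ↔ ∃ hx : x ∈ V, IsUnit (valO 𝒜 s ⟨x, hx⟩) := by
  rw [Scheme.mem_basicOpen'']
  refine exists_congr fun hx => ?_
  have h1 : Proj.stalkIso' 𝒜 x ((ProjectiveSpectrum.Proj.structureSheaf 𝒜).presheaf.germ V x hx s) = valO 𝒜 s ⟨x, hx⟩ :=
    Proj.stalkIso'_germ 𝒜 V x hx s
  rw [← h1]
  exact (MulEquiv.isUnit_map (Proj.stalkIso' 𝒜 x).toMulEquiv).symm

/-- the value of the function `a / f^j` on `D₊(f)` -/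
theorem val_valO_awayToSection {d : ℕ} {f : A} (hf : f ∈ 𝒜 d) (j : ℕ) (a : A) (ha : a ∈ 𝒜 (j • d))
    (x : Proj.basicOpen 𝒜 f) :
    (valO 𝒜 (Proj.awayToSection 𝒜 f (HomogeneousLocalization.Away.mk 𝒜 hf j a ha)) x).val =
      Localization.mk a ⟨f ^ j, GrSectMod.pow_nin 𝒜 j x⟩ := rfl


theorem isUnit_mk_iff (x : ProjectiveSpectrum 𝒜) (a : A) (t : x.asHomogeneousIdeal.toIdeal.primeCompl) :
    IsUnit (Localization.mk a t : Localization.AtPrime x.asHomogeneousIdeal.toIdeal) ↔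
      a ∉ x.asHomogeneousIdeal := by
  rw [Localization.mk_eq_mk', IsLocalization.AtPrime.isUnit_mk'_iff]
  rfl

theorem isUnit_valO_awayToSection_iff {d : ℕ} {f : A} (hf : f ∈ 𝒜 d) (j : ℕ) (a : A) (ha : a ∈ 𝒜 (j • d))
    (x : Proj.basicOpen 𝒜 f) :
    IsUnit (valO 𝒜 (Proj.awayToSection 𝒜 f (HomogeneousLocalization.Away.mk 𝒜 hf j a ha)) x) ↔
      a ∉ x.1.asHomogeneousIdeal :=
  (HomogeneousLocalization.isUnit_iff_isUnit_val (𝒜 := 𝒜) x.1.asHomogeneousIdeal.toIdeal _).symm.trans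
    (isUnit_mk_iff 𝒜 x.1 a ⟨f ^ j, GrSectMod.pow_nin 𝒜 j x⟩)

/-- the basic open of the function `a / f^j` on `D₊(f)` is `D₊(f a)` -/
theorem basicOpen_awayToSection {d : ℕ} {f : A} (hf : f ∈ 𝒜 d) (j : ℕ) (a : A) (ha : a ∈ 𝒜 (j • d)) :
    (Proj 𝒜).basicOpen (Proj.awayToSection 𝒜 f (HomogeneousLocalization.Away.mk 𝒜 hf j a ha)) =
      Proj.basicOpen 𝒜 (f * a) := by
  ext x
  rw [SetLike.mem_coe, SetLike.mem_coe, mem_basicOpen_iff, Proj.basicOpen_mul]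
  constructor
  · rintro ⟨hx, hu⟩
    exact ⟨hx, (Proj.mem_basicOpen 𝒜 a x).2 ((isUnit_valO_awayToSection_iff 𝒜 hf j a ha ⟨x, hx⟩).1 hu)⟩
  · rintro ⟨hx, hax⟩
    exact ⟨hx, (isUnit_valO_awayToSection_iff 𝒜 hf j a ha ⟨x, hx⟩).2 ((Proj.mem_basicOpen 𝒜 a x).1 hax)⟩


/-- sections of `M(n)~` over `D₊(f)` are one fraction `m / f^k` -/
theorem exists_frac {d : ℕ} {f : A} (hf : f ∈ 𝒜 d) (hd : 0 < d) (n : ℤ)
    (t : Γ(GrMod.tilde 𝒜 ℳ n, Proj.basicOpen 𝒜 f)) :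
    ∃ (k i : ℕ) (m : M) (_ : m ∈ ℳ i), (i : ℤ) = k * d + n ∧
      ∀ x : Proj.basicOpen 𝒜 f, val 𝒜 ℳ t x = LocalizedModule.mk m ⟨f ^ k, GrSectMod.pow_nin 𝒜 k x⟩ := by
  have hF : IsLocFracOn 𝒜 ℳ f n (fun x => val 𝒜 ℳ t x) := by
    intro x
    obtain ⟨V, hxV, iV, i, j, m, s, s_nin, hdeg, hw⟩ :=
      (t : GrMod.sect 𝒜 ℳ n (op (Proj.basicOpen 𝒜 f))).2 x
    exact ⟨V, hxV, fun y hy => iV.le hy, i, j, m.1, m.2, s.1, s.2, fun y hy => s_nin ⟨y, hy⟩, hdeg,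
      fun y hy => hw ⟨y, hy⟩⟩
  obtain ⟨k, i, m, hm, hi, h⟩ := GrSect.exists_frac hf hd n _ hF
  exact ⟨k, i, m, hm, hi, fun x => h x _⟩

theorem mem_tildeAt_mk {f : A} {d : ℕ} (hf : f ∈ 𝒜 d) (n : ℤ) (k i : ℕ) (m : M) (hm : m ∈ ℳ i)
    (hi : (i : ℤ) = k * d + n) (x : ProjectiveSpectrum 𝒜) (hx : f ^ k ∉ x.asHomogeneousIdeal) :
    (LocalizedModule.mk m ⟨f ^ k, hx⟩ : GrMod.LocMod 𝒜 (M := M) x) ∈ GrMod.tildeAt 𝒜 ℳ n x :=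
  Submodule.subset_span ⟨i, k * d, ⟨m, hm⟩, ⟨f ^ k, SetLike.pow_mem_graded k hf⟩, hx,
    by push_cast; exact hi, rfl⟩

/-- the section `m / f^k` of `M(n)~` over `D₊(f)` -/
def mkSect' {f : A} {d : ℕ} (hf : f ∈ 𝒜 d) (n : ℤ) (k i : ℕ) (m : M) (hm : m ∈ ℳ i) (hi : (i : ℤ) = k * d + n) :
    GrMod.sect 𝒜 ℳ n (op (ProjectiveSpectrum.basicOpen 𝒜 f)) :=
  ⟨fun x => ⟨LocalizedModule.mk m ⟨f ^ k, fun h => (ProjectiveSpectrum.mem_basicOpen 𝒜 f x.1).mp x.2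
        (x.1.isPrime.mem_of_pow_mem k h)⟩, mem_tildeAt_mk 𝒜 ℳ hf n k i m hm hi x.1 _⟩,
    fun x => ⟨ProjectiveSpectrum.basicOpen 𝒜 f, x.2, 𝟙 _, i, k * d, ⟨m, hm⟩,
      ⟨f ^ k, SetLike.pow_mem_graded k hf⟩,
      fun y => fun h => (ProjectiveSpectrum.mem_basicOpen 𝒜 f y.1).mp y.2
        (y.1.isPrime.mem_of_pow_mem k h), Or.inl (by push_cast; exact hi), fun _ => rfl⟩⟩

def mkSect {f : A} {d : ℕ} (hf : f ∈ 𝒜 d) (n : ℤ) (k i : ℕ) (m : M) (hm : m ∈ ℳ i) (hi : (i : ℤ) = k * d + n) :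
    Γ(GrMod.tilde 𝒜 ℳ n, Proj.basicOpen 𝒜 f) :=
  mkSect' 𝒜 ℳ hf n k i m hm hi

theorem val_mkSect {f : A} {d : ℕ} (hf : f ∈ 𝒜 d) (n : ℤ) (k i : ℕ) (m : M) (hm : m ∈ ℳ i)
    (hi : (i : ℤ) = k * d + n) (x : Proj.basicOpen 𝒜 f) :
    val 𝒜 ℳ (mkSect 𝒜 ℳ hf n k i m hm hi) x = LocalizedModule.mk m ⟨f ^ k, GrSectMod.pow_nin 𝒜 k x⟩ := rfl


/-- the pointwise computation: `(a / f^j)^k • (m / s)` -/
theorem pow_smul_mk (x : ProjectiveSpectrum 𝒜) (a : A) (t s : x.asHomogeneousIdeal.toIdeal.primeCompl) (k : ℕ)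
    (m : M) :
    ((Localization.mk a t : Localization.AtPrime x.asHomogeneousIdeal.toIdeal) ^ k) •
      (LocalizedModule.mk m s : GrMod.LocMod 𝒜 (M := M) x) = LocalizedModule.mk (a ^ k • m) (t ^ k * s) := by
  rw [Localization.mk_pow, LocalizedModule.mk_smul_mk]

theorem exists_awayToSection {d : ℕ} (hd : 0 < d) {f : A} (hf : f ∈ 𝒜 d) (r : Γ(Proj 𝒜, Proj.basicOpen 𝒜 f)) :
    ∃ (j : ℕ) (a : A) (ha : a ∈ 𝒜 (j • d)),
      Proj.awayToSection 𝒜 f (HomogeneousLocalization.Away.mk 𝒜 hf j a ha) = r := by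
  have h1 : Proj.awayToSection 𝒜 f ((Proj.basicOpenIsoAway 𝒜 f hf hd).inv r) = r := by
    have := (Proj.basicOpenIsoAway 𝒜 f hf hd).inv_hom_id_apply r
    rw [Proj.basicOpenIsoAway_hom] at this
    exact this
  obtain ⟨j, a, ha, h2⟩ := HomogeneousLocalization.Away.mk_surjective 𝒜 hf ((Proj.basicOpenIsoAway 𝒜 f hf hd).inv r)
  exact ⟨j, a, ha, by rw [h2]; exact h1⟩


theorem isLocOn_basicOpen {d : ℕ} (hd : 0 < d) {f : A} (hf : f ∈ 𝒜 d) (n : ℤ) :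
    QCohLoc.IsLocOn (GrMod.tilde 𝒜 ℳ n) (Proj.basicOpen 𝒜 f) := by
  refine ⟨fun r y => ?_, fun r x₁ hx₁ => ?_⟩
  · obtain ⟨j, a, ha, rfl⟩ := exists_awayToSection 𝒜 hd hf r
    have hg : f * a ∈ 𝒜 (d + j • d) := SetLike.mul_mem_graded hf ha
    have hgpos : 0 < d + j • d := by omega
    have hbo := basicOpen_awayToSection 𝒜 hf j a ha
    obtain ⟨k, i, m, hm, hi, hval⟩ := exists_frac 𝒜 ℳ hg hgpos n
      (QCohLoc.res (GrMod.tilde 𝒜 ℳ n) hbo.ge y)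
    have hi' : (i : ℤ) = ((k * (j + 1) : ℕ) : ℤ) * d + n := by
      rw [hi]; push_cast; simp only [smul_eq_mul]; push_cast; ring
    refine ⟨k, mkSect 𝒜 ℳ hf n (k * (j + 1)) i m hm hi', ?_⟩
    apply ext_val
    intro x
    have hxg : x.1 ∈ Proj.basicOpen 𝒜 (f * a) := hbo.le x.2
    have hxf : x.1 ∈ Proj.basicOpen 𝒜 f := (Proj 𝒜).basicOpen_le _ x.2
    rw [val_smul, valO_pow, valO_resO, HomogeneousLocalization.val_pow,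
      val_valO_awayToSection 𝒜 hf j a ha ⟨x.1, hxf⟩, val_res]
    have h1 : val 𝒜 ℳ y x = LocalizedModule.mk m ⟨(f * a) ^ k, GrSectMod.pow_nin 𝒜 k ⟨x.1, hxg⟩⟩ :=
      hval ⟨x.1, hxg⟩
    rw [h1, pow_smul_mk, val_mkSect, LocalizedModule.mk_eq]
    refine ⟨1, ?_⟩
    simp only [one_smul, Submonoid.smul_def, Submonoid.coe_mul, SubmonoidClass.coe_pow, smul_smul]
    congr 1
    ring
  · obtain ⟨j, a, ha, rfl⟩ := exists_awayToSection 𝒜 hd hf r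
    have hg : f * a ∈ 𝒜 (d + j • d) := SetLike.mul_mem_graded hf ha
    have hgpos : 0 < d + j • d := by omega
    have hbo := basicOpen_awayToSection 𝒜 hf j a ha
    obtain ⟨K, i, m, hm, hi, hval⟩ := exists_frac 𝒜 ℳ hf hd n x₁
    have hzero : ∀ q : ProjectiveSpectrum 𝒜, f * a ∉ q.asHomogeneousIdeal →
        (LocalizedModule.mk m 1 : LocalizedModule q.asHomogeneousIdeal.toIdeal.primeCompl M) = 0 := by
      intro q hq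
      have hqg : q ∈ Proj.basicOpen 𝒜 (f * a) := (Proj.mem_basicOpen 𝒜 (f * a) q).2 hq
      have hqr : q ∈ (Proj 𝒜).basicOpen
          (Proj.awayToSection 𝒜 f (HomogeneousLocalization.Away.mk 𝒜 hf j a ha)) := hbo.ge hqg
      have hqf : q ∈ Proj.basicOpen 𝒜 f := (Proj 𝒜).basicOpen_le _ hqr
      have h2 : val 𝒜 ℳ (QCohLoc.res (GrMod.tilde 𝒜 ℳ n) ((Proj 𝒜).basicOpen_le _) x₁) ⟨q, hqr⟩ = 0 := by
        rw [hx₁]; rfl
      rw [val_res] at h2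
      have h3 : val 𝒜 ℳ x₁ ⟨q, hqf⟩ = LocalizedModule.mk m ⟨f ^ K, GrSectMod.pow_nin 𝒜 K ⟨q, hqf⟩⟩ :=
        hval ⟨q, hqf⟩
      rw [h3] at h2
      exact GrSectComap.mk_one_eq_zero_of_mk 𝒜 q m _ h2
    obtain ⟨N, hN⟩ := GrSect.pow_smul_eq_zero 𝒜 ℳ hgpos hg m hm hzero
    refine ⟨N, ?_⟩
    apply ext_val
    intro x
    rw [val_smul, valO_pow, HomogeneousLocalization.val_pow, val_valO_awayToSection 𝒜 hf j a ha x, hval x,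
      pow_smul_mk, val_zero]
    refine GrSectComap.mk_eq_zero_of_smul 𝒜 x.1 _ _ (f ^ N) (GrSectMod.pow_nin 𝒜 N x) ?_
    rw [smul_smul, ← mul_pow]
    exact hN


/-- **`M(n)~` is quasi-coherent.** -/
theorem isQuasicoherent_tilde (n : ℤ) : (GrMod.tilde 𝒜 ℳ n).IsQuasicoherent := by
  refine QCohLoc.isQuasicoherent_of_isLocOn _
    (fun i : {p : ℕ × A // 0 < p.1 ∧ p.2 ∈ 𝒜 p.1} => Proj.basicOpen 𝒜 i.1.2) ?_
    (fun i => Proj.isAffineOpen_basicOpen 𝒜 i.1.2 i.2.2 i.2.1)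
    (fun i => isLocOn_basicOpen 𝒜 ℳ i.2.1 i.2.2 n)
  refine IsOpenCover.mk (eq_top_iff.mpr ?_)
  intro x _
  obtain ⟨k, g, hk, hg, hgx, -⟩ := GrSectComap.exists_pos_basicOpen 𝒜 ⊤ x trivial
  exact Opens.mem_iSup.mpr ⟨⟨(k, g), hk, hg⟩, (Proj.mem_basicOpen 𝒜 g x).2 hgx⟩

end Groth.Agent.Lib.Helper28.GrModQC
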