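import Groth.Agent.Lib.Helper28.GrModQC
import Groth.Prelude.Def_GrTwist

/-!
# `GrTwist.twist 𝒜 n` is quasi-coherent
-/

set_option autoImplicit false
universe u
open CategoryTheory AlgebraicGeometry Opposite TopologicalSpace
noncomputable section

namespace Groth.Agent.Lib.Helper28.GrTwistQC

open Groth.Agent.Lib.Helper28 Groth.Agent.Lib.Helper28.GrSect

variable {A σ : Type u} [CommRing A] [SetLike σ A] [AddSubgroupClass σ A] (𝒜 : ℕ → σ) [GradedRing 𝒜]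

/-- the value of a section at a point, in the localization -/
def val {n : ℤ} {V : (Proj 𝒜).Opens} (t : Γ(GrTwist.twist 𝒜 n, V)) (x : V) : GrTwist.Loc 𝒜 x.1 :=
  (((t : GrTwist.sectN (𝒜 := 𝒜) n (op V)).1 x : GrTwist.twistAt 𝒜 n x.1) : GrTwist.Loc 𝒜 x.1)

theorem ext_val {n : ℤ} {V : (Proj 𝒜).Opens} (s t : Γ(GrTwist.twist 𝒜 n, V))
    (h : ∀ x : V, val 𝒜 s x = val 𝒜 t x) : s = t := by
  have : (s : GrTwist.sectN (𝒜 := 𝒜) n (op V)) = (t : GrTwist.sectN (𝒜 := 𝒜) n (op V)) :=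
    Subtype.ext (funext fun x => Subtype.ext (h x))
  exact this

theorem val_zero {n : ℤ} {V : (Proj 𝒜).Opens} (x : V) :
    val 𝒜 (0 : Γ(GrTwist.twist 𝒜 n, V)) x = 0 := rfl

theorem val_res {n : ℤ} {V W : (Proj 𝒜).Opens} (h : W ≤ V) (t : Γ(GrTwist.twist 𝒜 n, V)) (x : W) :
    val 𝒜 (QCohLoc.res (GrTwist.twist 𝒜 n) h t) x = val 𝒜 t ⟨x.1, h x.2⟩ := rfl

theorem val_smul {n : ℤ} {V : (Proj 𝒜).Opens} (s : Γ(Proj 𝒜, V)) (t : Γ(GrTwist.twist 𝒜 n, V)) (x : V) :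
    val 𝒜 (s • t) x = (GrModQC.valO 𝒜 s x).val * val 𝒜 t x :=
  GrTwist.coe_smul_val n x.1 _ _

/-- a localization element as an element of the localized module of `A` over itself -/
def toLM (x : ProjectiveSpectrum 𝒜) (q : GrTwist.Loc 𝒜 x) :
    LocalizedModule x.asHomogeneousIdeal.toIdeal.primeCompl A := q

theorem toLM_mk (x : ProjectiveSpectrum 𝒜) (a : A) (s : x.asHomogeneousIdeal.toIdeal.primeCompl) :
    toLM 𝒜 x (Localization.mk a s) = LocalizedModule.mk a s := rfl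


/-- sections of `O(n)` over `D₊(f)` are one fraction `m / f^k` -/
theorem exists_frac {d : ℕ} {f : A} (hf : f ∈ 𝒜 d) (hd : 0 < d) (n : ℤ)
    (t : Γ(GrTwist.twist 𝒜 n, Proj.basicOpen 𝒜 f)) :
    ∃ (k i : ℕ) (m : A) (_ : m ∈ 𝒜 i), (i : ℤ) = k * d + n ∧
      ∀ x : Proj.basicOpen 𝒜 f, val 𝒜 t x = Localization.mk m ⟨f ^ k, GrSectMod.pow_nin 𝒜 k x⟩ := by
  have hF : IsLocFracOn 𝒜 𝒜 f n (fun x => toLM 𝒜 x.1 (val 𝒜 t x)) := by
    intro x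
    obtain ⟨V, hxV, iV, i, j, m, s, s_nin, hdeg, hw⟩ :=
      (t : GrTwist.sectN (𝒜 := 𝒜) n (op (Proj.basicOpen 𝒜 f))).2 x
    exact ⟨V, hxV, fun y hy => iV.le hy, i, j, m.1, m.2, s.1, s.2, fun y hy => s_nin ⟨y, hy⟩, hdeg,
      fun y hy => hw ⟨y, hy⟩⟩
  obtain ⟨k, i, m, hm, hi, h⟩ := GrSect.exists_frac hf hd n _ hF
  exact ⟨k, i, m, hm, hi, fun x => h x _⟩

theorem mem_twistAt_mk {f : A} {d : ℕ} (hf : f ∈ 𝒜 d) (n : ℤ) (k i : ℕ) (m : A) (hm : m ∈ 𝒜 i)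
    (hi : (i : ℤ) = k * d + n) (x : ProjectiveSpectrum 𝒜) (hx : f ^ k ∉ x.asHomogeneousIdeal) :
    (Localization.mk m ⟨f ^ k, hx⟩ : GrTwist.Loc 𝒜 x) ∈ GrTwist.twistAt 𝒜 n x :=
  Submodule.subset_span ⟨i, k * d, ⟨m, hm⟩, ⟨f ^ k, SetLike.pow_mem_graded k hf⟩, hx,
    by push_cast; exact hi, rfl⟩

/-- the section `m / f^k` of `O(n)` over `D₊(f)` -/
def mkSect' {f : A} {d : ℕ} (hf : f ∈ 𝒜 d) (n : ℤ) (k i : ℕ) (m : A) (hm : m ∈ 𝒜 i) (hi : (i : ℤ) = k * d + n) :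
    GrTwist.sectN (𝒜 := 𝒜) n (op (ProjectiveSpectrum.basicOpen 𝒜 f)) :=
  ⟨fun x => ⟨Localization.mk m ⟨f ^ k, fun h => (ProjectiveSpectrum.mem_basicOpen 𝒜 f x.1).mp x.2
        (x.1.isPrime.mem_of_pow_mem k h)⟩, mem_twistAt_mk 𝒜 hf n k i m hm hi x.1 _⟩,
    fun x => ⟨ProjectiveSpectrum.basicOpen 𝒜 f, x.2, 𝟙 _, i, k * d, ⟨m, hm⟩,
      ⟨f ^ k, SetLike.pow_mem_graded k hf⟩,
      fun y => fun h => (ProjectiveSpectrum.mem_basicOpen 𝒜 f y.1).mp y.2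
        (y.1.isPrime.mem_of_pow_mem k h), Or.inl (by push_cast; exact hi), fun _ => rfl⟩⟩

def mkSect {f : A} {d : ℕ} (hf : f ∈ 𝒜 d) (n : ℤ) (k i : ℕ) (m : A) (hm : m ∈ 𝒜 i) (hi : (i : ℤ) = k * d + n) :
    Γ(GrTwist.twist 𝒜 n, Proj.basicOpen 𝒜 f) :=
  mkSect' 𝒜 hf n k i m hm hi

theorem val_mkSect {f : A} {d : ℕ} (hf : f ∈ 𝒜 d) (n : ℤ) (k i : ℕ) (m : A) (hm : m ∈ 𝒜 i)
    (hi : (i : ℤ) = k * d + n) (x : Proj.basicOpen 𝒜 f) :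
    val 𝒜 (mkSect 𝒜 hf n k i m hm hi) x = Localization.mk m ⟨f ^ k, GrSectMod.pow_nin 𝒜 k x⟩ := rfl

/-- the pointwise computation: `(a / f^j)^k * (m / s)` -/
theorem pow_mul_mk (x : ProjectiveSpectrum 𝒜) (a : A) (t s : x.asHomogeneousIdeal.toIdeal.primeCompl) (k : ℕ)
    (m : A) :
    ((Localization.mk a t : Localization.AtPrime x.asHomogeneousIdeal.toIdeal) ^ k) *
      (Localization.mk m s : GrTwist.Loc 𝒜 x) = Localization.mk (a ^ k * m) (t ^ k * s) := by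
  rw [Localization.mk_pow, Localization.mk_mul]

theorem isLocOn_basicOpen {d : ℕ} (hd : 0 < d) {f : A} (hf : f ∈ 𝒜 d) (n : ℤ) :
    QCohLoc.IsLocOn (GrTwist.twist 𝒜 n) (Proj.basicOpen 𝒜 f) := by
  refine ⟨fun r y => ?_, fun r x₁ hx₁ => ?_⟩
  · obtain ⟨j, a, ha, rfl⟩ := GrModQC.exists_awayToSection 𝒜 hd hf r
    have hg : f * a ∈ 𝒜 (d + j • d) := SetLike.mul_mem_graded hf ha
    have hgpos : 0 < d + j • d := by omega
    have hbo := GrModQC.basicOpen_awayToSection 𝒜 hf j a ha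
    obtain ⟨k, i, m, hm, hi, hval⟩ := exists_frac 𝒜 hg hgpos n
      (QCohLoc.res (GrTwist.twist 𝒜 n) hbo.ge y)
    have hi' : (i : ℤ) = ((k * (j + 1) : ℕ) : ℤ) * d + n := by
      rw [hi]; push_cast; simp only [smul_eq_mul]; push_cast; ring
    refine ⟨k, mkSect 𝒜 hf n (k * (j + 1)) i m hm hi', ?_⟩
    apply ext_val
    intro x
    have hxg : x.1 ∈ Proj.basicOpen 𝒜 (f * a) := hbo.le x.2
    have hxf : x.1 ∈ Proj.basicOpen 𝒜 f := (Proj 𝒜).basicOpen_le _ x.2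
    rw [val_smul, GrModQC.valO_pow, GrModQC.valO_resO, HomogeneousLocalization.val_pow,
      GrModQC.val_valO_awayToSection 𝒜 hf j a ha ⟨x.1, hxf⟩, val_res]
    have h1 : val 𝒜 y x = Localization.mk m ⟨(f * a) ^ k, GrSectMod.pow_nin 𝒜 k ⟨x.1, hxg⟩⟩ :=
      hval ⟨x.1, hxg⟩
    rw [h1, pow_mul_mk, val_mkSect, Localization.mk_eq_mk_iff, Localization.r_iff_exists]
    refine ⟨1, ?_⟩
    simp only [one_mul, Submonoid.coe_mul, SubmonoidClass.coe_pow]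
    ring
  · obtain ⟨j, a, ha, rfl⟩ := GrModQC.exists_awayToSection 𝒜 hd hf r
    have hg : f * a ∈ 𝒜 (d + j • d) := SetLike.mul_mem_graded hf ha
    have hgpos : 0 < d + j • d := by omega
    have hbo := GrModQC.basicOpen_awayToSection 𝒜 hf j a ha
    obtain ⟨K, i, m, hm, hi, hval⟩ := exists_frac 𝒜 hf hd n x₁
    have hzero : ∀ q : ProjectiveSpectrum 𝒜, f * a ∉ q.asHomogeneousIdeal →
        (LocalizedModule.mk m 1 : LocalizedModule q.asHomogeneousIdeal.toIdeal.primeCompl A) = 0 := by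
      intro q hq
      have hqg : q ∈ Proj.basicOpen 𝒜 (f * a) := (Proj.mem_basicOpen 𝒜 (f * a) q).2 hq
      have hqr : q ∈ (Proj 𝒜).basicOpen
          (Proj.awayToSection 𝒜 f (HomogeneousLocalization.Away.mk 𝒜 hf j a ha)) := hbo.ge hqg
      have hqf : q ∈ Proj.basicOpen 𝒜 f := (Proj 𝒜).basicOpen_le _ hqr
      have h2 : val 𝒜 (QCohLoc.res (GrTwist.twist 𝒜 n) ((Proj 𝒜).basicOpen_le _) x₁) ⟨q, hqr⟩ = 0 := by
        rw [hx₁]; rfl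
      rw [val_res] at h2
      have h3 : val 𝒜 x₁ ⟨q, hqf⟩ = Localization.mk m ⟨f ^ K, GrSectMod.pow_nin 𝒜 K ⟨q, hqf⟩⟩ :=
        hval ⟨q, hqf⟩
      rw [h3] at h2
      have h4 : (LocalizedModule.mk m ⟨f ^ K, GrSectMod.pow_nin 𝒜 K ⟨q, hqf⟩⟩ :
          LocalizedModule q.asHomogeneousIdeal.toIdeal.primeCompl A) = 0 := h2
      exact GrSectComap.mk_one_eq_zero_of_mk 𝒜 q m _ h4
    obtain ⟨N, hN⟩ := GrSect.pow_smul_eq_zero 𝒜 𝒜 hgpos hg m hm hzero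
    refine ⟨N, ?_⟩
    apply ext_val
    intro x
    rw [val_smul, GrModQC.valO_pow, HomogeneousLocalization.val_pow,
      GrModQC.val_valO_awayToSection 𝒜 hf j a ha x, hval x, pow_mul_mk, val_zero]
    have h5 : (LocalizedModule.mk (a ^ N * m) (⟨f ^ j, GrSectMod.pow_nin 𝒜 j x⟩ ^ N * ⟨f ^ K, GrSectMod.pow_nin 𝒜 K x⟩) :
        LocalizedModule x.1.asHomogeneousIdeal.toIdeal.primeCompl A) = 0 := by
      refine GrSectComap.mk_eq_zero_of_smul 𝒜 x.1 _ _ (f ^ N) (GrSectMod.pow_nin 𝒜 N x) ?_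
      rw [smul_eq_mul, ← mul_assoc, ← mul_pow]
      exact hN
    exact h5

/-- **`O(n)` is quasi-coherent.** -/
theorem isQuasicoherent_twist (n : ℤ) : (GrTwist.twist 𝒜 n).IsQuasicoherent := by
  refine QCohLoc.isQuasicoherent_of_isLocOn _
    (fun i : {p : ℕ × A // 0 < p.1 ∧ p.2 ∈ 𝒜 p.1} => Proj.basicOpen 𝒜 i.1.2) ?_
    (fun i => Proj.isAffineOpen_basicOpen 𝒜 i.1.2 i.2.2 i.2.1)
    (fun i => isLocOn_basicOpen 𝒜 i.2.1 i.2.2 n)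
  refine IsOpenCover.mk (eq_top_iff.mpr ?_)
  intro x _
  obtain ⟨k, g, hk, hg, hgx, -⟩ := GrSectComap.exists_pos_basicOpen 𝒜 ⊤ x trivial
  exact Opens.mem_iSup.mpr ⟨⟨(k, g), hk, hg⟩, (Proj.mem_basicOpen 𝒜 g x).2 hgx⟩

end Groth.Agent.Lib.Helper28.GrTwistQC
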