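import Groth.Agent.Lib.Helper28.QCohChart
import Groth.Agent.Lib.Helper28.GrModQC
import Groth.Agent.Lib.Helper28.GrTwistQC
import Groth.Prelude.Def_RelProj3

/-!
# Quasi-coherence of the modules on a relative `Proj` given through charts
-/

universe u
open CategoryTheory CategoryTheory.Limits AlgebraicGeometry Opposite TopologicalSpace

namespace Groth.Agent.Lib.Helper28.RelProjQC

open Groth.Agent.Lib.Helper28

variable {Y P : Scheme.{u}} {𝒮 : RelProj.QCGrAlg Y} (p : P ⟶ Y)
    (chart : ∀ (U : Y.Opens) (hU : IsAffineOpen U), (((p ⁻¹ᵁ U : P.Opens) : Scheme.{u}) ≅ Proj (𝒮.deg U hU)))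

theorem opensRange_emb (U : Y.Opens) (hU : IsAffineOpen U) :
    (RelProj.emb p chart U hU).opensRange = p ⁻¹ᵁ U := by
  unfold RelProj.emb
  rw [Scheme.Hom.opensRange_comp_of_isIso, Scheme.Opens.opensRange_ι]

theorem exists_mem_opensRange_emb (x : P) :
    ∃ i : Y.affineOpens, x ∈ (RelProj.emb p chart i.1 i.2).opensRange := by
  have hy : p.base x ∈ (⨆ V : Y.affineOpens, V.1 : Y.Opens) := by
    rw [iSup_affineOpens_eq_top]; trivial
  obtain ⟨V, hV⟩ := Opens.mem_iSup.mp hy
  exact ⟨V, by rw [opensRange_emb]; exact hV⟩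

end Groth.Agent.Lib.Helper28.RelProjQC
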