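import Groth.Agent.Lib.Helper28.GrTwistGenD
import Groth.Agent.Lib.Helper28.QCohChart
import Groth.Agent.Lib.Helper28.RelProjQC
import Groth.Agent.Lib.Helper28.TensorPowGen
import Groth.Agent.Lib.Helper28.RestrictGen

/-!
# Local generators of modules given through charts; invertibility of the relative twisting sheaves
-/

set_option autoImplicit false
universe u
open CategoryTheory CategoryTheory.Limits AlgebraicGeometry Opposite TopologicalSpace
noncomputable section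

namespace Groth.Agent.Lib.Helper28.RelTwistLocal

open Groth.Agent.Lib.Helper28 Groth.Agent.Lib.Helper28.QCohLoc Groth.Agent.Lib.Helper28.GenLocus

section transfer

variable {P Q : Scheme.{u}} (e : Q ⟶ P) [IsOpenImmersion e] (L : P.Modules) (N : Q.Modules)
  (lam : L ⟶ (Scheme.Modules.pushforward e).obj N)

/-- a section of `L` whose image under a chart identification generates, generates -/
theorem isGen_of_chart (W₀ : P.Opens) (hW₀ : W₀ ≤ e.opensRange)
    (hbij : ∀ W : P.Opens, W ≤ W₀ → Function.Bijective (lam.app W))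
    (g : Γ(L, W₀)) (hg : IsGen N (e ⁻¹ᵁ W₀) (show Γ(N, e ⁻¹ᵁ W₀) from lam.app W₀ g)) : IsGen L W₀ g := by
  intro W hW
  have h1 : Function.Bijective (e.app W) := by
    have : IsIso (e.app W) := Scheme.Hom.isIso_app e W (hW.trans hW₀)
    exact (ConcreteCategory.isIso_iff_bijective (e.app W)).1 this
  have h2 := hg (e ⁻¹ᵁ W) (e.preimage_mono hW)
  have h3 := h2.comp h1
  have h4 : (lam.app W) ∘ (fun c : Γ(P, W) => (c • res L hW g : Γ(L, W))) =
      (fun c' : Γ(Q, e ⁻¹ᵁ W) => (c' • res N (e.preimage_mono hW)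
        (show Γ(N, e ⁻¹ᵁ W₀) from lam.app W₀ g) : Γ(N, e ⁻¹ᵁ W))) ∘ (e.app W) := by
    funext c
    show lam.app W (c • res L hW g) = _
    rw [lam_smul, lam_res]
    rfl
  rw [← h4] at h3
  exact (Function.Bijective.of_comp_iff' (hbij W hW) _).1 h3

/-- local generators pass through chart identifications -/
theorem exists_isGen_of_chart (hbij : ∀ W : P.Opens, W ≤ e.opensRange → Function.Bijective (lam.app W))
    (y : Q) (U' : Q.Opens) (hy : y ∈ U') (γ' : Γ(N, U')) (hγ' : IsGen N U' γ') :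
    ∃ (W₀ : P.Opens) (g : Γ(L, W₀)), e y ∈ W₀ ∧ W₀ ≤ e.opensRange ∧ e ⁻¹ᵁ W₀ = U' ∧ IsGen L W₀ g := by
  have hle : e ''ᵁ U' ≤ e.opensRange := by
    rintro _ ⟨z, -, rfl⟩
    exact ⟨z, rfl⟩
  have hpre : e ⁻¹ᵁ (e ''ᵁ U') = U' := Scheme.Hom.preimage_image_eq e U'
  have hγ'' : IsGen N (e ⁻¹ᵁ (e ''ᵁ U')) (res N (le_of_eq hpre) γ') := hγ'.res _
  obtain ⟨g, hg⟩ := (hbij (e ''ᵁ U') hle).surjective (res N (le_of_eq hpre) γ')
  refine ⟨e ''ᵁ U', g, ⟨y, hy, rfl⟩, hle, hpre, ?_⟩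
  refine isGen_of_chart e L N lam _ hle (fun W hW => hbij W (hW.trans hle)) g ?_
  rw [hg]
  exact hγ''

end transfer

/-- **Chart criterion for invertibility** -/
theorem isInvertible_of_charts {P : Scheme.{u}} (L : P.Modules) {ι : Type*} (Q : ι → Scheme.{u})
    (e : ∀ i, Q i ⟶ P) [∀ i, IsOpenImmersion (e i)] (N : ∀ i, (Q i).Modules)
    (hN : ∀ i, PicF.IsInvertible (N i))
    (lam : ∀ i, L ⟶ (Scheme.Modules.pushforward (e i)).obj (N i))
    (hbij : ∀ i (W : P.Opens), W ≤ (e i).opensRange → Function.Bijective ((lam i).app W))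
    (hcov : ∀ x : P, ∃ i, x ∈ (e i).opensRange) : PicF.IsInvertible L := by
  refine isInvertible_of_isGen L fun x => ?_
  obtain ⟨i, y, rfl⟩ := hcov x
  obtain ⟨U', γ', hy, hγ'⟩ := exists_isGen (N i) (hN i) y
  obtain ⟨W₀, g, hx, -, -, hg⟩ := exists_isGen_of_chart (e i) L (N i) (lam i) (hbij i) y U' hy γ' hγ'
  exact ⟨W₀, g, hx, hg⟩

section cover

variable {A σ : Type u} [CommRing A] [SetLike σ A] [AddSubgroupClass σ A] (𝒜 : ℕ → σ) [GradedRing 𝒜]

/-- if `A` is generated by `A₀` and `A₁`, every element is congruent to its degree zero part modulo `(A₁)` -/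
theorem sub_projZero_mem_span (hgen : Subring.closure ((𝒜 0 : Set A) ∪ (𝒜 1 : Set A)) = ⊤) (a : A) :
    a - GradedRing.projZeroRingHom 𝒜 a ∈ Ideal.span ((𝒜 1 : Set A)) := by
  have ha : a ∈ Subring.closure ((𝒜 0 : Set A) ∪ (𝒜 1 : Set A)) := by rw [hgen]; trivial
  induction ha using Subring.closure_induction with
  | mem x hx =>
    rcases hx with hx | hx
    · have : GradedRing.projZeroRingHom 𝒜 x = x := by
        show ((DirectSum.decompose 𝒜 x) 0 : A) = x
        rw [DirectSum.decompose_of_mem_same 𝒜 hx]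
      rw [this, sub_self]
      exact Ideal.zero_mem _
    · have : GradedRing.projZeroRingHom 𝒜 x = 0 := by
        show ((DirectSum.decompose 𝒜 x) 0 : A) = 0
        rw [DirectSum.decompose_of_mem_ne 𝒜 hx (by norm_num)]
      rw [this, sub_zero]
      exact Ideal.subset_span hx
  | zero => simp
  | one =>
    rw [map_one, sub_self]
    exact Ideal.zero_mem _
  | add x y _ _ hx hy =>
    have : x + y - GradedRing.projZeroRingHom 𝒜 (x + y) =
        (x - GradedRing.projZeroRingHom 𝒜 x) + (y - GradedRing.projZeroRingHom 𝒜 y) := by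
      rw [map_add]; ring
    rw [this]
    exact Ideal.add_mem _ hx hy
  | neg x _ hx =>
    have : -x - GradedRing.projZeroRingHom 𝒜 (-x) = -(x - GradedRing.projZeroRingHom 𝒜 x) := by
      rw [map_neg]; ring
    rw [this]
    exact neg_mem hx
  | mul x y _ _ hx hy =>
    have : x * y - GradedRing.projZeroRingHom 𝒜 (x * y) =
        (x - GradedRing.projZeroRingHom 𝒜 x) * y +
          GradedRing.projZeroRingHom 𝒜 x * (y - GradedRing.projZeroRingHom 𝒜 y) := by
      rw [map_mul]; ring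
    rw [this]
    exact Ideal.add_mem _ (Ideal.mul_mem_right _ _ hx) (Ideal.mul_mem_left _ _ hy)

/-- generation in degrees `0, 1` gives the cover of `Proj` by the `D₊(f)`, `f` of degree one -/
theorem cover_of_closure (hgen : Subring.closure ((𝒜 0 : Set A) ∪ (𝒜 1 : Set A)) = ⊤) (x : Proj 𝒜) :
    ∃ f : A, f ∈ 𝒜 1 ∧ x ∈ Proj.basicOpen 𝒜 f := by
  by_contra hcon
  push Not at hcon
  have hx : ¬ HomogeneousIdeal.irrelevant 𝒜 ≤ (show ProjectiveSpectrum 𝒜 from x).asHomogeneousIdeal :=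
    (show ProjectiveSpectrum 𝒜 from x).not_irrelevant_le
  apply hx
  intro a ha
  have h0 : GradedRing.projZeroRingHom 𝒜 a = 0 := ha
  have h1 := sub_projZero_mem_span 𝒜 hgen a
  rw [h0, sub_zero] at h1
  refine (Ideal.span_le.2 ?_) h1
  intro f hf
  by_contra hfx
  exact hcon f hf ((Proj.mem_basicOpen 𝒜 f x).2 hfx)

/-- `O(n)` is invertible on `Proj` of a ring generated in degrees `0, 1` -/
theorem isInvertible_grTwist (hgen : Subring.closure ((𝒜 0 : Set A) ∪ (𝒜 1 : Set A)) = ⊤) (n : ℤ) :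
    PicF.IsInvertible (GrTwist.twist 𝒜 n) := by
  intro y
  obtain ⟨f, hf, hyf⟩ := cover_of_closure 𝒜 hgen y
  have h1 := GrTwistGenD.nonempty_restrict_iso 𝒜 hf one_pos n
  have e : n * ((1 : ℕ) : ℤ) = n := by simp
  rw [e] at h1
  exact ⟨Proj.basicOpen 𝒜 f, hyf, h1⟩

end cover

end Groth.Agent.Lib.Helper28.RelTwistLocal

namespace Groth.Agent.Lib.Helper28.RelTwistLocal

open Groth.Agent.Lib.Helper28 Groth.Agent.Lib.Helper28.QCohLoc Groth.Agent.Lib.Helper28.GenLocus

/-- local generators over the points of an open give invertibility of the restriction -/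
theorem isInvertible_restrict_of_isGen {P : Scheme.{u}} (L : P.Modules) (U : P.Opens)
    (h : ∀ z ∈ U, ∃ (W : P.Opens) (g : Γ(L, W)), z ∈ W ∧ IsGen L W g) :
    PicF.IsInvertible (L.restrict U.ι) := by
  refine isInvertible_of_isGen _ fun z => ?_
  obtain ⟨W, g, hz, hg⟩ := h z.1 z.2
  exact ⟨U.ι ⁻¹ᵁ W, (show Γ(L.restrict U.ι, U.ι ⁻¹ᵁ W) from res L (U.ι.image_preimage_le W) g), hz,
    isGen_restrict_of_isGen _ U _ (hg.res _)⟩

section gen

variable {A σ : Type u} [CommRing A] [SetLike σ A] [AddSubgroupClass σ A] (𝒜 : ℕ → σ) [GradedRing 𝒜]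

/-- `O(n)` has a generator over `D₊(f)` when `deg f` divides `n` -/
theorem exists_isGen_grTwist {f : A} {d : ℕ} (hf : f ∈ 𝒜 d) (hd : 0 < d) (n : ℤ) (hn : (d : ℤ) ∣ n) :
    ∃ g : Γ(GrTwist.twist 𝒜 n, Proj.basicOpen 𝒜 f), IsGen (GrTwist.twist 𝒜 n) (Proj.basicOpen 𝒜 f) g := by
  obtain ⟨k, rfl⟩ := hn
  obtain ⟨e⟩ := GrTwistGenD.nonempty_restrict_iso 𝒜 hf hd k
  rw [mul_comm] at e
  obtain ⟨g, hg⟩ := exists_isGen_of_iso (GrTwist.twist 𝒜 ((d : ℤ) * k)) (Proj.basicOpen 𝒜 f) e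
  have key : ∀ (W : (Proj 𝒜).Opens) (hW : W = Proj.basicOpen 𝒜 f) (g : Γ(GrTwist.twist 𝒜 ((d : ℤ) * k), W)),
      IsGen (GrTwist.twist 𝒜 ((d : ℤ) * k)) W g →
      ∃ g' : Γ(GrTwist.twist 𝒜 ((d : ℤ) * k), Proj.basicOpen 𝒜 f),
        IsGen (GrTwist.twist 𝒜 ((d : ℤ) * k)) (Proj.basicOpen 𝒜 f) g' := by
    intro W hW g hg
    subst hW
    exact ⟨g, hg⟩
  exact key _ (Scheme.Opens.ι_image_top _) g hg

end gen

end Groth.Agent.Lib.Helper28.RelTwistLocal
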