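import Groth.Agent.Lib.Helper28.GrTwistGenVal
import Groth.Agent.Lib.Helper28.RelTwistLocal
import Groth.Agent.Lib.Helper28.RelTildeCompat

set_option autoImplicit false
universe u
open CategoryTheory CategoryTheory.Limits AlgebraicGeometry Opposite TopologicalSpace
open scoped HomogeneousIdeal
noncomputable section

namespace Groth.Agent.Lib.Helper28.RelTwistVal

open Groth.Agent.Lib.Helper28 Groth.Agent.Lib.Helper28.QCohLoc Groth.Agent.Lib.Helper28.GenLocus

section projmap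

variable {A σ : Type u} [CommRing A] [SetLike σ A] [AddSubgroupClass σ A] {𝒜 : ℕ → σ} [GradedRing 𝒜]
variable {B τ : Type u} [CommRing B] [SetLike τ B] [AddSubgroupClass τ B] {ℬ : ℕ → τ} [GradedRing ℬ]
variable (ψ : 𝒜 →+*ᵍ ℬ) (hψ : ℬ₊ ≤ (𝒜₊).map ψ)

/-- values of functions pulled back along `Proj.map` -/
theorem valO_map_app (U : (Proj 𝒜).Opens) (c : Γ(Proj 𝒜, U)) (y : Proj ℬ)
    (hy : y ∈ Proj.map ψ hψ ⁻¹ᵁ U) :
    (GrModQC.valO ℬ ((Proj.map ψ hψ).app U c) ⟨y, hy⟩).val =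
      GrTwist.locMap ψ hψ y (GrModQC.valO 𝒜 c ⟨ProjectiveSpectrum.comap ψ hψ y, hy⟩).val := by
  have h1 : GrModQC.valO ℬ ((Proj.map ψ hψ).app U c) ⟨y, hy⟩ =
      HomogeneousLocalization.localRingHom ψ _ _ rfl (GrModQC.valO 𝒜 c ⟨ProjectiveSpectrum.comap ψ hψ y, hy⟩) := rfl
  rw [h1, HomogeneousLocalization.val_localRingHom]
  rfl

variable {P : Scheme.{u}}

/-- values of functions along a morphism factoring through `Proj.map` -/
theorem valO_app_of_comp (E : Proj 𝒜 ⟶ P) (g : Proj ℬ ⟶ P) (he : Proj.map ψ hψ ≫ E = g)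
    (W₁ : P.Opens) (c : Γ(P, W₁)) (y : Proj ℬ) (hy : g.base y ∈ W₁)
    (hy' : E.base (ProjectiveSpectrum.comap ψ hψ y) ∈ W₁) :
    (GrModQC.valO ℬ (g.app W₁ c) ⟨y, hy⟩).val =
      GrTwist.locMap ψ hψ y (GrModQC.valO 𝒜 (E.app W₁ c) ⟨ProjectiveSpectrum.comap ψ hψ y, hy'⟩).val := by
  subst he
  exact valO_map_app ψ hψ (E ⁻¹ᵁ W₁) (E.app W₁ c) y hy'

end projmap


variable {Y P : Scheme.{u}} {𝒮 : RelProj.QCGrAlg Y} {p : P ⟶ Y}
  {chart : ∀ (U : Y.Opens) (hU : IsAffineOpen U), (((p ⁻¹ᵁ U : P.Opens) : Scheme.{u}) ≅ Proj (𝒮.deg U hU))}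

section basic

variable (𝒮) in
/-- the restriction homomorphism to a basic open satisfies Mathlib's hypothesis for `Proj.map` -/
theorem irrelevant_le_map_of_eq {V W : Y.Opens} (hV : IsAffineOpen V) (hW : IsAffineOpen W) (r : Γ(Y, V))
    (e : W = Y.basicOpen r) (hle : W ≤ V) :
    (𝒮.deg W hW)₊ ≤ ((𝒮.deg V hV)₊).map (𝒮.res hV hW hle) := by
  subst e
  exact 𝒮.irrelevant_le_map V hV r

variable (hP : RelProj.IsRelProj 𝒮 p chart)

include hP in
theorem emb_eq_of_eq {V W : Y.Opens} (hV : IsAffineOpen V) (hW : IsAffineOpen W) (r : Γ(Y, V))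
    (e : W = Y.basicOpen r) (hle : W ≤ V) (y : Proj (𝒮.deg W hW)) :
    (RelProj.emb p chart W hW).base y =
      (RelProj.emb p chart V hV).base (ProjectiveSpectrum.comap (𝒮.res hV hW hle)
        (irrelevant_le_map_of_eq 𝒮 hV hW r e hle) y) := by
  subst e
  exact RelProjQC.emb_basic_apply hP V hV r y

include hP in
/-- values of functions on `P` read on a chart and on a basic open of it -/
theorem valO_basic {V W : Y.Opens} (hV : IsAffineOpen V) (hW : IsAffineOpen W) (r : Γ(Y, V))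
    (e : W = Y.basicOpen r) (hle : W ≤ V) (W₁ : P.Opens) (c : Γ(P, W₁)) (y : Proj (𝒮.deg W hW))
    (hy : (RelProj.emb p chart W hW).base y ∈ W₁)
    (hy' : (RelProj.emb p chart V hV).base (ProjectiveSpectrum.comap (𝒮.res hV hW hle)
        (irrelevant_le_map_of_eq 𝒮 hV hW r e hle) y) ∈ W₁) :
    (GrModQC.valO (𝒮.deg W hW) ((RelProj.emb p chart W hW).app W₁ c) ⟨y, hy⟩).val =
      GrTwist.locMap (𝒮.res hV hW hle) (irrelevant_le_map_of_eq 𝒮 hV hW r e hle) y
        (GrModQC.valO (𝒮.deg V hV) ((RelProj.emb p chart V hV).app W₁ c) ⟨_, hy'⟩).val := by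
  subst e
  exact valO_app_of_comp _ _ (RelProj.emb p chart V hV) (RelProj.emb p chart _ _)
    (RelProj.map_res_emb hP V hV r) W₁ c y hy hy'

variable {κ : ℤ} {L : P.Modules}
  {lam : ∀ (U : Y.Opens) (hU : IsAffineOpen U),
    L ⟶ (Scheme.Modules.pushforward (RelProj.emb p chart U hU)).obj (GrTwist.twist (𝒮.deg U hU) κ)}
  (hL : RelProj.IsRelTwist 𝒮 p chart κ L lam)

include hL in
/-- values of sections of `O_P(κ)` read on a chart and on a basic open of it -/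
theorem val_basic {V W : Y.Opens} (hV : IsAffineOpen V) (hW : IsAffineOpen W) (r : Γ(Y, V))
    (e : W = Y.basicOpen r) (hle : W ≤ V) (W₁ : P.Opens) (s : Γ(L, W₁)) (y : Proj (𝒮.deg W hW))
    (hy : (RelProj.emb p chart W hW).base y ∈ W₁)
    (hy' : (RelProj.emb p chart V hV).base (ProjectiveSpectrum.comap (𝒮.res hV hW hle)
        (irrelevant_le_map_of_eq 𝒮 hV hW r e hle) y) ∈ W₁) :
    GrTwist.val (V := RelProj.emb p chart W hW ⁻¹ᵁ W₁) ((lam W hW).app W₁ s) ⟨y, hy⟩ =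
      GrTwist.locMap (𝒮.res hV hW hle) (irrelevant_le_map_of_eq 𝒮 hV hW r e hle) y
        (GrTwist.val (V := RelProj.emb p chart V hV ⁻¹ᵁ W₁) ((lam V hV).app W₁ s) ⟨_, hy'⟩) := by
  subst e
  exact hL.compat V hV r W₁ s y hy hy'

end basic


section transfer

variable {P Q : Scheme.{u}} (e : Q ⟶ P) [IsOpenImmersion e] (L : P.Modules) (N : Q.Modules)
  (lam : L ⟶ (Scheme.Modules.pushforward e).obj N)

/-- a generator on a chart gives a generator of `L` over the image, with the same reading -/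
theorem exists_gen_of_chart (hbij : ∀ W : P.Opens, W ≤ e.opensRange → Function.Bijective (lam.app W))
    (U' : Q.Opens) (γ' : Γ(N, U')) (hγ' : IsGen N U' γ') :
    ∃ g : Γ(L, e ''ᵁ U'), IsGen L (e ''ᵁ U') g ∧
      lam.app (e ''ᵁ U') g = res N (le_of_eq (Scheme.Hom.preimage_image_eq e U')) γ' := by
  have hle : e ''ᵁ U' ≤ e.opensRange := by
    rintro _ ⟨z, -, rfl⟩
    exact ⟨z, rfl⟩
  have hpre : e ⁻¹ᵁ (e ''ᵁ U') = U' := Scheme.Hom.preimage_image_eq e U'
  have hγ'' : IsGen N (e ⁻¹ᵁ (e ''ᵁ U')) (res N (le_of_eq hpre) γ') := hγ'.res _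
  obtain ⟨g, hg⟩ := (hbij (e ''ᵁ U') hle).surjective (res N (le_of_eq hpre) γ')
  refine ⟨g, ?_, hg⟩
  refine RelTwistLocal.isGen_of_chart e L N lam _ hle (fun W hW => hbij W (hW.trans hle)) g ?_
  rw [hg]
  exact hγ''

end transfer

section values

variable {κ : ℤ} {L : P.Modules}
  (lam : ∀ (U : Y.Opens) (hU : IsAffineOpen U),
    L ⟶ (Scheme.Modules.pushforward (RelProj.emb p chart U hU)).obj (GrTwist.twist (𝒮.deg U hU) κ))

/-- the value of a section of `O_P(κ)` at a point of a chart -/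
def cv {W : Y.Opens} (hW : IsAffineOpen W) {W₁ : P.Opens} (s : Γ(L, W₁)) (y : Proj (𝒮.deg W hW))
    (hy : (RelProj.emb p chart W hW).base y ∈ W₁) : GrTwist.Loc (𝒮.deg W hW) y :=
  GrTwist.val (V := RelProj.emb p chart W hW ⁻¹ᵁ W₁) ((lam W hW).app W₁ s) ⟨y, hy⟩

variable (p chart) in
/-- the value of a function on `P` at a point of a chart -/
def cvO {W : Y.Opens} (hW : IsAffineOpen W) {W₁ : P.Opens} (c : Γ(P, W₁)) (y : Proj (𝒮.deg W hW))
    (hy : (RelProj.emb p chart W hW).base y ∈ W₁) : GrTwist.Loc (𝒮.deg W hW) y :=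
  (GrModQC.valO (𝒮.deg W hW) ((RelProj.emb p chart W hW).app W₁ c) ⟨y, hy⟩).val

theorem cv_res {W : Y.Opens} (hW : IsAffineOpen W) {W₁ W₂ : P.Opens} (h : W₂ ≤ W₁) (s : Γ(L, W₁))
    (y : Proj (𝒮.deg W hW)) (hy : (RelProj.emb p chart W hW).base y ∈ W₂) :
    cv lam hW (res L h s) y hy = cv lam hW s y (h hy) := by
  unfold cv
  rw [lam_res]
  rfl

theorem cv_smul {W : Y.Opens} (hW : IsAffineOpen W) {W₁ : P.Opens} (c : Γ(P, W₁)) (s : Γ(L, W₁))
    (y : Proj (𝒮.deg W hW)) (hy : (RelProj.emb p chart W hW).base y ∈ W₁) :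
    cv lam hW (c • s) y hy = cvO p chart hW c y hy * cv lam hW s y hy := by
  unfold cv cvO
  rw [lam_smul]
  exact GrTwistQC.val_smul _ _ _ _

theorem cvO_mul {W : Y.Opens} (hW : IsAffineOpen W) {W₁ : P.Opens} (c c' : Γ(P, W₁))
    (y : Proj (𝒮.deg W hW)) (hy : (RelProj.emb p chart W hW).base y ∈ W₁) :
    cvO p chart hW (c * c') y hy = cvO p chart hW c y hy * cvO p chart hW c' y hy := by
  unfold cvO
  rw [map_mul]
  exact HomogeneousLocalization.val_mul _ _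

theorem cvO_one {W : Y.Opens} (hW : IsAffineOpen W) {W₁ : P.Opens}
    (y : Proj (𝒮.deg W hW)) (hy : (RelProj.emb p chart W hW).base y ∈ W₁) :
    cvO p chart hW (1 : Γ(P, W₁)) y hy = 1 := by
  unfold cvO
  rw [map_one]
  exact HomogeneousLocalization.val_one

theorem cvO_resO {W : Y.Opens} (hW : IsAffineOpen W) {W₁ W₂ : P.Opens} (h : W₂ ≤ W₁) (c : Γ(P, W₁))
    (y : Proj (𝒮.deg W hW)) (hy : (RelProj.emb p chart W hW).base y ∈ W₂) :
    cvO p chart hW (resO h c) y hy = cvO p chart hW c y (h hy) := by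
  unfold cvO
  rw [app_resO]
  rfl

end values


section locpw

variable {A σ : Type u} [CommRing A] [SetLike σ A] [AddSubgroupClass σ A] {𝒜 : ℕ → σ} [GradedRing 𝒜]
variable {B τ : Type u} [CommRing B] [SetLike τ B] [AddSubgroupClass τ B] {ℬ : ℕ → τ} [GradedRing ℬ]
variable (ψ : 𝒜 →+*ᵍ ℬ) (hψ : ℬ₊ ≤ (𝒜₊).map ψ)

theorem locMap_pw (y : ProjectiveSpectrum ℬ) (f : A)
    (hf : f ∉ (ProjectiveSpectrum.comap ψ hψ y).asHomogeneousIdeal) (hf' : ψ f ∉ y.asHomogeneousIdeal) (n : ℤ) :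
    GrTwist.locMap ψ hψ y (GrTwistGenVal.pw 𝒜 (ProjectiveSpectrum.comap ψ hψ y) f hf n) =
      GrTwistGenVal.pw ℬ y (ψ f) hf' n := by
  unfold GrTwistGenVal.pw
  rw [GrTwist.locMap_mk]
  simp only [map_pow]

theorem not_mem_comap_iff (y : ProjectiveSpectrum ℬ) (f : A) :
    f ∉ (ProjectiveSpectrum.comap ψ hψ y).asHomogeneousIdeal ↔ ψ f ∉ y.asHomogeneousIdeal := Iff.rfl

end locpw

section ext

variable {κ : ℤ} {L : P.Modules}
  {lam : ∀ (U : Y.Opens) (hU : IsAffineOpen U),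
    L ⟶ (Scheme.Modules.pushforward (RelProj.emb p chart U hU)).obj (GrTwist.twist (𝒮.deg U hU) κ)}
  (hL : RelProj.IsRelTwist 𝒮 p chart κ L lam)

include hL in
/-- sections of `O_P(κ)` over an open lying over an affine open are determined by their chart values -/
theorem ext_cv {W : Y.Opens} (hW : IsAffineOpen W) {W₁ : P.Opens} (hle : W₁ ≤ p ⁻¹ᵁ W) (s t : Γ(L, W₁))
    (h : ∀ (y : Proj (𝒮.deg W hW)) (hy : (RelProj.emb p chart W hW).base y ∈ W₁),
      cv lam hW s y hy = cv lam hW t y hy) : s = t := by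
  apply (hL.bijective W hW W₁ hle).1
  exact GrTwistQC.ext_val _ _ _ fun x => h x.1 x.2

include hL in
/-- sections over an open lying over two affine opens are determined by their values on the charts over the opens
basic in both -/
theorem eq_of_basic_cover {V V' : Y.Opens} (hV : IsAffineOpen V) (hV' : IsAffineOpen V') {T : P.Opens}
    (hT : T ≤ p ⁻¹ᵁ V) (hT' : T ≤ p ⁻¹ᵁ V') (s t : Γ(L, T))
    (h : ∀ (W : Y.Opens) (hW : IsAffineOpen W) (r : Γ(Y, V)) (r' : Γ(Y, V')) (_ : W = Y.basicOpen r)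
      (_ : W = Y.basicOpen r') (y : Proj (𝒮.deg W hW)) (hy : (RelProj.emb p chart W hW).base y ∈ T),
      cv lam hW s y hy = cv lam hW t y hy) : s = t := by
  have hpt : ∀ q : T, ∃ (T' : P.Opens) (hT'' : T' ≤ T), q.1 ∈ T' ∧ res L hT'' s = res L hT'' t := by
    intro q
    obtain ⟨f, g, hfg, hq⟩ := exists_basicOpen_le_affine_inter hV hV' (p.base q.1) ⟨hT q.2, hT' q.2⟩
    refine ⟨T ⊓ p ⁻¹ᵁ (Y.basicOpen f), inf_le_left, ⟨q.2, hq⟩, ?_⟩
    refine ext_cv hL (hV.basicOpen f) inf_le_right _ _ fun y hy => ?_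
    rw [cv_res, cv_res]
    exact h _ (hV.basicOpen f) f g rfl hfg y hy.1
  choose T' hT'' hqT hres using hpt
  refine eq_of_locally_eq L T' T hT'' ?_ _ _ hres
  intro q hq
  exact Opens.mem_iSup.mpr ⟨⟨q, hq⟩, hqT ⟨q, hq⟩⟩

end ext

section reads

variable {κ : ℤ} {L : P.Modules}
  (lam : ∀ (U : Y.Opens) (hU : IsAffineOpen U),
    L ⟶ (Scheme.Modules.pushforward (RelProj.emb p chart U hU)).obj (GrTwist.twist (𝒮.deg U hU) κ))

/-- the section `g` reads as the fraction `F^n` on the chart over `V` -/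
def Reads {V : Y.Opens} (hV : IsAffineOpen V) {T : P.Opens} (g : Γ(L, T)) (F : 𝒮.presheaf.obj (op V)) (n : ℤ) :
    Prop :=
  ∀ (z : Proj (𝒮.deg V hV)) (hz : (RelProj.emb p chart V hV).base z ∈ T),
    ∃ hFz : F ∉ z.asHomogeneousIdeal, cv lam hV g z hz = GrTwistGenVal.pw (𝒮.deg V hV) z F hFz n

variable {lam}

theorem Reads.res {V : Y.Opens} {hV : IsAffineOpen V} {T T' : P.Opens} {g : Γ(L, T)}
    {F : 𝒮.presheaf.obj (op V)} {n : ℤ} (h : Reads lam hV g F n) (hT : T' ≤ T) :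
    Reads lam hV (res L hT g) F n := by
  intro z hz
  obtain ⟨hFz, hval⟩ := h z (hT hz)
  exact ⟨hFz, by rw [cv_res, hval]⟩

variable (hP : RelProj.IsRelProj 𝒮 p chart) (hL : RelProj.IsRelTwist 𝒮 p chart κ L lam)

include hP hL in
theorem Reads.basic {V W : Y.Opens} {hV : IsAffineOpen V} (hW : IsAffineOpen W) (r : Γ(Y, V))
    (e : W = Y.basicOpen r) (hle : W ≤ V) {T : P.Opens} {g : Γ(L, T)}
    {F : 𝒮.presheaf.obj (op V)} {n : ℤ} (h : Reads lam hV g F n) :
    Reads lam hW g (𝒮.res hV hW hle F) n := by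
  intro y hy
  have hy' : (RelProj.emb p chart V hV).base (ProjectiveSpectrum.comap (𝒮.res hV hW hle)
        (irrelevant_le_map_of_eq 𝒮 hV hW r e hle) y) ∈ T := by
    rw [← emb_eq_of_eq hP hV hW r e hle y]; exact hy
  obtain ⟨hFz, hval⟩ := h _ hy'
  refine ⟨hFz, ?_⟩
  unfold cv at hval ⊢
  rw [val_basic hL hV hW r e hle T g y hy hy', hval]
  exact locMap_pw _ _ y F hFz hFz n

end reads


section gens

variable {κ : ℤ} {L : P.Modules}
  {lam : ∀ (U : Y.Opens) (hU : IsAffineOpen U),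
    L ⟶ (Scheme.Modules.pushforward (RelProj.emb p chart U hU)).obj (GrTwist.twist (𝒮.deg U hU) κ)}
  (hL : RelProj.IsRelTwist 𝒮 p chart κ L lam)

include hL in
/-- the generator `F^n` of `O_P(nd)` over the image of `D₊(F)`, `F` of degree `d > 0` over the affine open `V` -/
theorem exists_gen_reads {V : Y.Opens} (hV : IsAffineOpen V) {F : 𝒮.presheaf.obj (op V)} {d : ℕ}
    (hF : F ∈ 𝒮.deg V hV d) (hd : 0 < d) (n : ℤ) (hκ : κ = n * d) :
    ∃ g : Γ(L, RelProj.emb p chart V hV ''ᵁ Proj.basicOpen (𝒮.deg V hV) F),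
      IsGen L (RelProj.emb p chart V hV ''ᵁ Proj.basicOpen (𝒮.deg V hV) F) g ∧ Reads lam hV g F n := by
  obtain ⟨γ, hγval, hγgen⟩ := GrTwistGenVal.exists_generator (𝒮.deg V hV) hF hd κ n hκ
  obtain ⟨g, hg, hlg⟩ := exists_gen_of_chart (RelProj.emb p chart V hV) L (GrTwist.twist (𝒮.deg V hV) κ)
    (lam V hV)
    (fun W hW => hL.bijective V hV W (hW.trans (RelProjQC.opensRange_emb p chart V hV).le))
    (Proj.basicOpen (𝒮.deg V hV) F) γ hγgen
  refine ⟨g, hg, fun z hz => ?_⟩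
  have hzF : z ∈ Proj.basicOpen (𝒮.deg V hV) F := by
    obtain ⟨z', hz', hzz'⟩ := hz
    have : z' = z := (RelProj.emb p chart V hV).isOpenEmbedding.injective hzz'
    rwa [← this]
  refine ⟨(Proj.mem_basicOpen _ F z).1 hzF, ?_⟩
  unfold cv
  rw [hlg]
  exact hγval ⟨z, hzF⟩

include hL in
/-- `exists_gen_reads` over an open given up to equality -/
theorem exists_gen_reads' {V : Y.Opens} (hV : IsAffineOpen V) {F : 𝒮.presheaf.obj (op V)} {d : ℕ}
    (hF : F ∈ 𝒮.deg V hV d) (hd : 0 < d) (n : ℤ) (hκ : κ = n * d) (T : P.Opens)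
    (hT : T = RelProj.emb p chart V hV ''ᵁ Proj.basicOpen (𝒮.deg V hV) F) :
    ∃ g : Γ(L, T), IsGen L T g ∧ Reads lam hV g F n := by
  subst hT
  exact exists_gen_reads hL hV hF hd n hκ

end gens

section extfn

/-- functions over an open lying over an affine open are determined by their chart values -/
theorem ext_cvO {W : Y.Opens} (hW : IsAffineOpen W) {W₁ : P.Opens} (hle : W₁ ≤ p ⁻¹ᵁ W) (c c' : Γ(P, W₁))
    (h : ∀ (y : Proj (𝒮.deg W hW)) (hy : (RelProj.emb p chart W hW).base y ∈ W₁),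
      cvO p chart hW c y hy = cvO p chart hW c' y hy) : c = c' := by
  have hiso : IsIso ((RelProj.emb p chart W hW).app W₁) :=
    Scheme.Hom.isIso_app _ W₁ (hle.trans (RelProjQC.opensRange_emb p chart W hW).ge)
  have hinj : Function.Injective ((RelProj.emb p chart W hW).app W₁).hom :=
    (ConcreteCategory.bijective_of_isIso ((RelProj.emb p chart W hW).app W₁)).1
  apply hinj
  exact GrTwistGenD.valO_ext _ _ _ fun x => h x.1 x.2

/-- functions over an open lying over two affine opens are determined by their values on the charts over the opens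
basic in both -/
theorem eq_of_basic_cover_fn {V V' : Y.Opens} (hV : IsAffineOpen V) (hV' : IsAffineOpen V') {T : P.Opens}
    (hT : T ≤ p ⁻¹ᵁ V) (hT' : T ≤ p ⁻¹ᵁ V') (c c' : Γ(P, T))
    (h : ∀ (W : Y.Opens) (hW : IsAffineOpen W) (r : Γ(Y, V)) (r' : Γ(Y, V')) (_ : W = Y.basicOpen r)
      (_ : W = Y.basicOpen r') (y : Proj (𝒮.deg W hW)) (hy : (RelProj.emb p chart W hW).base y ∈ T),
      cvO p chart hW c y hy = cvO p chart hW c' y hy) : c = c' := by
  have hpt : ∀ q : T, ∃ (T' : P.Opens) (hT'' : T' ≤ T), q.1 ∈ T' ∧ resO hT'' c = resO hT'' c' := by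
    intro q
    obtain ⟨f, g, hfg, hq⟩ := exists_basicOpen_le_affine_inter hV hV' (p.base q.1) ⟨hT q.2, hT' q.2⟩
    refine ⟨T ⊓ p ⁻¹ᵁ (Y.basicOpen f), inf_le_left, ⟨q.2, hq⟩, ?_⟩
    refine ext_cvO (𝒮 := 𝒮) (chart := chart) (hV.basicOpen f) inf_le_right _ _ fun y hy => ?_
    rw [cvO_resO, cvO_resO]
    exact h _ (hV.basicOpen f) f g rfl hfg y hy.1
  choose T' hT'' hqT hres using hpt
  refine eq_of_locally_eq (Coh.structureModule P) T' T hT'' ?_ c c' hres
  intro q hq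
  exact Opens.mem_iSup.mpr ⟨⟨q, hq⟩, hqT ⟨q, hq⟩⟩

/-- membership in the basic open of a function on `P`, read on a chart -/
theorem mem_basicOpen_iff_isUnit_cvO {W : Y.Opens} (hW : IsAffineOpen W) {W₁ : P.Opens} (c : Γ(P, W₁))
    (y : Proj (𝒮.deg W hW)) (hy : (RelProj.emb p chart W hW).base y ∈ W₁) :
    (RelProj.emb p chart W hW).base y ∈ P.basicOpen c ↔ IsUnit (cvO p chart hW c y hy) := by
  have h1 : RelProj.emb p chart W hW ⁻¹ᵁ P.basicOpen c =
      (Proj (𝒮.deg W hW)).basicOpen ((RelProj.emb p chart W hW).app W₁ c) :=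
    Scheme.preimage_basicOpen (RelProj.emb p chart W hW) c
  have h2 : (RelProj.emb p chart W hW).base y ∈ P.basicOpen c ↔
      y ∈ (Proj (𝒮.deg W hW)).basicOpen ((RelProj.emb p chart W hW).app W₁ c) := by
    rw [← h1]; rfl
  rw [h2, GrModQC.mem_basicOpen_iff]
  unfold cvO
  constructor
  · rintro ⟨_, hu⟩
    exact (HomogeneousLocalization.isUnit_iff_isUnit_val _ _ _).2 hu
  · intro hu
    exact ⟨hy, (HomogeneousLocalization.isUnit_iff_isUnit_val _ _ _).1 hu⟩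

end extfn

section glue

variable {X : Scheme.{u}} (L : X.Modules)

/-- local generators agreeing on the overlaps glue to a generator -/
theorem exists_glued_generator (U : X.Opens) {ι : Type*} (Ui : ι → X.Opens) (hUi : ∀ i, Ui i ≤ U)
    (hcov : U ≤ iSup Ui) (g : ∀ i, Γ(L, Ui i)) (hg : ∀ i, IsGen L (Ui i) (g i))
    (hcompat : ∀ i j, res L (inf_le_left : Ui i ⊓ Ui j ≤ Ui i) (g i) =
      res L (inf_le_right : Ui i ⊓ Ui j ≤ Ui j) (g j)) :
    ∃ σ : Γ(L, U), IsGen L U σ ∧ ∀ i, res L (hUi i) σ = g i := by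
  obtain ⟨σ, hσ⟩ := exists_gluing L Ui U hUi hcov g hcompat
  refine ⟨σ, ?_, hσ⟩
  refine GrTwistGenVal.isGen_of_bijective_on_basis L U σ (fun W => ∃ i, W ≤ Ui i) ?_ ?_
  · intro V x hxV hVU
    obtain ⟨i, hi⟩ := Opens.mem_iSup.1 (hcov (hVU hxV))
    exact ⟨V ⊓ Ui i, ⟨i, inf_le_right⟩, ⟨hxV, hi⟩, inf_le_left⟩
  · rintro W hW ⟨i, hWi⟩
    have h1 : res L hW σ = res L hWi (g i) := by rw [← hσ i, res_res]
    rw [h1]
    exact hg i W hWi

theorem nonempty_restrict_iso_of_isGen (U : X.Opens) (σ : Γ(L, U)) (hσ : IsGen L U σ) :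
    Nonempty (L.restrict U.ι ≅ Coh.structureModule (↑U)) :=
  InvGen.nonempty_restrict_iso_of_generator L U σ (fun _ => True)
    (fun V _ hx _ => ⟨V, trivial, hx, le_rfl⟩) (fun W hW _ => hσ W hW)

end glue

end Groth.Agent.Lib.Helper28.RelTwistVal
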