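import Groth.Agent.Lib.Helper28.SecPow
import Groth.Agent.Lib.Helper28.AmpleIso

/-!
# Ampleness of tensor powers and tensor products
-/

set_option autoImplicit false
universe u
open CategoryTheory CategoryTheory.Limits AlgebraicGeometry Opposite TopologicalSpace
noncomputable section

namespace Groth.Agent.Lib.Helper28.GenLocus

open Groth.Agent.Lib.Helper28 Groth.Agent.Lib.Helper28.QCohLoc Groth.Agent.Lib.Helper28.TensorGen
  Groth.Agent.Lib.Helper28.InvTensor Groth.Agent.Lib.Helper28.AmpleUnit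

variable {X : Scheme.{u}}

/-- a power of an ample module is ample -/
theorem isAmple_tensorPow {L : X.Modules} (h : CohB1.IsAmple L) (n : ℕ) (hn : 0 < n) :
    CohB1.IsAmple (CohB1.tensorPow L n) := by
  obtain ⟨hL, hc, h⟩ := h
  refine ⟨isInvertible_tensorPow hL n, hc, fun x => ?_⟩
  obtain ⟨m, s, hxs, haff⟩ := h x
  obtain ⟨ψ₁, -⟩ := exists_tensorPow_tensorPow_iso hL (m + 1) n ((m + 1) * n) rfl
  obtain ⟨ψ₂, -⟩ := exists_tensorPow_tensorPow_iso hL n (m + 1) ((m + 1) * n) (mul_comm _ _)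
  have h1 : CohB1.genLocus _ ((spow s n ≫ ψ₁.hom) ≫ ψ₂.inv) = CohB1.genLocus _ s := by
    refine (genLocus_comp_iso (spow s n ≫ ψ₁.hom) ψ₂.symm).trans ?_
    rw [genLocus_comp_iso _ ψ₁, genLocus_spow (isInvertible_tensorPow hL (m + 1)) s n hn]
  refine ⟨m, (spow s n ≫ ψ₁.hom) ≫ ψ₂.inv, ?_⟩
  rw [h1]
  exact ⟨hxs, haff⟩

/-- an invertible module with an ample power is ample -/
theorem isAmple_of_isAmple_tensorPow {L : X.Modules} (hL : PicF.IsInvertible L) (n : ℕ) (hn : 0 < n)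
    (h : CohB1.IsAmple (CohB1.tensorPow L n)) : CohB1.IsAmple L := by
  obtain ⟨-, hc, h⟩ := h
  refine ⟨hL, hc, fun x => ?_⟩
  obtain ⟨m, s, hxs, haff⟩ := h x
  obtain ⟨n', rfl⟩ := Nat.exists_eq_succ_of_ne_zero hn.ne'
  obtain ⟨ψ, -⟩ := exists_tensorPow_tensorPow_iso hL (n' + 1) (m + 1) ((n' * (m + 1) + m) + 1) (by ring)
  refine ⟨n' * (m + 1) + m, s ≫ ψ.hom, ?_⟩
  rw [genLocus_comp_iso _ ψ]
  exact ⟨hxs, haff⟩

theorem isAmple_tensorPow_iff {L : X.Modules} (hL : PicF.IsInvertible L) (n : ℕ) (hn : 0 < n) :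
    CohB1.IsAmple L ↔ CohB1.IsAmple (CohB1.tensorPow L n) :=
  ⟨fun h => isAmple_tensorPow h n hn, isAmple_of_isAmple_tensorPow hL n hn⟩

/-- the product of an ample module with an invertible module covered by the loci of its sections is ample -/
theorem isAmple_tensorMod_of_cover {L L' : X.Modules} (hL : CohB1.IsAmple L) (hL' : PicF.IsInvertible L')
    (h' : ∀ x : X, ∃ (n : ℕ) (s' : Coh.structureModule X ⟶ CohB1.tensorPow L' (n + 1)),
      x ∈ CohB1.genLocus _ s') :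
    CohB1.IsAmple (CohB1.tensorMod L L') := by
  obtain ⟨hL, hc, h⟩ := hL
  refine ⟨isInvertible_tensorMod hL hL', hc, fun x => ?_⟩
  obtain ⟨m, s, hxs, haff⟩ := h x
  obtain ⟨n, s', hxs'⟩ := h' x
  obtain ⟨ψ₁, -⟩ := exists_tensorPow_tensorPow_iso hL (m + 1) (n + 1) ((m * (n + 1) + n) + 1) (by ring)
  obtain ⟨ψ₂, -⟩ := exists_tensorPow_tensorPow_iso hL' (n + 1) (m + 1) ((m * (n + 1) + n) + 1) (by ring)
  obtain ⟨ψ₃, -⟩ := exists_tensorPow_tensorMod_iso hL hL' ((m * (n + 1) + n) + 1)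
  let t := smulSec (spow s (n + 1)) (spow s' (m + 1))
  have h1 : CohB1.genLocus _ ((t ≫ (PicGrp.tensorModIso ψ₁ ψ₂).hom) ≫ ψ₃.inv) =
      CohB1.genLocus _ s ⊓ CohB1.genLocus _ s' := by
    refine (genLocus_comp_iso (t ≫ (PicGrp.tensorModIso ψ₁ ψ₂).hom) ψ₃.symm).trans ?_
    rw [genLocus_comp_iso _ (PicGrp.tensorModIso ψ₁ ψ₂),
      genLocus_smulSec (isInvertible_tensorPow (isInvertible_tensorPow hL (m + 1)) (n + 1))
        (isInvertible_tensorPow (isInvertible_tensorPow hL' (n + 1)) (m + 1)),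
      genLocus_spow (isInvertible_tensorPow hL (m + 1)) s (n + 1) (Nat.succ_pos n),
      genLocus_spow (isInvertible_tensorPow hL' (n + 1)) s' (m + 1) (Nat.succ_pos m)]
  refine ⟨m * (n + 1) + n, (t ≫ (PicGrp.tensorModIso ψ₁ ψ₂).hom) ≫ ψ₃.inv, ?_⟩
  rw [h1]
  refine ⟨⟨hxs, hxs'⟩, ?_⟩
  rw [inf_comm]
  exact isAffineOpen_genLocus_inf (isInvertible_tensorPow hL' (n + 1)) s' haff

/-- the product of two ample modules is ample -/
theorem isAmple_tensorMod {L L' : X.Modules} (hL : CohB1.IsAmple L) (hL' : CohB1.IsAmple L') :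
    CohB1.IsAmple (CohB1.tensorMod L L') :=
  isAmple_tensorMod_of_cover hL hL'.1 fun x => by
    obtain ⟨n, s', hx, -⟩ := hL'.2.2 x
    exact ⟨n, s', hx⟩

end Groth.Agent.Lib.Helper28.GenLocus
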