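import Groth.Agent.Lib.Helper28.AmpleGG

/-!
# Sums of global sections of an invertible module and the loci where they generate
-/

set_option autoImplicit false
universe u
open CategoryTheory CategoryTheory.Limits AlgebraicGeometry Opposite TopologicalSpace
noncomputable section

namespace Groth.Agent.Lib.Helper28.GenLocus

open Groth.Agent.Lib.Helper28 Groth.Agent.Lib.Helper28.QCohLoc Groth.Agent.Lib.Helper28.TensorGen
  Groth.Agent.Lib.Helper28.InvTensor Groth.Agent.Lib.Helper28.AmpleUnit Groth.Agent.Lib.Helper28.TwistAmple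

variable {X : Scheme.{u}} {M : X.Modules}

theorem secOf_add (f g : Coh.structureModule X ⟶ M) : secOf (f + g) = secOf f + secOf g := rfl

theorem secOf_zero : secOf (0 : Coh.structureModule X ⟶ M) = 0 := rfl

/-- local description of the loci of `f`, `g`, `f + g` near a point -/
theorem exists_local_coeffs (hM : PicF.IsInvertible M) (f g : Coh.structureModule X ⟶ M) (x : X) :
    ∃ (W : X.Opens) (α β : Γ(X, W)), x ∈ W ∧ CohB1.genLocus M f ⊓ W = X.basicOpen α ∧
      CohB1.genLocus M g ⊓ W = X.basicOpen β ∧ CohB1.genLocus M (f + g) ⊓ W = X.basicOpen (α + β) := by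
  obtain ⟨W, γ, hxW, hγ⟩ := exists_isGen M hM x
  refine ⟨W, hγ.coef le_rfl (res M le_top (secOf f)), hγ.coef le_rfl (res M le_top (secOf g)), hxW,
    genLocus_inf_eq_coef f W γ hγ, genLocus_inf_eq_coef g W γ hγ, ?_⟩
  rw [genLocus_inf_eq_coef (f + g) W γ hγ, secOf_add, res_add, hγ.coef_add]

theorem genLocus_add_le (hM : PicF.IsInvertible M) (f g : Coh.structureModule X ⟶ M) :
    CohB1.genLocus M (f + g) ≤ CohB1.genLocus M f ⊔ CohB1.genLocus M g := by
  intro x hx
  obtain ⟨W, α, β, hxW, h1, h2, h3⟩ := exists_local_coeffs hM f g x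
  have hx' : x ∈ X.basicOpen (α + β) := h3 ▸ ⟨hx, hxW⟩
  rcases X.basicOpen_add_le (f := α) (g := β) hx' with h | h
  · exact Or.inl ((h1 ▸ h : x ∈ CohB1.genLocus M f ⊓ W).1)
  · exact Or.inr ((h2 ▸ h : x ∈ CohB1.genLocus M g ⊓ W).1)

theorem mem_genLocus_add (hM : PicF.IsInvertible M) (f g : Coh.structureModule X ⟶ M) (x : X)
    (hf : x ∈ CohB1.genLocus M f) (hg : x ∉ CohB1.genLocus M g) : x ∈ CohB1.genLocus M (f + g) := by
  obtain ⟨W, α, β, hxW, h1, h2, h3⟩ := exists_local_coeffs hM f g x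
  have hα : x ∈ X.basicOpen α := h1 ▸ ⟨hf, hxW⟩
  have hβ : x ∉ X.basicOpen β := fun h => hg ((h2 ▸ h : x ∈ CohB1.genLocus M g ⊓ W).1)
  have e : α = (α + β) + (-1) * β := by ring
  rw [e] at hα
  rcases X.basicOpen_add_le (f := α + β) (g := (-1) * β) hα with h | h
  · exact ((h3 ▸ h : x ∈ CohB1.genLocus M (f + g) ⊓ W)).1
  · rw [Scheme.basicOpen_mul] at h
    exact absurd h.2 hβ

theorem mem_genLocus_add' (hM : PicF.IsInvertible M) (f g : Coh.structureModule X ⟶ M) (x : X)
    (hf : x ∉ CohB1.genLocus M f) (hg : x ∈ CohB1.genLocus M g) : x ∈ CohB1.genLocus M (f + g) := by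
  rw [add_comm]
  exact mem_genLocus_add hM g f x hg hf

/-- if `X_f` and `X_g` are affine, so is `X_{f+g}` -/
theorem isAffineOpen_genLocus_add (hM : PicF.IsInvertible M) (f g : Coh.structureModule X ⟶ M)
    (hf : IsAffineOpen (CohB1.genLocus M f)) (hg : IsAffineOpen (CohB1.genLocus M g)) :
    IsAffineOpen (CohB1.genLocus M (f + g)) := by
  have hgen := isGen_genLocus (f + g)
  let u : Γ(X, CohB1.genLocus M (f + g)) := hgen.coef le_rfl (res M le_top (secOf f))
  let v : Γ(X, CohB1.genLocus M (f + g)) := hgen.coef le_rfl (res M le_top (secOf g))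
  have huv : u + v = 1 := by
    show hgen.coef le_rfl (res M le_top (secOf f)) + hgen.coef le_rfl (res M le_top (secOf g)) = 1
    rw [← hgen.coef_add, ← res_add, ← secOf_add]
    exact hgen.coef_self
  have hu : X.basicOpen u = CohB1.genLocus M f ⊓ CohB1.genLocus M (f + g) :=
    (genLocus_inf_eq_coef f _ _ hgen).symm
  have hv : X.basicOpen v = CohB1.genLocus M g ⊓ CohB1.genLocus M (f + g) :=
    (genLocus_inf_eq_coef g _ _ hgen).symm
  refine isAffineOpen_of_isAffineOpen_basicOpen _ {u, v} ?_ ?_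
  · rw [Ideal.eq_top_iff_one, ← huv]
    exact add_mem (Ideal.subset_span (Set.mem_insert _ _)) (Ideal.subset_span (Set.mem_insert_of_mem _ rfl))
  · rintro w (rfl | rfl)
    · rw [hu, inf_comm]
      exact isAffineOpen_genLocus_inf hM (f + g) hf
    · rw [hv, inf_comm]
      exact isAffineOpen_genLocus_inf hM (f + g) hg

/-- the zero section generates nowhere -/
theorem genLocus_zero (hM : PicF.IsInvertible M) : CohB1.genLocus M (0 : Coh.structureModule X ⟶ M) = ⊥ := by
  rw [eq_bot_iff]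
  intro x hx
  obtain ⟨W, γ, hxW, hγ⟩ := exists_isGen M hM x
  have h1 := genLocus_inf_eq_coef (0 : Coh.structureModule X ⟶ M) W γ hγ
  have h2 : hγ.coef le_rfl (res M (le_top : W ≤ ⊤) (secOf (0 : Coh.structureModule X ⟶ M))) = 0 := by
    apply hγ.coef_eq
    rw [zero_smul, secOf_zero, res_zero]
  rw [h2, Scheme.basicOpen_zero] at h1
  exact (h1 ▸ (⟨hx, hxW⟩ : x ∈ CohB1.genLocus M (0 : Coh.structureModule X ⟶ M) ⊓ W) : x ∈ (⊥ : X.Opens))

end Groth.Agent.Lib.Helper28.GenLocus
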