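import Groth.Agent.Lib.Helper28.AmpleCompose

/-!
# Sections of `L^n ⊗ L'` with prescribed affine loci and prescribed ratios (helper28)
-/

set_option autoImplicit false
universe u
open CategoryTheory CategoryTheory.Limits AlgebraicGeometry Opposite TopologicalSpace
noncomputable section

namespace Groth.Agent.Lib.Helper28.VeryAmpleSec

open Groth.Agent.Lib.Helper28 Groth.Agent.Lib.Helper28.QCohLoc Groth.Agent.Lib.Helper28.GenLocus
  Groth.Agent.Lib.Helper28.TensorGen Groth.Agent.Lib.Helper28.InvTensor Groth.Agent.Lib.Helper28.AmpleUnit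
  Groth.Agent.Lib.Helper28.AmpleLocal Groth.Agent.Lib.Helper28.AmpleCompose

variable {X : Scheme.{u}}

theorem secOf_comp {M N : X.Modules} (s : Coh.structureModule X ⟶ M) (ψ : M ⟶ N) :
    secOf (s ≫ ψ) = ψ.app ⊤ (secOf s) := rfl

/-- `((L^ρ ⊗ L') ⊗ (L^d)^K) ⊗ L^d ≅ L^n ⊗ L'` when `n = ρ + d * K + d` -/
theorem exists_assembly_iso {L L' : X.Modules} (hL : PicF.IsInvertible L) (hL' : PicF.IsInvertible L')
    (ρ d K n : ℕ) (hn : n = ρ + d * K + d) :
    ∃ _ψ : CohB1.tensorMod (CohB1.tensorMod (CohB1.tensorMod (CohB1.tensorPow L ρ) L')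
        (CohB1.tensorPow (CohB1.tensorPow L d) K)) (CohB1.tensorPow L d) ≅
      CohB1.tensorMod (CohB1.tensorPow L n) L', True := by
  have key := exists_iso_of_homogeneous₂ L L' hL hL'
    (CohB1.tensorMod (CohB1.tensorMod (CohB1.tensorMod (CohB1.tensorPow L ρ) L')
        (CohB1.tensorPow (CohB1.tensorPow L d) K)) (CohB1.tensorPow L d))
    (CohB1.tensorMod (CohB1.tensorPow L n) L')
    (fun U g g' => tmulSec _ _ (tmulSec _ _ (tmulSec _ _ (gpow L g ρ) g')
      (gpow _ (gpow L g d) K)) (gpow L g d))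
    (fun U g g' => tmulSec _ _ (gpow L g n) g')
    (fun U g g' hg hg' => isGen_tmulSec _ _ (isGen_tmulSec _ _ (isGen_tmulSec _ _ (isGen_gpow hg _) hg')
      (isGen_gpow (isGen_gpow hg _) _)) (isGen_gpow hg _))
    (fun U g g' hg hg' => isGen_tmulSec _ _ (isGen_gpow hg _) hg') n 1
    (by
      intro U V h g g'
      rw [tmulSec_res, tmulSec_res, tmulSec_res, gpow_res, gpow_res, gpow_res])
    (by
      intro U V h g g'
      rw [tmulSec_res, gpow_res])
    (by
      intro U u u' g g'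
      rw [gpow_smul L, gpow_smul L, gpow_smul (CohB1.tensorPow L d), tmulSec_smul_smul, tmulSec_smul_smul,
        tmulSec_smul_smul]
      congr 1
      rw [hn]
      ring)
    (by
      intro U u u' g g'
      rw [gpow_smul L, tmulSec_smul_smul, pow_one])
  exact ⟨key.choose, trivial⟩

/-- over the locus `U = X_t` of a section `t` of `L^d` on which `L` and `L'` are trivial: for all large `n` there are
global sections of `L^n ⊗ L'` with locus `U` and with prescribed ratios -/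
theorem exists_sections_single [CompactSpace X] [QuasiSeparatedSpace X] {L L' : X.Modules}
    (hL : PicF.IsInvertible L) (hL' : PicF.IsInvertible L') (d : ℕ) (hd : 0 < d)
    (t : Coh.structureModule X ⟶ CohB1.tensorPow L d)
    {ℓ : Γ(L, CohB1.genLocus _ t)} (hℓ : IsGen L _ ℓ) {ℓ' : Γ(L', CohB1.genLocus _ t)} (hℓ' : IsGen L' _ ℓ')
    {k : ℕ} (b : Fin k → Γ(X, CohB1.genLocus _ t)) :
    ∃ n₀ : ℕ, ∀ n : ℕ, n₀ ≤ n →
      ∃ (s : Coh.structureModule X ⟶ CohB1.tensorMod (CohB1.tensorPow L n) L')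
        (sk : Fin k → (Coh.structureModule X ⟶ CohB1.tensorMod (CohB1.tensorPow L n) L')),
        CohB1.genLocus _ s = CohB1.genLocus _ t ∧
          ∀ j, res _ (le_top : CohB1.genLocus _ t ≤ ⊤) (secOf (sk j)) =
            (b j • res _ (le_top : CohB1.genLocus _ t ≤ ⊤) (secOf s) :
              Γ(CohB1.tensorMod (CohB1.tensorPow L n) L', CohB1.genLocus _ t)) := by
  classical
  have hLd : PicF.IsInvertible (CohB1.tensorPow L d) := isInvertible_tensorPow hL d
  have hF : ∀ ρ : ℕ, PicF.IsInvertible (CohB1.tensorMod (CohB1.tensorPow L ρ) L') := fun ρ =>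
    isInvertible_tensorMod (isInvertible_tensorPow hL ρ) hL'
  let φ : ∀ ρ : ℕ, Γ(CohB1.tensorMod (CohB1.tensorPow L ρ) L', CohB1.genLocus _ t) := fun ρ =>
    tmulSec _ _ (gpow L ℓ ρ) ℓ'
  have hφ : ∀ ρ, IsGen _ _ (φ ρ) := fun ρ => isGen_tmulSec _ _ (isGen_gpow hℓ ρ) hℓ'
  choose kφ hkφ using fun ρ : ℕ => exists_extension_tmul (hF ρ) hLd t (φ ρ)
  choose kb hkb using fun (ρ : ℕ) (j : Fin k) => exists_extension_tmul (hF ρ) hLd t
    ((b j • φ ρ : Γ(CohB1.tensorMod (CohB1.tensorPow L ρ) L', CohB1.genLocus _ t)))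
  let K₀ : ℕ := (Finset.range d).sup fun ρ => max (kφ ρ) (Finset.univ.sup (kb ρ))
  refine ⟨d * (K₀ + 2), fun n hn => ?_⟩
  -- write `n = ρ + d * K + d`
  let ρ := n % d
  have hρ : ρ < d := Nat.mod_lt n hd
  obtain ⟨K, hK⟩ : ∃ K, n / d = K + 1 := by
    have h1 : K₀ + 2 ≤ n / d := by
      rw [Nat.le_div_iff_mul_le hd, mul_comm]; exact hn
    exact ⟨n / d - 1, by omega⟩
  have hK₀ : K₀ + 1 ≤ K := by
    have h1 : K₀ + 2 ≤ n / d := by
      rw [Nat.le_div_iff_mul_le hd, mul_comm]; exact hn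
    omega
  have hnn : n = ρ + d * K + d := by
    have h1 := Nat.div_add_mod n d
    rw [hK] at h1
    have : d * (K + 1) = d * K + d := by ring
    omega
  have hsup : max (kφ ρ) (Finset.univ.sup (kb ρ)) ≤ K₀ :=
    Finset.le_sup (f := fun ρ => max (kφ ρ) (Finset.univ.sup (kb ρ))) (Finset.mem_range.2 hρ)
  have hKφ : kφ ρ ≤ K := by
    have := le_max_left (kφ ρ) (Finset.univ.sup (kb ρ))
    omega
  have hKb : ∀ j, kb ρ j ≤ K := fun j => by
    have h1 : kb ρ j ≤ Finset.univ.sup (kb ρ) := Finset.le_sup (Finset.mem_univ j)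
    have := le_max_right (kφ ρ) (Finset.univ.sup (kb ρ))
    omega
  obtain ⟨Tφ, hTφ⟩ := hkφ ρ K hKφ
  choose Tb hTb using fun j => hkb ρ j K (hKb j)
  obtain ⟨ψ, -⟩ := exists_assembly_iso hL hL' ρ d K n hnn
  have hFK : PicF.IsInvertible (CohB1.tensorMod (CohB1.tensorMod (CohB1.tensorPow L ρ) L')
      (CohB1.tensorPow (CohB1.tensorPow L d) K)) :=
    isInvertible_tensorMod (hF ρ) (isInvertible_tensorPow hLd K)
  have hγ : IsGen (CohB1.tensorPow (CohB1.tensorPow L d) K) (CohB1.genLocus _ t)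
      (gpow _ (res _ le_top (secOf t)) K) := isGen_gpow (isGen_genLocus t) K
  refine ⟨smulSec Tφ t ≫ ψ.hom, fun j => smulSec (Tb j) t ≫ ψ.hom, ?_, fun j => ?_⟩
  · rw [genLocus_comp_iso _ ψ, genLocus_smulSec hFK hLd Tφ t]
    refine inf_eq_right.2 fun y hy => ?_
    rw [mem_genLocus_iff_secGenAt hFK Tφ y,
      ← secGenAt_res_iff (le_top : CohB1.genLocus _ t ≤ ⊤) (secOf Tφ) y hy, hTφ,
      secGenAt_tmulSec_iff (hF ρ) _ hγ y hy]
    refine ⟨CohB1.genLocus _ t, le_rfl, hy, ?_⟩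
    rw [res_self]
    exact hφ ρ
  · rw [secOf_comp, secOf_comp, ← app_res, ← app_res, secOf_smulSec, secOf_smulSec, tmulSec_res, tmulSec_res,
      hTb j, hTφ, tmulSec_smul_left, tmulSec_smul_left, Scheme.Modules.Hom.app_smul]

/-- **sections of `L^n ⊗ L'` over a finite affine cover by loci**, with prescribed ratios: for an ample `L`, an
invertible `L'` and a finite family of functions on every affine open, there is a finite cover of `X` by affine opens
`U` such that for all large `n` each `U` is the locus of a global section `s` of `L^n ⊗ L'` and the prescribed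
functions on `U` are ratios `sk j / s` of global sections -/
theorem exists_cover_sections_le [CompactSpace X] {L L' : X.Modules} (hA : CohB1.IsAmple L)
    (hL' : PicF.IsInvertible L') (k : X.affineOpens → ℕ) (b : ∀ U : X.affineOpens, Fin (k U) → Γ(X, U.1))
    (𝒲 : X → X.Opens) (h𝒲 : ∀ x, x ∈ 𝒲 x) :
    ∃ (ι : Type u) (_ : Fintype ι) (U : ι → X.affineOpens), (∀ x : X, ∃ i, x ∈ (U i).1) ∧
      (∀ i, ∃ x, (U i).1 ≤ 𝒲 x) ∧
      ∃ n₀ : ℕ, ∀ n : ℕ, n₀ ≤ n → ∀ i : ι,
      ∃ (s : Coh.structureModule X ⟶ CohB1.tensorMod (CohB1.tensorPow L n) L')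
        (sk : Fin (k (U i)) → (Coh.structureModule X ⟶ CohB1.tensorMod (CohB1.tensorPow L n) L')),
        CohB1.genLocus _ s = (U i).1 ∧
          ∀ j, res _ (le_top : (U i).1 ≤ ⊤) (secOf (sk j)) =
            (b (U i) j • res _ (le_top : (U i).1 ≤ ⊤) (secOf s) :
              Γ(CohB1.tensorMod (CohB1.tensorPow L n) L', (U i).1)) := by
  classical
  have hL : PicF.IsInvertible L := hA.1
  have : X.IsSeparated := isSeparated_of_isAmple hA
  choose W₁ ℓ₁ hxW₁ hℓ₁ using exists_isGen L hL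
  choose W₂ ℓ₂ hxW₂ hℓ₂ using exists_isGen L' hL'
  choose m t hxt htW haff using fun x : X =>
    exists_genLocus_le_of_isAmple hA (W₁ x ⊓ W₂ x ⊓ 𝒲 x) x ⟨⟨hxW₁ x, hxW₂ x⟩, h𝒲 x⟩
  obtain ⟨T, hT⟩ := finite_cover_nhds (U := fun x => ((CohB1.genLocus _ (t x) : X.Opens) : Set X))
    (fun x => (CohB1.genLocus _ (t x)).isOpen.mem_nhds (hxt x))
  obtain ⟨d, hd⟩ : ∃ d : ℕ, d = ∏ x ∈ T, (m x + 1) := ⟨_, rfl⟩
  obtain ⟨e, he⟩ : ∃ e : X → ℕ, e = fun x => ∏ x' ∈ T.erase x, (m x' + 1) := ⟨_, rfl⟩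
  have hdpos : 0 < d := by rw [hd]; exact Finset.prod_pos fun x _ => Nat.succ_pos _
  have hepos : ∀ x, 0 < e x := fun x => by rw [he]; exact Finset.prod_pos fun x' _ => Nat.succ_pos _
  have hde : ∀ x ∈ T, (m x + 1) * e x = d := fun x hx => by
    rw [hd, he]; exact Finset.mul_prod_erase T (fun x => m x + 1) hx
  -- the sections of `L^d`
  have ht' : ∀ x ∈ T, ∃ t' : Coh.structureModule X ⟶ CohB1.tensorPow L d,
      CohB1.genLocus _ t' = CohB1.genLocus _ (t x) := by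
    intro x hx
    obtain ⟨ψ, -⟩ := exists_tensorPow_tensorPow_iso hL (m x + 1) (e x) d (hde x hx).symm
    refine ⟨spow (t x) (e x) ≫ ψ.hom, ?_⟩
    rw [genLocus_comp_iso _ ψ, genLocus_spow (isInvertible_tensorPow hL _) (t x) (e x) (hepos x)]
  -- uniform version over all points (dummy outside `T`)
  have ht'' : ∀ x : X, ∃ t' : Coh.structureModule X ⟶ CohB1.tensorPow L d,
      x ∈ T → CohB1.genLocus _ t' = CohB1.genLocus _ (t x) := by
    intro x
    by_cases hx : x ∈ T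
    · obtain ⟨t', ht'⟩ := ht' x hx
      exact ⟨t', fun _ => ht'⟩
    · exact ⟨0, fun h => absurd h hx⟩
  choose t' ht' using ht''
  have haff' : ∀ x ∈ T, IsAffineOpen (CohB1.genLocus _ (t' x)) := fun x hx => by
    rw [ht' x hx]; exact haff x
  -- the data of `exists_sections_single` at the points of `T`
  have hsingle : ∀ x : X, ∃ n₀ : ℕ, ∀ hx : x ∈ T, ∀ n : ℕ, n₀ ≤ n →
      ∃ (s : Coh.structureModule X ⟶ CohB1.tensorMod (CohB1.tensorPow L n) L')
        (sk : Fin (k (⟨CohB1.genLocus (CohB1.tensorPow L d) (t' x), haff' x hx⟩ : X.affineOpens)) →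
          (Coh.structureModule X ⟶ CohB1.tensorMod (CohB1.tensorPow L n) L')),
        CohB1.genLocus _ s = CohB1.genLocus _ (t' x) ∧
          ∀ j, res _ (le_top : CohB1.genLocus _ (t' x) ≤ ⊤) (secOf (sk j)) =
            (b (⟨CohB1.genLocus (CohB1.tensorPow L d) (t' x), haff' x hx⟩ : X.affineOpens) j •
                res _ (le_top : CohB1.genLocus _ (t' x) ≤ ⊤) (secOf s) :
              Γ(CohB1.tensorMod (CohB1.tensorPow L n) L', CohB1.genLocus _ (t' x))) := by
    intro x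
    by_cases hx : x ∈ T
    · have hle : CohB1.genLocus _ (t' x) ≤ W₁ x ⊓ W₂ x := by
        rw [ht' x hx]; exact (htW x).trans inf_le_left
      obtain ⟨n₀, hn₀⟩ := exists_sections_single hL hL' d hdpos (t' x)
        ((hℓ₁ x).res (hle.trans inf_le_left)) ((hℓ₂ x).res (hle.trans inf_le_right))
        (b (⟨CohB1.genLocus (CohB1.tensorPow L d) (t' x), haff' x hx⟩ : X.affineOpens))
      exact ⟨n₀, fun _ n hn => hn₀ n hn⟩
    · exact ⟨0, fun h => absurd h hx⟩
  choose n₀ hn₀ using hsingle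
  refine ⟨{x // x ∈ T}, inferInstance,
    fun i => (⟨CohB1.genLocus (CohB1.tensorPow L d) (t' i.1), haff' i.1 i.2⟩ : X.affineOpens), ?_, ?_, ?_⟩
  · intro y
    have hy : y ∈ ⋃ x ∈ T, ((CohB1.genLocus _ (t x) : X.Opens) : Set X) := by rw [hT]; trivial
    simp only [Set.mem_iUnion] at hy
    obtain ⟨x, hx, hyx⟩ := hy
    refine ⟨⟨x, hx⟩, ?_⟩
    show y ∈ CohB1.genLocus _ (t' x)
    rw [ht' x hx]
    exact hyx
  · intro i
    refine ⟨i.1, ?_⟩
    show CohB1.genLocus _ (t' i.1) ≤ 𝒲 i.1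
    rw [ht' i.1 i.2]
    exact (htW i.1).trans inf_le_right
  · refine ⟨T.sup n₀, ?_⟩
    intro n hn i
    exact hn₀ i.1 i.2 n (le_trans (Finset.le_sup i.2) hn)

theorem exists_cover_sections [CompactSpace X] {L L' : X.Modules} (hA : CohB1.IsAmple L)
    (hL' : PicF.IsInvertible L') (k : X.affineOpens → ℕ) (b : ∀ U : X.affineOpens, Fin (k U) → Γ(X, U.1)) :
    ∃ (ι : Type u) (_ : Fintype ι) (U : ι → X.affineOpens), (∀ x : X, ∃ i, x ∈ (U i).1) ∧
      ∃ n₀ : ℕ, ∀ n : ℕ, n₀ ≤ n → ∀ i : ι,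
      ∃ (s : Coh.structureModule X ⟶ CohB1.tensorMod (CohB1.tensorPow L n) L')
        (sk : Fin (k (U i)) → (Coh.structureModule X ⟶ CohB1.tensorMod (CohB1.tensorPow L n) L')),
        CohB1.genLocus _ s = (U i).1 ∧
          ∀ j, res _ (le_top : (U i).1 ≤ ⊤) (secOf (sk j)) =
            (b (U i) j • res _ (le_top : (U i).1 ≤ ⊤) (secOf s) :
              Γ(CohB1.tensorMod (CohB1.tensorPow L n) L', (U i).1)) := by
  obtain ⟨ι, hι, U, hcov, -, h⟩ := exists_cover_sections_le hA hL' k b (fun _ => ⊤) (fun _ => trivial)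
  exact ⟨ι, hι, U, hcov, h⟩

end Groth.Agent.Lib.Helper28.VeryAmpleSec
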