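import Groth.Agent.Lib.Helper28.RelProjFT
import Groth.Agent.Lib.Helper28.RelProjAmple
import Groth.Agent.Lib.Helper28.AmpleLocal

/-!
# Relative `Proj` of an algebra generated in degree one with degree-one part of finite type

Quasi-compactness of the charts and relative ampleness of `O_P(1)`.
-/

set_option autoImplicit false
universe u
open CategoryTheory CategoryTheory.Limits AlgebraicGeometry Opposite TopologicalSpace
open scoped HomogeneousIdeal
noncomputable section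

namespace Groth.Agent.Lib.Helper28.RelProjGen1

open Groth.Agent.Lib.Helper28

variable {Y P : Scheme.{u}} {𝒮 : RelProj.QCGrAlg Y} (hgen : 𝒮.IsGenDegOne) (hft : 𝒮.IsFTDeg 1)

include hgen hft in
/-- finitely many `D₊(t)`, `t` of degree one, cover a chart -/
theorem exists_finset_cover (U : Y.Opens) (hU : IsAffineOpen U) :
    ∃ T : Finset (𝒮.presheaf.obj (op U)), (∀ t ∈ T, t ∈ 𝒮.deg U hU 1) ∧
      ∀ x : Proj (𝒮.deg U hU), ∃ t ∈ T, x ∈ Proj.basicOpen (𝒮.deg U hU) t := by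
  obtain ⟨T, hT1, hT2⟩ := hft U hU
  refine ⟨T, fun t ht => hT1 ht, fun x => ?_⟩
  obtain ⟨g, hg, hxg⟩ := RelProjFT.cover_of_closure (A := 𝒮.presheaf.obj (op U)) (𝒮.deg U hU)
    ((𝒮.deg U hU 1 : Set (𝒮.presheaf.obj (op U)))) (fun g hg => ⟨1, Nat.one_pos, hg⟩) (hgen U hU) x
  obtain ⟨c, hc⟩ := hT2 g hg
  by_contra hcon
  push Not at hcon
  have hgx : g ∈ (show ProjectiveSpectrum (𝒮.deg U hU) from x).asHomogeneousIdeal := by
    rw [hc]
    refine Ideal.sum_mem _ fun t ht => Ideal.mul_mem_left _ _ ?_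
    by_contra htx
    exact hcon t ht ((Proj.mem_basicOpen (𝒮.deg U hU) t x).2 htx)
  exact (Proj.mem_basicOpen (𝒮.deg U hU) g x).1 hxg hgx

include hgen hft in
theorem compactSpace_proj (U : Y.Opens) (hU : IsAffineOpen U) : CompactSpace (Proj (𝒮.deg U hU)) := by
  obtain ⟨G, hG, hcov⟩ := exists_finset_cover hgen hft U hU
  have h1 : (Set.univ : Set (Proj (𝒮.deg U hU))) =
      ⋃ g ∈ G, ((Proj.basicOpen (𝒮.deg U hU) g : (Proj (𝒮.deg U hU)).Opens) : Set (Proj (𝒮.deg U hU))) := by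
    ext x
    simp only [Set.mem_univ, Set.mem_iUnion, true_iff]
    obtain ⟨g, hg, hx⟩ := hcov x
    exact ⟨g, hg, hx⟩
  refine ⟨?_⟩
  rw [h1]
  refine G.isCompact_biUnion fun g hg => ?_
  exact (Proj.isAffineOpen_basicOpen (𝒮.deg U hU) g (hG g hg) Nat.one_pos).isCompact

variable {p : P ⟶ Y}

include hgen hft in
theorem isCompact_preimage (chart : ∀ (U : Y.Opens) (hU : IsAffineOpen U),
    (((p ⁻¹ᵁ U : P.Opens) : Scheme.{u}) ≅ Proj (𝒮.deg U hU))) (U : Y.Opens) (hU : IsAffineOpen U) :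
    IsCompact ((p ⁻¹ᵁ U : P.Opens) : Set P) := by
  have := compactSpace_proj (𝒮 := 𝒮) hgen hft U hU
  rw [← RelProjQC.opensRange_emb p chart U hU]
  show IsCompact (Set.range (RelProj.emb p chart U hU).base)
  exact isCompact_range (RelProj.emb p chart U hU).continuous

include hgen hft in
theorem quasiCompact (chart : ∀ (U : Y.Opens) (hU : IsAffineOpen U),
    (((p ⁻¹ᵁ U : P.Opens) : Scheme.{u}) ≅ Proj (𝒮.deg U hU))) : QuasiCompact p :=
  quasiCompact_iff_forall_isAffineOpen.2 fun U hU => isCompact_preimage hgen hft chart U hU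

variable {chart : ∀ (U : Y.Opens) (hU : IsAffineOpen U), (((p ⁻¹ᵁ U : P.Opens) : Scheme.{u}) ≅ Proj (𝒮.deg U hU))}
  {L : P.Modules}
  {lam : ∀ (U : Y.Opens) (hU : IsAffineOpen U),
    L ⟶ (Scheme.Modules.pushforward (RelProj.emb p chart U hU)).obj (GrTwist.twist (𝒮.deg U hU) 1)}

include hgen hft in
/-- `O_P(1)` is invertible and relatively ample -/
theorem isInvertible_and_isRelAmple (hL : RelProj.IsRelTwist 𝒮 p chart 1 L lam) :
    PicF.IsInvertible L ∧ RelAmple.IsRelAmple p L := by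
  have hL' : RelProj.IsRelTwist 𝒮 p chart ((1 : ℕ) : ℤ) L lam := hL
  have hcovY : ∀ y : Y, ∃ V : Y.affineOpens, y ∈ V.1 := by
    intro y
    obtain ⟨V, hV, hyV, -⟩ := Y.isBasis_affineOpens.exists_subset_of_mem_open (Set.mem_univ y) isOpen_univ
    obtain ⟨V', hV', rfl⟩ := hV
    exact ⟨⟨V', hV'⟩, hyV⟩
  have hinv : PicF.IsInvertible L := by
    refine RelProjAmple.isInvertible_of_cover hL' fun x => ?_
    obtain ⟨V, hxV⟩ := hcovY (p.base x)
    have hx : x ∈ (RelProj.emb p chart V.1 V.2).opensRange := by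
      rw [RelProjQC.opensRange_emb]; exact hxV
    obtain ⟨z, hz⟩ := hx
    obtain ⟨T, hT, hcov⟩ := exists_finset_cover hgen hft V.1 V.2
    obtain ⟨t, ht, hzt⟩ := hcov z
    exact ⟨V.1, V.2, z, t, 1, hT t ht, Nat.one_pos, dvd_refl 1, hzt, hz⟩
  refine ⟨hinv, ?_⟩
  have : QuasiCompact p := quasiCompact hgen hft chart
  refine AmpleLocal.isRelAmple_of_forall_exists p L fun y => ⟨⊤, trivial, fun V hV _ => ?_⟩
  refine RelProjAmple.isAmple_restrict_of_cover hL' hinv Nat.one_pos hV (isCompact_preimage hgen hft chart V hV)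
    (fun z => ?_)
  obtain ⟨T, hT, hcov⟩ := exists_finset_cover hgen hft V hV
  obtain ⟨t, ht, hzt⟩ := hcov z
  exact ⟨t, 1, hT t ht, Nat.one_pos, dvd_refl 1, hzt⟩

end Groth.Agent.Lib.Helper28.RelProjGen1
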