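import Groth.Agent.Lib.Helper28.TraceA
import Groth.Agent.Lib.Helper28.QCohConv
import Groth.Agent.Lib.Helper17.QCAlgGen
import Groth.Prelude.Def_RelProj

/-!
# The degree-`d` part of a quasi-coherent graded algebra, as a quasi-coherent module
-/

set_option autoImplicit false
universe u
open CategoryTheory CategoryTheory.Limits AlgebraicGeometry Opposite TopologicalSpace
noncomputable section

namespace Groth.Agent.Lib.Helper28.DegMod

open Groth.Agent.Lib.Helper28 Groth.Agent.Lib.Helper28.QCohLoc Groth.Agent.Lib.Helper28.TraceAlg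

variable {Y : Scheme.{u}} (𝒮 : RelProj.QCGrAlg Y) (d : ℕ)

/-- the sections of degree `d` over an arbitrary open: those whose restrictions to all affine opens have degree `d` -/
def degSub (W : Y.Opens) : AddSubgroup (𝒮.presheaf.obj (op W)) where
  carrier := {x | ∀ (V : Y.Opens) (hV : IsAffineOpen V) (hle : V ≤ W),
    (𝒮.presheaf.map (homOfLE hle).op).hom x ∈ 𝒮.deg V hV d}
  zero_mem' := fun V hV hle => by rw [map_zero]; exact zero_mem _
  add_mem' := fun ha hb V hV hle => by rw [map_add]; exact add_mem (ha V hV hle) (hb V hV hle)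
  neg_mem' := fun ha V hV hle => by rw [map_neg]; exact neg_mem (ha V hV hle)

theorem mem_degSub_iff (W : Y.Opens) (x : 𝒮.presheaf.obj (op W)) :
    x ∈ degSub 𝒮 d W ↔ ∀ (V : Y.Opens) (hV : IsAffineOpen V) (hle : V ≤ W),
      (𝒮.presheaf.map (homOfLE hle).op).hom x ∈ 𝒮.deg V hV d := Iff.rfl

theorem map_map {W W' W'' : Y.Opens} (h : W' ≤ W) (h' : W'' ≤ W') (x : 𝒮.presheaf.obj (op W)) :
    (𝒮.presheaf.map (homOfLE h').op).hom ((𝒮.presheaf.map (homOfLE h).op).hom x) =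
      (𝒮.presheaf.map (homOfLE (h'.trans h)).op).hom x := by
  rw [← CommRingCat.comp_apply, ← Functor.map_comp]
  rfl

theorem map_self {W : Y.Opens} (x : 𝒮.presheaf.obj (op W)) :
    (𝒮.presheaf.map (homOfLE (le_refl W)).op).hom x = x := by
  have : (homOfLE (le_refl W)).op = 𝟙 (op W) := rfl
  rw [this, 𝒮.presheaf.map_id]
  rfl

theorem mem_degSub_affine {U : Y.Opens} (hU : IsAffineOpen U) (x : 𝒮.presheaf.obj (op U)) :
    x ∈ degSub 𝒮 d U ↔ x ∈ 𝒮.deg U hU d := by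
  constructor
  · intro h
    have := h U hU le_rfl
    rwa [map_self] at this
  · intro h V hV hle
    exact 𝒮.map_mem hU hV hle h

theorem res_mem {W W' : Y.Opens} (h : W' ≤ W) {x : 𝒮.presheaf.obj (op W)} (hx : x ∈ degSub 𝒮 d W) :
    (𝒮.presheaf.map (homOfLE h).op).hom x ∈ degSub 𝒮 d W' := by
  intro V hV hle
  rw [map_map]
  exact hx V hV (hle.trans h)

theorem map_mem' {W W' : (Opens Y.carrier)ᵒᵖ} (i : W ⟶ W') {x : 𝒮.presheaf.obj W}
    (hx : x ∈ degSub 𝒮 d W.unop) : (𝒮.presheaf.map i).hom x ∈ degSub 𝒮 d W'.unop := by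
  have : i = (homOfLE (leOfHom i.unop)).op := Subsingleton.elim _ _
  rw [this]
  exact res_mem 𝒮 d _ hx

theorem str_mul_mem {W : Y.Opens} (r : Γ(Y, W)) {x : 𝒮.presheaf.obj (op W)} (hx : x ∈ degSub 𝒮 d W) :
    (𝒮.str.app (op W)).hom r * x ∈ degSub 𝒮 d W := by
  intro V hV hle
  rw [map_mul]
  have h1 : (𝒮.presheaf.map (homOfLE hle).op).hom ((𝒮.str.app (op W)).hom r) =
      (𝒮.str.app (op V)).hom ((Y.presheaf.map (homOfLE hle).op).hom r) := by
    have := congrArg (fun k => k.hom r) (𝒮.str.naturality (homOfLE hle).op)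
    exact this.symm
  rw [h1]
  have h2 := SetLike.mul_mem_graded (𝒮.str_mem V hV ((Y.presheaf.map (homOfLE hle).op).hom r)) (hx V hV hle)
  rwa [zero_add] at h2

/-- membership in the degree-`d` part of the sections over an affine open is local -/
theorem mem_deg_of_locally {V : Y.Opens} (hV : IsAffineOpen V) (x : 𝒮.presheaf.obj (op V))
    (h : ∀ v ∈ V, ∃ f : Γ(Y, V), v ∈ Y.basicOpen f ∧
      (𝒮.presheaf.map (homOfLE (Y.basicOpen_le f)).op).hom x ∈ 𝒮.deg (Y.basicOpen f) (hV.basicOpen f) d) :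
    x ∈ 𝒮.deg V hV d := by
  classical
  choose f hvf hxf using h
  have key : ∀ e : ℕ, e ≠ d → (DirectSum.decompose (𝒮.deg V hV) x e : 𝒮.presheaf.obj (op V)) = 0 := by
    intro e he
    have h1 := eq_of_locally_eq 𝒮.toModule (fun v : V => Y.basicOpen (f v.1 v.2)) V
      (fun v => Y.basicOpen_le _) (fun v hv => Opens.mem_iSup.2 ⟨⟨v, hv⟩, hvf v hv⟩)
      (ofR 𝒮.toQCAlg (DirectSum.decompose (𝒮.deg V hV) x e : 𝒮.presheaf.obj (op V))) 0 (fun v => ?_)
    · exact h1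
    · rw [res_zero]
      show (𝒮.presheaf.map (homOfLE (Y.basicOpen_le (f v.1 v.2))).op).hom
        (DirectSum.decompose (𝒮.deg V hV) x e : 𝒮.presheaf.obj (op V)) = 0
      have h2 := GradedRingHom.map_directSumDecompose (𝒮.deg V hV)
        (𝒮.deg (Y.basicOpen (f v.1 v.2)) (hV.basicOpen (f v.1 v.2)))
        (𝒮.res hV (hV.basicOpen (f v.1 v.2)) (Y.basicOpen_le (f v.1 v.2))) (x := x) (i := e)
      rw [RelProj.QCGrAlg.res_apply, RelProj.QCGrAlg.res_apply] at h2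
      rw [h2, DirectSum.decompose_of_mem_ne _ (hxf v.1 v.2) (Ne.symm he)]
  have hx : x = (DirectSum.decompose (𝒮.deg V hV) x d : 𝒮.presheaf.obj (op V)) := by
    conv_lhs => rw [← DirectSum.sum_support_decompose (𝒮.deg V hV) x]
    rw [Finset.sum_eq_single d]
    · intro e _ he
      exact key e he
    · intro hd
      simpa using hd
  rw [hx]
  exact SetLike.coe_mem _

/-- the presheaf of abelian groups of the sections of degree `d` -/
def degAb : TopCat.Presheaf AddCommGrpCat.{u} Y.carrier where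
  obj W := AddCommGrpCat.of (degSub 𝒮 d W.unop)
  map {W W'} i := AddCommGrpCat.ofHom
    (((𝒮.presheaf.map i).hom.toAddMonoidHom.comp (degSub 𝒮 d W.unop).subtype).codRestrict
      (degSub 𝒮 d W'.unop) (fun x => map_mem' 𝒮 d i x.2))
  map_id W := by
    ext x
    show (𝒮.presheaf.map (𝟙 W)).hom x.1 = x.1
    rw [𝒮.presheaf.map_id]
    rfl
  map_comp {W W' W''} i i' := by
    ext x
    show (𝒮.presheaf.map (i ≫ i')).hom x.1 = (𝒮.presheaf.map i').hom ((𝒮.presheaf.map i).hom x.1)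
    rw [𝒮.presheaf.map_comp]
    rfl

theorem degAb_map_val {W W' : (Opens Y.carrier)ᵒᵖ} (i : W ⟶ W') (x : (degAb 𝒮 d).obj W) :
    (((degAb 𝒮 d).map i) x : degSub 𝒮 d W'.unop).1 = (𝒮.presheaf.map i).hom (x : degSub 𝒮 d W.unop).1 := rfl

/-- the sheaf condition -/
theorem isSheaf_degAb : (degAb 𝒮 d).IsSheaf := by
  rw [TopCat.Presheaf.isSheaf_iff_isSheafUniqueGluing]
  intro ι U sf hsf
  -- glue in the ambient sheaf
  have hcomp : TopCat.Presheaf.IsCompatible 𝒮.toAb U (fun i => ((sf i : degSub 𝒮 d (U i)).1 : 𝒮.presheaf.obj (op (U i)))) := by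
    intro i j
    exact congrArg Subtype.val (hsf i j)
  obtain ⟨s, hs, huniq⟩ := 𝒮.isSheaf_toAb.isSheafUniqueGluing U _ hcomp
  have hs' : ∀ i, (𝒮.presheaf.map (Opens.leSupr U i).op).hom s = (sf i : degSub 𝒮 d (U i)).1 := hs
  have hmem : s ∈ degSub 𝒮 d (iSup U) := by
    intro V hV hle
    refine mem_deg_of_locally 𝒮 d hV _ fun v hv => ?_
    obtain ⟨i, hi⟩ := Opens.mem_iSup.1 (hle hv)
    obtain ⟨f, hfle, hvf⟩ := hV.exists_basicOpen_le (V := U i) ⟨v, hi⟩ hv
    refine ⟨f, hvf, ?_⟩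
    rw [map_map]
    have h1 : (𝒮.presheaf.map (homOfLE ((Y.basicOpen_le f).trans hle)).op).hom s =
        (𝒮.presheaf.map (homOfLE hfle).op).hom ((𝒮.presheaf.map (Opens.leSupr U i).op).hom s) := by
      rw [← CommRingCat.comp_apply, ← Functor.map_comp]
      rfl
    rw [h1, hs' i]
    exact (sf i : degSub 𝒮 d (U i)).2 _ (hV.basicOpen f) hfle
  refine ⟨(⟨s, hmem⟩ : degSub 𝒮 d (iSup U)), fun i => Subtype.ext (hs' i), ?_⟩
  intro t ht
  apply Subtype.ext
  refine huniq (t : degSub 𝒮 d (iSup U)).1 fun i => ?_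
  exact congrArg Subtype.val (ht i)

/-- the scalar multiplication on the sections of degree `d` -/
@[reducible] def smulSect (W : (Opens Y.carrier)ᵒᵖ) : SMul (Y.ringCatSheaf.obj.obj W) ((degAb 𝒮 d).obj W) :=
  ⟨fun r x => ⟨(𝒮.str.app W).hom r * (x : degSub 𝒮 d W.unop).1, str_mul_mem 𝒮 d r (x : degSub 𝒮 d W.unop).2⟩⟩

/-- the module structure on the sections of degree `d` -/
@[reducible] def moduleSect (W : (Opens Y.carrier)ᵒᵖ) : Module (Y.ringCatSheaf.obj.obj W) ((degAb 𝒮 d).obj W) :=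
  letI := smulSect 𝒮 d W
  letI := 𝒮.moduleSect W
  Function.Injective.module (Y.ringCatSheaf.obj.obj W)
    ((degSub 𝒮 d W.unop).subtype : (degAb 𝒮 d).obj W →+ 𝒮.toAb.obj W) Subtype.val_injective (fun _ _ => rfl)

/-- **the degree-`d` part of `𝒮` as a module over the structure sheaf** -/
def degMod : Y.Modules where
  val := letI := moduleSect 𝒮 d
    PresheafOfModules.ofPresheaf (degAb 𝒮 d) fun U V i r m => by
      apply Subtype.ext
      show (𝒮.presheaf.map i).hom ((𝒮.str.app U).hom r * (m : degSub 𝒮 d U.unop).1) =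
        (𝒮.str.app V).hom ((Y.ringCatSheaf.obj.map i).hom r) * (𝒮.presheaf.map i).hom (m : degSub 𝒮 d U.unop).1
      have h := congr_arg (fun ψ => ψ.hom r) (𝒮.str.naturality i)
      simp only [CommRingCat.hom_comp] at h
      exact (map_mul (𝒮.presheaf.map i).hom _ _).trans (congr_arg (· * _) h.symm)
  isSheaf := isSheaf_degAb 𝒮 d

/-- the inclusion of the degree-`d` part -/
def incl : degMod 𝒮 d ⟶ 𝒮.toModule :=
  ⟨letI := moduleSect 𝒮 d; letI := 𝒮.moduleSect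
   PresheafOfModules.homMk
    { app := fun U => AddCommGrpCat.ofHom (degSub 𝒮 d U.unop).subtype
      naturality := fun U V i => by
        ext m
        rfl }
    fun U r m => rfl⟩

section api

/-- a section of the degree-`d` module, as an element of the subgroup -/
abbrev asSub {U : Y.Opens} (x : Γ(degMod 𝒮 d, U)) : degSub 𝒮 d U := x

/-- an element of the subgroup, as a section -/
abbrev ofSub {U : Y.Opens} (x : degSub 𝒮 d U) : Γ(degMod 𝒮 d, U) := x

theorem incl_app {U : Y.Opens} (x : Γ(degMod 𝒮 d, U)) :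
    asR 𝒮.toQCAlg ((incl 𝒮 d).app U x) = (asSub 𝒮 d x).1 := rfl

theorem incl_mem {U : Y.Opens} (hU : IsAffineOpen U) (x : Γ(degMod 𝒮 d, U)) :
    (incl 𝒮 d).app U x ∈ 𝒮.deg U hU d :=
  (mem_degSub_affine 𝒮 d hU _).1 (asSub 𝒮 d x).2

theorem exists_incl {U : Y.Opens} (hU : IsAffineOpen U) (s : 𝒮.presheaf.obj (op U)) (hs : s ∈ 𝒮.deg U hU d) :
    ∃ x : Γ(degMod 𝒮 d, U), (incl 𝒮 d).app U x = s :=
  ⟨ofSub 𝒮 d ⟨s, (mem_degSub_affine 𝒮 d hU s).2 hs⟩, rfl⟩

theorem res_val {U V : Y.Opens} (h : V ≤ U) (x : Γ(degMod 𝒮 d, U)) :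
    (asSub 𝒮 d (res (degMod 𝒮 d) h x)).1 = (𝒮.presheaf.map (homOfLE h).op).hom (asSub 𝒮 d x).1 := rfl

theorem smul_val {U : Y.Opens} (r : Γ(Y, U)) (x : Γ(degMod 𝒮 d, U)) :
    (asSub 𝒮 d (r • x : Γ(degMod 𝒮 d, U))).1 = (𝒮.str.app (op U)).hom r * (asSub 𝒮 d x).1 := rfl

theorem ext_val {U : Y.Opens} {x y : Γ(degMod 𝒮 d, U)} (h : (asSub 𝒮 d x).1 = (asSub 𝒮 d y).1) : x = y :=
  Subtype.ext h

end api

section qc

open Groth.Agent.Lib.Helper17.QCAlgGen (isLocOn_toModule)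

theorem isLocOn_degMod {U : Y.Opens} (hU : IsAffineOpen U) : IsLocOn (degMod 𝒮 d) U := by
  classical
  have hloc := isLocOn_toModule 𝒮.toQCAlg hU
  refine ⟨fun r y => ?_, fun r x hx => ?_⟩
  · obtain ⟨n, x₀, hx₀⟩ := hloc.surj r ((incl 𝒮 d).app _ y)
    -- project to degree `d`
    have hxd : (DirectSum.decompose (𝒮.deg U hU) (asR 𝒮.toQCAlg x₀) d : 𝒮.presheaf.obj (op U)) ∈ degSub 𝒮 d U :=
      (mem_degSub_affine 𝒮 d hU _).2 (SetLike.coe_mem _)
    refine ⟨n, ofSub 𝒮 d ⟨_, hxd⟩, ?_⟩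
    apply ext_val
    rw [res_val]
    show (asSub 𝒮 d ((resO (Y.basicOpen_le r) r) ^ n • y : Γ(degMod 𝒮 d, Y.basicOpen r))).1 =
      (𝒮.presheaf.map (homOfLE (Y.basicOpen_le r)).op).hom
        (DirectSum.decompose (𝒮.deg U hU) (asR 𝒮.toQCAlg x₀) d : 𝒮.presheaf.obj (op U))
    have h2 := GradedRingHom.map_directSumDecompose (𝒮.deg U hU)
      (𝒮.deg (Y.basicOpen r) (hU.basicOpen r))
      (𝒮.res hU (hU.basicOpen r) (Y.basicOpen_le r)) (x := asR 𝒮.toQCAlg x₀) (i := d)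
    rw [RelProj.QCGrAlg.res_apply, RelProj.QCGrAlg.res_apply] at h2
    rw [h2]
    have h3 : (𝒮.presheaf.map (homOfLE (Y.basicOpen_le r)).op).hom (asR 𝒮.toQCAlg x₀) =
        (asSub 𝒮 d ((resO (Y.basicOpen_le r) r) ^ n • y : Γ(degMod 𝒮 d, Y.basicOpen r))).1 :=
      (congrArg (asR 𝒮.toQCAlg) hx₀).symm
    rw [h3, DirectSum.decompose_of_mem_same]
    exact (mem_degSub_affine 𝒮 d (hU.basicOpen r) _).1
      (asSub 𝒮 d ((resO (Y.basicOpen_le r) r) ^ n • y : Γ(degMod 𝒮 d, Y.basicOpen r))).2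
  · have hx' : res 𝒮.toModule (Y.basicOpen_le r) ((incl 𝒮 d).app _ x) = 0 := by
      have := congrArg (fun z => (asSub 𝒮 d z).1) hx
      exact this
    obtain ⟨n, hn⟩ := hloc.inj r ((incl 𝒮 d).app _ x) hx'
    refine ⟨n, ?_⟩
    apply ext_val
    exact congrArg (asR 𝒮.toQCAlg) hn

instance isQuasicoherent_degMod : (degMod 𝒮 d).IsQuasicoherent :=
  isQuasicoherent_of_forall_isLocOn _ fun U => isLocOn_degMod 𝒮 d U.2

end qc

end Groth.Agent.Lib.Helper28.DegMod
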