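import Groth.Agent.Lib.Helper28.ProjQRel

/-!
# Everywhere defined `Proj(u)`: existence from `G(u) = ⊤`, and compatibility with the projections
-/

set_option autoImplicit false
universe u
open CategoryTheory CategoryTheory.Limits AlgebraicGeometry Opposite TopologicalSpace
open scoped HomogeneousIdeal
open HomogeneousLocalization
noncomputable section

namespace Groth.Agent.Lib.Helper28.ProjQRel

open Groth.Agent.Lib.Helper28.RelProjBC (AffPair cover)
open Groth.Agent.Lib.Helper28.RelProjQ (φQ)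
open Groth.Agent.Lib.Helper28.ProjQ

section total
variable {Y Y' : Scheme.{u}} {ψ : Y' ⟶ Y} {𝒮 : _root_.RelProj.QCGrAlg Y} {𝒮' : _root_.RelProj.QCGrAlg Y'}
  (u : _root_.RelProj.QGrHom ψ 𝒮 𝒮')
variable {P P' : Scheme.{u}} (p : P ⟶ Y)
  (chart : ∀ (U : Y.Opens) (hU : IsAffineOpen U), (((p ⁻¹ᵁ U : P.Opens) : Scheme.{u}) ≅ Proj (𝒮.deg U hU)))
  (hP : _root_.RelProj.IsRelProj 𝒮 p chart) (p' : P' ⟶ Y')
  (chart' : ∀ (U' : Y'.Opens) (hU' : IsAffineOpen U'), (((p' ⁻¹ᵁ U' : P'.Opens) : Scheme.{u}) ≅ Proj (𝒮'.deg U' hU')))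
  (hP' : _root_.RelProj.IsRelProj 𝒮' p' chart')

theorem isIso_ι_of_eq_top {X : Scheme.{u}} {W : X.Opens} (h : W = ⊤) : IsIso W.ι := by
  subst h
  exact (Scheme.topIso X).isIso_hom

include hP hP' in
/-- if `G(u)` is everything, the everywhere defined `Proj(u)` exists -/
theorem exists_isProjQMap_of_domQ_eq_top (htop : _root_.RelProj.domQ u p' chart' = ⊤) :
    ∃ h : P' ⟶ P, _root_.RelProj.IsProjQMap u p chart p' chart' h := by
  obtain ⟨v, hv, -⟩ := existsUnique_glueW u p chart hP p' chart' hP'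
  have hOn := isProjQMapOn_of_glue u p chart p' chart' v hv
  have : IsIso (_root_.RelProj.domQ u p' chart').ι := isIso_ι_of_eq_top htop
  refine ⟨inv (_root_.RelProj.domQ u p' chart').ι ≫ v, htop, ?_⟩
  intro U hU U' hU' hle d hd f hf
  have hW := _root_.RelProj.range_awayEmb_subset_domQ u p' chart' U hU U' hU' hle hd f hf
  rw [← hOn U hU U' hU' hle d hd f hf hW, ← Category.assoc]
  congr 1
  rw [IsIso.comp_inv_eq, IsOpenImmersion.lift_fac]

include hP hP' in
/-- an everywhere defined `Proj(u)` lies over `ψ` -/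
theorem comp_p_of_isProjQMap (h : P' ⟶ P) (hh : _root_.RelProj.IsProjQMap u p chart p' chart' h) :
    h ≫ p = p' ≫ ψ := by
  have : IsIso (_root_.RelProj.domQ u p' chart').ι := isIso_ι_of_eq_top hh.1
  have hOn : _root_.RelProj.IsProjQMapOn u p chart p' chart' (_root_.RelProj.domQ u p' chart')
      ((_root_.RelProj.domQ u p' chart').ι ≫ h) := by
    intro U hU U' hU' hle d hd f hf hW
    rw [IsOpenImmersion.lift_fac_assoc]
    exact hh.2 U hU U' hU' hle d hd f hf
  have h1 := glue_comp_p u p chart hP p' chart' hP' _ (glue_of_isProjQMapOn u p chart p' chart' _ hOn)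
  rw [Category.assoc] at h1
  exact (cancel_epi (_root_.RelProj.domQ u p' chart').ι).1 h1

end total

end Groth.Agent.Lib.Helper28.ProjQRel
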