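import Mathlib
import Groth.Agent.Lib.Helper28.ProjMapG

set_option autoImplicit false
universe u
open CategoryTheory CategoryTheory.Limits AlgebraicGeometry Opposite TopologicalSpace
open scoped HomogeneousIdeal
open HomogeneousLocalization

namespace Groth.Agent.Lib.Helper28.ProjLoc

open Groth.Agent.Lib.Helper28.ProjMapG

variable {A B : Type u} [CommRing A] [CommRing B] {σ τ : Type u} [SetLike σ A] [AddSubgroupClass σ A]
  [SetLike τ B] [AddSubgroupClass τ B] {𝒜 : ℕ → σ} {ℬ : ℕ → τ}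
  [GradedRing 𝒜] [GradedRing ℬ] (φ : 𝒜 →+*ᵍ ℬ)

/-- the inverse of a unit of degree zero has degree zero -/
theorem inv_mem_zero {u v : B} (hu : u ∈ ℬ 0) (huv : u * v = 1) : v ∈ ℬ 0 := by
  classical
  have h1 : u * (DirectSum.decompose ℬ v 0 : B) = 1 := by
    have := DirectSum.coe_decompose_mul_of_left_mem_zero ℬ (a := u) (b := v) (j := 0) hu
    rw [huv] at this
    rw [← this, DirectSum.decompose_of_mem_same ℬ (SetLike.GradedOne.one_mem)]
  have : v = (DirectSum.decompose ℬ v 0 : B) := by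
    calc v = v * (u * (DirectSum.decompose ℬ v 0 : B)) := by rw [h1, mul_one]
      _ = (u * v) * (DirectSum.decompose ℬ v 0 : B) := by ring
      _ = _ := by rw [huv, one_mul]
  rw [this]
  exact SetLike.coe_mem _

/-- Homogeneous localization commutes with inverting an element of degree zero. -/
theorem away_isLocalization (c : A) (hc : c ∈ 𝒜 0) (h1 : IsUnit (φ c))
    (h2 : ∀ b : B, ∃ (a : A) (k : ℕ), b * φ c ^ k = φ a)
    (h3 : ∀ a : A, φ a = 0 → ∃ k : ℕ, c ^ k * a = 0)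
    {i : ℕ} (s : A) (hs : s ∈ 𝒜 i) :
    letI := (Away.map φ s).toAlgebra
    IsLocalization.Away (fromZeroRingHom 𝒜 (Submonoid.powers s) ⟨c, hc⟩) (Away ℬ (φ s)) := by
  classical
  letI := (Away.map φ s).toAlgebra
  have halg : ∀ x : Away 𝒜 s, algebraMap (Away 𝒜 s) (Away ℬ (φ s)) x = Away.map φ s x := fun _ => rfl
  constructor; constructor
  · rintro ⟨_, k, rfl⟩
    rw [map_pow]
    refine IsUnit.pow _ ?_
    rw [halg, away_map_fromZero]
    obtain ⟨u, hu⟩ := h1
    have hv : (↑u⁻¹ : B) ∈ ℬ 0 := inv_mem_zero (u := φ c) (φ.map_mem hc) (by rw [← hu]; exact u.mul_inv)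
    refine isUnit_iff_exists_inv.mpr ⟨fromZeroRingHom ℬ _ ⟨↑u⁻¹, hv⟩, ?_⟩
    rw [← map_mul]
    have : (zeroHom φ ⟨c, hc⟩ * ⟨↑u⁻¹, hv⟩ : ℬ 0) = 1 := by
      apply Subtype.ext
      change φ c * ↑u⁻¹ = 1
      rw [← hu]; exact u.mul_inv
    rw [this, map_one]
  · intro z
    obtain ⟨n, b, hb, rfl⟩ := Away.mk_surjective ℬ (φ.map_mem hs) z
    obtain ⟨a, k, hak⟩ := h2 b
    have hbk : b * φ c ^ k ∈ ℬ (n • i) := by
      have := SetLike.mul_mem_graded hb (SetLike.pow_mem_graded k (φ.map_mem hc))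
      simpa using this
    have ha' : φ (DirectSum.decompose 𝒜 a (n • i) : A) = b * φ c ^ k := by
      rw [GradedRingHom.map_directSumDecompose, ← hak, DirectSum.decompose_of_mem_same _ hbk]
    refine ⟨⟨Away.mk 𝒜 hs n (DirectSum.decompose 𝒜 a (n • i) : A) (SetLike.coe_mem _),
      ⟨_, k, rfl⟩⟩, ?_⟩
    rw [halg, halg, map_pow, away_map_fromZero, Away.map_mk]
    apply HomogeneousLocalization.val_injective
    rw [val_mul, val_pow, Away.val_mk, Away.val_mk]
    change Localization.mk b _ * (Localization.mk (φ c) 1) ^ k = _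
    rw [Localization.mk_pow, Localization.mk_mul, ha']
    congr 1
    simp
  · intro x y hxy
    rw [halg, halg] at hxy
    obtain ⟨n, a, ha, rfl⟩ := Away.mk_surjective 𝒜 hs x
    obtain ⟨m, a', ha', rfl⟩ := Away.mk_surjective 𝒜 hs y
    rw [Away.map_mk, Away.map_mk] at hxy
    replace hxy := congrArg val hxy
    rw [Away.val_mk, Away.val_mk, Localization.mk_eq_mk_iff, Localization.r_iff_exists] at hxy
    obtain ⟨⟨_, j, rfl⟩, hj⟩ := hxy
    have h0 : φ (s ^ j * (s ^ m * a) - s ^ j * (s ^ n * a')) = 0 := by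
      simp only [map_sub, map_mul, map_pow]
      rw [sub_eq_zero]
      exact hj
    obtain ⟨k, hk⟩ := h3 _ h0
    refine ⟨⟨_, k, rfl⟩, ?_⟩
    apply HomogeneousLocalization.val_injective
    rw [val_mul, val_mul, val_pow, Away.val_mk, Away.val_mk]
    change (Localization.mk c 1) ^ k * _ = (Localization.mk c 1) ^ k * _
    rw [Localization.mk_pow, Localization.mk_mul, Localization.mk_mul, Localization.mk_eq_mk_iff,
      Localization.r_iff_exists]
    refine ⟨⟨_, j, rfl⟩, ?_⟩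
    rw [mul_sub, sub_eq_zero] at hk
    simp only [one_pow, one_mul]
    linear_combination hk

variable (hφ : ℬ₊ ≤ (𝒜₊).map φ)

set_option backward.isDefEq.respectTransparency false in
/-- `Proj` of a degree-zero localization is an open subscheme. -/
theorem isOpenImmersion_map (c : A) (hc : c ∈ 𝒜 0) (h1 : IsUnit (φ c))
    (h2 : ∀ b : B, ∃ (a : A) (k : ℕ), b * φ c ^ k = φ a)
    (h3 : ∀ a : A, φ a = 0 → ∃ k : ℕ, c ^ k * a = 0) : IsOpenImmersion (Proj.map φ hφ) := by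
  refine of_away φ hφ @IsOpenImmersion fun i _ s hs => ?_
  letI := (Away.map φ s).toAlgebra
  haveI := away_isLocalization φ c hc h1 h2 h3 s hs
  exact IsOpenImmersion.of_isLocalization (R := Away 𝒜 s) (S := Away ℬ (φ s))
    (fromZeroRingHom 𝒜 (Submonoid.powers s) ⟨c, hc⟩)

set_option backward.isDefEq.respectTransparency false in
/-- the image of `Proj` of a degree-zero localization, on a standard chart -/
theorem range_map_aux (c : A) (hc : c ∈ 𝒜 0) (h1 : IsUnit (φ c))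
    (h2 : ∀ b : B, ∃ (a : A) (k : ℕ), b * φ c ^ k = φ a)
    (h3 : ∀ a : A, φ a = 0 → ∃ k : ℕ, c ^ k * a = 0) {i : ℕ} (hi : 0 < i) (s : A) (hs : s ∈ 𝒜 i)
    (z : Spec (.of (Away 𝒜 s))) :
    Proj.awayι 𝒜 s hs hi z ∈ Set.range (Proj.map φ hφ) ↔
      Proj.toSpecZero 𝒜 (Proj.awayι 𝒜 s hs hi z) ∈ PrimeSpectrum.basicOpen (⟨c, hc⟩ : 𝒜 0) := by
  have hpb := isPullback_away φ hφ hi s hs
  letI := (Away.map φ s).toAlgebra
  haveI := away_isLocalization φ c hc h1 h2 h3 s hs
  have hrange : Set.range (Spec.map (CommRingCat.ofHom (Away.map φ s))) =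
      ((PrimeSpectrum.basicOpen (fromZeroRingHom 𝒜 (Submonoid.powers s) ⟨c, hc⟩) :
        Opens (PrimeSpectrum (Away 𝒜 s))) : Set (PrimeSpectrum (Away 𝒜 s))) :=
    PrimeSpectrum.localization_away_comap_range (Away ℬ (φ s)) _
  have h4 : Proj.awayι 𝒜 s hs hi z ∈ Set.range (Proj.map φ hφ) ↔
      z ∈ Set.range (Spec.map (CommRingCat.ofHom (Away.map φ s))) := by
    constructor
    · rintro ⟨y, hy⟩
      obtain ⟨w, hw1, -⟩ := AlgebraicGeometry.Scheme.exists_preimage_of_isPullback hpb z y hy.symm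
      exact ⟨w, hw1⟩
    · rintro ⟨w, rfl⟩
      refine ⟨Proj.awayι ℬ (φ s) (φ.map_mem hs) hi w, ?_⟩
      rw [← Scheme.Hom.comp_apply, ← Scheme.Hom.comp_apply, hpb.w]
  rw [h4, hrange, ← Scheme.Hom.comp_apply, Proj.awayι_toSpecZero]
  rfl

set_option backward.isDefEq.respectTransparency false in
/-- the image of `Proj` of a degree-zero localization -/
theorem range_map (c : A) (hc : c ∈ 𝒜 0) (h1 : IsUnit (φ c))
    (h2 : ∀ b : B, ∃ (a : A) (k : ℕ), b * φ c ^ k = φ a)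
    (h3 : ∀ a : A, φ a = 0 → ∃ k : ℕ, c ^ k * a = 0) (x : Proj 𝒜) :
    x ∈ Set.range (Proj.map φ hφ) ↔
      Proj.toSpecZero 𝒜 x ∈ PrimeSpectrum.basicOpen (⟨c, hc⟩ : 𝒜 0) := by
  obtain ⟨z, hz⟩ := (Proj.affineOpenCover 𝒜).covers x
  rw [← hz]
  exact range_map_aux φ hφ c hc h1 h2 h3 ((Proj.affineOpenCover 𝒜).idx x).1.2 _
    ((Proj.affineOpenCover 𝒜).idx x).2.2 z

end Groth.Agent.Lib.Helper28.ProjLoc
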