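import Groth.Prelude.Def_RelProj
import Groth.Agent.Lib.Helper28.ProjLoc
import Groth.Agent.Lib.Helper28.RelProj

set_option autoImplicit false
universe u
open CategoryTheory CategoryTheory.Limits AlgebraicGeometry Opposite TopologicalSpace
open scoped HomogeneousIdeal
open HomogeneousLocalization

namespace Groth.Agent.Lib.Helper28.RelProjExists

open Groth.Agent.Lib.Helper28.ProjMap Groth.Agent.Lib.Helper28.ProjLoc

variable {Y : Scheme.{u}} (𝒮 : RelProj.QCGrAlg Y)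

theorem projMap_congr {A B : Type u} [CommRing A] [CommRing B] {𝒜 : ℕ → AddSubgroup A}
    {ℬ : ℕ → AddSubgroup B} [GradedRing 𝒜] [GradedRing ℬ] (f g : 𝒜 →+*ᵍ ℬ)
    (hf : ℬ₊ ≤ (𝒜₊).map f) (hg : ℬ₊ ≤ (𝒜₊).map g) (e : f = g) : Proj.map f hf = Proj.map g hg := by
  subst e; rfl

theorem hirr {V U : Y.AffineZariskiSite} (h : V ≤ U) :
    (𝒮.deg V.1 V.2)₊ ≤ ((𝒮.deg U.1 U.2)₊).map
      (𝒮.res U.2 V.2 (Scheme.AffineZariskiSite.toOpens_mono h)) := by
  obtain ⟨V, hV⟩ := V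
  obtain ⟨f, hf⟩ := h
  change Y.basicOpen f = V at hf
  subst hf
  exact 𝒮.irrelevant_le_map U.1 U.2 f

theorem res_id (U : Y.Opens) (hU : IsAffineOpen U) :
    𝒮.res hU hU le_rfl = GradedRingHom.id (𝒮.deg U hU) := by
  ext x
  change (𝒮.presheaf.map (𝟙 _)).hom x = x
  rw [CategoryTheory.Functor.map_id]
  rfl

theorem res_comp {U V W : Y.Opens} (hU : IsAffineOpen U) (hV : IsAffineOpen V) (hW : IsAffineOpen W)
    (i : V ≤ U) (j : W ≤ V) :
    𝒮.res hU hW (j.trans i) = (𝒮.res hV hW j).comp (𝒮.res hU hV i) := by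
  ext x
  change (𝒮.presheaf.map (homOfLE (j.trans i)).op).hom x =
    (𝒮.presheaf.map (homOfLE j).op).hom ((𝒮.presheaf.map (homOfLE i).op).hom x)
  rw [← CommRingCat.comp_apply, ← Functor.map_comp]
  rfl

/-- the functor `U ↦ Proj 𝒮(U)` -/
noncomputable def F : Y.AffineZariskiSite ⥤ Scheme.{u} where
  obj U := Proj (𝒮.deg U.1 U.2)
  map {V U} i := Proj.map (𝒮.res U.2 V.2 (Scheme.AffineZariskiSite.toOpens_mono i.le)) (hirr 𝒮 i.le)
  map_id U := by
    rw [← Proj.map_id]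
    exact projMap_congr _ _ _ _ (res_id 𝒮 U.1 U.2)
  map_comp {W V U} j i := by
    rw [← Proj.map_comp]
    exact projMap_congr _ _ _ _ (res_comp 𝒮 U.2 V.2 W.2 _ _)

theorem strZero_res {U V : Y.Opens} (hU : IsAffineOpen U) (hV : IsAffineOpen V) (i : V ≤ U) :
    𝒮.strZero U hU ≫ CommRingCat.ofHom (zeroHom (𝒮.res hU hV i)) =
      Y.presheaf.map (homOfLE i).op ≫ 𝒮.strZero V hV := by
  ext r
  have := congrArg (fun t => t.hom r) (𝒮.str.naturality (homOfLE i).op)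
  exact this.symm

/-- the structure map of a chart -/
noncomputable def natApp (U : Y.AffineZariskiSite) : Proj (𝒮.deg U.1 U.2) ⟶ (U.1 : Scheme.{u}) :=
  Proj.toSpecZero (𝒮.deg U.1 U.2) ≫ Spec.map (𝒮.strZero U.1 U.2) ≫ U.2.isoSpec.inv

@[reassoc]
theorem natApp_ι (U : Y.AffineZariskiSite) :
    natApp 𝒮 U ≫ U.1.ι = Proj.toSpecZero (𝒮.deg U.1 U.2) ≫ Spec.map (𝒮.strZero U.1 U.2) ≫
      U.2.fromSpec := by
  simp only [natApp, Category.assoc, IsAffineOpen.fromSpec]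

set_option backward.isDefEq.respectTransparency false in
theorem natApp_naturality {V U : Y.AffineZariskiSite} (i : V ⟶ U) :
    (F 𝒮).map i ≫ natApp 𝒮 U =
      natApp 𝒮 V ≫ Y.homOfLE (Scheme.AffineZariskiSite.toOpens_mono i.le) := by
  rw [← cancel_mono U.1.ι, Category.assoc, Category.assoc, Scheme.homOfLE_ι, natApp_ι, natApp_ι]
  change Proj.map _ _ ≫ _ = _
  rw [map_toSpecZero_assoc, ← Spec.map_comp_assoc, strZero_res, Spec.map_comp_assoc,
    IsAffineOpen.map_fromSpec]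

section BasicOpen

variable (U : Y.Opens) (hU : IsAffineOpen U) (f : Γ(Y, U))

theorem res_h1 : IsUnit (𝒮.res hU (hU.basicOpen f) (Y.basicOpen_le f) ((𝒮.str.app (op U)).hom f)) := by
  letI := (𝒮.presheaf.map (homOfLE (Y.basicOpen_le f)).op).hom.toAlgebra
  haveI : IsLocalization.Away ((𝒮.str.app (op U)).hom f) (𝒮.presheaf.obj (op (Y.basicOpen f))) :=
    𝒮.isQC U hU f
  exact IsLocalization.Away.algebraMap_isUnit ((𝒮.str.app (op U)).hom f)

theorem res_h2 (b : 𝒮.presheaf.obj (op (Y.basicOpen f))) :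
    ∃ (a : 𝒮.presheaf.obj (op U)) (k : ℕ),
      b * 𝒮.res hU (hU.basicOpen f) (Y.basicOpen_le f) ((𝒮.str.app (op U)).hom f) ^ k =
        𝒮.res hU (hU.basicOpen f) (Y.basicOpen_le f) a := by
  letI := (𝒮.presheaf.map (homOfLE (Y.basicOpen_le f)).op).hom.toAlgebra
  haveI : IsLocalization.Away ((𝒮.str.app (op U)).hom f) (𝒮.presheaf.obj (op (Y.basicOpen f))) :=
    𝒮.isQC U hU f
  obtain ⟨n, a, h⟩ := IsLocalization.Away.surj ((𝒮.str.app (op U)).hom f) b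
  exact ⟨a, n, h⟩

theorem res_h3 (a : 𝒮.presheaf.obj (op U))
    (ha : 𝒮.res hU (hU.basicOpen f) (Y.basicOpen_le f) a = 0) :
    ∃ k : ℕ, (𝒮.str.app (op U)).hom f ^ k * a = 0 := by
  letI := (𝒮.presheaf.map (homOfLE (Y.basicOpen_le f)).op).hom.toAlgebra
  haveI : IsLocalization.Away ((𝒮.str.app (op U)).hom f) (𝒮.presheaf.obj (op (Y.basicOpen f))) :=
    𝒮.isQC U hU f
  have h0 : algebraMap (𝒮.presheaf.obj (op U)) (𝒮.presheaf.obj (op (Y.basicOpen f))) a =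
      algebraMap (𝒮.presheaf.obj (op U)) (𝒮.presheaf.obj (op (Y.basicOpen f))) 0 := by
    rw [map_zero]; exact ha
  obtain ⟨n, hn⟩ := IsLocalization.Away.exists_of_eq ((𝒮.str.app (op U)).hom f) h0
  exact ⟨n, by rw [hn, mul_zero]⟩

set_option backward.isDefEq.respectTransparency false in
theorem isOpenImmersion_res :
    IsOpenImmersion (Proj.map (𝒮.res hU (hU.basicOpen f) (Y.basicOpen_le f))
      (𝒮.irrelevant_le_map U hU f)) :=
  Groth.Agent.Lib.Helper28.ProjLoc.isOpenImmersion_map _ _ ((𝒮.str.app (op U)).hom f)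
    (𝒮.str_mem U hU f) (res_h1 𝒮 U hU f) (res_h2 𝒮 U hU f) (res_h3 𝒮 U hU f)

set_option backward.isDefEq.respectTransparency false in
theorem equifibered_basicOpen :
    IsPullback (Proj.map (𝒮.res hU (hU.basicOpen f) (Y.basicOpen_le f)) (𝒮.irrelevant_le_map U hU f))
      (natApp 𝒮 ⟨Y.basicOpen f, hU.basicOpen f⟩) (natApp 𝒮 ⟨U, hU⟩)
      (Y.homOfLE (Y.basicOpen_le f)) := by
  haveI := isOpenImmersion_res 𝒮 U hU f
  refine (IsOpenImmersion.isPullback _ _ _ _ ?_ ?_).flip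
  · exact natApp_naturality 𝒮 (V := ⟨Y.basicOpen f, hU.basicOpen f⟩) (U := ⟨U, hU⟩)
      (homOfLE ⟨f, rfl⟩)
  · ext x
    rw [Scheme.opensRange_homOfLE, ← Scheme.Hom.comp_preimage]
    change (natApp 𝒮 ⟨U, hU⟩ ≫ U.ι) x ∈ Y.basicOpen f ↔ x ∈ Set.range _
    rw [Groth.Agent.Lib.Helper28.ProjLoc.range_map _ _ ((𝒮.str.app (op U)).hom f)
      (𝒮.str_mem U hU f) (res_h1 𝒮 U hU f) (res_h2 𝒮 U hU f) (res_h3 𝒮 U hU f)]
    rw [natApp_ι]
    change x ∈ (Proj.toSpecZero _ ≫ Spec.map _ ≫ hU.fromSpec) ⁻¹ᵁ Y.basicOpen f ↔ _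
    rw [Scheme.Hom.comp_preimage, Scheme.Hom.comp_preimage, hU.fromSpec_preimage_basicOpen]
    rfl

end BasicOpen

set_option backward.isDefEq.respectTransparency false in
theorem equifibered_aux {V U : Y.AffineZariskiSite} (i : V ⟶ U) :
    IsPullback ((F 𝒮).map i) (natApp 𝒮 V) (natApp 𝒮 U)
      (Y.homOfLE (Scheme.AffineZariskiSite.toOpens_mono i.le)) := by
  obtain ⟨V, hV⟩ := V
  obtain ⟨f, hf⟩ := i.le
  change Y.basicOpen f = V at hf
  subst hf
  exact equifibered_basicOpen 𝒮 U.1 U.2 f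

/-- the natural transformation to the cover -/
noncomputable def nat : F 𝒮 ⟶ (Scheme.AffineZariskiSite.directedCover Y).functorOfLocallyDirected where
  app U := natApp 𝒮 U
  naturality _ _ i := natApp_naturality 𝒮 i

/-- the relative gluing datum for `Proj 𝒮` -/
noncomputable def glueData : (Scheme.AffineZariskiSite.directedCover Y).RelativeGluingData where
  functor := F 𝒮
  natTrans := nat 𝒮
  equifibered _ _ i := equifibered_aux 𝒮 i

instance : ((glueData 𝒮).functor ⋙ Scheme.forget).IsLocallyDirected :=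
  Scheme.Cover.RelativeGluingData.instIsLocallyDirectedI₀CompFunctorForgetOfIsThin ..

/-- the glued scheme -/
noncomputable def P : Scheme.{u} := (glueData 𝒮).glued

/-- the structure morphism -/
noncomputable def p : P 𝒮 ⟶ Y := (glueData 𝒮).toBase

/-- the inclusion of a chart -/
noncomputable def j (U : Y.Opens) (hU : IsAffineOpen U) : Proj (𝒮.deg U hU) ⟶ P 𝒮 :=
  colimit.ι (glueData 𝒮).functor ⟨U, hU⟩

instance (U : Y.Opens) (hU : IsAffineOpen U) : IsOpenImmersion (j 𝒮 U hU) :=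
  (glueData 𝒮).cover.map_prop ⟨U, hU⟩

set_option backward.isDefEq.respectTransparency false in
theorem j_p (U : Y.Opens) (hU : IsAffineOpen U) :
    j 𝒮 U hU ≫ p 𝒮 = natApp 𝒮 ⟨U, hU⟩ ≫ U.ι :=
  (glueData 𝒮).ι_toBase ⟨U, hU⟩

set_option backward.isDefEq.respectTransparency false in
theorem range_j (U : Y.Opens) (hU : IsAffineOpen U) :
    (j 𝒮 U hU).opensRange = p 𝒮 ⁻¹ᵁ U := by
  have := (glueData 𝒮).toBase_preimage_eq_opensRange_ι ⟨U, hU⟩
  change p 𝒮 ⁻¹ᵁ (U.ι).opensRange = (j 𝒮 U hU).opensRange at this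
  rw [← this, Scheme.Opens.opensRange_ι]

theorem res_j {V U : Y.AffineZariskiSite} (i : V ⟶ U) :
    (F 𝒮).map i ≫ j 𝒮 U.1 U.2 = j 𝒮 V.1 V.2 :=
  colimit.w (glueData 𝒮).functor i

theorem range_eq (U : Y.Opens) (hU : IsAffineOpen U) :
    Set.range (j 𝒮 U hU) = Set.range (p 𝒮 ⁻¹ᵁ U).ι := by
  rw [Scheme.Opens.range_ι]
  exact congrArg (fun W : (P 𝒮).Opens => (W : Set (P 𝒮))) (range_j 𝒮 U hU)

/-- the charts -/
noncomputable def chart (U : Y.Opens) (hU : IsAffineOpen U) :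
    (((p 𝒮 ⁻¹ᵁ U : (P 𝒮).Opens) : Scheme.{u}) ≅ Proj (𝒮.deg U hU)) :=
  (IsOpenImmersion.isoOfRangeEq (j 𝒮 U hU) (p 𝒮 ⁻¹ᵁ U).ι (range_eq 𝒮 U hU)).symm

@[reassoc]
theorem chart_inv_ι (U : Y.Opens) (hU : IsAffineOpen U) :
    (chart 𝒮 U hU).inv ≫ (p 𝒮 ⁻¹ᵁ U).ι = j 𝒮 U hU :=
  IsOpenImmersion.isoOfRangeEq_hom_fac _ _ (range_eq 𝒮 U hU)

set_option backward.isDefEq.respectTransparency false in
theorem isRelProj : RelProj.IsRelProj 𝒮 (p 𝒮) (chart 𝒮) where
  chart_over U hU := by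
    rw [← cancel_epi (chart 𝒮 U hU).inv, Iso.inv_hom_id_assoc, chart_inv_ι_assoc, j_p, natApp_ι]
  chart_res U hU r := by
    rw [← cancel_epi (chart 𝒮 _ (hU.basicOpen r)).inv, Iso.inv_hom_id_assoc,
      ← cancel_mono (chart 𝒮 U hU).inv, Category.assoc, Category.assoc, Iso.hom_inv_id, Category.comp_id,
      ← cancel_mono (p 𝒮 ⁻¹ᵁ U).ι, Category.assoc, Category.assoc, Scheme.homOfLE_ι, chart_inv_ι,
      chart_inv_ι]
    exact (res_j 𝒮 (V := ⟨Y.basicOpen r, hU.basicOpen r⟩) (U := ⟨U, hU⟩) (homOfLE ⟨r, rfl⟩)).symm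

end Groth.Agent.Lib.Helper28.RelProjExists
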