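import Groth.Agent.Lib.Helper28.RelTwistEx2

set_option autoImplicit false
universe u
open CategoryTheory CategoryTheory.Limits AlgebraicGeometry Opposite TopologicalSpace TopCat
open scoped HomogeneousIdeal
noncomputable section

namespace Groth.Agent.Lib.Helper28.RelTwistEx

open Groth.Agent.Lib.Helper28

variable {Y P : Scheme.{u}} {𝒮 : RelProj.QCGrAlg Y} {p : P ⟶ Y}
  {chart : ∀ (U : Y.Opens) (hU : IsAffineOpen U), (((p ⁻¹ᵁ U : P.Opens) : Scheme.{u}) ≅ Proj (𝒮.deg U hU))}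

theorem ideal_comp {x : P} (c d d' : Ch 𝒮 p chart x) (hle : d.U ≤ c.U) (hle' : d'.U ≤ d.U)
    (h₁ : c.y.asHomogeneousIdeal.toIdeal =
      Ideal.comap (𝒮.res c.hU d.hU hle).toRingHom d.y.asHomogeneousIdeal.toIdeal)
    (h₂ : d.y.asHomogeneousIdeal.toIdeal =
      Ideal.comap (𝒮.res d.hU d'.hU hle').toRingHom d'.y.asHomogeneousIdeal.toIdeal) :
    c.y.asHomogeneousIdeal.toIdeal =
      Ideal.comap (𝒮.res c.hU d'.hU (hle'.trans hle)).toRingHom d'.y.asHomogeneousIdeal.toIdeal := by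
  have e : (𝒮.res d.hU d'.hU hle').toRingHom.comp (𝒮.res c.hU d.hU hle).toRingHom =
      (𝒮.res c.hU d'.hU (hle'.trans hle)).toRingHom := by
    rw [RelProjExists.res_comp 𝒮 c.hU d.hU d'.hU hle hle']
    rfl
  rw [← e, ← Ideal.comap_comap, ← h₂, ← h₁]

theorem exists_opens_nbhd {Q Q' P : Scheme.{u}} (eV : Q ⟶ P) (eD : Q' ⟶ P) [IsOpenImmersion eD] (M : Q'.Opens)
    (W : P.Opens) :
    ∃ N : Q.Opens, ∀ y : Q, y ∈ N ↔ (∃ z : Q', z ∈ M ∧ eD.base z = eV.base y) ∧ eV.base y ∈ W :=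
  ⟨(eV ⁻¹ᵁ (eD ''ᵁ M)) ⊓ (eV ⁻¹ᵁ W), fun _ => Iff.rfl⟩

theorem exists_opens_comap {A B : Type u} [CommRing A] [CommRing B] {σ τ : Type u} [SetLike σ A]
    [AddSubgroupClass σ A] [SetLike τ B] [AddSubgroupClass τ B] {𝒜 : ℕ → σ} {ℬ : ℕ → τ}
    [GradedRing 𝒜] [GradedRing ℬ] (ψ : 𝒜 →+*ᵍ ℬ) (hψ : ℬ₊ ≤ (𝒜₊).map ψ)
    (NU : Opens (ProjectiveSpectrum.top 𝒜)) :
    ∃ M : (Proj ℬ).Opens, ∀ z : ProjectiveSpectrum ℬ, z ∈ M ↔ ProjectiveSpectrum.comap ψ hψ z ∈ NU :=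
  ⟨Proj.map ψ hψ ⁻¹ᵁ NU, fun _ => Iff.rfl⟩

section surj

variable (hP : RelProj.IsRelProj 𝒮 p chart) (n : ℤ) (U : Y.Opens) (hU : IsAffineOpen U) (W : P.Opens)
  (hW : W ≤ p ⁻¹ᵁ U) (t : GrTwist.sectN (𝒜 := 𝒮.deg U hU) n (op (RelProj.emb p chart U hU ⁻¹ᵁ W)))

omit hP hW t n in
theorem memW {x : W} {yU : ProjectiveSpectrum (𝒮.deg U hU)} (hyU : (RelProj.emb p chart U hU).base yU = x.1) :
    (RelProj.emb p chart U hU).base yU ∈ W := by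
  rw [hyU]; exact x.2

/-- `q` is the value, at the chart `c` of a point `x ∈ W`, of the section reading as `t` on the chart over `U` -/
def Good (x : W) (c : Ch 𝒮 p chart x.1) (q : GrTwist.Loc (𝒮.deg c.U c.hU) c.y) : Prop :=
  ∀ (yU : ProjectiveSpectrum (𝒮.deg U hU)) (hyU : (RelProj.emb p chart U hU).base yU = x.1)
    (d : Ch 𝒮 p chart x.1) (r : Γ(Y, c.U)) (r' : Γ(Y, U)) (_ : d.U = Y.basicOpen r) (_ : d.U = Y.basicOpen r')
    (hle : d.U ≤ c.U) (hle' : d.U ≤ U)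
    (h : c.y.asHomogeneousIdeal.toIdeal =
      Ideal.comap (𝒮.res c.hU d.hU hle).toRingHom d.y.asHomogeneousIdeal.toIdeal)
    (h' : yU.asHomogeneousIdeal.toIdeal =
      Ideal.comap (𝒮.res hU d.hU hle').toRingHom d.y.asHomogeneousIdeal.toIdeal),
    RelTwistAlg.locMap' (𝒮.res c.hU d.hU hle).toRingHom c.y d.y h q =
      RelTwistAlg.locMap' (𝒮.res hU d.hU hle').toRingHom yU d.y h' (t.1 ⟨yU, memW U hU W hyU⟩).1

include hP hW in
theorem exists_good (x : W) (c : Ch 𝒮 p chart x.1) :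
    ∃ q ∈ GrTwist.twistAt (𝒮.deg c.U c.hU) n c.y, Good n U hU W t x c q := by
  obtain ⟨yU₀, hyU₀⟩ := exists_chart (𝒮 := 𝒮) (chart := chart) U hU x.1 (hW x.2)
  obtain ⟨d₀, r₀, r₀', hr₀, hr₀'⟩ := exists_common c (⟨U, hU, yU₀, hyU₀⟩ : Ch 𝒮 p chart x.1)
  have hle₀ : d₀.U ≤ c.U := Ch.le_of_eq hr₀
  have hle₀' : d₀.U ≤ U := Ch.le_of_eq (c := (⟨U, hU, yU₀, hyU₀⟩ : Ch 𝒮 p chart x.1)) hr₀'
  have hid₀ := ideal_eq hP c d₀ r₀ hr₀ hle₀
  have hid₀' := ideal_eq hP (⟨U, hU, yU₀, hyU₀⟩ : Ch 𝒮 p chart x.1) d₀ r₀' hr₀' hle₀'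
  have hq₀ := tau_mem n (⟨U, hU, yU₀, hyU₀⟩ : Ch 𝒮 p chart x.1) d₀ r₀' hr₀' hle₀' hid₀'
    (t.1 ⟨yU₀, memW U hU W hyU₀⟩).2
  obtain ⟨q, hq, hqe⟩ := tau_surj n c d₀ r₀ hr₀ hle₀ hid₀ hq₀
  refine ⟨q, hq, ?_⟩
  intro yU hyU d r r' hr hr' hle hle' h h'
  obtain rfl : yU = yU₀ := emb_inj U hU (hyU.trans hyU₀.symm)
  -- a common refinement of `d₀` and `d`
  have hx'' : p.base x.1 ∈ Y.basicOpen (r₀ * r) := by
    rw [Scheme.basicOpen_mul]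
    exact ⟨hr₀ ▸ d₀.base_mem, hr ▸ d.base_mem⟩
  obtain ⟨z, hz⟩ := exists_chart (𝒮 := 𝒮) (chart := chart) (Y.basicOpen (r₀ * r)) (c.hU.basicOpen (r₀ * r)) x.1 hx''
  obtain ⟨d'', hd''⟩ : ∃ d'' : Ch 𝒮 p chart x.1, d'' = ⟨Y.basicOpen (r₀ * r), c.hU.basicOpen (r₀ * r), z, hz⟩ :=
    ⟨_, rfl⟩
  have hD'' : d''.U = d₀.U ⊓ d.U := by
    rw [hd'', hr₀, hr]; exact Scheme.basicOpen_mul Y r₀ r
  have hl₀ : d''.U ≤ d₀.U := hD'' ▸ inf_le_left
  have hl : d''.U ≤ d.U := hD'' ▸ inf_le_right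
  have hb₀ : d''.U = Y.basicOpen (Y.presheaf.map (homOfLE hle₀).op r) := by
    rw [Scheme.basicOpen_res, hD'', hr]
  have hb : d''.U = Y.basicOpen (Y.presheaf.map (homOfLE hle).op r₀) := by
    rw [Scheme.basicOpen_res, hD'', hr₀, inf_comm]
  have i₀ := ideal_eq hP d₀ d'' _ hb₀ hl₀
  have i := ideal_eq hP d d'' _ hb hl
  apply tau_injective d d'' _ hb hl i
  have e1 := tau_comp c d d'' hle hl h i (ideal_comp c d d'' hle hl h i) q
  have e2 := tau_comp c d₀ d'' hle₀ hl₀ hid₀ i₀ (ideal_comp c d₀ d'' hle₀ hl₀ hid₀ i₀) q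
  have e3 := tau_comp (⟨U, hU, yU, hyU₀⟩ : Ch 𝒮 p chart x.1) d d'' hle' hl h' i
    (ideal_comp (⟨U, hU, yU, hyU₀⟩ : Ch 𝒮 p chart x.1) d d'' hle' hl h' i) (t.1 ⟨yU, memW U hU W hyU₀⟩).1
  have e4 := tau_comp (⟨U, hU, yU, hyU₀⟩ : Ch 𝒮 p chart x.1) d₀ d'' hle₀' hl₀ hid₀' i₀
    (ideal_comp (⟨U, hU, yU, hyU₀⟩ : Ch 𝒮 p chart x.1) d₀ d'' hle₀' hl₀ hid₀' i₀) (t.1 ⟨yU, memW U hU W hyU₀⟩).1
  refine e1.trans ?_
  refine Eq.trans ?_ e3.symm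
  refine e2.symm.trans ?_
  refine Eq.trans ?_ e4
  exact congrArg _ hqe

/-- the glued values -/
def sigma (x : W) (c : Ch 𝒮 p chart x.1) : GrTwist.twistAt (𝒮.deg c.U c.hU) n c.y :=
  ⟨Classical.choose (exists_good hP n U hU W hW t x c), (Classical.choose_spec (exists_good hP n U hU W hW t x c)).1⟩

theorem sigma_good (x : W) (c : Ch 𝒮 p chart x.1) : Good n U hU W t x c (sigma hP n U hU W hW t x c).1 :=
  (Classical.choose_spec (exists_good hP n U hU W hW t x c)).2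

omit hP hW t n W U hU in
theorem exists_basic_of_basic {V D D' : Y.Opens} (hV : IsAffineOpen V) (r : Γ(Y, V)) (hr : D = Y.basicOpen r)
    (ρ : Γ(Y, D)) (hρ : D' = Y.basicOpen ρ) : ∃ f' : Γ(Y, V), D' = Y.basicOpen f' := by
  subst hr
  obtain ⟨f', hf'⟩ := hV.basicOpen_basicOpen_is_basicOpen r ρ
  exact ⟨f', hρ.trans hf'.symm⟩

theorem sigma_compat (x : W) (c d : Ch 𝒮 p chart x.1) (r : Γ(Y, c.U)) (hr : d.U = Y.basicOpen r) (hle : d.U ≤ c.U)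
    (h : c.y.asHomogeneousIdeal.toIdeal =
      Ideal.comap (𝒮.res c.hU d.hU hle).toRingHom d.y.asHomogeneousIdeal.toIdeal) :
    ((sigma hP n U hU W hW t x d : GrTwist.twistAt (𝒮.deg d.U d.hU) n d.y) : GrTwist.Loc (𝒮.deg d.U d.hU) d.y) =
      RelTwistAlg.locMap' (𝒮.res c.hU d.hU hle).toRingHom c.y d.y h (sigma hP n U hU W hW t x c).1 := by
  obtain ⟨yU, hyU⟩ := exists_chart (𝒮 := 𝒮) (chart := chart) U hU x.1 (hW x.2)
  obtain ⟨d', ρ, ρ', hρ, hρ'⟩ := exists_common d (⟨U, hU, yU, hyU⟩ : Ch 𝒮 p chart x.1)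
  obtain ⟨f', hf'⟩ := exists_basic_of_basic c.hU r hr ρ hρ
  have hl : d'.U ≤ d.U := Ch.le_of_eq hρ
  have hl' : d'.U ≤ U := Ch.le_of_eq (c := (⟨U, hU, yU, hyU⟩ : Ch 𝒮 p chart x.1)) hρ'
  have i := ideal_eq hP d d' ρ hρ hl
  have i' := ideal_eq hP (⟨U, hU, yU, hyU⟩ : Ch 𝒮 p chart x.1) d' ρ' hρ' hl'
  have ic := ideal_comp c d d' hle hl h i
  have g1 := sigma_good hP n U hU W hW t x d yU hyU d' ρ ρ' hρ hρ' hl hl' i i'
  have g2 := sigma_good hP n U hU W hW t x c yU hyU d' f' ρ' hf' hρ' (hl.trans hle) hl' ic i'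
  have e := tau_comp c d d' hle hl h i ic (sigma hP n U hU W hW t x c).1
  apply tau_injective d d' ρ hρ hl i
  exact g1.trans (g2.symm.trans e.symm)

theorem sigma_chartU' (x : W) (yU : ProjectiveSpectrum (𝒮.deg U hU))
    (hyU : (RelProj.emb p chart U hU).base yU = x.1) :
    ((sigma hP n U hU W hW t x ⟨U, hU, yU, hyU⟩ :
      GrTwist.twistAt (𝒮.deg U hU) n yU) : GrTwist.Loc (𝒮.deg U hU) yU) = (t.1 ⟨yU, memW U hU W hyU⟩).1 := by
  obtain ⟨cU, hcU⟩ : ∃ cU : Ch 𝒮 p chart x.1, cU = ⟨U, hU, yU, hyU⟩ := ⟨_, rfl⟩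
  obtain ⟨d, r, r', hr, hr'⟩ := exists_common cU cU
  subst hcU
  have hle : d.U ≤ U := Ch.le_of_eq (c := (⟨U, hU, yU, hyU⟩ : Ch 𝒮 p chart x.1)) hr
  have i := ideal_eq hP (⟨U, hU, yU, hyU⟩ : Ch 𝒮 p chart x.1) d r hr hle
  have g := sigma_good hP n U hU W hW t x ⟨U, hU, yU, hyU⟩ yU hyU d r r hr hr hle hle i i
  exact tau_injective (⟨U, hU, yU, hyU⟩ : Ch 𝒮 p chart x.1) d r hr hle i g

theorem sigma_chartU (y : (RelProj.emb p chart U hU ⁻¹ᵁ W : (Proj (𝒮.deg U hU)).Opens)) :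
    ((sigma hP n U hU W hW t ⟨(RelProj.emb p chart U hU).base y.1, y.2⟩ ⟨U, hU, y.1, rfl⟩ :
      GrTwist.twistAt (𝒮.deg U hU) n y.1) : GrTwist.Loc (𝒮.deg U hU) y.1) = (t.1 y).1 :=
  sigma_chartU' hP n U hU W hW t ⟨(RelProj.emb p chart U hU).base y.1, y.2⟩ y.1 rfl

/-- near the image of `z₀`, the values `Sg` on the chart over `V` are given by one fraction -/
def FracNear (Sg : ∀ (x : W) (c : Ch 𝒮 p chart x.1), GrTwist.twistAt (𝒮.deg c.U c.hU) n c.y)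
    (V : Y.Opens) (hV : IsAffineOpen V) (D : Y.Opens) (hD : IsAffineOpen D)
    (z₀ : ProjectiveSpectrum (𝒮.deg D hD)) : Prop :=
  ∃ (N : (Proj (𝒮.deg V hV)).Opens),
    (∀ y : ProjectiveSpectrum (𝒮.deg V hV),
      (RelProj.emb p chart V hV).base y = (RelProj.emb p chart D hD).base z₀ → y ∈ N) ∧
    ∃ (hN : N ≤ RelProj.emb p chart V hV ⁻¹ᵁ W) (i j : ℕ) (a : 𝒮.deg V hV i) (s : 𝒮.deg V hV j)
      (s_nin : ∀ y : N, (s : 𝒮.presheaf.obj (op V)) ∉ y.1.asHomogeneousIdeal),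
      ((i : ℤ) = j + n ∨ (a : 𝒮.presheaf.obj (op V)) = 0) ∧
      ∀ y : N, ((Sg ⟨(RelProj.emb p chart V hV).base y.1, hN y.2⟩ ⟨V, hV, y.1, rfl⟩ :
        GrTwist.twistAt (𝒮.deg V hV) n y.1) : GrTwist.Loc (𝒮.deg V hV) y.1) =
          Localization.mk (a : 𝒮.presheaf.obj (op V)) ⟨s, s_nin y⟩

include hP in
/-- the pointwise computation: where `t` is the fraction `a / s`, the glued values are the lifted fraction -/
theorem locFrac_key (Sg : ∀ (x : W) (c : Ch 𝒮 p chart x.1), GrTwist.twistAt (𝒮.deg c.U c.hU) n c.y)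
    (hSg : ∀ (x : W) (c : Ch 𝒮 p chart x.1), Good n U hU W t x c (Sg x c).1)
    (V : Y.Opens) (hV : IsAffineOpen V) (D : Y.Opens) (hD : IsAffineOpen D)
    (f : Γ(Y, V)) (g : Γ(Y, U)) (hf : D = Y.basicOpen f) (hg : D = Y.basicOpen g) (hleV : D ≤ V) (hleU : D ≤ U)
    (hψU : (𝒮.deg D hD)₊ ≤ ((𝒮.deg U hU)₊).map (𝒮.res hU hD hleU))
    (a s : 𝒮.presheaf.obj (op U)) (a' s' : 𝒮.presheaf.obj (op V)) (k l : ℕ)
    (hsl : (𝒮.res hU hD hleU) s * (𝒮.res hV hD hleV) ((𝒮.str.app (op V)).hom f) ^ l = (𝒮.res hV hD hleV) s')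
    (hak : (𝒮.res hU hD hleU) a * (𝒮.res hV hD hleV) ((𝒮.str.app (op V)).hom f) ^ k = (𝒮.res hV hD hleV) a')
    (y : ProjectiveSpectrum (𝒮.deg V hV)) (hyW : (RelProj.emb p chart V hV).base y ∈ W)
    (z : ProjectiveSpectrum (𝒮.deg D hD))
    (hz : (RelProj.emb p chart D hD).base z = (RelProj.emb p chart V hV).base y)
    (hyUW : (RelProj.emb p chart U hU).base (ProjectiveSpectrum.comap (𝒮.res hU hD hleU) hψU z) ∈ W)
    (hsz : s ∉ (ProjectiveSpectrum.comap (𝒮.res hU hD hleU) hψU z).asHomogeneousIdeal)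
    (ht : ((t.1 ⟨ProjectiveSpectrum.comap (𝒮.res hU hD hleU) hψU z, hyUW⟩ :
        GrTwist.twistAt (𝒮.deg U hU) n _) : GrTwist.Loc (𝒮.deg U hU) _) = Localization.mk a ⟨s, hsz⟩) :
    ∃ hnin : s' * (𝒮.str.app (op V)).hom f ^ k ∉ y.asHomogeneousIdeal,
      ((Sg ⟨(RelProj.emb p chart V hV).base y, hyW⟩ ⟨V, hV, y, rfl⟩ :
        GrTwist.twistAt (𝒮.deg V hV) n y) : GrTwist.Loc (𝒮.deg V hV) y) =
          Localization.mk (a' * (𝒮.str.app (op V)).hom f ^ l) ⟨s' * (𝒮.str.app (op V)).hom f ^ k, hnin⟩ := by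
  have hres := res_facts 𝒮 hV hD f hf hleV
  have hC1 := hres.1
  have hid := ideal_eq hP (⟨V, hV, y, rfl⟩ : Ch 𝒮 p chart ((RelProj.emb p chart V hV).base y))
    ⟨D, hD, z, hz⟩ f hf hleV
  have hsz' : (𝒮.res hU hD hleU) s ∉ z.asHomogeneousIdeal := hsz
  have h4 : (𝒮.res hV hD hleV) (s' * (𝒮.str.app (op V)).hom f ^ k) =
      (𝒮.res hU hD hleU) s * (𝒮.res hV hD hleV) ((𝒮.str.app (op V)).hom f) ^ (l + k) := by
    rw [map_mul, map_pow, ← hsl, pow_add, mul_assoc]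
  have hnin : s' * (𝒮.str.app (op V)).hom f ^ k ∉ y.asHomogeneousIdeal := by
    intro hmem
    have h3 : ∀ I : Ideal (𝒮.presheaf.obj (op V)), y.asHomogeneousIdeal.toIdeal = I →
        s' * (𝒮.str.app (op V)).hom f ^ k ∈ I := by
      intro I hI; rw [← hI]; exact hmem
    have h1 : (𝒮.res hV hD hleV) (s' * (𝒮.str.app (op V)).hom f ^ k) ∈ z.asHomogeneousIdeal := h3 _ hid
    rw [h4] at h1
    exact RelTwistAlg.mul_unit_not_mem (𝒮.res hV hD hleV) _ hC1 z hsz' (l + k) h1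
  refine ⟨hnin, ?_⟩
  have hyU : (RelProj.emb p chart U hU).base (ProjectiveSpectrum.comap (𝒮.res hU hD hleU) hψU z) =
      (RelProj.emb p chart V hV).base y :=
    (RelTwistVal.emb_eq_of_eq hP hU hD g hg hleU z).symm.trans hz
  have G := hSg ⟨(RelProj.emb p chart V hV).base y, hyW⟩ ⟨V, hV, y, rfl⟩
    (ProjectiveSpectrum.comap (𝒮.res hU hD hleU) hψU z) hyU ⟨D, hD, z, hz⟩ f g hf hg hleV hleU hid rfl
  have e1 := (congrArg (RelTwistAlg.locMap' (𝒮.res hU hD hleU).toRingHom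
    (ProjectiveSpectrum.comap (𝒮.res hU hD hleU) hψU z) z rfl) ht).trans
    (RelTwistAlg.locMap'_mk' (𝒮.res hU hD hleU).toRingHom
      (ProjectiveSpectrum.comap (𝒮.res hU hD hleU) hψU z) z rfl a ⟨s, hsz⟩)
  have e2 := RelTwistAlg.locMap'_mk' (𝒮.res hV hD hleV).toRingHom y z hid
    (a' * (𝒮.str.app (op V)).hom f ^ l) ⟨s' * (𝒮.str.app (op V)).hom f ^ k, hnin⟩
  apply tau_injective (⟨V, hV, y, rfl⟩ : Ch 𝒮 p chart ((RelProj.emb p chart V hV).base y))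
    ⟨D, hD, z, hz⟩ f hf hleV hid
  refine G.trans (e1.trans (Eq.trans ?_ e2.symm))
  rw [Localization.mk_eq_mk_iff, Localization.r_iff_exists]
  refine ⟨1, ?_⟩
  simp only [OneMemClass.coe_one, one_mul]
  change (𝒮.res hV hD hleV) (s' * (𝒮.str.app (op V)).hom f ^ k) * (𝒮.res hU hD hleU) a =
    (𝒮.res hU hD hleU) s * (𝒮.res hV hD hleV) (a' * (𝒮.str.app (op V)).hom f ^ l)
  rw [map_mul, map_mul, map_pow, map_pow, ← hsl, ← hak]
  ring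

include hP in
theorem locFrac_aux (Sg : ∀ (x : W) (c : Ch 𝒮 p chart x.1), GrTwist.twistAt (𝒮.deg c.U c.hU) n c.y)
    (hSg : ∀ (x : W) (c : Ch 𝒮 p chart x.1), Good n U hU W t x c (Sg x c).1)
    (V : Y.Opens) (hV : IsAffineOpen V) (D : Y.Opens) (hD : IsAffineOpen D)
    (f : Γ(Y, V)) (g : Γ(Y, U)) (hf : D = Y.basicOpen f) (hg : D = Y.basicOpen g) (hleV : D ≤ V) (hleU : D ≤ U)
    (z₀ : ProjectiveSpectrum (𝒮.deg D hD)) (hz₀W : (RelProj.emb p chart D hD).base z₀ ∈ W) :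
    FracNear n W Sg V hV D hD z₀ := by
  have hψU := RelTwistVal.irrelevant_le_map_of_eq 𝒮 hU hD g hg hleU
  have hu₀ : (RelProj.emb p chart U hU).base (ProjectiveSpectrum.comap (𝒮.res hU hD hleU) hψU z₀) =
      (RelProj.emb p chart D hD).base z₀ := (RelTwistVal.emb_eq_of_eq hP hU hD g hg hleU z₀).symm
  have hu₀W : (RelProj.emb p chart U hU).base (ProjectiveSpectrum.comap (𝒮.res hU hD hleU) hψU z₀) ∈ W := by
    rw [hu₀]; exact hz₀W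
  obtain ⟨NU, hu₀N, iU, i, j, a, s, s_nin, hij, hfrac⟩ :=
    RelTwistAlg.exists_frac_of_sectN n (RelProj.emb p chart U hU ⁻¹ᵁ W) t
      ⟨ProjectiveSpectrum.comap (𝒮.res hU hD hleU) hψU z₀, hu₀W⟩
  have hres := res_facts 𝒮 hV hD f hf hleV
  have hC2 := hres.2.1
  have hcV : (𝒮.str.app (op V)).hom f ∈ 𝒮.deg V hV 0 := 𝒮.str_mem V hV f
  have hUs : (𝒮.res hU hD hleU) (s : 𝒮.presheaf.obj (op U)) ∈ 𝒮.deg D hD j := (𝒮.res hU hD hleU).map_mem s.2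
  have hUa : (𝒮.res hU hD hleU) (a : 𝒮.presheaf.obj (op U)) ∈ 𝒮.deg D hD i := (𝒮.res hU hD hleU).map_mem a.2
  obtain ⟨s', hs', l, hsl⟩ := RelTwistAlg.exists_homogeneous_lift (𝒮.res hV hD hleV) _ hcV hC2 hUs
  obtain ⟨a', ha', k, hak, ha0⟩ : ∃ (a' : 𝒮.presheaf.obj (op V)) (_ : a' ∈ 𝒮.deg V hV i) (k : ℕ),
      (𝒮.res hU hD hleU) a * (𝒮.res hV hD hleV) ((𝒮.str.app (op V)).hom f) ^ k = (𝒮.res hV hD hleV) a' ∧
      ((a : 𝒮.presheaf.obj (op U)) = 0 → a' = 0) := by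
    by_cases h0 : (a : 𝒮.presheaf.obj (op U)) = 0
    · exact ⟨0, zero_mem _, 0, by rw [h0, map_zero, map_zero, zero_mul], fun _ => rfl⟩
    · obtain ⟨a', ha', k, hak⟩ := RelTwistAlg.exists_homogeneous_lift (𝒮.res hV hD hleV) _ hcV hC2 hUa
      exact ⟨a', ha', k, hak, fun h => absurd h h0⟩
  obtain ⟨M, hM⟩ := exists_opens_comap (𝒮.res hU hD hleU) hψU NU
  obtain ⟨N, hN⟩ := exists_opens_nbhd (RelProj.emb p chart V hV) (RelProj.emb p chart D hD) M W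
  have hNW : N ≤ RelProj.emb p chart V hV ⁻¹ᵁ W := fun y hy => ((hN y).1 hy).2
  have key' : ∀ y : N, ∃ hnin : s' * (𝒮.str.app (op V)).hom f ^ k ∉ y.1.asHomogeneousIdeal,
      ((Sg ⟨(RelProj.emb p chart V hV).base y.1, hNW y.2⟩ ⟨V, hV, y.1, rfl⟩ :
        GrTwist.twistAt (𝒮.deg V hV) n y.1) : GrTwist.Loc (𝒮.deg V hV) y.1) =
          Localization.mk (a' * (𝒮.str.app (op V)).hom f ^ l) ⟨s' * (𝒮.str.app (op V)).hom f ^ k, hnin⟩ := by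
    intro y
    obtain ⟨z, hzM, hz⟩ := ((hN y.1).1 y.2).1
    have hzN : ProjectiveSpectrum.comap (𝒮.res hU hD hleU) hψU z ∈ NU := (hM z).1 hzM
    have hyUW : (RelProj.emb p chart U hU).base (ProjectiveSpectrum.comap (𝒮.res hU hD hleU) hψU z) ∈ W :=
      iU hzN
    exact locFrac_key hP n U hU W t Sg hSg V hV D hD f g hf hg hleV hleU hψU a s a' s' k l hsl hak y.1
      (hNW y.2) z hz hyUW (s_nin ⟨_, hzN⟩) (hfrac ⟨_, hzN⟩)
  unfold FracNear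
  refine ⟨N, ?_, hNW, i, j, ⟨a' * (𝒮.str.app (op V)).hom f ^ l, RelTwistAlg.pow_mul_mem _ hcV ha' l⟩,
    ⟨s' * (𝒮.str.app (op V)).hom f ^ k, RelTwistAlg.pow_mul_mem _ hcV hs' k⟩, fun y => (key' y).1, ?_,
    fun y => (key' y).2⟩
  · intro y hy
    refine (hN y).2 ⟨⟨z₀, (hM z₀).2 hu₀N, hy.symm⟩, ?_⟩
    rw [hy]; exact hz₀W
  · rcases hij with hij | h0
    · exact Or.inl hij
    · exact Or.inr (by show a' * _ = 0; rw [ha0 h0, zero_mul])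

theorem sigma_locFrac (V : Y.Opens) (hV : IsAffineOpen V) :
    (GrTwist.isLocFracN (𝒮.deg V hV) n).pred
      (fun y : (RelProj.emb p chart V hV ⁻¹ᵁ W : (Proj (𝒮.deg V hV)).Opens) =>
        sigma hP n U hU W hW t ⟨(RelProj.emb p chart V hV).base y.1, y.2⟩ ⟨V, hV, y.1, rfl⟩) := by
  apply RelTwistAlg.pred_of_forall_exists
  intro y₀
  have hxU : p.base ((RelProj.emb p chart V hV).base y₀.1) ∈ U := hW y₀.2
  have hxV : p.base ((RelProj.emb p chart V hV).base y₀.1) ∈ V :=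
    Ch.base_mem (⟨V, hV, y₀.1, rfl⟩ : Ch 𝒮 p chart ((RelProj.emb p chart V hV).base y₀.1))
  obtain ⟨f, g, hfg, hxD⟩ := exists_basicOpen_le_affine_inter hV hU _ ⟨hxV, hxU⟩
  obtain ⟨z₀, hz₀⟩ := exists_chart (𝒮 := 𝒮) (chart := chart) (Y.basicOpen f) (hV.basicOpen f) _ hxD
  have hleV : Y.basicOpen f ≤ V := Y.basicOpen_le f
  have hleU : Y.basicOpen f ≤ U := by rw [hfg]; exact Y.basicOpen_le g
  have hz₀W : (RelProj.emb p chart (Y.basicOpen f) (hV.basicOpen f)).base z₀ ∈ W := by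
    rw [hz₀]; exact y₀.2
  have main := locFrac_aux hP n U hU W t (sigma hP n U hU W hW t) (sigma_good hP n U hU W hW t)
    V hV (Y.basicOpen f) (hV.basicOpen f) f g rfl hfg hleV hleU z₀ hz₀W
  unfold FracNear at main
  obtain ⟨N, hN1, hN, i, j, a, s, s_nin, hij, hfrac⟩ := main
  exact ⟨N, hN1 y₀.1 hz₀.symm, hN, i, j, a, s, s_nin, hij, hfrac⟩

include hW in
/-- the chart identification is surjective on sections over opens lying over the affine open -/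
theorem lamApp_surjective : Function.Surjective (lamApp 𝒮 p chart hP n U hU W) := by
  intro t
  refine ⟨⟨fun x c => sigma hP n U hU W hW t x c,
    ⟨fun V hV => sigma_locFrac hP n U hU W hW t V hV,
      fun x c d r hr hle h => sigma_compat hP n U hU W hW t x c d r hr hle h⟩⟩, ?_⟩
  apply Subtype.ext
  funext y
  apply Subtype.ext
  exact sigma_chartU hP n U hU W hW t y

end surj

/-- the constructed module with its chart identifications is the twisting sheaf `O_P(n)` -/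
theorem isRelTwist (hP : RelProj.IsRelProj 𝒮 p chart) (n : ℤ) :
    RelProj.IsRelTwist 𝒮 p chart n (L 𝒮 p chart hP n) (lam 𝒮 p chart hP n) where
  bijective U hU W hW :=
    ⟨lamApp_injective hP n U hU W hW, lamApp_surjective hP n U hU W hW⟩
  compat := compat hP n

end Groth.Agent.Lib.Helper28.RelTwistEx
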