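import Mathlib

/-!
# The grading of the symmetric algebra by symmetric powers

`SymmetricAlgebra R M` is graded by the powers of the range of `ι`.
-/

set_option autoImplicit false
noncomputable section

namespace Groth.Agent.Lib.Helper28.SymGrading

open scoped DirectSum

variable (R M : Type*) [CommRing R] [AddCommGroup M] [Module R M]

/-- the degree-`d` part of the symmetric algebra -/
def gradePow (d : ℕ) : Submodule R (SymmetricAlgebra R M) :=
  LinearMap.range (SymmetricAlgebra.ι R M) ^ d

instance : SetLike.GradedMonoid (gradePow R M) := by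
  unfold gradePow
  infer_instance

/-- `ι` into the graded structure -/
def gι : M →ₗ[R] ⨁ i : ℕ, ↥(gradePow R M i) :=
  DirectSum.lof R ℕ (fun i => ↥(gradePow R M i)) 1 ∘ₗ
    (SymmetricAlgebra.ι R M).codRestrict _ fun m => by
      unfold gradePow
      simpa only [pow_one] using LinearMap.mem_range_self _ m

theorem ι_mem (m : M) : SymmetricAlgebra.ι R M m ∈ gradePow R M 1 := by
  unfold gradePow
  simpa only [pow_one] using LinearMap.mem_range_self _ m

theorem gι_apply (m : M) :
    gι R M m = DirectSum.of (fun i : ℕ => ↥(gradePow R M i)) 1 ⟨SymmetricAlgebra.ι R M m, ι_mem R M m⟩ :=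
  rfl

instance gradedAlgebra : GradedAlgebra (gradePow R M) :=
  GradedAlgebra.ofAlgHom _ (SymmetricAlgebra.lift (gι R M))
    (by
      apply SymmetricAlgebra.algHom_ext
      ext m
      show (DirectSum.coeAlgHom (gradePow R M)) ((SymmetricAlgebra.lift (gι R M)) (SymmetricAlgebra.ι R M m)) =
        SymmetricAlgebra.ι R M m
      rw [SymmetricAlgebra.lift_ι_apply, gι_apply, DirectSum.coeAlgHom_of])
    fun i x => by
      obtain ⟨x, hx⟩ := x
      dsimp only [Subtype.coe_mk, DirectSum.lof_eq_of]
      unfold gradePow at hx
      induction hx using Submodule.pow_induction_on_left' with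
      | algebraMap r =>
        rw [AlgHom.commutes, DirectSum.algebraMap_apply]; rfl
      | add x y i hx hy ihx ihy =>
        rw [map_add, ihx, ihy, ← map_add]
        rfl
      | mem_mul m hm i x hx ih =>
        obtain ⟨_, rfl⟩ := hm
        rw [map_mul, ih, SymmetricAlgebra.lift_ι_apply, gι_apply, DirectSum.of_mul_of]
        exact DirectSum.of_eq_of_gradedMonoid_eq (Sigma.subtype_ext (add_comm _ _) rfl)

end Groth.Agent.Lib.Helper28.SymGrading

namespace Groth.Agent.Lib.Helper28.SymGrading

open scoped DirectSum

section maps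

variable {R M : Type*} [CommRing R] [AddCommGroup M] [Module R M]

/-- a ring homomorphism out of the symmetric algebra sending scalars to degree zero and generators to degree one
preserves degrees -/
theorem map_mem_of_ι {T σ : Type*} [CommRing T] [SetLike σ T] [AddSubmonoidClass σ T] (ℬ : ℕ → σ)
    [SetLike.GradedMonoid ℬ] (F : SymmetricAlgebra R M →+* T)
    (h0 : ∀ a : R, F (algebraMap R _ a) ∈ ℬ 0) (h1 : ∀ m : M, F (SymmetricAlgebra.ι R M m) ∈ ℬ 1)
    {d : ℕ} {x : SymmetricAlgebra R M} (hx : x ∈ gradePow R M d) : F x ∈ ℬ d := by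
  unfold gradePow at hx
  induction hx using Submodule.pow_induction_on_left' with
  | algebraMap r => exact h0 r
  | add x y i hx hy ihx ihy =>
    rw [map_add]
    exact add_mem ihx ihy
  | mem_mul m hm i x hx ih =>
    obtain ⟨m, rfl⟩ := hm
    rw [map_mul]
    have := SetLike.mul_mem_graded (A := ℬ) (h1 m) ih
    rwa [add_comm] at this

theorem algebraMap_mem (a : R) : algebraMap R (SymmetricAlgebra R M) a ∈ gradePow R M 0 := by
  unfold gradePow
  rw [pow_zero]
  exact Submodule.algebraMap_mem a

/-- the monomials of degree `d` -/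
def monoSet (R M : Type*) [CommRing R] [AddCommGroup M] [Module R M] (d : ℕ) : Set (SymmetricAlgebra R M) :=
  {x | ∃ (a : R) (l : List M), l.length = d ∧
    x = algebraMap R (SymmetricAlgebra R M) a * (l.map (SymmetricAlgebra.ι R M)).prod}

/-- the degree-`d` part is additively generated by the monomials -/
theorem mem_closure_monoSet {d : ℕ} {x : SymmetricAlgebra R M} (hx : x ∈ gradePow R M d) :
    x ∈ AddSubgroup.closure (monoSet R M d) := by
  unfold gradePow at hx
  induction hx using Submodule.pow_induction_on_left' with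
  | algebraMap r =>
    refine AddSubgroup.subset_closure ⟨r, [], rfl, ?_⟩
    rw [List.map_nil, List.prod_nil, mul_one]
  | add x y i hx hy ihx ihy => exact add_mem ihx ihy
  | mem_mul m hm i x hx ih =>
    obtain ⟨m, rfl⟩ := hm
    refine AddSubgroup.closure_induction (p := fun y _ => SymmetricAlgebra.ι R M m * y ∈
      AddSubgroup.closure (monoSet R M (i + 1))) (fun y hy => ?_) ?_ (fun y y' _ _ hy hy' => ?_)
      (fun y _ hy => ?_) ih
    · obtain ⟨a, l, hl, rfl⟩ := hy
      refine AddSubgroup.subset_closure ⟨a, m :: l, by rw [List.length_cons, hl], ?_⟩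
      rw [List.map_cons, List.prod_cons]
      ring
    · rw [mul_zero]
      exact zero_mem _
    · rw [mul_add]
      exact add_mem hy hy'
    · rw [mul_neg]
      exact neg_mem hy

end maps

section transport

variable {A B σ : Type*} [CommRing A] [CommRing B] [SetLike σ B] [AddSubgroupClass σ B] (e : A ≃+* B) (ℬ : ℕ → σ)

/-- the grading transported along a ring isomorphism -/
def comapDeg (d : ℕ) : AddSubgroup A where
  carrier := {x | e x ∈ ℬ d}
  add_mem' := fun {x y} hx hy => by
    show e (x + y) ∈ ℬ d
    rw [map_add]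
    exact add_mem hx hy
  zero_mem' := by
    show e 0 ∈ ℬ d
    rw [map_zero]
    exact zero_mem _
  neg_mem' := fun {x} hx => by
    show e (-x) ∈ ℬ d
    rw [map_neg]
    exact neg_mem hx

theorem mem_comapDeg {d : ℕ} {x : A} : x ∈ comapDeg e ℬ d ↔ e x ∈ ℬ d := Iff.rfl

instance [GradedRing ℬ] : SetLike.GradedMonoid (comapDeg e ℬ) where
  one_mem := by
    rw [mem_comapDeg, map_one]
    exact SetLike.GradedOne.one_mem
  mul_mem := fun i j x y hx hy => by
    rw [mem_comapDeg, map_mul]
    exact SetLike.mul_mem_graded hx hy

/-- the components correspond -/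
def compEquiv (d : ℕ) : comapDeg e ℬ d ≃+ ℬ d where
  toFun x := ⟨e x.1, x.2⟩
  invFun y := ⟨e.symm y.1, by rw [mem_comapDeg, e.apply_symm_apply]; exact y.2⟩
  left_inv x := Subtype.ext (e.symm_apply_apply x.1)
  right_inv y := Subtype.ext (e.apply_symm_apply y.1)
  map_add' x y := Subtype.ext (map_add e x.1 y.1)

theorem coe_comapDeg_eq :
    DirectSum.coeAddMonoidHom (comapDeg e ℬ) =
      (e.symm.toRingHom.toAddMonoidHom.comp (DirectSum.coeAddMonoidHom ℬ)).comp
        (DirectSum.map fun d => (compEquiv e ℬ d).toAddMonoidHom) := by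
  apply DirectSum.addHom_ext
  intro d x
  rw [DirectSum.coeAddMonoidHom_of, AddMonoidHom.comp_apply, AddMonoidHom.comp_apply, DirectSum.map_of,
    DirectSum.coeAddMonoidHom_of]
  exact (e.symm_apply_apply x.1).symm

variable [GradedRing ℬ]

theorem isInternal_comapDeg : DirectSum.IsInternal (comapDeg e ℬ) := by
  unfold DirectSum.IsInternal
  rw [coe_comapDeg_eq]
  have h1 : Function.Bijective (DirectSum.map fun d => (compEquiv e ℬ d).toAddMonoidHom) := by
    refine Function.bijective_iff_has_inverse.2
      ⟨DirectSum.map fun d => (compEquiv e ℬ d).symm.toAddMonoidHom, fun x => ?_, fun y => ?_⟩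
    · have := DFunLike.congr_fun (DirectSum.map_comp (fun d => (compEquiv e ℬ d).toAddMonoidHom)
        (fun d => (compEquiv e ℬ d).symm.toAddMonoidHom)) x
      rw [AddMonoidHom.comp_apply] at this
      rw [← this]
      have h2 : (fun d => ((compEquiv e ℬ d).symm.toAddMonoidHom).comp ((compEquiv e ℬ d).toAddMonoidHom)) =
          fun d => AddMonoidHom.id _ := by
        funext d
        ext x
        simp
      rw [h2, DirectSum.map_id]
      rfl
    · have := DFunLike.congr_fun (DirectSum.map_comp (fun d => (compEquiv e ℬ d).symm.toAddMonoidHom)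
        (fun d => (compEquiv e ℬ d).toAddMonoidHom)) y
      rw [AddMonoidHom.comp_apply] at this
      rw [← this]
      have h2 : (fun d => ((compEquiv e ℬ d).toAddMonoidHom).comp ((compEquiv e ℬ d).symm.toAddMonoidHom)) =
          fun d => AddMonoidHom.id _ := by
        funext d
        ext x
        simp
      rw [h2, DirectSum.map_id]
      rfl
  exact (e.symm.bijective.comp (DirectSum.Decomposition.isInternal ℬ)).comp h1

/-- the transported grading is a grading -/
@[instance_reducible]
def gradedRingComap : GradedRing (comapDeg e ℬ) :=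
  { (inferInstance : SetLike.GradedMonoid (comapDeg e ℬ)),
    (isInternal_comapDeg e ℬ).chooseDecomposition with }

end transport

end Groth.Agent.Lib.Helper28.SymGrading
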