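import Groth.Agent.Lib.Helper28.SymAlgUniv
import Groth.Agent.Lib.Helper28.SymGrading
import Groth.Agent.Lib.Helper28.QCohGen
import Groth.Prelude.Def_RelProj2

/-!
# The graded symmetric algebra of a quasi-coherent module
-/

set_option autoImplicit false
universe u
open CategoryTheory CategoryTheory.Limits AlgebraicGeometry Opposite TopologicalSpace
noncomputable section

namespace Groth.Agent.Lib.Helper28.SymAlg

open Groth.Agent.Lib.Helper28 Groth.Agent.Lib.Helper28.QCohLoc Groth.Agent.Lib.Helper28.SymGrading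

section ring

variable {R R' : Type*} [CommRing R] [CommRing R'] {M M' : Type*} [AddCommGroup M] [Module R M]
  [AddCommGroup M'] [Module R' M']

theorem symMap_mem (ρ : R →+* R') (g : M →ₛₗ[ρ] M') {d : ℕ} {x : SymmetricAlgebra R M}
    (hx : x ∈ gradePow R M d) : symMap ρ g x ∈ gradePow R' M' d := by
  refine map_mem_of_ι (gradePow R' M') (symMap ρ g) (fun a => ?_) (fun m => ?_) hx
  · rw [symMap_algebraMap]
    exact algebraMap_mem _
  · rw [symMap_ι]
    exact ι_mem R' M' _

end ring

variable {S : Scheme.{u}} (E : S.Modules) (hQC : RelSpec.IsQC (symPre E) (symStr E))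

/-- the ring isomorphism underlying `eU` -/
def eUEquiv (U : S.Opens) (hU : IsAffineOpen U) :
    (symAlg E hQC).presheaf.obj (op U) ≃+* SymmetricAlgebra Γ(S, U) Γ(E, U) :=
  (eU E hQC U hU).commRingCatIsoToRingEquiv

theorem eUEquiv_apply (U : S.Opens) (hU : IsAffineOpen U) (z : (symAlg E hQC).presheaf.obj (op U)) :
    eUEquiv E hQC U hU z = (eU E hQC U hU).hom.hom z := rfl

/-- the degree-`d` part of `Sym E` over an affine open -/
def degS (U : S.Opens) (hU : IsAffineOpen U) (d : ℕ) : AddSubgroup ((symAlg E hQC).presheaf.obj (op U)) :=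
  comapDeg (eUEquiv E hQC U hU) (gradePow Γ(S, U) Γ(E, U)) d

theorem mem_degS (U : S.Opens) (hU : IsAffineOpen U) (d : ℕ) (z : (symAlg E hQC).presheaf.obj (op U)) :
    z ∈ degS E hQC U hU d ↔ (eU E hQC U hU).hom.hom z ∈ gradePow Γ(S, U) Γ(E, U) d := Iff.rfl

theorem eU_inv_algebraMap (U : S.Opens) (hU : IsAffineOpen U) (a : Γ(S, U)) :
    (eU E hQC U hU).inv.hom (algebraMap Γ(S, U) (SymmetricAlgebra Γ(S, U) Γ(E, U)) a) =
      ((symAlg E hQC).str.app (op U)).hom a := by
  apply eU_injective E hQC U hU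
  rw [str_eU]
  have h := (eU E hQC U hU).inv_hom_id
  exact congrArg (fun ψ => ψ.hom (algebraMap Γ(S, U) (SymmetricAlgebra Γ(S, U) Γ(E, U)) a)) h

/-- restriction of the degree-one generators, for arbitrary inclusions of affine opens -/
theorem jAff_res' {U V : S.Opens} (hU : IsAffineOpen U) (hV : IsAffineOpen V) (i : V ≤ U) (m : Γ(E, U)) :
    ((symAlg E hQC).presheaf.map (homOfLE i).op).hom (jAff E hQC U hU m) = jAff E hQC V hV (res E i m) := by
  rw [← jHom_app_affine E hQC U hU, ← jHom_app_affine E hQC V hV]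
  exact (QCohLoc.app_res (jHom E hQC) i m).symm

theorem str_res' {U V : S.Opens} (i : V ≤ U) (a : Γ(S, U)) :
    ((symAlg E hQC).presheaf.map (homOfLE i).op).hom (((symAlg E hQC).str.app (op U)).hom a) =
      ((symAlg E hQC).str.app (op V)).hom (resO i a) := by
  have h := (symAlg E hQC).str.naturality (homOfLE i).op
  exact (congrArg (fun ψ => ψ.hom a) h).symm

theorem list_prod_mem_gradePow {R M : Type*} [CommRing R] [AddCommGroup M] [Module R M] (l : List M) :
    (l.map (SymmetricAlgebra.ι R M)).prod ∈ gradePow R M l.length := by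
  induction l with
  | nil =>
    rw [List.map_nil, List.prod_nil, List.length_nil]
    exact SetLike.GradedOne.one_mem
  | cons m l ih =>
    rw [List.map_cons, List.prod_cons, List.length_cons, add_comm]
    exact SetLike.mul_mem_graded (ι_mem R M m) ih

theorem res_inv_list_prod {U V : S.Opens} (hU : IsAffineOpen U) (hV : IsAffineOpen V) (i : V ≤ U)
    (l : List Γ(E, U)) :
    ((symAlg E hQC).presheaf.map (homOfLE i).op).hom
      ((eU E hQC U hU).inv.hom (l.map (SymmetricAlgebra.ι Γ(S, U) Γ(E, U))).prod) =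
      ((l.map (res E i)).map (jAff E hQC V hV)).prod := by
  induction l with
  | nil =>
    rw [List.map_nil, List.prod_nil, List.map_nil, List.map_nil, List.prod_nil, map_one, map_one]
  | cons m l ih =>
    rw [List.map_cons, List.prod_cons, map_mul, map_mul, ih, List.map_cons, List.map_cons, List.prod_cons]
    congr 1
    exact jAff_res' E hQC hU hV i m

theorem eU_list_prod_jAff {V : S.Opens} (hV : IsAffineOpen V) (l : List Γ(E, V)) :
    (eU E hQC V hV).hom.hom (l.map (jAff E hQC V hV)).prod =
      (l.map (SymmetricAlgebra.ι Γ(S, V) Γ(E, V))).prod := by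
  induction l with
  | nil => rw [List.map_nil, List.prod_nil, List.map_nil, List.prod_nil, map_one]
  | cons m l ih =>
    rw [List.map_cons, List.prod_cons, map_mul, ih, List.map_cons, List.prod_cons, eU_jAff]

theorem res_mem_degS {U V : S.Opens} (hU : IsAffineOpen U) (hV : IsAffineOpen V) (i : V ≤ U) {d : ℕ}
    {x : (symAlg E hQC).presheaf.obj (op U)} (hx : x ∈ degS E hQC U hU d) :
    ((symAlg E hQC).presheaf.map (homOfLE i).op).hom x ∈ degS E hQC V hV d := by
  rw [mem_degS] at hx
  have h1 := mem_closure_monoSet hx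
  have hx' : (eU E hQC U hU).inv.hom ((eU E hQC U hU).hom.hom x) = x := by
    have h := (eU E hQC U hU).hom_inv_id
    exact congrArg (fun ψ => ψ.hom x) h
  rw [← hx']
  refine AddSubgroup.closure_induction
    (p := fun y _ => ((symAlg E hQC).presheaf.map (homOfLE i).op).hom ((eU E hQC U hU).inv.hom y) ∈
      degS E hQC V hV d) (fun y hy => ?_) ?_ (fun y y' _ _ hy hy' => ?_) (fun y _ hy => ?_) h1
  · obtain ⟨a, l, hl, rfl⟩ := hy
    rw [map_mul, map_mul, eU_inv_algebraMap, str_res', res_inv_list_prod E hQC hU hV i l, mem_degS, map_mul,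
      str_eU, eU_list_prod_jAff]
    have h4 := list_prod_mem_gradePow (R := Γ(S, V)) (List.map (res E i) l)
    rw [List.length_map, hl] at h4
    have h5 := SetLike.mul_mem_graded (algebraMap_mem (R := Γ(S, V)) (M := Γ(E, V)) (resO i a)) h4
    rwa [zero_add] at h5
  · rw [map_zero, map_zero]
    exact zero_mem _
  · rw [map_add, map_add]
    exact add_mem hy hy'
  · rw [map_neg, map_neg]
    exact neg_mem hy

/-- **the graded symmetric algebra** -/
def grSymAlg : RelProj.QCGrAlg S where
  toQCAlg := symAlg E hQC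
  deg U hU d := degS E hQC U hU d
  graded U hU := gradedRingComap (eUEquiv E hQC U hU) (gradePow Γ(S, U) Γ(E, U))
  map_mem := fun {U V} hU hV i {d} {x} hx => res_mem_degS E hQC hU hV i hx
  str_mem U hU r := by
    rw [mem_degS, str_eU]
    exact algebraMap_mem _

theorem grSymAlg_toQCAlg : (grSymAlg E hQC).toQCAlg = symAlg E hQC := rfl

/-- the canonical map `E ⟶ Sym E` -/
def grJ : E ⟶ (grSymAlg E hQC).toModule := jHom E hQC

theorem isGrSymAlg : RelProj.IsGrSymAlg E (grSymAlg E hQC) (grJ E hQC) := by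
  refine ⟨isSymAlg hQC, fun U hU x => ?_⟩
  show (jHom E hQC).app U x ∈ degS E hQC U hU 1
  rw [jHom_app_affine E hQC U hU]
  show (eU E hQC U hU).hom.hom (jAff E hQC U hU x) ∈ gradePow Γ(S, U) Γ(E, U) 1
  rw [eU_jAff]
  exact ι_mem _ _ _

end Groth.Agent.Lib.Helper28.SymAlg
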