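import Groth.Prelude.Def_RelSpec2
import Groth.Agent.Lib.Helper28.GlueLocal
import Groth.Agent.Lib.Helper28.ProjChart
import Groth.Agent.Lib.Helper28.ProjMap
import Mathlib

set_option autoImplicit false
universe u
open CategoryTheory CategoryTheory.Limits AlgebraicGeometry Opposite TopologicalSpace
open scoped HomogeneousIdeal
open HomogeneousLocalization
noncomputable section

namespace Groth.Agent.Lib.Helper28.ProjQ

open Groth.Agent.Lib.Helper28.RelProjGlue (hom_ext_of_local)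

variable {A σ : Type u} [CommRing A] [SetLike σ A] [AddSubgroupClass σ A] {𝒜 : ℕ → σ} [GradedRing 𝒜]
variable {B τ : Type u} [CommRing B] [SetLike τ B] [AddSubgroupClass τ B] {ℬ : ℕ → τ} [GradedRing ℬ]
variable (φ : 𝒜 →+*ᵍ ℬ)

/-- membership in the open of definition through homogeneous elements of positive degree -/
theorem mem_dom_iff (x : Proj ℬ) :
    x ∈ RelCone.domOpen φ ↔ ∃ d : ℕ, 0 < d ∧ ∃ f ∈ 𝒜 d, φ f ∉ x.asHomogeneousIdeal := by
  rw [RelCone.mem_domOpen]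
  constructor
  · rintro ⟨f, hf, hfx⟩
    by_contra hcon
    push Not at hcon
    apply hfx
    classical
    rw [← DirectSum.sum_support_decompose 𝒜 f, map_sum]
    refine Ideal.sum_mem _ fun i _ => ?_
    by_cases hi : i = 0
    · subst hi
      have h0 : (DirectSum.decompose 𝒜 f 0 : A) = 0 := by
        have := (HomogeneousIdeal.mem_irrelevant_iff 𝒜 f).1 hf
        simpa [GradedRing.proj_apply] using this
      rw [h0, map_zero]
      exact Ideal.zero_mem _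
    · exact hcon i (Nat.pos_of_ne_zero hi) _ (SetLike.coe_mem _)
  · rintro ⟨d, hd, f, hf, hfx⟩
    exact ⟨f, HomogeneousIdeal.mem_irrelevant_of_mem _ hd hf, hfx⟩

theorem basicOpen_le_dom {d : ℕ} {f : A} (hf : f ∈ 𝒜 d) (hd : 0 < d) :
    Proj.basicOpen ℬ (φ f) ≤ RelCone.domOpen φ := by
  intro x hx
  exact (mem_dom_iff φ x).2 ⟨d, hd, f, hf, (ProjectiveSpectrum.mem_basicOpen _ _ _).mp hx⟩

theorem range_awayι_subset {d : ℕ} {f : A} (hf : f ∈ 𝒜 d) (hd : 0 < d) :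
    Set.range (Proj.awayι ℬ (φ f) (φ.2 hf) hd).base ⊆ Set.range (RelCone.domOpen φ).ι.base := by
  rw [Scheme.Opens.range_ι]
  rintro _ ⟨y, rfl⟩
  apply basicOpen_le_dom φ hf hd
  rw [← Proj.opensRange_awayι ℬ (φ f) (φ.2 hf) hd]
  exact ⟨y, rfl⟩

/-- the standard chart `Spec B_(φ f) ⟶ G(φ)` -/
def chartQ {d : ℕ} {f : A} (hf : f ∈ 𝒜 d) (hd : 0 < d) :
    Spec (CommRingCat.of (Away ℬ (φ f))) ⟶ (RelCone.domOpen φ : Scheme.{u}) :=
  IsOpenImmersion.lift (RelCone.domOpen φ).ι (Proj.awayι ℬ (φ f) (φ.2 hf) hd)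
    (range_awayι_subset φ hf hd)

@[reassoc]
theorem chartQ_ι {d : ℕ} {f : A} (hf : f ∈ 𝒜 d) (hd : 0 < d) :
    chartQ φ hf hd ≫ (RelCone.domOpen φ).ι = Proj.awayι ℬ (φ f) (φ.2 hf) hd :=
  IsOpenImmersion.lift_fac _ _ _

instance chartQ_isOpenImmersion {d : ℕ} {f : A} (hf : f ∈ 𝒜 d) (hd : 0 < d) :
    IsOpenImmersion (chartQ φ hf hd) := by
  have : IsOpenImmersion (chartQ φ hf hd ≫ (RelCone.domOpen φ).ι) := by
    rw [chartQ_ι]; infer_instance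
  exact IsOpenImmersion.of_comp _ (RelCone.domOpen φ).ι

variable (𝒜) in
/-- index of the charts -/
structure Idx where
  d : ℕ
  f : A
  hd : 0 < d
  hf : f ∈ 𝒜 d

theorem range_chartQ {d : ℕ} {f : A} (hf : f ∈ 𝒜 d) (hd : 0 < d) (x : (RelCone.domOpen φ : Scheme.{u})) :
    x ∈ Set.range (chartQ φ hf hd) ↔ (RelCone.domOpen φ).ι x ∈ Proj.basicOpen ℬ (φ f) := by
  rw [← Proj.opensRange_awayι ℬ (φ f) (φ.2 hf) hd]
  constructor
  · rintro ⟨y, rfl⟩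
    refine ⟨y, ?_⟩
    rw [← Scheme.Hom.comp_apply, chartQ_ι]
  · rintro ⟨y, hy⟩
    refine ⟨y, ?_⟩
    apply (RelCone.domOpen φ).ι.isOpenEmbedding.injective
    rw [← Scheme.Hom.comp_apply, chartQ_ι]
    exact hy

theorem exists_chart (x : (RelCone.domOpen φ : Scheme.{u})) :
    ∃ t : Idx 𝒜, x ∈ Set.range (chartQ φ t.hf t.hd) := by
  have hx : x.1 ∈ RelCone.domOpen φ := x.2
  obtain ⟨d, hd, f, hf, hfx⟩ := (mem_dom_iff φ x.1).1 hx
  exact ⟨⟨d, f, hd, hf⟩, (range_chartQ φ hf hd x).2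
    ((ProjectiveSpectrum.mem_basicOpen _ _ _).mpr hfx)⟩

/-- the pieces -/
def piece (t : Idx 𝒜) : Spec (CommRingCat.of (Away ℬ (φ t.f))) ⟶ Proj 𝒜 :=
  Spec.map (CommRingCat.ofHom (Away.map φ t.f)) ≫ Proj.awayι 𝒜 t.f t.hf t.hd

theorem ring_identity {d e : ℕ} {f g x : A} (hf : f ∈ 𝒜 d) (hg : g ∈ 𝒜 e) (hx : x = f * g) :
    (Away.map φ x).comp (awayMap 𝒜 hg hx) =
      (awayMap ℬ (φ.2 hg) (show φ x = φ f * φ g by rw [hx, map_mul])).comp (Away.map φ f) := by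
  ext z
  obtain ⟨n, a, ha, rfl⟩ := Away.mk_surjective 𝒜 hf z
  simp only [RingHom.comp_apply]
  rw [awayMap_mk, Away.map_mk, Away.map_mk, awayMap_mk]
  simp only [Away.val_mk, map_mul, map_pow]
  rfl

theorem piece_restrict (t : Idx 𝒜) {e : ℕ} {g : A} (hg : g ∈ 𝒜 e) {x : A} (hx : x = t.f * g)
    {d' : ℕ} (hd' : 0 < d') (hx' : x ∈ 𝒜 d') :
    Spec.map (CommRingCat.ofHom (awayMap ℬ (φ.2 hg) (show φ x = φ t.f * φ g by rw [hx, map_mul])))
      ≫ piece φ t = piece φ ⟨d', x, hd', hx'⟩ := by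
  unfold piece
  rw [← Spec.map_comp_assoc, ← CommRingCat.ofHom_comp, ← ring_identity φ t.hf hg hx,
    CommRingCat.ofHom_comp, Spec.map_comp_assoc, Proj.SpecMap_awayMap_awayι]
  rfl

set_option backward.isDefEq.respectTransparency false in
theorem glue_H (t s : Idx 𝒜) (x : Spec (CommRingCat.of (Away ℬ (φ t.f))))
    (y : Spec (CommRingCat.of (Away ℬ (φ s.f))))
    (hxy : chartQ φ t.hf t.hd x = chartQ φ s.hf s.hd y) :
    ∃ (V : Scheme.{u}) (a : V ⟶ Spec (CommRingCat.of (Away ℬ (φ t.f))))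
      (b : V ⟶ Spec (CommRingCat.of (Away ℬ (φ s.f)))),
      a ≫ chartQ φ t.hf t.hd = b ≫ chartQ φ s.hf s.hd ∧
      IsOpenImmersion (a ≫ chartQ φ t.hf t.hd) ∧
      chartQ φ t.hf t.hd x ∈ Set.range (a ≫ chartQ φ t.hf t.hd) ∧
      a ≫ piece φ t = b ≫ piece φ s := by
  have hmem : t.f * s.f ∈ 𝒜 (t.d + s.d) := SetLike.mul_mem_graded t.hf s.hf
  have hpos : 0 < t.d + s.d := Nat.add_pos_left t.hd _
  have e1 : φ (t.f * s.f) = φ t.f * φ s.f := map_mul φ _ _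
  have e2 : φ (t.f * s.f) = φ s.f * φ t.f := by rw [map_mul, mul_comm]
  have ha : Spec.map (CommRingCat.ofHom (awayMap ℬ (φ.2 s.hf) e1)) ≫ chartQ φ t.hf t.hd =
      chartQ φ hmem hpos := by
    rw [← cancel_mono (RelCone.domOpen φ).ι, Category.assoc, chartQ_ι, chartQ_ι,
      Proj.SpecMap_awayMap_awayι]
  have hb : Spec.map (CommRingCat.ofHom (awayMap ℬ (φ.2 t.hf) e2)) ≫ chartQ φ s.hf s.hd =
      chartQ φ hmem hpos := by
    rw [← cancel_mono (RelCone.domOpen φ).ι, Category.assoc, chartQ_ι, chartQ_ι,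
      Proj.SpecMap_awayMap_awayι]
    rfl
  refine ⟨_, Spec.map (CommRingCat.ofHom (awayMap ℬ (φ.2 s.hf) e1)),
    Spec.map (CommRingCat.ofHom (awayMap ℬ (φ.2 t.hf) e2)), ha.trans hb.symm, ?_, ?_, ?_⟩
  · rw [ha]; infer_instance
  · rw [ha, range_chartQ, e1, Proj.basicOpen_mul]
    have h1 := (range_chartQ φ t.hf t.hd _).1 ⟨x, rfl⟩
    have h2 := (range_chartQ φ s.hf s.hd _).1 ⟨y, rfl⟩
    rw [← hxy] at h2
    exact ⟨h1, h2⟩
  · rw [piece_restrict φ t s.hf rfl hpos hmem, piece_restrict φ s t.hf (mul_comm _ _) hpos hmem]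

/-- existence and uniqueness of the partial morphism `Proj(φ) : G(φ) ⟶ Proj 𝒜` -/
theorem existsUnique_vQ : ∃! v : (RelCone.domOpen φ : Scheme.{u}) ⟶ Proj 𝒜,
    ∀ t : Idx 𝒜, chartQ φ t.hf t.hd ≫ v = piece φ t :=
  GlueLocal.existsUnique_glue (fun t : Idx 𝒜 => Spec (CommRingCat.of (Away ℬ (φ t.f))))
    (fun t => chartQ φ t.hf t.hd) (exists_chart φ) (piece φ) (glue_H φ)

/-- the partial morphism `Proj(φ) : G(φ) ⟶ Proj 𝒜` -/
def vQ : (RelCone.domOpen φ : Scheme.{u}) ⟶ Proj 𝒜 := (existsUnique_vQ φ).choose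

@[reassoc]
theorem chartQ_vQ {d : ℕ} {f : A} (hf : f ∈ 𝒜 d) (hd : 0 < d) :
    chartQ φ hf hd ≫ vQ φ =
      Spec.map (CommRingCat.ofHom (Away.map φ f)) ≫ Proj.awayι 𝒜 f hf hd :=
  (existsUnique_vQ φ).choose_spec.1 ⟨d, f, hd, hf⟩

/-- morphisms out of `G(φ)` are determined on the charts -/
theorem hom_ext {Z : Scheme.{u}} (v w : (RelCone.domOpen φ : Scheme.{u}) ⟶ Z)
    (h : ∀ (d : ℕ) (f : A) (hd : 0 < d) (hf : f ∈ 𝒜 d), chartQ φ hf hd ≫ v = chartQ φ hf hd ≫ w) :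
    v = w := by
  refine (Glue.cov (fun t : Idx 𝒜 => Spec (CommRingCat.of (Away ℬ (φ t.f))))
    (fun t => chartQ φ t.hf t.hd) (exists_chart φ)).hom_ext _ _ fun t => ?_
  exact h t.d t.f t.hd t.hf

theorem vQ_unique (v : (RelCone.domOpen φ : Scheme.{u}) ⟶ Proj 𝒜)
    (h : ∀ (d : ℕ) (f : A) (hd : 0 < d) (hf : f ∈ 𝒜 d), chartQ φ hf hd ≫ v =
      Spec.map (CommRingCat.ofHom (Away.map φ f)) ≫ Proj.awayι 𝒜 f hf hd) : v = vQ φ :=
  hom_ext φ _ _ fun d f hd hf => by rw [h d f hd hf, chartQ_vQ]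

section props
open Groth.Agent.Lib.Helper28.ProjChart

theorem map_elem {e d : ℕ} {g f : A} (hg : g ∈ 𝒜 e) (hf : f ∈ 𝒜 d) :
    Away.map φ g (Away.isLocalizationElem hg hf) =
      Away.isLocalizationElem (𝒜 := ℬ) (f := φ g) (g := φ f) (φ.2 hg) (φ.2 hf) := by
  unfold Away.isLocalizationElem
  rw [Away.map_mk]
  apply HomogeneousLocalization.val_injective
  simp only [Away.val_mk, map_pow]

set_option backward.isDefEq.respectTransparency false in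
theorem preimage_basicOpen {d : ℕ} {f : A} (hf : f ∈ 𝒜 d) :
    vQ φ ⁻¹ᵁ Proj.basicOpen 𝒜 f = (RelCone.domOpen φ).ι ⁻¹ᵁ Proj.basicOpen ℬ (φ f) := by
  ext x
  obtain ⟨t, y, rfl⟩ := exists_chart φ x
  have h1 : vQ φ (chartQ φ t.hf t.hd y) = Proj.awayι 𝒜 t.f t.hf t.hd
      (Spec.map (CommRingCat.ofHom (Away.map φ t.f)) y) := by
    rw [← Scheme.Hom.comp_apply, chartQ_vQ φ t.hf t.hd]
    rfl
  have h2 : (RelCone.domOpen φ).ι (chartQ φ t.hf t.hd y) =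
      Proj.awayι ℬ (φ t.f) (φ.2 t.hf) t.hd y := by
    rw [← Scheme.Hom.comp_apply, chartQ_ι]
  change vQ φ (chartQ φ t.hf t.hd y) ∈ Proj.basicOpen 𝒜 f ↔
    (RelCone.domOpen φ).ι (chartQ φ t.hf t.hd y) ∈ Proj.basicOpen ℬ (φ f)
  have hA := awayι_mem_basicOpen_iff 𝒜 t.hf hf t.hd
    (Spec.map (CommRingCat.ofHom (Away.map φ t.f)) y)
  have hB := awayι_mem_basicOpen_iff ℬ (g := φ t.f) (f := φ f) (φ.2 t.hf) (φ.2 hf) t.hd y
  rw [h1, h2]
  refine hA.trans (Iff.trans ?_ hB.symm)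
  rw [← map_elem φ t.hf hf]
  rfl

theorem preimage_eq_opensRange {d : ℕ} {f : A} (hd : 0 < d) (hf : f ∈ 𝒜 d) :
    (RelCone.domOpen φ).ι ⁻¹ᵁ Proj.basicOpen ℬ (φ f) = (chartQ φ hf hd).opensRange := by
  ext x
  exact (range_chartQ φ hf hd x).symm

set_option backward.isDefEq.respectTransparency false in
/-- the charts of `G(φ)` are the pullbacks of the standard charts of `Proj 𝒜` -/
theorem isPullback_chart {d : ℕ} {f : A} (hd : 0 < d) (hf : f ∈ 𝒜 d) :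
    IsPullback (Spec.map (CommRingCat.ofHom (Away.map φ f))) (chartQ φ hf hd)
      (Proj.awayι 𝒜 f hf hd) (vQ φ) := by
  refine IsOpenImmersion.isPullback _ _ _ _ (chartQ_vQ φ hf hd) ?_
  rw [Proj.opensRange_awayι, preimage_basicOpen φ hf, preimage_eq_opensRange φ hd hf]

set_option backward.isDefEq.respectTransparency false in
/-- a target-local property holds for the partial morphism if it holds on the charts -/
theorem of_away (P : MorphismProperty Scheme.{u}) [IsZariskiLocalAtTarget P]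
    (H : ∀ (i : ℕ) (_ : 0 < i) (s : A) (_ : s ∈ 𝒜 i),
      P (Spec.map (CommRingCat.ofHom (Away.map φ s)))) :
    P (vQ φ) :=
  ProjMap.of_isPullback_openCover P (vQ φ) (Proj.affineOpenCover 𝒜).openCover
    (fun s => Spec (CommRingCat.of (Away ℬ (φ s.2.1))))
    (fun s => chartQ φ s.2.2 s.1.2)
    (fun s => Spec.map (CommRingCat.ofHom (Away.map φ s.2.1)))
    (fun s => isPullback_chart φ s.1.2 s.2.2) (fun s => H _ s.1.2 _ s.2.2)

set_option backward.isDefEq.respectTransparency false in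
theorem isAffineHom_vQ : IsAffineHom (vQ φ) :=
  of_away φ @IsAffineHom fun _ _ _ _ => inferInstance

/-- The degree-zero part of a graded ring homomorphism. -/
def zeroHom : 𝒜 0 →+* ℬ 0 where
  toFun x := ⟨φ x.1, φ.map_mem x.2⟩
  map_one' := Subtype.ext (map_one φ)
  map_mul' a b := Subtype.ext (map_mul φ a.1 b.1)
  map_zero' := Subtype.ext (map_zero φ)
  map_add' a b := Subtype.ext (map_add φ a.1 b.1)

@[simp] theorem zeroHom_coe (x : 𝒜 0) : ((zeroHom φ x : ℬ 0) : B) = φ x.1 := rfl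

theorem away_map_fromZero (s : A) (x : 𝒜 0) :
    Away.map φ s (fromZeroRingHom 𝒜 (Submonoid.powers s) x) =
      fromZeroRingHom ℬ (Submonoid.powers (φ s)) (zeroHom φ x) := by
  apply HomogeneousLocalization.val_injective
  change Localization.mk (φ x.1) ⟨φ 1, _⟩ = Localization.mk (φ x.1) 1
  congr 1
  exact Subtype.ext (map_one φ)

set_option backward.isDefEq.respectTransparency false in
/-- the partial morphism is compatible with the structure maps to the degree-zero spectra -/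
@[reassoc] theorem vQ_toSpecZero :
    vQ φ ≫ Proj.toSpecZero 𝒜 =
      (RelCone.domOpen φ).ι ≫ Proj.toSpecZero ℬ ≫ Spec.map (CommRingCat.ofHom (zeroHom φ)) := by
  refine hom_ext φ _ _ fun d f hd hf => ?_
  rw [chartQ_vQ_assoc, chartQ_ι_assoc, Proj.awayι_toSpecZero,
    Proj.awayι_toSpecZero_assoc, ← Spec.map_comp, ← Spec.map_comp]
  congr 1
  ext x
  exact congrArg val (away_map_fromZero φ _ x)

/-- `(TN)`-surjectivity: surjective in all large degrees -/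
def TNSurj : Prop := ∃ n : ℕ, ∀ k, n ≤ k → ∀ y ∈ ℬ k, ∃ x ∈ 𝒜 k, φ x = y

/-- `(TN)`-injectivity: injective in all large degrees -/
def TNInj : Prop := ∃ n : ℕ, ∀ k, n ≤ k → ∀ x ∈ 𝒜 k, φ x = 0 → x = 0

theorem dom_eq_top_of_tnSurj (h : TNSurj φ) : RelCone.domOpen φ = ⊤ := by
  obtain ⟨n, hn⟩ := h
  rw [eq_top_iff]
  intro x _
  rw [mem_dom_iff]
  -- some homogeneous element of positive degree is not in `x`
  have hx : ∃ d : ℕ, 0 < d ∧ ∃ g ∈ ℬ d, g ∉ x.asHomogeneousIdeal := by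
    by_contra hcon
    push Not at hcon
    apply x.not_irrelevant_le
    rw [HomogeneousIdeal.irrelevant_le]
    intro i hi b hb
    exact hcon i hi b hb
  obtain ⟨d, hd, g, hg, hgx⟩ := hx
  have hpow : g ^ (n + 1) ∈ ℬ ((n + 1) • d) := SetLike.pow_mem_graded _ hg
  have hle : n ≤ (n + 1) • d := by
    rw [smul_eq_mul]
    calc n ≤ n + 1 := Nat.le_succ n
      _ = (n + 1) * 1 := (mul_one _).symm
      _ ≤ (n + 1) * d := Nat.mul_le_mul_left _ hd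
  obtain ⟨a, ha, hag⟩ := hn _ hle _ hpow
  refine ⟨(n + 1) • d, ?_, a, ha, ?_⟩
  · rw [smul_eq_mul]; positivity
  · rw [hag]
    intro hmem
    exact hgx (x.isPrime.mem_of_pow_mem _ hmem)

theorem away_map_surjective_of_tnSurj (h : TNSurj φ) {d : ℕ} (hd : 0 < d) {f : A} (hf : f ∈ 𝒜 d) :
    Function.Surjective (Away.map φ f) := by
  obtain ⟨n, hn⟩ := h
  intro z
  obtain ⟨k, y, hy, rfl⟩ := Away.mk_surjective ℬ (φ.2 hf) z
  have hy' : φ f ^ n * y ∈ ℬ ((n + k) • d) := by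
    have := SetLike.mul_mem_graded (A := ℬ) (SetLike.pow_mem_graded n (φ.2 hf)) hy
    rwa [← add_smul] at this
  have hle : n ≤ (n + k) • d := by
    rw [smul_eq_mul]
    calc n ≤ n + k := Nat.le_add_right n k
      _ = (n + k) * 1 := (mul_one _).symm
      _ ≤ (n + k) * d := Nat.mul_le_mul_left _ hd
  obtain ⟨x, hx, hxy⟩ := hn _ hle _ hy'
  refine ⟨Away.mk 𝒜 hf (n + k) x hx, ?_⟩
  rw [Away.map_mk]
  apply HomogeneousLocalization.val_injective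
  rw [Away.val_mk, Away.val_mk, Localization.mk_eq_mk_iff, Localization.r_iff_exists]
  refine ⟨1, ?_⟩
  simp only [OneMemClass.coe_one, one_mul]
  rw [hxy, pow_add]
  change φ f ^ k * (φ f ^ n * y) = φ f ^ n * φ f ^ k * y
  ring

theorem away_map_injective_of_tnInj (h : TNInj φ) {d : ℕ} (hd : 0 < d) {f : A} (hf : f ∈ 𝒜 d) :
    Function.Injective (Away.map φ f) := by
  obtain ⟨n, hn⟩ := h
  rw [injective_iff_map_eq_zero]
  intro z hz
  obtain ⟨k, x, hx, rfl⟩ := Away.mk_surjective 𝒜 hf z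
  rw [Away.map_mk] at hz
  have hz' := congrArg val hz
  rw [Away.val_mk, val_zero, Localization.mk_eq_mk', IsLocalization.mk'_eq_zero_iff] at hz'
  obtain ⟨⟨_, m, rfl⟩, hm⟩ := hz'
  have hmem : f ^ (m + n) * x ∈ 𝒜 ((m + n) • d + k • d) :=
    SetLike.mul_mem_graded (SetLike.pow_mem_graded _ hf) hx
  have hle : n ≤ (m + n) • d + k • d := by
    rw [smul_eq_mul, smul_eq_mul]
    calc n ≤ m + n := Nat.le_add_left n m
      _ = (m + n) * 1 := (mul_one _).symm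
      _ ≤ (m + n) * d := Nat.mul_le_mul_left _ hd
      _ ≤ (m + n) * d + k * d := Nat.le_add_right _ _
  have hφ0 : φ (f ^ (m + n) * x) = 0 := by
    rw [map_mul, map_pow, pow_add, mul_comm (φ f ^ m), mul_assoc]
    have : φ f ^ m * φ x = 0 := hm
    rw [this, mul_zero]
  have h0 := hn _ hle _ hmem hφ0
  apply HomogeneousLocalization.val_injective
  rw [Away.val_mk, val_zero, Localization.mk_eq_mk', IsLocalization.mk'_eq_zero_iff]
  exact ⟨⟨f ^ (m + n), m + n, rfl⟩, h0⟩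

set_option backward.isDefEq.respectTransparency false in
theorem isClosedImmersion_vQ (h : TNSurj φ) : IsClosedImmersion (vQ φ) :=
  of_away φ @IsClosedImmersion fun _ hi _ hs =>
    IsClosedImmersion.spec_of_surjective _ (away_map_surjective_of_tnSurj φ h hi hs)

set_option backward.isDefEq.respectTransparency false in
theorem isIso_vQ (h : TNSurj φ) (h' : TNInj φ) : IsIso (vQ φ) := by
  refine of_away φ (MorphismProperty.isomorphisms Scheme.{u}) fun i hi s hs => ?_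
  have hbij : Function.Bijective (Away.map φ s) :=
    ⟨away_map_injective_of_tnInj φ h' hi hs, away_map_surjective_of_tnSurj φ h hi hs⟩
  have : IsIso (CommRingCat.ofHom (Away.map φ s)) :=
    (ConcreteCategory.isIso_iff_bijective _).2 hbij
  exact (inferInstance : IsIso (Spec.map (CommRingCat.ofHom (Away.map φ s))))

end props

section natural
variable {A' σ' : Type u} [CommRing A'] [SetLike σ' A'] [AddSubgroupClass σ' A'] {𝒜' : ℕ → σ'} [GradedRing 𝒜']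
variable {B' τ' : Type u} [CommRing B'] [SetLike τ' B'] [AddSubgroupClass τ' B'] {ℬ' : ℕ → τ'} [GradedRing ℬ']
variable (φ' : 𝒜' →+*ᵍ ℬ') (ρ : 𝒜 →+*ᵍ 𝒜') (ρ' : ℬ →+*ᵍ ℬ')

theorem domOpen_comp_of_irr (hρ : 𝒜'₊ ≤ (𝒜₊).map ρ) :
    RelCone.domOpen (φ'.comp ρ) = RelCone.domOpen φ' := by
  ext x
  change x ∈ RelCone.domOpen (φ'.comp ρ) ↔ x ∈ RelCone.domOpen φ'
  constructor
  · intro hx
    obtain ⟨d, hd, f, hf, hfx⟩ := (mem_dom_iff _ x).1 hx
    exact (mem_dom_iff _ x).2 ⟨d, hd, ρ f, ρ.2 hf, hfx⟩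
  · intro hx
    rw [RelCone.mem_domOpen] at hx ⊢
    by_contra hcon
    push Not at hcon
    obtain ⟨f', hf', hfx⟩ := hx
    apply hfx
    have h1 : ((𝒜₊).map ρ).toIdeal ≤ x.asHomogeneousIdeal.toIdeal.comap φ' := by
      change Ideal.map ρ (𝒜₊).toIdeal ≤ _
      rw [Ideal.map_le_iff_le_comap]
      intro f hf
      exact hcon f hf
    exact h1 (hρ hf')

theorem preimage_domOpen (hρ' : ℬ'₊ ≤ (ℬ₊).map ρ') :
    Proj.map ρ' hρ' ⁻¹ᵁ RelCone.domOpen φ = RelCone.domOpen (ρ'.comp φ) := by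
  ext x
  change (Proj.map ρ' hρ') x ∈ RelCone.domOpen φ ↔ x ∈ RelCone.domOpen (ρ'.comp φ)
  rw [RelCone.mem_domOpen, RelCone.mem_domOpen]
  rfl

theorem preimage_domOpen_sq (hρ : 𝒜'₊ ≤ (𝒜₊).map ρ) (hρ' : ℬ'₊ ≤ (ℬ₊).map ρ')
    (hsq : ρ'.comp φ = φ'.comp ρ) :
    Proj.map ρ' hρ' ⁻¹ᵁ RelCone.domOpen φ = RelCone.domOpen φ' := by
  rw [preimage_domOpen, hsq, domOpen_comp_of_irr _ _ hρ]

section nat
variable (hρ : 𝒜'₊ ≤ (𝒜₊).map ρ) (hρ' : ℬ'₊ ≤ (ℬ₊).map ρ') (hsq : ρ'.comp φ = φ'.comp ρ)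

include hρ hsq in
theorem range_mD_subset :
    Set.range ((RelCone.domOpen φ').ι ≫ Proj.map ρ' hρ').base ⊆
      Set.range (RelCone.domOpen φ).ι.base := by
  rw [Scheme.Opens.range_ι]
  rintro _ ⟨x, rfl⟩
  have hx : x.1 ∈ Proj.map ρ' hρ' ⁻¹ᵁ RelCone.domOpen φ := by
    rw [preimage_domOpen_sq φ φ' ρ ρ' hρ hρ' hsq]
    exact x.2
  exact hx

/-- the restriction of `Proj.map ρ'` to the opens of definition -/
def mD : (RelCone.domOpen φ' : Scheme.{u}) ⟶ (RelCone.domOpen φ : Scheme.{u}) :=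
  IsOpenImmersion.lift (RelCone.domOpen φ).ι ((RelCone.domOpen φ').ι ≫ Proj.map ρ' hρ')
    (range_mD_subset φ φ' ρ ρ' hρ hρ' hsq)

@[reassoc]
theorem mD_ι : mD φ φ' ρ ρ' hρ hρ' hsq ≫ (RelCone.domOpen φ).ι =
    (RelCone.domOpen φ').ι ≫ Proj.map ρ' hρ' :=
  IsOpenImmersion.lift_fac _ _ _

set_option backward.isDefEq.respectTransparency false in
theorem chart_mD_vQ (χ : 𝒜 →+*ᵍ ℬ') (h : ρ'.comp φ = χ) {d : ℕ} {f : A} (hf : f ∈ 𝒜 d) (hd : 0 < d)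
    (c : Spec (CommRingCat.of (Away ℬ' (χ f))) ⟶ (RelCone.domOpen φ' : Scheme.{u}))
    (hc : c ≫ (RelCone.domOpen φ').ι = Proj.awayι ℬ' (χ f) (χ.2 hf) hd) :
    c ≫ mD φ φ' ρ ρ' hρ hρ' hsq ≫ vQ φ =
      Spec.map (CommRingCat.ofHom (Away.map χ f)) ≫ Proj.awayι 𝒜 f hf hd := by
  subst h
  have h1 : c ≫ mD φ φ' ρ ρ' hρ hρ' hsq =
      Spec.map (CommRingCat.ofHom (Away.map ρ' (φ f))) ≫ chartQ φ hf hd := by
    rw [← cancel_mono (RelCone.domOpen φ).ι, Category.assoc, Category.assoc, mD_ι, chartQ_ι,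
      reassoc_of% hc]
    exact Proj.awayι_comp_map ρ' hρ' hd (φ f) (φ.2 hf)
  rw [reassoc_of% h1, chartQ_vQ, ← Spec.map_comp_assoc, ← CommRingCat.ofHom_comp, Away.map_comp]

set_option backward.isDefEq.respectTransparency false in
/-- naturality of the partial morphism `Proj(φ)` -/
theorem mD_vQ : mD φ φ' ρ ρ' hρ hρ' hsq ≫ vQ φ = vQ φ' ≫ Proj.map ρ hρ := by
  have hcov : ∀ x : (RelCone.domOpen φ' : Scheme.{u}), ∃ t : Idx 𝒜,
      x ∈ Set.range (chartQ φ' (ρ.2 t.hf) t.hd) := by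
    intro x
    have hx : x.1 ∈ RelCone.domOpen (φ'.comp ρ) := by
      rw [domOpen_comp_of_irr _ _ hρ]; exact x.2
    obtain ⟨d, hd, f, hf, hfx⟩ := (mem_dom_iff _ x.1).1 hx
    exact ⟨⟨d, f, hd, hf⟩, (range_chartQ φ' (ρ.2 hf) hd x).2
      ((ProjectiveSpectrum.mem_basicOpen _ _ _).mpr hfx)⟩
  refine (Glue.cov (fun t : Idx 𝒜 => Spec (CommRingCat.of (Away ℬ' (φ' (ρ t.f)))))
    (fun t => chartQ φ' (ρ.2 t.hf) t.hd) hcov).hom_ext _ _ fun (t : Idx 𝒜) => ?_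
  change chartQ φ' (ρ.2 t.hf) t.hd ≫ mD φ φ' ρ ρ' hρ hρ' hsq ≫ vQ φ =
    chartQ φ' (ρ.2 t.hf) t.hd ≫ vQ φ' ≫ Proj.map ρ hρ
  have e1 := Proj.awayι_comp_map ρ hρ t.hd t.f t.hf
  have e2 : chartQ φ' (ρ.2 t.hf) t.hd ≫ vQ φ' ≫ Proj.map ρ hρ =
      Spec.map (CommRingCat.ofHom (Away.map (φ'.comp ρ) t.f)) ≫ Proj.awayι 𝒜 t.f t.hf t.hd := by
    rw [chartQ_vQ_assoc]
    refine (congrArg (Spec.map (CommRingCat.ofHom (Away.map φ' (ρ t.f))) ≫ ·) e1).trans ?_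
    rw [← Spec.map_comp_assoc, ← CommRingCat.ofHom_comp, Away.map_comp]
  rw [e2]
  exact chart_mD_vQ φ φ' ρ ρ' hρ hρ' hsq (φ'.comp ρ) hsq t.hf t.hd (chartQ φ' (ρ.2 t.hf) t.hd)
    (chartQ_ι φ' (ρ.2 t.hf) t.hd)

end nat

end natural

section comp
variable {A σ : Type u} [CommRing A] [SetLike σ A] [AddSubgroupClass σ A] {𝒜 : ℕ → σ} [GradedRing 𝒜]
variable {B τ : Type u} [CommRing B] [SetLike τ B] [AddSubgroupClass τ B] {ℬ : ℕ → τ} [GradedRing ℬ]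
variable {T ρ : Type u} [CommRing T] [SetLike ρ T] [AddSubgroupClass ρ T] {𝒯 : ℕ → ρ} [GradedRing 𝒯]
variable (α : 𝒯 →+*ᵍ 𝒜) (φ : 𝒜 →+*ᵍ ℬ)

theorem domOpen_comp_le (χ : 𝒯 →+*ᵍ ℬ) (hχ : φ.comp α = χ) :
    RelCone.domOpen χ ≤ RelCone.domOpen φ := by
  subst hχ
  intro x hx
  obtain ⟨d, hd, f, hf, hfx⟩ := (mem_dom_iff _ x).1 hx
  exact (mem_dom_iff _ x).2 ⟨d, hd, α f, α.2 hf, hfx⟩

set_option backward.isDefEq.respectTransparency false in
theorem mem_domOpen_comp_iff (χ : 𝒯 →+*ᵍ ℬ) (hχ : φ.comp α = χ)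
    (x : (RelCone.domOpen φ : Scheme.{u})) :
    (RelCone.domOpen φ).ι x ∈ RelCone.domOpen χ ↔ vQ φ x ∈ RelCone.domOpen α := by
  subst hχ
  rw [mem_dom_iff, mem_dom_iff]
  constructor
  · rintro ⟨d, hd, f, hf, hfx⟩
    refine ⟨d, hd, f, hf, ?_⟩
    have h1 : x ∈ (RelCone.domOpen φ).ι ⁻¹ᵁ Proj.basicOpen ℬ (φ (α f)) :=
      (ProjectiveSpectrum.mem_basicOpen _ _ _).mpr hfx
    have key := SetLike.ext_iff.1 (preimage_basicOpen φ (α.2 hf)) x
    exact (ProjectiveSpectrum.mem_basicOpen _ _ _).mp (key.2 h1)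
  · rintro ⟨d, hd, f, hf, hfx⟩
    refine ⟨d, hd, f, hf, ?_⟩
    have h1 : x ∈ vQ φ ⁻¹ᵁ Proj.basicOpen 𝒜 (α f) :=
      (ProjectiveSpectrum.mem_basicOpen _ _ _).mpr hfx
    have key := SetLike.ext_iff.1 (preimage_basicOpen φ (α.2 hf)) x
    exact (ProjectiveSpectrum.mem_basicOpen _ _ _).mp (key.1 h1)

set_option backward.isDefEq.respectTransparency false in
/-- the partial morphism of a composite is the composite of the partial morphisms -/
theorem comp_vQ (χ : 𝒯 →+*ᵍ ℬ) (hχ : φ.comp α = χ)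
    (i : (RelCone.domOpen χ : Scheme.{u}) ⟶ (RelCone.domOpen φ : Scheme.{u}))
    (hi : i ≫ (RelCone.domOpen φ).ι = (RelCone.domOpen χ).ι)
    (k : (RelCone.domOpen χ : Scheme.{u}) ⟶ (RelCone.domOpen α : Scheme.{u}))
    (hk : k ≫ (RelCone.domOpen α).ι = i ≫ vQ φ) :
    k ≫ vQ α = vQ χ := by
  subst hχ
  refine vQ_unique _ _ fun d f hd hf => ?_
  have h1 : chartQ (φ.comp α) hf hd ≫ i = chartQ φ (α.2 hf) hd := by
    rw [← cancel_mono (RelCone.domOpen φ).ι, Category.assoc, hi, chartQ_ι, chartQ_ι]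
    rfl
  have h2 : chartQ (φ.comp α) hf hd ≫ k =
      Spec.map (CommRingCat.ofHom (Away.map φ (α f))) ≫ chartQ α hf hd := by
    rw [← cancel_mono (RelCone.domOpen α).ι, Category.assoc, hk, reassoc_of% h1, chartQ_vQ,
      Category.assoc, chartQ_ι]
    rfl
  rw [reassoc_of% h2, chartQ_vQ, ← Spec.map_comp_assoc, ← CommRingCat.ofHom_comp, Away.map_comp]

end comp

section retraction
variable {A σ : Type u} [CommRing A] [SetLike σ A] [AddSubgroupClass σ A] {𝒜 : ℕ → σ} [GradedRing 𝒜]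
variable {B τ : Type u} [CommRing B] [SetLike τ B] [AddSubgroupClass τ B] {ℬ : ℕ → τ} [GradedRing ℬ]

set_option backward.isDefEq.respectTransparency false in
theorem away_id (χ : 𝒜 →+*ᵍ 𝒜) (h : χ = GradedRingHom.id 𝒜) {d : ℕ} (hd : 0 < d) {f : A}
    (hf : f ∈ 𝒜 d) :
    Spec.map (CommRingCat.ofHom (Away.map χ f)) ≫ Proj.awayι 𝒜 f hf hd =
      Proj.awayι 𝒜 (χ f) (χ.2 hf) hd := by
  subst h
  rw [Away.map_id]
  simp

theorem exists_basicOpen (x : Proj 𝒜) :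
    ∃ (d : ℕ) (f : A) (_ : 0 < d) (_ : f ∈ 𝒜 d), x ∈ Proj.basicOpen 𝒜 f := by
  obtain ⟨s, y, hy⟩ := (Proj.affineOpenCover 𝒜).openCover.exists_eq x
  refine ⟨s.1.1, s.2.1, s.1.2, s.2.2, ?_⟩
  rw [← Proj.opensRange_awayι 𝒜 s.2.1 s.2.2 s.1.2]
  exact ⟨y, hy⟩

set_option backward.isDefEq.respectTransparency false in
/-- a graded retraction `ψ` of `φ` gives a section of the partial morphism `Proj(φ)` -/
theorem exists_section (φ : 𝒜 →+*ᵍ ℬ) (ψ : ℬ →+*ᵍ 𝒜) (hψφ : ψ.comp φ = GradedRingHom.id 𝒜)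
    (hψ : 𝒜₊ ≤ (ℬ₊).map ψ) :
    ∃ j : Proj 𝒜 ⟶ (RelCone.domOpen φ : Scheme.{u}),
      j ≫ (RelCone.domOpen φ).ι = Proj.map ψ hψ ∧ j ≫ vQ φ = 𝟙 (Proj 𝒜) := by
  have hψφ' : ∀ a : A, ψ (φ a) = a := fun a => congrArg (fun k => k a) hψφ
  have hrange : Set.range (Proj.map ψ hψ).base ⊆ Set.range (RelCone.domOpen φ).ι.base := by
    rw [Scheme.Opens.range_ι]
    rintro _ ⟨x, rfl⟩
    obtain ⟨d, f, hd, hf, hx⟩ := exists_basicOpen x
    refine basicOpen_le_dom φ hf hd ?_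
    change x ∈ Proj.map ψ hψ ⁻¹ᵁ Proj.basicOpen ℬ (φ f)
    rw [Proj.map_preimage_basicOpen, hψφ']
    exact hx
  let j : Proj 𝒜 ⟶ (RelCone.domOpen φ : Scheme.{u}) :=
    IsOpenImmersion.lift (RelCone.domOpen φ).ι (Proj.map ψ hψ) hrange
  have hj : j ≫ (RelCone.domOpen φ).ι = Proj.map ψ hψ := IsOpenImmersion.lift_fac _ _ _
  refine ⟨j, hj, ?_⟩
  refine hom_ext_of_local _ _ fun x => ?_
  obtain ⟨d, f, hd, hf, hx⟩ := exists_basicOpen x
  have hmem : ψ (φ f) ∈ 𝒜 d := ψ.2 (φ.2 hf)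
  refine ⟨_, Proj.awayι 𝒜 (ψ (φ f)) hmem hd, inferInstance, ?_, ?_⟩
  · change x ∈ (Proj.awayι 𝒜 (ψ (φ f)) hmem hd).opensRange
    rw [Proj.opensRange_awayι, hψφ']
    exact hx
  · have h1 : Proj.awayι 𝒜 (ψ (φ f)) hmem hd ≫ j =
        Spec.map (CommRingCat.ofHom (Away.map ψ (φ f))) ≫ chartQ φ hf hd := by
      rw [← cancel_mono (RelCone.domOpen φ).ι, Category.assoc, Category.assoc, hj, chartQ_ι]
      exact Proj.awayι_comp_map ψ hψ hd (φ f) (φ.2 hf)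
    rw [reassoc_of% h1, chartQ_vQ, ← Spec.map_comp_assoc, ← CommRingCat.ofHom_comp,
      ← Away.map_comp, Category.comp_id]
    exact away_id (ψ.comp φ) hψφ hd hf

theorem surjective_vQ_of_retraction (φ : 𝒜 →+*ᵍ ℬ) (ψ : ℬ →+*ᵍ 𝒜)
    (hψφ : ψ.comp φ = GradedRingHom.id 𝒜) (hψ : 𝒜₊ ≤ (ℬ₊).map ψ) : Surjective (vQ φ) := by
  obtain ⟨j, -, hjp⟩ := exists_section φ ψ hψφ hψ
  refine ⟨fun x => ⟨j x, ?_⟩⟩
  rw [← Scheme.Hom.comp_apply, hjp]
  rfl

end retraction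

end Groth.Agent.Lib.Helper28.ProjQ
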