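import Groth.Agent.Lib.Helper28.PEPull2
import Groth.Agent.Lib.Helper28.SymGrAlg
import Groth.Agent.Lib.Helper28.RelProjExists
import Groth.Agent.Lib.Helper28.RelTwistEx3
import Groth.Agent.Lib.Helper28.DegMod
import Groth.Agent.Lib.Helper28.ProjQTotal
import Groth.Agent.S8292

/-!
# `Proj` of an algebra generated in degree one embeds into a projective bundle; very ampleness
-/

set_option autoImplicit false
universe u
open CategoryTheory CategoryTheory.Limits AlgebraicGeometry TopologicalSpace Opposite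
open scoped HomogeneousIdeal

namespace Groth.Agent.Lib.Helper28.VAGenDegOne

open Groth.Agent.Lib.Helper28 Groth.Agent.Lib.Helper28.TraceAlg
open Groth.Agent.Lib.Helper28.ProjQRel (pairId)
open Groth.Agent.Lib.Helper28.RelProjQ (φQ)

section emb

variable {Y : Scheme.{u}} (𝒮 : RelProj.QCGrAlg Y) (h𝒮 : 𝒮.IsGenDegOne)
  {M : Y.Modules} [M.IsQuasicoherent] (w : M ⟶ 𝒮.toModule)
  (hw1 : ∀ (U : Y.Opens) (hU : IsAffineOpen U) (x : Γ(M, U)), (w.app U) x ∈ 𝒮.deg U hU 1)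
  (hwsurj : ∀ (U : Y.Opens) (hU : IsAffineOpen U) (s : 𝒮.presheaf.obj (op U)), s ∈ 𝒮.deg U hU 1 →
    ∃ x : Γ(M, U), (w.app U) x = s)
  {𝒯 : RelProj.QCGrAlg Y} {j : M ⟶ 𝒯.toModule} (hT : RelProj.IsGrSymAlg M 𝒯 j)
  (ubar : 𝒯.toQCAlg ⟶ 𝒮.toQCAlg) (hju : j ≫ RelSpec.QCAlg.Hom.toModuleMap ubar = w)

include hw1 hT hju in
theorem isGradedHom_ubar : RelProj.IsGradedHom ubar := by
  intro U hU d x hx
  refine SymAlg.map_mem_of_gens hT U hU (𝒮.deg U hU) (ubar.hom.app (op U)).hom (fun a => ?_) (fun m => ?_) hx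
  · have h1 : (ubar.hom.app (op U)).hom ((𝒯.str.app (op U)).hom a) = (𝒮.str.app (op U)).hom a := by
      have := congrArg (fun k => k.hom a) (NatTrans.congr_app ubar.comm (op U))
      exact this
    rw [h1]
    exact 𝒮.str_mem U hU a
  · have h2 := Groth.Agent.S8292.hju_app 𝒮 𝒯 M w j ubar hju U m
    have h3 : (ubar.hom.app (op U)).hom (asR 𝒯.toQCAlg (j.app U m)) = (w.app U) m := h2
    rw [h3]
    exact hw1 U hU m

omit [M.IsQuasicoherent] in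
include h𝒮 hwsurj hT hju in
theorem surj_pos_ubar (hubar : RelProj.IsGradedHom ubar) (k : ℕ) (hk : 1 ≤ k) (U : Y.Opens) (hU : IsAffineOpen U)
    (y : 𝒮.presheaf.obj (op U)) (hy : y ∈ 𝒮.deg U hU k) :
    ∃ x ∈ 𝒯.deg U hU k, (ubar.hom.app (op U)).hom x = y := by
  refine Groth.Agent.S8292.surj_pos (𝒜 := 𝒮.deg U hU) (ℬ := 𝒯.deg U hU)
    (φ := RelProj.gradedHomAt ubar hubar U hU) (h𝒮 U hU) (fun s hs => ?_) k hk y hy
  obtain ⟨x, hx⟩ := hwsurj U hU s hs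
  refine ⟨asR 𝒯.toQCAlg (j.app U x), hT.2 U hU x, ?_⟩
  have h2 := Groth.Agent.S8292.hju_app 𝒮 𝒯 M w j ubar hju U x
  exact h2.trans hx

end emb

section main

variable {Y P : Scheme.{u}} (𝒮 : RelProj.QCGrAlg Y) (h𝒮 : 𝒮.IsGenDegOne) (p : P ⟶ Y)
  (chart : ∀ (U : Y.Opens) (hU : IsAffineOpen U), ((p ⁻¹ᵁ U : P.Opens) : Scheme.{u}) ≅ Proj (𝒮.deg U hU))
  (hP : RelProj.IsRelProj 𝒮 p chart) (O1 : P.Modules)
  (lam : ∀ (U : Y.Opens) (hU : IsAffineOpen U),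
    O1 ⟶ (Scheme.Modules.pushforward (RelProj.emb p chart U hU)).obj (GrTwist.twist (𝒮.deg U hU) 1))
  (hO1 : RelProj.IsRelTwist 𝒮 p chart 1 O1 lam)

include h𝒮 hP hO1 in
/-- **`Proj(𝒮)`, for `𝒮` generated in degree one, is a closed subscheme of the projective bundle `P(𝒮_1)`,
compatibly with the fundamental sheaves.** -/
theorem exists_closedImmersion_projBundle :
    ∃ (E : Y.Modules) (_ : Coh.IsQCoh E) (𝒯 : RelProj.QCGrAlg Y) (j : E ⟶ 𝒯.toModule)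
      (_ : RelProj.IsGrSymAlg E 𝒯 j) (PT : Scheme.{u}) (pT : PT ⟶ Y)
      (chartT : ∀ (U : Y.Opens) (hU : IsAffineOpen U), (((pT ⁻¹ᵁ U : PT.Opens) : Scheme.{u}) ≅ Proj (𝒯.deg U hU)))
      (_ : RelProj.IsRelProj 𝒯 pT chartT) (O1T : PT.Modules)
      (lamT : ∀ (U : Y.Opens) (hU : IsAffineOpen U),
        O1T ⟶ (Scheme.Modules.pushforward (RelProj.emb pT chartT U hU)).obj (GrTwist.twist (𝒯.deg U hU) 1))
      (_ : RelProj.IsRelTwist 𝒯 pT chartT 1 O1T lamT) (h : P ⟶ PT),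
      IsClosedImmersion h ∧ h ≫ pT = p ∧ Nonempty ((Scheme.Modules.pullback h).obj O1T ≅ O1) := by
  classical
  have hEq : (DegMod.degMod 𝒮 1).IsQuasicoherent := DegMod.isQuasicoherent_degMod 𝒮 1
  have hQC := SymAlg.isQC_symPre_of_isQuasicoherent (DegMod.degMod 𝒮 1)
  have hT := SymAlg.isGrSymAlg (DegMod.degMod 𝒮 1) hQC
  have hPT := RelProjExists.isRelProj (SymAlg.grSymAlg (DegMod.degMod 𝒮 1) hQC)
  have hOT := RelTwistEx.isRelTwist hPT 1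
  have hOT' : RelProj.IsRelTwist (SymAlg.grSymAlg (DegMod.degMod 𝒮 1) hQC)
      (RelProjExists.p (SymAlg.grSymAlg (DegMod.degMod 𝒮 1) hQC))
      (RelProjExists.chart (SymAlg.grSymAlg (DegMod.degMod 𝒮 1) hQC)) ((1 : ℕ) : ℤ) _ _ := hOT
  have hO1' : RelProj.IsRelTwist 𝒮 p chart ((1 : ℕ) : ℤ) O1 lam := hO1
  have hw1 : ∀ (U : Y.Opens) (hU : IsAffineOpen U) (x : Γ(DegMod.degMod 𝒮 1, U)),
      ((DegMod.incl 𝒮 1).app U) x ∈ 𝒮.deg U hU 1 := fun U hU x => DegMod.incl_mem 𝒮 1 hU x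
  have hwsurj : ∀ (U : Y.Opens) (hU : IsAffineOpen U) (s : 𝒮.presheaf.obj (op U)), s ∈ 𝒮.deg U hU 1 →
      ∃ x : Γ(DegMod.degMod 𝒮 1, U), ((DegMod.incl 𝒮 1).app U) x = s :=
    fun U hU s hs => DegMod.exists_incl 𝒮 1 hU s hs
  obtain ⟨ubar, hju, -⟩ := hT.1 𝒮.toQCAlg (DegMod.incl 𝒮 1)
  have hubar := isGradedHom_ubar 𝒮 (DegMod.incl 𝒮 1) hw1 hT ubar hju
  have hTN : ∃ n : ℕ, ∀ k, n ≤ k → ∀ (U : Y.Opens) (hU : IsAffineOpen U), ∀ y ∈ 𝒮.deg U hU k,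
      ∃ x ∈ (SymAlg.grSymAlg (DegMod.degMod 𝒮 1) hQC).deg U hU k, (ubar.hom.app (op U)).hom x = y :=
    ⟨1, fun k hk U hU y hy => surj_pos_ubar 𝒮 h𝒮 (DegMod.incl 𝒮 1) hwsurj hT ubar hju hubar k hk U hU y hy⟩
  have hTNU := fun (U : Y.Opens) (hU : IsAffineOpen U) =>
    ProjQRel.tnSurj_ofHom (SymAlg.grSymAlg (DegMod.degMod 𝒮 1) hQC) 𝒮 ubar hubar hTN U hU
  have htop : RelProj.domQ (RelProj.QGrHom.ofHom ubar hubar) p chart = ⊤ :=
    ProjQRel.domQ_eq_top_of_forall _ p chart fun U hU => ProjQ.dom_eq_top_of_tnSurj _ (hTNU U hU)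
  obtain ⟨h, hh⟩ := ProjQRel.exists_isProjQMap_of_domQ_eq_top (RelProj.QGrHom.ofHom ubar hubar)
    _ _ hPT p chart hP htop
  have hci : IsClosedImmersion h :=
    ProjQRel.of_chartwise_total (RelProj.QGrHom.ofHom ubar hubar) _ _ hPT p chart hP @IsClosedImmersion h hh
      fun U hU => ProjQ.isClosedImmersion_vQ _ (hTNU U hU)
  have hcomp := ProjQRel.comp_p_of_isProjQMap (RelProj.QGrHom.ofHom ubar hubar) _ _ hPT p chart hP h hh
  rw [Category.comp_id] at hcomp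
  obtain ⟨τ⟩ := RLPsiV.nonempty_pullback_iso_of_isGrSymAlg hT (RelProj.QGrHom.ofHom ubar hubar)
    hPT hP hOT' hO1' h hh
  exact ⟨DegMod.degMod 𝒮 1, hEq, _, _, hT, _, _, _, hPT, _, _, hOT, h, hci, hcomp, ⟨τ⟩⟩

include h𝒮 hP hO1 in
/-- **an invertible module induced from `O(1)` on `Proj` of an algebra generated in degree one, along an immersion,
is relatively very ample** -/
theorem isRelVeryAmple_of_genDegOne {X : Scheme.{u}} (q : X ⟶ Y) (L : X.Modules) (i : X ⟶ P) [IsImmersion i]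
    (hi : i ≫ p = q) (e : L ≅ (Scheme.Modules.pullback i).obj O1) : RelProj.IsRelVeryAmple q L := by
  obtain ⟨E, hE, 𝒯, j, hT, PT, pT, chartT, hPT, O1T, lamT, hOT, h, hci, hcomp, ⟨τ⟩⟩ :=
    exists_closedImmersion_projBundle 𝒮 h𝒮 p chart hP O1 lam hO1
  refine ⟨E, hE, 𝒯, j, hT, PT, pT, chartT, hPT, O1T, lamT, hOT, i ≫ h, inferInstance, ?_, ⟨?_⟩⟩
  · rw [Category.assoc, hcomp, hi]
  · exact e ≪≫ (Scheme.Modules.pullback i).mapIso τ.symm ≪≫ ((Scheme.Modules.pullbackComp i h).app O1T)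

end main

end Groth.Agent.Lib.Helper28.VAGenDegOne
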