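import Groth.Agent.Lib.Helper28.AmpleExtTensor

set_option autoImplicit false
universe u
open CategoryTheory CategoryTheory.Limits AlgebraicGeometry Opposite TopologicalSpace
noncomputable section

namespace Groth.Agent.Lib.Helper28.AmpleLocal

open Groth.Agent.Lib.Helper28 Groth.Agent.Lib.Helper28.QCohLoc Groth.Agent.Lib.Helper28.GenLocus
  Groth.Agent.Lib.Helper28.PullbackInv Groth.Agent.Lib.Helper28.TensorGen Groth.Agent.Lib.Helper28.AmpleUnit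

/-- restriction along an open immersion commutes with tensor products of invertible modules -/
theorem exists_restrict_tensorMod_iso' {P Q : Scheme.{u}} (m : Q ⟶ P) [IsOpenImmersion m] {A B : P.Modules}
    (hA : PicF.IsInvertible A) (hB : PicF.IsInvertible B) :
    Nonempty ((CohB1.tensorMod A B).restrict m ≅ CohB1.tensorMod (A.restrict m) (B.restrict m)) := by
  obtain ⟨ψ, -⟩ := exists_pullback_tensorMod_iso m hA hB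
  exact ⟨(Scheme.Modules.restrictFunctorIsoPullback m).app _ ≪≫ ψ ≪≫
    PicGrp.tensorModIso ((Scheme.Modules.restrictFunctorIsoPullback m).app A).symm
      ((Scheme.Modules.restrictFunctorIsoPullback m).app B).symm⟩

/-- a relatively ample module is invertible -/
theorem isInvertible_of_isRelAmple {X Y : Scheme.{u}} (f : X ⟶ Y) (L : X.Modules) (h : RelAmple.IsRelAmple f L) :
    PicF.IsInvertible L := by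
  refine isInvertible_of_isGen L fun x => ?_
  obtain ⟨V, hV, hxV⟩ : ∃ V : Y.Opens, IsAffineOpen V ∧ f x ∈ V := by
    obtain ⟨_, ⟨V, hV, rfl⟩, hyV, -⟩ :=
      Y.isBasis_affineOpens.exists_subset_of_mem_open (Set.mem_univ (f x)) isOpen_univ
    exact ⟨V, hV, hyV⟩
  obtain ⟨V', γ, hyV', hγ⟩ := exists_isGen (L.restrict (f ⁻¹ᵁ V).ι) (h.2 ⟨V, hV⟩).1 ⟨x, hxV⟩
  exact ⟨(f ⁻¹ᵁ V).ι ''ᵁ V', γ, ⟨⟨x, hxV⟩, hyV', rfl⟩, isGen_of_isGen_restrict L _ γ hγ⟩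

/-- **products of relatively ample modules** -/
theorem isRelAmple_extTensor {X₁ X₂ Y₁ Y₂ S : Scheme.{u}} (a₁ : Y₁ ⟶ S) (a₂ : Y₂ ⟶ S)
    (f₁ : X₁ ⟶ Y₁) (f₂ : X₂ ⟶ Y₂) [QuasiCompact f₁] [QuasiCompact f₂] (L₁ : X₁.Modules) (L₂ : X₂.Modules)
    (hL₁ : RelAmple.IsRelAmple f₁ L₁) (hL₂ : RelAmple.IsRelAmple f₂ L₂) :
    RelAmple.IsRelAmple
      (pullback.map (f₁ ≫ a₁) (f₂ ≫ a₂) a₁ a₂ f₁ f₂ (𝟙 S) (Category.comp_id (f₁ ≫ a₁)) (Category.comp_id (f₂ ≫ a₂)))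
      (CohB1.tensorMod ((Scheme.Modules.pullback (pullback.fst (f₁ ≫ a₁) (f₂ ≫ a₂))).obj L₁)
        ((Scheme.Modules.pullback (pullback.snd (f₁ ≫ a₁) (f₂ ≫ a₂))).obj L₂)) := by
  have hqc : QuasiCompact (pullback.map (f₁ ≫ a₁) (f₂ ≫ a₂) a₁ a₂ f₁ f₂ (𝟙 S) (Category.comp_id (f₁ ≫ a₁))
      (Category.comp_id (f₂ ≫ a₂))) :=
    MorphismProperty.pullbackMap (P := @QuasiCompact) (inferInstance : QuasiCompact f₁)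
      (inferInstance : QuasiCompact f₂) rfl rfl
  refine isRelAmple_of_forall_exists _ _ fun w => ?_
  -- affine opens
  obtain ⟨S₀, hS₀, hwS₀⟩ : ∃ S₀ : S.Opens, IsAffineOpen S₀ ∧ a₁ (pullback.fst a₁ a₂ w) ∈ S₀ := by
    obtain ⟨_, ⟨V, hV, rfl⟩, hyV, -⟩ :=
      S.isBasis_affineOpens.exists_subset_of_mem_open (Set.mem_univ (a₁ (pullback.fst a₁ a₂ w))) isOpen_univ
    exact ⟨V, hV, hyV⟩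
  have hwS₀' : a₂ (pullback.snd a₁ a₂ w) ∈ S₀ := by
    have : a₁ (pullback.fst a₁ a₂ w) = a₂ (pullback.snd a₁ a₂ w) := by
      rw [← Scheme.Hom.comp_apply, ← Scheme.Hom.comp_apply, pullback.condition]
    rwa [← this]
  obtain ⟨V₁, hV₁, hwV₁, hV₁S⟩ : ∃ V₁ : Y₁.Opens, IsAffineOpen V₁ ∧ pullback.fst a₁ a₂ w ∈ V₁ ∧ V₁ ≤ a₁ ⁻¹ᵁ S₀ := by
    obtain ⟨_, ⟨V, hV, rfl⟩, hyV, hle⟩ :=
      Y₁.isBasis_affineOpens.exists_subset_of_mem_open (show pullback.fst a₁ a₂ w ∈ (a₁ ⁻¹ᵁ S₀ : Set Y₁) from hwS₀)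
        (a₁ ⁻¹ᵁ S₀).isOpen
    exact ⟨V, hV, hyV, hle⟩
  obtain ⟨V₂, hV₂, hwV₂, hV₂S⟩ : ∃ V₂ : Y₂.Opens, IsAffineOpen V₂ ∧ pullback.snd a₁ a₂ w ∈ V₂ ∧ V₂ ≤ a₂ ⁻¹ᵁ S₀ := by
    obtain ⟨_, ⟨V, hV, rfl⟩, hyV, hle⟩ :=
      Y₂.isBasis_affineOpens.exists_subset_of_mem_open (show pullback.snd a₁ a₂ w ∈ (a₂ ⁻¹ᵁ S₀ : Set Y₂) from hwS₀')
        (a₂ ⁻¹ᵁ S₀).isOpen
    exact ⟨V, hV, hyV, hle⟩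
  refine ⟨pullback.fst a₁ a₂ ⁻¹ᵁ V₁ ⊓ pullback.snd a₁ a₂ ⁻¹ᵁ V₂, ⟨hwV₁, hwV₂⟩, fun V hV hVW => ?_⟩
  have hA₁ := hL₁.2 ⟨V₁, hV₁⟩
  have hA₂ := hL₂.2 ⟨V₂, hV₂⟩
  have hle₁ : f₁ ⁻¹ᵁ V₁ ≤ (f₁ ≫ a₁) ⁻¹ᵁ S₀ := fun x hx => hV₁S hx
  have hle₂ : f₂ ⁻¹ᵁ V₂ ≤ (f₂ ≫ a₂) ⁻¹ᵁ S₀ := fun x hx => hV₂S hx
  have e₁ : (f₁ ≫ a₁).resLE S₀ (f₁ ⁻¹ᵁ V₁) hle₁ ≫ S₀.ι = (f₁ ⁻¹ᵁ V₁).ι ≫ (f₁ ≫ a₁) :=
    Scheme.Hom.resLE_comp_ι _ hle₁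
  have e₂ : (f₂ ≫ a₂).resLE S₀ (f₂ ⁻¹ᵁ V₂) hle₂ ≫ S₀.ι = (f₂ ⁻¹ᵁ V₂).ι ≫ (f₂ ≫ a₂) :=
    Scheme.Hom.resLE_comp_ι _ hle₂
  have : IsAffine (↑S₀ : Scheme.{u}) := hS₀
  have : CompactSpace ((f₁ ⁻¹ᵁ V₁ : X₁.Opens) : Scheme.{u}) := hA₁.2.1
  have : CompactSpace ((f₂ ⁻¹ᵁ V₂ : X₂.Opens) : Scheme.{u}) := hA₂.2.1
  have : QuasiCompact ((f₂ ≫ a₂).resLE S₀ (f₂ ⁻¹ᵁ V₂) hle₂) := inferInstance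
  have : CompactSpace (pullback ((f₁ ≫ a₁).resLE S₀ (f₁ ⁻¹ᵁ V₁) hle₁)
      ((f₂ ≫ a₂).resLE S₀ (f₂ ⁻¹ᵁ V₂) hle₂) : Scheme.{u}) :=
    QuasiCompact.compactSpace_of_compactSpace (pullback.fst ((f₁ ≫ a₁).resLE S₀ (f₁ ⁻¹ᵁ V₁) hle₁)
      ((f₂ ≫ a₂).resLE S₀ (f₂ ⁻¹ᵁ V₂) hle₂))
  have h1 := isAmple_extTensor ((f₁ ≫ a₁).resLE S₀ (f₁ ⁻¹ᵁ V₁) hle₁) ((f₂ ≫ a₂).resLE S₀ (f₂ ⁻¹ᵁ V₂) hle₂)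
    _ _ hA₁ hA₂
  -- the comparison isomorphism
  have hm₁ : pullback.map ((f₁ ≫ a₁).resLE S₀ (f₁ ⁻¹ᵁ V₁) hle₁) ((f₂ ≫ a₂).resLE S₀ (f₂ ⁻¹ᵁ V₂) hle₂)
      (f₁ ≫ a₁) (f₂ ≫ a₂) (f₁ ⁻¹ᵁ V₁).ι (f₂ ⁻¹ᵁ V₂).ι S₀.ι e₁ e₂ ≫ pullback.fst (f₁ ≫ a₁) (f₂ ≫ a₂) =
      pullback.fst _ _ ≫ (f₁ ⁻¹ᵁ V₁).ι := pullback.lift_fst _ _ _
  have hm₂ : pullback.map ((f₁ ≫ a₁).resLE S₀ (f₁ ⁻¹ᵁ V₁) hle₁) ((f₂ ≫ a₂).resLE S₀ (f₂ ⁻¹ᵁ V₂) hle₂)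
      (f₁ ≫ a₁) (f₂ ≫ a₂) (f₁ ⁻¹ᵁ V₁).ι (f₂ ⁻¹ᵁ V₂).ι S₀.ι e₁ e₂ ≫ pullback.snd (f₁ ≫ a₁) (f₂ ≫ a₂) =
      pullback.snd _ _ ≫ (f₂ ⁻¹ᵁ V₂).ι := pullback.lift_snd _ _ _
  have hI₁ := isInvertible_pullback (pullback.fst (f₁ ≫ a₁) (f₂ ≫ a₂)) (isInvertible_of_isRelAmple f₁ L₁ hL₁)
  have hI₂ := isInvertible_pullback (pullback.snd (f₁ ≫ a₁) (f₂ ≫ a₂)) (isInvertible_of_isRelAmple f₂ L₂ hL₂)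
  obtain ⟨ψ⟩ := exists_restrict_tensorMod_iso' (pullback.map ((f₁ ≫ a₁).resLE S₀ (f₁ ⁻¹ᵁ V₁) hle₁)
    ((f₂ ≫ a₂).resLE S₀ (f₂ ⁻¹ᵁ V₂) hle₂) (f₁ ≫ a₁) (f₂ ≫ a₂) (f₁ ⁻¹ᵁ V₁).ι (f₂ ⁻¹ᵁ V₂).ι S₀.ι e₁ e₂) hI₁ hI₂
  have h2 := AmpleIso.isAmple_of_iso (ψ ≪≫ PicGrp.tensorModIso ((restrictSquareIso _ _ _ _ hm₁).app L₁)
    ((restrictSquareIso _ _ _ _ hm₂).app L₂)).symm h1
  have : CompactSpace ((pullback.map (f₁ ≫ a₁) (f₂ ≫ a₂) a₁ a₂ f₁ f₂ (𝟙 S) (Category.comp_id (f₁ ≫ a₁))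
      (Category.comp_id (f₂ ≫ a₂)) ⁻¹ᵁ V : (pullback (f₁ ≫ a₁) (f₂ ≫ a₂) : Scheme.{u}).Opens) : Scheme.{u}) :=
    isCompact_iff_compactSpace.mp (QuasiCompact.isCompact_preimage (f := pullback.map (f₁ ≫ a₁) (f₂ ≫ a₂) a₁ a₂ f₁ f₂
      (𝟙 S) (Category.comp_id (f₁ ≫ a₁)) (Category.comp_id (f₂ ≫ a₂))) _ V.isOpen hV.isCompact)
  refine isAmple_restrict_of_range_subset _ _ ?_ _ h2
  rw [Scheme.Opens.range_ι, Scheme.Pullback.range_map, Scheme.Opens.range_ι, Scheme.Opens.range_ι]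
  intro z hz
  have hz' := hVW hz
  constructor
  · show f₁ (pullback.fst (f₁ ≫ a₁) (f₂ ≫ a₂) z) ∈ V₁
    have : f₁ (pullback.fst (f₁ ≫ a₁) (f₂ ≫ a₂) z) = pullback.fst a₁ a₂ (pullback.map (f₁ ≫ a₁) (f₂ ≫ a₂) a₁ a₂ f₁ f₂
        (𝟙 S) (Category.comp_id (f₁ ≫ a₁)) (Category.comp_id (f₂ ≫ a₂)) z) := by
      rw [← Scheme.Hom.comp_apply, ← Scheme.Hom.comp_apply, pullback.lift_fst]
    rw [this]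
    exact hz'.1
  · show f₂ (pullback.snd (f₁ ≫ a₁) (f₂ ≫ a₂) z) ∈ V₂
    have : f₂ (pullback.snd (f₁ ≫ a₁) (f₂ ≫ a₂) z) = pullback.snd a₁ a₂ (pullback.map (f₁ ≫ a₁) (f₂ ≫ a₂) a₁ a₂ f₁ f₂
        (𝟙 S) (Category.comp_id (f₁ ≫ a₁)) (Category.comp_id (f₂ ≫ a₂)) z) := by
      rw [← Scheme.Hom.comp_apply, ← Scheme.Hom.comp_apply, pullback.lift_snd]
    rw [this]
    exact hz'.2

end Groth.Agent.Lib.Helper28.AmpleLocal
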