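import Groth.Agent.Lib.Helper28.AmpleBasis

/-!
# Extension of sections of an invertible module over the locus of a section of another invertible module

* `exists_coeff_of_charts`: the function-level statement behind the extension lemmas.
* `exists_extension_tmul`: on a quasi-compact quasi-separated scheme, for invertible `F`, `M`, a global section `s`
  of `M` and a section `ξ` of `F` over `X_s`, the sections `ξ ⊗ s^K` extend to global sections of `F ⊗ M^K` for all
  large `K`.
-/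

set_option autoImplicit false
universe u
open CategoryTheory CategoryTheory.Limits AlgebraicGeometry Opposite TopologicalSpace
noncomputable section

namespace Groth.Agent.Lib.Helper28.GenLocus

open Groth.Agent.Lib.Helper28 Groth.Agent.Lib.Helper28.QCohLoc Groth.Agent.Lib.Helper28.TensorGen
  Groth.Agent.Lib.Helper28.InvTensor Groth.Agent.Lib.Helper28.AmpleUnit Groth.Agent.Lib.Helper28.TwistAmple

variable {X : Scheme.{u}}

/-- the function-level extension statement: numerators `β i` on the charts, compatible up to the cocycle -/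
theorem exists_coeff_of_charts {I : Type*} [Finite I] (U : I → X.Opens)
    (hU : ∀ i, IsAffineOpen (U i)) (hqs : ∀ i j, IsCompact ((U i ⊓ U j : X.Opens) : Set X))
    (G : X.Opens) (r : ∀ i, Γ(X, U i)) (hG : ∀ i, G ⊓ U i = X.basicOpen (r i))
    (c d : ∀ i j, Γ(X, U i ⊓ U j))
    (hrc : ∀ i j, resO (inf_le_left : U i ⊓ U j ≤ U i) (r i) * c i j = resO inf_le_right (r j))
    (a : ∀ i, Γ(X, G ⊓ U i))
    (had : ∀ i j, resO (le_inf inf_le_left (inf_le_right.trans inf_le_left) : G ⊓ (U i ⊓ U j) ≤ G ⊓ U i) (a i) *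
        resO (inf_le_right : G ⊓ (U i ⊓ U j) ≤ U i ⊓ U j) (d i j) =
      resO (le_inf inf_le_left (inf_le_right.trans inf_le_right) : G ⊓ (U i ⊓ U j) ≤ G ⊓ U j) (a j)) :
    ∃ k₀ : ℕ, ∀ K : ℕ, k₀ ≤ K → ∃ β : ∀ i, Γ(X, U i),
      (∀ i, resO (inf_le_right : G ⊓ U i ≤ U i) (β i) = resO inf_le_right (r i) ^ K * a i) ∧
      (∀ i j, resO (inf_le_left : U i ⊓ U j ≤ U i) (β i) * d i j * c i j ^ K = resO inf_le_right (β j)) := by
  classical
  -- Step 1: numerators
  have h1 : ∃ k, ∀ i, ∃ b : Γ(X, U i),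
      resO (inf_le_right : G ⊓ U i ≤ U i) b = resO inf_le_right (r i) ^ k * a i := by
    refine exists_uniform (fun i k => ∃ b : Γ(X, U i),
      resO (inf_le_right : G ⊓ U i ≤ U i) b = resO inf_le_right (r i) ^ k * a i) ?_ ?_
    · rintro i k ⟨b, hb⟩
      refine ⟨r i * b, ?_⟩
      rw [resO_mul, hb, pow_succ]
      ring
    · intro i
      obtain ⟨n, y, hy⟩ := exists_pow_mul_eq_resO (hU i) (r i) (hG i) inf_le_right (a i)
      exact ⟨n, y, hy⟩
  obtain ⟨k, hk⟩ := h1
  choose b hb using hk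
  -- Step 2: the discrepancies are killed by a power
  have h2 : ∃ n, ∀ p : I × I, resO (inf_le_right : U p.1 ⊓ U p.2 ≤ U p.2) (r p.2) ^ n *
      (resO inf_le_left (b p.1) * d p.1 p.2 * c p.1 p.2 ^ k - resO inf_le_right (b p.2)) = 0 := by
    refine exists_uniform (fun (p : I × I) n => resO (inf_le_right : U p.1 ⊓ U p.2 ≤ U p.2) (r p.2) ^ n *
      (resO inf_le_left (b p.1) * d p.1 p.2 * c p.1 p.2 ^ k - resO inf_le_right (b p.2)) = 0) ?_ ?_
    · intro p n hn
      rw [pow_succ, mul_comm _ (resO inf_le_right (r p.2)), mul_assoc, hn, mul_zero]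
    · rintro ⟨i, j⟩
      have hW : G ⊓ (U i ⊓ U j) = X.basicOpen (resO (inf_le_right : U i ⊓ U j ≤ U j) (r j)) := by
        rw [basicOpen_resO, ← hG j]
        apply le_antisymm
        · exact le_inf inf_le_right (le_inf inf_le_left (inf_le_right.trans inf_le_right))
        · exact le_inf (inf_le_right.trans inf_le_left) inf_le_left
      refine exists_pow_mul_eq_zero (hqs i j) _ _ hW inf_le_right ?_
      have hWi : G ⊓ (U i ⊓ U j) ≤ G ⊓ U i := le_inf inf_le_left (inf_le_right.trans inf_le_left)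
      have hWj : G ⊓ (U i ⊓ U j) ≤ G ⊓ U j := le_inf inf_le_left (inf_le_right.trans inf_le_right)
      have ebi := congrArg (resO hWi) (hb i)
      have ebj := congrArg (resO hWj) (hb j)
      have erc := congrArg (resO (inf_le_right : G ⊓ (U i ⊓ U j) ≤ U i ⊓ U j)) (hrc i j)
      rw [resO_mul, resO_pow, resO_resO, resO_resO] at ebi ebj
      rw [resO_mul, resO_resO, resO_resO] at erc
      rw [resO_sub, resO_mul, resO_mul, resO_pow, resO_resO, resO_resO, ebi, ebj, ← erc, ← had i j]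
      ring
  obtain ⟨n, hn⟩ := h2
  refine ⟨k + n, fun K hK => ?_⟩
  obtain ⟨e, rfl⟩ := Nat.exists_eq_add_of_le hK
  refine ⟨fun i => r i ^ (n + e) * b i, fun i => ?_, fun i j => ?_⟩
  · rw [resO_mul, resO_pow, hb i]
    ring
  · have h3 := hn (i, j)
    rw [mul_sub, sub_eq_zero] at h3
    rw [resO_mul, resO_mul, resO_pow, resO_pow]
    calc resO inf_le_left (r i) ^ (n + e) * resO inf_le_left (b i) * d i j * c i j ^ (k + n + e)
        = (resO inf_le_left (r i) * c i j) ^ (n + e) * (resO inf_le_left (b i) * d i j * c i j ^ k) := by ring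
      _ = resO inf_le_right (r j) ^ e * (resO inf_le_right (r j) ^ n *
            (resO inf_le_left (b i) * d i j * c i j ^ k)) := by rw [hrc]; ring
      _ = resO inf_le_right (r j) ^ e * (resO inf_le_right (r j) ^ n * resO inf_le_right (b j)) := by rw [h3]
      _ = resO inf_le_right (r j) ^ (n + e) * resO inf_le_right (b j) := by ring

/-- two invertible modules have common affine charts -/
theorem exists_isGen_affine₂ (F M : X.Modules) (hF : PicF.IsInvertible F) (hM : PicF.IsInvertible M) (x : X) :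
    ∃ (U : X.Opens) (φ : Γ(F, U)) (g : Γ(M, U)), x ∈ U ∧ IsAffineOpen U ∧ IsGen F U φ ∧ IsGen M U g := by
  obtain ⟨U₁, φ, hxU₁, hφ⟩ := exists_isGen F hF x
  obtain ⟨U₂, g, hxU₂, hg⟩ := exists_isGen M hM x
  obtain ⟨_, ⟨V, hV, rfl⟩, hxV, hVU⟩ :=
    X.isBasis_affineOpens.exists_subset_of_mem_open (show x ∈ U₁ ⊓ U₂ from ⟨hxU₁, hxU₂⟩) (U₁ ⊓ U₂).isOpen
  have hVU' : V ≤ U₁ ⊓ U₂ := hVU
  exact ⟨V, res F (hVU'.trans inf_le_left) φ, res M (hVU'.trans inf_le_right) g, hxV, hV,
    hφ.res _, hg.res _⟩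

/-- **extension of `ξ ⊗ s^K` from `X_s` to `X`** for invertible modules on a quasi-compact quasi-separated scheme -/
theorem exists_extension_tmul [CompactSpace X] [QuasiSeparatedSpace X] {F M : X.Modules}
    (hF : PicF.IsInvertible F) (hM : PicF.IsInvertible M)
    (s : Coh.structureModule X ⟶ M) (ξ : Γ(F, CohB1.genLocus M s)) :
    ∃ k₀ : ℕ, ∀ K : ℕ, k₀ ≤ K → ∃ T : Coh.structureModule X ⟶ CohB1.tensorMod F (CohB1.tensorPow M K),
      res _ (le_top : CohB1.genLocus M s ≤ ⊤) (secOf T) =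
        tmulSec F (CohB1.tensorPow M K) ξ (gpow M (res M le_top (secOf s)) K) := by
  classical
  choose U' φ' g' hxU' hU' hφ' hg' using exists_isGen_affine₂ F M hF hM
  obtain ⟨t, ht⟩ := finite_cover_nhds (U := fun x => (U' x : Set X))
    (fun x => (U' x).isOpen.mem_nhds (hxU' x))
  let U : t → X.Opens := fun i => U' i.1
  let φ : ∀ i : t, Γ(F, U i) := fun i => φ' i.1
  let g : ∀ i : t, Γ(M, U i) := fun i => g' i.1
  have hU : ∀ i, IsAffineOpen (U i) := fun i => hU' i.1
  have hφ : ∀ i, IsGen F (U i) (φ i) := fun i => hφ' i.1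
  have hg : ∀ i, IsGen M (U i) (g i) := fun i => hg' i.1
  have hcov : ∀ x : X, ∃ i, x ∈ U i := by
    intro x
    have hx : x ∈ ⋃ y ∈ t, (U' y : Set X) := by rw [ht]; trivial
    simp only [Set.mem_iUnion] at hx
    obtain ⟨y, hy, hxy⟩ := hx
    exact ⟨⟨y, hy⟩, hxy⟩
  have hqs : ∀ i j, IsCompact ((U i ⊓ U j : X.Opens) : Set X) := fun i j =>
    QuasiSeparatedSpace.inter_isCompact _ _ (U i).isOpen (hU i).isCompact (U j).isOpen (hU j).isCompact
  let r : ∀ i, Γ(X, U i) := fun i => (hg i).coef le_rfl (res M le_top (secOf s))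
  have hr : ∀ i, res M (le_top : U i ≤ ⊤) (secOf s) = (r i • g i : Γ(M, U i)) := fun i => by
    have := (hg i).coef_smul le_rfl (res M le_top (secOf s))
    rw [res_self] at this
    exact this.symm
  have hD : ∀ i, CohB1.genLocus M s ⊓ U i = X.basicOpen (r i) := fun i =>
    genLocus_inf_eq s (U i) (g i) (hg i) (r i) (hr i)
  let c : ∀ i j, Γ(X, U i ⊓ U j) := fun i j => (hg j).coef inf_le_right (res M inf_le_left (g i))
  have hc : ∀ i j, res M (inf_le_left : U i ⊓ U j ≤ U i) (g i) =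
      (c i j • res M inf_le_right (g j) : Γ(M, U i ⊓ U j)) := fun i j =>
    ((hg j).coef_smul inf_le_right _).symm
  let d : ∀ i j, Γ(X, U i ⊓ U j) := fun i j => (hφ j).coef inf_le_right (res F inf_le_left (φ i))
  have hd : ∀ i j, res F (inf_le_left : U i ⊓ U j ≤ U i) (φ i) =
      (d i j • res F inf_le_right (φ j) : Γ(F, U i ⊓ U j)) := fun i j =>
    ((hφ j).coef_smul inf_le_right _).symm
  have hrc : ∀ i j, resO (inf_le_left : U i ⊓ U j ≤ U i) (r i) * c i j = resO inf_le_right (r j) := by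
    intro i j
    apply ((hg j) _ inf_le_right).1
    show ((resO inf_le_left (r i) * c i j) • res M inf_le_right (g j) : Γ(M, U i ⊓ U j)) =
      (resO inf_le_right (r j) • res M inf_le_right (g j) : Γ(M, U i ⊓ U j))
    rw [mul_smul, ← hc, ← res_smul, ← res_smul, ← hr, ← hr, res_res, res_res]
  let a : ∀ i, Γ(X, CohB1.genLocus M s ⊓ U i) := fun i =>
    (hφ i).coef (inf_le_right : CohB1.genLocus M s ⊓ U i ≤ U i)
      (res F (inf_le_left : CohB1.genLocus M s ⊓ U i ≤ _) ξ)
  have ha : ∀ i, res F (inf_le_left : CohB1.genLocus M s ⊓ U i ≤ _) ξ =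
      (a i • res F (inf_le_right : CohB1.genLocus M s ⊓ U i ≤ U i) (φ i) : Γ(F, CohB1.genLocus M s ⊓ U i)) :=
    fun i => ((hφ i).coef_smul inf_le_right _).symm
  have had : ∀ i j,
      resO (le_inf inf_le_left (inf_le_right.trans inf_le_left) :
          CohB1.genLocus M s ⊓ (U i ⊓ U j) ≤ CohB1.genLocus M s ⊓ U i) (a i) *
        resO (inf_le_right : CohB1.genLocus M s ⊓ (U i ⊓ U j) ≤ U i ⊓ U j) (d i j) =
      resO (le_inf inf_le_left (inf_le_right.trans inf_le_right) :
          CohB1.genLocus M s ⊓ (U i ⊓ U j) ≤ CohB1.genLocus M s ⊓ U j) (a j) := by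
    intro i j
    have hWj : CohB1.genLocus M s ⊓ (U i ⊓ U j) ≤ U j := inf_le_right.trans inf_le_right
    apply ((hφ j) _ hWj).1
    have e1 := congrArg (res F (le_inf inf_le_left (inf_le_right.trans inf_le_left) :
      CohB1.genLocus M s ⊓ (U i ⊓ U j) ≤ CohB1.genLocus M s ⊓ U i)) (ha i)
    have e2 := congrArg (res F (le_inf inf_le_left (inf_le_right.trans inf_le_right) :
      CohB1.genLocus M s ⊓ (U i ⊓ U j) ≤ CohB1.genLocus M s ⊓ U j)) (ha j)
    have e3 := congrArg (res F (inf_le_right : CohB1.genLocus M s ⊓ (U i ⊓ U j) ≤ U i ⊓ U j)) (hd i j)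
    rw [res_res, res_smul, res_res] at e1 e2 e3
    show ((resO _ (a i) * resO _ (d i j)) • res F hWj (φ j) : Γ(F, CohB1.genLocus M s ⊓ (U i ⊓ U j))) =
      (resO _ (a j) • res F hWj (φ j) : Γ(F, CohB1.genLocus M s ⊓ (U i ⊓ U j)))
    rw [mul_smul, ← e3, ← e1, ← e2]
  obtain ⟨k₀, hk₀⟩ := exists_coeff_of_charts U hU hqs (CohB1.genLocus M s) r hD c d hrc a had
  refine ⟨k₀, fun K hK => ?_⟩
  obtain ⟨β, hβ1, hβ2⟩ := hk₀ K hK
  let T' : ∀ i, Γ(CohB1.tensorMod F (CohB1.tensorPow M K), U i) := fun i =>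
    (β i • tmulSec F (CohB1.tensorPow M K) (φ i) (gpow M (g i) K) :
      Γ(CohB1.tensorMod F (CohB1.tensorPow M K), U i))
  have hagree : ∀ i j, res _ (inf_le_left : U i ⊓ U j ≤ U i) (T' i) =
      res _ (inf_le_right : U i ⊓ U j ≤ U j) (T' j) := by
    intro i j
    show res _ (inf_le_left : U i ⊓ U j ≤ U i)
        (β i • tmulSec F (CohB1.tensorPow M K) (φ i) (gpow M (g i) K) :
          Γ(CohB1.tensorMod F (CohB1.tensorPow M K), U i)) =
      res _ (inf_le_right : U i ⊓ U j ≤ U j)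
        (β j • tmulSec F (CohB1.tensorPow M K) (φ j) (gpow M (g j) K) :
          Γ(CohB1.tensorMod F (CohB1.tensorPow M K), U j))
    rw [res_smul, res_smul, tmulSec_res, tmulSec_res, gpow_res, gpow_res, hc, hd, gpow_smul,
      tmulSec_smul_left, tmulSec_smul_right, ← mul_smul, ← mul_smul, ← hβ2 i j]
  obtain ⟨z, hz⟩ := exists_gluing (CohB1.tensorMod F (CohB1.tensorPow M K)) U ⊤ (fun i => le_top)
    (fun x _ => Opens.mem_iSup.2 (hcov x)) T' hagree
  refine ⟨TwistGen.ofSection _ z, ?_⟩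
  rw [secOf_ofSection]
  refine eq_of_locally_eq (CohB1.tensorMod F (CohB1.tensorPow M K)) (fun i => CohB1.genLocus M s ⊓ U i) _
    (fun i => inf_le_left) (fun x hx => ?_) _ _ (fun i => ?_)
  · obtain ⟨i, hi⟩ := hcov x
    exact Opens.mem_iSup.2 ⟨i, ⟨hx, hi⟩⟩
  · have e1 : res (CohB1.tensorMod F (CohB1.tensorPow M K)) (inf_le_left : CohB1.genLocus M s ⊓ U i ≤ _)
        (res _ (le_top : CohB1.genLocus M s ≤ ⊤) z) =
        res _ (inf_le_right : CohB1.genLocus M s ⊓ U i ≤ U i) (T' i) := by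
      rw [res_res, ← hz i, res_res]
    have e2 : res M (inf_le_left : CohB1.genLocus M s ⊓ U i ≤ _) (res M le_top (secOf s)) =
        (resO (inf_le_right : CohB1.genLocus M s ⊓ U i ≤ U i) (r i) •
          res M (inf_le_right : CohB1.genLocus M s ⊓ U i ≤ U i) (g i) : Γ(M, CohB1.genLocus M s ⊓ U i)) := by
      rw [res_res, ← res_smul, ← hr, res_res]
    have eR : res (CohB1.tensorMod F (CohB1.tensorPow M K)) (inf_le_left : CohB1.genLocus M s ⊓ U i ≤ _)
        (tmulSec F (CohB1.tensorPow M K) ξ (gpow M (res M le_top (secOf s)) K)) =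
        ((a i * resO (inf_le_right : CohB1.genLocus M s ⊓ U i ≤ U i) (r i) ^ K) •
          tmulSec F (CohB1.tensorPow M K) (res F (inf_le_right : CohB1.genLocus M s ⊓ U i ≤ U i) (φ i))
            (gpow M (res M (inf_le_right : CohB1.genLocus M s ⊓ U i ≤ U i) (g i)) K) :
          Γ(CohB1.tensorMod F (CohB1.tensorPow M K), CohB1.genLocus M s ⊓ U i)) := by
      rw [tmulSec_res, gpow_res, e2, ha i, gpow_smul, tmulSec_smul_left, tmulSec_smul_right, ← mul_smul]
    have eL : res (CohB1.tensorMod F (CohB1.tensorPow M K)) (inf_le_right : CohB1.genLocus M s ⊓ U i ≤ U i)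
        (T' i) =
        (resO (inf_le_right : CohB1.genLocus M s ⊓ U i ≤ U i) (β i) •
          tmulSec F (CohB1.tensorPow M K) (res F (inf_le_right : CohB1.genLocus M s ⊓ U i ≤ U i) (φ i))
            (gpow M (res M (inf_le_right : CohB1.genLocus M s ⊓ U i ≤ U i) (g i)) K) :
          Γ(CohB1.tensorMod F (CohB1.tensorPow M K), CohB1.genLocus M s ⊓ U i)) := by
      show res _ (inf_le_right : CohB1.genLocus M s ⊓ U i ≤ U i)
        (β i • tmulSec F (CohB1.tensorPow M K) (φ i) (gpow M (g i) K) :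
          Γ(CohB1.tensorMod F (CohB1.tensorPow M K), U i)) = _
      rw [res_smul, tmulSec_res, gpow_res]
    rw [e1, eL, eR, hβ1 i]
    congr 1
    ring

end Groth.Agent.Lib.Helper28.GenLocus
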