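import Groth.Agent.Lib.Helper28.CounitGen
import Groth.Agent.Lib.Helper28.AmplePow
import Groth.Agent.Lib.Helper28.SecExtend2
import Groth.Agent.Lib.Helper28.ProjUPGeom
import Groth.Agent.Lib.Helper28.AmpleBaseChange
import Groth.Agent.Lib.Helper28.AmpleExtTensor2

/-!
# Ampleness of `L ⊗ K^n` for `L` ample over the loci of sections of powers of `K` (helper28)

* `SecGenAt N U ξ y`: the section `ξ` of `N` over `U` generates `N` near `y`.
* `exists_forall_isAmple`: if a quasi-compact scheme is covered by loci `X_σ` of sections of positive powers of an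
  invertible module `K` over which `L` is ample, then `L ⊗ K^n` is ample for all large `n`.
-/

set_option autoImplicit false
universe u
open CategoryTheory CategoryTheory.Limits AlgebraicGeometry Opposite TopologicalSpace
noncomputable section

namespace Groth.Agent.Lib.Helper28.AmpleCompose

open Groth.Agent.Lib.Helper28 Groth.Agent.Lib.Helper28.QCohLoc Groth.Agent.Lib.Helper28.GenLocus
  Groth.Agent.Lib.Helper28.TensorGen Groth.Agent.Lib.Helper28.InvTensor Groth.Agent.Lib.Helper28.AmpleUnit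
  Groth.Agent.Lib.Helper28.AmpleLocal Groth.Agent.Lib.Helper28.PullbackInv

variable {X : Scheme.{u}}

/-- the section `ξ` of `N` over `U` generates `N` on a neighbourhood of `y` -/
def SecGenAt (N : X.Modules) (U : X.Opens) (ξ : Γ(N, U)) (y : X) : Prop :=
  ∃ (W : X.Opens) (hW : W ≤ U), y ∈ W ∧ IsGen N W (res N hW ξ)

/-- chart criterion: over an open with a generator `g`, the section `r • g` generates exactly on `D(r)` -/
theorem secGenAt_iff_of_chart {N : X.Modules} {U : X.Opens} (ξ : Γ(N, U)) {W : X.Opens} (hW : W ≤ U)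
    {g : Γ(N, W)} (hg : IsGen N W g) (r : Γ(X, W)) (hr : res N hW ξ = (r • g : Γ(N, W))) (y : X) (hy : y ∈ W) :
    SecGenAt N U ξ y ↔ y ∈ X.basicOpen r := by
  constructor
  · rintro ⟨W₂, hW₂, hyW₂, hgen⟩
    have hle : W₂ ⊓ W ≤ W := inf_le_right
    have h1 : IsGen N (W₂ ⊓ W) (res N (inf_le_left.trans hW₂) ξ) := by
      have := hgen.res (inf_le_left : W₂ ⊓ W ≤ W₂)
      rwa [res_res] at this
    have h2 : res N (inf_le_left.trans hW₂ : W₂ ⊓ W ≤ U) ξ = (resO hle r • res N hle g : Γ(N, W₂ ⊓ W)) := by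
      rw [← res_smul, ← hr, res_res]
    have h3 : IsGen N (W₂ ⊓ W) (res N hle g) := hg.res hle
    have h4 : IsUnit (resO hle r) := by
      have h5 := ProjUPGeom.isUnit_coef_of_isGen (L := N) h1 h3
      have h6 : h3.coef le_rfl (res N (inf_le_left.trans hW₂ : W₂ ⊓ W ≤ U) ξ) = resO hle r := by
        refine h3.coef_eq le_rfl _ _ ?_
        rw [res_self, h2]
      rwa [h6] at h5
    exact le_basicOpen_of_isUnit_resO r hle h4 ⟨hyW₂, hy⟩
  · intro hyr
    have hle : X.basicOpen r ≤ W := X.basicOpen_le r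
    refine ⟨X.basicOpen r, hle.trans hW, hyr, ?_⟩
    have h1 : res N (hle.trans hW) ξ = (resO hle r • res N hle g : Γ(N, X.basicOpen r)) := by
      rw [← res_smul, ← hr, res_res]
    rw [h1]
    exact CounitGen.isGen_smul_of_isUnit (hg.res hle) _ (isUnit_resO_of_le_basicOpen r le_rfl)

/-- the locus of a global section, pointwise -/
theorem mem_genLocus_iff_secGenAt {N : X.Modules} (hN : PicF.IsInvertible N) (s : Coh.structureModule X ⟶ N)
    (y : X) : y ∈ CohB1.genLocus N s ↔ SecGenAt N ⊤ (secOf s) y := by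
  obtain ⟨W, g, hyW, hg⟩ := exists_isGen N hN y
  let r : Γ(X, W) := hg.coef le_rfl (res N (le_top : W ≤ ⊤) (secOf s))
  have hr : res N (le_top : W ≤ ⊤) (secOf s) = (r • g : Γ(N, W)) := by
    have := hg.coef_smul le_rfl (res N (le_top : W ≤ ⊤) (secOf s))
    rw [res_self] at this
    exact this.symm
  rw [secGenAt_iff_of_chart (secOf s) le_top hg r hr y hyW, ← genLocus_inf_eq s W g hg r hr]
  exact ⟨fun h => ⟨h, hyW⟩, fun h => h.1⟩

/-- restriction of the section does not change generation at a point of the smaller open -/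
theorem secGenAt_res_iff {N : X.Modules} {U U' : X.Opens} (h : U' ≤ U) (ξ : Γ(N, U)) (y : X) (hy : y ∈ U') :
    SecGenAt N U' (res N h ξ) y ↔ SecGenAt N U ξ y := by
  constructor
  · rintro ⟨W, hW, hyW, hgen⟩
    refine ⟨W, hW.trans h, hyW, ?_⟩
    rwa [res_res] at hgen
  · rintro ⟨W, hW, hyW, hgen⟩
    refine ⟨W ⊓ U', inf_le_right, ⟨hyW, hy⟩, ?_⟩
    have := hgen.res (inf_le_left : W ⊓ U' ≤ W)
    rw [res_res] at this ⊢
    exact this

/-- multiplying by a generator of another invertible module does not change generation -/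
theorem secGenAt_tmulSec_iff {N M' : X.Modules} (hN : PicF.IsInvertible N) {U : X.Opens} (ξ : Γ(N, U))
    {γ : Γ(M', U)} (hγ : IsGen M' U γ) (y : X) (hy : y ∈ U) :
    SecGenAt (CohB1.tensorMod N M') U (tmulSec N M' ξ γ) y ↔ SecGenAt N U ξ y := by
  obtain ⟨W₀, g₀, hyW₀, hg₀⟩ := exists_isGen N hN y
  have hW : W₀ ⊓ U ≤ U := inf_le_right
  have hyW : y ∈ W₀ ⊓ U := ⟨hyW₀, hy⟩
  let g : Γ(N, W₀ ⊓ U) := res N inf_le_left g₀
  have hg : IsGen N (W₀ ⊓ U) g := hg₀.res inf_le_left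
  let r : Γ(X, W₀ ⊓ U) := hg.coef le_rfl (res N hW ξ)
  have hr : res N hW ξ = (r • g : Γ(N, W₀ ⊓ U)) := by
    have := hg.coef_smul le_rfl (res N hW ξ)
    rw [res_self] at this
    exact this.symm
  have hgt : IsGen (CohB1.tensorMod N M') (W₀ ⊓ U) (tmulSec N M' g (res M' hW γ)) :=
    isGen_tmulSec N M' hg (hγ.res hW)
  have hrt : res (CohB1.tensorMod N M') hW (tmulSec N M' ξ γ) =
      (r • tmulSec N M' g (res M' hW γ) : Γ(CohB1.tensorMod N M', W₀ ⊓ U)) := by
    rw [tmulSec_res, hr, tmulSec_smul_left]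
  rw [secGenAt_iff_of_chart (tmulSec N M' ξ γ) hW hgt r hrt y hyW, secGenAt_iff_of_chart ξ hW hg r hr y hyW]

/-- the locus of a section of the restriction to an open subscheme, read on the ambient scheme -/
theorem mem_genLocus_restrict_iff {N : X.Modules} (hN : PicF.IsInvertible N) (U : X.Opens)
    (s : Coh.structureModule (↑U : Scheme.{u}) ⟶ N.restrict U.ι) (y : (↑U : Scheme.{u})) :
    y ∈ CohB1.genLocus _ s ↔ SecGenAt N (U.ι ''ᵁ ⊤) (upSec N U (secOf s)) (U.ι y) := by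
  rw [mem_genLocus_iff_secGenAt (AmpleIso.isInvertible_restrict U.ι N hN) s y]
  constructor
  · rintro ⟨W', hW', hyW', hgen⟩
    refine ⟨U.ι ''ᵁ W', U.ι.image_mono hW', ⟨y, hyW', rfl⟩, ?_⟩
    exact isGen_of_isGen_restrict N U _ hgen
  · rintro ⟨W, hW, hyW, hgen⟩
    have hle : U.ι ''ᵁ (U.ι ⁻¹ᵁ W) ≤ W := U.ι.image_preimage_le W
    refine ⟨U.ι ⁻¹ᵁ W, le_top, hyW, ?_⟩
    have h1 := hgen.res hle
    rw [res_res] at h1
    exact isGen_restrict_of_isGen N U _ h1

/-- **sections with a prescribed affine locus**: if `L` is ample over the locus `X_σ` of a section `σ` of `M'`, every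
point of `X_σ` lies in an affine open `V` which is the locus of a global section of `(L^(n+1) ⊗ M'^K) ⊗ M'`, for all
large `K` -/
theorem exists_sections_of_ample_locus [CompactSpace X] [QuasiSeparatedSpace X] {L M' : X.Modules}
    (hL : PicF.IsInvertible L) (hM' : PicF.IsInvertible M') (σ : Coh.structureModule X ⟶ M')
    (hA : CohB1.IsAmple (L.restrict (CohB1.genLocus M' σ).ι)) (x : X) (hx : x ∈ CohB1.genLocus M' σ) :
    ∃ (n k₀ : ℕ) (V : X.Opens), x ∈ V ∧ IsAffineOpen V ∧ ∀ K' : ℕ, k₀ ≤ K' →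
      ∃ τ : Coh.structureModule X ⟶
          CohB1.tensorMod (CohB1.tensorMod (CohB1.tensorPow L (n + 1)) (CohB1.tensorPow M' K')) M',
        CohB1.genLocus _ τ = V := by
  obtain ⟨U, hU⟩ : ∃ U : X.Opens, U = CohB1.genLocus M' σ := ⟨_, rfl⟩
  have hA' : CohB1.IsAmple (L.restrict U.ι) := by rw [hU]; exact hA
  have hxU : x ∈ U := by rw [hU]; exact hx
  obtain ⟨n, s, hys, haff⟩ := hA'.2.2 ⟨x, hxU⟩
  obtain ⟨e⟩ := exists_restrict_tensorPow_iso L U hA'.1 (n + 1)
  let N := CohB1.tensorPow L (n + 1)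
  have hN : PicF.IsInvertible N := isInvertible_tensorPow hL (n + 1)
  let s₁ : Coh.structureModule (↑U : Scheme.{u}) ⟶ N.restrict U.ι := s ≫ e.inv
  have hs₁ : CohB1.genLocus _ s₁ = CohB1.genLocus _ s := AmpleUnit.genLocus_comp_iso s e.symm
  let ξ₀ : Γ(N, U.ι ''ᵁ ⊤) := upSec N U (secOf s₁)
  have hle : U ≤ U.ι ''ᵁ ⊤ := by rw [Scheme.Opens.ι_image_top]
  let ξ : Γ(N, U) := res N hle ξ₀
  let V : X.Opens := U.ι ''ᵁ CohB1.genLocus _ s₁
  have haffV : IsAffineOpen V := by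
    have h1 : IsAffineOpen (CohB1.genLocus _ s₁) := by rw [hs₁]; exact haff
    exact h1.image_of_isOpenImmersion U.ι
  have hVU : V ≤ U := InvGen.image_le U _
  have hV : ∀ y : X, ∀ hy : y ∈ U, y ∈ V ↔ SecGenAt N U ξ y := by
    intro y hy
    have h1 : y ∈ V ↔ (⟨y, hy⟩ : (↑U : Scheme.{u})) ∈ CohB1.genLocus _ s₁ :=
      Scheme.Hom.apply_mem_image_iff (f := U.ι) (x := (⟨y, hy⟩ : (↑U : Scheme.{u})))
    exact h1.trans ((mem_genLocus_restrict_iff hN U s₁ ⟨y, hy⟩).trans (secGenAt_res_iff hle ξ₀ y hy).symm)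
  obtain ⟨k₀, hk₀⟩ := exists_extension_tmul hN hM' σ (show Γ(N, CohB1.genLocus M' σ) from
    res N (le_of_eq hU.symm) ξ)
  refine ⟨n, k₀, V, ⟨⟨x, hxU⟩, by rw [hs₁]; exact hys, rfl⟩, haffV, fun K' hK' => ?_⟩
  obtain ⟨T, hT⟩ := hk₀ K' hK'
  have hNM : PicF.IsInvertible (CohB1.tensorMod N (CohB1.tensorPow M' K')) :=
    isInvertible_tensorMod hN (isInvertible_tensorPow hM' K')
  refine ⟨smulSec T σ, ?_⟩
  rw [genLocus_smulSec hNM hM' T σ]
  have hγ : IsGen (CohB1.tensorPow M' K') (CohB1.genLocus M' σ)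
      (gpow M' (res M' le_top (secOf σ)) K') := isGen_gpow (isGen_genLocus σ) K'
  have key : ∀ y : X, y ∈ CohB1.genLocus M' σ → (y ∈ CohB1.genLocus _ T ↔ y ∈ V) := by
    intro y hyσ
    have hyU : y ∈ U := by rw [hU]; exact hyσ
    rw [hV y hyU, mem_genLocus_iff_secGenAt hNM T y,
      ← secGenAt_res_iff (le_top : CohB1.genLocus M' σ ≤ ⊤) (secOf T) y hyσ, hT,
      secGenAt_tmulSec_iff hN _ hγ y hyσ,
      secGenAt_res_iff (le_of_eq hU.symm : CohB1.genLocus M' σ ≤ U) ξ y hyσ]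
  ext y
  constructor
  · rintro ⟨hyT, hyσ⟩
    exact (key y hyσ).1 hyT
  · intro hyV
    have hyσ : y ∈ CohB1.genLocus M' σ := by rw [← hU]; exact hVU hyV
    exact ⟨(key y hyσ).2 hyV, hyσ⟩

/-- a scheme covered by quasi-separated opens whose intersections with affine opens are quasi-compact is
quasi-separated -/
theorem quasiSeparatedSpace_of_cover {ι : Type*} (U : ι → X.Opens) (hcov : ∀ x : X, ∃ i, x ∈ U i)
    (hc : ∀ (i : ι) (R : X.affineOpens), IsCompact ((((R : X.Opens) ⊓ U i : X.Opens)) : Set X))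
    (hqs : ∀ i, QuasiSeparatedSpace ((U i : X.Opens) : Scheme.{u})) : QuasiSeparatedSpace X := by
  classical
  rw [quasiSeparatedSpace_iff_forall_affineOpens]
  intro P Q
  obtain ⟨T, hT⟩ := P.2.isCompact.elim_finite_subcover (fun i => ((U i : X.Opens) : Set X))
    (fun i => (U i).isOpen) (fun x _ => Set.mem_iUnion.2 (hcov x))
  have hPQ : ((P : X.Opens) ∩ (Q : X.Opens) : Set X) =
      ⋃ i ∈ T, ((((P : X.Opens) ⊓ U i : X.Opens) : Set X) ∩
        (((Q : X.Opens) ⊓ U i : X.Opens) : Set X)) := by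
    ext x
    simp only [Set.mem_inter_iff, Set.mem_iUnion, SetLike.mem_coe, Opens.mem_inf, exists_prop]
    constructor
    · rintro ⟨hP, hQ⟩
      obtain ⟨i, hi, hxi⟩ : ∃ i ∈ T, x ∈ U i := by
        have := hT hP
        simpa only [Set.mem_iUnion, exists_prop, SetLike.mem_coe] using this
      exact ⟨i, hi, ⟨hP, hxi⟩, ⟨hQ, hxi⟩⟩
    · rintro ⟨i, -, ⟨hP, -⟩, ⟨hQ, -⟩⟩
      exact ⟨hP, hQ⟩
  rw [hPQ]
  refine T.isCompact_biUnion fun i _ => ?_
  have hB : IsQuasiSeparated ((U i : X.Opens) : Set X) :=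
    (isQuasiSeparated_iff_quasiSeparatedSpace _ (U i).isOpen).2 (hqs i)
  exact hB _ _ (fun x hx => hx.2) (Opens.isOpen _) (hc i P) (fun x hx => hx.2) (Opens.isOpen _) (hc i Q)

/-- an invertible module on a quasi-compact scheme whose own global sections have affine loci covering the scheme is
ample -/
theorem isAmple_of_sections [CompactSpace X] {B : X.Modules} (hB : PicF.IsInvertible B)
    (h : ∀ y : X, ∃ τ : Coh.structureModule X ⟶ B, y ∈ CohB1.genLocus B τ ∧ IsAffineOpen (CohB1.genLocus B τ)) :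
    CohB1.IsAmple B := by
  refine ⟨hB, inferInstance, fun y => ?_⟩
  obtain ⟨τ, hy, haff⟩ := h y
  refine ⟨0, spow τ 1, ?_⟩
  rw [genLocus_spow hB τ 1 Nat.one_pos]
  exact ⟨hy, haff⟩

theorem tmulSec_smul_smul (M N : X.Modules) {W : X.Opens} (a b : Γ(X, W)) (p : Γ(M, W)) (q : Γ(N, W)) :
    tmulSec M N (a • p : Γ(M, W)) (b • q : Γ(N, W)) = ((a * b) • tmulSec M N p q : Γ(CohB1.tensorMod M N, W)) := by
  rw [tmulSec_smul_left, tmulSec_smul_right, ← mul_smul]

/-- the uniformizing isomorphism `((L^(n+1) ⊗ (K^(m+1))^k) ⊗ K^(m+1))^e ≅ L^a ⊗ K^c` -/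
theorem exists_uniformizing_iso {L K : X.Modules} (hL : PicF.IsInvertible L) (hK : PicF.IsInvertible K)
    (n m k e a c : ℕ) (ha : (n + 1) * e = a) (hc : (m + 1) * (k + 1) * e = c) :
    Nonempty (CohB1.tensorPow (CohB1.tensorMod (CohB1.tensorMod (CohB1.tensorPow L (n + 1))
        (CohB1.tensorPow (CohB1.tensorPow K (m + 1)) k)) (CohB1.tensorPow K (m + 1))) e ≅
      CohB1.tensorMod (CohB1.tensorPow L a) (CohB1.tensorPow K c)) := by
  have key := exists_iso_of_homogeneous₂ L K hL hK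
    (CohB1.tensorPow (CohB1.tensorMod (CohB1.tensorMod (CohB1.tensorPow L (n + 1))
        (CohB1.tensorPow (CohB1.tensorPow K (m + 1)) k)) (CohB1.tensorPow K (m + 1))) e)
    (CohB1.tensorMod (CohB1.tensorPow L a) (CohB1.tensorPow K c))
    (fun U g g' => gpow _ (tmulSec _ _ (tmulSec _ _ (gpow L g (n + 1))
      (gpow _ (gpow K g' (m + 1)) k)) (gpow K g' (m + 1))) e)
    (fun U g g' => tmulSec _ _ (gpow L g a) (gpow K g' c))
    (fun U g g' hg hg' => isGen_gpow (isGen_tmulSec _ _ (isGen_tmulSec _ _ (isGen_gpow hg _)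
      (isGen_gpow (isGen_gpow hg' _) _)) (isGen_gpow hg' _)) _)
    (fun U g g' hg hg' => isGen_tmulSec _ _ (isGen_gpow hg _) (isGen_gpow hg' _)) a c
    (by
      intro U V h g g'
      rw [gpow_res, tmulSec_res, tmulSec_res, gpow_res, gpow_res, gpow_res])
    (by
      intro U V h g g'
      rw [tmulSec_res, gpow_res, gpow_res])
    (by
      intro U u u' g g'
      rw [gpow_smul L, gpow_smul K, gpow_smul (CohB1.tensorPow K (m + 1)), tmulSec_smul_smul, tmulSec_smul_smul,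
        gpow_smul]
      congr 1
      rw [← ha, ← hc]
      ring)
    (by
      intro U u u' g g'
      rw [gpow_smul L, gpow_smul K, tmulSec_smul_smul])
  exact ⟨key.choose⟩

/-- `(L ⊗ K^n)^a ≅ (L^a ⊗ K^c) ⊗ K^r` when `n * a = c + r` -/
theorem exists_final_iso {L K : X.Modules} (hL : PicF.IsInvertible L) (hK : PicF.IsInvertible K)
    (n a c r : ℕ) (h : n * a = c + r) :
    Nonempty (CohB1.tensorPow (CohB1.tensorMod L (CohB1.tensorPow K n)) a ≅
      CohB1.tensorMod (CohB1.tensorMod (CohB1.tensorPow L a) (CohB1.tensorPow K c)) (CohB1.tensorPow K r)) := by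
  have key := exists_iso_of_homogeneous₂ L K hL hK
    (CohB1.tensorPow (CohB1.tensorMod L (CohB1.tensorPow K n)) a)
    (CohB1.tensorMod (CohB1.tensorMod (CohB1.tensorPow L a) (CohB1.tensorPow K c)) (CohB1.tensorPow K r))
    (fun U g g' => gpow _ (tmulSec L _ g (gpow K g' n)) a)
    (fun U g g' => tmulSec _ _ (tmulSec _ _ (gpow L g a) (gpow K g' c)) (gpow K g' r))
    (fun U g g' hg hg' => isGen_gpow (isGen_tmulSec _ _ hg (isGen_gpow hg' _)) _)
    (fun U g g' hg hg' => isGen_tmulSec _ _ (isGen_tmulSec _ _ (isGen_gpow hg _) (isGen_gpow hg' _))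
      (isGen_gpow hg' _)) a (n * a)
    (by
      intro U V h g g'
      rw [gpow_res, tmulSec_res, gpow_res])
    (by
      intro U V h g g'
      rw [tmulSec_res, tmulSec_res, gpow_res, gpow_res, gpow_res])
    (by
      intro U u u' g g'
      rw [gpow_smul K, tmulSec_smul_smul, gpow_smul]
      congr 1
      rw [mul_pow, ← pow_mul])
    (by
      intro U u u' g g'
      rw [gpow_smul L, gpow_smul K, gpow_smul K, tmulSec_smul_smul, tmulSec_smul_smul]
      congr 1
      rw [h, pow_add, mul_assoc])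
  exact ⟨key.choose⟩

/-- **ampleness of `L ⊗ K^n` for large `n`**: on a quasi-compact scheme covered by loci `X_σ` of sections of
positive powers of the invertible module `K` over which `L` is ample -/
theorem exists_forall_isAmple [CompactSpace X] {L K : X.Modules} (hL : PicF.IsInvertible L)
    (hK : PicF.IsInvertible K)
    (h : ∀ x : X, ∃ (m : ℕ) (σ : Coh.structureModule X ⟶ CohB1.tensorPow K (m + 1)),
      x ∈ CohB1.genLocus _ σ ∧ CohB1.IsAmple (L.restrict (CohB1.genLocus _ σ).ι)) :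
    ∃ n₀ : ℕ, ∀ n : ℕ, n₀ ≤ n → CohB1.IsAmple (CohB1.tensorMod L (CohB1.tensorPow K n)) := by
  classical
  choose m σ hxσ hA using h
  have hKm : ∀ x, PicF.IsInvertible (CohB1.tensorPow K (m x + 1)) := fun x => isInvertible_tensorPow hK _
  have hqs : QuasiSeparatedSpace X := by
    refine quasiSeparatedSpace_of_cover (fun x => CohB1.genLocus _ (σ x)) (fun x => ⟨x, hxσ x⟩)
      (fun x R => ?_) (fun x => ?_)
    · have h1 := (isAffineOpen_genLocus_inf (hKm x) (σ x) R.2).isCompact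
      rwa [inf_comm] at h1
    · have : ((CohB1.genLocus _ (σ x) : X.Opens) : Scheme.{u}).IsSeparated := isSeparated_of_isAmple (hA x)
      infer_instance
  choose n k₀ V hxV haffV hτ using fun x =>
    exists_sections_of_ample_locus hL (hKm x) (σ x) (hA x) x (hxσ x)
  obtain ⟨t, ht⟩ := finite_cover_nhds (U := fun x => (V x : Set X)) (fun x => (V x).isOpen.mem_nhds (hxV x))
  have hcov : ∀ y : X, ∃ x ∈ t, y ∈ V x := by
    intro y
    have hy : y ∈ ⋃ x ∈ t, (V x : Set X) := by rw [ht]; trivial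
    simp only [Set.mem_iUnion] at hy
    obtain ⟨x, hx, hyx⟩ := hy
    exact ⟨x, hx, hyx⟩
  -- the uniform exponents
  let a : ℕ := ∏ x ∈ t, (n x + 1)
  let ax : X → ℕ := fun x => ∏ x' ∈ t.erase x, (n x' + 1)
  let bb : ℕ := ∏ x ∈ t, (m x + 1)
  let qx : X → ℕ := fun x => ∏ x' ∈ t.erase x, (m x' + 1)
  let Q : ℕ := t.sup k₀ + 1
  let c : ℕ := Q * a * bb
  have hapos : 0 < a := Finset.prod_pos fun x _ => Nat.succ_pos _
  have haxpos : ∀ x, 0 < ax x := fun x => Finset.prod_pos fun x' _ => Nat.succ_pos _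
  have hqxpos : ∀ x, 0 < qx x := fun x => Finset.prod_pos fun x' _ => Nat.succ_pos _
  have hax : ∀ x ∈ t, (n x + 1) * ax x = a := fun x hx => Finset.mul_prod_erase t (fun x => n x + 1) hx
  have hqx : ∀ x ∈ t, (m x + 1) * qx x = bb := fun x hx => Finset.mul_prod_erase t (fun x => m x + 1) hx
  let B : X.Modules := CohB1.tensorMod (CohB1.tensorPow L a) (CohB1.tensorPow K c)
  have hB : PicF.IsInvertible B := isInvertible_tensorMod (isInvertible_tensorPow hL a) (isInvertible_tensorPow hK c)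
  have hBample : CohB1.IsAmple B := by
    refine isAmple_of_sections hB fun y => ?_
    obtain ⟨x, hxt, hyx⟩ := hcov y
    obtain ⟨k, hk⟩ : ∃ k, k + 1 = Q * (n x + 1) * qx x :=
      ⟨Q * (n x + 1) * qx x - 1, Nat.sub_add_cancel (Nat.mul_pos (Nat.mul_pos (Nat.succ_pos _) (Nat.succ_pos _)) (hqxpos x))⟩
    have hk₀ : k₀ x ≤ k := by
      have h1 : k₀ x ≤ t.sup k₀ := Finset.le_sup hxt
      have h2 : Q ≤ Q * (n x + 1) * qx x := by
        rw [mul_assoc]
        exact Nat.le_mul_of_pos_right _ (Nat.mul_pos (Nat.succ_pos _) (hqxpos x))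
      omega
    obtain ⟨τ, hτV⟩ := hτ x k hk₀
    have hc : (m x + 1) * (k + 1) * ax x = c := by
      rw [hk]
      calc (m x + 1) * (Q * (n x + 1) * qx x) * ax x
          = Q * ((n x + 1) * ax x) * ((m x + 1) * qx x) := by ring
        _ = c := by rw [hax x hxt, hqx x hxt]
    obtain ⟨ψ⟩ := exists_uniformizing_iso hL hK (n x) (m x) k (ax x) a c (hax x hxt) hc
    have hMinv : PicF.IsInvertible (CohB1.tensorMod (CohB1.tensorMod (CohB1.tensorPow L (n x + 1))
        (CohB1.tensorPow (CohB1.tensorPow K (m x + 1)) k)) (CohB1.tensorPow K (m x + 1))) :=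
      isInvertible_tensorMod (isInvertible_tensorMod (isInvertible_tensorPow hL _)
        (isInvertible_tensorPow (hKm x) _)) (hKm x)
    refine ⟨spow τ (ax x) ≫ ψ.hom, ?_⟩
    rw [genLocus_comp_iso _ ψ, genLocus_spow hMinv τ (ax x) (haxpos x), hτV]
    exact ⟨hyx, haffV x⟩
  refine ⟨c + 1, fun n' hn' => ?_⟩
  obtain ⟨r, hr⟩ : ∃ r, n' * a = c + r := by
    refine ⟨n' * a - c, (Nat.add_sub_cancel' ?_).symm⟩
    calc c ≤ n' := by omega
      _ ≤ n' * a := Nat.le_mul_of_pos_right _ hapos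
  have hrpos : 0 < r := by
    have h1 : n' ≤ n' * a := Nat.le_mul_of_pos_right _ hapos
    omega
  obtain ⟨ψ⟩ := exists_final_iso hL hK n' a c r hr
  have hKr : PicF.IsInvertible (CohB1.tensorPow K r) := isInvertible_tensorPow hK r
  have hcoverK : ∀ y : X, ∃ (k : ℕ) (s' : Coh.structureModule X ⟶ CohB1.tensorPow (CohB1.tensorPow K r) (k + 1)),
      y ∈ CohB1.genLocus _ s' := by
    intro y
    obtain ⟨ψ₁, -⟩ := exists_tensorPow_tensorPow_iso hK (m y + 1) r ((m y + 1) * r) rfl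
    obtain ⟨ψ₂, -⟩ := exists_tensorPow_tensorPow_iso hK r (m y + 1) ((m y + 1) * r) (by ring)
    refine ⟨m y, (spow (σ y) r ≫ ψ₁.hom) ≫ ψ₂.inv, ?_⟩
    have h3 : CohB1.genLocus _ ((spow (σ y) r ≫ ψ₁.hom) ≫ ψ₂.inv) = CohB1.genLocus _ (spow (σ y) r ≫ ψ₁.hom) :=
      genLocus_comp_iso (spow (σ y) r ≫ ψ₁.hom) ψ₂.symm
    rw [h3, genLocus_comp_iso _ ψ₁, genLocus_spow (hKm y) (σ y) r hrpos]
    exact hxσ y
  have h1 : CohB1.IsAmple (CohB1.tensorMod B (CohB1.tensorPow K r)) :=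
    isAmple_tensorMod_of_cover hBample hKr hcoverK
  have h2 : CohB1.IsAmple (CohB1.tensorPow (CohB1.tensorMod L (CohB1.tensorPow K n')) a) :=
    AmpleIso.isAmple_of_iso ψ.symm h1
  exact isAmple_of_isAmple_tensorPow (isInvertible_tensorMod hL (isInvertible_tensorPow hK n')) a hapos h2

section compose

variable {Y Z : Scheme.{u}}

/-- over an affine open `W` of `Z`: `L ⊗ f^*(K^n)` is ample on `(f ≫ g)⁻¹(W)` for all large `n` -/
theorem exists_forall_isAmple_restrict (f : X ⟶ Y) (g : Y ⟶ Z) [QuasiCompact f] [QuasiCompact g]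
    (L : X.Modules) (K : Y.Modules) (hL : RelAmple.IsRelAmple f L) (hK : RelAmple.IsRelAmple g K)
    (W : Z.Opens) (hW : IsAffineOpen W) :
    ∃ n₀ : ℕ, ∀ n : ℕ, n₀ ≤ n → CohB1.IsAmple
      ((CohB1.tensorMod L ((Scheme.Modules.pullback f).obj (CohB1.tensorPow K n))).restrict
        ((f ≫ g) ⁻¹ᵁ W).ι) := by
  have hLinv : PicF.IsInvertible L := isInvertible_of_isRelAmple f L hL
  have hKinv : PicF.IsInvertible K := isInvertible_of_isRelAmple g K hK
  let YW : Y.Opens := g ⁻¹ᵁ W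
  let XW : X.Opens := f ⁻¹ᵁ YW
  have hXW : (f ≫ g) ⁻¹ᵁ W = XW := rfl
  rw [hXW]
  have hcXW : CompactSpace ((XW : X.Opens) : Scheme.{u}) :=
    isCompact_iff_compactSpace.mp (QuasiCompact.isCompact_preimage (f := f ≫ g) _ W.isOpen hW.isCompact)
  let fK : X.Modules := (Scheme.Modules.pullback f).obj K
  have hfK : PicF.IsInvertible fK := isInvertible_pullback f hKinv
  let LP : (↑XW : Scheme.{u}).Modules := L.restrict XW.ι
  let KP : (↑XW : Scheme.{u}).Modules := fK.restrict XW.ι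
  have hLP : PicF.IsInvertible LP := AmpleIso.isInvertible_restrict XW.ι L hLinv
  have hKP : PicF.IsInvertible KP := AmpleIso.isInvertible_restrict XW.ι fK hfK
  have hKW : CohB1.IsAmple (K.restrict YW.ι) := hK.2 ⟨W, hW⟩
  -- the hypothesis of the core lemma
  have hyp : ∀ x : (↑XW : Scheme.{u}), ∃ (m : ℕ)
      (σ : Coh.structureModule (↑XW : Scheme.{u}) ⟶ CohB1.tensorPow KP (m + 1)),
      x ∈ CohB1.genLocus _ σ ∧ CohB1.IsAmple (LP.restrict (CohB1.genLocus _ σ).ι) := by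
    intro x
    obtain ⟨m, s, hys, haff⟩ := hKW.2.2 ((f ∣_ YW) x)
    obtain ⟨t', ht'⟩ := exists_section_pullback_tensorPow (f ∣_ YW) hKW.1 (m + 1) s
    let e : KP ≅ (Scheme.Modules.pullback (f ∣_ YW)).obj (K.restrict YW.ι) := (restrictPullbackIso f YW).app K
    refine ⟨m, t' ≫ (AmpleIso.tensorPowIso e.symm (m + 1)).hom, ?_, ?_⟩
    · rw [genLocus_comp_iso, ht']
      exact hys
    · rw [genLocus_comp_iso, ht']
      let D : (↑YW : Scheme.{u}).Opens := CohB1.genLocus _ s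
      have hD' : IsAffineOpen (YW.ι ''ᵁ D) := haff.image_of_isOpenImmersion YW.ι
      have hA := hL.2 ⟨YW.ι ''ᵁ D, hD'⟩
      rw [isAmple_restrict_restrict_iff]
      refine isAmple_restrict_of_range_eq _ (f ⁻¹ᵁ (YW.ι ''ᵁ D)).ι ?_ L hA
      rw [range_ι_comp_ι, Scheme.Opens.range_ι]
      exact congrArg (fun O : X.Opens => (O : Set X)) (image_morphismRestrict_preimage f YW D)
  obtain ⟨n₀, hn₀⟩ := exists_forall_isAmple hLP hKP hyp
  refine ⟨n₀, fun n hn => ?_⟩
  have h1 := hn₀ n hn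
  obtain ⟨ψ₁, -⟩ := exists_pullback_tensorPow_iso f hKinv n
  obtain ⟨ψ₂⟩ := exists_restrict_tensorPow_iso fK XW hKP n
  obtain ⟨ψ₃⟩ := exists_restrict_tensorMod_iso L ((Scheme.Modules.pullback f).obj (CohB1.tensorPow K n)) XW hLP
    (AmpleIso.isInvertible_restrict XW.ι _ (isInvertible_pullback f (isInvertible_tensorPow hKinv n)))
  let ψ₄ : ((Scheme.Modules.pullback f).obj (CohB1.tensorPow K n)).restrict XW.ι ≅ CohB1.tensorPow KP n :=
    (Scheme.Modules.restrictFunctor XW.ι).mapIso ψ₁ ≪≫ ψ₂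
  exact AmpleIso.isAmple_of_iso (ψ₃ ≪≫ PicGrp.tensorModIso (Iso.refl LP) ψ₄).symm h1

/-- **composition**: if `L` is `f`-ample and `K` is `g`-ample with `Z` quasi-compact, then `L ⊗ f^*(K^n)` is
`(f ≫ g)`-ample for all large `n` -/
theorem exists_forall_isRelAmple_comp [CompactSpace Z] (f : X ⟶ Y) (g : Y ⟶ Z) [QuasiCompact f] [QuasiCompact g]
    (L : X.Modules) (K : Y.Modules) (hL : RelAmple.IsRelAmple f L) (hK : RelAmple.IsRelAmple g K) :
    ∃ n₀ : ℕ, 0 < n₀ ∧ ∀ n, n₀ ≤ n → RelAmple.IsRelAmple (f ≫ g)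
      (CohB1.tensorMod L ((Scheme.Modules.pullback f).obj (CohB1.tensorPow K n))) := by
  classical
  choose n₀ hn₀ using fun W : Z.affineOpens => exists_forall_isAmple_restrict f g L K hL hK W.1 W.2
  obtain ⟨t, ht⟩ := (isCompact_univ (X := Z)).elim_finite_subcover (fun W : Z.affineOpens => ((W : Z.Opens) : Set Z))
    (fun W => W.1.isOpen) (fun z _ => by
      obtain ⟨_, ⟨V, hV, rfl⟩, hzV, -⟩ :=
        Z.isBasis_affineOpens.exists_subset_of_mem_open (Set.mem_univ z) isOpen_univ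
      exact Set.mem_iUnion.2 ⟨⟨V, hV⟩, hzV⟩)
  refine ⟨t.sup n₀ + 1, Nat.succ_pos _, fun n hn => ?_⟩
  refine isRelAmple_of_forall_exists (f ≫ g) _ fun z => ?_
  obtain ⟨W, hWt, hzW⟩ : ∃ W ∈ t, z ∈ (W : Z.Opens) := by
    have := ht (Set.mem_univ z)
    simpa only [Set.mem_iUnion, exists_prop, SetLike.mem_coe] using this
  refine ⟨W.1, hzW, fun V hV hle => ?_⟩
  have hA := hn₀ W n (by have := Finset.le_sup (f := n₀) hWt; omega)
  have : CompactSpace (((f ≫ g) ⁻¹ᵁ V : X.Opens) : Scheme.{u}) :=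
    isCompact_iff_compactSpace.mp (QuasiCompact.isCompact_preimage (f := f ≫ g) _ V.isOpen hV.isCompact)
  refine isAmple_restrict_of_range_subset _ ((f ≫ g) ⁻¹ᵁ W.1).ι ?_ _ hA
  rw [Scheme.Opens.range_ι, Scheme.Opens.range_ι]
  exact (f ≫ g).preimage_mono hle

end compose

end Groth.Agent.Lib.Helper28.AmpleCompose
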