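import Groth.Agent.Lib.Helper28.RLPsiV6
import Groth.Agent.Lib.Helper28.AmpleCompose
import Groth.Agent.Lib.Helper28.SecPow

set_option autoImplicit false
universe u
open CategoryTheory CategoryTheory.Limits AlgebraicGeometry Opposite TopologicalSpace
open HomogeneousLocalization
open scoped HomogeneousIdeal
noncomputable section

namespace Groth.Agent.Lib.Helper28.RLPsiV

open Groth.Agent.Lib.Helper28 Groth.Agent.Lib.Helper28.QCohLoc Groth.Agent.Lib.Helper28.TraceAlg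
open Groth.Agent.Lib.Helper28.GenLocus Groth.Agent.Lib.Helper28.SymAlg
open Groth.Agent.Lib.Helper28.RLPsi Groth.Agent.Lib.Helper28.RelTwistVal Groth.Agent.Lib.Helper28.RLPsiU
open Groth.Agent.Lib.Helper28.PullbackInv Groth.Agent.Lib.Helper28.TensorGen

section tpow

variable {X Y P' : Scheme.{u}} (i : X ⟶ P') {p' : P' ⟶ Y} {L : X.Modules}
  {E' : Y.Modules} [E'.IsQuasicoherent]
  {𝒮' : RelProj.QCGrAlg Y} {j' : E' ⟶ 𝒮'.toModule} (hS' : RelProj.IsGrSymAlg E' 𝒮' j')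
  {chart' : ∀ (U : Y.Opens) (hU : IsAffineOpen U), (((p' ⁻¹ᵁ U : P'.Opens) : Scheme.{u}) ≅ Proj (𝒮'.deg U hU))}
  (hP' : RelProj.IsRelProj 𝒮' p' chart')
  {O1 : P'.Modules}
  {lam : ∀ (U : Y.Opens) (hU : IsAffineOpen U),
    O1 ⟶ (Scheme.Modules.pushforward (RelProj.emb p' chart' U hU)).obj (GrTwist.twist (𝒮'.deg U hU) ((1 : ℕ) : ℤ))}
  (hO : RelProj.IsRelTwist 𝒮' p' chart' ((1 : ℕ) : ℤ) O1 lam)
  (e : L ≅ (Scheme.Modules.pullback i).obj O1)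
  {U : Y.Opens} (hU : IsAffineOpen U)

/-- the tensor product of the sections `t_e` for `e` in a list -/
def tauL : (l : List Γ(E', U)) → Γ(CohB1.tensorPow L l.length, (i ≫ p') ⁻¹ᵁ U)
  | [] => oneSec X _
  | e' :: l => tmulSec (CohB1.tensorPow L l.length) L (tauL l)
      (tE i hO e hU (asR 𝒮'.toQCAlg (j'.app U e')) (hS'.2 U hU e'))

theorem tauL_nil : tauL i hS' hO e hU ([] : List Γ(E', U)) = oneSec X _ := rfl

theorem tauL_cons (e' : Γ(E', U)) (l : List Γ(E', U)) :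
    tauL i hS' hO e hU (e' :: l) = tmulSec (CohB1.tensorPow L l.length) L (tauL i hS' hO e hU l)
      (tE i hO e hU (asR 𝒮'.toQCAlg (j'.app U e')) (hS'.2 U hU e')) := rfl

/-- the local formula for the product sections -/
theorem exists_reads_tauL (e₀ : Γ(E', U)) {W : X.Opens}
    (hW1 : W ≤ i ⁻¹ᵁ WPU p' chart' hU (asR 𝒮'.toQCAlg (j'.app U e₀))) (l : List Γ(E', U)) :
    ∃ c : Γ(P', WPU p' chart' hU (asR 𝒮'.toQCAlg (j'.app U e₀))),
      ReadsO p' chart' hU c ((l.map fun m => asR 𝒮'.toQCAlg (j'.app U m)).prod)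
        (asR 𝒮'.toQCAlg (j'.app U e₀) ^ l.length) ∧
      res (CohB1.tensorPow L l.length) (le_of_hV1 i hU e₀ hW1) (tauL i hS' hO e hU l) =
        ((i.appLE _ W hW1).hom c • gpow L (g0 i hS' hO e hU e₀ hW1) l.length :
          Γ(CohB1.tensorPow L l.length, W)) := by
  induction l with
  | nil =>
    refine ⟨1, ?_, ?_⟩
    · rw [List.map_nil, List.prod_nil, List.length_nil, pow_zero]
      exact ReadsO.one
    · rw [tauL_nil, map_one, one_smul]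
      exact res_oneSec _
  | cons e' l ih =>
    obtain ⟨cl, hrl, hFl⟩ := ih
    obtain ⟨ce, hre, hce⟩ := exists_coef hO hU (asR 𝒮'.toQCAlg (j'.app U e₀)) (hS'.2 U hU e₀)
      (asR 𝒮'.toQCAlg (j'.app U e')) (hS'.2 U hU e')
    refine ⟨ce * cl, ?_, ?_⟩
    · rw [List.map_cons, List.prod_cons, List.length_cons, pow_succ']
      exact hre.mul hrl
    · show res (CohB1.tensorMod (CohB1.tensorPow L l.length) L) (le_of_hV1 i hU e₀ hW1)
          (tmulSec (CohB1.tensorPow L l.length) L (tauL i hS' hO e hU l)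
            (tE i hO e hU (asR 𝒮'.toQCAlg (j'.app U e')) (hS'.2 U hU e'))) =
        ((i.appLE _ W hW1).hom (ce * cl) •
          tmulSec (CohB1.tensorPow L l.length) L (gpow L (g0 i hS' hO e hU e₀ hW1) l.length)
            (g0 i hS' hO e hU e₀ hW1) : Γ(CohB1.tensorMod (CohB1.tensorPow L l.length) L, W))
      rw [tmulSec_res, hFl, res_tE_eq i hS' hO e hU e₀ hW1 _ (hS'.2 U hU e') ce hce,
        AmpleCompose.tmulSec_smul_smul, map_mul, mul_comm]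

/-- the predicate: `τ` is a section of `L^{⊗k}` over `q⁻¹U` reading as `a` -/
def ReadsT (k : ℕ) (a : 𝒮'.presheaf.obj (op U)) (τ : Γ(CohB1.tensorPow L k, (i ≫ p') ⁻¹ᵁ U)) : Prop :=
  ∀ (e₀ : Γ(E', U)) (W : X.Opens)
    (hW1 : W ≤ i ⁻¹ᵁ WPU p' chart' hU (asR 𝒮'.toQCAlg (j'.app U e₀))),
    ∃ c : Γ(P', WPU p' chart' hU (asR 𝒮'.toQCAlg (j'.app U e₀))),
      ReadsO p' chart' hU c a (asR 𝒮'.toQCAlg (j'.app U e₀) ^ k) ∧
      res (CohB1.tensorPow L k) (le_of_hV1 i hU e₀ hW1) τ =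
        ((i.appLE _ W hW1).hom c • gpow L (g0 i hS' hO e hU e₀ hW1) k : Γ(CohB1.tensorPow L k, W))

include hP' in
/-- **every homogeneous element of degree `k` gives a section of `L^{⊗k}`** -/
theorem exists_readsT {k : ℕ} (a : 𝒮'.presheaf.obj (op U)) (ha : a ∈ 𝒮'.deg U hU k) :
    ∃ τ : Γ(CohB1.tensorPow L k, (i ≫ p') ⁻¹ᵁ U), ReadsT i hS' hO e hU k a τ := by
  have ha' := deg_le_monoGrp hS' U hU k ha
  refine AddSubgroup.closure_induction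
    (p := fun a _ => ∃ τ : Γ(CohB1.tensorPow L k, (i ≫ p') ⁻¹ᵁ U), ReadsT i hS' hO e hU k a τ)
    (fun x hx => ?_) ?_ (fun x x' _ _ hx hx' => ?_) (fun x _ hx => ?_) ha'
  · obtain ⟨r, l, hl, rfl⟩ := hx
    subst hl
    refine ⟨(((i ≫ p').app U).hom r • tauL i hS' hO e hU l :
      Γ(CohB1.tensorPow L l.length, (i ≫ p') ⁻¹ᵁ U)), ?_⟩
    intro e₀ W hW1
    obtain ⟨cl, hrl, hFl⟩ := exists_reads_tauL i hS' hO e hU e₀ hW1 l
    refine ⟨(p'.appLE U _ (WPU_le hU _)).hom r * cl, ?_, ?_⟩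
    · have h1 := (ReadsO.base hP' (WPU_le hU (asR 𝒮'.toQCAlg (j'.app U e₀))) r).mul hrl
      rw [one_mul] at h1
      exact h1
    · rw [res_smul, hFl, map_mul, mul_smul]
      congr 1
      rw [← CommRingCat.comp_apply, Scheme.Hom.appLE_comp_appLE]
      rfl
  · refine ⟨0, fun e₀ W hW1 => ⟨0, ReadsO.zero _, ?_⟩⟩
    rw [res_zero, map_zero, zero_smul]
  · obtain ⟨τ, hτ⟩ := hx
    obtain ⟨τ', hτ'⟩ := hx'
    refine ⟨τ + τ', fun e₀ W hW1 => ?_⟩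
    obtain ⟨c, hr, hF⟩ := hτ e₀ W hW1
    obtain ⟨c', hr', hF'⟩ := hτ' e₀ W hW1
    refine ⟨c + c', hr.add hr', ?_⟩
    rw [res_add, hF, hF', map_add, add_smul]
  · obtain ⟨τ, hτ⟩ := hx
    refine ⟨-τ, fun e₀ W hW1 => ?_⟩
    obtain ⟨c, hr, hF⟩ := hτ e₀ W hW1
    refine ⟨-c, hr.neg, ?_⟩
    rw [map_neg, neg_smul, ← hF]
    exact map_neg _ τ

/-- the generating locus of the global section attached to `τ`, when `X` lies over `U` -/
theorem mem_genLocus_readsT_iff (hXU : ∀ x : X, p' (i x) ∈ U) {k : ℕ} (H : 𝒮'.presheaf.obj (op U))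
    (τ : Γ(CohB1.tensorPow L k, (i ≫ p') ⁻¹ᵁ U)) (hτ : ReadsT i hS' hO e hU k H τ) (y : X) :
    y ∈ CohB1.genLocus _ (TwistGen.ofSection (CohB1.tensorPow L k)
      (res (CohB1.tensorPow L k) (fun x _ => hXU x : (⊤ : X.Opens) ≤ (i ≫ p') ⁻¹ᵁ U) τ)) ↔
      i y ∈ WPU p' chart' hU H := by
  obtain ⟨z, hz⟩ := (RelProjQ.mem_range_emb p' chart' U hU (i y)).2 (hXU y)
  have hz' : (RelProj.emb p' chart' U hU).base z = i y := hz
  obtain ⟨e₀, he₀⟩ := exists_deg_one_not_mem hS' hU z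
  have hzW : (RelProj.emb p' chart' U hU).base z ∈ WPU p' chart' hU (asR 𝒮'.toQCAlg (j'.app U e₀)) :=
    (mem_WPU_iff hU _ z).2 he₀
  have hix : i y ∈ WPU p' chart' hU (asR 𝒮'.toQCAlg (j'.app U e₀)) := by
    rw [← hz']
    exact hzW
  have hyW : y ∈ i ⁻¹ᵁ WPU p' chart' hU (asR 𝒮'.toQCAlg (j'.app U e₀)) := hix
  obtain ⟨c, hr, hF⟩ := hτ e₀ (i ⁻¹ᵁ WPU p' chart' hU (asR 𝒮'.toQCAlg (j'.app U e₀))) le_rfl
  have hgen := isGen_gpow (isGen_g0 i hS' hO e hU e₀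
    (le_refl (i ⁻¹ᵁ WPU p' chart' hU (asR 𝒮'.toQCAlg (j'.app U e₀))))) k
  have key := genLocus_inf_eq (TwistGen.ofSection (CohB1.tensorPow L k)
      (res (CohB1.tensorPow L k) (fun x _ => hXU x : (⊤ : X.Opens) ≤ (i ≫ p') ⁻¹ᵁ U) τ))
    (i ⁻¹ᵁ WPU p' chart' hU (asR 𝒮'.toQCAlg (j'.app U e₀))) _ hgen
    ((i.appLE _ _ (le_refl (i ⁻¹ᵁ WPU p' chart' hU (asR 𝒮'.toQCAlg (j'.app U e₀))))).hom c) (by
      rw [secOf_ofSection, res_res]
      exact hF)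
  have h1 : X.basicOpen ((i.appLE _ _ (le_refl (i ⁻¹ᵁ WPU p' chart' hU (asR 𝒮'.toQCAlg (j'.app U e₀))))).hom c) =
      i ⁻¹ᵁ WPU p' chart' hU (asR 𝒮'.toQCAlg (j'.app U e₀)) ⊓ i ⁻¹ᵁ (P'.basicOpen c) := by
    unfold Scheme.Hom.appLE
    rw [CommRingCat.comp_apply, Scheme.basicOpen_res, Scheme.preimage_basicOpen]
  have h2 : y ∈ CohB1.genLocus _ (TwistGen.ofSection (CohB1.tensorPow L k)
      (res (CohB1.tensorPow L k) (fun x _ => hXU x : (⊤ : X.Opens) ≤ (i ≫ p') ⁻¹ᵁ U) τ)) ↔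
      y ∈ CohB1.genLocus _ (TwistGen.ofSection (CohB1.tensorPow L k)
        (res (CohB1.tensorPow L k) (fun x _ => hXU x : (⊤ : X.Opens) ≤ (i ≫ p') ⁻¹ᵁ U) τ)) ⊓
          i ⁻¹ᵁ WPU p' chart' hU (asR 𝒮'.toQCAlg (j'.app U e₀)) :=
    ⟨fun h => ⟨h, hyW⟩, fun h => h.1⟩
  rw [h2, key, h1, ← hz', mem_WPU_iff hU H z,
    ← hr.mem_basicOpen_iff (WPU_le_pow hU _ k) z hzW]
  constructor
  · rintro ⟨-, h3⟩
    have h4 : i y ∈ P'.basicOpen c := h3
    rw [← hz'] at h4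
    exact h4
  · intro h3
    refine ⟨hyW, ?_⟩
    show i y ∈ P'.basicOpen c
    rw [← hz']
    exact h3

include hS' hP' hO e hU in
/-- **a module `L ≅ i^*O(1)` for an immersion `i` into a projective bundle over an affine open is ample** -/
theorem isAmple_of_veryAmple_data [CompactSpace X] [IsImmersion i] (hL : PicF.IsInvertible L)
    (hXU : ∀ x : X, p' (i x) ∈ U) : CohB1.IsAmple L := by
  refine ⟨hL, inferInstance, fun x => ?_⟩
  obtain ⟨z, hz⟩ := (RelProjQ.mem_range_emb p' chart' U hU (i x)).2 (hXU x)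
  have hz' : (RelProj.emb p' chart' U hU).base z = i x := hz
  have hzc : z ∈ (RelProj.emb p' chart' U hU) ⁻¹ᵁ i.coborderRange := by
    show (RelProj.emb p' chart' U hU).base z ∈ i.coborderRange
    rw [hz']
    exact mem_coborderRange i x
  obtain ⟨d, H, hd, hH, hzH, hHle⟩ := exists_pos_basicOpen_le (𝒮'.deg U hU) _ z hzc
  have hxH : i x ∈ WPU p' chart' hU H := by
    rw [← hz']
    exact ⟨z, hzH, rfl⟩
  have hle : WPU p' chart' hU H ≤ i.coborderRange := by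
    rintro _ ⟨z', hz'H, rfl⟩
    exact hHle hz'H
  obtain ⟨n, rfl⟩ := Nat.exists_eq_succ_of_ne_zero hd.ne'
  obtain ⟨τ, hτ⟩ := exists_readsT i hS' hP' hO e hU H hH
  have hloc : CohB1.genLocus _ (TwistGen.ofSection (CohB1.tensorPow L (n + 1))
      (res (CohB1.tensorPow L (n + 1)) (fun x _ => hXU x : (⊤ : X.Opens) ≤ (i ≫ p') ⁻¹ᵁ U) τ)) =
      i ⁻¹ᵁ WPU p' chart' hU H :=
    Opens.ext (Set.ext fun y => mem_genLocus_readsT_iff i hS' hO e hU hXU H τ hτ y)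
  refine ⟨n, TwistGen.ofSection (CohB1.tensorPow L (n + 1))
      (res (CohB1.tensorPow L (n + 1)) (fun x _ => hXU x : (⊤ : X.Opens) ≤ (i ≫ p') ⁻¹ᵁ U) τ), ?_, ?_⟩
  · rw [hloc]
    exact hxH
  · rw [hloc]
    exact (affine_surj_of_isImmersion i _ (isAffineOpen_WPU p' chart' hU hd H hH) hle).1

end tpow

section rel

variable {X Y P' : Scheme.{u}} (i : X ⟶ P') {p' : P' ⟶ Y} {L : X.Modules}
  {E' : Y.Modules} [E'.IsQuasicoherent]
  {𝒮' : RelProj.QCGrAlg Y} {j' : E' ⟶ 𝒮'.toModule} (hS' : RelProj.IsGrSymAlg E' 𝒮' j')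
  {chart' : ∀ (U : Y.Opens) (hU : IsAffineOpen U), (((p' ⁻¹ᵁ U : P'.Opens) : Scheme.{u}) ≅ Proj (𝒮'.deg U hU))}
  (hP' : RelProj.IsRelProj 𝒮' p' chart')
  {O1 : P'.Modules}
  {lam : ∀ (U : Y.Opens) (hU : IsAffineOpen U),
    O1 ⟶ (Scheme.Modules.pushforward (RelProj.emb p' chart' U hU)).obj (GrTwist.twist (𝒮'.deg U hU) ((1 : ℕ) : ℤ))}
  (hO : RelProj.IsRelTwist 𝒮' p' chart' ((1 : ℕ) : ℤ) O1 lam)
  (e : L ≅ (Scheme.Modules.pullback i).obj O1)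

include hS' hP' hO e in
/-- **relatively very ample ⟹ relatively ample** -/
theorem isRelAmple_of_veryAmple_data [QuasiCompact (i ≫ p')] [IsImmersion i] (hL : PicF.IsInvertible L) :
    RelAmple.IsRelAmple (i ≫ p') L := by
  refine ⟨inferInstance, fun V => ?_⟩
  haveI : CompactSpace ((((i ≫ p') ⁻¹ᵁ V.1 : X.Opens) : Scheme.{u})) :=
    isCompact_iff_compactSpace.mp
      (QuasiCompact.isCompact_preimage (f := i ≫ p') _ V.1.isOpen V.2.isCompact)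
  have e' : L.restrict ((i ≫ p') ⁻¹ᵁ V.1).ι ≅
      (Scheme.Modules.pullback (((i ≫ p') ⁻¹ᵁ V.1).ι ≫ i)).obj O1 :=
    (Scheme.Modules.restrictFunctorIsoPullback ((i ≫ p') ⁻¹ᵁ V.1).ι).app L ≪≫
      (Scheme.Modules.pullback ((i ≫ p') ⁻¹ᵁ V.1).ι).mapIso e ≪≫
      (Scheme.Modules.pullbackComp ((i ≫ p') ⁻¹ᵁ V.1).ι i).app O1
  exact isAmple_of_veryAmple_data (((i ≫ p') ⁻¹ᵁ V.1).ι ≫ i) hS' hP' hO e' V.2
    (AmpleIso.isInvertible_restrict _ L hL) (fun x => x.2)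

end rel


end Groth.Agent.Lib.Helper28.RLPsiV
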