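import Groth.Agent.Lib.Helper28.RelProjProper
import Groth.Agent.Lib.Helper28.RelProjGen1
import Groth.Agent.Lib.Helper28.PullbackInv2
import Groth.Agent.S12485
import Groth.Agent.S5721

/-!
# Projective morphisms are proper and carry a relatively very ample sheaf
-/

set_option autoImplicit false
universe u
open CategoryTheory CategoryTheory.Limits AlgebraicGeometry TopologicalSpace Opposite
noncomputable section

namespace Groth.Agent.Lib.Helper28.ProjAmple

variable {X Y : Scheme.{u}} (f : X ⟶ Y)

/-- a projective morphism is proper -/
theorem isProper_of_isProjective (hf : RelProj.IsProjective f) : IsProper f := by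
  obtain ⟨𝒮, P, p, chart, e, hgen, hft, hP, hep⟩ := hf
  have : IsProper p := RelProjProper.isProper hgen hft hP
  rw [← hep]
  infer_instance

/-- a projective morphism carries an invertible sheaf which is relatively very ample and relatively ample -/
theorem exists_isRelVeryAmple_of_isProjective (hf : RelProj.IsProjective f) :
    ∃ L : X.Modules, PicF.IsInvertible L ∧ RelProj.IsRelVeryAmple f L ∧ RelAmple.IsRelAmple f L := by
  have hprop := isProper_of_isProjective f hf
  obtain ⟨𝒮, P, p, chart, e, hgen, hft, hP, hep⟩ := hf
  have hO := RelTwistEx.isRelTwist hP 1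
  have hO1inv := (RelProjGen1.isInvertible_and_isRelAmple hgen hft hO).1
  have hLinv := PullbackInv.isInvertible_pullback e.hom hO1inv
  have hva := Groth.Agent.S12485.result f _ hLinv 𝒮 hgen p chart hP _ _ hO e.hom hep (Iso.refl _)
  exact ⟨_, hLinv, hva, Groth.Agent.S5721.result f _ hLinv hva⟩

end Groth.Agent.Lib.Helper28.ProjAmple
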