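import Groth.Agent.Lib.Helper28.TraceC
import Groth.Prelude.Def_FinCov

set_option autoImplicit false
universe u
open CategoryTheory CategoryTheory.Limits AlgebraicGeometry Opposite TopologicalSpace
noncomputable section

namespace Groth.Agent.Lib.Helper28.RelSpecCover

open Groth.Agent.Lib.Helper28 Groth.Agent.Lib.Helper28.QCohLoc Groth.Agent.Lib.Helper17.Frame
  Groth.Agent.Lib.Helper28.TraceAlg

variable {X : Scheme.{u}} (A : RelSpec.QCAlg X)

attribute [local instance] algAt

theorem isPullback_chart (U : X.Opens) (hU : IsAffineOpen U) :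
    IsPullback (A.ι U hU) (Spec.map (A.str.app (op U))) A.π hU.fromSpec := by
  refine (IsOpenImmersion.isPullback (Spec.map (A.str.app (op U))) (A.ι U hU) hU.fromSpec A.π
    (A.ι_π U hU) ?_).flip
  rw [hU.opensRange_fromSpec, A.π_preimage U hU]

theorem prop_of_charts (P : MorphismProperty Scheme.{u}) [IsZariskiLocalAtTarget P]
    (hcov : ∀ x : X, ∃ (U : X.Opens) (hU : IsAffineOpen U), x ∈ U ∧ P (Spec.map (A.str.app (op U)))) :
    P A.π := by
  choose U hU hxU hP using hcov
  let 𝒰 : X.OpenCover := Scheme.Cover.mkOfCovers X (fun x => Spec Γ(X, U x)) (fun x => (hU x).fromSpec)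
    (fun x => by
      have hx : x ∈ (hU x).fromSpec.opensRange := by
        rw [(hU x).opensRange_fromSpec]
        exact hxU x
      obtain ⟨y, hy⟩ := hx
      exact ⟨x, y, hy⟩)
    (fun x => inferInstance)
  apply IsZariskiLocalAtTarget.of_openCover 𝒰
  intro (x : X)
  have hpb := isPullback_chart A (U x) (hU x)
  have h1 : hpb.isoPullback.hom ≫ pullback.snd A.π ((hU x).fromSpec) = Spec.map (A.str.app (op (U x))) :=
    hpb.isoPullback_hom_snd
  have h2 := hP x
  rw [← h1] at h2
  exact (MorphismProperty.cancel_left_of_respectsIso P _ _).1 h2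

section chart

variable {A} {U : X.Opens} {d : ℕ} (b : Module.Basis (Fin d) Γ(X, U) (A.presheaf.obj (op U)))

include b in
theorem finite_chart : (A.str.app (op U)).hom.Finite := by
  show Module.Finite Γ(X, U) (A.presheaf.obj (op U))
  exact Module.Finite.of_basis b

include b in
theorem flat_chart : (A.str.app (op U)).hom.Flat := by
  show Module.Flat Γ(X, U) (A.presheaf.obj (op U))
  have : Module.Free Γ(X, U) (A.presheaf.obj (op U)) := Module.Free.of_basis b
  infer_instance

include b in
theorem finitePresentation_chart : (A.str.app (op U)).hom.FinitePresentation := by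
  show Algebra.FinitePresentation Γ(X, U) (A.presheaf.obj (op U))
  have : Module.Free Γ(X, U) (A.presheaf.obj (op U)) := Module.Free.of_basis b
  have : Module.Finite Γ(X, U) (A.presheaf.obj (op U)) := Module.Finite.of_basis b
  have : Module.FinitePresentation Γ(X, U) (A.presheaf.obj (op U)) :=
    Module.finitePresentation_of_projective _ _
  infer_instance

include b in
theorem finrank_chart (y : Spec Γ(X, U)) : (Spec.map (A.str.app (op U))).finrank y = d := by
  rw [Scheme.Hom.finrank_SpecMap_eq_finrank (finite_chart b) (flat_chart b)]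
  show Module.rankAtStalk (R := Γ(X, U)) (A.presheaf.obj (op U)) y = d
  have : Module.Free Γ(X, U) (A.presheaf.obj (op U)) := Module.Free.of_basis b
  have : Nontrivial Γ(X, U) := PrimeSpectrum.nontrivial (show PrimeSpectrum Γ(X, U) from y)
  rw [Module.rankAtStalk_eq_finrank_of_free, Module.finrank_eq_card_basis b, Fintype.card_fin]
  rfl

end chart

section main

variable {d : ℕ} (hA : FlatMod.IsFinLocFreeOfRank d A.toModule)

include hA in
theorem exists_affine_basis (x : X) : ∃ (U : X.Opens) (_ : IsAffineOpen U), x ∈ U ∧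
    Nonempty (Module.Basis (Fin d) Γ(X, U) (A.presheaf.obj (op U))) := by
  obtain ⟨V, ⟨U, γ, hVU, hγ⟩, hxV⟩ := framedD_cov A d hA x
  obtain ⟨_, ⟨W, hW, rfl⟩, hxW, hWV⟩ := X.isBasis_affineOpens.exists_subset_of_mem_open hxV V.isOpen
  have hWV' : W ≤ V := hWV
  exact ⟨W, hW, hxW, ⟨frameBasis hγ (hWV'.trans hVU)⟩⟩

include hA in
/-- **the relative spectrum of an algebra locally free of rank `d` is a cover of degree `d`** -/
theorem isCover : FinCov.IsCover A.π d := by
  have hfin : IsFinite A.π := prop_of_charts A @IsFinite (fun x => by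
    obtain ⟨U, hU, hx, ⟨b⟩⟩ := exists_affine_basis A hA x
    exact ⟨U, hU, hx, (IsFinite.SpecMap_iff _).2 (finite_chart b)⟩)
  have hflat : Flat A.π := prop_of_charts A @Flat (fun x => by
    obtain ⟨U, hU, hx, ⟨b⟩⟩ := exists_affine_basis A hA x
    exact ⟨U, hU, hx, Flat.SpecMap_iff.2 (flat_chart b)⟩)
  have hfp : LocallyOfFinitePresentation A.π := prop_of_charts A @LocallyOfFinitePresentation (fun x => by
    obtain ⟨U, hU, hx, ⟨b⟩⟩ := exists_affine_basis A hA x
    exact ⟨U, hU, hx, (HasRingHomProperty.Spec_iff (P := @LocallyOfFinitePresentation)).2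
      (finitePresentation_chart b)⟩)
  refine ⟨⟨hfin, hflat, hfp⟩, fun y => ?_⟩
  obtain ⟨U, hU, hy, ⟨b⟩⟩ := exists_affine_basis A hA y
  have hy' : y ∈ hU.fromSpec.opensRange := by
    rw [hU.opensRange_fromSpec]
    exact hy
  obtain ⟨y', rfl⟩ := hy'
  have h1 := Scheme.Hom.finrank_of_isPullback _ _ _ _ (isPullback_chart A U hU) y'
  rw [← h1, finrank_chart b]

end main

end Groth.Agent.Lib.Helper28.RelSpecCover
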