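import Groth.Agent.Lib.Helper28.SymAlgFT
import Groth.Agent.Lib.Helper17.Frame

set_option autoImplicit false
universe u
open CategoryTheory CategoryTheory.Limits AlgebraicGeometry Opposite TopologicalSpace
noncomputable section

namespace Groth.Agent.Lib.Helper28.SymAlg

open Groth.Agent.Lib.Helper28 Groth.Agent.Lib.Helper28.QCohLoc Groth.Agent.Lib.Helper28.TraceAlg
  Groth.Agent.Lib.Helper17.Frame

attribute [local instance] algAt

variable {S : Scheme.{u}}

section frameBasis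

variable {E : S.Modules} {U : S.Opens} {n : ℕ} {γ : Fin n → Γ(E, U)} (hγ : IsFrame E U γ)

/-- the linear map `c ↦ Σ c_j γ_j` over `V ≤ U` -/
def frameLinMod (γ : Fin n → Γ(E, U)) {V : S.Opens} (hV : V ≤ U) : (Fin n → Γ(S, V)) →ₗ[Γ(S, V)] Γ(E, V) where
  toFun c := ∑ j, c j • res E hV (γ j)
  map_add' c c' := by
    simp only [Pi.add_apply, add_smul, Finset.sum_add_distrib]
  map_smul' a c := by
    simp only [Pi.smul_apply, smul_eq_mul, mul_smul, RingHom.id_apply, Finset.smul_sum]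

/-- the basis of the sections over `V ≤ U` given by a frame -/
def frameBasisMod {V : S.Opens} (hV : V ≤ U) : Module.Basis (Fin n) Γ(S, V) Γ(E, V) :=
  Module.Basis.ofEquivFun (LinearEquiv.ofBijective (frameLinMod γ hV) (hγ V hV)).symm

end frameBasis

theorem exists_affine_basisMod {E : S.Modules} (hlf : FlatMod.IsFinLocFree E) (x : S) :
    ∃ (U : S.Opens) (_ : IsAffineOpen U) (n : ℕ), x ∈ U ∧ Nonempty (Module.Basis (Fin n) Γ(S, U) Γ(E, U)) := by
  obtain ⟨U, n, hxU, ⟨e⟩⟩ := hlf x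
  obtain ⟨γ, hγ⟩ := exists_isFrame_of_iso E U n e
  obtain ⟨_, ⟨W, hW, rfl⟩, hxW, hWU⟩ := S.isBasis_affineOpens.exists_subset_of_mem_open hxU U.isOpen
  have hWU' : W ≤ U := hWU
  exact ⟨W, hW, n, hxW, ⟨frameBasisMod hγ hWU'⟩⟩

/-- **the vector bundle of a finite locally free module is smooth** -/
theorem smooth_π {E : S.Modules} (hE : Coh.IsQCoh E) (hlf : FlatMod.IsFinLocFree E) {A : RelSpec.QCAlg S}
    {j : E ⟶ A.toModule} (hA : RelSpec.IsSymAlg E A j) : Smooth A.π := by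
  have hq : E.IsQuasicoherent := hE
  refine RelSpecCover.prop_of_charts A @Smooth (fun x => ?_)
  obtain ⟨U, hU, n, hxU, ⟨b⟩⟩ := exists_affine_basisMod hlf x
  refine ⟨U, hU, hxU, (HasRingHomProperty.Spec_iff (P := @Smooth)).2 ?_⟩
  show Algebra.Smooth Γ(S, U) (A.presheaf.obj (op U))
  let e1 : SymmetricAlgebra Γ(S, U) Γ(E, U) ≃ₐ[Γ(S, U)] (A.presheaf.obj (op U)) :=
    AlgEquiv.ofBijective (liftU A j U) (liftU_bijective hA U hU)
  let e2 := SymmetricAlgebra.equivMvPolynomial b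
  have : Algebra.Smooth Γ(S, U) (MvPolynomial (Fin n) Γ(S, U)) := ⟨inferInstance, inferInstance⟩
  exact Algebra.Smooth.of_equiv (e2.symm.trans e1)

end Groth.Agent.Lib.Helper28.SymAlg
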