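import Groth.Agent.Lib.Helper28.ProjUPGeom

set_option autoImplicit false
universe u
open CategoryTheory CategoryTheory.Limits AlgebraicGeometry Opposite TopologicalSpace HomogeneousLocalization
noncomputable section

namespace Groth.Agent.Lib.Helper28.ProjUPGeom

open Groth.Agent.Lib.Helper28 Groth.Agent.Lib.Helper28.QCohLoc Groth.Agent.Lib.Helper28.GenLocus
  Groth.Agent.Lib.Helper28.ProjUPAlg Groth.Agent.Lib.Helper28.ProjUPChart

variable {X : Scheme.{u}}

theorem germ_smul_L (L : X.Modules) (x : X) (U : X.Opens) (hx : x ∈ U) (r : Γ(X, U)) (s : Γ(L, U)) :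
    L.presheaf.germ U x hx (r • s : Γ(L, U)) = X.presheaf.germ U x hx r • L.presheaf.germ U x hx s :=
  PresheafOfModules.germ_smul (R := X.presheaf) L.val x U hx r s

theorem germ_res_L (L : X.Modules) (x : X) {U V : X.Opens} (h : V ≤ U) (hx : x ∈ V) (s : Γ(L, U)) :
    L.presheaf.germ V x hx (res L h s) = L.presheaf.germ U x (h hx) s :=
  TopCat.Presheaf.germ_res_apply L.presheaf (homOfLE h) x hx s

/-- if `g` generates `L` near `x`, then `a ↦ a • g_x` is injective on the stalk -/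
theorem stalk_smul_gen_injective {L : X.Modules} {W : X.Opens} {g : Γ(L, W)} (hg : IsGen L W g) (x : X)
    (hx : x ∈ W) (a : X.presheaf.stalk x) (ha : a • L.presheaf.germ W x hx g = 0) : a = 0 := by
  obtain ⟨U, hxU, a', rfl⟩ := TopCat.Presheaf.exists_germ_eq X.presheaf a
  -- shrink to `U ⊓ W`
  have hxUW : x ∈ U ⊓ W := ⟨hxU, hx⟩
  have e1 : X.presheaf.germ U x hxU a' = X.presheaf.germ (U ⊓ W) x hxUW (resO inf_le_left a') :=
    (TopCat.Presheaf.germ_res_apply X.presheaf (homOfLE inf_le_left) x hxUW a').symm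
  have e2 : L.presheaf.germ W x hx g = L.presheaf.germ (U ⊓ W) x hxUW (res L inf_le_right g) :=
    (germ_res_L L x inf_le_right hxUW g).symm
  rw [e1, e2, ← germ_smul_L] at ha
  have h0 : L.presheaf.germ (U ⊓ W) x hxUW (resO (inf_le_left : U ⊓ W ≤ U) a' •
        res L (inf_le_right : U ⊓ W ≤ W) g : Γ(L, U ⊓ W)) =
      L.presheaf.germ (U ⊓ W) x hxUW (0 : Γ(L, U ⊓ W)) := by
    rw [ha]; exact (map_zero _).symm
  obtain ⟨V, hxV, iU, iV, hres⟩ := TopCat.Presheaf.germ_eq L.presheaf x hxUW hxUW _ _ h0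
  have hVle : V ≤ U ⊓ W := iU.le
  have h1 : (resO hVle (resO inf_le_left a') • res L (hVle.trans inf_le_right) g : Γ(L, V)) = 0 := by
    have h2 : res L hVle (resO (inf_le_left : U ⊓ W ≤ U) a' •
        res L (inf_le_right : U ⊓ W ≤ W) g : Γ(L, U ⊓ W)) = 0 := by
      have : res L hVle (0 : Γ(L, U ⊓ W)) = 0 := map_zero _
      rw [← this]
      exact hres
    rw [res_smul, res_res] at h2
    exact h2
  have h3 : resO hVle (resO inf_le_left a') = 0 := by
    apply (hg V (hVle.trans inf_le_right)).1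
    show (resO hVle (resO inf_le_left a') • res L (hVle.trans inf_le_right) g : Γ(L, V)) =
      ((0 : Γ(X, V)) • res L (hVle.trans inf_le_right) g : Γ(L, V))
    rw [h1, zero_smul]
  rw [e1, ← TopCat.Presheaf.germ_res_apply X.presheaf (homOfLE hVle) x hxV (resO inf_le_left a')]
  show X.presheaf.germ V x hxV (resO hVle (resO inf_le_left a')) = 0
  rw [h3, map_zero]

variable {A : Type u} [CommRing A] {M : Type u} [AddCommGroup M] [Module A M]
  {L : X.Modules} (v : M →+ ProjUP.Γm L)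

/-- `UU m ⊓ W` is the basic open of the coefficient of `v m` w.r.t. a generator on `W` -/
theorem UU_inf_eq {W : X.Opens} {g : Γ(L, W)} (hg : IsGen L W g) (m : M) :
    UU v m ⊓ W = X.basicOpen (cf v hg m) := by
  unfold UU
  refine genLocus_inf_eq _ W g hg _ ?_
  rw [secOf_ofSection]
  exact (cf_spec v hg m).symm

theorem germ_v_eq {W : X.Opens} {g : Γ(L, W)} (hg : IsGen L W g) (x : X) (hx : x ∈ W) (m : M) :
    (L.presheaf.germ ⊤ x trivial).hom (v m) =
      X.presheaf.germ W x hx (cf v hg m) • L.presheaf.germ W x hx g := by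
  rw [← germ_smul_L, cf_spec, germ_res_L]
  rfl

/-- the opens `UU m` cover `X` when the `v m` generate the invertible module `L` -/
theorem exists_mem_UU (hL : PicF.IsInvertible L) (hgen : ProjUP.GeneratedBy L v) (x : X) :
    ∃ m, x ∈ UU v m := by
  obtain ⟨W, g, hxW, hg⟩ := exists_isGen L hL x
  by_contra hcon
  push Not at hcon
  have hnu : ∀ m, X.presheaf.germ W x hxW (cf v hg m) ∈ IsLocalRing.maximalIdeal (X.presheaf.stalk x) := by
    intro m
    rw [IsLocalRing.mem_maximalIdeal, mem_nonunits_iff]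
    intro hu
    apply hcon m
    have : x ∈ X.basicOpen (cf v hg m) := (Scheme.mem_basicOpen X _ x hxW).2 hu
    rw [← UU_inf_eq v hg m] at this
    exact this.1
  set gx := L.presheaf.germ W x hxW g with hgx
  have hall : ∀ y ∈ Submodule.span (X.presheaf.stalk x)
      (Set.range fun m => (L.presheaf.germ ⊤ x trivial).hom (v m)),
      ∃ b ∈ IsLocalRing.maximalIdeal (X.presheaf.stalk x), y = b • gx := by
    intro y hy
    induction hy using Submodule.span_induction with
    | mem y hy =>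
      obtain ⟨m, rfl⟩ := hy
      exact ⟨_, hnu m, germ_v_eq v hg x hxW m⟩
    | zero => exact ⟨0, Ideal.zero_mem _, (zero_smul _ _).symm⟩
    | add y z _ _ hy hz =>
      obtain ⟨b, hb, rfl⟩ := hy
      obtain ⟨c, hc, rfl⟩ := hz
      exact ⟨b + c, Ideal.add_mem _ hb hc, (add_smul _ _ _).symm⟩
    | smul a y _ hy =>
      obtain ⟨b, hb, rfl⟩ := hy
      exact ⟨a * b, Ideal.mul_mem_left _ _ hb, (mul_smul _ _ _).symm⟩
  obtain ⟨b, hb, hbe⟩ := hall gx (by rw [hgen x]; exact Submodule.mem_top)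
  have h0 : (1 - b) • gx = 0 := by
    rw [sub_smul, one_smul, ← hbe, sub_self]
  have h1 := stalk_smul_gen_injective hg x hxW _ h0
  have : (1 : X.presheaf.stalk x) ∈ IsLocalRing.maximalIdeal (X.presheaf.stalk x) := by
    have : (1 : X.presheaf.stalk x) = b := by
      rw [sub_eq_zero] at h1; exact h1
    rw [this]; exact hb
  exact (Ideal.ne_top_iff_one _).1 (IsLocalRing.maximalIdeal.isMaximal _).ne_top this


section glue

variable {S : Type u} [CommRing S] [Algebra A S] (𝒮 : ℕ → Submodule A S)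
  [GradedAlgebra 𝒮] (ι : M →ₗ[A] S) (hι : ∀ m : M, ι m ∈ 𝒮 1)
  (hsym : IsSymmetricAlgebra ι)
  (q : X ⟶ Spec (CommRingCat.of A))
  (hv : ∀ (a : A) (m : M), v (a • m) = ProjUP.toGlobal q a • v m)

theorem exists_glued (hL : PicF.IsInvertible L) (hgen : ProjUP.GeneratedBy L v) :
    ∃ r : X ⟶ Proj 𝒮, ∀ m, (UU v m).ι ≫ r = chart 𝒮 ι hι hsym q v hv m := by
  have hc : ∀ x : X, ∃ m, x ∈ Set.range ((UU v m).ι) := by
    intro x
    obtain ⟨m, hm⟩ := exists_mem_UU v hL hgen x
    exact ⟨m, ⟨⟨x, hm⟩, rfl⟩⟩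
  obtain ⟨r, hr, -⟩ := GlueLocal.existsUnique_glue (fun m => ((UU v m : X.Opens) : Scheme.{u}))
    (fun m => (UU v m).ι) hc (fun m => chart 𝒮 ι hι hsym q v hv m) (by
      intro t s x y hxy
      refine ⟨((UU v t ⊓ UU v s : X.Opens) : Scheme.{u}), X.homOfLE inf_le_left, X.homOfLE inf_le_right,
        ?_, ?_, ?_, chart_overlap 𝒮 ι hι hsym q v hv t s⟩
      · rw [X.homOfLE_ι, X.homOfLE_ι]
      · rw [X.homOfLE_ι]; infer_instance
      · rw [X.homOfLE_ι]
        have hx2 : x.1 ∈ UU v s := by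
          have : x.1 = y.1 := hxy
          rw [this]; exact y.2
        exact ⟨⟨x.1, x.2, hx2⟩, rfl⟩)
  exact ⟨r, hr⟩

theorem awayLift_fromZero {T : Type u} [CommRing T] (F : S →+* T) {t : S} (hu : IsUnit (F t)) (a : 𝒮 0) :
    Segre1.awayLift 𝒮 F hu (fromZeroRingHom 𝒮 _ a) = F a := by
  have h1 : algebraMap (Away 𝒮 t) (Localization.Away t) (fromZeroRingHom 𝒮 _ a) =
      algebraMap S (Localization.Away t) a := by
    rw [HomogeneousLocalization.algebraMap_apply]
    show Localization.mk (a : S) 1 = _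
    exact Localization.mk_one_eq_algebraMap _
  change (IsLocalization.Away.lift (S := Localization.Away t) t hu)
    (algebraMap (Away 𝒮 t) (Localization.Away t) (fromZeroRingHom 𝒮 _ a)) = F a
  rw [h1, IsLocalization.Away.lift_eq]

theorem toSpecΓ_ρ (W : X.Opens) :
    W.toSpecΓ ≫ Spec.map (CommRingCat.ofHom (ρ q W)) = W.ι ≫ q := by
  have e : CommRingCat.ofHom (ρ q W) =
      (Scheme.ΓSpecIso (CommRingCat.of A)).inv ≫ q.appTop ≫ X.presheaf.map (homOfLE (le_top : W ≤ ⊤)).op := by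
    ext a
    rfl
  rw [e, Spec.map_comp, Spec.map_comp, Category.assoc, Scheme.Opens.toSpecΓ_SpecMap_presheaf_map_top_assoc,
    ← Scheme.toSpecΓ_naturality_assoc, toSpecΓ_SpecMap_ΓSpecIso_inv, Category.comp_id]

theorem chart_str (m : M) :
    chart 𝒮 ι hι hsym q v hv m ≫ Segre2.str 𝒮 = (UU v m).ι ≫ q := by
  unfold chart opensChart Segre1.chartMap
  rw [Category.assoc, Category.assoc, Segre2.awayι_str, ← Spec.map_comp, ← CommRingCat.ofHom_comp]
  have e : (Segre1.awayLift 𝒮 (FF ι hsym q v hv m) (isUnit_FF_self ι hsym q v hv m)).comp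
      (algebraMap A (Away 𝒮 (ι m))) = ρ q (UU v m) := by
    ext a
    show Segre1.awayLift 𝒮 (FF ι hsym q v hv m) (isUnit_FF_self ι hsym q v hv m)
      (algebraMap A (Away 𝒮 (ι m)) a) = _
    rw [Segre2.algebraMap_away, awayLift_fromZero]
    exact ev_algebraMap ι hsym q v hv (isGen_γ v m) a
  rw [e]
  exact toSpecΓ_ρ q _

end glue

end Groth.Agent.Lib.Helper28.ProjUPGeom
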