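import Groth.Agent.Lib.Helper28.TwistGenDMul
import Groth.Agent.Lib.Helper28.TwistAmple
import Groth.Agent.Lib.Helper28.AmpleSep
import Groth.Agent.Lib.Helper28.AmpleUnit
import Groth.Agent.Lib.Helper28.TensorPowGen
import Groth.Agent.Lib.Helper28.ProjUPGeom2

set_option autoImplicit false
universe u
open CategoryTheory CategoryTheory.Limits AlgebraicGeometry Opposite TopologicalSpace HomogeneousLocalization
noncomputable section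

namespace Groth.Agent.Lib.Helper28.TwistGenD

open Groth.Agent.Lib.Helper28 Groth.Agent.Lib.Helper28.QCohLoc Groth.Agent.Lib.Helper28.GrTildeQC
  Groth.Agent.Lib.Helper28.TwistMul Groth.Agent.Lib.Helper28.GenLocus Groth.Agent.Lib.Helper28.TwistGen

variable {R A : Type u} [CommRing R] [CommRing A] [Algebra R A] (𝒜 : ℕ → Submodule R A) [GradedAlgebra 𝒜]

/-- the germs of a generator span the stalks -/
theorem span_germ_eq_top_of_isGen {X : Scheme.{u}} {L : X.Modules} {W : X.Opens} {γ : Γ(L, W)}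
    (hγ : IsGen L W γ) (x : X) (hx : x ∈ W) :
    Submodule.span (X.presheaf.stalk x) {L.presheaf.germ W x hx γ} = ⊤ := by
  rw [eq_top_iff]
  rintro μ -
  obtain ⟨U, hxU, t, rfl⟩ := TopCat.Presheaf.exists_germ_eq L.presheaf μ
  have hxUW : x ∈ U ⊓ W := ⟨hxU, hx⟩
  have e1 : L.presheaf.germ U x hxU t = L.presheaf.germ (U ⊓ W) x hxUW (res L inf_le_left t) :=
    (ProjUPGeom.germ_res_L L x inf_le_left hxUW t).symm
  have e2 := hγ.coef_smul (inf_le_right : U ⊓ W ≤ W) (res L inf_le_left t)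
  rw [e1, ← e2, ProjUPGeom.germ_smul_L, ProjUPGeom.germ_res_L]
  exact Submodule.smul_mem _ _ (Submodule.subset_span rfl)

section gen

variable {g : A} {N : ℕ} (hg : g ∈ 𝒜 N)

include hg in
/-- a generator of `O(m)` on `D₊(g)` for `m = n N`, with its values -/
theorem exists_generator (hN : 0 < N) (m n : ℤ) (hm : m = n * N) :
    ∃ γ : Γ(Twist.twist 𝒜 m, Proj.basicOpen 𝒜 g),
      (∀ x : Proj.basicOpen 𝒜 g, TwistQC.val 𝒜 γ x =
        Localization.mk (g ^ n.toNat) ⟨g ^ (-n).toNat, GrSectMod.pow_nin 𝒜 _ x⟩) ∧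
      ∀ (h : A) (e : ℕ), h ∈ 𝒜 e →
        Function.Bijective (fun c : Γ(Proj 𝒜, Proj.basicOpen 𝒜 (g * h)) =>
          (c • res (Twist.twist 𝒜 m) (basicOpen_mul_le 𝒜 g h) γ :
            Γ(Twist.twist 𝒜 m, Proj.basicOpen 𝒜 (g * h)))) := by
  subst hm
  exact ⟨gen 𝒜 hg n, fun x => val_gen 𝒜 hg n x, fun h e hh => smul_genW_bijective 𝒜 hg hN hh n⟩

/-- `g / 1` generates `O(N)` on `D₊(g)`, chartwise -/
theorem smul_res_gsec_bijective (hN : 0 < N) {h : A} {e : ℕ} (hh : h ∈ 𝒜 e) :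
    Function.Bijective (fun c : Γ(Proj 𝒜, Proj.basicOpen 𝒜 (g * h)) =>
      (c • res (Twist.twist 𝒜 (N : ℤ)) (le_top : Proj.basicOpen 𝒜 (g * h) ≤ ⊤) (gsec 𝒜 g hg) :
        Γ(Twist.twist 𝒜 (N : ℤ), Proj.basicOpen 𝒜 (g * h)))) := by
  obtain ⟨γ, hval, hbij⟩ := exists_generator 𝒜 hg hN (N : ℤ) 1 (one_mul _).symm
  have hγ : γ = res (Twist.twist 𝒜 (N : ℤ)) (le_top : Proj.basicOpen 𝒜 g ≤ ⊤) (gsec 𝒜 g hg) := by
    apply TwistQC.ext_val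
    intro x
    rw [hval x, TwistQC.val_res, val_gsec, Localization.mk_eq_mk_iff, Localization.r_iff_exists]
    refine ⟨1, ?_⟩
    simp
  have := hbij h e hh
  rw [hγ] at this
  simp only [res_res] at this
  exact this

theorem isIso_restrict_ofSection (hN : 0 < N) :
    IsIso ((Scheme.Modules.restrictFunctor (Proj.basicOpen 𝒜 g).ι).map
      (ofSection (Twist.twist 𝒜 (N : ℤ)) (gsec 𝒜 g hg))) := by
  refine TwistAmple.isIso_restrict_of_bijective_on_basis _ (Proj.basicOpen 𝒜 g)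
    (fun W => ∃ (h : A) (e : ℕ), h ∈ 𝒜 e ∧ W = Proj.basicOpen 𝒜 (g * h)) ?_ ?_
  · intro V x hxV hVU
    obtain ⟨e, h, he, hh, hhx, hhV⟩ := GrSectComap.exists_pos_basicOpen 𝒜 V x hxV
    refine ⟨Proj.basicOpen 𝒜 (g * h), ⟨h, e, hh, rfl⟩, ?_, ?_⟩
    · rw [Proj.basicOpen_mul]
      exact ⟨hVU hxV, (Proj.mem_basicOpen 𝒜 h x).2 hhx⟩
    · intro y hy
      rw [Proj.basicOpen_mul] at hy
      exact hhV y ((Proj.mem_basicOpen 𝒜 h y).1 hy.2)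
  · rintro W hW ⟨h, e, hh, rfl⟩
    have hfun : ((ofSection (Twist.twist 𝒜 (N : ℤ)) (gsec 𝒜 g hg)).app (Proj.basicOpen 𝒜 (g * h)) :
        Γ(Coh.structureModule (Proj 𝒜), Proj.basicOpen 𝒜 (g * h)) → _) =
        (fun c : Γ(Proj 𝒜, Proj.basicOpen 𝒜 (g * h)) =>
          (c • res (Twist.twist 𝒜 (N : ℤ)) (le_top : Proj.basicOpen 𝒜 (g * h) ≤ ⊤) (gsec 𝒜 g hg) :
            Γ(Twist.twist 𝒜 (N : ℤ), Proj.basicOpen 𝒜 (g * h)))) := by
      funext c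
      exact ofSection_app _ _ _ c
    rw [hfun]
    exact smul_res_gsec_bijective 𝒜 hg hN hh

theorem isGen_gsecD (hN : 0 < N) :
    IsGen (Twist.twist 𝒜 (N : ℤ)) (Proj.basicOpen 𝒜 g)
      (res (Twist.twist 𝒜 (N : ℤ)) le_top (gsec 𝒜 g hg)) := by
  have h1 := isGen_genLocus (ofSection (Twist.twist 𝒜 (N : ℤ)) (gsec 𝒜 g hg))
  have hle : Proj.basicOpen 𝒜 g ≤ CohB1.genLocus _ (ofSection (Twist.twist 𝒜 (N : ℤ)) (gsec 𝒜 g hg)) :=
    le_sSup (isIso_restrict_ofSection 𝒜 hg hN)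
  have h2 := h1.res hle
  rw [res_res, secOf_ofSection] at h2
  exact h2

/-- where `g/1 : O ⟶ O(N)` is an isomorphism, `g` does not vanish -/
theorem le_basicOpen_of_isIso_restrictD
    (hcov : ∀ x : Proj 𝒜, ∃ g' : A, g' ∈ 𝒜 N ∧ x ∈ Proj.basicOpen 𝒜 g') (U : (Proj 𝒜).Opens)
    [IsIso ((Scheme.Modules.restrictFunctor U.ι).map (ofSection (Twist.twist 𝒜 (N : ℤ)) (gsec 𝒜 g hg)))] :
    U ≤ Proj.basicOpen 𝒜 g := by
  intro x hxU
  obtain ⟨g', hg', hxg'⟩ := hcov x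
  obtain ⟨e, h, he, hh, hhx, hhU⟩ := GrSectComap.exists_pos_basicOpen 𝒜 U x hxU
  have hxW : x ∈ Proj.basicOpen 𝒜 (g' * h) := by
    rw [Proj.basicOpen_mul]
    exact ⟨hxg', (Proj.mem_basicOpen 𝒜 h x).2 hhx⟩
  have hWU : Proj.basicOpen 𝒜 (g' * h) ≤ U := by
    intro y hy
    rw [Proj.basicOpen_mul] at hy
    exact hhU y ((Proj.mem_basicOpen 𝒜 h y).1 hy.2)
  obtain ⟨c0, hc⟩ := (TwistAmple.app_bijective_of_isIso_restrict
    (ofSection (Twist.twist 𝒜 (N : ℤ)) (gsec 𝒜 g hg)) U _ hWU).2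
    (res (Twist.twist 𝒜 (N : ℤ)) (le_top : Proj.basicOpen 𝒜 (g' * h) ≤ ⊤) (gsec 𝒜 g' hg'))
  let c : Γ(Proj 𝒜, Proj.basicOpen 𝒜 (g' * h)) := c0
  have hc' : (c • res (Twist.twist 𝒜 (N : ℤ)) (le_top : Proj.basicOpen 𝒜 (g' * h) ≤ ⊤) (gsec 𝒜 g hg) :
      Γ(Twist.twist 𝒜 (N : ℤ), Proj.basicOpen 𝒜 (g' * h))) =
      res (Twist.twist 𝒜 (N : ℤ)) (le_top : Proj.basicOpen 𝒜 (g' * h) ≤ ⊤) (gsec 𝒜 g' hg') :=
    (ofSection_app _ _ _ c).symm.trans hc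
  have hv := congrArg (fun t => TwistQC.val 𝒜 t ⟨x, hxW⟩) hc'
  simp only at hv
  rw [TwistQC.val_smul] at hv
  have hv2 : TwistQC.val 𝒜 (res (Twist.twist 𝒜 (N : ℤ)) (le_top : Proj.basicOpen 𝒜 (g' * h) ≤ ⊤)
      (gsec 𝒜 g hg)) ⟨x, hxW⟩ = Localization.mk g 1 := rfl
  have hv3 : TwistQC.val 𝒜 (res (Twist.twist 𝒜 (N : ℤ)) (le_top : Proj.basicOpen 𝒜 (g' * h) ≤ ⊤)
      (gsec 𝒜 g' hg')) ⟨x, hxW⟩ = Localization.mk g' 1 := rfl
  rw [hv2, hv3] at hv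
  rw [Proj.mem_basicOpen]
  intro hgx
  rw [Proj.mem_basicOpen] at hxg'
  apply hxg'
  have hmem : (Localization.mk g 1 : Twist.Loc 𝒜 x) ∈
      IsLocalRing.maximalIdeal (Twist.Loc 𝒜 x) := by
    rw [Localization.mk_one_eq_algebraMap]
    exact (IsLocalization.AtPrime.to_map_mem_maximal_iff (Twist.Loc 𝒜 x)
      (show ProjectiveSpectrum 𝒜 from x).asHomogeneousIdeal.toIdeal g).2 hgx
  have hmem2 := Ideal.mul_mem_left _ ((GrTildeQC.valO 𝒜 c ⟨x, hxW⟩).val) hmem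
  rw [hv, Localization.mk_one_eq_algebraMap, IsLocalization.AtPrime.to_map_mem_maximal_iff (Twist.Loc 𝒜 x)
    (show ProjectiveSpectrum 𝒜 from x).asHomogeneousIdeal.toIdeal] at hmem2
  exact hmem2

theorem genLocus_ofSection_gsec (hN : 0 < N)
    (hcov : ∀ x : Proj 𝒜, ∃ g' : A, g' ∈ 𝒜 N ∧ x ∈ Proj.basicOpen 𝒜 g') :
    CohB1.genLocus _ (ofSection (Twist.twist 𝒜 (N : ℤ)) (gsec 𝒜 g hg)) = Proj.basicOpen 𝒜 g := by
  apply le_antisymm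
  · refine sSup_le ?_
    intro U hU
    have : IsIso ((Scheme.Modules.restrictFunctor U.ι).map
      (ofSection (Twist.twist 𝒜 (N : ℤ)) (gsec 𝒜 g hg))) := hU
    exact le_basicOpen_of_isIso_restrictD 𝒜 hg hcov U
  · exact le_sSup (isIso_restrict_ofSection 𝒜 hg hN)

end gen

section main

theorem isAmple_twist_of_cover (N : ℕ) (hN : 0 < N) [CompactSpace (Proj 𝒜)]
    (hcov : ∀ x : Proj 𝒜, ∃ g : A, g ∈ 𝒜 N ∧ x ∈ Proj.basicOpen 𝒜 g) :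
    CohB1.IsAmple (Twist.twist 𝒜 (N : ℤ)) := by
  refine ⟨?_, inferInstance, ?_⟩
  · refine GenLocus.isInvertible_of_isGen _ fun x => ?_
    obtain ⟨g, hg, hx⟩ := hcov x
    exact ⟨Proj.basicOpen 𝒜 g, _, hx, isGen_gsecD 𝒜 hg hN⟩
  · intro x
    obtain ⟨g, hg, hx⟩ := hcov x
    obtain ⟨e⟩ := InvQC.nonempty_unit_tensor_iso (Twist.twist 𝒜 (N : ℤ))
    refine ⟨0, ofSection _ (gsec 𝒜 g hg) ≫ e.inv, ?_⟩
    have hloc : CohB1.genLocus _ (ofSection (Twist.twist 𝒜 (N : ℤ)) (gsec 𝒜 g hg) ≫ e.inv) =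
        Proj.basicOpen 𝒜 g := by
      have h1 := AmpleUnit.genLocus_comp_iso (ofSection (Twist.twist 𝒜 (N : ℤ)) (gsec 𝒜 g hg)) e.symm
      exact h1.trans (genLocus_ofSection_gsec 𝒜 hg hN hcov)
    show x ∈ CohB1.genLocus (CohB1.tensorMod (Coh.structureModule (Proj 𝒜)) (Twist.twist 𝒜 (N : ℤ)))
        (ofSection (Twist.twist 𝒜 (N : ℤ)) (gsec 𝒜 g hg) ≫ e.inv) ∧
      IsAffineOpen (CohB1.genLocus (CohB1.tensorMod (Coh.structureModule (Proj 𝒜)) (Twist.twist 𝒜 (N : ℤ)))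
        (ofSection (Twist.twist 𝒜 (N : ℤ)) (gsec 𝒜 g hg) ≫ e.inv))
    rw [hloc]
    exact ⟨hx, Proj.isAffineOpen_basicOpen 𝒜 g hg hN⟩

theorem generatedBy_twist (N : ℕ) (hN : 0 < N)
    (hcov : ∀ x : Proj 𝒜, ∃ g : A, g ∈ 𝒜 N ∧ x ∈ Proj.basicOpen 𝒜 g) :
    ProjUP.GeneratedBy (Twist.twist 𝒜 (N : ℤ))
      (fun b : 𝒜 N => (Twist.globalOf 𝒜 b : ProjUP.Γm (Twist.twist 𝒜 (N : ℤ)))) := by
  intro x
  obtain ⟨g, hg, hx⟩ := hcov x
  have h1 := span_germ_eq_top_of_isGen (isGen_gsecD 𝒜 hg hN) x hx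
  rw [eq_top_iff, ← h1]
  refine Submodule.span_le.2 ?_
  rintro _ rfl
  refine Submodule.subset_span ⟨⟨g, hg⟩, ?_⟩
  exact (ProjUPGeom.germ_res_L _ x le_top hx (gsec 𝒜 g hg)).symm

variable {s : ℕ} (fs : Fin s → A) (deg : Fin s → ℕ) (hdeg : ∀ i, 0 < deg i) (hfs : ∀ i, fs i ∈ 𝒜 (deg i))
  (hgen : Algebra.adjoin R (Set.range fs) = ⊤)

include hdeg hfs hgen in
theorem compactSpace_proj_of_adjoin : CompactSpace (Proj 𝒜) := by
  rw [← isCompact_univ_iff]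
  have hU : (Set.univ : Set (Proj 𝒜)) =
      ⋃ i : Fin s, ((Proj.basicOpen 𝒜 (fs i) : (Proj 𝒜).Opens) : Set (Proj 𝒜)) := by
    ext x
    simp only [Set.mem_univ, Set.mem_iUnion, SetLike.mem_coe, true_iff]
    exact cover_of_adjoin_gen 𝒜 fs deg hfs hgen x
  rw [hU]
  exact isCompact_iUnion fun i => (Proj.isAffineOpen_basicOpen 𝒜 (fs i) (hfs i) (hdeg i)).isCompact

include hdeg hfs hgen in
theorem cover_mul_lcm (a : ℕ) (ha : 0 < a) (x : Proj 𝒜) :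
    ∃ g : A, g ∈ 𝒜 (a * Finset.univ.lcm deg) ∧ x ∈ Proj.basicOpen 𝒜 g := by
  obtain ⟨g, hg, hx⟩ := cover_lcm 𝒜 fs deg hdeg hfs hgen x
  refine ⟨g ^ a, ?_, ?_⟩
  · have := SetLike.pow_mem_graded a hg
    rwa [smul_eq_mul] at this
  · rw [Proj.basicOpen_pow 𝒜 _ _ ha]
    exact hx

end main

end Groth.Agent.Lib.Helper28.TwistGenD
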