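import Groth.Agent.Lib.Helper28.SecPow
import Groth.Prelude.Def_SecTwist

/-!
# Compatibility of the prelude's `SecTwist` operations with the section calculus of `Lib/Helper28`
-/

set_option autoImplicit false
universe u
open CategoryTheory CategoryTheory.Limits AlgebraicGeometry Opposite TopologicalSpace
noncomputable section

namespace Groth.Agent.Lib.Helper28.GenLocus

open Groth.Agent.Lib.Helper28 Groth.Agent.Lib.Helper28.QCohLoc Groth.Agent.Lib.Helper28.TensorGen

variable {X : Scheme.{u}} (M N : X.Modules)

theorem sectwist_tmul_eq (U : X.Opens) (m : Γ(M, U)) (n : Γ(N, U)) :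
    SecTwist.tmul M N U m n = tmulSec M N m n := rfl

theorem sectwist_val_top {M : X.Modules} (s : Coh.structureModule X ⟶ M) : SecTwist.val s ⊤ = secOf s := rfl

theorem sectwist_val {M : X.Modules} (s : Coh.structureModule X ⟶ M) (U : X.Opens) :
    SecTwist.val s U = res M (le_top : U ≤ ⊤) (secOf s) :=
  app_oneSec s U

theorem tmulHom_eq {M N : X.Modules} (f : Coh.structureModule X ⟶ M) (g : Coh.structureModule X ⟶ N) :
    SecTwist.tmulHom f g = smulSec f g := by
  rw [← ofSection_secOf (SecTwist.tmulHom f g)]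
  unfold smulSec
  congr 1
  exact SecTwist.val_tmulHom f g ⊤

theorem sectwist_pow_eq {L : X.Modules} (s : Coh.structureModule X ⟶ L) (n : ℕ) (U : X.Opens) :
    SecTwist.pow s n U = gpow L (res L (le_top : U ≤ ⊤) (secOf s)) n := by
  induction n with
  | zero => rfl
  | succ n ih =>
    show SecTwist.tmul (CohB1.tensorPow L n) L U (SecTwist.pow s n U) (SecTwist.val s U) = _
    rw [ih, sectwist_val]
    rfl

theorem sectwist_twist_eq {L : X.Modules} (s : Coh.structureModule X ⟶ L) (n : ℕ) (F : X.Modules) (U : X.Opens)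
    (t : Γ(F, U)) :
    SecTwist.twist s n F U t =
      tmulSec F (CohB1.tensorPow L n) t (gpow L (res L (le_top : U ≤ ⊤) (secOf s)) n) := by
  show SecTwist.tmul F (CohB1.tensorPow L n) U t (SecTwist.pow s n U) = _
  rw [sectwist_pow_eq]
  rfl

end Groth.Agent.Lib.Helper28.GenLocus
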