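import Groth.Agent.Lib.Helper28.QCohConv
import Groth.Agent.Lib.Helper28.QCohGen
import Groth.Agent.Lib.Helper17.StalkExact

set_option autoImplicit false
universe u
open CategoryTheory CategoryTheory.Limits AlgebraicGeometry Opposite TopologicalSpace
noncomputable section

namespace Groth.Agent.Lib.Helper28.QCohLoc

open Groth.Agent.Lib.Helper17.StalkExact

variable {X : Scheme.{u}} {F G : X.Modules}

/-- an epimorphism of modules is locally surjective on sections -/
theorem exists_local_lift (φ : F ⟶ G) [Epi φ] (U : X.Opens) (y : Γ(G, U)) (x : X) (hx : x ∈ U) :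
    ∃ (W : X.Opens) (hW : W ≤ U), x ∈ W ∧ ∃ t : Γ(F, W), φ.app W t = res G hW y := by
  obtain ⟨z, hz⟩ := stalkHom_surjective_of_epi φ x (G.presheaf.germ U x hx y)
  obtain ⟨V, hV, t, rfl⟩ := TopCat.Presheaf.exists_germ_eq F.presheaf z
  rw [stalkHom_germ] at hz
  obtain ⟨W, hxW, iV, iU, h⟩ := TopCat.Presheaf.germ_eq G.presheaf x _ _ _ _ hz
  refine ⟨W, iU.le, hxW, res F iV.le t, ?_⟩
  rw [app_res]
  exact h

/-- **an epimorphism of quasi-coherent modules is surjective on the sections over an affine open** -/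
theorem surjective_app_of_epi (φ : F ⟶ G) [Epi φ] {U : X.Opens} (hU : IsAffineOpen U)
    (hF : IsLocOn F U) (hG : IsLocOn G U) : Function.Surjective (φ.app U) := by
  intro y
  let I : Ideal Γ(X, U) :=
    { carrier := {a | ∃ m : Γ(F, U), φ.app U m = a • y}
      add_mem' := by
        rintro a b ⟨m, hm⟩ ⟨m', hm'⟩
        exact ⟨m + m', by rw [map_add, hm, hm', add_smul]⟩
      zero_mem' := ⟨0, by rw [map_zero, zero_smul]⟩
      smul_mem' := by
        rintro c a ⟨m, hm⟩
        exact ⟨c • m, by rw [Scheme.Modules.Hom.app_smul, hm, smul_eq_mul, mul_smul]⟩ }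
  have hI : I = ⊤ := by
    have h1 : Ideal.span (I : Set Γ(X, U)) = ⊤ := by
      rw [← hU.self_le_iSup_basicOpen_iff]
      intro x hx
      obtain ⟨W, hW, hxW, t, ht⟩ := exists_local_lift φ U y x hx
      obtain ⟨r, hrW, hxr⟩ := hU.exists_basicOpen_le (V := W) ⟨x, hxW⟩ hx
      obtain ⟨n, m, hm⟩ := hF.surj r (res F hrW t)
      have e1 : res G (X.basicOpen_le r) (φ.app U m - r ^ n • y) = 0 := by
        rw [res_sub, ← app_res, ← hm, Scheme.Modules.Hom.app_smul, app_res, ht, res_res, res_smul, resO_pow]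
        exact sub_self _
      obtain ⟨k, hk⟩ := hG.inj r _ e1
      have hmem : r ^ (k + n + 1) ∈ I := by
        refine ⟨r ^ (k + 1) • m, ?_⟩
        rw [Scheme.Modules.Hom.app_smul]
        have h2 : r ^ k • φ.app U m = r ^ k • (r ^ n • y) := by
          rw [smul_sub] at hk
          exact sub_eq_zero.1 hk
        rw [pow_succ', mul_smul, h2, smul_smul, smul_smul]
        congr 1
        ring
      rw [Opens.mem_iSup]
      refine ⟨⟨r ^ (k + n + 1), hmem⟩, ?_⟩
      show x ∈ X.basicOpen (r ^ (k + n + 1))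
      rw [X.basicOpen_pow r (Nat.succ_pos _)]
      exact hxr
    rwa [Ideal.span_eq] at h1
  have h1 : (1 : Γ(X, U)) ∈ I := by rw [hI]; trivial
  obtain ⟨m, hm⟩ := h1
  exact ⟨m, by rw [hm, one_smul]⟩

end Groth.Agent.Lib.Helper28.QCohLoc
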