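import Groth.Agent.Lib.Helper28.ModAffineExt

/-!
# Gluing a morphism of modules from linear maps on an affine cover

`ChartHomData G₁ G₂`: an affine open cover `U i`, on which `G₁` is localizing, with `Γ(X, U i)`-linear maps
`ψ i : Γ(G₁, U i) → Γ(G₂, U i)` such that the extension of `ψ i` to `U i ⊓ U j` agrees with the restriction of `ψ j`.
Such data glue to a unique morphism `G₁ ⟶ G₂` inducing the `ψ i`.
-/

set_option autoImplicit false
universe u
open CategoryTheory CategoryTheory.Limits AlgebraicGeometry Opposite TopologicalSpace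

namespace Groth.Agent.Lib.Helper28.QCohLoc

variable {X : Scheme.{u}}

structure ChartHomData (G₁ G₂ : X.Modules) where
  ι : Type u
  U : ι → X.Opens
  hU : ∀ i, IsAffineOpen (U i)
  cov : ∀ x : X, ∃ i, x ∈ U i
  loc : ∀ i, IsLocOn G₁ (U i)
  ψ : ∀ i, Γ(G₁, U i) →+ Γ(G₂, U i)
  smul : ∀ i (a : Γ(X, U i)) (x : Γ(G₁, U i)), ψ i (a • x) = a • ψ i x
  compat : ∀ i j (m : Γ(G₁, U j)),
    ext (loc i) (ψ i) (smul i) (hU i) (inf_le_left : U i ⊓ U j ≤ U i) (res G₁ inf_le_right m) =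
      res G₂ inf_le_right (ψ j m)

namespace ChartHomData

variable {G₁ G₂ : X.Modules} (D : ChartHomData G₁ G₂)

/-- the extension of `ψ i` to the opens inside `U i` -/
noncomputable def ex (i : D.ι) {W : X.Opens} (hW : W ≤ D.U i) (x : Γ(G₁, W)) : Γ(G₂, W) :=
  ext (D.loc i) (D.ψ i) (D.smul i) (D.hU i) hW x

theorem ex_top (i : D.ι) (x : Γ(G₁, D.U i)) : D.ex i le_rfl x = D.ψ i x :=
  ext_top (D.loc i) (D.ψ i) (D.smul i) (D.hU i) x

theorem ex_res (i : D.ι) {W W' : X.Opens} (hW : W ≤ D.U i) (h : W' ≤ W) (x : Γ(G₁, W)) :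
    D.ex i (h.trans hW) (res G₁ h x) = res G₂ h (D.ex i hW x) :=
  ext_res (D.loc i) (D.ψ i) (D.smul i) (D.hU i) hW h x

theorem ex_add (i : D.ι) {W : X.Opens} (hW : W ≤ D.U i) (x y : Γ(G₁, W)) :
    D.ex i hW (x + y) = D.ex i hW x + D.ex i hW y :=
  ext_add (D.loc i) (D.ψ i) (D.smul i) (D.hU i) hW x y

theorem ex_smul (i : D.ι) {W : X.Opens} (hW : W ≤ D.U i) (a : Γ(X, W)) (x : Γ(G₁, W)) :
    D.ex i hW (a • x) = a • D.ex i hW x :=
  ext_smul (D.loc i) (D.ψ i) (D.smul i) (D.hU i) hW a x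

/-- the extensions do not depend on the chart -/
theorem ex_indep (i j : D.ι) {W : X.Opens} (hWi : W ≤ D.U i) (hWj : W ≤ D.U j) (x : Γ(G₁, W)) :
    D.ex i hWi x = D.ex j hWj x := by
  symm
  refine ext_eq_of_family (D.loc j) (D.ψ j) (D.smul j) (D.hU j)
    (inf_le_right : D.U i ⊓ D.U j ≤ D.U j)
    (fun W hW => D.ex i (hW.trans inf_le_left)) ?_ ?_ ?_ W (le_inf hWi hWj) x
  · intro W hW a x
    exact D.ex_smul i _ a x
  · intro W hW W' h x
    exact D.ex_res i _ h x
  · intro m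
    exact D.compat i j m

/-- the local data of the glued morphism -/
noncomputable def locData : LocalHomData G₁ G₂ where
  B W := ∃ i : D.ι, W ≤ D.U i
  down V V' h := fun ⟨i, hi⟩ => ⟨i, h.trans hi⟩
  cov x := by
    obtain ⟨i, hi⟩ := D.cov x
    exact ⟨D.U i, ⟨i, le_rfl⟩, hi⟩
  φ W hW := D.ex hW.choose hW.choose_spec
  add W hW x y := D.ex_add _ _ x y
  smul W hW a x := D.ex_smul _ _ a x
  nat W hW W' h x := by
    rw [← D.ex_res hW.choose hW.choose_spec h x]
    exact D.ex_indep _ _ _ _ _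

/-- the glued morphism -/
noncomputable def hom : G₁ ⟶ G₂ := D.locData.hom

theorem hom_app_of_le (i : D.ι) {W : X.Opens} (hW : W ≤ D.U i) (x : Γ(G₁, W)) :
    D.hom.app W x = D.ex i hW x := by
  have hB : D.locData.B W := ⟨i, hW⟩
  have h := D.locData.hom_app W hB x
  refine h.trans ?_
  change D.ex hB.choose hB.choose_spec x = _
  exact D.ex_indep hB.choose i hB.choose_spec hW x

theorem hom_app (i : D.ι) (x : Γ(G₁, D.U i)) : D.hom.app (D.U i) x = D.ψ i x := by
  rw [D.hom_app_of_le i le_rfl, ex_top]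

end ChartHomData

end Groth.Agent.Lib.Helper28.QCohLoc
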