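import Groth.Agent.Lib.Helper28.TwistInv

/-!
# `O(nd)` restricted to `D₊(f)`, `f` of degree `d > 0`, is trivial
-/

set_option autoImplicit false
universe u
open CategoryTheory CategoryTheory.Limits AlgebraicGeometry Opposite TopologicalSpace HomogeneousLocalization
noncomputable section

namespace Groth.Agent.Lib.Helper28.TwistGenD

open Groth.Agent.Lib.Helper28 Groth.Agent.Lib.Helper28.QCohLoc Groth.Agent.Lib.Helper28.GrTildeQC
  Groth.Agent.Lib.Helper28.TwistMul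

variable {R A : Type u} [CommRing R] [CommRing A] [Algebra R A] (𝒜 : ℕ → Submodule R A) [GradedAlgebra 𝒜]

variable {f : A} {d : ℕ} (hf : f ∈ 𝒜 d)

/-- the generator `f^n` of `O(nd)` over `D₊(f)` -/
def gen (n : ℤ) : Γ(Twist.twist 𝒜 (n * d), Proj.basicOpen 𝒜 f) :=
  TwistQC.mkSect 𝒜 hf (n * d) (-n).toNat (n.toNat * d) (f ^ n.toNat)
    (by simpa [mul_comm] using SetLike.pow_mem_graded n.toNat hf)
    (by have := Int.toNat_sub_toNat_neg n; push_cast; nlinarith)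

theorem val_gen (n : ℤ) (x : Proj.basicOpen 𝒜 f) :
    TwistQC.val 𝒜 (gen 𝒜 hf n) x =
      Localization.mk (f ^ n.toNat) ⟨f ^ (-n).toNat, GrSectMod.pow_nin 𝒜 _ x⟩ := rfl

theorem isUnit_val_gen (n : ℤ) (x : Proj.basicOpen 𝒜 f) : IsUnit (TwistQC.val 𝒜 (gen 𝒜 hf n) x) := by
  rw [val_gen]
  refine IsUnit.of_mul_eq_one (Localization.mk (f ^ (-n).toNat) ⟨f ^ n.toNat, GrSectMod.pow_nin 𝒜 _ x⟩) ?_
  rw [Localization.mk_mul, mul_comm]
  exact Localization.mk_self (⟨f ^ (-n).toNat, GrSectMod.pow_nin 𝒜 _ x⟩ * ⟨f ^ n.toNat, GrSectMod.pow_nin 𝒜 _ x⟩ :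
    x.1.asHomogeneousIdeal.toIdeal.primeCompl)

/-- the generator restricted to `D₊(f h)` -/
def genW (h : A) (n : ℤ) : Γ(Twist.twist 𝒜 (n * d), Proj.basicOpen 𝒜 (f * h)) :=
  res (Twist.twist 𝒜 (n * d)) (basicOpen_mul_le 𝒜 f h) (gen 𝒜 hf n)

theorem val_genW (h : A) (n : ℤ) (x : Proj.basicOpen 𝒜 (f * h)) :
    TwistQC.val 𝒜 (genW 𝒜 hf h n) x =
      Localization.mk (f ^ n.toNat) ⟨f ^ (-n).toNat,
        GrSectMod.pow_nin 𝒜 _ (⟨x.1, basicOpen_mul_le 𝒜 f h x.2⟩ : Proj.basicOpen 𝒜 f)⟩ := rfl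

theorem isUnit_val_genW (h : A) (n : ℤ) (x : Proj.basicOpen 𝒜 (f * h)) :
    IsUnit (TwistQC.val 𝒜 (genW 𝒜 hf h n) x) :=
  isUnit_val_gen 𝒜 hf n ⟨x.1, basicOpen_mul_le 𝒜 f h x.2⟩

include hf in
theorem num_mem {h : A} {e : ℕ} (hh : h ∈ 𝒜 e) (n : ℤ) {i : ℕ} {a : A} (ha : a ∈ 𝒜 i) :
    a * f ^ (-n).toNat * h ^ n.toNat ∈ 𝒜 (i + (-n).toNat * d + n.toNat * e) := by
  have h1 : f ^ (-n).toNat ∈ 𝒜 ((-n).toNat * d) := by
    simpa [mul_comm] using SetLike.pow_mem_graded (-n).toNat hf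
  have h2 : h ^ n.toNat ∈ 𝒜 (n.toNat * e) := by simpa using SetLike.pow_mem_graded n.toNat hh
  exact SetLike.mul_mem_graded (SetLike.mul_mem_graded ha h1) h2

/-- every section of `O(nd)` over `D₊(f h)` is a multiple of the generator -/
theorem exists_smul_genW_eq (hd : 0 < d) {h : A} {e : ℕ} (hh : h ∈ 𝒜 e) (n : ℤ)
    (t : Γ(Twist.twist 𝒜 (n * d), Proj.basicOpen 𝒜 (f * h))) :
    ∃ c : Γ(Proj 𝒜, Proj.basicOpen 𝒜 (f * h)),
      t = (c • genW 𝒜 hf h n : Γ(Twist.twist 𝒜 (n * d), Proj.basicOpen 𝒜 (f * h))) := by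
  have hg : f * h ∈ 𝒜 (d + e) := SetLike.mul_mem_graded hf hh
  obtain ⟨k, i, a, ha, hi, hval⟩ := TwistQC.exists_frac 𝒜 hg (by omega) (n * d) t
  have hn := Int.toNat_sub_toNat_neg n
  have hdeg : a * f ^ (-n).toNat * h ^ n.toNat ∈ 𝒜 ((k + n.toNat) • (d + e)) := by
    have h1 := num_mem 𝒜 hf hh n ha
    have h2 : i + (-n).toNat * d + n.toNat * e = (k + n.toNat) • (d + e) := by
      rw [smul_eq_mul]
      zify
      push_cast at hi
      nlinarith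
    rwa [h2] at h1
  refine ⟨Proj.awayToSection 𝒜 (f * h) (HomogeneousLocalization.Away.mk 𝒜 hg (k + n.toNat)
    (a * f ^ (-n).toNat * h ^ n.toNat) hdeg), ?_⟩
  apply TwistQC.ext_val
  intro x
  rw [hval x, TwistQC.val_smul, GrTildeQC.val_valO_awayToSection 𝒜 hg _ _ hdeg x, val_genW,
    Localization.mk_mul, Localization.mk_eq_mk_iff, Localization.r_iff_exists]
  refine ⟨1, ?_⟩
  simp only [OneMemClass.coe_one, one_mul, Submonoid.coe_mul]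
  ring

theorem smul_genW_bijective (hd : 0 < d) {h : A} {e : ℕ} (hh : h ∈ 𝒜 e) (n : ℤ) :
    Function.Bijective (fun c : Γ(Proj 𝒜, Proj.basicOpen 𝒜 (f * h)) =>
      (c • genW 𝒜 hf h n : Γ(Twist.twist 𝒜 (n * d), Proj.basicOpen 𝒜 (f * h)))) := by
  constructor
  · intro c c' hcc
    apply ProjFrac.valO_ext
    intro x
    have h1 : TwistQC.val 𝒜 (c • genW 𝒜 hf h n : Γ(Twist.twist 𝒜 (n * d), Proj.basicOpen 𝒜 (f * h))) x =
        TwistQC.val 𝒜 (c' • genW 𝒜 hf h n : Γ(Twist.twist 𝒜 (n * d), Proj.basicOpen 𝒜 (f * h))) x :=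
      congrArg (fun t => TwistQC.val 𝒜 t x) hcc
    rw [TwistQC.val_smul, TwistQC.val_smul] at h1
    exact (isUnit_val_genW 𝒜 hf h n x).mul_left_injective h1
  · intro t
    obtain ⟨c, hc⟩ := exists_smul_genW_eq 𝒜 hf hd hh n t
    exact ⟨c, hc.symm⟩

include hf in
/-- **`O(nd)|_{D₊(f)} ≅ O`** for `f` homogeneous of degree `d > 0`. -/
theorem nonempty_restrict_iso (hd : 0 < d) (n : ℤ) :
    Nonempty ((Twist.twist 𝒜 (n * d)).restrict (Proj.basicOpen 𝒜 f).ι ≅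
      Coh.structureModule (↑(Proj.basicOpen 𝒜 f))) := by
  refine InvGen.nonempty_restrict_iso_of_generator (Twist.twist 𝒜 (n * d)) (Proj.basicOpen 𝒜 f) (gen 𝒜 hf n)
    (fun W => ∃ (h : A) (e : ℕ), h ∈ 𝒜 e ∧ W = Proj.basicOpen 𝒜 (f * h)) ?_ ?_
  · intro V x hxV hVU
    obtain ⟨e, h, he, hh, hhx, hhV⟩ := GrSectComap.exists_pos_basicOpen 𝒜 V x hxV
    refine ⟨Proj.basicOpen 𝒜 (f * h), ⟨h, e, hh, rfl⟩, ?_, ?_⟩
    · rw [Proj.basicOpen_mul]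
      exact ⟨hVU hxV, (Proj.mem_basicOpen 𝒜 h x).2 hhx⟩
    · intro y hy
      rw [Proj.basicOpen_mul] at hy
      exact hhV y ((Proj.mem_basicOpen 𝒜 h y).1 hy.2)
  · rintro W hW ⟨h, e, hh, rfl⟩
    exact smul_genW_bijective 𝒜 hf hd hh n

end Groth.Agent.Lib.Helper28.TwistGenD
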