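import Groth.Agent.Lib.Helper28.QCohLoc
import Groth.Prelude.Def_RelSpec
import Groth.Prelude.Def_Coh
import Mathlib

set_option autoImplicit false
universe u
open CategoryTheory CategoryTheory.Limits AlgebraicGeometry Opposite TopologicalSpace

namespace Groth.Agent.Lib.Helper28.QCAlgOfQCoh
open Groth.Agent.Lib.Helper28

variable {S : Scheme.{u}} (B : Sheaf (Opens.grothendieckTopology S) CommRingCat.{u}) (φ : S.sheaf ⟶ B)

/-- the module over the structure sheaf underlying the algebra `B` -/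
noncomputable abbrev modOf : S.Modules := (SheafOfModules.restrictScalars
      ((sheafCompose (Opens.grothendieckTopology S) (forget₂ CommRingCat.{u} RingCat.{u})).map φ)).obj
      (SheafOfModules.unit ((sheafCompose (Opens.grothendieckTopology S) (forget₂ CommRingCat.{u} RingCat.{u})).obj B))

theorem smul_def' (U : S.Opens) (a : Γ(S, U)) (b : B.obj.obj (op U)) :
    ((a • (show Γ(modOf B φ, U) from b) : Γ(modOf B φ, U))) =
      (show Γ(modOf B φ, U) from ((φ.hom.app (op U)).hom a * b)) := rfl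

theorem map_def' {U V : S.Opens} (i : U ⟶ V) (b : B.obj.obj (op V)) :
    ((modOf B φ).presheaf.map i.op (show Γ(modOf B φ, V) from b)) =
      (show Γ(modOf B φ, U) from ((B.obj.map i.op).hom b)) := rfl

theorem isQC (hB : Coh.IsQCoh (modOf B φ)) : RelSpec.IsQC B.obj φ.hom := by
  intro U hU r
  letI := (B.obj.map (homOfLE (S.basicOpen_le r)).op).hom.toAlgebra
  haveI : (modOf B φ).IsQuasicoherent := hB
  have nat : ∀ a : Γ(S, U), (B.obj.map (homOfLE (S.basicOpen_le r)).op).hom ((φ.hom.app (op U)).hom a) =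
      (φ.hom.app (op (S.basicOpen r))).hom ((S.presheaf.map (homOfLE (S.basicOpen_le r)).op).hom a) := by
    intro a
    have := congr_arg (fun ψ => ψ.hom a) (φ.hom.naturality (homOfLE (S.basicOpen_le r)).op)
    exact this.symm
  have hunit : IsUnit ((S.presheaf.map (homOfLE (S.basicOpen_le r)).op).hom r) :=
    RingedSpace.isUnit_res_basicOpen _ r
  have hpow : ∀ n : ℕ, algebraMap (B.obj.obj (op U)) (B.obj.obj (op (S.basicOpen r))) ((φ.hom.app (op U)).hom r ^ n) =
      ((φ.hom.app (op (S.basicOpen r))).hom ((S.presheaf.map (homOfLE (S.basicOpen_le r)).op).hom r)) ^ n := by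
    intro n
    exact (map_pow (algebraMap (B.obj.obj (op U)) (B.obj.obj (op (S.basicOpen r)))) _ n).trans
      (congrArg (· ^ n) (nat r))
  have hpow' : ∀ n : ℕ, (φ.hom.app (op (S.basicOpen r))).hom
        ((S.presheaf.map (homOfLE (S.basicOpen_le r)).op).hom (r ^ n)) =
      ((φ.hom.app (op (S.basicOpen r))).hom ((S.presheaf.map (homOfLE (S.basicOpen_le r)).op).hom r)) ^ n := by
    intro n
    exact (congrArg (φ.hom.app (op (S.basicOpen r))).hom
      (map_pow (S.presheaf.map (homOfLE (S.basicOpen_le r)).op).hom r n)).trans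
      (map_pow (φ.hom.app (op (S.basicOpen r))).hom _ n)
  refine (isLocalization_iff _ _).mpr ⟨?_, ?_, ?_⟩
  · rintro ⟨y, n, rfl⟩
    change IsUnit (algebraMap (B.obj.obj (op U)) (B.obj.obj (op (S.basicOpen r))) ((φ.hom.app (op U)).hom r ^ n))
    rw [hpow]
    exact (hunit.map (φ.hom.app (op (S.basicOpen r))).hom).pow n
  · intro z
    obtain ⟨n, x, hx⟩ := QCohLoc.exists_pow_smul_eq_res (modOf B φ) hU r (show Γ(modOf B φ, S.basicOpen r) from z)
    refine ⟨⟨x, ⟨_, n, rfl⟩⟩, ?_⟩
    change z * algebraMap (B.obj.obj (op U)) (B.obj.obj (op (S.basicOpen r))) ((φ.hom.app (op U)).hom r ^ n) = _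
    rw [hpow, mul_comm, ← hpow']
    exact hx
  · intro x y hxy
    have h0 : (modOf B φ).presheaf.map (homOfLE (S.basicOpen_le r)).op (show Γ(modOf B φ, U) from (x - y)) = 0 := by
      change (B.obj.map (homOfLE (S.basicOpen_le r)).op).hom (x - y) = 0
      rw [map_sub, sub_eq_zero]
      exact hxy
    obtain ⟨n, hn⟩ := QCohLoc.exists_pow_smul_eq_zero (modOf B φ) hU r _ h0
    refine ⟨⟨_, n, rfl⟩, ?_⟩
    change (φ.hom.app (op U)).hom r ^ n * x = (φ.hom.app (op U)).hom r ^ n * y
    have hn' : (φ.hom.app (op U)).hom (r ^ n) * (x - y) = 0 := hn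
    have e : (φ.hom.app (op U)).hom (r ^ n) = (φ.hom.app (op U)).hom r ^ n :=
      map_pow (φ.hom.app (op U)).hom r n
    rw [e, mul_sub, sub_eq_zero] at hn'
    exact hn'

end Groth.Agent.Lib.Helper28.QCAlgOfQCoh
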