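import Groth.Agent.Lib.Helper28.GenIso

/-!
# The sheaf of homomorphisms between two `O_X`-modules, and the dual of an invertible module

* `HomMod.homMod L N : X.Modules`: sections over `V` are the families of `O(W)`-linear maps `L(W) → N(W)` for `W ≤ V`
  compatible with restrictions.
* `HomMod.ev`, `HomMod.mkSec`, `HomMod.ext_ev`: evaluation of a section, construction and extensionality.
-/

set_option autoImplicit false
universe u
open CategoryTheory CategoryTheory.Limits AlgebraicGeometry Opposite TopologicalSpace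
noncomputable section

namespace Groth.Agent.Lib.Helper28.HomMod

open Groth.Agent.Lib.Helper28 Groth.Agent.Lib.Helper28.QCohLoc Groth.Agent.Lib.Helper28.GenLocus

variable {X : Scheme.{u}} (L N : X.Modules)

/-- the ambient group of all families of maps `L(W) → N(W)`, `W ≤ V` -/
abbrev Amb (V : (Opens X)ᵒᵖ) : Type u := ∀ W : {W : X.Opens // W ≤ V.unop}, Γ(L, W.1) → Γ(N, W.1)

instance smulAmb (V : (Opens X)ᵒᵖ) : SMul (X.presheaf.obj V) (Amb L N V) :=
  ⟨fun a f W x => (resO W.2 (show Γ(X, V.unop) from a) • f W x : Γ(N, W.1))⟩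

theorem smulAmb_apply (V : (Opens X)ᵒᵖ) (a : X.presheaf.obj V) (f : Amb L N V)
    (W : {W : X.Opens // W ≤ V.unop}) (x : Γ(L, W.1)) :
    (a • f) W x = (resO W.2 (show Γ(X, V.unop) from a) • f W x : Γ(N, W.1)) := rfl

instance modAmb (V : (Opens X)ᵒᵖ) : Module (X.presheaf.obj V) (Amb L N V) where
  one_smul f := by
    funext W x
    rw [smulAmb_apply]
    have : resO W.2 (show Γ(X, V.unop) from (1 : X.presheaf.obj V)) = 1 :=
      map_one (X.presheaf.map (homOfLE W.2).op).hom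
    rw [this, one_smul]
  mul_smul a b f := by
    funext W x
    simp only [smulAmb_apply]
    have : resO W.2 (show Γ(X, V.unop) from (a * b : X.presheaf.obj V)) =
        resO W.2 (show Γ(X, V.unop) from a) * resO W.2 (show Γ(X, V.unop) from b) :=
      map_mul (X.presheaf.map (homOfLE W.2).op).hom a b
    rw [this, mul_smul]
  smul_zero a := by
    funext W x
    rw [smulAmb_apply]
    exact smul_zero _
  smul_add a f g := by
    funext W x
    simp only [smulAmb_apply, Pi.add_apply]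
    exact smul_add _ _ _
  add_smul a b f := by
    funext W x
    simp only [smulAmb_apply, Pi.add_apply]
    have : resO W.2 (show Γ(X, V.unop) from (a + b : X.presheaf.obj V)) =
        resO W.2 (show Γ(X, V.unop) from a) + resO W.2 (show Γ(X, V.unop) from b) :=
      map_add (X.presheaf.map (homOfLE W.2).op).hom a b
    rw [this, add_smul]
  zero_smul f := by
    funext W x
    rw [smulAmb_apply]
    have : resO W.2 (show Γ(X, V.unop) from (0 : X.presheaf.obj V)) = 0 :=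
      map_zero (X.presheaf.map (homOfLE W.2).op).hom
    rw [this, zero_smul]
    rfl

/-- the defining property of a section of the sheaf of homomorphisms -/
def IsHomFam {V : (Opens X)ᵒᵖ} (f : Amb L N V) : Prop :=
  (∀ (W : {W : X.Opens // W ≤ V.unop}) (x y : Γ(L, W.1)), f W (x + y) = f W x + f W y) ∧
  (∀ (W : {W : X.Opens // W ≤ V.unop}) (a : Γ(X, W.1)) (x : Γ(L, W.1)),
    f W (a • x : Γ(L, W.1)) = (a • f W x : Γ(N, W.1))) ∧
  (∀ (W W' : {W : X.Opens // W ≤ V.unop}) (h : W'.1 ≤ W.1) (x : Γ(L, W.1)),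
    f W' (res L h x) = res N h (f W x))

/-- the sections of the sheaf of homomorphisms over `V` -/
def sect (V : (Opens X)ᵒᵖ) : Submodule (X.presheaf.obj V) (Amb L N V) where
  carrier := {f | IsHomFam L N f}
  zero_mem' := by
    refine ⟨fun W x y => ?_, fun W a x => ?_, fun W W' h x => ?_⟩
    · exact (add_zero (0 : Γ(N, W.1))).symm
    · exact (smul_zero a).symm
    · exact (res_zero N h).symm
  add_mem' := by
    rintro f g ⟨hf1, hf2, hf3⟩ ⟨hg1, hg2, hg3⟩
    refine ⟨fun W x y => ?_, fun W a x => ?_, fun W W' h x => ?_⟩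
    · show f W (x + y) + g W (x + y) = (f W x + g W x) + (f W y + g W y)
      rw [hf1, hg1, add_add_add_comm]
    · show f W (a • x : Γ(L, W.1)) + g W (a • x : Γ(L, W.1)) = (a • (f W x + g W x) : Γ(N, W.1))
      rw [hf2, hg2, smul_add]
    · show f W' (res L h x) + g W' (res L h x) = res N h (f W x + g W x)
      rw [hf3 W W' h, hg3 W W' h, res_add]
  smul_mem' := by
    rintro c f ⟨hf1, hf2, hf3⟩
    refine ⟨fun W x y => ?_, fun W a x => ?_, fun W W' h x => ?_⟩
    · show (resO W.2 (show Γ(X, V.unop) from c) • f W (x + y) : Γ(N, W.1)) =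
        (resO W.2 (show Γ(X, V.unop) from c) • f W x : Γ(N, W.1)) +
          (resO W.2 (show Γ(X, V.unop) from c) • f W y : Γ(N, W.1))
      rw [hf1, smul_add]
    · show (resO W.2 (show Γ(X, V.unop) from c) • f W (a • x : Γ(L, W.1)) : Γ(N, W.1)) =
        (a • (resO W.2 (show Γ(X, V.unop) from c) • f W x : Γ(N, W.1)) : Γ(N, W.1))
      rw [hf2, ← mul_smul, ← mul_smul, mul_comm]
    · show (resO W'.2 (show Γ(X, V.unop) from c) • f W' (res L h x) : Γ(N, W'.1)) =
        res N h (resO W.2 (show Γ(X, V.unop) from c) • f W x : Γ(N, W.1))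
      rw [hf3 W W' h, res_smul, resO_resO]

/-- restriction of sections -/
def resH {V V' : (Opens X)ᵒᵖ} (i : V ⟶ V') (f : sect L N V) : sect L N V' :=
  ⟨fun W => f.1 ⟨W.1, W.2.trans i.unop.le⟩,
    ⟨fun W x y => f.2.1 ⟨W.1, W.2.trans i.unop.le⟩ x y, fun W a x => f.2.2.1 ⟨W.1, W.2.trans i.unop.le⟩ a x,
      fun W W' h x => f.2.2.2 ⟨W.1, W.2.trans i.unop.le⟩ ⟨W'.1, W'.2.trans i.unop.le⟩ h x⟩⟩

/-- the presheaf of abelian groups underlying the sheaf of homomorphisms -/
def HPre : TopCat.Presheaf AddCommGrpCat.{u} X.carrier where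
  obj V := AddCommGrpCat.of (sect L N V)
  map i := AddCommGrpCat.ofHom
    { toFun := resH L N i
      map_zero' := Subtype.ext rfl
      map_add' := fun _ _ => Subtype.ext rfl }
  map_id _ := AddCommGrpCat.hom_ext (AddMonoidHom.ext fun _ => Subtype.ext rfl)
  map_comp _ _ := AddCommGrpCat.hom_ext (AddMonoidHom.ext fun _ => Subtype.ext rfl)

/-- the sheaf of homomorphisms as a presheaf of modules -/
def HPMod : PresheafOfModules.{u} (X.presheaf ⋙ forget₂ CommRingCat RingCat) :=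
  letI (V : (Opens X)ᵒᵖ) :
      Module ↑((X.presheaf ⋙ forget₂ CommRingCat RingCat).obj V) ↑((HPre L N).obj V) := by
    dsimp; exact (inferInstance : Module (X.presheaf.obj V) (sect L N V))
  .ofPresheaf (HPre L N) fun V V' i r m => by
    refine Subtype.ext (funext fun W => funext fun x => ?_)
    show (resO (W.2.trans i.unop.le) (show Γ(X, V.unop) from r) • m.1 ⟨W.1, W.2.trans i.unop.le⟩ x : Γ(N, W.1)) =
      (resO W.2 (show Γ(X, V'.unop) from X.presheaf.map i r) • m.1 ⟨W.1, W.2.trans i.unop.le⟩ x : Γ(N, W.1))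
    congr 1
    exact (resO_resO i.unop.le W.2 (show Γ(X, V.unop) from r)).symm

theorem HPre_map_val {V V' : (Opens X)ᵒᵖ} (i : V ⟶ V') (f : sect L N V) (W : {W : X.Opens // W ≤ V'.unop}) :
    ((HPre L N).map i f : sect L N V').1 W = f.1 ⟨W.1, W.2.trans i.unop.le⟩ := rfl

theorem isSheaf_HPre : TopCat.Presheaf.IsSheaf (HPre L N) := by
  rw [TopCat.Presheaf.isSheaf_iff_isSheafUniqueGluing]
  intro ι U sf hsf
  -- compatibility, evaluated
  have hcomp : ∀ (i j : ι) (W : X.Opens) (hi : W ≤ U i) (hj : W ≤ U j) (x : Γ(L, W)),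
      (sf i : sect L N (op (U i))).1 ⟨W, hi⟩ x = (sf j : sect L N (op (U j))).1 ⟨W, hj⟩ x := by
    intro i j W hi hj x
    have h := congrFun (congrFun (congrArg Subtype.val (hsf i j)) ⟨W, le_inf hi hj⟩) x
    exact h
  have hcov : ∀ W : {W : X.Opens // W ≤ iSup U}, W.1 ≤ ⨆ i, W.1 ⊓ U i := by
    intro W q hq
    obtain ⟨i, hi⟩ := Opens.mem_iSup.1 (W.2 hq)
    exact Opens.mem_iSup.2 ⟨i, ⟨hq, hi⟩⟩
  have key : ∀ (W : {W : X.Opens // W ≤ iSup U}) (x : Γ(L, W.1)), ∃ z : Γ(N, W.1),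
      ∀ i, res N (inf_le_left : W.1 ⊓ U i ≤ W.1) z =
        (sf i : sect L N (op (U i))).1 ⟨W.1 ⊓ U i, inf_le_right⟩ (res L inf_le_left x) := by
    intro W x
    refine exists_gluing N (fun i => W.1 ⊓ U i) W.1 (fun i => inf_le_left) (hcov W)
      (fun i => (sf i : sect L N (op (U i))).1 ⟨W.1 ⊓ U i, inf_le_right⟩ (res L inf_le_left x)) ?_
    intro i j
    have h1 := (sf i : sect L N (op (U i))).2.2.2 ⟨W.1 ⊓ U i, inf_le_right⟩
      ⟨(W.1 ⊓ U i) ⊓ (W.1 ⊓ U j), inf_le_left.trans inf_le_right⟩ inf_le_left (res L inf_le_left x)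
    have h2 := (sf j : sect L N (op (U j))).2.2.2 ⟨W.1 ⊓ U j, inf_le_right⟩
      ⟨(W.1 ⊓ U i) ⊓ (W.1 ⊓ U j), inf_le_right.trans inf_le_right⟩ inf_le_right (res L inf_le_left x)
    rw [res_res] at h1 h2
    rw [← h1, ← h2]
    exact hcomp i j _ _ _ _
  choose z hz using key
  have zuniq : ∀ (W : {W : X.Opens // W ≤ iSup U}) (y y' : Γ(N, W.1)),
      (∀ i, res N (inf_le_left : W.1 ⊓ U i ≤ W.1) y = res N (inf_le_left : W.1 ⊓ U i ≤ W.1) y') → y = y' :=
    fun W y y' h => eq_of_locally_eq N (fun i => W.1 ⊓ U i) W.1 (fun i => inf_le_left) (hcov W) y y' h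
  have hzmem : IsHomFam L N (V := op (iSup U)) z := by
    refine ⟨fun W x y => ?_, fun W a x => ?_, fun W W' h x => ?_⟩
    · apply zuniq W
      intro i
      rw [res_add, hz, hz, hz, res_add, (sf i : sect L N (op (U i))).2.1]
    · apply zuniq W
      intro i
      rw [res_smul, hz, hz, res_smul, (sf i : sect L N (op (U i))).2.2.1]
    · apply zuniq W'
      intro i
      have h1 := (sf i : sect L N (op (U i))).2.2.2 ⟨W.1 ⊓ U i, inf_le_right⟩
        ⟨W'.1 ⊓ U i, inf_le_right⟩ (inf_le_inf_right _ h) (res L inf_le_left x)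
      rw [res_res] at h1
      rw [hz, res_res, res_res, h1, ← hz, res_res]
  refine ⟨(⟨z, hzmem⟩ : sect L N (op (iSup U))), ?_, ?_⟩
  · intro i
    refine Subtype.ext (funext fun W => funext fun x => ?_)
    show z ⟨W.1, W.2.trans (Opens.leSupr U i).le⟩ x = (sf i : sect L N (op (U i))).1 W x
    apply zuniq
    intro j
    have h1 := (sf i : sect L N (op (U i))).2.2.2 W ⟨W.1 ⊓ U j, inf_le_left.trans W.2⟩ inf_le_left x
    rw [hz, ← h1]
    exact (hcomp i j _ _ _ _).symm
  · intro s' hs'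
    refine Subtype.ext (funext fun W => funext fun x => ?_)
    show (s' : sect L N (op (iSup U))).1 W x = z W x
    apply zuniq
    intro i
    have h1 := (s' : sect L N (op (iSup U))).2.2.2 W ⟨W.1 ⊓ U i, inf_le_left.trans W.2⟩ inf_le_left x
    rw [hz, ← h1]
    have h2 := congrFun (congrFun (congrArg Subtype.val (hs' i)) ⟨W.1 ⊓ U i, inf_le_right⟩)
      (res L inf_le_left x)
    exact h2

/-- **the sheaf of homomorphisms `Hom(L, N)`** -/
def homMod : X.Modules where
  val := HPMod L N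
  isSheaf := isSheaf_HPre L N

variable {L N}

/-- a section of `Hom(L, N)` as a family of maps -/
def toSect {V : X.Opens} (φ : Γ(homMod L N, V)) : sect L N (op V) := φ

/-- a family of maps as a section of `Hom(L, N)` -/
def ofSect {V : X.Opens} (f : sect L N (op V)) : Γ(homMod L N, V) := f

/-- evaluation of a section of `Hom(L, N)` -/
def ev {V : X.Opens} (φ : Γ(homMod L N, V)) {W : X.Opens} (h : W ≤ V) (x : Γ(L, W)) : Γ(N, W) :=
  (toSect φ).1 ⟨W, h⟩ x

theorem ev_add {V : X.Opens} (φ : Γ(homMod L N, V)) {W : X.Opens} (h : W ≤ V) (x y : Γ(L, W)) :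
    ev φ h (x + y) = ev φ h x + ev φ h y := (toSect φ).2.1 ⟨W, h⟩ x y

theorem ev_smul {V : X.Opens} (φ : Γ(homMod L N, V)) {W : X.Opens} (h : W ≤ V) (a : Γ(X, W)) (x : Γ(L, W)) :
    ev φ h (a • x : Γ(L, W)) = (a • ev φ h x : Γ(N, W)) := (toSect φ).2.2.1 ⟨W, h⟩ a x

theorem ev_res {V : X.Opens} (φ : Γ(homMod L N, V)) {W W' : X.Opens} (h : W ≤ V) (h' : W' ≤ W) (x : Γ(L, W)) :
    ev φ (h'.trans h) (res L h' x) = res N h' (ev φ h x) := (toSect φ).2.2.2 ⟨W, h⟩ ⟨W', h'.trans h⟩ h' x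

theorem ev_zero {V : X.Opens} (φ : Γ(homMod L N, V)) {W : X.Opens} (h : W ≤ V) : ev φ h (0 : Γ(L, W)) = 0 := by
  have := ev_add φ h (0 : Γ(L, W)) 0
  rw [add_zero] at this
  exact left_eq_add.1 this

theorem add_ev {V : X.Opens} (φ ψ : Γ(homMod L N, V)) {W : X.Opens} (h : W ≤ V) (x : Γ(L, W)) :
    ev (φ + ψ) h x = ev φ h x + ev ψ h x := rfl

theorem smul_ev {V : X.Opens} (a : Γ(X, V)) (φ : Γ(homMod L N, V)) {W : X.Opens} (h : W ≤ V) (x : Γ(L, W)) :
    ev (a • φ : Γ(homMod L N, V)) h x = (resO h a • ev φ h x : Γ(N, W)) := rfl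

theorem res_ev {V V' : X.Opens} (hV : V' ≤ V) (φ : Γ(homMod L N, V)) {W : X.Opens} (h : W ≤ V') (x : Γ(L, W)) :
    ev (res (homMod L N) hV φ) h x = ev φ (h.trans hV) x := rfl

theorem ext_ev {V : X.Opens} (φ ψ : Γ(homMod L N, V))
    (h : ∀ (W : X.Opens) (hW : W ≤ V) (x : Γ(L, W)), ev φ hW x = ev ψ hW x) : φ = ψ := by
  have : toSect φ = toSect ψ := Subtype.ext (funext fun W => funext fun x => h W.1 W.2 x)
  exact this

/-- construction of a section of `Hom(L, N)` -/
def mkSec {V : X.Opens} (f : ∀ (W : X.Opens), W ≤ V → Γ(L, W) → Γ(N, W))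
    (hadd : ∀ (W : X.Opens) (h : W ≤ V) (x y : Γ(L, W)), f W h (x + y) = f W h x + f W h y)
    (hsmul : ∀ (W : X.Opens) (h : W ≤ V) (a : Γ(X, W)) (x : Γ(L, W)),
      f W h (a • x : Γ(L, W)) = (a • f W h x : Γ(N, W)))
    (hres : ∀ (W W' : X.Opens) (h : W ≤ V) (h' : W' ≤ W) (x : Γ(L, W)),
      f W' (h'.trans h) (res L h' x) = res N h' (f W h x)) : Γ(homMod L N, V) :=
  ofSect ⟨fun W => f W.1 W.2, ⟨fun W x y => hadd W.1 W.2 x y, fun W a x => hsmul W.1 W.2 a x,
    fun W W' h x => hres W.1 W'.1 W.2 h x⟩⟩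

theorem ev_mkSec {V : X.Opens} (f : ∀ (W : X.Opens), W ≤ V → Γ(L, W) → Γ(N, W))
    (hadd : ∀ (W : X.Opens) (h : W ≤ V) (x y : Γ(L, W)), f W h (x + y) = f W h x + f W h y)
    (hsmul : ∀ (W : X.Opens) (h : W ≤ V) (a : Γ(X, W)) (x : Γ(L, W)),
      f W h (a • x : Γ(L, W)) = (a • f W h x : Γ(N, W)))
    (hres : ∀ (W W' : X.Opens) (h : W ≤ V) (h' : W' ≤ W) (x : Γ(L, W)),
      f W' (h'.trans h) (res L h' x) = res N h' (f W h x)) {W : X.Opens} (h : W ≤ V) (x : Γ(L, W)) :
    ev (mkSec f hadd hsmul hres) h x = f W h x := rfl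

end Groth.Agent.Lib.Helper28.HomMod
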