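import Groth.Agent.Lib.Helper28.PullbackInv

/-!
# Inverse images of sections: compatibility with composition and with equality of morphisms
-/

set_option autoImplicit false
universe u
open CategoryTheory CategoryTheory.Limits AlgebraicGeometry Opposite TopologicalSpace
noncomputable section

namespace Groth.Agent.Lib.Helper28.UPSec

open Groth.Agent.Lib.Helper28 Groth.Agent.Lib.Helper28.QCohLoc Groth.Agent.Lib.Helper28.GenLocus
open Groth.Agent.Lib.Helper28.PullbackInv

variable {X Y Z : Scheme.{u}}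

/-- the inverse image of a section along a composite, through `pullbackComp` -/
theorem pbs_comp (f : X ⟶ Y) (g : Y ⟶ Z) (M : Z.Modules) (W : Z.Opens) (m : Γ(M, W)) :
    ((Scheme.Modules.pullbackComp f g).inv.app M).app (f ⁻¹ᵁ (g ⁻¹ᵁ W)) (pbs (f ≫ g) M W m) =
      pbs f ((Scheme.Modules.pullback g).obj M) (g ⁻¹ᵁ W) (pbs g M W m) := by
  have h := unit_conjugateEquiv
    ((Scheme.Modules.pullbackPushforwardAdjunction g).comp (Scheme.Modules.pullbackPushforwardAdjunction f))
    (Scheme.Modules.pullbackPushforwardAdjunction (f ≫ g)) (Scheme.Modules.pullbackComp f g).inv M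
  rw [Scheme.Modules.conjugateEquiv_pullbackComp_inv] at h
  have h2 := congrArg (fun θ => (Scheme.Modules.Hom.app θ W) m) h
  exact h2.symm

theorem pbs_comp' (f : X ⟶ Y) (g : Y ⟶ Z) (M : Z.Modules) (W : Z.Opens) (m : Γ(M, W)) :
    ((Scheme.Modules.pullbackComp f g).hom.app M).app (f ⁻¹ᵁ (g ⁻¹ᵁ W))
        (pbs f ((Scheme.Modules.pullback g).obj M) (g ⁻¹ᵁ W) (pbs g M W m)) =
      pbs (f ≫ g) M W m := by
  rw [← pbs_comp]
  have h : (Scheme.Modules.pullbackComp f g).inv.app M ≫ (Scheme.Modules.pullbackComp f g).hom.app M = 𝟙 _ := by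
    rw [← NatTrans.comp_app, Iso.inv_hom_id, NatTrans.id_app]
  have h2 := congrArg (fun θ => (Scheme.Modules.Hom.app θ ((f ≫ g) ⁻¹ᵁ W)) (pbs (f ≫ g) M W m)) h
  exact h2

/-- the inverse image of a section along equal morphisms -/
theorem pbs_congr {f g : X ⟶ Y} (h : f = g) (M : Y.Modules) (W : Y.Opens) (m : Γ(M, W))
    (V : X.Opens) (hVf : V ≤ f ⁻¹ᵁ W) (hVg : V ≤ g ⁻¹ᵁ W) :
    ((Scheme.Modules.pullbackCongr h).hom.app M).app V (res _ hVf (pbs f M W m)) = res _ hVg (pbs g M W m) := by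
  subst h
  rfl

theorem pbs_congr_inv {f g : X ⟶ Y} (h : f = g) (M : Y.Modules) (W : Y.Opens) (m : Γ(M, W))
    (V : X.Opens) (hVf : V ≤ f ⁻¹ᵁ W) (hVg : V ≤ g ⁻¹ᵁ W) :
    ((Scheme.Modules.pullbackCongr h).inv.app M).app V (res _ hVg (pbs g M W m)) = res _ hVf (pbs f M W m) := by
  subst h
  rfl

end Groth.Agent.Lib.Helper28.UPSec
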