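import Groth.Agent.Lib.Helper28.PullbackAmple
import Groth.Prelude.Def_Mor2

set_option autoImplicit false
universe u
open CategoryTheory CategoryTheory.Limits AlgebraicGeometry Opposite TopologicalSpace
noncomputable section

namespace Groth.Agent.Lib.Helper28.PullbackInv

open Groth.Agent.Lib.Helper28 Groth.Agent.Lib.Helper28.QCohLoc Groth.Agent.Lib.Helper28.GenLocus

variable {X X' : Scheme.{u}}

/-- in a quasi-affine open `W`, every point has an affine neighbourhood of the form `D(a)`, `a ∈ Γ(X, W)` -/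
theorem exists_basicOpen_of_isQuasiAffine (W : X.Opens) (hW : Scheme.IsQuasiAffine (W : Scheme.{u})) (x : X)
    (hx : x ∈ W) : ∃ a : Γ(X, W), x ∈ X.basicOpen a ∧ IsAffineOpen (X.basicOpen a) := by
  obtain ⟨_, ⟨r, hr, rfl⟩, hxr, -⟩ := Opens.isBasis_iff_nbhd.1
    (Scheme.IsQuasiAffine.isBasis_basicOpen (W : Scheme.{u})) (U := ⊤) (x := ⟨x, hx⟩) trivial
  have haff : IsAffineOpen (W.ι ''ᵁ (W : Scheme.{u}).basicOpen r) := hr.image_of_isOpenImmersion W.ι
  obtain ⟨a₀, ha₀⟩ : ∃ a₀ : Γ(X, W.ι ''ᵁ ⊤), X.basicOpen a₀ = W.ι ''ᵁ (W : Scheme.{u}).basicOpen r :=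
    ⟨r, (Scheme.Opens.ι_image_basicOpen (U := W) r).symm⟩
  have hle : W ≤ W.ι ''ᵁ ⊤ := le_of_eq W.ι_image_top.symm
  have hb : X.basicOpen (resO hle a₀) = X.basicOpen a₀ := by
    rw [basicOpen_resO]
    apply inf_eq_right.2
    exact (X.basicOpen_le _).trans (le_of_eq W.ι_image_top)
  refine ⟨resO hle a₀, ?_, ?_⟩
  · rw [hb, ha₀]
    exact ⟨⟨x, hx⟩, hxr, rfl⟩
  · rw [hb, ha₀]
    exact haff

/-- **the inverse image of an ample module along a quasi-affine morphism is ample** -/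
theorem isAmple_pullback_of_quasiAffine (g : X' ⟶ X) [CompactSpace X'] [QuasiSeparatedSpace X']
    (hg : ∀ O : X.Opens, IsAffineOpen O → Scheme.IsQuasiAffine ((g ⁻¹ᵁ O : X'.Opens) : Scheme.{u}))
    (L : X.Modules) (hA : CohB1.IsAmple L) :
    CohB1.IsAmple ((Scheme.Modules.pullback g).obj L) := by
  have hL' := isInvertible_pullback g hA.1
  refine ⟨hL', inferInstance, fun x' => ?_⟩
  obtain ⟨m, s, hxs, haff⟩ := hA.2.2 (g.base x')
  obtain ⟨t, ht⟩ := exists_section_pullback_tensorPow g hA.1 (m + 1) s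
  have hW : Scheme.IsQuasiAffine ((CohB1.genLocus _ t : X'.Opens) : Scheme.{u}) := by
    rw [ht]; exact hg _ haff
  have hxW : x' ∈ CohB1.genLocus _ t := by rw [ht]; exact hxs
  obtain ⟨a, hxa, haaff⟩ := exists_basicOpen_of_isQuasiAffine _ hW x' hxW
  have hM := isInvertible_tensorPow hL' (m + 1)
  obtain ⟨k, t', ht'⟩ := exists_extension hM t a
  have h1 : CohB1.genLocus _ t' ⊓ CohB1.genLocus _ t = X'.basicOpen a :=
    genLocus_inf_eq t' _ _ (isGen_gpow (isGen_genLocus t) k) a ht'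
  obtain ⟨ψ, -⟩ := exists_tensorPow_tensorPow_iso hL' (m + 1) (k + 1) ((m * (k + 1) + k) + 1) (by ring)
  let t'' : Coh.structureModule X' ⟶
      CohB1.tensorPow (CohB1.tensorPow ((Scheme.Modules.pullback g).obj L) (m + 1)) (k + 1) := smulSec t' t
  have h2 : CohB1.genLocus _ (t'' ≫ ψ.hom) = X'.basicOpen a := by
    refine (AmpleUnit.genLocus_comp_iso t'' ψ).trans ?_
    exact (genLocus_smulSec (isInvertible_tensorPow hM k) hM t' t).trans h1
  refine ⟨m * (k + 1) + k, t'' ≫ ψ.hom, ?_⟩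
  rw [h2]
  exact ⟨hxa, haaff⟩

end Groth.Agent.Lib.Helper28.PullbackInv

namespace Groth.Agent.Lib.Helper28.PullbackInv

open Groth.Agent.Lib.Helper28 Groth.Agent.Lib.Helper28.QCohLoc Groth.Agent.Lib.Helper28.GenLocus

variable {X X' : Scheme.{u}}

theorem isQuasiAffine_morphismRestrict_preimage (g : X' ⟶ X)
    (hg : ∀ O : X.Opens, IsAffineOpen O → Scheme.IsQuasiAffine ((g ⁻¹ᵁ O : X'.Opens) : Scheme.{u}))
    (U : X.Opens) (O : (U : Scheme.{u}).Opens) (hO : IsAffineOpen O) :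
    Scheme.IsQuasiAffine (((g ∣_ U) ⁻¹ᵁ O : (g ⁻¹ᵁ U : Scheme.{u}).Opens) : Scheme.{u}) := by
  have h1 : IsAffineOpen (U.ι ''ᵁ O) := hO.image_of_isOpenImmersion U.ι
  have h2 := hg _ h1
  rw [← image_morphismRestrict_preimage] at h2
  have := h2
  exact Scheme.IsQuasiAffine.of_isAffineHom (Scheme.Hom.isoImage (g ⁻¹ᵁ U).ι ((g ∣_ U) ⁻¹ᵁ O)).hom

theorem quasiSeparated_of_quasiAffine (g : X' ⟶ X)
    (hg : ∀ O : X.Opens, IsAffineOpen O → Scheme.IsQuasiAffine ((g ⁻¹ᵁ O : X'.Opens) : Scheme.{u})) :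
    QuasiSeparated g := by
  refine HasAffineProperty.of_iSup_eq_top (P := @QuasiSeparated) (fun U : X.affineOpens => U)
    (iSup_affineOpens_eq_top X) (fun U => ?_)
  have := hg U.1 U.2
  show QuasiSeparatedSpace ((g ⁻¹ᵁ U.1 : X'.Opens) : Scheme.{u})
  infer_instance

/-- relative version -/
theorem isRelAmple_pullback_of_quasiAffine {Y : Scheme.{u}} (f : X ⟶ Y) (g : X' ⟶ X)
    (hg : Mor2.IsQuasiAffine g) (L : X.Modules) (hL : RelAmple.IsRelAmple f L) :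
    RelAmple.IsRelAmple (g ≫ f) ((Scheme.Modules.pullback g).obj L) := by
  have := hL.1
  have := hg.1
  refine ⟨inferInstance, fun V => ?_⟩
  have hA := hL.2 V
  haveI hcomp : CompactSpace ((g ⁻¹ᵁ (f ⁻¹ᵁ V.1) : X'.Opens) : Scheme.{u}) :=
    isCompact_iff_compactSpace.mp
      (QuasiCompact.isCompact_preimage (f := g ≫ f) _ V.1.isOpen V.2.isCompact)
  have : ((f ⁻¹ᵁ V.1 : X.Opens) : Scheme.{u}).IsSeparated := isSeparated_of_isAmple hA
  have hg' := isQuasiAffine_morphismRestrict_preimage g hg.2 (f ⁻¹ᵁ V.1)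
  have := quasiSeparated_of_quasiAffine _ hg'
  have : QuasiSeparatedSpace ((g ⁻¹ᵁ (f ⁻¹ᵁ V.1) : X'.Opens) : Scheme.{u}) :=
    quasiSeparatedSpace_of_quasiSeparated (g ∣_ (f ⁻¹ᵁ V.1))
  have h2 := isAmple_pullback_of_quasiAffine (g ∣_ (f ⁻¹ᵁ V.1)) hg' _ hA
  exact AmpleIso.isAmple_of_iso ((restrictPullbackIso g (f ⁻¹ᵁ V.1)).app L).symm h2

end Groth.Agent.Lib.Helper28.PullbackInv
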