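import Groth.Agent.Lib.Helper28.RLPsiV4

set_option autoImplicit false
universe u
open CategoryTheory CategoryTheory.Limits AlgebraicGeometry Opposite TopologicalSpace
open HomogeneousLocalization
open scoped HomogeneousIdeal
noncomputable section

namespace Groth.Agent.Lib.Helper28.RLPsiV

open Groth.Agent.Lib.Helper28 Groth.Agent.Lib.Helper28.QCohLoc Groth.Agent.Lib.Helper28.TraceAlg
open Groth.Agent.Lib.Helper28.GenLocus Groth.Agent.Lib.Helper28.SymAlg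
open Groth.Agent.Lib.Helper28.RLPsi Groth.Agent.Lib.Helper28.RelTwistVal Groth.Agent.Lib.Helper28.RLPsiU
open Groth.Agent.Lib.Helper28.PullbackInv

attribute [local instance] algAt

section imm

theorem affine_surj_of_comp {X Z P : Scheme.{u}} (f : X ⟶ Z) (ι : Z ⟶ P) [IsClosedImmersion f]
    [IsOpenImmersion ι] (W : P.Opens) (hW : IsAffineOpen W) (hle : W ≤ ι.opensRange) :
    IsAffineOpen ((f ≫ ι) ⁻¹ᵁ W) ∧ Function.Surjective ((f ≫ ι).app W).hom := by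
  have hW' : IsAffineOpen (ι ⁻¹ᵁ W) := hW.preimage_of_isOpenImmersion ι hle
  constructor
  · rw [Scheme.Hom.comp_preimage]
    exact hW'.preimage f
  · have h1 : (f ≫ ι).app W = ι.app W ≫ f.app (ι ⁻¹ᵁ W) := Scheme.Hom.comp_app f ι W
    have hiso : IsIso (ι.app W) := Scheme.Hom.isIso_app ι W hle
    intro y
    obtain ⟨b, hb⟩ := Scheme.Hom.app_surjective f (ι ⁻¹ᵁ W) hW' y
    obtain ⟨a, ha⟩ := (ConcreteCategory.bijective_of_isIso (ι.app W)).2 b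
    refine ⟨a, ?_⟩
    rw [h1]
    show (f.app (ι ⁻¹ᵁ W)).hom ((ι.app W).hom a) = y
    rw [← hb]
    exact congrArg _ ha

/-- over an affine open inside the coborder range, an immersion is a closed immersion of affine schemes -/
theorem affine_surj_of_isImmersion {X P : Scheme.{u}} (i : X ⟶ P) [IsImmersion i] (W : P.Opens)
    (hW : IsAffineOpen W) (hle : W ≤ i.coborderRange) :
    IsAffineOpen (i ⁻¹ᵁ W) ∧ Function.Surjective (i.app W).hom := by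
  have h := affine_surj_of_comp i.liftCoborder i.coborderRange.ι W hW
    (by rw [Scheme.Opens.opensRange_ι]; exact hle)
  have key : ∀ i' : X ⟶ P, i' = i.liftCoborder ≫ i.coborderRange.ι →
      IsAffineOpen (i' ⁻¹ᵁ W) ∧ Function.Surjective (i'.app W).hom := by
    intro i' hi'
    subst hi'
    exact h
  exact key i i.liftCoborder_ι.symm

theorem mem_coborderRange {X P : Scheme.{u}} (i : X ⟶ P) [IsImmersion i] (x : X) : i x ∈ i.coborderRange := by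
  have h1 : i.coborderRange.ι (i.liftCoborder x) = i x :=
    congrArg (fun k : X ⟶ P => k x) i.liftCoborder_ι
  rw [← h1]
  exact (i.liftCoborder x).2

end imm

section cond3

variable {X Y P' : Scheme.{u}} (i : X ⟶ P') {p' : P' ⟶ Y} {L : X.Modules} [L.IsQuasicoherent]
  {E' : Y.Modules} [E'.IsQuasicoherent]
  {𝒮' : RelProj.QCGrAlg Y} {j' : E' ⟶ 𝒮'.toModule} (hS' : RelProj.IsGrSymAlg E' 𝒮' j')
  {chart' : ∀ (U : Y.Opens) (hU : IsAffineOpen U), (((p' ⁻¹ᵁ U : P'.Opens) : Scheme.{u}) ≅ Proj (𝒮'.deg U hU))}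
  (hP' : RelProj.IsRelProj 𝒮' p' chart')
  {O1 : P'.Modules}
  {lam : ∀ (U : Y.Opens) (hU : IsAffineOpen U),
    O1 ⟶ (Scheme.Modules.pushforward (RelProj.emb p' chart' U hU)).obj (GrTwist.twist (𝒮'.deg U hU) ((1 : ℕ) : ℤ))}
  (hO : RelProj.IsRelTwist 𝒮' p' chart' ((1 : ℕ) : ℤ) O1 lam)
  (e : L ≅ (Scheme.Modules.pullback i).obj O1)
  {𝒮L : RelProj.QCGrAlg X} {jL : L ⟶ 𝒮L.toModule} (hjL : RelProj.IsGrSymAlg L 𝒮L jL)
  {𝒜 : RelProj.QCGrAlg Y} (jE : (Scheme.Modules.pushforward (i ≫ p')).obj L ⟶ 𝒜.toModule)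
  (h𝒜 : RelProj.IsGrSymAlg ((Scheme.Modules.pushforward (i ≫ p')).obj L) 𝒜 jE)
  (u : RelProj.QGrHom (i ≫ p') 𝒜 𝒮L)
  (hu : ∀ (U : Y.Opens) (x : Γ((Scheme.Modules.pushforward (i ≫ p')).obj L, U)),
      (u.app U).hom ((jE.app U) x) = (jL.app ((i ≫ p') ⁻¹ᵁ U)) x)
  {U : Y.Opens} (hU : IsAffineOpen U)

theorem inf_le_WPU_mul (a b : 𝒮'.presheaf.obj (op U)) :
    WPU p' chart' hU a ⊓ WPU p' chart' hU b ≤ WPU p' chart' hU (a * b) := by
  rintro _ ⟨⟨z, hz, rfl⟩, hzb⟩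
  have ha : a ∉ z.asHomogeneousIdeal := (Proj.mem_basicOpen _ a z).1 hz
  have hb : b ∉ z.asHomogeneousIdeal := (mem_WPU_iff hU b z).1 hzb
  refine (mem_WPU_iff hU (a * b) z).2 (fun h => ?_)
  rcases z.isPrime.mem_or_mem h with h1 | h1
  · exact ha h1
  · exact hb h1

include hu in
/-- the local identity behind condition (iii) -/
theorem FV_eq_of_readsO (e₀ : Γ(E', U)) {V : X.Opens}
    (hV1 : V ≤ i ⁻¹ᵁ WPU p' chart' hU (asR 𝒮'.toQCAlg (j'.app U e₀)))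
    {d : ℕ} (H : 𝒮'.presheaf.obj (op U)) (hH : H ∈ 𝒮'.deg U hU d)
    (hVH : V ≤ i ⁻¹ᵁ WPU p' chart' hU H)
    (c₀ : Γ(P', WPU p' chart' hU H)) (n : ℕ) (G : 𝒮'.presheaf.obj (op U)) (hG : G ∈ 𝒮'.deg U hU (n * d))
    (hr : ReadsO p' chart' hU c₀ G (H ^ n)) :
    FV i hS' hP' hO e jE u hU e₀ hV1 G =
      (𝒮L.str.app (op V)).hom ((i.appLE _ V hVH).hom c₀) * FV i hS' hP' hO e jE u hU e₀ hV1 H ^ n := by
  obtain ⟨cH, hrH, hFH⟩ := exists_reads_FV i hS' hP' hO e jE u hu hU e₀ hV1 H hH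
  obtain ⟨cG, hrG, hFG⟩ := exists_reads_FV i hS' hP' hO e jE u hu hU e₀ hV1 G hG
  rw [hFH, hFG, mul_pow, ← pow_mul, ← mul_assoc, ← map_pow, ← map_mul, mul_comm d n]
  congr 2
  have hVT : V ≤ i ⁻¹ᵁ (WPU p' chart' hU H ⊓ WPU p' chart' hU (asR 𝒮'.toQCAlg (j'.app U e₀))) := fun x hx => ⟨hVH hx, hV1 hx⟩
  have e1 : ∀ c : Γ(P', WPU p' chart' hU (asR 𝒮'.toQCAlg (j'.app U e₀))), (i.appLE _ V hV1).hom c =
      (i.appLE _ V hVT).hom (resO inf_le_right c) := by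
    intro c
    have h := Scheme.Hom.map_appLE i hVT (homOfLE (inf_le_right :
      WPU p' chart' hU H ⊓ WPU p' chart' hU (asR 𝒮'.toQCAlg (j'.app U e₀)) ≤ WPU p' chart' hU (asR 𝒮'.toQCAlg (j'.app U e₀)))).op
    exact (congrArg (fun k => k.hom c) h).symm
  have e2 : ∀ c : Γ(P', WPU p' chart' hU H), (i.appLE _ V hVH).hom c =
      (i.appLE _ V hVT).hom (resO inf_le_left c) := by
    intro c
    have h := Scheme.Hom.map_appLE i hVT (homOfLE (inf_le_left :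
      WPU p' chart' hU H ⊓ WPU p' chart' hU (asR 𝒮'.toQCAlg (j'.app U e₀)) ≤ WPU p' chart' hU H)).op
    exact (congrArg (fun k => k.hom c) h).symm
  rw [e1 cG, e1 cH, e2 c₀, ← map_pow, ← map_mul]
  congr 1
  have hT : WPU p' chart' hU H ⊓ WPU p' chart' hU (asR 𝒮'.toQCAlg (j'.app U e₀)) ≤ WPU p' chart' hU (H ^ n * ((asR 𝒮'.toQCAlg (j'.app U e₀)) ^ d) ^ n) := by
    refine le_trans ?_ (inf_le_WPU_mul hU (H ^ n) (((asR 𝒮'.toQCAlg (j'.app U e₀)) ^ d) ^ n))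
    refine le_inf (inf_le_left.trans (WPU_le_pow hU H n)) (inf_le_right.trans ?_)
    exact (WPU_le_pow hU (asR 𝒮'.toQCAlg (j'.app U e₀)) d).trans (WPU_le_pow hU ((asR 𝒮'.toQCAlg (j'.app U e₀)) ^ d) n)
  have r1 := (ReadsO.self hU (W₁ := WPU p' chart' hU H ⊓ WPU p' chart' hU (asR 𝒮'.toQCAlg (j'.app U e₀))) (H ^ n)).mul
    (hrG.resO inf_le_right)
  have r2 := (hr.resO (inf_le_left : WPU p' chart' hU H ⊓ WPU p' chart' hU (asR 𝒮'.toQCAlg (j'.app U e₀)) ≤ _)).mul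
    ((hrH.resO (inf_le_right : WPU p' chart' hU H ⊓ WPU p' chart' hU (asR 𝒮'.toQCAlg (j'.app U e₀)) ≤ _)).pow n)
  rw [one_mul, mul_comm (H ^ n) G, pow_mul'] at r1
  exact ReadsO.unique hT r1 r2

include hjL hu h𝒜 in
/-- **condition (iii)** for `Θ(H)` when `D₊(H)` lies in the coborder range of the immersion `i` -/
theorem cond3W_theta [IsImmersion i] {d : ℕ} (hd : 0 < d) (H : 𝒮'.presheaf.obj (op U))
    (hH : H ∈ 𝒮'.deg U hU d) (hle : WPU p' chart' hU H ≤ i.coborderRange) :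
    Cond3W u hU d (theta i hS' hP' hO e (jE := jE) hU H) (i ⁻¹ᵁ WPU p' chart' hU H)
      (i.preimage_mono (WPU_le hU H)) := by
  intro φ
  obtain ⟨-, hsurj⟩ := affine_surj_of_isImmersion i (WPU p' chart' hU H)
    (isAffineOpen_WPU p' chart' hU hd H hH) hle
  obtain ⟨c₀, rfl⟩ := hsurj φ
  obtain ⟨n, hn, G, hG, hr⟩ := exists_readsO_of_fn hU hd H hH c₀
  refine ⟨n, hn, theta i hS' hP' hO e (jE := jE) hU G, theta_mem i hS' hP' hO e h𝒜 hU hG, ?_⟩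
  -- local data
  have hloc : ∀ x : (i ⁻¹ᵁ WPU p' chart' hU H : X.Opens), ∃ (e₀ : Γ(E', U)) (V : X.Opens),
      x.1 ∈ V ∧ V ≤ i ⁻¹ᵁ WPU p' chart' hU H ∧
        V ≤ i ⁻¹ᵁ WPU p' chart' hU (asR 𝒮'.toQCAlg (j'.app U e₀)) := by
    rintro ⟨x, hx⟩
    have hx' : i x ∈ WPU p' chart' hU H := hx
    obtain ⟨z, hz, hzx⟩ := hx'
    obtain ⟨e₀, he₀⟩ := exists_deg_one_not_mem hS' hU z
    have hix : i x ∈ WPU p' chart' hU (asR 𝒮'.toQCAlg (j'.app U e₀)) := by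
      rw [← hzx]
      exact (mem_WPU_iff hU _ z).2 he₀
    refine ⟨e₀, i ⁻¹ᵁ WPU p' chart' hU H ⊓ i ⁻¹ᵁ WPU p' chart' hU (asR 𝒮'.toQCAlg (j'.app U e₀)),
      ⟨hx, hix⟩, inf_le_left, inf_le_right⟩
  choose e₀ V hxV hVH hV1 using hloc
  let F : TopCat.Sheaf CommRingCat X.carrier := ⟨𝒮L.presheaf, 𝒮L.isSheaf⟩
  refine TopCat.Sheaf.eq_of_locally_eq' F V (i ⁻¹ᵁ WPU p' chart' hU H)
    (fun x => homOfLE (hVH x)) ?_ _ _ (fun x => ?_)
  · intro a ha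
    exact Opens.mem_iSup.2 ⟨⟨a, ha⟩, hxV ⟨a, ha⟩⟩
  · show rS 𝒮L (hVH x) _ = rS 𝒮L (hVH x) _
    rw [rS_mul, rS_pow, rS_str, rS_tauU, rS_tauU]
    exact (FV_eq_of_readsO i hS' hP' hO e jE u hu hU (e₀ x) (hV1 x) H hH (hVH x) c₀ n G hG hr).symm

variable {P PL : Scheme.{u}}
  (p : P ⟶ Y) (chart : ∀ (U : Y.Opens) (hU : IsAffineOpen U), (((p ⁻¹ᵁ U : P.Opens) : Scheme.{u}) ≅ Proj (𝒜.deg U hU)))
  (hP : RelProj.IsRelProj 𝒜 p chart)
  (pL : PL ⟶ X)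
  (chartL : ∀ (U : X.Opens) (hU : IsAffineOpen U), (((pL ⁻¹ᵁ U : PL.Opens) : Scheme.{u}) ≅ Proj (𝒮L.deg U hU)))
  (hPL : RelProj.IsRelProj 𝒮L pL chartL)
  (r : ((RelProj.domQ u pL chartL : PL.Opens) : Scheme.{u}) ⟶ P)
  (hr : RelProj.IsProjQMapOn u p chart pL chartL (RelProj.domQ u pL chartL) r)

include hjL hu h𝒜 hS' hP' hO e hP hPL hr in
/-- **a relatively very ample sheaf has `r_{L,σ}` everywhere defined and an immersion** -/
theorem immersion_of_veryAmple_data [IsImmersion i] (hL : PicF.IsInvertible L) :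
    RelProj.domQ u pL chartL = ⊤ ∧ IsImmersion r := by
  have hloc : ∀ x : X, ∃ (U : Y.Opens) (hU : IsAffineOpen U) (d : ℕ) (H : 𝒮'.presheaf.obj (op U)),
      0 < d ∧ H ∈ 𝒮'.deg U hU d ∧ i x ∈ WPU p' chart' hU H ∧ WPU p' chart' hU H ≤ i.coborderRange := by
    intro x
    obtain ⟨_, ⟨U, hU, rfl⟩, hxU, -⟩ := Y.isBasis_affineOpens.exists_subset_of_mem_open
      (show p' (i x) ∈ ((⊤ : Y.Opens) : Set Y) from trivial) (⊤ : Y.Opens).isOpen
    obtain ⟨z, hz⟩ := (RelProjQ.mem_range_emb p' chart' U hU (i x)).2 hxU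
    have hz' : (RelProj.emb p' chart' U hU).base z = i x := hz
    have hzc : z ∈ (RelProj.emb p' chart' U hU) ⁻¹ᵁ i.coborderRange := by
      show (RelProj.emb p' chart' U hU).base z ∈ i.coborderRange
      rw [hz']
      exact mem_coborderRange i x
    obtain ⟨d, H, hd, hH, hzH, hHle⟩ := exists_pos_basicOpen_le (𝒮'.deg U hU) _ z hzc
    refine ⟨U, hU, d, H, hd, hH, ?_, ?_⟩
    · rw [← hz']
      exact ⟨z, hzH, rfl⟩
    · rintro _ ⟨z', hz'H, rfl⟩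
      exact hHle hz'H
  choose U hU d H hd hH hxH hHle using hloc
  refine immersion_of_family hjL u p chart hP pL chartL hPL r hr hL U hU d
    (fun x => theta i hS' hP' hO e (jE := jE) (hU x) (H x)) ⟨fun x => ⟨hd x, ?_⟩, ?_, fun x => ?_, fun x => ?_⟩
  · exact theta_mem i hS' hP' hO e h𝒜 (hU x) (hH x)
  · refine top_le_iff.1 fun x _ => Opens.mem_iSup.2 ⟨x, ?_⟩
    rw [XTU_theta_eq i hS' hP' hO e hjL jE u hu (hU x) (H x) (hH x)]
    exact hxH x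
  · rw [XTU_theta_eq i hS' hP' hO e hjL jE u hu (hU x) (H x) (hH x)]
    exact (affine_surj_of_isImmersion i _ (isAffineOpen_WPU p' chart' (hU x) (hd x) (H x) (hH x)) (hHle x)).1
  · rw [cond3U_iff]
    exact cond3W_congr u (hU x) (d x) _
      (XTU_theta_eq i hS' hP' hO e hjL jE u hu (hU x) (H x) (hH x)).symm _ _
      (cond3W_theta i hS' hP' hO e hjL jE h𝒜 u hu (hU x) (hd x) (H x) (hH x) (hHle x))

end cond3

end Groth.Agent.Lib.Helper28.RLPsiV
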