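import Groth.Agent.Lib.Helper28.FTApprox5
import Groth.Agent.Lib.Helper28.QCohPush
import Groth.Agent.S12686
import Groth.Agent.S8259

/-!
# A relatively very ample sheaf is very ample through a finite type submodule of `q_* L` (EGA II 4.4.6) (part 6)
-/

set_option autoImplicit false
universe u
open CategoryTheory CategoryTheory.Limits AlgebraicGeometry Opposite TopologicalSpace
open scoped HomogeneousIdeal
noncomputable section

namespace Groth.Agent.Lib.Helper28.FTApprox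

open Groth.Agent.Lib.Helper28 Groth.Agent.Lib.Helper28.QCohLoc Groth.Agent.Lib.Helper28.TraceAlg
open Groth.Agent.Lib.Helper28.SymAlg
open Groth.Agent.Lib.Helper28.RLPsi Groth.Agent.Lib.Helper28.RLPsiU

section six

variable {Y X PL : Scheme.{u}} (q : X ⟶ Y) {L : X.Modules} [L.IsQuasicoherent]
  {𝒮L : RelProj.QCGrAlg X} {jL : L ⟶ 𝒮L.toModule} (hjL : RelProj.IsGrSymAlg L 𝒮L jL)
  (pL : PL ⟶ X)
  (chartL : ∀ (U : X.Opens) (hU : IsAffineOpen U), (((pL ⁻¹ᵁ U : PL.Opens) : Scheme.{u}) ≅ Proj (𝒮L.deg U hU)))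
  (hPL : RelProj.IsRelProj 𝒮L pL chartL)

omit [L.IsQuasicoherent] in
/-- a morphism carrying a relatively very ample sheaf is separated -/
theorem isSeparated_of_isRelVeryAmple (h : RelProj.IsRelVeryAmple q L) : IsSeparated q := by
  obtain ⟨E', hE', 𝒮', j', hS', P', p', chart', hP', O1, lam, hO, i, hi, hq, -⟩ := h
  subst hq
  have := hi
  have : IsSeparated p' := Groth.Agent.S8259.result 𝒮' p' chart' hP'
  infer_instance

include hjL hPL in
/-- **(EGA II 4.4.6)** -/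
theorem exists_ft_sub_pushforward [CompactSpace Y] [QuasiSeparatedSpace Y] [QuasiCompact q]
    [LocallyOfFiniteType q] (hL : PicF.IsInvertible L) (h : RelProj.IsRelVeryAmple q L) :
    ∃ (E : Y.Modules) (_ : Coh.IsQCoh E) (_ : CohB1.IsFT E) (ι : E ⟶ (Scheme.Modules.pushforward q).obj L)
      (_ : ∀ U : Y.Opens, Function.Injective (ι.app U))
      (𝒯 : RelProj.QCGrAlg Y) (jE : E ⟶ 𝒯.toModule) (_ : RelProj.IsGrSymAlg E 𝒯 jE)
      (u : RelProj.QGrHom q 𝒯 𝒮L)
      (_ : ∀ (U : Y.Opens) (x : Γ(E, U)), (u.app U).hom ((jE.app U) x) = (jL.app (q ⁻¹ᵁ U)) ((ι.app U) x)),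
      SurjCond jE u ∧
      ∀ (P : Scheme.{u}) (p : P ⟶ Y)
          (chart : ∀ (U : Y.Opens) (hU : IsAffineOpen U), (((p ⁻¹ᵁ U : P.Opens) : Scheme.{u}) ≅ Proj (𝒯.deg U hU)))
          (_ : RelProj.IsRelProj 𝒯 p chart)
          (r : ((RelProj.domQ u pL chartL : PL.Opens) : Scheme.{u}) ⟶ P)
          (_ : RelProj.IsProjQMapOn u p chart pL chartL (RelProj.domQ u pL chartL) r),
        RelProj.domQ u pL chartL = ⊤ ∧ IsImmersion r := by
  have hsep : IsSeparated q := isSeparated_of_isRelVeryAmple q h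
  have hFq : ((Scheme.Modules.pushforward q).obj L).IsQuasicoherent := isQuasicoherent_pushforward q L
  have hQC := isQC_symPre_of_isQuasicoherent ((Scheme.Modules.pushforward q).obj L)
  have h𝒜 := isGrSymAlg ((Scheme.Modules.pushforward q).obj L) hQC
  have hφ1 : ∀ (U : Y.Opens) (m : Γ((Scheme.Modules.pushforward q).obj L, U)) (U' : X.Opens) (hU' : IsAffineOpen U')
      (hle : U' ≤ q ⁻¹ᵁ U),
      (𝒮L.presheaf.map (homOfLE hle).op).hom (phiR q 𝒮L.toQCAlg ((Scheme.Modules.pushforward q).map jL) U m) ∈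
        𝒮L.deg U' hU' 1 := by
    intro U m U' hU' hle
    have h1 : (𝒮L.presheaf.map (homOfLE hle).op).hom
        (phiR q 𝒮L.toQCAlg ((Scheme.Modules.pushforward q).map jL) U m) =
        asR 𝒮L.toQCAlg (jL.app U' (res L hle (show Γ(L, q ⁻¹ᵁ U) from m))) := by
      rw [app_res]
      rfl
    rw [h1]
    exact hjL.2 U' hU' _
  have hu : ∀ (U : Y.Opens) (x : Γ((Scheme.Modules.pushforward q).obj L, U)),
      ((symQGr q h𝒜 𝒮L ((Scheme.Modules.pushforward q).map jL) hφ1).app U).hom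
        (((grJ ((Scheme.Modules.pushforward q).obj L) hQC).app U) x) = (jL.app (q ⁻¹ᵁ U)) x := fun U x =>
    symQGr_j q h𝒜 𝒮L ((Scheme.Modules.pushforward q).map jL) hφ1 U x
  have hP := RelProjExists.isRelProj (grSymAlg ((Scheme.Modules.pushforward q).obj L) hQC)
  obtain ⟨r, hr, -⟩ := ProjQRel.existsUnique_glueW (symQGr q h𝒜 𝒮L ((Scheme.Modules.pushforward q).map jL) hφ1)
    _ _ hP pL chartL hPL
  have hrOn := ProjQRel.isProjQMapOn_of_glue (symQGr q h𝒜 𝒮L ((Scheme.Modules.pushforward q).map jL) hφ1)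
    _ _ pL chartL r hr
  obtain ⟨htop, himm⟩ := Groth.Agent.S12686.result q L hL inferInstance 𝒮L jL hjL pL chartL hPL hFq _ _ h𝒜 _ hu
    _ _ hP r hrOn h
  obtain ⟨E, hEq, hft, ι, hinj, 𝒯', jE, hE, u', hu', hs', H⟩ :=
    exists_ft_sub_of_immersion hjL h𝒜 _ _ _ hP pL chartL hPL r hrOn hL htop himm
  refine ⟨E, hEq, hft, ι, hinj, 𝒯', jE, hE, u', fun U x => ?_, hs', H⟩
  rw [hu' U x]
  exact hu U _

end six

end Groth.Agent.Lib.Helper28.FTApprox
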