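import Groth.Agent.Lib.Helper28.ImgAlg7
import Groth.Agent.Lib.Helper28.FTApprox6

/-!
# Proper + good family for some `Sym(E) → q_* Sym(L)` with `E` of finite type ⟹ projective (part 9)
-/

set_option autoImplicit false
universe u
open CategoryTheory CategoryTheory.Limits AlgebraicGeometry TopologicalSpace Opposite
open scoped HomogeneousIdeal
noncomputable section

namespace Groth.Agent.Lib.Helper28.ImgAlg

open Groth.Agent.Lib.Helper28 Groth.Agent.Lib.Helper28.QCohLoc Groth.Agent.Lib.Helper28.TraceAlg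
open Groth.Agent.Lib.Helper28.SymAlg
open Groth.Agent.Lib.Helper28.RLPsi Groth.Agent.Lib.Helper28.RLPsiU Groth.Agent.Lib.Helper28.FTApprox

section nine

variable {Y X PL : Scheme.{u}} (q : X ⟶ Y) {L : X.Modules} [L.IsQuasicoherent]
  {𝒮L : RelProj.QCGrAlg X} {jL : L ⟶ 𝒮L.toModule} (hjL : RelProj.IsGrSymAlg L 𝒮L jL)
  (pL : PL ⟶ X)
  (chartL : ∀ (U : X.Opens) (hU : IsAffineOpen U), (((pL ⁻¹ᵁ U : PL.Opens) : Scheme.{u}) ≅ Proj (𝒮L.deg U hU)))
  (hPL : RelProj.IsRelProj 𝒮L pL chartL)
  {E : Y.Modules} [E.IsQuasicoherent]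
  {𝒯 : RelProj.QCGrAlg Y} {jE : E ⟶ 𝒯.toModule} (hE : RelProj.IsGrSymAlg E 𝒯 jE)
  (u : RelProj.QGrHom q 𝒯 𝒮L)

include hjL hPL hE in
/-- **a proper morphism with an invertible sheaf `L`, a quasi-coherent module `E` of finite type on the base and a graded
`q`-morphism `Sym(E) → q_* Sym(L)` admitting a good family is projective** -/
theorem isProjective_of_goodFamily [IsProper q] (hL : PicF.IsInvertible L)
    [SheafOfModules.IsFiniteType.{u} (R := Y.ringCatSheaf) E]
    {ι : Type u} (U : ι → Y.Opens) (hU : ∀ a, IsAffineOpen (U a)) (n : ι → ℕ)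
    (s : ∀ a, 𝒯.presheaf.obj (op (U a))) (hfam : IsGoodFamily u U hU n s) :
    RelProj.IsProjective q := by
  classical
  have hs := surjCond_of_goodFamily hjL hE u pL chartL hPL hL U hU n s hfam
  -- the image algebra
  have hP := RelProjExists.isRelProj (imgGr u)
  obtain ⟨r', hr', -⟩ := ProjQRel.existsUnique_glueW (imgιGr u) _ _ hP pL chartL hPL
  have hr'On := ProjQRel.isProjQMapOn_of_glue (imgιGr u) _ _ pL chartL r' hr'
  obtain ⟨htop', hoi, hdom⟩ := openImmersion_img hjL u _ _ hP pL chartL hPL r' hr'On hL U hU n s hfam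
  have hO := RelTwistEx.isRelTwist hP 1
  have hsurj1 : SurjCond1 (imgιGr u) := by
    intro x
    obtain ⟨U₁, hU₁, e, V, hV, hVU, hxV, hsub⟩ := hs x
    exact ⟨U₁, hU₁, ((imgπ u.toQHom).hom.app (op U₁)).hom ((jE.app U₁) e),
      ⟨_, hE.2 U₁ hU₁ e, rfl⟩, V, hV, hVU, hxV, hsub⟩
  obtain ⟨i, ⟨h1, h2, hi⟩, hip, -⟩ := exists_mor_of_surjCond1 hjL (imgιGr u) _ _ hP pL chartL hPL r' hr'On hO hL hsurj1
  have hoi' : IsOpenImmersion i := by
    rw [hi]
    infer_instance
  have hdom' : IsDominant i := by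
    rw [hi]
    infer_instance
  have hsep : IsSeparated (RelProjExists.p (imgGr u)) := Groth.Agent.S8259.result _ _ _ hP
  have hprop : IsProper i := by
    have : IsProper (i ≫ RelProjExists.p (imgGr u)) := by rw [hip]; infer_instance
    exact IsProper.of_comp i (RelProjExists.p (imgGr u))
  have hsurj : Surjective i := by
    constructor
    have hcl : IsClosedMap i := i.isClosedMap
    have h1 : IsClosed (Set.range i) := hcl.isClosed_range
    have h2 : Set.range i = Set.univ := by
      rw [← h1.closure_eq]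
      exact hdom'.denseRange.closure_range
    exact Set.range_eq_univ.1 h2
  have hiso : IsIso i := (isIso_iff_isOpenImmersion_and_surjective i).2 ⟨hoi', hsurj⟩
  exact ⟨imgGr u, _, _, _, asIso i, isGenDegOne_imgGr u (isGenDegOne_of_isGrSymAlg hE),
    isFTDeg_imgGr u 1 (isFTDeg_one_of_isGrSymAlg hE), hP, hip⟩

end nine

section qproj

variable {Y X : Scheme.{u}} (q : X ⟶ Y)

/-- **a proper morphism with a relatively very ample sheaf over a quasi-compact quasi-separated base is projective** -/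
theorem isProjective_of_isProper_of_isRelVeryAmple' [CompactSpace Y] [QuasiSeparatedSpace Y] [IsProper q]
    {L : X.Modules} (hL : PicF.IsInvertible L) (hva : RelProj.IsRelVeryAmple q L) : RelProj.IsProjective q := by
  classical
  have hLq : L.IsQuasicoherent := InvQC.isQuasicoherent_of_isInvertible L hL
  have hQCL := isQC_symPre_of_isQuasicoherent L
  have hjL := isGrSymAlg L hQCL
  have hPL := RelProjExists.isRelProj (grSymAlg L hQCL)
  obtain ⟨E, hEq, hEft, ι, -, 𝒯, jE, hE, u, hu, hs, himm⟩ := exists_ft_sub_pushforward q hjL _ _ hPL hL hva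
  have : E.IsQuasicoherent := hEq
  have : SheafOfModules.IsFiniteType.{u} (R := Y.ringCatSheaf) E := hEft
  have hP := RelProjExists.isRelProj 𝒯
  obtain ⟨r, hr, -⟩ := ProjQRel.existsUnique_glueW u _ _ hP _ _ hPL
  have hrOn := ProjQRel.isProjQMapOn_of_glue u _ _ _ _ r hr
  obtain ⟨htop, hi⟩ := himm _ _ _ hP r hrOn
  obtain ⟨ι₀, U, hU, n, s, hfam⟩ := exists_family_of_immersion hjL u _ _ hP _ _ hPL r hrOn hL htop hi
  exact isProjective_of_goodFamily q hjL _ _ hPL hE u hL U hU n s hfam

end qproj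

end Groth.Agent.Lib.Helper28.ImgAlg
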