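import Groth.Agent.Lib.Helper28.RelAmpSec

/-!
# Relatively ample ⟹ large tensor powers are relatively very ample (projective bundle form), over a quasi-compact base
-/

set_option autoImplicit false
universe u
open CategoryTheory CategoryTheory.Limits AlgebraicGeometry TopologicalSpace Opposite
noncomputable section

namespace Groth.Agent.Lib.Helper28.RelAmpSec

open Groth.Agent.Lib.Helper28 Groth.Agent.Lib.Helper28.QCohLoc
open Groth.Agent.Lib.Helper28.GenLocus Groth.Agent.Lib.Helper28.AmpleCompose Groth.Agent.Lib.Helper28.AmpleLocal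
open Groth.Agent.Lib.Helper28.TensorGen Groth.Agent.Lib.Helper28.SecVA

variable {Y X : Scheme.{u}}

/-- a morphism carrying a relatively ample module is quasi-separated -/
theorem quasiSeparated_of_isRelAmple (f : X ⟶ Y) (L : X.Modules) (h : RelAmple.IsRelAmple f L) :
    QuasiSeparated f := by
  rw [HasAffineProperty.eq_targetAffineLocally (P := @QuasiSeparated)]
  intro U
  have : ((f ⁻¹ᵁ U.1 : X.Opens) : Scheme.{u}).IsSeparated := isSeparated_of_isAmple (h.2 U)
  show QuasiSeparatedSpace ((f ⁻¹ᵁ U.1 : X.Opens) : Scheme.{u})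
  infer_instance

/-- **(EGA II 4.6.11/4.6.13 (ii))** over a quasi-compact base, for `f` of finite type and `L` ample relative to `f`,
`L^n ⊗ L'` is very ample relative to `f` for all large `n` -/
theorem exists_forall_isRelVeryAmple [CompactSpace Y] (f : X ⟶ Y) [QuasiCompact f] [LocallyOfFiniteType f]
    {L L' : X.Modules} (hL : PicF.IsInvertible L) (hL' : PicF.IsInvertible L') (h : RelAmple.IsRelAmple f L) :
    ∃ n₀ : ℕ, ∀ n : ℕ, n₀ ≤ n →
      RelProj.IsRelVeryAmple f (CohB1.tensorMod (CohB1.tensorPow L n) L') := by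
  classical
  have hqs : QuasiSeparated f := quasiSeparated_of_isRelAmple f L h
  obtain ⟨F, hF⟩ := isCompact_univ.elim_finite_subcover (fun V : Y.affineOpens => ((V.1 : Y.Opens) : Set Y))
    (fun V => V.1.isOpen) (fun y _ => by
      obtain ⟨_, ⟨V, hV, rfl⟩, hyV, -⟩ := Y.isBasis_affineOpens.exists_subset_of_mem_open
        (show y ∈ ((⊤ : Y.Opens) : Set Y) from trivial) (⊤ : Y.Opens).isOpen
      exact Set.mem_iUnion.2 ⟨⟨V, hV⟩, hyV⟩)
  choose n₀ hn₀ using fun V : Y.affineOpens => exists_sections_over f hL hL' V.2 (h.2 V)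
  refine ⟨F.sup n₀, fun n hn => ?_⟩
  have key := fun V : F => hn₀ V.1 n ((Finset.le_sup V.2).trans hn)
  choose I D hD hDV s G hcov hgen hmax hG hrat using key
  refine isRelVeryAmple_of_sections f (isInvertible_tensorMod (isInvertible_tensorPow hL n) hL')
    (A := Σ V : F, I V) (fun a => a.1.1.1) (fun a => a.1.1.2) (fun a => D a.1 a.2) (fun a => hD a.1 a.2)
    (fun a => hDV a.1 a.2) ?_ (fun a => s a.1 a.2) (fun a => hgen a.1 a.2) (fun a => hmax a.1 a.2)
    (fun a => G a.1 a.2) (fun a => hG a.1 a.2) (fun a => hrat a.1 a.2)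
  intro x
  obtain ⟨V, hV⟩ := Set.mem_iUnion.1 (hF (Set.mem_univ (f x)))
  obtain ⟨hVF, hxV⟩ := Set.mem_iUnion.1 hV
  obtain ⟨i, hi⟩ := hcov ⟨V, hVF⟩ x hxV
  exact ⟨⟨⟨V, hVF⟩, i⟩, hi⟩

end Groth.Agent.Lib.Helper28.RelAmpSec
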