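import Groth.Agent.Lib.Helper28.RelProjGen1
import Groth.Agent.Lib.Helper28.RelTwistEx3
import Groth.Agent.Lib.Helper28.ProjMapG
import Groth.Agent.Lib.Helper28.ProjSpaceBasic

/-!
# A relative `Proj` of an algebra generated in degree one with `𝒮₁` of finite type is proper (helper28)

Chartwise, `Proj 𝒮(U)` is a closed subscheme of a projective space over `Γ(U)`.
-/

set_option autoImplicit false
universe u
open CategoryTheory CategoryTheory.Limits AlgebraicGeometry Opposite TopologicalSpace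
open scoped HomogeneousIdeal
open HomogeneousLocalization
noncomputable section

namespace Groth.Agent.Lib.Helper28.RelProjProper

open Groth.Agent.Lib.Helper28

section poly

variable (ι : Type u) (R : Type u) [CommRing R]

/-- the grading of a polynomial ring by total degree -/
abbrev pg : ℕ → Submodule R (MvPolynomial ι R) := MvPolynomial.homogeneousSubmodule ι R

instance : GradedAlgebra (pg ι R) := MvPolynomial.gradedAlgebra

theorem finiteType_zero [Finite ι] : Algebra.FiniteType (pg ι R 0) (MvPolynomial ι R) := by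
  have : IsScalarTower R (pg ι R 0) (MvPolynomial ι R) :=
    ⟨fun r s a => by
      change ((r • s : pg ι R 0) : MvPolynomial ι R) * a = r • ((s : MvPolynomial ι R) * a)
      rw [Submodule.coe_smul, smul_mul_assoc]⟩
  exact Algebra.FiniteType.of_restrictScalars_finiteType R _ _

theorem algebraMap_zero_surjective : Function.Surjective (algebraMap R (pg ι R 0)) := by
  rintro ⟨x, hx⟩
  have hx' : x ∈ (1 : Submodule R (MvPolynomial ι R)) := by
    rw [← MvPolynomial.homogeneousSubmodule_zero]; exact hx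
  obtain ⟨r, hr⟩ := Submodule.mem_one.mp hx'
  exact ⟨r, Subtype.ext hr⟩

set_option backward.isDefEq.respectTransparency false in
theorem isProper_toSpec [Finite ι] : IsProper (Proj.toSpecZero (pg ι R) ≫
    Spec.map (CommRingCat.ofHom (algebraMap R (pg ι R 0)))) := by
  have := finiteType_zero ι R
  have h2 : IsClosedImmersion (Spec.map (CommRingCat.ofHom (algebraMap R (pg ι R 0)))) :=
    IsClosedImmersion.spec_of_surjective _ (algebraMap_zero_surjective ι R)
  infer_instance

end poly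

section alg

variable {R A : Type u} [CommRing R] [CommRing A] (𝒜 : ℕ → AddSubgroup A) [GradedRing 𝒜]
  (φ : R →+* A) (hφ : ∀ r, φ r ∈ 𝒜 0) {ι : Type u} (x : ι → A) (hx : ∀ i, x i ∈ 𝒜 1)

include hφ hx in
theorem eval₂_mem {d : ℕ} {q : MvPolynomial ι R} (hq : q ∈ MvPolynomial.homogeneousSubmodule ι R d) :
    MvPolynomial.eval₂ φ x q ∈ 𝒜 d := by
  classical
  rw [MvPolynomial.eval₂_eq]
  refine sum_mem fun m hm => ?_
  have hdeg : m.degree = d := by
    have := (MvPolynomial.mem_homogeneousSubmodule d q).1 hq (MvPolynomial.mem_support_iff.1 hm)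
    rw [Finsupp.degree_eq_weight_one]
    exact this
  have h1 : ∏ i ∈ m.support, x i ^ m i ∈ 𝒜 (∑ i ∈ m.support, m i • 1) :=
    SetLike.prod_mem_graded 𝒜 (fun i => m i • 1) (fun i => x i ^ m i)
      (fun i _ => SetLike.pow_mem_graded (m i) (hx i))
  have h2 : (∑ i ∈ m.support, m i • 1) = d := by
    rw [← hdeg]
    simp [Finsupp.degree]
  rw [h2] at h1
  have := SetLike.mul_mem_graded (A := 𝒜) (hφ (MvPolynomial.coeff m q)) h1
  rwa [zero_add] at this

/-- evaluation at degree one elements, as a homomorphism of graded rings -/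
def gHom : MvPolynomial.homogeneousSubmodule ι R →+*ᵍ 𝒜 :=
  { MvPolynomial.eval₂Hom φ x with map_mem := fun hq => eval₂_mem 𝒜 φ hφ x hx hq }

theorem gHom_apply (q : MvPolynomial ι R) : gHom 𝒜 φ hφ x hx q = MvPolynomial.eval₂ φ x q := rfl

theorem gHom_C (r : R) : gHom 𝒜 φ hφ x hx (MvPolynomial.C r) = φ r := by
  rw [gHom_apply, MvPolynomial.eval₂_C]

include hφ hx in
/-- the algebra is generated in degree one with `𝒜₁` spanned by the `x i`: evaluation at `x` is onto in positive
degrees -/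
theorem exists_eval₂_eq [Fintype ι]
    (hgen : Subring.closure ((𝒜 0 : Set A) ∪ (𝒜 1 : Set A)) = ⊤)
    (hspan : ∀ y ∈ 𝒜 1, ∃ c : ι → R, y = ∑ i, φ (c i) * x i) :
    ∀ d : ℕ, ∀ y ∈ 𝒜 (d + 1), ∃ q ∈ MvPolynomial.homogeneousSubmodule ι R (d + 1),
      MvPolynomial.eval₂ φ x q = y := by
  classical
  have hgen' : Subring.closure ((𝒜 0 : Set A) ∪ Set.range x) = ⊤ := by
    rw [eq_top_iff, ← hgen]
    refine Subring.closure_le.2 ?_
    rintro a (ha | ha)
    · exact Subring.subset_closure (Or.inl ha)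
    · obtain ⟨c, rfl⟩ := hspan a ha
      refine Subring.sum_mem _ fun i _ => Subring.mul_mem _ ?_ ?_
      · exact Subring.subset_closure (Or.inl (hφ _))
      · exact Subring.subset_closure (Or.inr ⟨i, rfl⟩)
  intro d
  induction d with
  | zero =>
    intro y hy
    obtain ⟨c, rfl⟩ := hspan y hy
    refine ⟨∑ i, MvPolynomial.C (c i) * MvPolynomial.X i, ?_, ?_⟩
    · refine sum_mem fun i _ => ?_
      exact (MvPolynomial.mem_homogeneousSubmodule _ _).2 (MvPolynomial.isHomogeneous_C_mul_X _ _)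
    · rw [MvPolynomial.eval₂_sum]
      refine Finset.sum_congr rfl fun i _ => ?_
      rw [MvPolynomial.eval₂_mul, MvPolynomial.eval₂_C, MvPolynomial.eval₂_X]
  | succ d ih =>
    intro y hy
    have h1 := RelProjFT.sub_projZero_mem_span 𝒜 (Set.range x)
      (by rintro g ⟨i, rfl⟩; exact ⟨1, Nat.one_pos, hx i⟩) hgen' y
    have h0 : GradedRing.projZeroRingHom 𝒜 y = 0 := by
      show ((DirectSum.decompose 𝒜 y) 0 : A) = 0
      rw [DirectSum.decompose_of_mem_ne 𝒜 hy (by omega)]
    rw [h0, sub_zero] at h1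
    obtain ⟨b, hb⟩ := Ideal.mem_span_range_iff_exists_fun.1 h1
    have h2 : y = ∑ i, ((DirectSum.decompose 𝒜 (b i) (d + 1) : 𝒜 (d + 1)) : A) * x i := by
      have h3 : ((DirectSum.decompose 𝒜 y (d + 1 + 1) : 𝒜 (d + 1 + 1)) : A) = y :=
        DirectSum.decompose_of_mem_same 𝒜 hy
      rw [← h3, ← hb, DirectSum.decompose_sum, DFinsupp.finsetSum_apply, AddSubmonoidClass.coe_finsetSum]
      refine Finset.sum_congr rfl fun i _ => ?_
      rw [DirectSum.coe_decompose_mul_of_right_mem 𝒜 (d + 1 + 1) (hx i), if_pos (by omega)]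
      rfl
    choose q hq1 hq2 using fun i => ih ((DirectSum.decompose 𝒜 (b i) (d + 1) : 𝒜 (d + 1)) : A)
      (SetLike.coe_mem _)
    refine ⟨∑ i, q i * MvPolynomial.X i, ?_, ?_⟩
    · refine sum_mem fun i _ => ?_
      exact (MvPolynomial.mem_homogeneousSubmodule _ _).2
        (((MvPolynomial.mem_homogeneousSubmodule _ _).1 (hq1 i)).mul (MvPolynomial.isHomogeneous_X _ _))
    · rw [MvPolynomial.eval₂_sum, h2]
      refine Finset.sum_congr rfl fun i _ => ?_
      rw [MvPolynomial.eval₂_mul, MvPolynomial.eval₂_X, hq2]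

end alg

section projmap

variable {A B : Type u} [CommRing A] [CommRing B] {σ τ : Type u} [SetLike σ A] [AddSubgroupClass σ A]
  [SetLike τ B] [AddSubgroupClass τ B] {𝒜 : ℕ → σ} {ℬ : ℕ → τ}
  [GradedRing 𝒜] [GradedRing ℬ] (φ : 𝒜 →+*ᵍ ℬ)
  (hsurj : ∀ d : ℕ, ∀ y ∈ ℬ (d + 1), ∃ q ∈ 𝒜 (d + 1), φ q = y)

include hsurj in
theorem irrelevant_le_map_of_pos : ℬ₊ ≤ (𝒜₊).map φ := by
  rw [HomogeneousIdeal.irrelevant_le]
  intro i hi b hb
  change b ∈ Ideal.map φ (𝒜₊.toIdeal)
  obtain ⟨d, rfl⟩ : ∃ d, i = d + 1 := ⟨i - 1, by omega⟩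
  obtain ⟨q, hq, rfl⟩ := hsurj d b hb
  exact Ideal.mem_map_of_mem _ (HomogeneousIdeal.mem_irrelevant_of_mem _ hi hq)

include hsurj in
/-- `Away.map` of a graded homomorphism surjective in positive degrees is surjective. -/
theorem away_map_surjective_of_pos {i : ℕ} (hi : 0 < i) (s : A) (hs : s ∈ 𝒜 i) :
    Function.Surjective (Away.map φ s) := by
  classical
  intro z
  obtain ⟨n, y, hy, rfl⟩ := Away.mk_surjective ℬ (φ.2 hs) z
  have hy' : φ s * y ∈ ℬ ((n + 1) • i) := by
    have := SetLike.mul_mem_graded (A := ℬ) (φ.2 hs) hy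
    rwa [show i + n • i = (n + 1) • i by rw [add_smul, one_smul, add_comm]] at this
  obtain ⟨d, hd⟩ : ∃ d, (n + 1) • i = d + 1 := ⟨(n + 1) • i - 1, by
    have : 0 < (n + 1) • i := by rw [smul_eq_mul]; positivity
    omega⟩
  rw [hd] at hy'
  obtain ⟨x, hx, hxy⟩ := hsurj d _ hy'
  rw [← hd] at hx
  refine ⟨Away.mk 𝒜 hs (n + 1) x hx, ?_⟩
  rw [Away.map_mk]
  apply HomogeneousLocalization.val_injective
  rw [Away.val_mk, Away.val_mk, Localization.mk_eq_mk_iff, Localization.r_iff_exists]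
  refine ⟨1, ?_⟩
  simp only [OneMemClass.coe_one, one_mul]
  rw [hxy, pow_succ]
  change φ s ^ n * (φ s * y) = φ s ^ n * φ s * y
  ring

include hsurj in
set_option backward.isDefEq.respectTransparency false in
/-- `Proj.map` of a graded homomorphism surjective in positive degrees is a closed immersion. -/
theorem isClosedImmersion_map_of_pos (hφ : ℬ₊ ≤ (𝒜₊).map φ) :
    IsClosedImmersion (Proj.map φ hφ) := by
  refine ProjMapG.of_away φ hφ @IsClosedImmersion fun i hi s hs => ?_
  exact IsClosedImmersion.spec_of_surjective _ (away_map_surjective_of_pos φ hsurj hi s hs)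

end projmap

section proper

variable {R A : Type u} [CommRing R] [CommRing A] (𝒜 : ℕ → AddSubgroup A) [GradedRing 𝒜]
  {ι : Type u} [Finite ι] (ψ : MvPolynomial.homogeneousSubmodule ι R →+*ᵍ 𝒜)
  (hsurj : ∀ d : ℕ, ∀ y ∈ 𝒜 (d + 1), ∃ q ∈ MvPolynomial.homogeneousSubmodule ι R (d + 1), ψ q = y)

include hsurj in
set_option backward.isDefEq.respectTransparency false in
theorem isProper_comp (g : CommRingCat.of R ⟶ CommRingCat.of (𝒜 0))
    (hg : ∀ r : R, ((g.hom r : 𝒜 0) : A) = ψ (MvPolynomial.C r)) :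
    IsProper (Proj.toSpecZero 𝒜 ≫ Spec.map g) := by
  have hirr := irrelevant_le_map_of_pos ψ hsurj
  have h1 : IsClosedImmersion (Proj.map ψ hirr) := isClosedImmersion_map_of_pos ψ hsurj hirr
  have h2 := isProper_toSpec ι R
  have h3 : g = CommRingCat.ofHom (algebraMap R (pg ι R 0)) ≫ CommRingCat.ofHom (ProjMapG.zeroHom ψ) := by
    apply CommRingCat.hom_ext
    apply RingHom.ext
    intro r
    apply Subtype.ext
    rw [hg r]
    rfl
  have h4 : Proj.toSpecZero 𝒜 ≫ Spec.map g =
      Proj.map ψ hirr ≫ (Proj.toSpecZero (pg ι R) ≫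
        Spec.map (CommRingCat.ofHom (algebraMap R (pg ι R 0)))) := by
    rw [h3, Spec.map_comp, ← Category.assoc, ← Category.assoc, ProjMapG.map_toSpecZero]
  rw [h4]
  infer_instance

end proper

section rel

variable {Y P : Scheme.{u}} {𝒮 : RelProj.QCGrAlg Y} (hgen : 𝒮.IsGenDegOne) (hft : 𝒮.IsFTDeg 1)

include hgen hft in
set_option backward.isDefEq.respectTransparency false in
/-- chartwise, the structure morphism of the relative `Proj` is proper -/
theorem isProper_chart (U : Y.Opens) (hU : IsAffineOpen U) :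
    IsProper (Proj.toSpecZero (𝒮.deg U hU) ≫ Spec.map (𝒮.strZero U hU)) := by
  classical
  obtain ⟨T, hT1, hT2⟩ := hft U hU
  let x : {t // t ∈ T} → 𝒮.presheaf.obj (op U) := fun t => t.1
  have hx : ∀ t, x t ∈ 𝒮.deg U hU 1 := fun t => hT1 t.2
  have hspan : ∀ y ∈ 𝒮.deg U hU 1, ∃ c : {t // t ∈ T} → Γ(Y, U),
      y = ∑ i, (𝒮.str.app (op U)).hom (c i) * x i := by
    intro y hy
    obtain ⟨c, hc⟩ := hT2 y hy
    refine ⟨fun t => c t.1, ?_⟩
    rw [hc]
    exact (Finset.sum_coe_sort T (fun t => (𝒮.str.app (op U)).hom (c t) * t)).symm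
  have hsurj := exists_eval₂_eq (𝒮.deg U hU) (𝒮.str.app (op U)).hom (𝒮.str_mem U hU) x hx (hgen U hU) hspan
  exact isProper_comp (R := Γ(Y, U)) (𝒮.deg U hU)
    (gHom (𝒮.deg U hU) (𝒮.str.app (op U)).hom (𝒮.str_mem U hU) x hx) hsurj (𝒮.strZero U hU)
    (fun r => by rw [gHom_C]; rfl)

variable {p : P ⟶ Y}
  {chart : ∀ (U : Y.Opens) (hU : IsAffineOpen U), (((p ⁻¹ᵁ U : P.Opens) : Scheme.{u}) ≅ Proj (𝒮.deg U hU))}
  (hP : RelProj.IsRelProj 𝒮 p chart)

include hgen hft hP in
set_option backward.isDefEq.respectTransparency false in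
/-- the relative `Proj` of an algebra generated in degree one with `𝒮₁` of finite type is proper over the base -/
theorem isProper : IsProper p := by
  refine IsZariskiLocalAtTarget.of_iSup_eq_top (P := @IsProper) (fun U : Y.affineOpens => U.1)
    (iSup_affineOpens_eq_top Y) fun U => ?_
  have h1 := isProper_chart hgen hft U.1 U.2
  have h2 : p ∣_ U.1 = (chart U.1 U.2).hom ≫
      (Proj.toSpecZero (𝒮.deg U.1 U.2) ≫ Spec.map (𝒮.strZero U.1 U.2)) ≫ U.2.isoSpec.inv := by
    rw [← cancel_mono U.1.ι, morphismRestrict_ι]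
    simp only [Category.assoc]
    rw [U.2.isoSpec_inv_ι]
    exact (hP.chart_over U.1 U.2).symm
  rw [h2]
  infer_instance

end rel

end Groth.Agent.Lib.Helper28.RelProjProper
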