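import Groth.Agent.Lib.Helper28.ChowProj2
import Groth.Agent.Lib.lead.ChowQ

set_option autoImplicit false
universe u
open CategoryTheory CategoryTheory.Limits AlgebraicGeometry TopologicalSpace Opposite
noncomputable section

namespace Groth.Agent.Lib.Helper28.ChowProj

open Groth.Agent.Lib.Helper4.ChowStep Groth.Agent.Lib.Helper4.ChowMain Groth.Agent.Lib.lead.ChowQ

/-- Chow's lemma (finitely many irreducible components), exporting compactness of the dense open -/
theorem chow_of_finite_irreducibleComponents' {X S : Scheme.{u}} (f : X ⟶ S)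
    [QuasiSeparatedSpace S] [CompactSpace X]
    [IsSeparated f] [LocallyOfFiniteType f]
    (finC : (irreducibleComponents X).Finite) :
    ∃ (n : ℕ) (X' : Scheme.{u}) (π : X' ⟶ X) (j : X' ⟶ CohB1.ProjSpaceOver n S),
      IsImmersion j ∧ j ≫ CohB1.ProjSpaceOver.toBase n S = π ≫ f ∧ IsProper π ∧
      ∃ U : X.Opens, Dense (U : Set X) ∧ IsCompact (U : Set X) ∧ IsIso (π ∣_ U) := by
  have : QuasiSeparatedSpace X := quasiSeparatedSpace_of_quasiSeparated f
  obtain ⟨t, U, ht, hcov, hdense, hUc⟩ := exists_cover (X := X) finC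
  have hmain : HasPiece f U ⊤ := by
    rcases isEmpty_or_nonempty X with hX | hX
    · have : IsAffine X := inferInstance
      exact base f (isAffineOpen_top X) le_top
    · obtain ⟨x⟩ := hX
      have htne : t.Nonempty := by
        obtain ⟨W, hW, -⟩ := hcov x
        exact ⟨W, hW⟩
      have : CompactSpace (U : Scheme.{u}) := isCompact_iff_compactSpace.mp hUc
      have key : ∀ s : Finset X.Opens, s.Nonempty → s ⊆ t → HasPiece f U (s.sup id) := by
        intro s hs
        induction hs using Finset.Nonempty.cons_induction with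
        | singleton a =>
          intro hst
          rw [Finset.sup_singleton]
          exact base f (ht a (hst (Finset.mem_singleton_self a))).1
            (ht a (hst (Finset.mem_singleton_self a))).2
        | cons a s ha hs ih =>
          intro hst
          rw [Finset.sup_cons]
          have ha' := ht a (hst (Finset.mem_cons_self a s))
          exact step f (base f ha'.1 ha'.2)
            (ih fun b hb => hst (Finset.mem_cons.mpr (Or.inr hb)))
      have htop : t.sup id = ⊤ := by
        rw [eq_top_iff]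
        intro y _
        obtain ⟨W, hW, hyW⟩ := hcov y
        exact (Finset.le_sup (f := id) hW) hyW
      rw [← htop]
      exact key t htne subset_rfl
  obtain ⟨n, Y, π, j, himm, hcomm, -, hprop, hiso⟩ := hmain
  have hπ : IsProper π :=
    IsZariskiLocalAtTarget.of_iSup_eq_top (P := @IsProper) (fun _ : Unit => (⊤ : X.Opens))
      (by simp) (fun _ => hprop)
  exact ⟨n, Y, π, j, himm, hcomm, hπ, U, hdense, hUc, hiso⟩

/-- **Chow's lemma in relative `Proj` form**, under either hypothesis -/
theorem chow_relProj_main {X S : Scheme.{u}} (r : X ⟶ S) [IsSeparated r] [LocallyOfFiniteType r] [QuasiCompact r]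
    (h : IsNoetherian S ∨ (CompactSpace S ∧ QuasiSeparatedSpace S ∧ (irreducibleComponents X).Finite)) :
    ∃ (n : ℕ) (X'' : Scheme.{u}) (f : X'' ⟶ X) (j'' : X'' ⟶ CohB1.ProjSpaceOver n S), IsImmersion j'' ∧
      j'' ≫ CohB1.ProjSpaceOver.toBase n S = f ≫ r ∧ IsProper f ∧
      RelProj.IsQuasiProjective (f ≫ r) ∧ RelProj.IsProjective f ∧ Surjective f ∧
      (∃ U : X.Opens, Dense (U : Set X) ∧ Dense ((f ⁻¹ᵁ U : X''.Opens) : Set X'') ∧ IsIso (f ∣_ U)) ∧
      (IsReduced X → IsReduced X'') ∧ (IrreducibleSpace X → IrreducibleSpace X'') ∧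
      (IsIntegral X → IsIntegral X'') := by
  rcases h with hS | ⟨hS1, hS2, hfin⟩
  · have : CompactSpace X := QuasiCompact.compactSpace_of_compactSpace r
    have : IsNoetherian X := { __ := LocallyOfFiniteType.isLocallyNoetherian r }
    obtain ⟨n, X', π, j, himm, hcomm, hprop, -, U, hU, hiso⟩ := Groth.Agent.Lib.Helper4.ChowMain.chow r
    obtain ⟨X'', f, j'', h1, h2, h3, h4, h5, h6, ⟨h7, h8⟩, h9, h10, h11⟩ := chow_relProj r n π j hcomm U hU
    exact ⟨n, X'', f, j'', h1, h2, h3, h4, h5, h6, ⟨U, hU, h7, h8⟩, h9, h10, h11⟩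
  · have : CompactSpace X := QuasiCompact.compactSpace_of_compactSpace r
    have : QuasiSeparatedSpace X := quasiSeparatedSpace_of_quasiSeparated r
    obtain ⟨n, X', π, j, himm, hcomm, hprop, U, hU, hUc, hiso⟩ := chow_of_finite_irreducibleComponents' r hfin
    have hqc : QuasiCompact U.ι := by
      rw [quasiCompact_iff_forall_isAffineOpen]
      intro W hW
      have h1 : ((U.ι ⁻¹ᵁ W : (U : Scheme.{u}).Opens) : Set U) = U.ι ⁻¹' ((U ⊓ W : X.Opens) : Set X) := by
        ext y
        simp only [Opens.map_coe, Set.mem_preimage, Opens.coe_inf, Set.mem_inter_iff, SetLike.mem_coe]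
        exact ⟨fun hy => ⟨y.2, hy⟩, fun hy => hy.2⟩
      rw [h1]
      refine U.ι.isOpenEmbedding.isInducing.isCompact_preimage' ?_ ?_
      · exact QuasiSeparatedSpace.inter_isCompact _ _ U.isOpen hUc W.isOpen hW.isCompact
      · rw [Scheme.Opens.range_ι]; exact Set.inter_subset_left
    obtain ⟨X'', f, j'', h1, h2, h3, h4, h5, h6, ⟨h7, h8⟩, h9, h10, h11⟩ := chow_relProj r n π j hcomm U hU
    exact ⟨n, X'', f, j'', h1, h2, h3, h4, h5, h6, ⟨U, hU, h7, h8⟩, h9, h10, h11⟩

end Groth.Agent.Lib.Helper28.ChowProj
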