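import Groth.Agent.Lib.Helper28.ImgAlg9

/-!
# Very ample over a quasi-compact quasi-separated base ⟹ dense open subscheme of a projective scheme (part 10)
-/

set_option autoImplicit false
universe u
open CategoryTheory CategoryTheory.Limits AlgebraicGeometry TopologicalSpace Opposite
open scoped HomogeneousIdeal
noncomputable section

namespace Groth.Agent.Lib.Helper28.ImgAlg

open Groth.Agent.Lib.Helper28 Groth.Agent.Lib.Helper28.QCohLoc Groth.Agent.Lib.Helper28.TraceAlg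
open Groth.Agent.Lib.Helper28.SymAlg
open Groth.Agent.Lib.Helper28.RLPsi Groth.Agent.Lib.Helper28.RLPsiU Groth.Agent.Lib.Helper28.FTApprox

variable {Y X : Scheme.{u}} (q : X ⟶ Y)

/-- **(EGA II 5.3.?)** a morphism of finite type carrying a relatively very ample sheaf, over a quasi-compact
quasi-separated base, is a dense open subscheme of a projective scheme over the base -/
theorem exists_openImmersion_proj [CompactSpace Y] [QuasiSeparatedSpace Y] [QuasiCompact q] [LocallyOfFiniteType q]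
    {L : X.Modules} (hL : PicF.IsInvertible L) (h : RelProj.IsRelVeryAmple q L) :
    ∃ (𝒮 : RelProj.QCGrAlg Y) (P : Scheme.{u}) (p : P ⟶ Y)
      (chart : ∀ (U : Y.Opens) (hU : IsAffineOpen U), ((p ⁻¹ᵁ U : P.Opens) : Scheme.{u}) ≅ Proj (𝒮.deg U hU))
      (O1 : P.Modules)
      (lam : ∀ (U : Y.Opens) (hU : IsAffineOpen U),
        O1 ⟶ (Scheme.Modules.pushforward (RelProj.emb p chart U hU)).obj (GrTwist.twist (𝒮.deg U hU) 1))
      (i : X ⟶ P),
      𝒮.IsGenDegOne ∧ 𝒮.IsFTDeg 1 ∧ RelProj.IsRelProj 𝒮 p chart ∧ RelProj.IsRelTwist 𝒮 p chart 1 O1 lam ∧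
        IsOpenImmersion i ∧ Dense (Set.range i.base) ∧ i ≫ p = q ∧
        Nonempty (L ≅ (Scheme.Modules.pullback i).obj O1) := by
  classical
  have hLq : L.IsQuasicoherent := InvQC.isQuasicoherent_of_isInvertible L hL
  have hQCL := isQC_symPre_of_isQuasicoherent L
  have hjL := isGrSymAlg L hQCL
  have hPL := RelProjExists.isRelProj (grSymAlg L hQCL)
  obtain ⟨E, hEq, hft, ι, hinj, 𝒯, jE, hE, u, hu, hs, H⟩ := exists_ft_sub_pushforward q hjL _ _ hPL hL h
  have : E.IsQuasicoherent := hEq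
  have : SheafOfModules.IsFiniteType.{u} (R := Y.ringCatSheaf) E := hft
  have hP𝒯 := RelProjExists.isRelProj 𝒯
  obtain ⟨r, hr, -⟩ := ProjQRel.existsUnique_glueW u _ _ hP𝒯 _ _ hPL
  have hrOn := ProjQRel.isProjQMapOn_of_glue u _ _ _ _ r hr
  obtain ⟨htop, himm⟩ := H _ _ _ hP𝒯 r hrOn
  obtain ⟨ι₀, U, hU, n, s, hfam⟩ := exists_family_of_immersion hjL u _ _ hP𝒯 _ _ hPL r hrOn hL htop himm
  -- the image algebra
  have hP := RelProjExists.isRelProj (imgGr u)
  obtain ⟨r', hr', -⟩ := ProjQRel.existsUnique_glueW (imgιGr u) _ _ hP _ _ hPL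
  have hr'On := ProjQRel.isProjQMapOn_of_glue (imgιGr u) _ _ _ _ r' hr'
  obtain ⟨htop', hoi, hdom⟩ := openImmersion_img hjL u _ _ hP _ _ hPL r' hr'On hL U hU n s hfam
  have hO := RelTwistEx.isRelTwist hP 1
  have hsurj1 : SurjCond1 (imgιGr u) := by
    intro x
    obtain ⟨U₁, hU₁, e, V, hV, hVU, hxV, hsub⟩ := hs x
    exact ⟨U₁, hU₁, ((imgπ u.toQHom).hom.app (op U₁)).hom ((jE.app U₁) e),
      ⟨_, hE.2 U₁ hU₁ e, rfl⟩, V, hV, hVU, hxV, hsub⟩
  obtain ⟨i, ⟨h1, h2, hi⟩, hip, hiso⟩ := exists_mor_of_surjCond1 hjL (imgιGr u) _ _ hP _ _ hPL r' hr'On hO hL hsurj1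
  have hoi' : IsOpenImmersion i := by
    rw [hi]
    infer_instance
  have hdom' : IsDominant i := by
    rw [hi]
    infer_instance
  exact ⟨imgGr u, _, _, _, _, _, i, isGenDegOne_imgGr u (isGenDegOne_of_isGrSymAlg hE),
    isFTDeg_imgGr u 1 (isFTDeg_one_of_isGrSymAlg hE), hP, hO, hoi', i.denseRange, hip, hiso⟩

end Groth.Agent.Lib.Helper28.ImgAlg
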