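import Groth.Agent.Lib.Helper28.AmpleUnit

/-!
# The left unit isomorphism `O ⊗ M ≅ M`
-/

set_option autoImplicit false
universe u
open CategoryTheory CategoryTheory.Limits AlgebraicGeometry Opposite TopologicalSpace
noncomputable section

namespace Groth.Agent.Lib.Helper28.AmpleUnit

open Groth.Agent.Lib.Helper28 Groth.Agent.Lib.Helper28.QCohLoc Groth.Agent.Lib.Helper28.GenLocus

variable {X : Scheme.{u}}

/-- the left unit isomorphism `O ⊗ M ≅ M` -/
theorem nonempty_unit_tensor_iso (M : X.Modules) :
    Nonempty (CohB1.tensorMod (Coh.structureModule X) M ≅ M) := by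
  refine TensorIso.nonempty_tensorMod_iso (Coh.structureModule X) M M
    (fun W c m => ((show Γ(X, W) from c) • m : Γ(M, W))) ?_ ?_ ?_ ?_ ?_ (fun _ => True)
    (fun U x hx => ⟨U, trivial, hx, le_rfl⟩) ?_
  · intro W c c' m
    exact add_smul (show Γ(X, W) from c) (show Γ(X, W) from c') m
  · intro W c m m'
    exact smul_add _ _ _
  · intro W a c m
    exact mul_smul a (show Γ(X, W) from c) m
  · intro W a c m
    exact smul_comm _ _ _
  · intro W W' h c m
    exact (res_smul M h (show Γ(X, W) from c) m).symm
  · intro W _
    refine TensorIso.tensorDesc_app_bijective_left _ _ _ _ _ _ _ _ _ W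
      (show Γ(Coh.structureModule X, W) from (1 : Γ(X, W))) ?_ ?_
    · intro c
      exact ⟨(show Γ(X, W) from c), (mul_one (show Γ(X, W) from c)).symm⟩
    · have : (fun m : Γ(M, W) => (((show Γ(X, W) from
          (show Γ(Coh.structureModule X, W) from (1 : Γ(X, W)))) • m : Γ(M, W)))) = id := by
        funext m
        exact one_smul _ m
      rw [this]
      exact Function.bijective_id

end Groth.Agent.Lib.Helper28.AmpleUnit
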