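import Groth.Agent.Lib.Helper28.RelSerre
import Groth.Agent.Lib.Helper28.RelAmpVA
import Groth.Agent.Lib.Helper28.EpiAffine
import Groth.Agent.Lib.Helper28.TensorUnitL
import Groth.Agent.Lib.Helper16.TA2
import Groth.Agent.Lib.Helper6.K0Inv

/-!
# The relative Serre theorem in quotient form, for relatively ample modules; tensoring epimorphisms
-/

set_option autoImplicit false
universe u
open CategoryTheory CategoryTheory.Limits AlgebraicGeometry Opposite TopologicalSpace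
noncomputable section

namespace Groth.Agent.Lib.Helper28.RelSerre

open Groth.Agent.Lib.Helper28 Groth.Agent.Lib.Helper28.QCohLoc Groth.Agent.Lib.Helper28.GenLocus
  Groth.Agent.Lib.Helper28.TensorGen Groth.Agent.Lib.Helper28.FTApprox Groth.Agent.Lib.Helper28.PullbackInv

section main

variable {Y Z : Scheme.{u}}

/-- **the relative Serre theorem for a relatively ample module, in quotient form** -/
theorem exists_forall_epi_of_isRelAmple [CompactSpace Z] [QuasiSeparatedSpace Z] (g : Y ⟶ Z) [QuasiCompact g]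
    (K : Y.Modules) (hK : PicF.IsInvertible K) (hamp : RelAmple.IsRelAmple g K)
    (E : Y.Modules) [E.IsQuasicoherent] [SheafOfModules.IsFiniteType.{u} (R := Y.ringCatSheaf) E] :
    ∃ m₀ : ℕ, ∀ m : ℕ, m₀ ≤ m →
      ∃ (F : Z.Modules) (φ : (Scheme.Modules.pullback g).obj F ⟶ CohB1.tensorMod E (CohB1.tensorPow K m)),
        F.IsQuasicoherent ∧ SheafOfModules.IsFiniteType.{u} (R := Z.ringCatSheaf) F ∧ Epi φ := by
  classical
  have hsep : QuasiSeparated g := RelAmpSec.quasiSeparated_of_isRelAmple g K hamp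
  -- a finite affine cover of `Z`
  have hcovZ : ∀ z : Z, ∃ V : Z.affineOpens, z ∈ V.1 := by
    intro z
    obtain ⟨V, hV, hzV, -⟩ := Z.isBasis_affineOpens.exists_subset_of_mem_open (Set.mem_univ z) isOpen_univ
    obtain ⟨V', hV', rfl⟩ := hV
    exact ⟨⟨V', hV'⟩, hzV⟩
  obtain ⟨t, ht⟩ := isCompact_univ.elim_finite_subcover (fun V : Z.affineOpens => ((V.1 : Z.Opens) : Set Z))
    (fun V => V.1.isOpen) (fun z _ => Set.mem_iUnion.2 (hcovZ z))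
  have htmem : ∀ z : Z, ∃ V ∈ t, z ∈ V.1 := by
    intro z
    have := ht (Set.mem_univ z)
    simp only [Set.mem_iUnion] at this
    obtain ⟨V, hVt, hzV⟩ := this
    exact ⟨V, hVt, hzV⟩
  have hqsV : ∀ V : Z.affineOpens, QuasiSeparatedSpace ((↑(g ⁻¹ᵁ V.1) : Scheme.{u})) := by
    intro V
    have : (↑(g ⁻¹ᵁ V.1) : Scheme.{u}).IsSeparated := isSeparated_of_isAmple (hamp.2 V)
    infer_instance
  have hcV : ∀ V : Z.affineOpens, CompactSpace ((↑(g ⁻¹ᵁ V.1) : Scheme.{u})) := fun V =>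
    isCompact_iff_compactSpace.mp (QuasiCompact.isCompact_preimage (f := g) _ V.1.isOpen V.2.isCompact)
  have hS : ∀ V : Z.affineOpens, ∃ n₀ : ℕ, ∀ n : ℕ, n₀ ≤ n → ∀ x : (↑(g ⁻¹ᵁ V.1) : Scheme.{u}),
      GGAt (CohB1.tensorMod (E.restrict (g ⁻¹ᵁ V.1).ι) (CohB1.tensorPow (K.restrict (g ⁻¹ᵁ V.1).ι) n)) x := by
    intro V
    have := hqsV V
    have hFU : Coh.IsCoh (E.restrict (g ⁻¹ᵁ V.1).ι) :=
      ⟨(inferInstance : ((Scheme.Modules.restrictFunctor (g ⁻¹ᵁ V.1).ι).obj E).IsQuasicoherent),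
        CounitSerre.isFiniteType_restrict E (g ⁻¹ᵁ V.1)⟩
    exact exists_forall_ggAt (hamp.2 V) _ hFU
  choose n₀ hn₀ using hS
  refine ⟨t.sup n₀, fun m hm => ?_⟩
  have tw2 := (IsTwist.refl E K).tensorPow m
  have hMq : (CohB1.tensorMod E (CohB1.tensorPow K m)).IsQuasicoherent := tw2.isQuasicoherent hK
  have hMf : SheafOfModules.IsFiniteType.{u} (R := Y.ringCatSheaf) (CohB1.tensorMod E (CohB1.tensorPow K m)) :=
    tw2.isFiniteType hK
  -- generating sections over each member of the cover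
  have hgen : ∀ V : Z.affineOpens, V ∈ t → ∃ S : Finset Γ((CohB1.tensorMod E (CohB1.tensorPow K m)).restrict
      (g ⁻¹ᵁ V.1).ι, ⊤), ∀ x : (↑(g ⁻¹ᵁ V.1) : Scheme.{u}),
        FamGenAt ((CohB1.tensorMod E (CohB1.tensorPow K m)).restrict (g ⁻¹ᵁ V.1).ι) (fun T : S => T.1) x := by
    intro V hVt
    have hnV : n₀ V ≤ m := (Finset.le_sup (f := n₀) hVt).trans hm
    have hLU : PicF.IsInvertible (K.restrict (g ⁻¹ᵁ V.1).ι) := (hamp.2 V).1
    have twU := CounitSerre.isTwist_restrict tw2 (g ⁻¹ᵁ V.1)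
    have tw3 := (IsTwist.refl (E.restrict (g ⁻¹ᵁ V.1).ι) (K.restrict (g ⁻¹ᵁ V.1).ι)).tensorPow m
    obtain ⟨ψ, -⟩ := tw3.exists_iso twU hLU
    have := hcV V
    have : ((CohB1.tensorMod E (CohB1.tensorPow K m)).restrict (g ⁻¹ᵁ V.1).ι).IsQuasicoherent :=
      (inferInstance : ((Scheme.Modules.restrictFunctor (g ⁻¹ᵁ V.1).ι).obj
        (CohB1.tensorMod E (CohB1.tensorPow K m))).IsQuasicoherent)
    have := CounitSerre.isFiniteType_restrict (CohB1.tensorMod E (CohB1.tensorPow K m)) (g ⁻¹ᵁ V.1)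
    exact exists_finset_famGenAt _ (fun x => (hn₀ V m hnV x).of_iso ψ)
  have htop : ∀ V : Z.affineOpens, g ⁻¹ᵁ V.1 ≤ (g ⁻¹ᵁ V.1).ι ''ᵁ ⊤ := by
    intro V p hp
    exact ⟨⟨p, hp⟩, trivial, rfl⟩
  let S : ∀ V : {V : Z.affineOpens // V ∈ t}, Finset Γ((CohB1.tensorMod E (CohB1.tensorPow K m)).restrict
      (g ⁻¹ᵁ V.1.1).ι, ⊤) := fun V => (hgen V.1 V.2).choose
  have hSgen : ∀ (V : {V : Z.affineOpens // V ∈ t}) (x : (↑(g ⁻¹ᵁ V.1.1) : Scheme.{u})),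
      FamGenAt ((CohB1.tensorMod E (CohB1.tensorPow K m)).restrict (g ⁻¹ᵁ V.1.1).ι) (fun T : S V => T.1) x :=
    fun V => (hgen V.1 V.2).choose_spec
  refine exists_epi_pullback_of_local_gen g (CohB1.tensorMod E (CohB1.tensorPow K m))
    (K := {V : Z.affineOpens // V ∈ t}) (fun V => V.1.1) (fun V => V.1.2)
    (fun V => (S V).image (fun s => res (CohB1.tensorMod E (CohB1.tensorPow K m)) (htop V.1)
      (toM (CohB1.tensorMod E (CohB1.tensorPow K m)) (g ⁻¹ᵁ V.1.1) ⊤ s))) ?_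
  intro x
  obtain ⟨V, hVt, hxV⟩ := htmem (g x)
  refine ⟨⟨V, hVt⟩, fun W y hxW => ?_⟩
  obtain ⟨M, hM⟩ : ∃ M : Y.Modules, M = CohB1.tensorMod E (CohB1.tensorPow K m) := ⟨_, rfl⟩
  have hle : (g ⁻¹ᵁ V.1).ι ''ᵁ ((g ⁻¹ᵁ V.1).ι ⁻¹ᵁ W) ≤ W := by
    rintro _ ⟨p, hp, rfl⟩
    exact hp
  obtain ⟨y', hy'⟩ : ∃ y' : Γ((CohB1.tensorMod E (CohB1.tensorPow K m)).restrict (g ⁻¹ᵁ V.1).ι,
      (g ⁻¹ᵁ V.1).ι ⁻¹ᵁ W), y' = res (CohB1.tensorMod E (CohB1.tensorPow K m)) hle y := ⟨_, rfl⟩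
  obtain ⟨V', hV', hxV', hmem⟩ := hSgen ⟨V, hVt⟩ ⟨x, hxV⟩ ((g ⁻¹ᵁ V.1).ι ⁻¹ᵁ W) y' hxW
  have hVW : (g ⁻¹ᵁ V.1).ι ''ᵁ V' ≤ W := ((g ⁻¹ᵁ V.1).ι.image_mono hV').trans hle
  have hVU : (g ⁻¹ᵁ V.1).ι ''ᵁ V' ≤ g ⁻¹ᵁ V.1 := InvGen.image_le _ _
  refine ⟨(g ⁻¹ᵁ V.1).ι ''ᵁ V', hVW, hVU, ⟨⟨x, hxV⟩, hxV', rfl⟩, ?_⟩
  have h2 : res (CohB1.tensorMod E (CohB1.tensorPow K m)) ((g ⁻¹ᵁ V.1).ι.image_mono hV')
      (res (CohB1.tensorMod E (CohB1.tensorPow K m)) hle y) =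
      res (CohB1.tensorMod E (CohB1.tensorPow K m)) hVW y := res_res _ _ _ _
  have h1 : res (CohB1.tensorMod E (CohB1.tensorPow K m)) hVW y ∈
      Submodule.span Γ(Y, (g ⁻¹ᵁ V.1).ι ''ᵁ V')
        (Set.range fun T : S ⟨V, hVt⟩ => res (CohB1.tensorMod E (CohB1.tensorPow K m))
          ((g ⁻¹ᵁ V.1).ι.image_mono (le_top : V' ≤ ⊤))
          (toM (CohB1.tensorMod E (CohB1.tensorPow K m)) (g ⁻¹ᵁ V.1) ⊤ T.1)) := by
    rw [← h2, ← hy']
    exact mem_span_of_mem_span_restrict (CohB1.tensorMod E (CohB1.tensorPow K m)) (g ⁻¹ᵁ V.1) V' _ _ hmem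
  refine Submodule.span_mono ?_ h1
  rintro _ ⟨T, rfl⟩
  refine ⟨res (CohB1.tensorMod E (CohB1.tensorPow K m)) (htop V)
    (toM (CohB1.tensorMod E (CohB1.tensorPow K m)) (g ⁻¹ᵁ V.1) ⊤ T.1), ?_, ?_⟩
  · exact Finset.mem_coe.2 (Finset.mem_image.2 ⟨T.1, T.2, rfl⟩)
  · exact res_res _ _ _ _

end main

section tensor

variable {X : Scheme.{u}}

/-- tensoring an epimorphism of modules with a module gives an epimorphism -/
theorem epi_tensorModMap {A B : X.Modules} (φ : A ⟶ B) [Epi φ]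
    (E : X.Modules) : Epi (LimSh.tensorModMap φ E) := by
  have h0 : LocGen (fun _ : Unit => φ) := by
    intro U x pt hpt
    obtain ⟨V, hVU, hptV, y, hy⟩ := exists_local_lift φ U x pt hpt
    refine ⟨V, hVU, hptV, ?_⟩
    rw [← hy]
    exact app_mem_genRange (fun _ : Unit => φ) V () y
  have h1 := h0.tensor E
  refine epi_of_locally_in_range _ ?_
  intro U x pt hpt
  obtain ⟨V, hV, hptV, hx⟩ := h1 U x pt hpt
  refine ⟨V, hV, hptV, ?_⟩
  refine genRange_induction (fun _ : Unit => LimSh.tensorModMap φ E) V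
    (P := fun x => ∃ y : Γ(CohB1.tensorMod A E, V), (LimSh.tensorModMap φ E).app V y = x) ?_ ?_ ?_ hx
  · intro a y
    exact ⟨y, rfl⟩
  · exact ⟨0, map_zero _⟩
  · rintro x y ⟨x', hx'⟩ ⟨y', hy'⟩
    exact ⟨x' + y', by rw [map_add, hx', hy']⟩

/-- `(F ⊗ A) ⊗ B ≅ F` when `A ⊗ B` is trivial -/
theorem nonempty_tensor_cancel_iso (F A B : X.Modules) (e : CohB1.tensorMod A B ≅ Coh.structureModule X) :
    Nonempty (CohB1.tensorMod (CohB1.tensorMod F A) B ≅ F) := by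
  obtain ⟨u⟩ := AmpleUnit.nonempty_unit_tensor_iso F
  exact ⟨Groth.Agent.Lib.Helper16.TA.assocIso F A B ≪≫ PicGrp.tensorModIso (Iso.refl F) e ≪≫
    Groth.Agent.Lib.Helper6.K0Inv.braidIso F (Coh.structureModule X) ≪≫ u⟩

end tensor

end Groth.Agent.Lib.Helper28.RelSerre
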