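import Groth.Agent.Lib.Helper28.FinQuotDesc

/-!
# Descent of morphisms along a surjective quotient morphism with `O_Y = p_* O_X` (helper28)
-/

set_option autoImplicit false
universe u
open CategoryTheory CategoryTheory.Limits AlgebraicGeometry Opposite TopologicalSpace

namespace Groth.Agent.Lib.Helper28.AbstractDesc

open Groth.Agent.Lib.Helper28.FinQuot (epi_of_surjective_of_app_injective restrict_app_injective restrict_surjective
  exists_ringHom_lift restrict_homOfLE exists_affine_mem)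

variable {X Y : Scheme.{u}} (p : X ⟶ Y) (hsurj : Function.Surjective p)
  (hquot : Topology.IsQuotientMap p) (hbij : ∀ U : Y.Opens, Function.Bijective (p.app U).hom)

include hsurj hbij in
theorem epi : Epi p := epi_of_surjective_of_app_injective p hsurj (fun U => (hbij U).1)

include hsurj hbij in
theorem epi_restrict (U : Y.Opens) : Epi (p ∣_ U) :=
  epi_of_surjective_of_app_injective _ (restrict_surjective p hsurj U)
    (restrict_app_injective p (fun U => (hbij U).1) U)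

include hquot in
/-- saturated opens of `X` descend to `Y` -/
theorem exists_open_preimage_eq (S : X.Opens) (hS : ∀ x x' : X, p x = p x' → x ∈ S → x' ∈ S) :
    ∃ V : Y.Opens, p ⁻¹ᵁ V = S := by
  have hsat : p ⁻¹' (p '' (S : Set X)) = S := by
    ext x
    constructor
    · rintro ⟨x', hx', hxx'⟩
      exact hS x' x hxx' hx'
    · intro hx
      exact ⟨x, hx, rfl⟩
  have hopen : IsOpen (p '' (S : Set X)) := by
    rw [← hquot.isOpen_preimage, hsat]
    exact S.isOpen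
  exact ⟨⟨p '' (S : Set X), hopen⟩, Opens.ext hsat⟩

set_option backward.isDefEq.respectTransparency false in
include hbij in
/-- local descent over an affine open of the target -/
theorem exists_local_desc {Z : Scheme.{u}} (h : X ⟶ Z)
    (T₀ : Z.Opens) (hT₀ : IsAffineOpen T₀) (V : Y.Opens) (e : p ⁻¹ᵁ V = h ⁻¹ᵁ T₀) :
    ∃ k : (V : Scheme.{u}) ⟶ Z, (p ∣_ V) ≫ k = (p ⁻¹ᵁ V).ι ≫ h := by
  obtain ⟨θ, hθ⟩ := exists_ringHom_lift (p.app V).hom (hbij V).1
    (h.appLE T₀ (p ⁻¹ᵁ V) e.le).hom (fun c => (hbij V).2 _)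
  have hθ' : CommRingCat.ofHom θ ≫ p.app V = h.appLE T₀ (p ⁻¹ᵁ V) e.le := by
    ext c; exact congr($hθ c)
  refine ⟨V.toSpecΓ ≫ Spec.map (CommRingCat.ofHom θ) ≫ hT₀.fromSpec, ?_⟩
  rw [← Scheme.Opens.toSpecΓ_naturality_assoc, ← Spec.map_comp_assoc, hθ',
    Scheme.Opens.toSpecΓ_SpecMap_appLE_assoc, IsAffineOpen.toSpecΓ_fromSpec,
    Scheme.Hom.resLE_comp_ι]

set_option backward.isDefEq.respectTransparency false in
include hsurj hquot hbij in
/-- **descent**: a morphism constant on the fibres of `p` factors uniquely through `p` -/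
theorem existsUnique_desc {Z : Scheme.{u}} (h : X ⟶ Z) (hfib : ∀ x x' : X, p x = p x' → h x = h x') :
    ∃! h' : Y ⟶ Z, p ≫ h' = h := by
  have hepi := epi p hsurj hbij
  have hV : ∀ T : Z.affineOpens, ∃ V : Y.Opens, p ⁻¹ᵁ V = h ⁻¹ᵁ T.1 := fun T =>
    exists_open_preimage_eq p hquot (h ⁻¹ᵁ T.1) fun x x' hxx' hx => by
      show h x' ∈ T.1
      rw [← hfib x x' hxx']
      exact hx
  choose V hVe using hV
  have hk : ∀ T : Z.affineOpens, ∃ k : ((V T : Y.Opens) : Scheme.{u}) ⟶ Z,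
      (p ∣_ (V T)) ≫ k = (p ⁻¹ᵁ (V T)).ι ≫ h := fun T =>
    exists_local_desc p hbij h T.1 T.2 (V T) (hVe T)
  choose k hk using hk
  have hcov : ∀ y : Y, ∃ T : Z.affineOpens, y ∈ Set.range (V T).ι := by
    intro y
    obtain ⟨x, rfl⟩ := hsurj y
    obtain ⟨T, hT, hxT⟩ := exists_affine_mem (h x)
    refine ⟨⟨T, hT⟩, ?_⟩
    rw [Scheme.Opens.range_ι]
    have : x ∈ p ⁻¹ᵁ (V ⟨T, hT⟩) := by rw [hVe]; exact hxT
    exact this
  obtain ⟨h', hh', -⟩ := GlueLocal.existsUnique_glue (fun T : Z.affineOpens => ((V T : Y.Opens) : Scheme.{u}))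
    (fun T => (V T).ι) hcov k (by
      intro t s x y hxy
      have hx : (V t).ι x ∈ V t ⊓ V s := ⟨x.2, by rw [hxy]; exact y.2⟩
      refine ⟨((V t ⊓ V s : Y.Opens) : Scheme.{u}), Y.homOfLE inf_le_left, Y.homOfLE inf_le_right,
        ?_, ?_, ?_, ?_⟩
      · rw [Scheme.homOfLE_ι, Scheme.homOfLE_ι]
      · rw [Scheme.homOfLE_ι]; infer_instance
      · rw [Scheme.homOfLE_ι, Scheme.Opens.range_ι]; exact hx
      · haveI := epi_restrict p hsurj hbij (V t ⊓ V s)
        rw [← cancel_epi (p ∣_ (V t ⊓ V s)), ← Category.assoc, ← Category.assoc,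
          restrict_homOfLE, restrict_homOfLE, Category.assoc, Category.assoc, hk, hk,
          Scheme.homOfLE_ι_assoc, Scheme.homOfLE_ι_assoc])
  refine ⟨h', ?_, fun h'' hh'' => ?_⟩
  · refine NormalSection.hom_ext_of_local _ _ fun x => ?_
    obtain ⟨T, hT, hxT⟩ := exists_affine_mem (h x)
    have hx : x ∈ p ⁻¹ᵁ (V ⟨T, hT⟩) := by rw [hVe]; exact hxT
    refine ⟨_, (p ⁻¹ᵁ (V ⟨T, hT⟩)).ι, inferInstance, ?_, ?_⟩
    · rw [Scheme.Opens.range_ι]; exact hx
    · rw [← hk ⟨T, hT⟩, ← hh' ⟨T, hT⟩, ← morphismRestrict_ι_assoc]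
  · rw [← cancel_epi p, hh'']
    refine NormalSection.hom_ext_of_local _ _ fun x => ?_
    obtain ⟨T, hT, hxT⟩ := exists_affine_mem (h x)
    have hx : x ∈ p ⁻¹ᵁ (V ⟨T, hT⟩) := by rw [hVe]; exact hxT
    refine ⟨_, (p ⁻¹ᵁ (V ⟨T, hT⟩)).ι, inferInstance, ?_, ?_⟩
    · rw [Scheme.Opens.range_ι]; exact hx
    · rw [← hk ⟨T, hT⟩, ← hh' ⟨T, hT⟩, ← morphismRestrict_ι_assoc]

end Groth.Agent.Lib.Helper28.AbstractDesc
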