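import Groth.Agent.Lib.Helper4.QAffRelSpec

set_option autoImplicit false
universe u
open CategoryTheory CategoryTheory.Limits AlgebraicGeometry Opposite TopologicalSpace
noncomputable section

namespace Groth.Agent.Lib.Helper28.AffSpec

open RelSpec Groth.Agent.Lib.Helper4

/-- **an affine morphism is the relative spectrum of its direct-image algebra** -/
theorem exists_iso_spec_directImage {X S : Scheme.{u}} (f : X ⟶ S) [IsAffineHom f] :
    ∃ c : X ⟶ (QCAlg.directImage f).spec, IsIso c ∧ c ≫ (QCAlg.directImage f).π = f := by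
  have hqa : MoreMor.IsQuasiAffineHom f :=
    ⟨inferInstance, fun V hV => by
      have : IsAffine (f ⁻¹ᵁ V : Scheme.{u}) := hV.preimage f
      infer_instance⟩
  obtain ⟨c, e, h, -, hoi⟩ := (QAffRelSpec.main9380 f).1 hqa
  refine ⟨c, ?_, e⟩
  have key : ∀ (U : S.Opens) (hU : IsAffineOpen U),
      (f ⁻¹ᵁ U).ι ≫ c = (f ⁻¹ᵁ U).toSpecΓ ≫ (QCAlg.directImage f).ι U hU := by
    intro U hU
    have := QAffRelSpec.ι_comp_classify (QCAlg.directImage f) f c e (𝟙 (AffAlg.alg f))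
      (by exact (Category.comp_id (QCAlg.directImage f).gammaMap).trans h) U hU
    rw [this]
    show (f ⁻¹ᵁ U).toSpecΓ ≫ Spec.map (𝟙 Γ(X, f ⁻¹ᵁ U)) ≫ (QCAlg.directImage f).ι U hU = _
    rw [Spec.map_id]
    exact congrArg _ (Category.id_comp _)
  apply isIso_of_isOpenImmersion_of_opensRange_eq_top
  refine top_le_iff.1 fun z _ => ?_
  obtain ⟨_, ⟨U, hU, rfl⟩, hzU, -⟩ := S.isBasis_affineOpens.exists_subset_of_mem_open
    (Set.mem_univ ((QCAlg.directImage f).π z)) isOpen_univ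
  have hz : z ∈ ((QCAlg.directImage f).ι U hU).opensRange := by
    rw [← (QCAlg.directImage f).π_preimage U hU]
    exact hzU
  obtain ⟨w, rfl⟩ := hz
  have haff : IsAffineOpen (f ⁻¹ᵁ U) := hU.preimage f
  have hiso : IsIso (f ⁻¹ᵁ U).toSpecΓ := by
    rw [← haff.isoSpec_hom]
    infer_instance
  let v := (inv (f ⁻¹ᵁ U).toSpecΓ) w
  refine ⟨(f ⁻¹ᵁ U).ι v, ?_⟩
  have h1 : c ((f ⁻¹ᵁ U).ι v) = ((f ⁻¹ᵁ U).ι ≫ c) v := rfl
  rw [h1, key U hU]
  show ((QCAlg.directImage f).ι U hU) ((f ⁻¹ᵁ U).toSpecΓ ((inv (f ⁻¹ᵁ U).toSpecΓ) w)) = _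
  have h2 : (f ⁻¹ᵁ U).toSpecΓ ((inv (f ⁻¹ᵁ U).toSpecΓ) w) = w := by
    have := congrArg (fun χ : Spec Γ(X, f ⁻¹ᵁ U) ⟶ Spec Γ(X, f ⁻¹ᵁ U) => χ w) (IsIso.inv_hom_id (f ⁻¹ᵁ U).toSpecΓ)
    exact this
  rw [h2]

end Groth.Agent.Lib.Helper28.AffSpec
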