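import Mathlib

/-!
# Algebra of the comparison maps of localized modules along a localization at one element

The affine (ungraded) analogue of `RelTildeAlg`: for a ring homomorphism `ψ : A → B` which is the localization at an
element `c` and a semilinear map `v : M → N` which is the localization at `c`, the maps of localized modules
`M_x → N_y` (for primes `x = ψ⁻¹ y`) are bijective.
-/

set_option autoImplicit false
universe u
open CategoryTheory AlgebraicGeometry Opposite TopologicalSpace
noncomputable section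

namespace Groth.Agent.Lib.Helper28.AffTildeAlg

section primed

variable {A B C : Type u} [CommRing A] [CommRing B] [CommRing C]
variable {M N K : Type u} [AddCommGroup M] [Module A M] [AddCommGroup N] [Module B N] [AddCommGroup K] [Module C K]

theorem map_mem_primeCompl (ψ : A →+* B) (x : PrimeSpectrum A) (y : PrimeSpectrum B)
    (h : x.asIdeal = Ideal.comap ψ y.asIdeal) (s : x.asIdeal.primeCompl) :
    ψ (s : A) ∈ y.asIdeal.primeCompl := by
  intro hm
  apply s.2
  have h0 : (s : A) ∈ Ideal.comap ψ y.asIdeal := hm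
  have h1 : ∀ I : Ideal A, I = Ideal.comap ψ y.asIdeal → (s : A) ∈ I := by
    intro I hI; rw [hI]; exact h0
  exact h1 _ h

/-- the comparison of local rings `A_x → B_y` for a ring homomorphism `ψ` and primes with `x = ψ⁻¹ y`, the equality of
the points being a hypothesis (no transport) -/
def locMap' (ψ : A →+* B) (x : PrimeSpectrum A) (y : PrimeSpectrum B)
    (h : x.asIdeal = Ideal.comap ψ y.asIdeal) :
    Localization.AtPrime x.asIdeal →+* Localization.AtPrime y.asIdeal :=
  Localization.localRingHom _ _ ψ h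

theorem locMap'_mk (ψ : A →+* B) (x : PrimeSpectrum A) (y : PrimeSpectrum B)
    (h : x.asIdeal = Ideal.comap ψ y.asIdeal) (a : A) (s : x.asIdeal.primeCompl) :
    locMap' ψ x y h (Localization.mk a s) = Localization.mk (ψ a) ⟨ψ (s : A), map_mem_primeCompl ψ x y h s⟩ := by
  rw [Localization.mk_eq_mk', Localization.mk_eq_mk']
  exact Localization.localRingHom_mk' _ _ _ _ a s

/-- the value `v m / ψ s` on a representative -/
def locModFun' (ψ : A →+* B) (v : M →ₛₗ[ψ] N) (x : PrimeSpectrum A) (y : PrimeSpectrum B)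
    (h : x.asIdeal = Ideal.comap ψ y.asIdeal) (q : M × x.asIdeal.primeCompl) :
    LocalizedModule y.asIdeal.primeCompl N :=
  LocalizedModule.mk (v q.1) ⟨ψ (q.2 : A), map_mem_primeCompl ψ x y h q.2⟩

theorem locModFun'_wd (ψ : A →+* B) (v : M →ₛₗ[ψ] N) (x : PrimeSpectrum A) (y : PrimeSpectrum B)
    (h : x.asIdeal = Ideal.comap ψ y.asIdeal) (q q' : M × x.asIdeal.primeCompl) (hqq : q ≈ q') :
    locModFun' ψ v x y h q = locModFun' ψ v x y h q' := by
  obtain ⟨m, s⟩ := q
  obtain ⟨m', s'⟩ := q'
  obtain ⟨w, hw⟩ := hqq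
  refine LocalizedModule.mk_eq.mpr ⟨⟨ψ (w : A), map_mem_primeCompl ψ x y h w⟩, ?_⟩
  have hw' := congrArg v hw
  simp only [Submonoid.smul_def, LinearMap.map_smulₛₗ] at hw' ⊢
  exact hw'

/-- the comparison of localized modules `M_x → N_y` for a semilinear map `v` over `ψ` and primes with `x = ψ⁻¹ y` -/
def locModMap' (ψ : A →+* B) (v : M →ₛₗ[ψ] N) (x : PrimeSpectrum A) (y : PrimeSpectrum B)
    (h : x.asIdeal = Ideal.comap ψ y.asIdeal) :
    LocalizedModule x.asIdeal.primeCompl M →+ LocalizedModule y.asIdeal.primeCompl N where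
  toFun q := q.liftOn (locModFun' ψ v x y h) (locModFun'_wd ψ v x y h)
  map_zero' := by
    rw [← LocalizedModule.zero_mk 1, LocalizedModule.liftOn_mk]
    change LocalizedModule.mk (v 0) _ = 0
    rw [map_zero, LocalizedModule.zero_mk]
  map_add' q q' := by
    induction q using LocalizedModule.induction_on with
    | h m s =>
      induction q' using LocalizedModule.induction_on with
      | h m' s' =>
        rw [LocalizedModule.mk_add_mk, LocalizedModule.liftOn_mk, LocalizedModule.liftOn_mk, LocalizedModule.liftOn_mk]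
        change LocalizedModule.mk (v (s' • m + s • m')) _ = LocalizedModule.mk (v m) _ + LocalizedModule.mk (v m') _
        rw [LocalizedModule.mk_add_mk]
        simp only [map_add, Submonoid.smul_def, LinearMap.map_smulₛₗ]
        congr 1
        exact Subtype.ext (by simp [map_mul])

theorem locModMap'_mk (ψ : A →+* B) (v : M →ₛₗ[ψ] N) (x : PrimeSpectrum A) (y : PrimeSpectrum B)
    (h : x.asIdeal = Ideal.comap ψ y.asIdeal) (m : M) (s : x.asIdeal.primeCompl) :
    locModMap' ψ v x y h (LocalizedModule.mk m s) =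
      LocalizedModule.mk (v m) ⟨ψ (s : A), map_mem_primeCompl ψ x y h s⟩ := rfl

/-- compatibility with the actions of the local rings -/
theorem locModMap'_smul (ψ : A →+* B) (v : M →ₛₗ[ψ] N) (x : PrimeSpectrum A) (y : PrimeSpectrum B)
    (h : x.asIdeal = Ideal.comap ψ y.asIdeal) (r : Localization.AtPrime x.asIdeal)
    (q : LocalizedModule x.asIdeal.primeCompl M) :
    locModMap' ψ v x y h (r • q) = locMap' ψ x y h r • locModMap' ψ v x y h q := by
  induction q using LocalizedModule.induction_on with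
  | h m s =>
    induction r using Localization.induction_on with
    | H p =>
      obtain ⟨a, t⟩ := p
      rw [LocalizedModule.mk_smul_mk, locModMap'_mk, locModMap'_mk, locMap'_mk,
        LocalizedModule.mk_smul_mk, LinearMap.map_smulₛₗ]
      congr 1
      exact Subtype.ext (by simp [map_mul])

theorem locModMap'_comp (ψ₁ : A →+* B) (ψ₂ : B →+* C) (ψ₃ : A →+* C) (hψ : ∀ a, ψ₃ a = ψ₂ (ψ₁ a))
    (v₁ : M →ₛₗ[ψ₁] N) (v₂ : N →ₛₗ[ψ₂] K) (v₃ : M →ₛₗ[ψ₃] K) (hv₃ : ∀ m, v₃ m = v₂ (v₁ m))
    (x : PrimeSpectrum A) (y : PrimeSpectrum B) (z : PrimeSpectrum C)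
    (h₁ : x.asIdeal = Ideal.comap ψ₁ y.asIdeal) (h₂ : y.asIdeal = Ideal.comap ψ₂ z.asIdeal)
    (h₃ : x.asIdeal = Ideal.comap ψ₃ z.asIdeal) (q : LocalizedModule x.asIdeal.primeCompl M) :
    locModMap' ψ₂ v₂ y z h₂ (locModMap' ψ₁ v₁ x y h₁ q) = locModMap' ψ₃ v₃ x z h₃ q := by
  induction q using LocalizedModule.induction_on with
  | h m s =>
    rw [locModMap'_mk, locModMap'_mk, locModMap'_mk, hv₃]
    congr 1
    exact Subtype.ext (hψ _).symm

theorem locMap'_comp (ψ₁ : A →+* B) (ψ₂ : B →+* C) (ψ₃ : A →+* C) (hψ : ∀ a, ψ₃ a = ψ₂ (ψ₁ a))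
    (x : PrimeSpectrum A) (y : PrimeSpectrum B) (z : PrimeSpectrum C)
    (h₁ : x.asIdeal = Ideal.comap ψ₁ y.asIdeal) (h₂ : y.asIdeal = Ideal.comap ψ₂ z.asIdeal)
    (h₃ : x.asIdeal = Ideal.comap ψ₃ z.asIdeal) (q : Localization.AtPrime x.asIdeal) :
    locMap' ψ₂ y z h₂ (locMap' ψ₁ x y h₁ q) = locMap' ψ₃ x z h₃ q := by
  induction q using Localization.induction_on with
  | H p =>
    obtain ⟨a, s⟩ := p
    rw [locMap'_mk, locMap'_mk, locMap'_mk]
    congr 1
    · exact (hψ a).symm
    · exact Subtype.ext (hψ _).symm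

end primed

section loc

variable {A B : Type u} [CommRing A] [CommRing B]
variable {M N : Type u} [AddCommGroup M] [Module A M] [AddCommGroup N] [Module B N]
variable (ψ : A →+* B) (v : M →ₛₗ[ψ] N) (c : A) (h1 : IsUnit (ψ c))
  (h2 : ∀ b : B, ∃ (a : A) (k : ℕ), b * ψ c ^ k = ψ a)
  (h2M : ∀ b : N, ∃ (a : M) (k : ℕ), ψ c ^ k • b = v a)
  (h3M : ∀ a : M, v a = 0 → ∃ k : ℕ, c ^ k • a = 0)

include h1 in
theorem unit_not_mem (y : PrimeSpectrum B) (k : ℕ) : ψ c ^ k ∉ y.asIdeal := by
  intro h
  exact y.isPrime.ne_top (Ideal.eq_top_of_isUnit_mem _ h (h1.pow k))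

include h1 in
theorem mul_unit_not_mem (y : PrimeSpectrum B) {t : B} (ht : t ∉ y.asIdeal) (k : ℕ) :
    t * ψ c ^ k ∉ y.asIdeal := by
  intro h
  rcases y.isPrime.mem_or_mem h with h | h
  · exact ht h
  · exact unit_not_mem ψ c h1 y k h

include h1 h2 h3M in
/-- the comparison of localized modules along a localization at one element is injective -/
theorem locModMap'_injective (x : PrimeSpectrum A) (y : PrimeSpectrum B)
    (h : x.asIdeal = Ideal.comap ψ y.asIdeal) : Function.Injective (locModMap' ψ v x y h) := by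
  rw [injective_iff_map_eq_zero]
  intro q hq
  induction q using LocalizedModule.induction_on with
  | h m s =>
    rw [locModMap'_mk, ← LocalizedModule.zero_mk 1, LocalizedModule.mk_eq] at hq
    obtain ⟨⟨t, ht⟩, htq⟩ := hq
    have htq' : t • v m = 0 := by
      have := htq
      simp only [Submonoid.smul_def, smul_zero, OneMemClass.coe_one, one_smul] at this
      exact this
    obtain ⟨t', k, htk⟩ := h2 t
    have h0 : v (t' • m) = 0 := by
      rw [LinearMap.map_smulₛₗ]
      show ψ t' • v m = 0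
      rw [← htk, mul_comm, mul_smul, htq', smul_zero]
    obtain ⟨l, hl⟩ := h3M _ h0
    have hmem : c ^ l * t' ∈ x.asIdeal.primeCompl := by
      intro hm
      have hm' : ψ (c ^ l * t') ∈ y.asIdeal := by
        have h3 : ∀ I : Ideal A, x.asIdeal = I → c ^ l * t' ∈ I := by
          intro I hI; rw [← hI]; exact hm
        exact h3 _ h
      rw [map_mul, ← htk, map_pow] at hm'
      rcases y.isPrime.mem_or_mem hm' with h' | h'
      · exact unit_not_mem ψ c h1 y l h'
      · exact mul_unit_not_mem ψ c h1 y ht k h'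
    rw [← LocalizedModule.zero_mk 1, LocalizedModule.mk_eq]
    refine ⟨⟨_, hmem⟩, ?_⟩
    simp only [Submonoid.smul_def, smul_zero, OneMemClass.coe_one, one_smul]
    rw [mul_smul]
    exact hl

include h1 h2 h2M in
/-- a fraction over `N` is the image of a fraction over `M` -/
theorem exists_locModMap'_mk_eq (x : PrimeSpectrum A) (y : PrimeSpectrum B)
    (h : x.asIdeal = Ideal.comap ψ y.asIdeal) (b : N) (t : y.asIdeal.primeCompl) :
    ∃ (a : M) (s : x.asIdeal.primeCompl), locModMap' ψ v x y h (LocalizedModule.mk a s) = LocalizedModule.mk b t := by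
  obtain ⟨a, k, hak⟩ := h2M b
  obtain ⟨s, l, hsl⟩ := h2 (t : B)
  have hs' : s * c ^ k ∈ x.asIdeal.primeCompl := by
    intro hm
    have hm' : ψ (s * c ^ k) ∈ y.asIdeal := by
      have h3 : ∀ I : Ideal A, x.asIdeal = I → s * c ^ k ∈ I := by
        intro I hI; rw [← hI]; exact hm
      exact h3 _ h
    rw [map_mul, ← hsl, map_pow, mul_assoc, ← pow_add] at hm'
    exact mul_unit_not_mem ψ c h1 y t.2 _ hm'
  refine ⟨c ^ l • a, ⟨s * c ^ k, hs'⟩, ?_⟩
  rw [locModMap'_mk, LocalizedModule.mk_eq]
  refine ⟨1, ?_⟩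
  simp only [Submonoid.smul_def, OneMemClass.coe_one, one_smul]
  rw [LinearMap.map_smulₛₗ]
  show (t : B) • (ψ (c ^ l) • v a) = ψ (s * c ^ k) • b
  rw [map_mul, map_pow, map_pow, ← hsl, ← hak, ← mul_smul, ← mul_smul]

include h1 h2 h2M in
theorem locModMap'_surjective (x : PrimeSpectrum A) (y : PrimeSpectrum B)
    (h : x.asIdeal = Ideal.comap ψ y.asIdeal) : Function.Surjective (locModMap' ψ v x y h) := by
  intro q
  induction q using LocalizedModule.induction_on with
  | h b t =>
    obtain ⟨a, s, e⟩ := exists_locModMap'_mk_eq ψ v c h1 h2 h2M x y h b t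
    exact ⟨_, e⟩

end loc

end Groth.Agent.Lib.Helper28.AffTildeAlg
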