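import Groth.Agent.Lib.Helper28.AffTildeAlg
import Groth.Agent.Lib.Helper28.QCohChart
import Groth.Prelude.Def_RelSpec2

/-!
# The module on `X` attached to a module over `f_* O_X`, for an affine morphism `f : X ⟶ S`: the construction

The sections over `W` are the families of elements of the localized modules `M(U)_y`, one for each chart `(U, y)` (an affine
open `U` of `S` and a prime `y` of `Γ(X, f⁻¹U)`) at each point of `W`, which are locally fractions on every chart and
compatible with the restrictions to basic opens.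
-/

set_option autoImplicit false
universe u
open CategoryTheory CategoryTheory.Limits AlgebraicGeometry Opposite TopologicalSpace TopCat
noncomputable section

namespace Groth.Agent.Lib.Helper28.AffTildeEx

open Groth.Agent.Lib.Helper28

/-- the value of a function on an open of `Spec R` at a point -/
def valO {R : CommRingCat.{u}} {V : (Spec R).Opens} (a : Γ(Spec R, V)) (y : V) :
    Localization.AtPrime (y.1 : PrimeSpectrum R).asIdeal :=
  (show (structureSheafInType R R).1.obj (op V) from a).1 y

theorem valO_one {R : CommRingCat.{u}} {V : (Spec R).Opens} (y : V) : valO (1 : Γ(Spec R, V)) y = 1 := rfl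
theorem valO_zero {R : CommRingCat.{u}} {V : (Spec R).Opens} (y : V) : valO (0 : Γ(Spec R, V)) y = 0 := rfl
theorem valO_mul {R : CommRingCat.{u}} {V : (Spec R).Opens} (a b : Γ(Spec R, V)) (y : V) :
    valO (a * b) y = valO a y * valO b y := rfl
theorem valO_add {R : CommRingCat.{u}} {V : (Spec R).Opens} (a b : Γ(Spec R, V)) (y : V) :
    valO (a + b) y = valO a y + valO b y := rfl

theorem valO_res {R : CommRingCat.{u}} {V V' : (Spec R).Opens} (h : V' ≤ V) (a : Γ(Spec R, V)) (y : V') :
    valO ((Spec R).presheaf.map (homOfLE h).op a) y = valO a ⟨y.1, h y.2⟩ := rfl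

variable {X S : Scheme.{u}} (f : X ⟶ S) [IsAffineHom f] (M : AMod (RelSpec.QCAlg.directImage f))

/-- the ring of the chart over `U` -/
abbrev BU (U : S.Opens) : CommRingCat.{u} := (RelSpec.QCAlg.directImage f).presheaf.obj (op U)

/-- the chart over the affine open `U` -/
def emb (U : S.Opens) (hU : IsAffineOpen U) : Spec (BU f U) ⟶ X := (hU.preimage f).fromSpec

instance (U : S.Opens) (hU : IsAffineOpen U) : IsOpenImmersion (emb f U hU) :=
  (hU.preimage f).isOpenImmersion_fromSpec

theorem opensRange_emb (U : S.Opens) (hU : IsAffineOpen U) : (emb f U hU).opensRange = f ⁻¹ᵁ U :=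
  (hU.preimage f).opensRange_fromSpec

/-- restriction of functions -/
def ρ {U V : S.Opens} (i : V ≤ U) : BU f U →+* BU f V :=
  ((RelSpec.QCAlg.directImage f).presheaf.map (homOfLE i).op).hom

/-- restriction of sections of the module, semilinear over the restriction of functions -/
def resM {U V : S.Opens} (i : V ≤ U) : M.val.obj (op U) →ₛₗ[ρ f i] M.val.obj (op V) where
  toFun m := (M.val.map (homOfLE i).op).hom m
  map_add' a b := map_add _ a b
  map_smul' a m := M.val.map_smul (homOfLE i).op a m

theorem resM_apply {U V : S.Opens} (i : V ≤ U) (m : M.val.obj (op U)) :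
    resM f M i m = (M.val.map (homOfLE i).op).hom m := rfl

/-- a chart at the point `x`: an affine open of the base and a prime of the ring over it mapping to `x` -/
structure Ch (x : X) : Type u where
  U : S.Opens
  hU : IsAffineOpen U
  y : PrimeSpectrum (BU f U)
  hy : (emb f U hU).base y = x

/-- the values at `x` of the sections: one element of the localized module for each chart at `x` -/
def T (x : X) : Type u := ∀ c : Ch f x, LocalizedModule c.y.asIdeal.primeCompl (M.val.obj (op c.U))

variable {f}

theorem Ch.mem {x : X} (c : Ch f x) {W : X.Opens} (hx : x ∈ W) : (emb f c.U c.hU).base c.y ∈ W := by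
  rw [c.hy]; exact hx

variable (f)

/-- the comparison map between the localized modules at two charts of a point -/
abbrev tauM {x : X} (c d : Ch f x) (hle : d.U ≤ c.U) (h : c.y.asIdeal = Ideal.comap (ρ f hle) d.y.asIdeal) :
    LocalizedModule c.y.asIdeal.primeCompl (M.val.obj (op c.U)) →+
      LocalizedModule d.y.asIdeal.primeCompl (M.val.obj (op d.U)) :=
  AffTildeAlg.locModMap' (ρ f hle) (resM f M hle) c.y d.y h

/-- the predicate cutting out the sections -/
def IsSec {W : X.Opens} (s : ∀ x : W, T f M x.1) : Prop :=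
  (∀ (U : S.Opens) (hU : IsAffineOpen U),
    (StructureSheaf.isLocallyFraction (BU f U) (M.val.obj (op U))).pred
      (fun y : (emb f U hU ⁻¹ᵁ W : (Spec (BU f U)).Opens) =>
        s ⟨(emb f U hU).base y.1, y.2⟩ ⟨U, hU, y.1, rfl⟩)) ∧
  (∀ (x : W) (c d : Ch f x.1) (r : Γ(S, c.U)) (_ : d.U = S.basicOpen r) (hle : d.U ≤ c.U)
    (h : c.y.asIdeal = Ideal.comap (ρ f hle) d.y.asIdeal),
    s x d = tauM f M c d hle h (s x c))

/-- the prelocal predicate -/
def prelocal : PrelocalPredicate (X := X.carrier) (fun x : X => T f M x) where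
  pred {W} s := IsSec f M (W := W) s
  res := by
    rintro W' W i s ⟨h1, h2⟩
    refine ⟨fun U hU => ?_, fun x c d r hr hle h => h2 (i x) c d r hr hle h⟩
    exact (StructureSheaf.isLocallyFraction (BU f U) (M.val.obj (op U))).res
      (homOfLE (show (emb f U hU ⁻¹ᵁ W' : (Spec (BU f U)).Opens) ≤ emb f U hU ⁻¹ᵁ W from fun y hy => i.le hy)) _
      (h1 U hU)

/-- the local predicate -/
def localPred : LocalPredicate (X := X.carrier) (fun x : X => T f M x) where
  toPrelocalPredicate := prelocal f M
  locality := by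
    intro W s hloc
    refine ⟨fun U hU => ?_, fun x c d r hr hle h => ?_⟩
    · intro y
      obtain ⟨V, hxV, i, hsec⟩ := hloc ⟨(emb f U hU).base y.1, y.2⟩
      obtain ⟨V', hyV', i', hfrac⟩ := hsec.1 U hU ⟨y.1, hxV⟩
      exact ⟨V', hyV', i' ≫ homOfLE (show (emb f U hU ⁻¹ᵁ V : (Spec (BU f U)).Opens) ≤
        emb f U hU ⁻¹ᵁ W from fun y hy => i.le hy), hfrac⟩
    · obtain ⟨V, hxV, i, hsec⟩ := hloc x
      exact hsec.2 ⟨x.1, hxV⟩ c d r hr hle h

instance instAddCommGroupT (x : X) : AddCommGroup (T f M x) :=
  inferInstanceAs (AddCommGroup (∀ c : Ch f x, LocalizedModule c.y.asIdeal.primeCompl (M.val.obj (op c.U))))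

variable {f} in
/-- evaluation of a function on `W` at a chart of a point of `W` -/
def evO {W : X.Opens} (s : Γ(X, W)) (x : W) (c : Ch f x.1) : Localization.AtPrime c.y.asIdeal :=
  valO ((emb f c.U c.hU).app W s) ⟨c.y, c.mem x.2⟩

variable {f} in
theorem evO_one {W : X.Opens} (x : W) (c : Ch f x.1) : evO (1 : Γ(X, W)) x c = 1 := by
  unfold evO
  rw [map_one]
  rfl

variable {f} in
theorem evO_zero {W : X.Opens} (x : W) (c : Ch f x.1) : evO (0 : Γ(X, W)) x c = 0 := by
  unfold evO
  rw [map_zero]
  rfl

variable {f} in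
theorem evO_mul {W : X.Opens} (s t : Γ(X, W)) (x : W) (c : Ch f x.1) :
    evO (s * t) x c = evO s x c * evO t x c := by
  unfold evO
  rw [map_mul]
  rfl

variable {f} in
theorem evO_add {W : X.Opens} (s t : Γ(X, W)) (x : W) (c : Ch f x.1) :
    evO (s + t) x c = evO s x c + evO t x c := by
  unfold evO
  rw [map_add]
  rfl

variable {f} in
theorem evO_res {W W' : X.Opens} (h : W' ≤ W) (s : Γ(X, W)) (x : W') (c : Ch f x.1) :
    evO (QCohLoc.resO h s) x c = evO s ⟨x.1, h x.2⟩ c := by
  unfold evO
  rw [QCohLoc.app_resO]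
  rfl

instance smulT (W : (Opens X)ᵒᵖ) : SMul (X.presheaf.obj W) (∀ x : W.unop, T f M x.1) :=
  ⟨fun s t x c => evO s x c • t x c⟩

theorem smulT_apply (W : (Opens X)ᵒᵖ) (s : X.presheaf.obj W) (t : ∀ x : W.unop, T f M x.1)
    (x : W.unop) (c : Ch f x.1) : (s • t) x c = evO s x c • t x c := rfl

instance modT (W : (Opens X)ᵒᵖ) : Module (X.presheaf.obj W) (∀ x : W.unop, T f M x.1) where
  one_smul t := by
    funext x c; rw [smulT_apply, evO_one]; exact one_smul _ (t x c)
  mul_smul s s' t := by
    funext x c; simp only [smulT_apply]; rw [evO_mul]; exact mul_smul _ _ (t x c)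
  smul_zero s := by
    funext x c; rw [smulT_apply]; exact smul_zero _
  smul_add s t t' := by
    funext x c; simp only [smulT_apply]; exact smul_add _ (t x c) (t' x c)
  add_smul s s' t := by
    funext x c; simp only [smulT_apply]; rw [evO_add]; exact add_smul _ _ (t x c)
  zero_smul t := by
    funext x c; rw [smulT_apply, evO_zero]; exact zero_smul _ (t x c)

section values

/-- values of functions pulled back along `Spec.map` -/
theorem valO_map_app {R R' : CommRingCat.{u}} (φ : R ⟶ R') (U : (Spec R).Opens) (a : Γ(Spec R, U))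
    (z : PrimeSpectrum R') (hz : z ∈ Spec.map φ ⁻¹ᵁ U) :
    valO ((Spec.map φ).app U a) ⟨z, hz⟩ =
      AffTildeAlg.locMap' φ.hom (PrimeSpectrum.comap φ.hom z) z rfl
        (valO a ⟨PrimeSpectrum.comap φ.hom z, hz⟩) :=
  StructureSheaf.comap_apply φ.hom U _ le_rfl a ⟨z, hz⟩

/-- values of functions along a morphism factoring through `Spec.map` -/
theorem valO_app_of_comp {R R' : CommRingCat.{u}} (φ : R ⟶ R') {P : Scheme.{u}} (E : Spec R ⟶ P) (g : Spec R' ⟶ P)
    (he : Spec.map φ ≫ E = g) (W : P.Opens) (a : Γ(P, W)) (z : PrimeSpectrum R') (hz : g.base z ∈ W)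
    (hz' : E.base (PrimeSpectrum.comap φ.hom z) ∈ W) :
    valO (g.app W a) ⟨z, hz⟩ =
      AffTildeAlg.locMap' φ.hom (PrimeSpectrum.comap φ.hom z) z rfl
        (valO (E.app W a) ⟨PrimeSpectrum.comap φ.hom z, hz'⟩) := by
  subst he
  exact valO_map_app φ (E ⁻¹ᵁ W) (E.app W a) z hz'

end values

/-- the chart over a smaller affine open factors through the chart over the bigger one -/
theorem map_emb {U D : S.Opens} (hU : IsAffineOpen U) (hD : IsAffineOpen D) (hle : D ≤ U) :
    Spec.map (CommRingCat.ofHom (ρ f hle)) ≫ emb f U hU = emb f D hD :=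
  (hU.preimage f).map_fromSpec (hD.preimage f) (homOfLE (f.preimage_mono hle)).op

theorem emb_eq {U D : S.Opens} (hU : IsAffineOpen U) (hD : IsAffineOpen D) (hle : D ≤ U)
    (z : PrimeSpectrum (BU f D)) :
    (emb f D hD).base z = (emb f U hU).base (PrimeSpectrum.comap (ρ f hle) z) := by
  rw [← map_emb f hU hD hle]
  rfl

/-- values of functions on `X` read on a chart and on a chart over a smaller affine open -/
theorem valO_basic {U D : S.Opens} (hU : IsAffineOpen U) (hD : IsAffineOpen D) (hle : D ≤ U) (W : X.Opens)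
    (s : Γ(X, W)) (z : PrimeSpectrum (BU f D)) (hz : (emb f D hD).base z ∈ W)
    (hz' : (emb f U hU).base (PrimeSpectrum.comap (ρ f hle) z) ∈ W) :
    valO ((emb f D hD).app W s) ⟨z, hz⟩ =
      AffTildeAlg.locMap' (ρ f hle) (PrimeSpectrum.comap (ρ f hle) z) z rfl
        (valO ((emb f U hU).app W s) ⟨_, hz'⟩) :=
  valO_app_of_comp (CommRingCat.ofHom (ρ f hle)) (emb f U hU) (emb f D hD) (map_emb f hU hD hle) W s z hz hz'

theorem eq_comap {A B : Type u} [CommRing A] [CommRing B] (ψ : A →+* B) (x : PrimeSpectrum A) (y : PrimeSpectrum B)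
    (h : x.asIdeal = Ideal.comap ψ y.asIdeal) : x = PrimeSpectrum.comap ψ y :=
  PrimeSpectrum.ext h

variable {f} in
/-- values of functions on `X` read on a chart and on a chart over a smaller open of it -/
theorem evO_compat {W : X.Opens} (s : Γ(X, W)) (x : W) (c d : Ch f x.1) (hle : d.U ≤ c.U)
    (h : c.y.asIdeal = Ideal.comap (ρ f hle) d.y.asIdeal) :
    evO s x d = AffTildeAlg.locMap' (ρ f hle) c.y d.y h (evO s x c) := by
  obtain ⟨x, hx⟩ := x
  obtain ⟨V, hV, y, hy⟩ := c
  obtain ⟨D, hD, z, hz⟩ := d
  dsimp only at hy hz hle h ⊢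
  subst hz
  obtain rfl := eq_comap (ρ f hle) y z h
  have hy' : (emb f V hV).base (PrimeSpectrum.comap (ρ f hle) z) ∈ W := by
    rw [hy]; exact hx
  exact valO_basic f hV hD hle W s z hx hy'

section pred

variable {R : Type u} [CommRing R] {N : Type u} [AddCommGroup N] [Module R N] {V : Opens (PrimeSpectrum.Top R)}

theorem pred_zero : (StructureSheaf.isLocallyFraction R N).pred (fun x : V => (0 : StructureSheaf.Localizations N x.1)) :=
  (StructureSheaf.sectionsSubmodule N V).zero_mem

theorem pred_add (a b : ∀ x : V, StructureSheaf.Localizations N x.1)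
    (ha : (StructureSheaf.isLocallyFraction R N).pred a) (hb : (StructureSheaf.isLocallyFraction R N).pred b) :
    (StructureSheaf.isLocallyFraction R N).pred (fun x => a x + b x) :=
  (StructureSheaf.sectionsSubmodule N V).add_mem ha hb

theorem pred_smul (r : ∀ x : V, StructureSheaf.Localizations R x.1)
    (hr : (StructureSheaf.isLocallyFraction R R).pred r) (a : ∀ x : V, StructureSheaf.Localizations N x.1)
    (ha : (StructureSheaf.isLocallyFraction R N).pred a) :
    (StructureSheaf.isLocallyFraction R N).pred (fun x => r x • a x) :=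
  (StructureSheaf.sectionsSubalgebraSubmodule N V).smul_mem
    (⟨r, hr⟩ : StructureSheaf.sectionsSubalgebra R V) ha

end pred

theorem valO_pred {R : CommRingCat.{u}} {V : (Spec R).Opens} (a : Γ(Spec R, V)) :
    (StructureSheaf.isLocallyFraction R R).pred (fun y : V => valO a y) :=
  (show (structureSheafInType R R).1.obj (op V) from a).2

/-- the sections over `W`, as a submodule of the dependent functions -/
def sectL (W : (Opens X)ᵒᵖ) : Submodule (X.presheaf.obj W) (∀ x : W.unop, T f M x.1) where
  carrier := {s | IsSec f M s}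
  zero_mem' := by
    refine ⟨fun U hU => pred_zero, ?_⟩
    intro x c d r hr hle h
    exact (map_zero (tauM f M c d hle h)).symm
  add_mem' := by
    rintro s t ⟨hs1, hs2⟩ ⟨ht1, ht2⟩
    refine ⟨fun U hU => pred_add _ _ (hs1 U hU) (ht1 U hU), ?_⟩
    intro x c d r hr hle h
    change s x d + t x d = tauM f M c d hle h (s x c + t x c)
    rw [map_add, hs2 x c d r hr hle h, ht2 x c d r hr hle h]
  smul_mem' := by
    rintro a s ⟨hs1, hs2⟩
    refine ⟨fun U hU => ?_, ?_⟩
    · exact pred_smul _ (valO_pred ((emb f U hU).app W.unop a)) _ (hs1 U hU)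
    · intro x c d r hr hle h
      change evO a x d • s x d = tauM f M c d hle h (evO a x c • s x c)
      rw [AffTildeAlg.locModMap'_smul, ← evO_compat a x c d hle h, hs2 x c d r hr hle h]

/-- restriction of sections -/
def resL {W W' : (Opens X)ᵒᵖ} (i : W ⟶ W') (s : sectL f M W) : sectL f M W' :=
  ⟨fun x => s.1 (i.unop x), (prelocal f M).res i.unop s.1 s.2⟩

/-- the underlying presheaf of abelian groups -/
def LPre : TopCat.Presheaf AddCommGrpCat.{u} X.carrier where
  obj W := AddCommGrpCat.of (sectL f M W)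
  map i := AddCommGrpCat.ofHom
    { toFun := resL f M i
      map_zero' := rfl
      map_add' := fun _ _ => rfl }

/-- the presheaf of modules -/
def LPMod : PresheafOfModules.{u} (X.presheaf ⋙ forget₂ CommRingCat RingCat) :=
  letI (W : (Opens X)ᵒᵖ) :
      Module ↑((X.presheaf ⋙ forget₂ CommRingCat RingCat).obj W) ↑((LPre f M).obj W) := by
    dsimp; exact (inferInstance : Module (X.presheaf.obj W) (sectL f M W))
  .ofPresheaf (LPre f M) fun W W' i r m => by
    refine Subtype.ext (funext fun x => funext fun c => ?_)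
    change evO r (i.unop x) c • m.1 (i.unop x) c = evO (X.presheaf.map i r) x c • m.1 (i.unop x) c
    exact congrArg (· • m.1 (i.unop x) c) (evO_res i.unop.le r x c).symm

/-- the module on `X` attached to the module `M` over `f_* O_X` -/
def L : X.Modules where
  val := LPMod f M
  isSheaf := (TopCat.Presheaf.isSheaf_iff_isSheaf_comp (forget AddCommGrpCat) _).2
    (subsheafToTypes (localPred f M)).2

/-- the module of the chart over `U` -/
abbrev MU (U : S.Opens) : ModuleCat.{u} (BU f U) := ModuleCat.of (BU f U) (M.val.obj (op U))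

/-- the sections of the module of a chart -/
abbrev sectT (U : S.Opens) (V : (Spec (BU f U)).Opens) : Type u :=
  (structureSheafInType (BU f U) (M.val.obj (op U))).1.obj (op V)

/-- the chart identification on sections -/
def lamApp (U : S.Opens) (hU : IsAffineOpen U) (W : X.Opens) :
    sectL f M (op W) →+ sectT f M U (emb f U hU ⁻¹ᵁ W) where
  toFun s := ⟨fun y => s.1 ⟨(emb f U hU).base y.1, y.2⟩ ⟨U, hU, y.1, rfl⟩, s.2.1 U hU⟩
  map_zero' := rfl
  map_add' _ _ := rfl

/-- the chart identifications -/
def lam (U : S.Opens) (hU : IsAffineOpen U) :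
    L f M ⟶ (Scheme.Modules.pushforward (emb f U hU)).obj (tilde (MU f M U)) :=
  ⟨PresheafOfModules.homMk
    { app := fun W => AddCommGrpCat.ofHom (lamApp f M U hU W.unop)
      naturality := fun _ _ _ => rfl }
    fun _ _ _ => rfl⟩

theorem lam_app_val (U : S.Opens) (hU : IsAffineOpen U) (W : X.Opens) (s : sectL f M (op W))
    (y : (emb f U hU ⁻¹ᵁ W : (Spec (BU f U)).Opens)) :
    (show sectT f M U (emb f U hU ⁻¹ᵁ W) from ((lam f M U hU).app W) s).1 y =
      s.1 ⟨(emb f U hU).base y.1, y.2⟩ ⟨U, hU, y.1, rfl⟩ := rfl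

end Groth.Agent.Lib.Helper28.AffTildeEx
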