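import Groth.Agent.Lib.Helper28.AffTildeEx
import Groth.Agent.Lib.Helper28.QCohConv

/-!
# The module attached to a module over `f_* O_X`: comparison maps, compatibility, injectivity
-/

set_option autoImplicit false
universe u
open CategoryTheory CategoryTheory.Limits AlgebraicGeometry Opposite TopologicalSpace TopCat
noncomputable section

namespace Groth.Agent.Lib.Helper28.AffTildeEx

open Groth.Agent.Lib.Helper28 Groth.Agent.Lib.Helper28.QCohLoc

variable {X S : Scheme.{u}} {f : X ⟶ S} [IsAffineHom f] {M : AMod (RelSpec.QCAlg.directImage f)}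

variable (f) in
/-- the image of a function on the base in the ring of a chart -/
def strB {V : S.Opens} (r : Γ(S, V)) : BU f V := ((RelSpec.QCAlg.directImage f).str.app (op V)).hom r

/-- a point of `X` over an affine open has a chart over it -/
theorem exists_chart (V : S.Opens) (hV : IsAffineOpen V) (x : X) (hx : f.base x ∈ V) :
    ∃ y : PrimeSpectrum (BU f V), (emb f V hV).base y = x := by
  have h : x ∈ (emb f V hV).opensRange := by
    rw [opensRange_emb]; exact hx
  exact h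

theorem Ch.base_mem {x : X} (c : Ch f x) : f.base x ∈ c.U := by
  have h : x ∈ (emb f c.U c.hU).opensRange := ⟨c.y, c.hy⟩
  rw [opensRange_emb] at h
  exact h

theorem emb_inj (V : S.Opens) (hV : IsAffineOpen V) {y y' : PrimeSpectrum (BU f V)}
    (h : (emb f V hV).base y = (emb f V hV).base y') : y = y' :=
  (emb f V hV).isOpenEmbedding.injective h

variable (f) in
/-- the restriction of functions to a basic open is the localization at one element -/
theorem res_facts {V D : S.Opens} (hV : IsAffineOpen V) (r : Γ(S, V)) (hr : D = S.basicOpen r) (hle : D ≤ V) :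
    IsUnit (ρ f hle (strB f r)) ∧
    (∀ b : BU f D, ∃ (a : BU f V) (k : ℕ), b * ρ f hle (strB f r) ^ k = ρ f hle a) := by
  subst hr
  letI := ((RelSpec.QCAlg.directImage f).presheaf.map (homOfLE (S.basicOpen_le r)).op).hom.toAlgebra
  haveI : IsLocalization.Away (strB f r) ((RelSpec.QCAlg.directImage f).presheaf.obj (op (S.basicOpen r))) :=
    (RelSpec.QCAlg.directImage f).isQC V hV r
  refine ⟨IsLocalization.Away.algebraMap_isUnit (strB f r), fun b => ?_⟩
  obtain ⟨n, a, h⟩ := IsLocalization.Away.surj (strB f r) b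
  exact ⟨a, n, h⟩

variable (f M) in
/-- the module over `O_S` underlying `M` -/
abbrev osMod : S.Modules := (AMod.toOS (RelSpec.QCAlg.directImage f)).obj M

/-- the restriction of a quasi-coherent module to a basic open is the localization at one element -/
theorem res_factsM (hM : (osMod f M).IsQuasicoherent) {V D : S.Opens} (hV : IsAffineOpen V) (r : Γ(S, V))
    (hr : D = S.basicOpen r) (hle : D ≤ V) :
    (∀ b : M.val.obj (op D), ∃ (a : M.val.obj (op V)) (k : ℕ), ρ f hle (strB f r) ^ k • b = resM f M hle a) ∧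
    (∀ a : M.val.obj (op V), resM f M hle a = 0 → ∃ k : ℕ, strB f r ^ k • a = 0) := by
  subst hr
  have hnat : ∀ e : ℕ, strB f (resO (S.basicOpen_le r) r ^ e) = ρ f hle (strB f r) ^ e := by
    intro e
    unfold strB
    rw [map_pow]
    congr 1
    have := congrArg (fun t => t.hom r)
      ((RelSpec.QCAlg.directImage f).str.naturality (homOfLE (S.basicOpen_le r)).op)
    exact this
  refine ⟨fun b => ?_, fun a ha => ?_⟩
  · obtain ⟨e, x, hx⟩ := (isLocOn_of_isQuasicoherent (osMod f M) hV).surj r b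
    refine ⟨x, e, ?_⟩
    rw [← hnat e]
    exact hx
  · obtain ⟨e, he⟩ := (isLocOn_of_isQuasicoherent (osMod f M) hV).inj r a ha
    refine ⟨e, ?_⟩
    unfold strB
    rw [← map_pow]
    exact he

/-- the point of a chart is the contraction of the point of a chart over a smaller affine open -/
theorem ideal_eq {x : X} (c d : Ch f x) (hle : d.U ≤ c.U) :
    c.y.asIdeal = Ideal.comap (ρ f hle) d.y.asIdeal := by
  have h1 := emb_eq f c.hU d.hU hle d.y
  have h2 : c.y = PrimeSpectrum.comap (ρ f hle) d.y :=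
    emb_inj c.U c.hU (c.hy.trans (d.hy.symm.trans h1))
  exact congrArg (fun t => t.asIdeal) h2

theorem ρ_comp {U V W : S.Opens} (hVU : V ≤ U) (hWV : W ≤ V) (a : BU f U) :
    ρ f (hWV.trans hVU) a = ρ f hWV (ρ f hVU a) := by
  unfold ρ
  have e : (homOfLE (hWV.trans hVU)).op = (homOfLE hVU).op ≫ (homOfLE hWV).op := rfl
  rw [e, Functor.map_comp]
  rfl

theorem resM_comp {U V W : S.Opens} (hVU : V ≤ U) (hWV : W ≤ V) (m : M.val.obj (op U)) :
    resM f M (hWV.trans hVU) m = resM f M hWV (resM f M hVU m) := by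
  change (M.val.map (homOfLE (hWV.trans hVU)).op).hom m =
    (M.val.map (homOfLE hWV).op).hom ((M.val.map (homOfLE hVU).op).hom m)
  have e : (homOfLE (hWV.trans hVU)).op = (homOfLE hVU).op ≫ (homOfLE hWV).op := rfl
  rw [e, PresheafOfModules.map_comp]
  rfl

theorem ideal_comp {x : X} (c d d' : Ch f x) (hle : d.U ≤ c.U) (hle' : d'.U ≤ d.U)
    (h₁ : c.y.asIdeal = Ideal.comap (ρ f hle) d.y.asIdeal)
    (h₂ : d.y.asIdeal = Ideal.comap (ρ f hle') d'.y.asIdeal) :
    c.y.asIdeal = Ideal.comap (ρ f (hle'.trans hle)) d'.y.asIdeal :=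
  ideal_eq c d' (hle'.trans hle)

variable (hM : (osMod f M).IsQuasicoherent)

include hM in
theorem tauM_injective {x : X} (c d : Ch f x) (r : Γ(S, c.U)) (hr : d.U = S.basicOpen r) (hle : d.U ≤ c.U)
    (h : c.y.asIdeal = Ideal.comap (ρ f hle) d.y.asIdeal) : Function.Injective (tauM f M c d hle h) := by
  obtain ⟨h1, h2⟩ := res_facts f c.hU r hr hle
  obtain ⟨h2M, h3M⟩ := res_factsM hM c.hU r hr hle
  exact AffTildeAlg.locModMap'_injective (ρ f hle) (resM f M hle) _ h1 h2 h3M c.y d.y h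

include hM in
theorem tauM_surjective {x : X} (c d : Ch f x) (r : Γ(S, c.U)) (hr : d.U = S.basicOpen r) (hle : d.U ≤ c.U)
    (h : c.y.asIdeal = Ideal.comap (ρ f hle) d.y.asIdeal) : Function.Surjective (tauM f M c d hle h) := by
  obtain ⟨h1, h2⟩ := res_facts f c.hU r hr hle
  obtain ⟨h2M, h3M⟩ := res_factsM hM c.hU r hr hle
  exact AffTildeAlg.locModMap'_surjective (ρ f hle) (resM f M hle) _ h1 h2 h2M c.y d.y h

omit hM in
theorem tauM_comp {x : X} (c d d' : Ch f x) (hle : d.U ≤ c.U) (hle' : d'.U ≤ d.U)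
    (h₁ : c.y.asIdeal = Ideal.comap (ρ f hle) d.y.asIdeal)
    (h₂ : d.y.asIdeal = Ideal.comap (ρ f hle') d'.y.asIdeal)
    (h₃ : c.y.asIdeal = Ideal.comap (ρ f (hle'.trans hle)) d'.y.asIdeal)
    (q : LocalizedModule c.y.asIdeal.primeCompl (M.val.obj (op c.U))) :
    tauM f M d d' hle' h₂ (tauM f M c d hle h₁ q) = tauM f M c d' (hle'.trans hle) h₃ q :=
  AffTildeAlg.locModMap'_comp _ _ _ (fun a => ρ_comp hle hle' a) _ _ _ (fun m => resM_comp hle hle' m)
    c.y d.y d'.y h₁ h₂ h₃ q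

omit hM in
/-- two charts at a point have a common refinement, over an open basic in both -/
theorem exists_common {x : X} (c c' : Ch f x) :
    ∃ (d : Ch f x) (r : Γ(S, c.U)) (r' : Γ(S, c'.U)), d.U = S.basicOpen r ∧ d.U = S.basicOpen r' := by
  obtain ⟨g, g', hgg', hx⟩ := exists_basicOpen_le_affine_inter c.hU c'.hU (f.base x) ⟨c.base_mem, c'.base_mem⟩
  obtain ⟨z, hz⟩ := exists_chart (S.basicOpen g) (c.hU.basicOpen g) x hx
  exact ⟨⟨S.basicOpen g, c.hU.basicOpen g, z, hz⟩, g, g', rfl, hgg'⟩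

omit hM in
theorem Ch.le_of_eq {x : X} {c d : Ch f x} {r : Γ(S, c.U)} (hr : d.U = S.basicOpen r) : d.U ≤ c.U := by
  rw [hr]; exact S.basicOpen_le r

omit hM in
theorem sec_congr {W : X.Opens} (s : ∀ x : W, T f M x.1) (x x' : W) (h : x.1 = x'.1)
    (U : S.Opens) (hU : IsAffineOpen U) (y : PrimeSpectrum (BU f U))
    (h1 : (emb f U hU).base y = x.1) (h2 : (emb f U hU).base y = x'.1) :
    s x ⟨U, hU, y, h1⟩ = s x' ⟨U, hU, y, h2⟩ := by
  obtain ⟨x, hx⟩ := x
  obtain ⟨x', hx'⟩ := x'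
  dsimp only at h h1 h2
  subst h
  rfl

include hM in
/-- the chart identification is injective on sections over opens lying over the affine open -/
theorem lamApp_injective (U : S.Opens) (hU : IsAffineOpen U) (W : X.Opens) (hW : W ≤ f ⁻¹ᵁ U) :
    Function.Injective (lamApp f M U hU W) := by
  intro s s' h
  apply Subtype.ext
  funext x c
  obtain ⟨yU, hyU⟩ := exists_chart U hU x.1 (hW x.2)
  obtain ⟨d, r, r', hr, hr'⟩ := exists_common c (⟨U, hU, yU, hyU⟩ : Ch f x.1)
  have hle : d.U ≤ c.U := Ch.le_of_eq hr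
  have hle' : d.U ≤ U := Ch.le_of_eq (c := (⟨U, hU, yU, hyU⟩ : Ch f x.1)) hr'
  have hid := ideal_eq c d hle
  have hid' := ideal_eq (⟨U, hU, yU, hyU⟩ : Ch f x.1) d hle'
  have e1 := s.2.2 x c d r hr hle hid
  have e1' := s'.2.2 x c d r hr hle hid
  have e2 := s.2.2 x ⟨U, hU, yU, hyU⟩ d r' hr' hle' hid'
  have e2' := s'.2.2 x ⟨U, hU, yU, hyU⟩ d r' hr' hle' hid'
  have hmem : (emb f U hU).base yU ∈ W := by rw [hyU]; exact x.2
  have h0 : s.1 ⟨_, hmem⟩ ⟨U, hU, yU, rfl⟩ = s'.1 ⟨_, hmem⟩ ⟨U, hU, yU, rfl⟩ :=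
    congrArg (fun t : sectT f M U (emb f U hU ⁻¹ᵁ W) => t.1 ⟨yU, hmem⟩) h
  have hUeq : s.1 x ⟨U, hU, yU, hyU⟩ = s'.1 x ⟨U, hU, yU, hyU⟩ :=
    (sec_congr s.1 x ⟨_, hmem⟩ hyU.symm U hU yU hyU rfl).trans
      (h0.trans (sec_congr s'.1 x ⟨_, hmem⟩ hyU.symm U hU yU hyU rfl).symm)
  apply tauM_injective hM c d r hr hle hid
  rw [← e1, ← e1', e2, e2', hUeq]

end Groth.Agent.Lib.Helper28.AffTildeEx
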