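import Groth.Agent.Lib.Helper28.AffTildeEx2

/-!
# The module attached to a module over `f_* O_X`: surjectivity of the chart identifications
-/

set_option autoImplicit false
universe u
open CategoryTheory CategoryTheory.Limits AlgebraicGeometry Opposite TopologicalSpace TopCat
noncomputable section

namespace Groth.Agent.Lib.Helper28.AffTildeEx

open Groth.Agent.Lib.Helper28 Groth.Agent.Lib.Helper28.QCohLoc

variable {X S : Scheme.{u}} {f : X ⟶ S} [IsAffineHom f] {M : AMod (RelSpec.QCAlg.directImage f)}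

theorem exists_opens_nbhd {Q Q' P : Scheme.{u}} (eV : Q ⟶ P) (eD : Q' ⟶ P) [IsOpenImmersion eD] (N : Q'.Opens)
    (W : P.Opens) :
    ∃ N' : Q.Opens, ∀ y : Q, y ∈ N' ↔ (∃ z : Q', z ∈ N ∧ eD.base z = eV.base y) ∧ eV.base y ∈ W :=
  ⟨(eV ⁻¹ᵁ (eD ''ᵁ N)) ⊓ (eV ⁻¹ᵁ W), fun _ => Iff.rfl⟩

theorem exists_opens_comap {R R' : CommRingCat.{u}} (ψ : R →+* R') (NU : (Spec R).Opens) :
    ∃ N : (Spec R').Opens, ∀ z : PrimeSpectrum R', z ∈ N ↔ PrimeSpectrum.comap ψ z ∈ NU :=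
  ⟨Spec.map (CommRingCat.ofHom ψ) ⁻¹ᵁ NU, fun _ => Iff.rfl⟩

theorem exists_basic_of_basic {V D D' : S.Opens} (hV : IsAffineOpen V) (r : Γ(S, V)) (hr : D = S.basicOpen r)
    (ρ' : Γ(S, D)) (hρ : D' = S.basicOpen ρ') : ∃ g : Γ(S, V), D' = S.basicOpen g := by
  subst hr
  obtain ⟨g, hg⟩ := hV.basicOpen_basicOpen_is_basicOpen r ρ'
  exact ⟨g, hρ.trans hg.symm⟩

section surj

variable (hM : (osMod f M).IsQuasicoherent) (U : S.Opens) (hU : IsAffineOpen U) (W : X.Opens)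
  (hW : W ≤ f ⁻¹ᵁ U) (t : sectT f M U (emb f U hU ⁻¹ᵁ W))

omit hM hW t in
theorem memW {x : W} {yU : PrimeSpectrum (BU f U)} (hyU : (emb f U hU).base yU = x.1) :
    (emb f U hU).base yU ∈ W := by
  rw [hyU]; exact x.2

/-- `q` is the value, at the chart `c` of a point `x ∈ W`, of the section reading as `t` on the chart over `U` -/
def Good (x : W) (c : Ch f x.1) (q : LocalizedModule c.y.asIdeal.primeCompl (M.val.obj (op c.U))) : Prop :=
  ∀ (yU : PrimeSpectrum (BU f U)) (hyU : (emb f U hU).base yU = x.1)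
    (d : Ch f x.1) (r : Γ(S, c.U)) (r' : Γ(S, U)) (_ : d.U = S.basicOpen r) (_ : d.U = S.basicOpen r')
    (hle : d.U ≤ c.U) (hle' : d.U ≤ U)
    (h : c.y.asIdeal = Ideal.comap (ρ f hle) d.y.asIdeal)
    (h' : yU.asIdeal = Ideal.comap (ρ f hle') d.y.asIdeal),
    AffTildeAlg.locModMap' (ρ f hle) (resM f M hle) c.y d.y h q =
      AffTildeAlg.locModMap' (ρ f hle') (resM f M hle') yU d.y h' (t.1 ⟨yU, memW U hU W hyU⟩)

include hM hW in
theorem exists_good (x : W) (c : Ch f x.1) : ∃ q, Good U hU W t x c q := by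
  obtain ⟨yU₀, hyU₀⟩ := exists_chart U hU x.1 (hW x.2)
  obtain ⟨d₀, r₀, r₀', hr₀, hr₀'⟩ := exists_common c (⟨U, hU, yU₀, hyU₀⟩ : Ch f x.1)
  have hle₀ : d₀.U ≤ c.U := Ch.le_of_eq hr₀
  have hle₀' : d₀.U ≤ U := Ch.le_of_eq (c := (⟨U, hU, yU₀, hyU₀⟩ : Ch f x.1)) hr₀'
  have hid₀ := ideal_eq c d₀ hle₀
  have hid₀' := ideal_eq (⟨U, hU, yU₀, hyU₀⟩ : Ch f x.1) d₀ hle₀'
  obtain ⟨q, hqe⟩ := tauM_surjective hM c d₀ r₀ hr₀ hle₀ hid₀
    (tauM f M (⟨U, hU, yU₀, hyU₀⟩ : Ch f x.1) d₀ hle₀' hid₀' (t.1 ⟨yU₀, memW U hU W hyU₀⟩))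
  refine ⟨q, ?_⟩
  intro yU hyU d r r' hr hr' hle hle' h h'
  obtain rfl : yU = yU₀ := emb_inj U hU (hyU.trans hyU₀.symm)
  -- a common refinement of `d₀` and `d`
  have hx'' : f.base x.1 ∈ S.basicOpen (r₀ * r) := by
    rw [Scheme.basicOpen_mul]
    exact ⟨hr₀ ▸ d₀.base_mem, hr ▸ d.base_mem⟩
  obtain ⟨z, hz⟩ := exists_chart (S.basicOpen (r₀ * r)) (c.hU.basicOpen (r₀ * r)) x.1 hx''
  obtain ⟨d'', hd''⟩ : ∃ d'' : Ch f x.1, d'' = ⟨S.basicOpen (r₀ * r), c.hU.basicOpen (r₀ * r), z, hz⟩ :=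
    ⟨_, rfl⟩
  have hD'' : d''.U = d₀.U ⊓ d.U := by
    rw [hd'', hr₀, hr]; exact Scheme.basicOpen_mul S r₀ r
  have hl₀ : d''.U ≤ d₀.U := hD'' ▸ inf_le_left
  have hl : d''.U ≤ d.U := hD'' ▸ inf_le_right
  have hb : d''.U = S.basicOpen (S.presheaf.map (homOfLE hle).op r₀) := by
    rw [Scheme.basicOpen_res, hD'', hr₀, inf_comm]
  have i₀ := ideal_eq d₀ d'' hl₀
  have i := ideal_eq d d'' hl
  apply tauM_injective hM d d'' _ hb hl i
  have e1 := tauM_comp (M := M) c d d'' hle hl h i (ideal_comp c d d'' hle hl h i) q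
  have e2 := tauM_comp (M := M) c d₀ d'' hle₀ hl₀ hid₀ i₀ (ideal_comp c d₀ d'' hle₀ hl₀ hid₀ i₀) q
  have e3 := tauM_comp (M := M) (⟨U, hU, yU, hyU₀⟩ : Ch f x.1) d d'' hle' hl h' i
    (ideal_comp (⟨U, hU, yU, hyU₀⟩ : Ch f x.1) d d'' hle' hl h' i) (t.1 ⟨yU, memW U hU W hyU₀⟩)
  have e4 := tauM_comp (M := M) (⟨U, hU, yU, hyU₀⟩ : Ch f x.1) d₀ d'' hle₀' hl₀ hid₀' i₀
    (ideal_comp (⟨U, hU, yU, hyU₀⟩ : Ch f x.1) d₀ d'' hle₀' hl₀ hid₀' i₀) (t.1 ⟨yU, memW U hU W hyU₀⟩)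
  refine e1.trans ?_
  refine Eq.trans ?_ e3.symm
  refine e2.symm.trans ?_
  refine Eq.trans ?_ e4
  exact congrArg _ hqe

/-- the glued values -/
def sigma (x : W) (c : Ch f x.1) : LocalizedModule c.y.asIdeal.primeCompl (M.val.obj (op c.U)) :=
  Classical.choose (exists_good hM U hU W hW t x c)

theorem sigma_good (x : W) (c : Ch f x.1) : Good U hU W t x c (sigma hM U hU W hW t x c) :=
  Classical.choose_spec (exists_good hM U hU W hW t x c)

theorem sigma_compat (x : W) (c d : Ch f x.1) (r : Γ(S, c.U)) (hr : d.U = S.basicOpen r) (hle : d.U ≤ c.U)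
    (h : c.y.asIdeal = Ideal.comap (ρ f hle) d.y.asIdeal) :
    sigma hM U hU W hW t x d = tauM f M c d hle h (sigma hM U hU W hW t x c) := by
  obtain ⟨yU, hyU⟩ := exists_chart U hU x.1 (hW x.2)
  obtain ⟨d', ρ₁, ρ₁', hρ, hρ'⟩ := exists_common d (⟨U, hU, yU, hyU⟩ : Ch f x.1)
  obtain ⟨g', hg'⟩ := exists_basic_of_basic c.hU r hr ρ₁ hρ
  have hl : d'.U ≤ d.U := Ch.le_of_eq hρ
  have hl' : d'.U ≤ U := Ch.le_of_eq (c := (⟨U, hU, yU, hyU⟩ : Ch f x.1)) hρ'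
  have i := ideal_eq d d' hl
  have i' := ideal_eq (⟨U, hU, yU, hyU⟩ : Ch f x.1) d' hl'
  have ic := ideal_comp c d d' hle hl h i
  have g1 := sigma_good hM U hU W hW t x d yU hyU d' ρ₁ ρ₁' hρ hρ' hl hl' i i'
  have g2 := sigma_good hM U hU W hW t x c yU hyU d' g' ρ₁' hg' hρ' (hl.trans hle) hl' ic i'
  have e := tauM_comp (M := M) c d d' hle hl h i ic (sigma hM U hU W hW t x c)
  apply tauM_injective hM d d' ρ₁ hρ hl i
  exact g1.trans (g2.symm.trans e.symm)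

theorem sigma_chartU' (x : W) (yU : PrimeSpectrum (BU f U)) (hyU : (emb f U hU).base yU = x.1) :
    sigma hM U hU W hW t x ⟨U, hU, yU, hyU⟩ = t.1 ⟨yU, memW U hU W hyU⟩ := by
  obtain ⟨cU, hcU⟩ : ∃ cU : Ch f x.1, cU = ⟨U, hU, yU, hyU⟩ := ⟨_, rfl⟩
  obtain ⟨d, r, r', hr, hr'⟩ := exists_common cU cU
  subst hcU
  have hle : d.U ≤ U := Ch.le_of_eq (c := (⟨U, hU, yU, hyU⟩ : Ch f x.1)) hr
  have i := ideal_eq (⟨U, hU, yU, hyU⟩ : Ch f x.1) d hle
  have g := sigma_good hM U hU W hW t x ⟨U, hU, yU, hyU⟩ yU hyU d r r hr hr hle hle i i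
  exact tauM_injective hM (⟨U, hU, yU, hyU⟩ : Ch f x.1) d r hr hle i g

theorem sigma_chartU (y : (emb f U hU ⁻¹ᵁ W : (Spec (BU f U)).Opens)) :
    sigma hM U hU W hW t ⟨(emb f U hU).base y.1, y.2⟩ ⟨U, hU, y.1, rfl⟩ = t.1 y :=
  sigma_chartU' hM U hU W hW t ⟨(emb f U hU).base y.1, y.2⟩ y.1 rfl

/-- near the image of `z₀`, the values `Sg` on the chart over `V` are given by one fraction -/
def FracNear (Sg : ∀ (x : W) (c : Ch f x.1), LocalizedModule c.y.asIdeal.primeCompl (M.val.obj (op c.U)))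
    (V : S.Opens) (hV : IsAffineOpen V) (D : S.Opens) (hD : IsAffineOpen D) (z₀ : PrimeSpectrum (BU f D)) : Prop :=
  ∃ (N : (Spec (BU f V)).Opens),
    (∀ y : PrimeSpectrum (BU f V), (emb f V hV).base y = (emb f D hD).base z₀ → y ∈ N) ∧
    ∃ (hN : N ≤ emb f V hV ⁻¹ᵁ W) (a : M.val.obj (op V)) (s : BU f V),
      ∀ y : N, ∃ hs : s ∉ (y.1 : PrimeSpectrum (BU f V)).asIdeal,
        Sg ⟨(emb f V hV).base y.1, hN y.2⟩ ⟨V, hV, y.1, rfl⟩ = LocalizedModule.mk a ⟨s, hs⟩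

include hM in
/-- the pointwise computation: where `t` is the fraction `a / s`, the glued values are the lifted fraction -/
theorem locFrac_key (Sg : ∀ (x : W) (c : Ch f x.1), LocalizedModule c.y.asIdeal.primeCompl (M.val.obj (op c.U)))
    (hSg : ∀ (x : W) (c : Ch f x.1), Good U hU W t x c (Sg x c))
    (V : S.Opens) (hV : IsAffineOpen V) (D : S.Opens) (hD : IsAffineOpen D)
    (g : Γ(S, V)) (g' : Γ(S, U)) (hg : D = S.basicOpen g) (hg' : D = S.basicOpen g') (hleV : D ≤ V) (hleU : D ≤ U)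
    (a : M.val.obj (op U)) (s : BU f U) (a' : M.val.obj (op V)) (s' : BU f V) (k l : ℕ)
    (hsl : ρ f hleU s * ρ f hleV (strB f g) ^ l = ρ f hleV s')
    (hak : ρ f hleV (strB f g) ^ k • resM f M hleU a = resM f M hleV a')
    (y : PrimeSpectrum (BU f V)) (hyW : (emb f V hV).base y ∈ W)
    (z : PrimeSpectrum (BU f D)) (hz : (emb f D hD).base z = (emb f V hV).base y)
    (hyUW : (emb f U hU).base (PrimeSpectrum.comap (ρ f hleU) z) ∈ W)
    (hsz : s ∉ (PrimeSpectrum.comap (ρ f hleU) z).asIdeal)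
    (ht : t.1 ⟨PrimeSpectrum.comap (ρ f hleU) z, hyUW⟩ = LocalizedModule.mk a ⟨s, hsz⟩) :
    ∃ hnin : s' * strB f g ^ k ∉ y.asIdeal,
      Sg ⟨(emb f V hV).base y, hyW⟩ ⟨V, hV, y, rfl⟩ =
        LocalizedModule.mk (strB f g ^ l • a') ⟨s' * strB f g ^ k, hnin⟩ := by
  have hres := res_facts f hV g hg hleV
  have hC1 := hres.1
  have hid := ideal_eq (⟨V, hV, y, rfl⟩ : Ch f ((emb f V hV).base y)) ⟨D, hD, z, hz⟩ hleV
  have hsz' : ρ f hleU s ∉ z.asIdeal := hsz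
  have h4 : ρ f hleV (s' * strB f g ^ k) = ρ f hleU s * ρ f hleV (strB f g) ^ (l + k) := by
    rw [map_mul, map_pow, ← hsl, pow_add, mul_assoc]
  have hnin : s' * strB f g ^ k ∉ y.asIdeal := by
    intro hmem
    have h3 : ∀ I : Ideal (BU f V), y.asIdeal = I → s' * strB f g ^ k ∈ I := by
      intro I hI; rw [← hI]; exact hmem
    have h1 : ρ f hleV (s' * strB f g ^ k) ∈ z.asIdeal := h3 _ hid
    rw [h4] at h1
    exact AffTildeAlg.mul_unit_not_mem (ρ f hleV) _ hC1 z hsz' (l + k) h1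
  refine ⟨hnin, ?_⟩
  have hyU : (emb f U hU).base (PrimeSpectrum.comap (ρ f hleU) z) = (emb f V hV).base y :=
    (emb_eq f hU hD hleU z).symm.trans hz
  have G := hSg ⟨(emb f V hV).base y, hyW⟩ ⟨V, hV, y, rfl⟩
    (PrimeSpectrum.comap (ρ f hleU) z) hyU ⟨D, hD, z, hz⟩ g g' hg hg' hleV hleU hid rfl
  have e1 := (congrArg (AffTildeAlg.locModMap' (ρ f hleU) (resM f M hleU)
    (PrimeSpectrum.comap (ρ f hleU) z) z rfl) ht).trans
    (AffTildeAlg.locModMap'_mk (ρ f hleU) (resM f M hleU) (PrimeSpectrum.comap (ρ f hleU) z) z rfl a ⟨s, hsz⟩)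
  have e2 := AffTildeAlg.locModMap'_mk (ρ f hleV) (resM f M hleV) y z hid
    (strB f g ^ l • a') ⟨s' * strB f g ^ k, hnin⟩
  apply tauM_injective hM (⟨V, hV, y, rfl⟩ : Ch f ((emb f V hV).base y)) ⟨D, hD, z, hz⟩ g hg hleV hid
  refine G.trans (e1.trans (Eq.trans ?_ e2.symm))
  rw [LocalizedModule.mk_eq]
  refine ⟨1, ?_⟩
  simp only [Submonoid.smul_def, OneMemClass.coe_one, one_smul]
  change ρ f hleV (s' * strB f g ^ k) • resM f M hleU a = ρ f hleU s • resM f M hleV (strB f g ^ l • a')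
  rw [LinearMap.map_smulₛₗ]
  change _ = ρ f hleU s • (ρ f hleV (strB f g ^ l) • resM f M hleV a')
  rw [map_mul, map_pow, map_pow, ← hsl, ← hak, ← mul_smul, ← mul_smul]

include hM in
theorem locFrac_aux (Sg : ∀ (x : W) (c : Ch f x.1), LocalizedModule c.y.asIdeal.primeCompl (M.val.obj (op c.U)))
    (hSg : ∀ (x : W) (c : Ch f x.1), Good U hU W t x c (Sg x c))
    (V : S.Opens) (hV : IsAffineOpen V) (D : S.Opens) (hD : IsAffineOpen D)
    (g : Γ(S, V)) (g' : Γ(S, U)) (hg : D = S.basicOpen g) (hg' : D = S.basicOpen g') (hleV : D ≤ V) (hleU : D ≤ U)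
    (z₀ : PrimeSpectrum (BU f D)) (hz₀W : (emb f D hD).base z₀ ∈ W) :
    FracNear W Sg V hV D hD z₀ := by
  have hu₀ : (emb f U hU).base (PrimeSpectrum.comap (ρ f hleU) z₀) = (emb f D hD).base z₀ :=
    (emb_eq f hU hD hleU z₀).symm
  have hu₀W : (emb f U hU).base (PrimeSpectrum.comap (ρ f hleU) z₀) ∈ W := by
    rw [hu₀]; exact hz₀W
  obtain ⟨NU, hu₀N, iU, a, s, hfrac⟩ := t.2 ⟨PrimeSpectrum.comap (ρ f hleU) z₀, hu₀W⟩
  have hres := res_facts f hV g hg hleV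
  have hresM := res_factsM hM hV g hg hleV
  obtain ⟨s', l, hsl⟩ := hres.2 (ρ f hleU s)
  obtain ⟨a', k, hak⟩ := hresM.1 (resM f M hleU a)
  obtain ⟨N₁, hN₁⟩ := exists_opens_comap (ρ f hleU) NU
  obtain ⟨N, hN⟩ := exists_opens_nbhd (emb f V hV) (emb f D hD) N₁ W
  have hNW : N ≤ emb f V hV ⁻¹ᵁ W := fun y hy => ((hN y).1 hy).2
  have key' : ∀ y : N, ∃ hnin : s' * strB f g ^ k ∉ (y.1 : PrimeSpectrum (BU f V)).asIdeal,
      Sg ⟨(emb f V hV).base y.1, hNW y.2⟩ ⟨V, hV, y.1, rfl⟩ =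
        LocalizedModule.mk (strB f g ^ l • a') ⟨s' * strB f g ^ k, hnin⟩ := by
    intro y
    obtain ⟨z, hzM, hz⟩ := ((hN y.1).1 y.2).1
    have hzN : PrimeSpectrum.comap (ρ f hleU) z ∈ NU := (hN₁ z).1 hzM
    have hyUW : (emb f U hU).base (PrimeSpectrum.comap (ρ f hleU) z) ∈ W := iU.le hzN
    obtain ⟨hsz, hfr⟩ := hfrac ⟨_, hzN⟩
    exact locFrac_key hM U hU W t Sg hSg V hV D hD g g' hg hg' hleV hleU a s a' s' k l hsl hak y.1
      (hNW y.2) z hz hyUW hsz hfr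
  refine ⟨N, ?_, hNW, strB f g ^ l • a', s' * strB f g ^ k, key'⟩
  intro y hy
  refine (hN y).2 ⟨⟨z₀, (hN₁ z₀).2 hu₀N, hy.symm⟩, ?_⟩
  rw [hy]; exact hz₀W

theorem sigma_locFrac (V : S.Opens) (hV : IsAffineOpen V) :
    (StructureSheaf.isLocallyFraction (BU f V) (M.val.obj (op V))).pred
      (fun y : (emb f V hV ⁻¹ᵁ W : (Spec (BU f V)).Opens) =>
        sigma hM U hU W hW t ⟨(emb f V hV).base y.1, y.2⟩ ⟨V, hV, y.1, rfl⟩) := by
  intro y₀
  have hxU : f.base ((emb f V hV).base y₀.1) ∈ U := hW y₀.2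
  have hxV : f.base ((emb f V hV).base y₀.1) ∈ V :=
    Ch.base_mem (⟨V, hV, y₀.1, rfl⟩ : Ch f ((emb f V hV).base y₀.1))
  obtain ⟨g, g', hgg', hxD⟩ := exists_basicOpen_le_affine_inter hV hU _ ⟨hxV, hxU⟩
  obtain ⟨z₀, hz₀⟩ := exists_chart (S.basicOpen g) (hV.basicOpen g) _ hxD
  have hleV : S.basicOpen g ≤ V := S.basicOpen_le g
  have hleU : S.basicOpen g ≤ U := by rw [hgg']; exact S.basicOpen_le g'
  have hz₀W : (emb f (S.basicOpen g) (hV.basicOpen g)).base z₀ ∈ W := by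
    rw [hz₀]; exact y₀.2
  obtain ⟨N, hN1, hN, a, s, hfrac⟩ := locFrac_aux hM U hU W t (sigma hM U hU W hW t)
    (sigma_good hM U hU W hW t) V hV (S.basicOpen g) (hV.basicOpen g) g g' rfl hgg' hleV hleU z₀ hz₀W
  exact ⟨N, hN1 y₀.1 hz₀.symm, homOfLE hN, a, s, fun y => hfrac y⟩

include hM hW in
/-- the chart identification is surjective on sections over opens lying over the affine open -/
theorem lamApp_surjective : Function.Surjective (lamApp f M U hU W) := by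
  intro t
  refine ⟨⟨fun x c => sigma hM U hU W hW t x c,
    ⟨fun V hV => sigma_locFrac hM U hU W hW t V hV,
      fun x c d r hr hle h => sigma_compat hM U hU W hW t x c d r hr hle h⟩⟩, ?_⟩
  apply Subtype.ext
  funext y
  exact sigma_chartU hM U hU W hW t y

end surj

variable (f M) in
theorem lam_bijective (hM : (osMod f M).IsQuasicoherent) (U : S.Opens) (hU : IsAffineOpen U) (W : X.Opens)
    (hW : W ≤ f ⁻¹ᵁ U) : Function.Bijective ((lam f M U hU).app W) :=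
  ⟨lamApp_injective hM U hU W hW, lamApp_surjective hM U hU W hW⟩

variable (f M) in
/-- the constructed module is quasi-coherent -/
theorem isQuasicoherent_L (hM : (osMod f M).IsQuasicoherent) : (L f M).IsQuasicoherent := by
  refine isQuasicoherent_of_charts (L f M) (ι := S.affineOpens) (fun U => Spec (BU f U.1))
    (fun U => emb f U.1 U.2) (fun U => tilde (MU f M U.1)) (fun U => lam f M U.1 U.2) ?_ ?_
  · intro U W hW
    rw [opensRange_emb] at hW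
    exact lam_bijective f M hM U.1 U.2 W hW
  · intro x
    obtain ⟨_, ⟨(U : S.Opens), (hU : IsAffineOpen U), rfl⟩, (hxU : f.base x ∈ U), -⟩ :=
      S.isBasis_affineOpens.exists_subset_of_mem_open (Set.mem_univ (f.base x)) isOpen_univ
    refine ⟨⟨U, hU⟩, ?_⟩
    rw [opensRange_emb]
    exact hxU

end Groth.Agent.Lib.Helper28.AffTildeEx
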