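import Groth.Agent.Lib.Helper28.AffTildeEx3
import Groth.Agent.Lib.Helper28.AffGlue
import Groth.Agent.Lib.Helper28.TensorIso

/-!
# The module attached to a module `M` over `f_* O_X`: its direct image is `M`
-/

set_option autoImplicit false
universe u
open CategoryTheory CategoryTheory.Limits AlgebraicGeometry Opposite TopologicalSpace TopCat
noncomputable section

namespace Groth.Agent.Lib.Helper28.AffTildeEx

open Groth.Agent.Lib.Helper28 Groth.Agent.Lib.Helper28.QCohLoc

variable {X S : Scheme.{u}} {f : X ⟶ S} [IsAffineHom f] {M : AMod (RelSpec.QCAlg.directImage f)}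

section phi

variable (hM : (osMod f M).IsQuasicoherent)

include hM in
/-- the values of a section at two charts of a point, one over a smaller affine open than the other -/
theorem val_of_le {W : X.Opens} (s : sectL f M (op W)) (x : W) (c d : Ch f x.1) (hle : d.U ≤ c.U) :
    s.1 x d = tauM f M c d hle (ideal_eq c d hle) (s.1 x c) := by
  obtain ⟨e, r, r', hr, hr'⟩ := exists_common d c
  have hl : e.U ≤ d.U := Ch.le_of_eq hr
  have hl' : e.U ≤ c.U := Ch.le_of_eq hr'
  have i := ideal_eq d e hl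
  have i' := ideal_eq c e hl'
  have e1 := s.2.2 x d e r hr hl i
  have e2 := s.2.2 x c e r' hr' hl' i'
  have e3 := tauM_comp (M := M) c d e hle hl (ideal_eq c d hle) i i' (s.1 x c)
  apply tauM_injective hM d e r hr hl i
  exact e1.symm.trans (e2.trans e3.symm)

omit hM in
/-- the value of a function on `f⁻¹U` at a point of the chart over `U` -/
theorem evO_self (U : S.Opens) (hU : IsAffineOpen U) (b : Γ(X, f ⁻¹ᵁ U)) (x : (f ⁻¹ᵁ U : X.Opens))
    (y : PrimeSpectrum (BU f U)) (hy : (emb f U hU).base y = x.1) :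
    evO b x ⟨U, hU, y, hy⟩ = Localization.mk (b : BU f U) 1 := by
  unfold evO
  have h : (emb f U hU).app (f ⁻¹ᵁ U) = _ := (hU.preimage f).fromSpec_app_self
  dsimp only
  rw [h]
  rfl

/-- the constant section attached to an element of the module of a chart -/
def constSec (U : S.Opens) (V : (Spec (BU f U)).Opens) (m : M.val.obj (op U)) : sectT f M U V :=
  StructureSheaf.toOpenₗ (BU f U) (M.val.obj (op U)) V m

omit hM in
theorem constSec_bijective (U : S.Opens) (V : (Spec (BU f U)).Opens) (hV : V = ⊤) :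
    Function.Bijective (constSec (M := M) U V) := by
  subst hV
  exact StructureSheaf.toOpenₗ_top_bijective

omit hM in
theorem preimage_emb_self (U : S.Opens) (hU : IsAffineOpen U) : emb f U hU ⁻¹ᵁ (f ⁻¹ᵁ U) = ⊤ :=
  (hU.preimage f).fromSpec_preimage_self

/-- the section over `f⁻¹U` attached to an element of `M(U)` -/
def phi (U : S.Opens) (hU : IsAffineOpen U) (m : M.val.obj (op U)) : sectL f M (op (f ⁻¹ᵁ U)) :=
  (lamApp_surjective hM U hU (f ⁻¹ᵁ U) le_rfl (constSec U _ m)).choose

theorem lamApp_phi (U : S.Opens) (hU : IsAffineOpen U) (m : M.val.obj (op U)) :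
    lamApp f M U hU (f ⁻¹ᵁ U) (phi hM U hU m) = constSec U _ m :=
  (lamApp_surjective hM U hU (f ⁻¹ᵁ U) le_rfl (constSec U _ m)).choose_spec

theorem phi_val (U : S.Opens) (hU : IsAffineOpen U) (m : M.val.obj (op U)) (x : (f ⁻¹ᵁ U : X.Opens))
    (y : PrimeSpectrum (BU f U)) (hy : (emb f U hU).base y = x.1) :
    (phi hM U hU m).1 x ⟨U, hU, y, hy⟩ = LocalizedModule.mk m 1 := by
  have hmem : (emb f U hU).base y ∈ f ⁻¹ᵁ U := by rw [hy]; exact x.2
  have h0 : (phi hM U hU m).1 ⟨_, hmem⟩ ⟨U, hU, y, rfl⟩ = LocalizedModule.mk m 1 :=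
    congrArg (fun t : sectT f M U (emb f U hU ⁻¹ᵁ (f ⁻¹ᵁ U)) => t.1 ⟨y, hmem⟩) (lamApp_phi hM U hU m)
  exact (sec_congr (phi hM U hU m).1 x ⟨_, hmem⟩ hy.symm U hU y hy rfl).trans h0

theorem phi_bijective (U : S.Opens) (hU : IsAffineOpen U) : Function.Bijective (phi hM U hU) := by
  have hc := constSec_bijective (M := M) U _ (preimage_emb_self U hU)
  constructor
  · intro m m' h
    apply hc.1
    rw [← lamApp_phi hM U hU m, ← lamApp_phi hM U hU m', h]
  · intro s
    obtain ⟨m, hm⟩ := hc.2 (lamApp f M U hU (f ⁻¹ᵁ U) s)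
    refine ⟨m, ?_⟩
    apply lamApp_injective hM U hU (f ⁻¹ᵁ U) le_rfl
    rw [lamApp_phi, hm]

theorem phi_add (U : S.Opens) (hU : IsAffineOpen U) (m m' : M.val.obj (op U)) :
    phi hM U hU (m + m') = phi hM U hU m + phi hM U hU m' := by
  apply lamApp_injective hM U hU (f ⁻¹ᵁ U) le_rfl
  rw [map_add, lamApp_phi, lamApp_phi, lamApp_phi]
  exact map_add (StructureSheaf.toOpenₗ (BU f U) (M.val.obj (op U)) _) m m'

theorem phi_smul (U : S.Opens) (hU : IsAffineOpen U) (b : BU f U) (m : M.val.obj (op U)) :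
    phi hM U hU (b • m) = (show X.presheaf.obj (op (f ⁻¹ᵁ U)) from b) • phi hM U hU m := by
  apply lamApp_injective hM U hU (f ⁻¹ᵁ U) le_rfl
  rw [lamApp_phi]
  apply Subtype.ext
  funext y
  change LocalizedModule.mk (b • m) 1 =
    evO (show Γ(X, f ⁻¹ᵁ U) from b) ⟨(emb f U hU).base y.1, y.2⟩ ⟨U, hU, y.1, rfl⟩ •
      (phi hM U hU m).1 ⟨(emb f U hU).base y.1, y.2⟩ ⟨U, hU, y.1, rfl⟩
  rw [evO_self, phi_val]
  exact ((LocalizedModule.mk_smul_mk b m 1 1).trans (by rw [one_mul])).symm

theorem phi_res (U V : S.Opens) (hU : IsAffineOpen U) (hV : IsAffineOpen V) (h : V ≤ U) (m : M.val.obj (op U)) :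
    phi hM V hV (resM f M h m) = resL f M (homOfLE (f.preimage_mono h)).op (phi hM U hU m) := by
  apply lamApp_injective hM V hV (f ⁻¹ᵁ V) le_rfl
  rw [lamApp_phi]
  apply Subtype.ext
  funext y
  have hxU : (emb f V hV).base y.1 ∈ f ⁻¹ᵁ U := f.preimage_mono h y.2
  change LocalizedModule.mk (resM f M h m) 1 =
    (phi hM U hU m).1 ⟨(emb f V hV).base y.1, hxU⟩ ⟨V, hV, y.1, rfl⟩
  rw [val_of_le hM (phi hM U hU m) ⟨(emb f V hV).base y.1, hxU⟩
    ⟨U, hU, PrimeSpectrum.comap (ρ f h) y.1, (emb_eq f hU hV h y.1).symm⟩ ⟨V, hV, y.1, rfl⟩ h, phi_val]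
  change _ = LocalizedModule.mk (resM f M h m) _
  congr 1
  exact Subtype.ext (map_one (ρ f h)).symm

end phi

section iso

variable (hM : (osMod f M).IsQuasicoherent)

/-- the affine-local data of the comparison `M ⟶ f_* L` -/
def homData : AffGlue.AffineHomData (osMod f M) ((Scheme.Modules.pushforward f).obj (L f M)) where
  φ U m := phi hM U.1 U.2 m
  add U x y := phi_add hM U.1 U.2 x y
  smul U a x := phi_smul hM U.1 U.2 (strB f a) x
  nat U V h x := phi_res hM U.1 V.1 U.2 V.2 h x

/-- the comparison on sections -/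
def gl (V : S.Opens) (m : M.val.obj (op V)) : sectL f M (op (f ⁻¹ᵁ V)) := (homData hM).glue V m

theorem gl_add (V : S.Opens) (m m' : M.val.obj (op V)) : gl hM V (m + m') = gl hM V m + gl hM V m' :=
  (homData hM).glue_add V m m'

theorem gl_res {V V' : S.Opens} (h : V' ≤ V) (m : M.val.obj (op V)) :
    gl hM V' (resM f M h m) = resL f M (homOfLE (f.preimage_mono h)).op (gl hM V m) :=
  (homData hM).glue_res h m

theorem gl_of_affine (V : S.Opens) (hV : IsAffineOpen V) (m : M.val.obj (op V)) : gl hM V m = phi hM V hV m :=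
  (homData hM).glue_of_affine ⟨V, hV⟩ m

theorem gl_unique (V : S.Opens) (z z' : sectL f M (op (f ⁻¹ᵁ V)))
    (h : ∀ (V' : S.Opens) (_ : IsAffineOpen V') (h : V' ≤ V),
      resL f M (homOfLE (f.preimage_mono h)).op z = resL f M (homOfLE (f.preimage_mono h)).op z') : z = z' :=
  AffGlue.AffineHomData.glue_unique (G := (Scheme.Modules.pushforward f).obj (L f M)) V z z'
    (fun V' h' => h V'.1 V'.2 h')

theorem resL_smul {W W' : X.Opens} (h : W' ≤ W) (b : X.presheaf.obj (op W)) (s : sectL f M (op W)) :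
    resL f M (homOfLE h).op (b • s) = (X.presheaf.map (homOfLE h).op b) • resL f M (homOfLE h).op s :=
  (LPMod f M).map_smul (homOfLE h).op b s

theorem gl_smul (V : S.Opens) (b : BU f V) (m : M.val.obj (op V)) :
    gl hM V (b • m) = (show X.presheaf.obj (op (f ⁻¹ᵁ V)) from b) • gl hM V m := by
  refine gl_unique V _ _ fun V' hV' h => ?_
  rw [← gl_res hM h, resL_smul, ← gl_res hM h, gl_of_affine hM V' hV', gl_of_affine hM V' hV',
    LinearMap.map_smulₛₗ]
  exact phi_smul hM V' hV' (ρ f h b) (resM f M h m)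

/-- the comparison `M ⟶ f_* L` of modules over `f_* O_X` -/
def Φ : M ⟶ (AMod.dirImg f).obj (L f M) :=
  ⟨PresheafOfModules.homMk
    { app := fun V => AddCommGrpCat.ofHom (AddMonoidHom.mk' (gl hM V.unop) (gl_add hM V.unop))
      naturality := fun V V' i => by
        ext x
        exact gl_res hM (leOfHom i.unop) x }
    (fun V b m => gl_smul hM V.unop b m)⟩

theorem Φ_app (V : S.Opens) (m : M.val.obj (op V)) : ((Φ hM).val.app (op V)).hom m = gl hM V m := rfl

theorem affine_basis (U : S.Opens) (x : S) (hx : x ∈ U) : ∃ V : S.Opens, IsAffineOpen V ∧ x ∈ V ∧ V ≤ U := by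
  obtain ⟨_, ⟨(V : S.Opens), (hV : IsAffineOpen V), rfl⟩, (hxV : x ∈ V), (hVU : V ≤ U)⟩ :=
    S.isBasis_affineOpens.exists_subset_of_mem_open hx U.isOpen
  exact ⟨V, hV, hxV, hVU⟩

theorem isIso_Φ : IsIso (Φ hM) := by
  have hbij : ∀ W : S.Opens, IsAffineOpen W →
      Function.Bijective (((SheafOfModules.toSheaf (AMod.ringSheaf (RelSpec.QCAlg.directImage f))).map (Φ hM)).hom.app
        (op W)) := by
    intro W hW
    have h : ∀ m : M.val.obj (op W),
        ((SheafOfModules.toSheaf (AMod.ringSheaf (RelSpec.QCAlg.directImage f))).map (Φ hM)).hom.app (op W) m =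
          phi hM W hW m := fun m => gl_of_affine hM W hW m
    constructor
    · intro m m' e
      apply (phi_bijective hM W hW).1
      rw [← h m, ← h m']
      exact e
    · intro s
      obtain ⟨m, hm⟩ := (phi_bijective hM W hW).2 s
      exact ⟨m, (h m).trans hm⟩
  haveI : IsIso ((SheafOfModules.toSheaf (AMod.ringSheaf (RelSpec.QCAlg.directImage f))).map (Φ hM)) :=
    (Sheaf.isLocallyBijective_iff_isIso _).1
      ⟨TensorIso.isLocallyInjective_of_basis
          ((SheafOfModules.toSheaf (AMod.ringSheaf (RelSpec.QCAlg.directImage f))).map (Φ hM)).hom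
          (fun V => IsAffineOpen V) affine_basis fun W hW => (hbij W hW).1,
       TensorIso.isLocallySurjective_of_basis
          ((SheafOfModules.toSheaf (AMod.ringSheaf (RelSpec.QCAlg.directImage f))).map (Φ hM)).hom
          (fun V => IsAffineOpen V) affine_basis fun W hW => (hbij W hW).2⟩
  exact isIso_of_reflects_iso (Φ hM) (SheafOfModules.toSheaf (AMod.ringSheaf (RelSpec.QCAlg.directImage f)))

end iso

variable (f M) in
/-- **existence of the module attached to a quasi-coherent module over `f_* O_X`** -/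
theorem exists_isQuasicoherent_dirImg_iso (hM : (osMod f M).IsQuasicoherent) :
    ∃ F : X.Modules, F.IsQuasicoherent ∧ Nonempty ((AMod.dirImg f).obj F ≅ M) := by
  haveI := isIso_Φ hM
  exact ⟨L f M, isQuasicoherent_L f M hM, ⟨(asIso (Φ hM)).symm⟩⟩

end Groth.Agent.Lib.Helper28.AffTildeEx
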