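import Groth.Agent.Lib.Helper28.ImgAlg8
import Groth.Agent.Lib.Helper28.AmpleUnit
import Groth.Agent.Lib.Helper28.TensorPowGen
import Groth.Agent.Lib.Helper28.FinTypeConv

/-!
# The structure sheaf is very ample relative to an affine morphism; finite morphisms are projective
-/

set_option autoImplicit false
universe u
open CategoryTheory CategoryTheory.Limits AlgebraicGeometry TopologicalSpace Opposite
open scoped HomogeneousIdeal
noncomputable section

namespace Groth.Agent.Lib.Helper28.AffVA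

open Groth.Agent.Lib.Helper28 Groth.Agent.Lib.Helper28.QCohLoc Groth.Agent.Lib.Helper28.TraceAlg
open Groth.Agent.Lib.Helper28.SymAlg Groth.Agent.Lib.Helper28.ImgAlg
open Groth.Agent.Lib.Helper28.RLPsi Groth.Agent.Lib.Helper28.RLPsiU Groth.Agent.Lib.Helper28.FTApprox
open Groth.Agent.Lib.Helper28.GenLocus

section fam

variable {Y X : Scheme.{u}} (q : X ⟶ Y) [(Coh.structureModule X).IsQuasicoherent]
  {𝒮L : RelProj.QCGrAlg X} {jL : Coh.structureModule X ⟶ 𝒮L.toModule}
  (hjL : RelProj.IsGrSymAlg (Coh.structureModule X) 𝒮L jL)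
  {𝒜 : RelProj.QCGrAlg Y} {jA : (Scheme.Modules.pushforward q).obj (Coh.structureModule X) ⟶ 𝒜.toModule}
  (h𝒜 : RelProj.IsGrSymAlg ((Scheme.Modules.pushforward q).obj (Coh.structureModule X)) 𝒜 jA)
  (u : RelProj.QGrHom q 𝒜 𝒮L)
  (hu : ∀ (U : Y.Opens) (x : Γ((Scheme.Modules.pushforward q).obj (Coh.structureModule X), U)),
    (u.app U).hom ((jA.app U) x) = (jL.app (q ⁻¹ᵁ U)) x)

/-- the degree-one section `1` -/
def sOne (jA : (Scheme.Modules.pushforward q).obj (Coh.structureModule X) ⟶ 𝒜.toModule) (U : Y.Opens) :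
    𝒜.presheaf.obj (op U) :=
  asR 𝒜.toQCAlg (jA.app U
    (show Γ((Scheme.Modules.pushforward q).obj (Coh.structureModule X), U) from oneSec X (q ⁻¹ᵁ U)))

omit [(Coh.structureModule X).IsQuasicoherent] in
include hu in
theorem tauU_j (U : Y.Opens) (x : Γ((Scheme.Modules.pushforward q).obj (Coh.structureModule X), U))
    (W : X.Opens) (hW : W ≤ q ⁻¹ᵁ U) :
    tauU u U (asR 𝒜.toQCAlg (jA.app U x)) W hW =
      asR 𝒮L.toQCAlg (jL.app W (res (Coh.structureModule X) hW (show Γ(Coh.structureModule X, q ⁻¹ᵁ U) from x))) := by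
  show rS 𝒮L hW ((u.app U).hom (jA.app U x)) = _
  rw [hu]
  exact rS_j hW _

include hjL hu in
/-- the nonvanishing locus of the section `1` is everything (over an affine morphism) -/
theorem XTU_one [IsAffineHom q] (U : Y.Opens) (hU : IsAffineOpen U) :
    XTU u U 1 (sOne q jA U) = q ⁻¹ᵁ U := by
  apply le_antisymm (XTU_le u 1 _)
  intro x hx
  refine (mem_XTU_iff u 1 _ x).2 ⟨q ⁻¹ᵁ U, hU.preimage q, le_rfl, hx, ?_⟩
  intro a ha
  obtain ⟨b', rfl⟩ := exists_eq_str_mul_pow hjL (hU.preimage q) (isGen_oneSec (q ⁻¹ᵁ U)) 1 a ha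
  unfold sOne
  rw [tauU_j q u hu, res_oneSec, pow_one]
  exact Ideal.mul_mem_left _ _ (Ideal.subset_span rfl)

omit [(Coh.structureModule X).IsQuasicoherent] in
include h𝒜 hu in
/-- condition (iii) for the section `1` -/
theorem cond3W_one (U : Y.Opens) (hU : IsAffineOpen U) (W : X.Opens) (hW : W ≤ q ⁻¹ᵁ U)
    (hsurj : Function.Surjective (resO hW : Γ(X, q ⁻¹ᵁ U) → Γ(X, W))) :
    Cond3W u hU 1 (sOne q jA U) W hW := by
  intro t
  obtain ⟨t', rfl⟩ := hsurj t
  refine ⟨1, one_pos, asR 𝒜.toQCAlg (jA.app U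
    (show Γ((Scheme.Modules.pushforward q).obj (Coh.structureModule X), U) from t')), h𝒜.2 U hU _, ?_⟩
  unfold sOne
  rw [tauU_j q u hu, tauU_j q u hu, pow_one, res_oneSec]
  have h1 : res (Coh.structureModule X) hW (show Γ(Coh.structureModule X, q ⁻¹ᵁ U) from t') =
      (resO hW t') • oneSec X W := by
    show resO hW t' = (resO hW t') * (1 : Γ(X, W))
    rw [mul_one]
  rw [h1, jE_smul]

include hjL h𝒜 hu in
/-- **over an affine morphism, the structure sheaf admits a good family** -/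
theorem exists_goodFamily [IsAffineHom q] :
    ∃ (ι : Type u) (U : ι → Y.Opens) (hU : ∀ a, IsAffineOpen (U a)) (n : ι → ℕ)
      (s : ∀ a, 𝒜.presheaf.obj (op (U a))), IsGoodFamily u U hU n s := by
  refine ⟨Y.affineOpens, fun a => a.1, fun a => a.2, fun _ => 1, fun a => sOne q jA a.1,
    fun a => ⟨one_pos, h𝒜.2 _ a.2 _⟩, ?_, fun a => ?_, fun a => ?_⟩
  · refine top_le_iff.1 fun x _ => ?_
    obtain ⟨_, ⟨U, hU, rfl⟩, hxU, -⟩ := Y.isBasis_affineOpens.exists_subset_of_mem_open
      (show q x ∈ ((⊤ : Y.Opens) : Set Y) from trivial) (⊤ : Y.Opens).isOpen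
    refine Opens.mem_iSup.2 ⟨⟨U, hU⟩, ?_⟩
    rw [XTU_one q hjL u hu U hU]
    exact hxU
  · rw [XTU_one q hjL u hu a.1 a.2]
    exact a.2.preimage q
  · rw [cond3U_iff]
    refine cond3W_congr u a.2 1 _ (XTU_one q hjL u hu a.1 a.2).symm le_rfl _
      (cond3W_one q h𝒜 u hu a.1 a.2 _ le_rfl fun t => ⟨t, ?_⟩)
    show (X.presheaf.map (homOfLE (le_refl (q ⁻¹ᵁ a.1))).op).hom t = t
    have h0 : (homOfLE (le_refl (q ⁻¹ᵁ a.1))).op = 𝟙 _ := rfl
    rw [h0, X.presheaf.map_id]
    rfl

end fam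

section fin

variable {Y X : Scheme.{u}} (q : X ⟶ Y)

/-- the direct image of the structure sheaf along a finite morphism is of finite type -/
theorem isFT_pushforward_of_isFinite [IsFinite q] :
    CohB1.IsFT ((Scheme.Modules.pushforward q).obj (Coh.structureModule X)) := by
  have hLq : (Coh.structureModule X).IsQuasicoherent :=
    InvQC.isQuasicoherent_of_isInvertible _ (AmpleUnit.isInvertible_structureModule X)
  have hFq : ((Scheme.Modules.pushforward q).obj (Coh.structureModule X)).IsQuasicoherent :=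
    isQuasicoherent_pushforward q _
  refine FinType.isFiniteType_of_finite_cover _ (fun a : Y.affineOpens => a.1) ?_ (fun a => a.2) (fun a => ?_)
  · exact iSup_affineOpens_eq_top Y
  · have hfin : (q.app a.1).hom.Finite := IsFinite.finite_app q a.1 a.2
    let : Algebra Γ(Y, a.1) Γ(X, q ⁻¹ᵁ a.1) := (q.app a.1).hom.toAlgebra
    have hfin' : Module.Finite Γ(Y, a.1) Γ(X, q ⁻¹ᵁ a.1) := hfin
    let l : Γ(X, q ⁻¹ᵁ a.1) →ₗ[Γ(Y, a.1)] Γ((Scheme.Modules.pushforward q).obj (Coh.structureModule X), a.1) :=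
      { toFun := fun x => x
        map_add' := fun _ _ => rfl
        map_smul' := fun _ _ => rfl }
    exact Module.Finite.of_surjective l (fun x => ⟨x, rfl⟩)

/-- **a finite morphism is projective** -/
theorem isProjective_of_isFinite [IsFinite q] : RelProj.IsProjective q :=
  isProjective_of_family q (AmpleUnit.isInvertible_structureModule X) (isFT_pushforward_of_isFinite q)
    (fun hLq _ _ hjL _ _ h𝒜 u hu => by
      have := hLq
      exact exists_goodFamily q hjL h𝒜 u hu)

end fin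

end Groth.Agent.Lib.Helper28.AffVA
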