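import Groth.Agent.Lib.Helper28.ProjUPGeom3
import Groth.Agent.Lib.Helper28.ProjUPUniq2
import Groth.Agent.Lib.Helper28.TwistGenDAmple

/-!
# Invertible modules on affine schemes generated by global sections

* `surjective_of_generatedBy`: on an affine scheme, global sections generating an invertible module span its module
  of global sections.
* `exists_iso_of_ker_eq`: two quasi-coherent modules on `Spec R` whose global sections are quotients of the same
  `R`-module by the same submodule are isomorphic, compatibly with the quotient maps (tilde-`Γ` adjunction).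
* `generatedBy_pbs_gsec`: the inverse images of degree one generators generate the inverse image of `O(1)`.
-/

set_option autoImplicit false
universe u
open CategoryTheory CategoryTheory.Limits AlgebraicGeometry Opposite TopologicalSpace
noncomputable section

namespace Groth.Agent.Lib.Helper28.AffineSecIso

open Groth.Agent.Lib.Helper28 Groth.Agent.Lib.Helper28.QCohLoc Groth.Agent.Lib.Helper28.GenLocus
  Groth.Agent.Lib.Helper28.ProjUPGeom Groth.Agent.Lib.Helper28.PullbackInv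

section surj

variable {X : Scheme.{u}} [IsAffine X] {L : X.Modules} {M : Type u} [AddCommGroup M] [Module Γ(X, ⊤) M]

/-- on an affine scheme, global sections generating an invertible module span its global sections -/
theorem surjective_of_generatedBy (hL : PicF.IsInvertible L) (v : M →+ ProjUP.Γm L)
    (hv : ∀ (a : Γ(X, ⊤)) (m : M), v (a • m) = (a • (v m : Γ(L, ⊤)) : Γ(L, ⊤)))
    (hgen : ProjUP.GeneratedBy L v) : Function.Surjective v := by
  have : L.IsQuasicoherent := InvQC.isQuasicoherent_of_isInvertible L hL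
  intro μ
  let μ' : Γ(L, ⊤) := μ
  let I : Ideal Γ(X, ⊤) :=
    { carrier := {a | ∃ m, (v m : Γ(L, ⊤)) = (a • μ' : Γ(L, ⊤))}
      add_mem' := by
        rintro a b ⟨m, hm⟩ ⟨m', hm'⟩
        refine ⟨m + m', ?_⟩
        rw [map_add, add_smul]
        exact congrArg₂ (· + ·) hm hm'
      zero_mem' := ⟨0, by rw [map_zero, zero_smul]⟩
      smul_mem' := by
        rintro b a ⟨m, hm⟩
        refine ⟨b • m, ?_⟩
        rw [hv, hm, smul_eq_mul, mul_smul] }
  have hI : I = ⊤ := by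
    rw [← Ideal.span_eq I, ← (isAffineOpen_top X).self_le_iSup_basicOpen_iff]
    intro x _
    obtain ⟨m₀, hx⟩ := ProjUPGeom.exists_mem_UU v hL hgen x
    have hW := isGen_γ v m₀
    obtain ⟨f, hfW, hxf⟩ := (isAffineOpen_top X).exists_basicOpen_le (V := UU v m₀) ⟨x, hx⟩ trivial
    let c : Γ(X, X.basicOpen f) := hW.coef hfW (res L le_top μ')
    have hc : (c • res L hfW (γ v m₀) : Γ(L, X.basicOpen f)) = res L le_top μ' := hW.coef_smul hfW _
    obtain ⟨n, a, hna⟩ := IsLocalization.Away.surj f c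
    have hna' : c * resO (X.basicOpen_le f) f ^ n = resO (X.basicOpen_le f) a := hna
    have h0 : res L (X.basicOpen_le f) ((f ^ n • μ' : Γ(L, ⊤)) - (a • (v m₀ : Γ(L, ⊤)) : Γ(L, ⊤))) = 0 := by
      rw [res_sub, res_smul, res_smul, resO_pow, ← hc, ← mul_smul, mul_comm, hna']
      unfold γ vs
      rw [res_res, sub_self]
    obtain ⟨k, hk⟩ := exists_pow_smul_eq_zero_of_isCompact (M := L) (U := ⊤) isCompact_univ f _ h0
    have hmem : f ^ (k + n + 1) ∈ I := by
      refine ⟨(f ^ (k + 1) * a) • m₀, ?_⟩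
      rw [hv]
      rw [smul_sub', sub_eq_zero] at hk
      have e1 : (f ^ (k + n + 1) • μ' : Γ(L, ⊤)) =
          (f • (f ^ k • (f ^ n • μ' : Γ(L, ⊤)) : Γ(L, ⊤)) : Γ(L, ⊤)) := by
        rw [← mul_smul, ← mul_smul]; congr 1; ring
      have e2 : ((f ^ (k + 1) * a) • (v m₀ : Γ(L, ⊤)) : Γ(L, ⊤)) =
          (f • (f ^ k • (a • (v m₀ : Γ(L, ⊤)) : Γ(L, ⊤)) : Γ(L, ⊤)) : Γ(L, ⊤)) := by
        rw [← mul_smul, ← mul_smul]; congr 1; ring
      rw [e1, e2, hk]
    refine Opens.mem_iSup.2 ⟨⟨f ^ (k + n + 1), hmem⟩, ?_⟩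
    rw [Scheme.basicOpen_pow _ _ (Nat.succ_pos _)]
    exact hxf
  have h1 : (1 : Γ(X, ⊤)) ∈ I := by rw [hI]; trivial
  obtain ⟨m, hm⟩ := h1
  exact ⟨m, by rw [hm, one_smul]⟩

/-- sections form -/
theorem exists_sum_smul_eq (hL : PicF.IsInvertible L) {ι : Type} [Fintype ι] [DecidableEq ι]
    (t : ι → ProjUP.Γm L)
    (hgen : ProjUP.GeneratedBy L t) (μ : Γ(L, ⊤)) :
    ∃ c : ι → Γ(X, ⊤), μ = ∑ j, (c j • (t j : Γ(L, ⊤)) : Γ(L, ⊤)) := by
  let v : (ULift.{u} ι → Γ(X, ⊤)) →+ ProjUP.Γm L :=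
    { toFun := fun c => (∑ j, (c ⟨j⟩ • (t j : Γ(L, ⊤)) : Γ(L, ⊤)) : Γ(L, ⊤))
      map_zero' := by simp
      map_add' := by
        intro c c'
        simp only [Pi.add_apply, add_smul, Finset.sum_add_distrib] }
  have hv : ∀ (a : Γ(X, ⊤)) (m : ULift.{u} ι → Γ(X, ⊤)), v (a • m) = (a • (v m : Γ(L, ⊤)) : Γ(L, ⊤)) := by
    intro a m
    show (∑ j, ((a • m) ⟨j⟩ • (t j : Γ(L, ⊤)) : Γ(L, ⊤)) : Γ(L, ⊤)) =
      (a • (∑ j, (m ⟨j⟩ • (t j : Γ(L, ⊤)) : Γ(L, ⊤)) : Γ(L, ⊤)) : Γ(L, ⊤))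
    rw [Finset.smul_sum]
    refine Finset.sum_congr rfl fun j _ => ?_
    rw [Pi.smul_apply, smul_eq_mul, mul_smul]
  have hvt : ∀ j, v (Pi.single ⟨j⟩ 1) = t j := by
    intro j
    show (∑ k, ((Pi.single (⟨j⟩ : ULift.{u} ι) (1 : Γ(X, ⊤)) : ULift.{u} ι → Γ(X, ⊤)) ⟨k⟩ •
      (t k : Γ(L, ⊤)) : Γ(L, ⊤)) : Γ(L, ⊤)) = t j
    rw [Finset.sum_eq_single j]
    · rw [Pi.single_eq_same, one_smul]
    · intro k _ hk
      rw [Pi.single_eq_of_ne (fun h => hk (congrArg ULift.down h)), zero_smul]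
    · intro h; exact absurd (Finset.mem_univ j) h
  have hgen' : ProjUP.GeneratedBy L v := by
    intro x
    rw [eq_top_iff, ← hgen x]
    refine Submodule.span_mono ?_
    rintro _ ⟨j, rfl⟩
    refine ⟨Pi.single ⟨j⟩ 1, ?_⟩
    show (L.presheaf.germ ⊤ x trivial).hom (v (Pi.single ⟨j⟩ 1)) = (L.presheaf.germ ⊤ x trivial).hom (t j)
    rw [hvt j]
  obtain ⟨c, hc⟩ := surjective_of_generatedBy hL v hv hgen' μ
  exact ⟨fun j => c ⟨j⟩, hc.symm⟩

end surj

section adj
variable {C D : Type*} [Category C] [Category D] {F : C ⥤ D} {G : D ⥤ C} (adj : F ⊣ G)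

theorem map_counit_conj (L₁ L₂ : D) [IsIso (adj.counit.app L₁)] [IsIso (adj.counit.app L₂)]
    (φ : G.obj L₁ ⟶ G.obj L₂) :
    G.map (inv (adj.counit.app L₁) ≫ F.map φ ≫ adj.counit.app L₂) = φ := by
  have h1 : adj.unit.app (G.obj L₁) = G.map (inv (adj.counit.app L₁)) := by
    rw [Functor.map_inv]
    exact IsIso.eq_inv_of_inv_hom_id (adj.right_triangle_components L₁)
  have h2 := adj.unit.naturality φ
  simp only [Functor.id_map, Functor.comp_map] at h2
  rw [G.map_comp, G.map_comp, ← h1, ← Category.assoc, ← h2, Category.assoc,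
    adj.right_triangle_components]
  exact Category.comp_id φ
end adj

variable {R : Type u} [CommRing R]

theorem exists_linearEquiv_of_ker_eq {M N₁ N₂ : Type*} [AddCommGroup M] [Module R M]
    [AddCommGroup N₁] [Module R N₁] [AddCommGroup N₂] [Module R N₂]
    (v₁ : M →ₗ[R] N₁) (v₂ : M →ₗ[R] N₂)
    (h₁ : Function.Surjective v₁) (h₂ : Function.Surjective v₂)
    (hker : LinearMap.ker v₁ = LinearMap.ker v₂) :
    ∃ φ : N₁ ≃ₗ[R] N₂, ∀ m, φ (v₁ m) = v₂ m := by
  refine ⟨(v₁.quotKerEquivOfSurjective h₁).symm ≪≫ₗ Submodule.quotEquivOfEq _ _ hker ≪≫ₗ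
      v₂.quotKerEquivOfSurjective h₂, fun m => ?_⟩
  have e1 : (v₁.quotKerEquivOfSurjective h₁).symm (v₁ m) = Submodule.Quotient.mk m := by
    rw [LinearEquiv.symm_apply_eq]
    rfl
  show v₂.quotKerEquivOfSurjective h₂ (Submodule.quotEquivOfEq _ _ hker
    ((v₁.quotKerEquivOfSurjective h₁).symm (v₁ m))) = v₂ m
  rw [e1]
  rfl

/-- quasi-coherent modules on `Spec R` with the same presentation of their global sections are isomorphic -/
theorem exists_iso_of_ker_eq (L₁ L₂ : (Spec (CommRingCat.of R)).Modules) [L₁.IsQuasicoherent]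
    [L₂.IsQuasicoherent] {M : Type*} [AddCommGroup M] [Module R M]
    (v₁ : M →ₗ[R] ((moduleSpecΓFunctor (R := CommRingCat.of R)).obj L₁))
    (v₂ : M →ₗ[R] ((moduleSpecΓFunctor (R := CommRingCat.of R)).obj L₂))
    (h₁ : Function.Surjective v₁) (h₂ : Function.Surjective v₂)
    (hker : LinearMap.ker v₁ = LinearMap.ker v₂) :
    ∃ τ : L₁ ≅ L₂, ∀ m, ((moduleSpecΓFunctor (R := CommRingCat.of R)).map τ.hom).hom (v₁ m) = v₂ m := by
  obtain ⟨φ, hφ⟩ := exists_linearEquiv_of_ker_eq v₁ v₂ h₁ h₂ hker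
  let Φ : (moduleSpecΓFunctor (R := CommRingCat.of R)).obj L₁ ≅
      (moduleSpecΓFunctor (R := CommRingCat.of R)).obj L₂ := φ.toModuleIso
  have i1 : IsIso ((tilde.adjunction (R := CommRingCat.of R)).counit.app L₁) :=
    Scheme.Modules.isIso_fromTildeΓ_of_isQuasicoherent (R := CommRingCat.of R) L₁
  have i2 : IsIso ((tilde.adjunction (R := CommRingCat.of R)).counit.app L₂) :=
    Scheme.Modules.isIso_fromTildeΓ_of_isQuasicoherent (R := CommRingCat.of R) L₂
  let τ : L₁ ≅ L₂ := (asIso ((tilde.adjunction (R := CommRingCat.of R)).counit.app L₁)).symm ≪≫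
    (tilde.functor (CommRingCat.of R)).mapIso Φ ≪≫
      asIso ((tilde.adjunction (R := CommRingCat.of R)).counit.app L₂)
  refine ⟨τ, fun m => ?_⟩
  have hτ : (moduleSpecΓFunctor (R := CommRingCat.of R)).map τ.hom = Φ.hom :=
    map_counit_conj (tilde.adjunction (R := CommRingCat.of R)) L₁ L₂ Φ.hom
  rw [hτ]
  exact hφ m

section gen

variable {A : Type u} [CommRing A] {S : Type u} [CommRing S] [Algebra A S] (𝒮 : ℕ → Submodule A S)
  [GradedAlgebra 𝒮] {X : Scheme.{u}}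

/-- the inverse images of degree one generators generate the inverse image of `O(1)` -/
theorem generatedBy_pbs_gsec {J : Type*} (xs : J → S) (hxs : ∀ j, xs j ∈ 𝒮 1)
    (hgen : Algebra.adjoin A (Set.range xs) = ⊤) (r : X ⟶ Proj 𝒮) :
    ProjUP.GeneratedBy ((Scheme.Modules.pullback r).obj (Twist.twist 𝒮 ((1 : ℕ) : ℤ)))
      (fun j => (pbs r (Twist.twist 𝒮 ((1 : ℕ) : ℤ)) ⊤ (TwistGen.gsec 𝒮 (xs j) (hxs j)) :
        ProjUP.Γm ((Scheme.Modules.pullback r).obj (Twist.twist 𝒮 ((1 : ℕ) : ℤ))))) := by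
  intro x
  obtain ⟨j, hj⟩ := Segre5.cover_of_adjoin 𝒮 xs hxs hgen (r x)
  have hx : x ∈ r ⁻¹ᵁ Proj.basicOpen 𝒮 (xs j) := hj
  have h1 := TwistGenD.span_germ_eq_top_of_isGen
    (ProjUPUniq.isGen_pbs_gsec 𝒮 r (hxs j) (r ⁻¹ᵁ Proj.basicOpen 𝒮 (xs j)) le_rfl) x hx
  rw [eq_top_iff, ← h1]
  refine Submodule.span_le.2 ?_
  rintro _ rfl
  refine Submodule.subset_span ⟨j, ?_⟩
  exact (ProjUPGeom.germ_res_L _ x le_top hx _).symm

end gen

end Groth.Agent.Lib.Helper28.AffineSecIso
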