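import Groth.Agent.Lib.Helper28.AmpleBaseChange
import Groth.Agent.Lib.Helper28.AmplePow

set_option autoImplicit false
universe u
open CategoryTheory CategoryTheory.Limits AlgebraicGeometry Opposite TopologicalSpace
noncomputable section

namespace Groth.Agent.Lib.Helper28.AmpleLocal

open Groth.Agent.Lib.Helper28 Groth.Agent.Lib.Helper28.QCohLoc Groth.Agent.Lib.Helper28.GenLocus
  Groth.Agent.Lib.Helper28.PullbackInv Groth.Agent.Lib.Helper28.TensorGen Groth.Agent.Lib.Helper28.AmpleUnit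

variable {X : Scheme.{u}}

/-- the product of two invertible modules is ample as soon as the loci `X_s ∩ X_{s'}` that are affine cover -/
theorem isAmple_tensorMod_of_affine_inf [CompactSpace X] {L L' : X.Modules} (hL : PicF.IsInvertible L)
    (hL' : PicF.IsInvertible L')
    (h : ∀ x : X, ∃ (m : ℕ) (s : Coh.structureModule X ⟶ CohB1.tensorPow L (m + 1)) (n : ℕ)
      (s' : Coh.structureModule X ⟶ CohB1.tensorPow L' (n + 1)),
      x ∈ CohB1.genLocus _ s ⊓ CohB1.genLocus _ s' ∧ IsAffineOpen (CohB1.genLocus _ s ⊓ CohB1.genLocus _ s')) :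
    CohB1.IsAmple (CohB1.tensorMod L L') := by
  refine ⟨isInvertible_tensorMod hL hL', inferInstance, fun x => ?_⟩
  obtain ⟨m, s, n, s', hx, haff⟩ := h x
  obtain ⟨ψ₁, -⟩ := exists_tensorPow_tensorPow_iso hL (m + 1) (n + 1) ((m * (n + 1) + n) + 1) (by ring)
  obtain ⟨ψ₂, -⟩ := exists_tensorPow_tensorPow_iso hL' (n + 1) (m + 1) ((m * (n + 1) + n) + 1) (by ring)
  obtain ⟨ψ₃, -⟩ := exists_tensorPow_tensorMod_iso hL hL' ((m * (n + 1) + n) + 1)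
  let t := smulSec (spow s (n + 1)) (spow s' (m + 1))
  have h1 : CohB1.genLocus _ ((t ≫ (PicGrp.tensorModIso ψ₁ ψ₂).hom) ≫ ψ₃.inv) =
      CohB1.genLocus _ s ⊓ CohB1.genLocus _ s' := by
    refine (genLocus_comp_iso (t ≫ (PicGrp.tensorModIso ψ₁ ψ₂).hom) ψ₃.symm).trans ?_
    rw [genLocus_comp_iso _ (PicGrp.tensorModIso ψ₁ ψ₂),
      genLocus_smulSec (isInvertible_tensorPow (isInvertible_tensorPow hL (m + 1)) (n + 1))
        (isInvertible_tensorPow (isInvertible_tensorPow hL' (n + 1)) (m + 1)),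
      genLocus_spow (isInvertible_tensorPow hL (m + 1)) s (n + 1) (Nat.succ_pos n),
      genLocus_spow (isInvertible_tensorPow hL' (n + 1)) s' (m + 1) (Nat.succ_pos m)]
  refine ⟨m * (n + 1) + n, (t ≫ (PicGrp.tensorModIso ψ₁ ψ₂).hom) ≫ ψ₃.inv, ?_⟩
  rw [h1]
  exact ⟨hx, haff⟩

/-- fibre products of affine opens over an affine open are affine opens of the fibre product -/
theorem isAffineOpen_pullback_inf {X Y S : Scheme.{u}} (f : X ⟶ S) (g : Y ⟶ S) (S₀ : S.Opens) (hS₀ : IsAffineOpen S₀)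
    (U₁ : X.Opens) (hU₁ : IsAffineOpen U₁) (h₁ : U₁ ≤ f ⁻¹ᵁ S₀) (U₂ : Y.Opens) (hU₂ : IsAffineOpen U₂)
    (h₂ : U₂ ≤ g ⁻¹ᵁ S₀) :
    IsAffineOpen (pullback.fst f g ⁻¹ᵁ U₁ ⊓ pullback.snd f g ⁻¹ᵁ U₂) := by
  have e₁ : f.resLE S₀ U₁ h₁ ≫ S₀.ι = U₁.ι ≫ f := Scheme.Hom.resLE_comp_ι f h₁
  have e₂ : g.resLE S₀ U₂ h₂ ≫ S₀.ι = U₂.ι ≫ g := Scheme.Hom.resLE_comp_ι g h₂
  have : IsAffine (↑S₀ : Scheme.{u}) := hS₀
  have : IsAffine (↑U₁ : Scheme.{u}) := hU₁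
  have : IsAffine (↑U₂ : Scheme.{u}) := hU₂
  have h := isAffineOpen_opensRange (pullback.map (f.resLE S₀ U₁ h₁) (g.resLE S₀ U₂ h₂) f g U₁.ι U₂.ι S₀.ι e₁ e₂)
  convert h using 1
  ext z
  show z ∈ (pullback.fst f g ⁻¹ᵁ U₁ ⊓ pullback.snd f g ⁻¹ᵁ U₂ : (pullback f g).Opens) ↔
    z ∈ Set.range (pullback.map (f.resLE S₀ U₁ h₁) (g.resLE S₀ U₂ h₂) f g U₁.ι U₂.ι S₀.ι e₁ e₂)
  rw [Scheme.Pullback.range_map, Scheme.Opens.range_ι, Scheme.Opens.range_ι]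
  rfl

/-- **the external tensor product of ample modules is ample** -/
theorem isAmple_extTensor {X Y S : Scheme.{u}} (f : X ⟶ S) (g : Y ⟶ S) [CompactSpace (pullback f g : Scheme.{u})]
    (L : X.Modules) (N : Y.Modules) (hL : CohB1.IsAmple L) (hN : CohB1.IsAmple N) :
    CohB1.IsAmple (CohB1.tensorMod ((Scheme.Modules.pullback (pullback.fst f g)).obj L)
      ((Scheme.Modules.pullback (pullback.snd f g)).obj N)) := by
  refine isAmple_tensorMod_of_affine_inf (isInvertible_pullback _ hL.1) (isInvertible_pullback _ hN.1) fun z => ?_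
  obtain ⟨S₀, hS₀, hzS₀⟩ : ∃ S₀ : S.Opens, IsAffineOpen S₀ ∧ f (pullback.fst f g z) ∈ S₀ := by
    obtain ⟨_, ⟨V, hV, rfl⟩, hyV, -⟩ :=
      S.isBasis_affineOpens.exists_subset_of_mem_open (Set.mem_univ (f (pullback.fst f g z))) isOpen_univ
    exact ⟨V, hV, hyV⟩
  have hzS₀' : g (pullback.snd f g z) ∈ S₀ := by
    have : f (pullback.fst f g z) = g (pullback.snd f g z) := by
      rw [← Scheme.Hom.comp_apply, ← Scheme.Hom.comp_apply, pullback.condition]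
    rwa [← this]
  obtain ⟨m, t₁, hx₁, hle₁, haff₁⟩ := exists_genLocus_le_of_isAmple hL (f ⁻¹ᵁ S₀) (pullback.fst f g z) hzS₀
  obtain ⟨n, t₂, hx₂, hle₂, haff₂⟩ := exists_genLocus_le_of_isAmple hN (g ⁻¹ᵁ S₀) (pullback.snd f g z) hzS₀'
  obtain ⟨u₁, hu₁⟩ := exists_section_pullback_tensorPow (pullback.fst f g) hL.1 (m + 1) t₁
  obtain ⟨u₂, hu₂⟩ := exists_section_pullback_tensorPow (pullback.snd f g) hN.1 (n + 1) t₂
  refine ⟨m, u₁, n, u₂, ?_, ?_⟩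
  · rw [hu₁, hu₂]; exact ⟨hx₁, hx₂⟩
  · rw [hu₁, hu₂]
    exact isAffineOpen_pullback_inf f g S₀ hS₀ _ haff₁ hle₁ _ haff₂ hle₂

end Groth.Agent.Lib.Helper28.AmpleLocal
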