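import Groth.Agent.Lib.Helper6.DevChev
import Groth.Agent.Lib.Helper4.VanClass
import Groth.Agent.Lib.Helper28.PullbackAmple2
import Mathlib
set_option backward.isDefEq.respectTransparency.types false
set_option autoImplicit false

/-!
# Ampleness descends along finite surjective morphisms (schemes proper over a Noetherian ring)

The devissage of `Helper6.DevChev` (Chevalley's theorem), run for the class of coherent modules whose high twists by
`L` have no higher cohomology (`Helper4.VanClass.Van`).
-/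

universe u
open CategoryTheory CategoryTheory.Limits AlgebraicGeometry Opposite TopologicalSpace
open Groth.Agent.Lib.Helper17.CohKer Groth.Agent.Lib.Helper17.StalkExact Groth.Agent.Lib.Helper28.QCohLoc

noncomputable section

namespace Groth.Agent.Lib.Helper28.AmpleFinDescent
open Groth.Agent.Lib.Helper6.DevSub Groth.Agent.Lib.Helper6.DevCore Groth.Agent.Lib.Helper6.DevSoc
  Groth.Agent.Lib.Helper6.DevRed Groth.Agent.Lib.Helper6.DevSum Groth.Agent.Lib.Helper17.Serre
  Groth.Agent.Lib.Helper6.DevStep Groth.Agent.Lib.Helper6.DevExt Groth.Agent.Lib.Helper6.DevPow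
  Groth.Agent.Lib.Helper6.IdealMul Groth.Agent.Lib.Helper6.DevFin Groth.Agent.Lib.Helper6.DevChev
  Groth.Agent.Lib.Helper4.VanClass
open Groth.Agent.Lib.Helper28 Groth.Agent.Lib.Helper28.GenLocus

variable {X Y : Scheme.{u}} (L : X.Modules)

/-- the class `Van L` is closed under retracts -/
theorem van_of_retract {F E : X.Modules} (i : F ⟶ E) (r : E ⟶ F) (h : i ≫ r = 𝟙 F) (hE : Van L E) : Van L F := by
  obtain ⟨n₀, hn₀⟩ := hE
  refine ⟨n₀, fun n hn p hp => ?_⟩
  let T := (DCoh.tensorBi (X := X)).obj (CohB1.tensorPow L n)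
  have e : ∀ G : X.Modules, T.obj G ≅ CohB1.tensorMod G (CohB1.tensorPow L n) :=
    fun G => Groth.Agent.Lib.Helper6.K0Inv.braidIso _ _
  have hTE : HV p (T.obj E) := HV_of_iso p (e E).symm (hn₀ n hn p hp)
  have hTF : HV p (T.obj F) := HV_of_retract p (T.map i) (T.map r) (by rw [← T.map_comp, h, T.map_id]) hTE
  exact HV_of_iso p (e F) hTF

theorem van_of_sigma (F : X.Modules) (r : ℕ) (hr : 1 ≤ r) (h : Van L (∐ fun _ : Fin r => F)) : Van L F := by
  classical
  let k₀ : Fin r := ⟨0, hr⟩
  refine van_of_retract L (Sigma.ι (fun _ : Fin r => F) k₀)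
    (Sigma.desc (fun k => if k = k₀ then 𝟙 F else 0)) ?_ h
  rw [Sigma.ι_desc, if_pos rfl]

theorem van_of_isZero {F : X.Modules} (hF : IsZero F) : Van L F := by
  refine ⟨0, fun n _ p _ => ?_⟩
  let T := (DCoh.tensorBi (X := X)).obj (CohB1.tensorPow L n)
  have e : T.obj F ≅ CohB1.tensorMod F (CohB1.tensorPow L n) := Groth.Agent.Lib.Helper6.K0Inv.braidIso _ _
  have hz : IsZero (T.obj F) := T.map_isZero hF
  exact HV_of_iso p e (HV_of_isZero p hz)

/-- the direct image of a coherent module along an affine morphism from a scheme proper over a Noetherian ring on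
which the inverse image of `L` is ample lies in the class -/
theorem van_push_affine (R : Type u) [CommRing R] [IsNoetherianRing R] (gY : Y ⟶ Spec (CommRingCat.of R)) [IsProper gY]
    (f : Y ⟶ X) [IsAffineHom f] (hL : PicF.IsInvertible L)
    (hA : CohB1.IsAmple ((Scheme.Modules.pullback f).obj L)) (G : Y.Modules) (hG : Coh.IsCoh G) :
    Van L ((Coh.push f).obj G) := by
  obtain ⟨n₀, hn₀⟩ := Groth.Agent.Lib.Helper4.AmpleSerre.vanishing_of_isAmple R Y gY _ hA G hG
  refine ⟨n₀, fun n hn p hp => ?_⟩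
  have h1 := hn₀ n hn p hp
  obtain ⟨e₁, -⟩ := PullbackInv.exists_pullback_tensorPow_iso f hL n
  have h2 : Subsingleton (Coh.HH Y (CohB1.tensorMod G
      ((Scheme.Modules.pullback f).obj (CohB1.tensorPow L n))) p) :=
    subsingleton_HH_of_iso (PicGrp.tensorModIso (Iso.refl G) e₁.symm) p h1
  have hq : Coh.IsQCoh (CohB1.tensorMod G ((Scheme.Modules.pullback f).obj (CohB1.tensorPow L n))) :=
    (Groth.Agent.Lib.Helper6.K0Op.isCoh_tensorMod _ _ hG
      (Groth.Agent.Lib.Helper6.K0Op.isCoh_of_isInvertible _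
        (PullbackInv.isInvertible_pullback f (isInvertible_tensorPow hL n)))).1
  obtain ⟨φ⟩ := Groth.Agent.S0012.result f
    (CohB1.tensorMod G ((Scheme.Modules.pullback f).obj (CohB1.tensorPow L n))) p
  have h3 : Subsingleton (Coh.HH X ((Scheme.Modules.pushforward f).obj
      (CohB1.tensorMod G ((Scheme.Modules.pullback f).obj (CohB1.tensorPow L n)))) p) :=
    φ.symm.toEquiv.subsingleton
  obtain ⟨ψ⟩ := Groth.Agent.Lib.Helper2.Bridge4.exists_projection_iso f G (CohB1.tensorPow L n)
    (isInvertible_tensorPow hL n)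
  exact subsingleton_HH_of_iso ψ.symm p h3

/-- **the high twists of every coherent module have no higher cohomology**, when the inverse image of `L` along a
finite surjective morphism from a scheme proper over a Noetherian ring is ample -/
theorem van_of_finite_surjective (R : Type u) [CommRing R] [IsNoetherianRing R]
    (gY : Y ⟶ Spec (CommRingCat.of R)) [IsProper gY]
    (f : Y ⟶ X) [IsFinite f] [Surjective f] [IsNoetherian X] (hL : PicF.IsInvertible L)
    (hA : CohB1.IsAmple ((Scheme.Modules.pullback f).obj L))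
    (E : X.Modules) (hE : Coh.IsCoh E) : Van L E := by
  classical
  haveI : IsLocallyNoetherian Y := LocallyOfFiniteType.isLocallyNoetherian gY
  have hP : ∀ M N : X.Modules, Nonempty (M ≅ N) → Van L M → Van L N := fun M N ⟨e⟩ h => van_of_iso e h
  have h₁ : ∀ S : ShortComplex X.Modules, S.ShortExact → Coh.IsCoh S.X₁ → Coh.IsCoh S.X₂ → Coh.IsCoh S.X₃ →
      Van L S.X₁ → Van L S.X₃ → Van L S.X₂ := fun S hS _ _ _ k1 k3 => van_of_shortExact hL S hS k1 k3
  have h₂ : ∀ (F : X.Modules) (r : ℕ), Coh.IsCoh F → 1 ≤ r → Van L (∐ fun _ : Fin r => F) → Van L F :=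
    fun F r _ hr h => van_of_sigma L F r hr h
  have hfc : IsClosedMap f := f.isClosedMap
  let K' : ObjectProperty X.Modules := Van L
  haveI : K'.IsClosedUnderIsomorphisms := ⟨fun {A B} e hA => hP A B ⟨e⟩ hA⟩
  refine devissage_core K' h₁ (fun N hN => van_of_isZero L hN) Set.univ ?_ isClosed_univ E hE (Set.subset_univ _)
  intro Z hZ hirr _ y hy IH Q hQ hQZ hyQ
  refine step_ext (Van L) hP h₁ ⟨Z, hZ⟩ hirr y hy ?_ IH Q hQ hQZ hyQ
  intro N j hj hN
  obtain ⟨y', hy'⟩ := f.surjective y
  let W : Closeds Y := ⟨closure {y'}, isClosed_closure⟩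
  let FY : Y.Modules := ClSub.quotMod (Scheme.IdealSheafData.vanishingIdeal W)
  haveI : FY.IsQuasicoherent := (isCoh_quotMod _).1
  have hG : Coh.IsCoh ((Coh.push f).obj FY) := isCoh_push_of_isFinite f FY (isCoh_quotMod _)
  have hyG : y ∈ CohB1.support ((Coh.push f).obj FY) := by
    rw [support_push_quotMod f hfc, Scheme.IdealSheafData.coe_support_vanishingIdeal]
    exact ⟨y', subset_closure (Set.mem_singleton y'), hy'⟩
  refine Groth.Agent.Lib.Helper6.DevIdeal.ideal_case (Van L) hP h₁ h₂ ⟨Z, hZ⟩ hirr y hy IH ((Coh.push f).obj FY)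
    hG hyG (fun a ha m => maximalIdeal_smul_push f y' W rfl y hy' a ha m) ?_ N j hj hN
  intro J hJ
  obtain ⟨M, m, β, hMq, hm, hβ, hsurj⟩ := exists_push_sub f FY J y hJ
  haveI : M.IsQuasicoherent := hMq
  haveI hmm : Mono ((Coh.push f).map m) := inferInstance
  haveI hβm : Mono β := by
    haveI : Mono (β ≫ Dual3.idealMulι J ((Coh.push f).obj FY)) := hβ ▸ hmm
    exact mono_of_mono β (Dual3.idealMulι J ((Coh.push f).obj FY))
  refine ⟨(Coh.push f).obj M, β, hβm, isQuasicoherent_pushforward f M, ?_, ?_⟩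
  · rw [hβ]
    change IsIso ((stalkFunctor y).map ((Coh.push f).map m))
    rw [ConcreteCategory.isIso_iff_bijective]
    exact ⟨stalkHom_injective_of_mono ((Coh.push f).map m) y, hsurj⟩
  · haveI : SheafOfModules.IsFiniteType.{u} (R := Y.ringCatSheaf) FY := (isCoh_quotMod _).2
    haveI : Mono m := hm
    have hMcoh : Coh.IsCoh M := ⟨hMq, isFiniteType_of_mono m⟩
    exact van_push_affine L R gY f hL hA M hMcoh

/-- **ampleness descends along finite surjective morphisms** of schemes proper over a Noetherian ring -/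
theorem isAmple_of_pullback (R : Type u) [CommRing R] [IsNoetherianRing R]
    (gX : X ⟶ Spec (CommRingCat.of R)) (gY : Y ⟶ Spec (CommRingCat.of R)) [IsProper gX] [IsProper gY]
    (f : Y ⟶ X) [IsFinite f] [Surjective f] (hL : PicF.IsInvertible L)
    (hA : CohB1.IsAmple ((Scheme.Modules.pullback f).obj L)) : CohB1.IsAmple L := by
  haveI : CompactSpace X := QuasiCompact.compactSpace_of_compactSpace gX
  haveI : IsLocallyNoetherian X := LocallyOfFiniteType.isLocallyNoetherian gX
  haveI : IsNoetherian X := { }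
  exact Groth.Agent.Lib.Helper4.AmpleSerre.isAmple_of_vanishing R X gX L hL
    (fun M hM => van_of_finite_surjective L R gY f hL hA M hM)

end Groth.Agent.Lib.Helper28.AmpleFinDescent
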