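import Mathlib
import Groth.Agent.Lib.Helper28.ProjMapG

set_option autoImplicit false
universe u
open CategoryTheory CategoryTheory.Limits AlgebraicGeometry Opposite TopologicalSpace
open scoped HomogeneousIdeal TensorProduct
open HomogeneousLocalization

namespace Groth.Agent.Lib.Helper28.AwayBC

variable {R R' A B : Type u} [CommRing R'] [CommRing R] [Algebra R' R]
    [CommRing B] [Algebra R' B] (ℬ : ℕ → Submodule R' B) [GradedAlgebra ℬ]
    [CommRing A] [Algebra R A] [Algebra R' A] [IsScalarTower R' R A] (𝒜 : ℕ → Submodule R A)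
    [GradedAlgebra 𝒜] [Algebra B A] [IsScalarTower R' B A]

/-- projection to degree `m`, `R'`-linear -/
noncomputable def projL (m : ℕ) : B →ₗ[R'] ℬ m :=
  (DirectSum.component R' ℕ (fun i => ℬ i) m).comp (DirectSum.decomposeLinearEquiv ℬ).toLinearMap

theorem projL_apply (m : ℕ) (b : B) : (projL ℬ m b : B) = DirectSum.decompose ℬ b m := rfl

theorem projL_subtype (m : ℕ) (b : ℬ m) : projL ℬ m b = b := by
  apply Subtype.ext
  rw [projL_apply, DirectSum.decompose_coe, DirectSum.of_eq_same]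

theorem lTensor_subtype_injective (m : ℕ) :
    Function.Injective (LinearMap.lTensor R (ℬ m).subtype) := by
  have h1 : (projL ℬ m).comp (ℬ m).subtype = LinearMap.id := LinearMap.ext (projL_subtype ℬ m)
  have h2 : (LinearMap.lTensor R (projL ℬ m)).comp (LinearMap.lTensor R (ℬ m).subtype) =
      LinearMap.id := by
    rw [← LinearMap.lTensor_comp, h1, LinearMap.lTensor_id]
  intro x y hxy
  have := congrArg (LinearMap.lTensor R (projL ℬ m)) hxy
  rw [← LinearMap.comp_apply, ← LinearMap.comp_apply, h2] at this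
  exact this

variable [Algebra.IsPushout R' R B A]

/-- `R ⊗ ℬ m → A`. -/
noncomputable def θ (m : ℕ) : R ⊗[R'] ℬ m →ₗ[R'] A :=
  ((Algebra.IsPushout.equiv R' R B A).toLinearMap.restrictScalars R').comp
    (LinearMap.lTensor R (ℬ m).subtype)

omit [GradedAlgebra ℬ] in
theorem θ_tmul (m : ℕ) (r : R) (b : ℬ m) :
    θ (A := A) ℬ m (r ⊗ₜ b) = r • algebraMap B A b.1 := by
  simp only [θ, LinearMap.coe_comp, Function.comp_apply, LinearMap.lTensor_tmul,
    Submodule.coe_subtype, LinearMap.coe_restrictScalars, AlgEquiv.toLinearMap_apply]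
  rw [Algebra.IsPushout.equiv_tmul, Algebra.smul_def]

theorem θ_injective (m : ℕ) : Function.Injective (θ (A := A) (R := R) ℬ m) := by
  intro x y hxy
  apply lTensor_subtype_injective (R := R) ℬ m
  exact (Algebra.IsPushout.equiv R' R B A).injective hxy

variable (φ : ℬ →+*ᵍ 𝒜) (hφA : ∀ b : B, φ b = algebraMap B A b)

include hφA in
theorem θ_proj (m : ℕ) (t : R ⊗[R'] B) :
    θ (A := A) ℬ m (LinearMap.lTensor R (projL ℬ m) t) =
      DirectSum.decompose 𝒜 (Algebra.IsPushout.equiv R' R B A t) m := by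
  induction t using TensorProduct.induction_on with
  | zero => simp
  | tmul r b =>
    rw [LinearMap.lTensor_tmul, θ_tmul, Algebra.IsPushout.equiv_tmul, ← Algebra.smul_def,
      DirectSum.decompose_smul, DirectSum.smul_apply, Submodule.coe_smul, projL_apply,
      ← hφA, ← hφA, GradedRingHom.map_directSumDecompose]
  | add x y hx hy =>
    rw [map_add, map_add, hx, hy, map_add, DirectSum.decompose_add, DirectSum.add_apply,
      Submodule.coe_add]

include hφA in
theorem θ_surj (m : ℕ) (a : A) (ha : a ∈ 𝒜 m) : ∃ t, θ (A := A) (R := R) ℬ m t = a := by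
  refine ⟨LinearMap.lTensor R (projL ℬ m) ((Algebra.IsPushout.equiv R' R B A).symm a), ?_⟩
  rw [θ_proj ℬ 𝒜 φ hφA, AlgEquiv.apply_symm_apply, DirectSum.decompose_of_mem_same _ ha]


section away

variable {d : ℕ} {f : B} (hf : f ∈ ℬ d)

/-- structure map `R' → B_(f)` -/
noncomputable def ιB (f : B) : R' →+* Away ℬ f :=
  (fromZeroRingHom ℬ (Submonoid.powers f)).comp (algebraMap R' (ℬ 0))

theorem val_ιB (f : B) (r : R') : (ιB ℬ f r).val = Localization.mk (algebraMap R' B r) 1 := rfl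

theorem smul_eq_ιB (f : B) (r : R') (x : Away ℬ f) : r • x = ιB ℬ f r * x := by
  apply val_injective
  rw [val_smul, val_mul, val_ιB]
  induction x.val using Localization.induction_on with
  | H y => rw [Localization.smul_mk, Localization.mk_mul, one_mul, Algebra.smul_def]

@[reducible] noncomputable def algB (f : B) : Algebra R' (Away ℬ f) where
  algebraMap := ιB ℬ f
  commutes' _ _ := mul_comm _ _
  smul_def' r x := smul_eq_ιB ℬ f r x

attribute [local instance] algB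

/-- `b ↦ b / f^n` on `ℬ (n d)`. -/
noncomputable def lam (n : ℕ) : ℬ (n • d) →ₗ[R'] Away ℬ f where
  toFun b := Away.mk ℬ hf n b.1 b.2
  map_add' a b := by
    apply val_injective
    rw [val_add, Away.val_mk, Away.val_mk, Away.val_mk, Localization.add_mk_self]
    rfl
  map_smul' r b := by
    apply val_injective
    rw [RingHom.id_apply]
    refine (Away.val_mk _ _ _ _ _).trans ?_
    rw [Algebra.smul_def (A := Away ℬ f), val_mul, Away.val_mk]
    change Localization.mk (r • b.1) _ = (ιB ℬ f r).val * _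
    rw [val_ιB, Localization.mk_mul, one_mul, Algebra.smul_def]

theorem val_lam (n : ℕ) (b : ℬ (n • d)) :
    (lam ℬ hf n b).val = Localization.mk b.1 (⟨f ^ n, ⟨n, rfl⟩⟩ : Submonoid.powers f) :=
  Away.val_mk _ _ hf _ _

/-- transition maps `b ↦ f^(n'-n) b`. -/
noncomputable def M (n n' : ℕ) (h : n ≤ n') : ℬ (n • d) →ₗ[R'] ℬ (n' • d) where
  toFun b := ⟨f ^ (n' - n) * b.1, by
    have := SetLike.mul_mem_graded (SetLike.pow_mem_graded (n' - n) hf) b.2
    rwa [← add_smul, Nat.sub_add_cancel h] at this⟩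
  map_add' a b := Subtype.ext (by simp [mul_add])
  map_smul' r b := Subtype.ext (by simp)

theorem M_coe (n n' : ℕ) (h : n ≤ n') (b : ℬ (n • d)) :
    (M ℬ hf n n' h b : B) = f ^ (n' - n) * b.1 := rfl

theorem lam_M (n n' : ℕ) (h : n ≤ n') (b : ℬ (n • d)) :
    lam ℬ hf n' (M ℬ hf n n' h b) = lam ℬ hf n b := by
  apply val_injective
  rw [val_lam, val_lam, M_coe, Localization.mk_eq_mk_iff, Localization.r_iff_exists]
  refine ⟨1, ?_⟩
  simp only [OneMemClass.coe_one, one_mul]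
  rw [← mul_assoc, ← pow_add, Nat.add_sub_cancel' h]

theorem lam_comp_M (n n' : ℕ) (h : n ≤ n') :
    (lam ℬ hf n').comp (M ℬ hf n n' h) = lam ℬ hf n := LinearMap.ext (lam_M ℬ hf n n' h)

theorem lTensor_lam_M (n n' : ℕ) (h : n ≤ n') (t : R ⊗[R'] ℬ (n • d)) :
    LinearMap.lTensor R (lam ℬ hf n') (LinearMap.lTensor R (M ℬ hf n n' h) t) =
      LinearMap.lTensor R (lam ℬ hf n) t := by
  rw [← LinearMap.comp_apply, ← LinearMap.lTensor_comp, lam_comp_M]

/-- every element of `R ⊗ B_(f)` comes from some `R ⊗ ℬ (n d)`. -/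
theorem exists_lam (x : R ⊗[R'] Away ℬ f) :
    ∃ (n : ℕ) (t : R ⊗[R'] ℬ (n • d)), LinearMap.lTensor R (lam ℬ hf n) t = x := by
  induction x using TensorProduct.induction_on with
  | zero => exact ⟨0, 0, map_zero _⟩
  | tmul r y =>
    obtain ⟨n, b, hb, rfl⟩ := Away.mk_surjective ℬ hf y
    exact ⟨n, r ⊗ₜ ⟨b, hb⟩, by rw [LinearMap.lTensor_tmul]; rfl⟩
  | add x y hx hy =>
    obtain ⟨n₁, t₁, rfl⟩ := hx
    obtain ⟨n₂, t₂, rfl⟩ := hy
    refine ⟨n₁ + n₂, LinearMap.lTensor R (M ℬ hf n₁ (n₁ + n₂) (Nat.le_add_right _ _)) t₁ +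
      LinearMap.lTensor R (M ℬ hf n₂ (n₁ + n₂) (Nat.le_add_left _ _)) t₂, ?_⟩
    rw [map_add, lTensor_lam_M, lTensor_lam_M]

end away


section main

variable {d : ℕ} {f : B} (hf : f ∈ ℬ d)

attribute [local instance] algB

variable (Ψ₀ : R ⊗[R'] Away ℬ f →+ Away 𝒜 (φ f))
  (hΨ₀ : ∀ (r : R) (y : Away ℬ f), Ψ₀ (r ⊗ₜ y) = ιB 𝒜 (φ f) r * Away.map φ f y)

include hφA hΨ₀ in
theorem val_Ψ₀ (n : ℕ) (t : R ⊗[R'] ℬ (n • d)) :
    (Ψ₀ (LinearMap.lTensor R (lam ℬ hf n) t)).val =
      Localization.mk (θ (A := A) ℬ (n • d) t) (⟨φ f ^ n, ⟨n, rfl⟩⟩ : Submonoid.powers (φ f)) := by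
  induction t using TensorProduct.induction_on with
  | zero => simp [Localization.mk_zero]
  | tmul r b =>
    rw [LinearMap.lTensor_tmul, hΨ₀, val_mul, val_ιB, θ_tmul, Algebra.smul_def r, ← hφA]
    have : lam ℬ hf n b = Away.mk ℬ hf n b.1 b.2 := rfl
    rw [this, Away.map_mk, Away.val_mk, Localization.mk_mul, one_mul]
  | add x y hx hy =>
    rw [map_add, map_add, val_add, hx, hy, map_add, Localization.add_mk_self]

theorem θ_M (n k : ℕ) (t : R ⊗[R'] ℬ (n • d)) :
    θ (A := A) ℬ ((n + k) • d) (LinearMap.lTensor R (M ℬ hf n (n + k) (Nat.le_add_right _ _)) t) =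
      (algebraMap B A f) ^ k * θ (A := A) ℬ (n • d) t := by
  induction t using TensorProduct.induction_on with
  | zero => simp
  | tmul r b =>
    rw [LinearMap.lTensor_tmul, θ_tmul, θ_tmul, M_coe, Nat.add_sub_cancel_left, map_mul, map_pow,
      mul_smul_comm]
  | add x y hx hy =>
    rw [map_add, map_add, hx, hy, map_add, mul_add]

include hφA hΨ₀ hf in
theorem Ψ₀_injective : Function.Injective Ψ₀ := by
  rw [injective_iff_map_eq_zero]
  intro x hx
  obtain ⟨n, t, rfl⟩ := exists_lam (R := R) ℬ hf x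
  have h1 := val_Ψ₀ ℬ 𝒜 φ hφA hf Ψ₀ hΨ₀ n t
  rw [hx, val_zero, eq_comm, Localization.mk_eq_mk', IsLocalization.mk'_eq_zero_iff] at h1
  obtain ⟨⟨_, k, rfl⟩, hk⟩ := h1
  have h2 : θ (A := A) ℬ ((n + k) • d)
      (LinearMap.lTensor R (M ℬ hf n (n + k) (Nat.le_add_right _ _)) t) = 0 := by
    rw [θ_M, ← hφA]
    exact hk
  have h3 := θ_injective (A := A) (R := R) ℬ ((n + k) • d) (h2.trans (map_zero _).symm)
  rw [← lTensor_lam_M ℬ hf n (n + k) (Nat.le_add_right _ _), h3, map_zero]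

include hφA hΨ₀ hf in
theorem Ψ₀_surjective : Function.Surjective Ψ₀ := by
  intro y
  obtain ⟨n, a, ha, rfl⟩ := Away.mk_surjective 𝒜 (φ.2 hf) y
  obtain ⟨t, rfl⟩ := θ_surj (R := R) ℬ 𝒜 φ hφA (n • d) a ha
  refine ⟨LinearMap.lTensor R (lam ℬ hf n) t, ?_⟩
  apply val_injective
  rw [val_Ψ₀ ℬ 𝒜 φ hφA hf Ψ₀ hΨ₀ n t, Away.val_mk]
  rfl

end main


section algA

@[reducible] noncomputable def algA' (g : A) : Algebra R' (Away 𝒜 g) where
  smul r x := algebraMap R' R r • x
  algebraMap := (ιB 𝒜 g).comp (algebraMap R' R)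
  commutes' _ _ := mul_comm _ _
  smul_def' r x := smul_eq_ιB 𝒜 g (algebraMap R' R r) x

end algA

section final

variable {d : ℕ} {f : B} (hf : f ∈ ℬ d)

include hφA hf in
attribute [local instance] algB in
/-- Base change of the degree-zero localisation: `A_(φ f) = R ⊗_{R'} B_(f)`. -/
theorem isPushout_away :
    IsPushout (CommRingCat.ofHom (algebraMap R' R)) (CommRingCat.ofHom (ιB ℬ f))
      (CommRingCat.ofHom (ιB 𝒜 (φ f))) (CommRingCat.ofHom (Away.map φ f)) := by
  let _ : Algebra R' (Away 𝒜 (φ f)) := algA' 𝒜 (φ f)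
  let _ : Algebra (Away ℬ f) (Away 𝒜 (φ f)) := (Away.map φ f).toAlgebra
  have : IsScalarTower R' R (Away 𝒜 (φ f)) :=
    IsScalarTower.of_algebraMap_eq (R := R') (S := R) (A := Away 𝒜 (φ f)) fun _ => rfl
  have : IsScalarTower R' (Away ℬ f) (Away 𝒜 (φ f)) :=
    IsScalarTower.of_algebraMap_eq (R := R') (S := Away ℬ f) (A := Away 𝒜 (φ f)) fun r => by
    change (fromZeroRingHom 𝒜 _) (algebraMap R (𝒜 0) (algebraMap R' R r)) =
      Away.map φ f (fromZeroRingHom ℬ _ (algebraMap R' (ℬ 0) r))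
    rw [ProjMapG.away_map_fromZero]
    congr 1
    apply Subtype.ext
    change algebraMap R A (algebraMap R' R r) = φ (algebraMap R' B r)
    rw [hφA, ← IsScalarTower.algebraMap_apply, ← IsScalarTower.algebraMap_apply]
  let Ψ : R ⊗[R'] Away ℬ f →ₗ[R] Away 𝒜 (φ f) :=
    LinearMap.liftBaseChange R (IsScalarTower.toAlgHom R' (Away ℬ f) (Away 𝒜 (φ f))).toLinearMap
  have hΨ : ∀ (r : R) (y : Away ℬ f),
      Ψ.toAddMonoidHom (r ⊗ₜ y) = ιB 𝒜 (φ f) r * Away.map φ f y := by
    intro r y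
    change Ψ (r ⊗ₜ y) = _
    rw [LinearMap.liftBaseChange_tmul, Algebra.smul_def]
    rfl
  have hbij : Function.Bijective Ψ :=
    ⟨Ψ₀_injective ℬ 𝒜 φ hφA hf Ψ.toAddMonoidHom hΨ, Ψ₀_surjective ℬ 𝒜 φ hφA hf Ψ.toAddMonoidHom hΨ⟩
  have : Algebra.IsPushout R' R (Away ℬ f) (Away 𝒜 (φ f)) :=
    ⟨IsBaseChange.of_equiv (LinearEquiv.ofBijective Ψ hbij) (fun x => by
      change Ψ (1 ⊗ₜ x) = _
      rw [LinearMap.liftBaseChange_tmul, one_smul])⟩
  exact CommRingCat.isPushout_of_isPushout R' R (Away ℬ f) (Away 𝒜 (φ f))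

end final

end Groth.Agent.Lib.Helper28.AwayBC
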