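import Mathlib
import Groth.Agent.Lib.Helper28.AwayBC
import Groth.Agent.Lib.Helper28.ProjMapG

set_option autoImplicit false
universe u
open CategoryTheory CategoryTheory.Limits AlgebraicGeometry Opposite TopologicalSpace
open scoped HomogeneousIdeal TensorProduct DirectSum
open HomogeneousLocalization

namespace Groth.Agent.Lib.Helper28.AwayBCG

section toSub

variable {R B : Type u} [CommRing R] [CommRing B] [Algebra R B]
  (𝒢 : ℕ → AddSubgroup B) [GradedRing 𝒢] (hs : ∀ r : R, algebraMap R B r ∈ 𝒢 0)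

/-- an `AddSubgroup`-grading whose degree-zero part contains the scalars, as a `Submodule`-grading -/
def toSub (n : ℕ) : Submodule R B where
  carrier := 𝒢 n
  add_mem' := (𝒢 n).add_mem
  zero_mem' := (𝒢 n).zero_mem
  smul_mem' r x hx := by
    rw [Algebra.smul_def]
    have := SetLike.mul_mem_graded (hs r) hx
    rwa [zero_add] at this

theorem mem_toSub {n : ℕ} {x : B} : x ∈ toSub 𝒢 hs n ↔ x ∈ 𝒢 n := Iff.rfl

instance : SetLike.GradedMonoid (toSub 𝒢 hs) where
  one_mem := SetLike.GradedOne.one_mem (A := 𝒢)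
  mul_mem _ _ _ _ ha hb := SetLike.mul_mem_graded (A := 𝒢) ha hb

/-- componentwise identification -/
def comp (i : ℕ) : 𝒢 i →+ toSub 𝒢 hs i where
  toFun x := ⟨x.1, x.2⟩
  map_zero' := rfl
  map_add' _ _ := rfl

/-- the decomposition map -/
def dec : B →+ ⨁ i, toSub 𝒢 hs i :=
  (DFinsupp.mapRange.addMonoidHom (comp 𝒢 hs)).comp (DirectSum.decomposeAddEquiv 𝒢).toAddMonoidHom

theorem coe_mapRange (y : ⨁ i, 𝒢 i) :
    DirectSum.coeAddMonoidHom (toSub 𝒢 hs) (DFinsupp.mapRange.addMonoidHom (comp 𝒢 hs) y) =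
      DirectSum.coeAddMonoidHom 𝒢 y := by
  induction y using DirectSum.induction_on with
  | zero => simp
  | of i z =>
    rw [DirectSum.coeAddMonoidHom_of]
    change DirectSum.coeAddMonoidHom (toSub 𝒢 hs)
      (DFinsupp.mapRange (fun i => comp 𝒢 hs i) (fun i => map_zero _) (DFinsupp.single i z)) = _
    rw [DFinsupp.mapRange_single]
    exact DirectSum.coeAddMonoidHom_of (toSub 𝒢 hs) i _
  | add x y hx hy => rw [map_add, map_add, map_add, hx, hy]

instance : DirectSum.Decomposition (toSub 𝒢 hs) :=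
  DirectSum.Decomposition.ofAddHom _ (dec 𝒢 hs)
    (by
      ext x
      change DirectSum.coeAddMonoidHom (toSub 𝒢 hs)
        (DFinsupp.mapRange.addMonoidHom (comp 𝒢 hs) (DirectSum.decompose 𝒢 x)) = x
      rw [coe_mapRange]
      exact DirectSum.Decomposition.left_inv x)
    (by
      refine DirectSum.addHom_ext fun i z => ?_
      change DFinsupp.mapRange.addMonoidHom (comp 𝒢 hs)
        (DirectSum.decompose 𝒢 (DirectSum.coeAddMonoidHom (toSub 𝒢 hs)
          (DirectSum.of (fun i => toSub 𝒢 hs i) i z))) = DirectSum.of (fun i => toSub 𝒢 hs i) i z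
      rw [DirectSum.coeAddMonoidHom_of, DirectSum.decompose_of_mem 𝒢 (x := (z : B)) z.2]
      change DFinsupp.mapRange (fun i => comp 𝒢 hs i) (fun i => map_zero _)
        (DFinsupp.single i ⟨z.1, z.2⟩) = _
      rw [DFinsupp.mapRange_single]
      rfl)

instance : GradedAlgebra (toSub 𝒢 hs) where


/-- identity as a graded homomorphism -/
def idTo : toSub 𝒢 hs →+*ᵍ 𝒢 := { RingHom.id B with map_mem := fun hx => hx }

@[simp] theorem idTo_apply (x : B) : idTo 𝒢 hs x = x := rfl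

theorem away_idTo_bijective {d : ℕ} (hd : 0 < d) {f : B} (hf : f ∈ 𝒢 d) :
    Function.Bijective (Away.map (idTo 𝒢 hs) f) := by
  refine ProjMapG.away_map_bijective (idTo 𝒢 hs) (fun n _ => ?_) hd f hf
  refine ⟨fun x hx => hx, fun x _ y _ h => h, fun x hx => ⟨x, hx, rfl⟩⟩

/-- `Away (toSub 𝒢) f ≅ Away 𝒢 f` -/
noncomputable def awayIso {d : ℕ} (hd : 0 < d) {f : B} (hf : f ∈ 𝒢 d) :
    CommRingCat.of (Away (toSub 𝒢 hs) f) ≅ CommRingCat.of (Away 𝒢 f) :=
  (RingEquiv.ofBijective (Away.map (idTo 𝒢 hs) f) (away_idTo_bijective 𝒢 hs hd hf)).toCommRingCatIso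

theorem awayIso_hom {d : ℕ} (hd : 0 < d) {f : B} (hf : f ∈ 𝒢 d) :
    (awayIso 𝒢 hs hd hf).hom = CommRingCat.ofHom (Away.map (idTo 𝒢 hs) f) := rfl

end toSub


section main

variable {R' R B A : Type u} [CommRing R'] [CommRing R] [CommRing B] [CommRing A]
  (𝒢B : ℕ → AddSubgroup B) [GradedRing 𝒢B] (𝒢A : ℕ → AddSubgroup A) [GradedRing 𝒢A]
  (c : R' →+* R) (sB : R' →+* B) (sA : R →+* A) (φ : 𝒢B →+*ᵍ 𝒢A)
  (hsB : ∀ r, sB r ∈ 𝒢B 0) (hsA : ∀ r, sA r ∈ 𝒢A 0)
  (sB0 : R' →+* 𝒢B 0) (hsB0 : ∀ r, (sB0 r : B) = sB r)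
  (sA0 : R →+* 𝒢A 0) (hsA0 : ∀ r, (sA0 r : A) = sA r)
  (hpo : IsPushout (CommRingCat.ofHom c) (CommRingCat.ofHom sB) (CommRingCat.ofHom sA)
    (CommRingCat.ofHom φ.toRingHom))

include hsB hsA hsB0 hsA0 hpo in
/-- base change of degree-zero localisations, for `AddSubgroup` gradings -/
theorem isPushout_away {d : ℕ} (hd : 0 < d) {f : B} (hf : f ∈ 𝒢B d) :
    IsPushout (CommRingCat.ofHom c)
      (CommRingCat.ofHom ((fromZeroRingHom 𝒢B (Submonoid.powers f)).comp sB0))
      (CommRingCat.ofHom ((fromZeroRingHom 𝒢A (Submonoid.powers (φ f))).comp sA0))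
      (CommRingCat.ofHom (Away.map φ f)) := by
  let _ : Algebra R' R := c.toAlgebra
  let _ : Algebra R' B := sB.toAlgebra
  let _ : Algebra R A := sA.toAlgebra
  let _ : Algebra R' A := (sA.comp c).toAlgebra
  let _ : Algebra B A := φ.toRingHom.toAlgebra
  have : IsScalarTower R' R A := IsScalarTower.of_algebraMap_eq fun _ => rfl
  have : IsScalarTower R' B A := IsScalarTower.of_algebraMap_eq fun r => by
    have := congrArg (fun k => k.hom r) hpo.w
    exact this
  have : Algebra.IsPushout R' R B A := CommRingCat.isPushout_iff_isPushout.mp hpo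
  let φL : toSub 𝒢B hsB →+*ᵍ toSub 𝒢A hsA := { φ.toRingHom with map_mem := fun hx => φ.map_mem hx }
  have key := AwayBC.isPushout_away (toSub 𝒢B hsB) (toSub 𝒢A hsA) φL (fun b => rfl)
    (d := d) (f := f) hf
  refine key.of_iso (Iso.refl _) (Iso.refl _) (awayIso 𝒢B hsB hd hf)
    (awayIso 𝒢A hsA hd (φ.map_mem hf)) ?_ ?_ ?_ ?_
  · simp only [Iso.refl_hom, Category.comp_id, Category.id_comp]
  · simp only [Iso.refl_hom, Category.id_comp]
    rw [awayIso_hom]
    ext r
    refine congrArg val ?_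
    change Away.map (idTo 𝒢B hsB) f (AwayBC.ιB (toSub 𝒢B hsB) f r) =
      fromZeroRingHom 𝒢B _ (sB0 r)
    unfold AwayBC.ιB
    rw [RingHom.comp_apply, ProjMapG.away_map_fromZero]
    congr 1
    apply Subtype.ext
    rw [hsB0]
    rfl
  · simp only [Iso.refl_hom, Category.id_comp]
    rw [awayIso_hom]
    ext r
    refine congrArg val ?_
    change Away.map (idTo 𝒢A hsA) (φ f) (AwayBC.ιB (toSub 𝒢A hsA) (φ f) r) =
      fromZeroRingHom 𝒢A _ (sA0 r)
    unfold AwayBC.ιB
    rw [RingHom.comp_apply, ProjMapG.away_map_fromZero]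
    congr 1
    apply Subtype.ext
    rw [hsA0]
    rfl
  · rw [awayIso_hom, awayIso_hom]
    ext x
    have hf' : f ∈ toSub 𝒢B hsB d := hf
    obtain ⟨n, b, hb, rfl⟩ := Away.mk_surjective (toSub 𝒢B hsB) hf' x
    refine congrArg val ?_
    change Away.map (idTo 𝒢A hsA) (φL f) (Away.map φL f (Away.mk (toSub 𝒢B hsB) hf' n b hb)) =
      Away.map φ (idTo 𝒢B hsB f) (Away.map (idTo 𝒢B hsB) f (Away.mk (toSub 𝒢B hsB) hf' n b hb))
    rw [Away.map_mk, Away.map_mk, Away.map_mk, Away.map_mk]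
    rfl

include hsB hsA hsB0 hsA0 hpo in
set_option backward.isDefEq.respectTransparency false in
/-- `Proj` commutes with base change, for `AddSubgroup` gradings -/
theorem isPullback_proj (hirr : HomogeneousIdeal.irrelevant 𝒢A ≤ (HomogeneousIdeal.irrelevant 𝒢B).map φ) :
    IsPullback (Proj.map φ hirr)
      (Proj.toSpecZero 𝒢A ≫ Spec.map (CommRingCat.ofHom sA0))
      (Proj.toSpecZero 𝒢B ≫ Spec.map (CommRingCat.ofHom sB0))
      (Spec.map (CommRingCat.ofHom c)) := by
  refine Scheme.isPullback_of_openCover _ _ _ _ (Proj.affineOpenCover 𝒢B).openCover fun s => ?_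
  have hpb := ProjMapG.isPullback_away φ hirr s.1.2 s.2.1 s.2.2
  have haff : IsPullback (Spec.map (CommRingCat.ofHom (Away.map φ s.2.1)))
      (Proj.awayι 𝒢A (φ s.2.1) (φ.2 s.2.2) s.1.2 ≫
        Proj.toSpecZero 𝒢A ≫ Spec.map (CommRingCat.ofHom sA0))
      (Proj.awayι 𝒢B s.2.1 s.2.2 s.1.2 ≫
        Proj.toSpecZero 𝒢B ≫ Spec.map (CommRingCat.ofHom sB0))
      (Spec.map (CommRingCat.ofHom c)) := by
    rw [Proj.awayι_toSpecZero_assoc, Proj.awayι_toSpecZero_assoc, ← Spec.map_comp, ← Spec.map_comp]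
    exact (isPullback_SpecMap_of_isPushout _ _ _ _
      (isPushout_away 𝒢B 𝒢A c sB sA φ hsB hsA sB0 hsB0 sA0 hsA0 hpo s.1.2 s.2.2)).flip
  refine haff.of_iso hpb.flip.isoPullback (Iso.refl _) (Iso.refl _) (Iso.refl _) ?_ ?_ ?_ ?_
  · simp only [Iso.refl_hom, Category.comp_id]
    exact hpb.flip.isoPullback_hom_snd.symm
  · simp only [Iso.refl_hom, Category.comp_id]
    have h := hpb.flip.isoPullback_hom_fst
    exact Eq.trans (congrArg (· ≫ _) h.symm) (Category.assoc _ _ _)
  · simp only [Iso.refl_hom, Category.comp_id, Category.id_comp]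
    rfl
  · simp only [Iso.refl_hom, Category.comp_id, Category.id_comp]

include hsB hsA hpo in
/-- in a base change, the degree-`m` part is generated by the image of the degree-`m` part -/
theorem mem_span_image {m : ℕ} {a : A} (ha : a ∈ 𝒢A m) :
    a ∈ Ideal.span (φ '' (𝒢B m : Set B)) := by
  let _ : Algebra R' R := c.toAlgebra
  let _ : Algebra R' B := sB.toAlgebra
  let _ : Algebra R A := sA.toAlgebra
  let _ : Algebra R' A := (sA.comp c).toAlgebra
  let _ : Algebra B A := φ.toRingHom.toAlgebra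
  have : IsScalarTower R' R A := IsScalarTower.of_algebraMap_eq fun _ => rfl
  have : IsScalarTower R' B A := IsScalarTower.of_algebraMap_eq fun r => by
    have := congrArg (fun k => k.hom r) hpo.w
    exact this
  have : Algebra.IsPushout R' R B A := CommRingCat.isPushout_iff_isPushout.mp hpo
  let φL : toSub 𝒢B hsB →+*ᵍ toSub 𝒢A hsA := { φ.toRingHom with map_mem := fun hx => φ.map_mem hx }
  have key : ∀ t : TensorProduct R' R (toSub 𝒢B hsB m),
      AwayBC.θ (A := A) (toSub 𝒢B hsB) m t ∈ Ideal.span (φ '' (𝒢B m : Set B)) := by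
    intro t
    induction t using TensorProduct.induction_on with
    | zero => simp
    | tmul r b =>
      rw [AwayBC.θ_tmul, Algebra.smul_def]
      exact Ideal.mul_mem_left _ _ (Ideal.subset_span ⟨b.1, b.2, rfl⟩)
    | add x y hx hy =>
      rw [map_add]
      exact Ideal.add_mem _ hx hy
  obtain ⟨t, rfl⟩ := AwayBC.θ_surj (R := R) (toSub 𝒢B hsB) (toSub 𝒢A hsA) φL (fun b => rfl) m a ha
  exact key t

include hsB hsA hpo in
/-- in a base change, the irrelevant ideal is generated by the image of the irrelevant ideal -/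
theorem irrelevant_le_map :
    HomogeneousIdeal.irrelevant 𝒢A ≤ (HomogeneousIdeal.irrelevant 𝒢B).map φ := by
  rw [HomogeneousIdeal.irrelevant_le]
  intro i hi a ha
  change a ∈ Ideal.map φ (HomogeneousIdeal.irrelevant 𝒢B).toIdeal
  have h1 := mem_span_image 𝒢B 𝒢A c sB sA φ hsB hsA hpo ha
  refine Ideal.span_mono ?_ h1
  rintro _ ⟨b, hb, rfl⟩
  exact ⟨b, HomogeneousIdeal.mem_irrelevant_of_mem _ hi hb, rfl⟩

end main

end Groth.Agent.Lib.Helper28.AwayBCG
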