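import Groth.Agent.Lib.Helper17.PullbackBC

/-!
# Transporting base-change presentations of modules along isomorphisms
-/

set_option autoImplicit false
universe u
open TensorProduct
noncomputable section

namespace Groth.Agent.Lib.Helper28.BCTransport

open Groth.Agent.Lib.Helper17.PullbackBC

/-- two base changes of the same module are identified by any linear map compatible with the presentations -/
theorem bijective_of_isBC_isBC {R S : Type u} [CommRing R] [CommRing S] (φ : R →+* S)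
    {P T T₂ : Type u} [AddCommGroup P] [Module R P] [AddCommGroup T] [Module S T] [AddCommGroup T₂] [Module S T₂]
    (c₁ : P → T) (c₂ : P → T₂) (h₁ : IsBC φ c₁) (h₂ : IsBC φ c₂)
    (v : T →+ T₂) (hv : ∀ (s : S) (t : T), v (s • t) = s • v t) (hvc : ∀ p, v (c₁ p) = c₂ p) :
    Function.Bijective v := by
  letI := φ.toAlgebra
  obtain ⟨e₁, he₁⟩ := (isBC_iff φ c₁).mp h₁
  obtain ⟨e₂, he₂⟩ := (isBC_iff φ c₂).mp h₂
  have key : ∀ z : S ⊗[R] P, e₂ (v (e₁.symm z)) = z := by
    intro z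
    induction z using TensorProduct.induction_on with
    | zero => simp
    | add x y hx hy => rw [map_add, map_add, map_add, hx, hy]
    | tmul s p =>
      have h1 : (s ⊗ₜ[R] p : S ⊗[R] P) = s • ((1 : S) ⊗ₜ[R] p) := by
        rw [TensorProduct.smul_tmul', smul_eq_mul, mul_one]
      rw [h1, map_smul, ← he₁, LinearEquiv.symm_apply_apply, hv, map_smul, hvc, he₂, he₁]
  have hv' : ⇑v = e₂.symm ∘ e₁ := by
    funext t
    have := key (e₁ t)
    rw [LinearEquiv.symm_apply_apply] at this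
    show v t = e₂.symm (e₁ t)
    rw [← this, LinearEquiv.symm_apply_apply]
  rw [hv']
  exact e₂.symm.bijective.comp e₁.bijective

section transport

variable {R S R₀ S₀ : Type u} [CommRing R] [CommRing S] [CommRing R₀] [CommRing S₀]
  (φ : R →+* S) (φ₀ : R₀ →+* S₀) (eR : R ≃+* R₀) (eS : S ≃+* S₀) (hsq : ∀ r, eS (φ r) = φ₀ (eR r))
  {P T P₀ T₀ : Type u} [AddCommGroup P] [Module R P] [AddCommGroup T] [Module S T]
  [AddCommGroup P₀] [Module R₀ P₀] [AddCommGroup T₀] [Module S₀ T₀]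
  (eP : P ≃+ P₀) (hePs : ∀ (r : R) (p : P), eP (r • p) = eR r • eP p)
  (eT : T ≃+ T₀) (heTs : ∀ (s : S) (t : T), eT (s • t) = eS s • eT t)

include hsq in
theorem hsq_symm (r₀ : R₀) : eS.symm (φ₀ r₀) = φ (eR.symm r₀) := by
  rw [RingEquiv.symm_apply_eq, hsq, RingEquiv.apply_symm_apply]

include hePs in
theorem hePs_symm (r₀ : R₀) (p₀ : P₀) : eP.symm (r₀ • p₀) = eR.symm r₀ • eP.symm p₀ := by
  rw [AddEquiv.symm_apply_eq, hePs, RingEquiv.apply_symm_apply, AddEquiv.apply_symm_apply]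

/-- the semilinear map `S ⊗ P → S₀ ⊗ P₀` -/
def tmap : letI := φ.toAlgebra; letI := φ₀.toAlgebra; S ⊗[R] P →+ S₀ ⊗[R₀] P₀ :=
  letI := φ.toAlgebra
  letI := φ₀.toAlgebra
  TensorProduct.liftAddHom
    (AddMonoidHom.mk' (fun s : S => AddMonoidHom.mk' (fun p : P => eS s ⊗ₜ[R₀] eP p)
      (by intro a b; rw [map_add, TensorProduct.tmul_add]))
      (by
        intro a b
        apply DFunLike.ext
        intro p
        show eS (a + b) ⊗ₜ[R₀] eP p = eS a ⊗ₜ[R₀] eP p + eS b ⊗ₜ[R₀] eP p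
        rw [map_add, TensorProduct.add_tmul]))
    (by
      intro r s p
      show eS (r • s) ⊗ₜ[R₀] eP p = eS s ⊗ₜ[R₀] eP (r • p)
      rw [hePs, Algebra.smul_def, map_mul, ← TensorProduct.smul_tmul, Algebra.smul_def]
      congr 2
      exact hsq r)

theorem tmap_tmul (s : S) (p : P) :
    letI := φ.toAlgebra; letI := φ₀.toAlgebra
    tmap φ φ₀ eR eS hsq eP hePs (s ⊗ₜ[R] p) = eS s ⊗ₜ[R₀] eP p := rfl

theorem tmap_smul (s : S) (z : letI := φ.toAlgebra; S ⊗[R] P) :
    letI := φ.toAlgebra; letI := φ₀.toAlgebra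
    tmap φ φ₀ eR eS hsq eP hePs (s • z) = eS s • tmap φ φ₀ eR eS hsq eP hePs z := by
  letI := φ.toAlgebra
  letI := φ₀.toAlgebra
  induction z using TensorProduct.induction_on with
  | zero => simp
  | add x y hx hy => rw [smul_add, map_add, map_add, hx, hy, smul_add]
  | tmul s' p =>
    rw [TensorProduct.smul_tmul', smul_eq_mul, tmap_tmul, tmap_tmul, map_mul, TensorProduct.smul_tmul',
      smul_eq_mul]

theorem tmap_tmap (eR' : R₀ ≃+* R) (eS' : S₀ ≃+* S) (hsq' : ∀ r, eS' (φ₀ r) = φ (eR' r))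
    (eP' : P₀ ≃+ P) (hePs' : ∀ (r : R₀) (p : P₀), eP' (r • p) = eR' r • eP' p)
    (h1 : ∀ s, eS' (eS s) = s) (h2 : ∀ p, eP' (eP p) = p) (z : letI := φ.toAlgebra; S ⊗[R] P) :
    letI := φ.toAlgebra; letI := φ₀.toAlgebra
    tmap φ₀ φ eR' eS' hsq' eP' hePs' (tmap φ φ₀ eR eS hsq eP hePs z) = z := by
  letI := φ.toAlgebra
  letI := φ₀.toAlgebra
  induction z using TensorProduct.induction_on with
  | zero => simp
  | add x y hx hy => rw [map_add, map_add, hx, hy]
  | tmul s p => rw [tmap_tmul, tmap_tmul, h1, h2]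

include hsq hePs heTs in
/-- **transport of a base-change presentation along isomorphisms** -/
theorem isBC_transport (c : P → T) (c₀ : P₀ → T₀) (hc : ∀ p, eT (c p) = c₀ (eP p)) (h₀ : IsBC φ₀ c₀) :
    IsBC φ c := by
  letI := φ.toAlgebra
  letI := φ₀.toAlgebra
  obtain ⟨e₀, he₀⟩ := (isBC_iff φ₀ c₀).mp h₀
  let k := tmap φ φ₀ eR eS hsq eP hePs
  let k' := tmap φ₀ φ eR.symm eS.symm (hsq_symm φ φ₀ eR eS hsq) eP.symm (hePs_symm eR eP hePs)
  have hk'k : ∀ z, k' (k z) = z := fun z =>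
    tmap_tmap φ φ₀ eR eS hsq eP hePs eR.symm eS.symm (hsq_symm φ φ₀ eR eS hsq) eP.symm (hePs_symm eR eP hePs)
      (fun s => eS.symm_apply_apply s) (fun p => eP.symm_apply_apply p) z
  have hkk' : ∀ z, k (k' z) = z := fun z =>
    tmap_tmap φ₀ φ eR.symm eS.symm (hsq_symm φ φ₀ eR eS hsq) eP.symm (hePs_symm eR eP hePs) eR eS hsq eP hePs
      (fun s => eS.apply_symm_apply s) (fun p => eP.apply_symm_apply p) z
  have hk'bij : Function.Bijective k' := Function.bijective_iff_has_inverse.mpr ⟨k, hkk', hk'k⟩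
  let ef : T → S ⊗[R] P := fun t => k' (e₀ (eT t))
  have hadd : ∀ a b, ef (a + b) = ef a + ef b := fun a b => by
    show k' (e₀ (eT (a + b))) = k' (e₀ (eT a)) + k' (e₀ (eT b))
    rw [map_add, map_add, map_add]
  have hsmul : ∀ (s : S) (t : T), ef (s • t) = s • ef t := fun s t => by
    show k' (e₀ (eT (s • t))) = s • k' (e₀ (eT t))
    rw [heTs, map_smul]
    refine (tmap_smul φ₀ φ eR.symm eS.symm (hsq_symm φ φ₀ eR eS hsq) eP.symm (hePs_symm eR eP hePs) (eS s) _).trans ?_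
    rw [RingEquiv.symm_apply_apply]
  have hbij : Function.Bijective ef := hk'bij.comp (e₀.bijective.comp eT.bijective)
  let e : T ≃ₗ[S] S ⊗[R] P := LinearEquiv.ofBijective
    { toFun := ef, map_add' := hadd, map_smul' := hsmul } hbij
  refine (isBC_iff φ c).mpr ⟨e, fun p => ?_⟩
  show k' (e₀ (eT (c p))) = (1 : S) ⊗ₜ[R] p
  rw [hc, he₀]
  refine (tmap_tmul φ₀ φ eR.symm eS.symm (hsq_symm φ φ₀ eR eS hsq) eP.symm (hePs_symm eR eP hePs) 1 (eP p)).trans ?_
  rw [map_one, AddEquiv.symm_apply_apply]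

end transport

end Groth.Agent.Lib.Helper28.BCTransport
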