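import Groth.Agent.Lib.Helper28.ImgAlg4
import Groth.Agent.Lib.Helper28.FinType

/-!
# Generation in degree one and finiteness of the degree-one part, for symmetric algebras and image algebras (part 5)
-/

set_option autoImplicit false
universe u
open CategoryTheory CategoryTheory.Limits AlgebraicGeometry Opposite TopologicalSpace
noncomputable section

namespace Groth.Agent.Lib.Helper28.ImgAlg

open Groth.Agent.Lib.Helper28 Groth.Agent.Lib.Helper28.QCohLoc Groth.Agent.Lib.Helper28.TraceAlg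
open Groth.Agent.Lib.Helper28.SymAlg

section lin

variable {R S : Type*} [CommRing R] [CommRing S] (φ : R →+* S) (T : Finset S)

/-- the `R`-linear combinations of the elements of `T` -/
def Lin : AddSubgroup S where
  carrier := {x | ∃ c : S → R, x = ∑ t ∈ T, φ (c t) * t}
  add_mem' := by
    rintro x y ⟨c, rfl⟩ ⟨c', rfl⟩
    refine ⟨c + c', ?_⟩
    rw [← Finset.sum_add_distrib]
    refine Finset.sum_congr rfl fun t _ => ?_
    rw [Pi.add_apply, map_add, add_mul]
  zero_mem' := ⟨0, by simp⟩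
  neg_mem' := by
    rintro x ⟨c, rfl⟩
    refine ⟨-c, ?_⟩
    rw [← Finset.sum_neg_distrib]
    refine Finset.sum_congr rfl fun t _ => ?_
    rw [Pi.neg_apply, map_neg, neg_mul]

theorem mem_Lin {x : S} : x ∈ Lin φ T ↔ ∃ c : S → R, x = ∑ t ∈ T, φ (c t) * t := Iff.rfl

theorem mul_mem_Lin (a : R) {x : S} (hx : x ∈ Lin φ T) : φ a * x ∈ Lin φ T := by
  obtain ⟨c, rfl⟩ := hx
  refine ⟨fun t => a * c t, ?_⟩
  rw [Finset.mul_sum]
  refine Finset.sum_congr rfl fun t _ => ?_
  rw [map_mul, mul_assoc]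

theorem mem_Lin_of_mem {t : S} (ht : t ∈ T) : t ∈ Lin φ T := by
  classical
  refine ⟨fun s => if s = t then 1 else 0, ?_⟩
  rw [Finset.sum_eq_single t]
  · show t = φ (if t = t then 1 else 0) * t
    rw [if_pos rfl, map_one, one_mul]
  · intro s _ hs
    show φ (if s = t then 1 else 0) * s = 0
    rw [if_neg hs, map_zero, zero_mul]
  · intro h
    exact absurd ht h

end lin

section sym

variable {Y : Scheme.{u}} {E : Y.Modules} [E.IsQuasicoherent]
  {𝒯 : RelProj.QCGrAlg Y} {jE : E ⟶ 𝒯.toModule} (hE : RelProj.IsGrSymAlg E 𝒯 jE)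

include hE in
/-- a graded symmetric algebra is generated in degree one -/
theorem isGenDegOne_of_isGrSymAlg : 𝒯.IsGenDegOne := by
  intro U hU
  rw [eq_top_iff]
  intro y _
  have hy := mem_iSup_monoGrp hE U hU y
  have hle : (⨆ d, monoGrp 𝒯 jE U d) ≤ (Subring.closure
      ((𝒯.deg U hU 0 : Set (𝒯.presheaf.obj (op U))) ∪ (𝒯.deg U hU 1 : Set _))).toAddSubgroup := by
    refine iSup_le fun d => (AddSubgroup.closure_le _).2 ?_
    rintro x ⟨a, l, -, rfl⟩
    refine Subring.mul_mem _ (Subring.subset_closure (Or.inl (𝒯.str_mem U hU a))) (Subring.list_prod_mem _ ?_)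
    intro t ht
    obtain ⟨m, -, rfl⟩ := List.mem_map.1 ht
    exact Subring.subset_closure (Or.inr (hE.2 U hU m))
  exact hle hy

omit [E.IsQuasicoherent] in
theorem jE_smul (U : Y.Opens) (a : Γ(Y, U)) (m : Γ(E, U)) :
    asR 𝒯.toQCAlg (jE.app U (a • m)) = (𝒯.str.app (op U)).hom a * asR 𝒯.toQCAlg (jE.app U m) := by
  rw [Scheme.Modules.Hom.app_smul]
  rfl

include hE in
/-- the degree-one part of the graded symmetric algebra of a module of finite type is of finite type -/
theorem isFTDeg_one_of_isGrSymAlg [SheafOfModules.IsFiniteType.{u} (R := Y.ringCatSheaf) E] : 𝒯.IsFTDeg 1 := by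
  classical
  intro U hU
  have hfin : Module.Finite Γ(Y, U) Γ(E, U) := FinType.finite_of_isAffineOpen E hU
  obtain ⟨G, hG⟩ := hfin.fg_top
  refine ⟨G.image (fun m => asR 𝒯.toQCAlg (jE.app U m)), ?_, ?_⟩
  · intro t ht
    obtain ⟨m, -, rfl⟩ := Finset.mem_image.1 ht
    exact hE.2 U hU m
  · have hj : ∀ m : Γ(E, U), asR 𝒯.toQCAlg (jE.app U m) ∈
        Lin (𝒯.str.app (op U)).hom (G.image (fun m => asR 𝒯.toQCAlg (jE.app U m))) := by
      intro m
      have hm : m ∈ Submodule.span Γ(Y, U) (G : Set Γ(E, U)) := by rw [hG]; trivial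
      refine Submodule.span_induction (p := fun m _ => asR 𝒯.toQCAlg (jE.app U m) ∈
        Lin (𝒯.str.app (op U)).hom (G.image (fun m => asR 𝒯.toQCAlg (jE.app U m))))
        (fun m hm => ?_) ?_ (fun m m' _ _ h h' => ?_) (fun a m _ h => ?_) hm
      · exact mem_Lin_of_mem _ _ (Finset.mem_image.2 ⟨m, hm, rfl⟩)
      · show asR 𝒯.toQCAlg (jE.app U 0) ∈ _
        rw [map_zero]
        exact AddSubgroup.zero_mem _
      · show asR 𝒯.toQCAlg (jE.app U (m + m')) ∈ _
        rw [map_add]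
        exact AddSubgroup.add_mem _ h h'
      · show asR 𝒯.toQCAlg (jE.app U (a • m)) ∈ _
        rw [jE_smul]
        exact mul_mem_Lin _ _ a h
    intro x hx
    have hx' := deg_le_monoGrp hE U hU 1 hx
    refine AddSubgroup.closure_induction (p := fun x _ => x ∈
      Lin (𝒯.str.app (op U)).hom (G.image (fun m => asR 𝒯.toQCAlg (jE.app U m))))
      (fun x hx => ?_) ?_ (fun x x' _ _ h h' => ?_) (fun x _ h => ?_) hx'
    · obtain ⟨a, l, hl, rfl⟩ := hx
      refine mul_mem_Lin _ _ a ?_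
      match l, hl with
      | [m], _ =>
        rw [List.map_cons, List.map_nil, List.prod_cons, List.prod_nil, mul_one]
        exact hj m
    · exact AddSubgroup.zero_mem _
    · exact AddSubgroup.add_mem _ h h'
    · exact AddSubgroup.neg_mem _ h

end sym

section img

variable {Y X : Scheme.{u}} {q : X ⟶ Y} [QuasiCompact q] {𝒯 : RelProj.QCGrAlg Y} {𝒮L : RelProj.QCGrAlg X}
  (u : RelProj.QGrHom q 𝒯 𝒮L)

theorem isGenDegOne_imgGr (h : 𝒯.IsGenDegOne) : (imgGr u).IsGenDegOne := by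
  intro U hU
  rw [eq_top_iff]
  intro y _
  obtain ⟨a, rfl⟩ := imgπ_surjective u.toQHom hU y
  have ha : a ∈ Subring.closure ((𝒯.deg U hU 0 : Set (𝒯.presheaf.obj (op U))) ∪ (𝒯.deg U hU 1 : Set _)) := by
    rw [h U hU]; trivial
  refine Subring.closure_induction (p := fun a _ => ((imgπ u.toQHom).hom.app (op U)).hom a ∈
    Subring.closure (((imgGr u).deg U hU 0 : Set ((imgGr u).presheaf.obj (op U))) ∪ ((imgGr u).deg U hU 1 : Set _)))
    (fun a ha => ?_) ?_ ?_ (fun a b _ _ h h' => ?_) (fun a _ h => ?_) (fun a b _ _ h h' => ?_) ha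
  · rcases ha with ha | ha
    · exact Subring.subset_closure (Or.inl ⟨a, ha, rfl⟩)
    · exact Subring.subset_closure (Or.inr ⟨a, ha, rfl⟩)
  · rw [map_zero]; exact Subring.zero_mem _
  · rw [map_one]; exact Subring.one_mem _
  · rw [map_add]; exact Subring.add_mem _ h h'
  · rw [map_neg]; exact Subring.neg_mem _ h
  · rw [map_mul]; exact Subring.mul_mem _ h h'

theorem isFTDeg_imgGr (d : ℕ) (h : 𝒯.IsFTDeg d) : (imgGr u).IsFTDeg d := by
  classical
  intro U hU
  obtain ⟨T, hT, hgen⟩ := h U hU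
  refine ⟨T.image ((imgπ u.toQHom).hom.app (op U)).hom, ?_, ?_⟩
  · intro t ht
    obtain ⟨a, ha, rfl⟩ := Finset.mem_image.1 ht
    exact ⟨a, hT ha, rfl⟩
  · rintro x ⟨a, ha, rfl⟩
    obtain ⟨c, hc⟩ := hgen a ha
    show ((imgπ u.toQHom).hom.app (op U)).hom a ∈
      Lin ((imgGr u).str.app (op U)).hom (T.image ((imgπ u.toQHom).hom.app (op U)).hom)
    rw [hc, map_sum]
    refine AddSubgroup.sum_mem _ fun t ht => ?_
    rw [map_mul]
    have h1 : ((imgπ u.toQHom).hom.app (op U)).hom ((𝒯.str.app (op U)).hom (c t)) =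
        ((imgGr u).str.app (op U)).hom (c t) := rfl
    rw [h1]
    exact mul_mem_Lin _ _ _ (mem_Lin_of_mem _ _ (Finset.mem_image.2 ⟨t, ht, rfl⟩))

end img

end Groth.Agent.Lib.Helper28.ImgAlg
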