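import Groth.Agent.Lib.Helper28.VAGenDegOne
import Groth.Agent.Lib.Helper28.ImgAlg5
import Groth.Agent.Lib.Helper28.EpiAffine

/-!
# An epimorphism `F → E'` of quasi-coherent modules induces a closed immersion `P(E') → P(F)`
compatible with the fundamental sheaves
-/

set_option autoImplicit false
universe u
open CategoryTheory CategoryTheory.Limits AlgebraicGeometry TopologicalSpace Opposite
open scoped HomogeneousIdeal

namespace Groth.Agent.Lib.Helper28.BundleQuot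

open Groth.Agent.Lib.Helper28 Groth.Agent.Lib.Helper28.TraceAlg Groth.Agent.Lib.Helper28.QCohLoc
open Groth.Agent.Lib.Helper28.SymAlg Groth.Agent.Lib.Helper28.ImgAlg

section degone

variable {Y : Scheme.{u}} {E : Y.Modules} [E.IsQuasicoherent]
  {𝒮 : RelProj.QCGrAlg Y} {j : E ⟶ 𝒮.toModule} (hS : RelProj.IsGrSymAlg E 𝒮 j)

include hS in
/-- the degree-one part of the graded symmetric algebra over an affine open is the image of the module -/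
theorem exists_j_eq_of_mem_deg_one (U : Y.Opens) (hU : IsAffineOpen U) (s : 𝒮.presheaf.obj (op U))
    (hs : s ∈ 𝒮.deg U hU 1) : ∃ m : Γ(E, U), asR 𝒮.toQCAlg (j.app U m) = s := by
  have hx' := deg_le_monoGrp hS U hU 1 hs
  refine AddSubgroup.closure_induction (p := fun x _ => ∃ m : Γ(E, U), asR 𝒮.toQCAlg (j.app U m) = x)
    (fun x hx => ?_) ?_ (fun x x' _ _ h h' => ?_) (fun x _ h => ?_) hx'
  · obtain ⟨a, l, hl, rfl⟩ := hx
    match l, hl with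
    | [m], _ =>
      refine ⟨a • m, ?_⟩
      rw [List.map_cons, List.map_nil, List.prod_cons, List.prod_nil, mul_one]
      exact jE_smul U a m
  · exact ⟨0, by rw [map_zero]; rfl⟩
  · obtain ⟨m, rfl⟩ := h
    obtain ⟨m', rfl⟩ := h'
    exact ⟨m + m', by rw [map_add]; rfl⟩
  · obtain ⟨m, rfl⟩ := h
    exact ⟨-m, by rw [map_neg]; rfl⟩

end degone

section main

variable {Y P PT : Scheme.{u}} {E' F : Y.Modules} [E'.IsQuasicoherent] [F.IsQuasicoherent]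
  (ρ : F ⟶ E') [Epi ρ]
  {𝒮 : RelProj.QCGrAlg Y} {jS : E' ⟶ 𝒮.toModule} (hS : RelProj.IsGrSymAlg E' 𝒮 jS)
  (p : P ⟶ Y)
  (chart : ∀ (U : Y.Opens) (hU : IsAffineOpen U), ((p ⁻¹ᵁ U : P.Opens) : Scheme.{u}) ≅ Proj (𝒮.deg U hU))
  (hP : RelProj.IsRelProj 𝒮 p chart) {O1 : P.Modules}
  {lam : ∀ (U : Y.Opens) (hU : IsAffineOpen U),
    O1 ⟶ (Scheme.Modules.pushforward (RelProj.emb p chart U hU)).obj (GrTwist.twist (𝒮.deg U hU) 1)}
  (hO1 : RelProj.IsRelTwist 𝒮 p chart 1 O1 lam)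
  {𝒯 : RelProj.QCGrAlg Y} {jT : F ⟶ 𝒯.toModule} (hT : RelProj.IsGrSymAlg F 𝒯 jT)
  (pT : PT ⟶ Y)
  (chartT : ∀ (U : Y.Opens) (hU : IsAffineOpen U), ((pT ⁻¹ᵁ U : PT.Opens) : Scheme.{u}) ≅ Proj (𝒯.deg U hU))
  (hPT : RelProj.IsRelProj 𝒯 pT chartT) {O1T : PT.Modules}
  {lamT : ∀ (U : Y.Opens) (hU : IsAffineOpen U),
    O1T ⟶ (Scheme.Modules.pushforward (RelProj.emb pT chartT U hU)).obj (GrTwist.twist (𝒯.deg U hU) 1)}
  (hOT : RelProj.IsRelTwist 𝒯 pT chartT 1 O1T lamT)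

include ρ hS hP hO1 hT hPT hOT in
/-- **an epimorphism `F → E'` induces a closed immersion `P(E') → P(F)` under which `O(1)` pulls back to `O(1)`** -/
theorem exists_closedImmersion_of_epi :
    ∃ h : P ⟶ PT, IsClosedImmersion h ∧ h ≫ pT = p ∧ Nonempty ((Scheme.Modules.pullback h).obj O1T ≅ O1) := by
  classical
  have h𝒮 : 𝒮.IsGenDegOne := isGenDegOne_of_isGrSymAlg hS
  have hOT' : RelProj.IsRelTwist 𝒯 pT chartT ((1 : ℕ) : ℤ) O1T lamT := hOT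
  have hO1' : RelProj.IsRelTwist 𝒮 p chart ((1 : ℕ) : ℤ) O1 lam := hO1
  let w : F ⟶ 𝒮.toModule := ρ ≫ jS
  have hw1 : ∀ (U : Y.Opens) (hU : IsAffineOpen U) (x : Γ(F, U)), (w.app U) x ∈ 𝒮.deg U hU 1 :=
    fun U hU x => hS.2 U hU (ρ.app U x)
  have hwsurj : ∀ (U : Y.Opens) (hU : IsAffineOpen U) (s : 𝒮.presheaf.obj (op U)), s ∈ 𝒮.deg U hU 1 →
      ∃ x : Γ(F, U), (w.app U) x = s := by
    intro U hU s hs
    obtain ⟨m, hm⟩ := exists_j_eq_of_mem_deg_one hS U hU s hs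
    obtain ⟨x, rfl⟩ := surjective_app_of_epi ρ hU (isLocOn_of_isQuasicoherent F hU)
      (isLocOn_of_isQuasicoherent E' hU) m
    exact ⟨x, hm⟩
  obtain ⟨ubar, hju, -⟩ := hT.1 𝒮.toQCAlg w
  have hubar := VAGenDegOne.isGradedHom_ubar 𝒮 w hw1 hT ubar hju
  have hTN : ∃ n : ℕ, ∀ k, n ≤ k → ∀ (U : Y.Opens) (hU : IsAffineOpen U), ∀ y ∈ 𝒮.deg U hU k,
      ∃ x ∈ 𝒯.deg U hU k, (ubar.hom.app (op U)).hom x = y :=
    ⟨1, fun k hk U hU y hy => VAGenDegOne.surj_pos_ubar 𝒮 h𝒮 w hwsurj hT ubar hju hubar k hk U hU y hy⟩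
  have hTNU := fun (U : Y.Opens) (hU : IsAffineOpen U) =>
    ProjQRel.tnSurj_ofHom 𝒯 𝒮 ubar hubar hTN U hU
  have htop : RelProj.domQ (RelProj.QGrHom.ofHom ubar hubar) p chart = ⊤ :=
    ProjQRel.domQ_eq_top_of_forall _ p chart fun U hU => ProjQ.dom_eq_top_of_tnSurj _ (hTNU U hU)
  obtain ⟨h, hh⟩ := ProjQRel.exists_isProjQMap_of_domQ_eq_top (RelProj.QGrHom.ofHom ubar hubar)
    _ _ hPT p chart hP htop
  have hci : IsClosedImmersion h :=
    ProjQRel.of_chartwise_total (RelProj.QGrHom.ofHom ubar hubar) _ _ hPT p chart hP @IsClosedImmersion h hh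
      fun U hU => ProjQ.isClosedImmersion_vQ _ (hTNU U hU)
  have hcomp := ProjQRel.comp_p_of_isProjQMap (RelProj.QGrHom.ofHom ubar hubar) _ _ hPT p chart hP h hh
  rw [Category.comp_id] at hcomp
  obtain ⟨τ⟩ := RLPsiV.nonempty_pullback_iso_of_isGrSymAlg hT (RelProj.QGrHom.ofHom ubar hubar)
    hPT hP hOT' hO1' h hh
  exact ⟨h, hci, hcomp, ⟨τ⟩⟩

end main

end Groth.Agent.Lib.Helper28.BundleQuot
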