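import Groth.Agent.Lib.Helper28.VAProd2

/-!
# The immersion `P(E) → P(E ⊗ K)` for an invertible `K`, with `O(1) ⊗ p^* K ≅ ι^* O(1)`
-/

set_option autoImplicit false
universe u
open CategoryTheory CategoryTheory.Limits AlgebraicGeometry TopologicalSpace Opposite
open scoped HomogeneousIdeal
noncomputable section

namespace Groth.Agent.Lib.Helper28.VAProd

open Groth.Agent.Lib.Helper28 Groth.Agent.Lib.Helper28.QCohLoc Groth.Agent.Lib.Helper28.TraceAlg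
open Groth.Agent.Lib.Helper28.SymAlg Groth.Agent.Lib.Helper28.ImgAlg
open Groth.Agent.Lib.Helper28.RLPsi Groth.Agent.Lib.Helper28.RLPsiU Groth.Agent.Lib.Helper28.FTApprox
open Groth.Agent.Lib.Helper28.GenLocus Groth.Agent.Lib.Helper28.AmpleCompose
open Groth.Agent.Lib.Helper28.AmpleLocal Groth.Agent.Lib.Helper28.PullbackInv
open Groth.Agent.Lib.Helper28.ProdBundleVA Groth.Agent.Lib.Helper28.SecVAF

section maps

variable {Y X P P' Q : Scheme.{u}} (q : X ⟶ Y) {E E' : Y.Modules} [E.IsQuasicoherent] [E'.IsQuasicoherent]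
  {𝒮 : RelProj.QCGrAlg Y} {j : E ⟶ 𝒮.toModule} (hS : RelProj.IsGrSymAlg E 𝒮 j)
  {p : P ⟶ Y}
  {chart : ∀ (U : Y.Opens) (hU : IsAffineOpen U), (((p ⁻¹ᵁ U : P.Opens) : Scheme.{u}) ≅ Proj (𝒮.deg U hU))}
  (hP : RelProj.IsRelProj 𝒮 p chart)
  {O1 : P.Modules}
  {lam : ∀ (U : Y.Opens) (hU : IsAffineOpen U),
    O1 ⟶ (Scheme.Modules.pushforward (RelProj.emb p chart U hU)).obj (GrTwist.twist (𝒮.deg U hU) 1)}
  (hO : RelProj.IsRelTwist 𝒮 p chart 1 O1 lam)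
  {𝒮' : RelProj.QCGrAlg Y} {j' : E' ⟶ 𝒮'.toModule} (hS' : RelProj.IsGrSymAlg E' 𝒮' j')
  {p' : P' ⟶ Y}
  {chart' : ∀ (U : Y.Opens) (hU : IsAffineOpen U), (((p' ⁻¹ᵁ U : P'.Opens) : Scheme.{u}) ≅ Proj (𝒮'.deg U hU))}
  (hP' : RelProj.IsRelProj 𝒮' p' chart')
  {O1' : P'.Modules}
  {lam' : ∀ (U : Y.Opens) (hU : IsAffineOpen U),
    O1' ⟶ (Scheme.Modules.pushforward (RelProj.emb p' chart' U hU)).obj (GrTwist.twist (𝒮'.deg U hU) 1)}
  (hO' : RelProj.IsRelTwist 𝒮' p' chart' 1 O1' lam')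
  {𝒜 : RelProj.QCGrAlg Y} {jA : CohB1.tensorMod E E' ⟶ 𝒜.toModule}
  (h𝒜 : RelProj.IsGrSymAlg (CohB1.tensorMod E E') 𝒜 jA)
  (pQ : Q ⟶ Y)
  (chartQ : ∀ (U : Y.Opens) (hU : IsAffineOpen U), (((pQ ⁻¹ᵁ U : Q.Opens) : Scheme.{u}) ≅ Proj (𝒜.deg U hU)))
  (hQ : RelProj.IsRelProj 𝒜 pQ chartQ)
  {OQ : Q.Modules}
  {lamQ : ∀ (U : Y.Opens) (hU : IsAffineOpen U),
    OQ ⟶ (Scheme.Modules.pushforward (RelProj.emb pQ chartQ U hU)).obj (GrTwist.twist (𝒜.deg U hU) 1)}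
  (hOQ : RelProj.IsRelTwist 𝒜 pQ chartQ 1 OQ lamQ)

include hS hP hO hS' hP' hO' h𝒜 hQ hOQ in
/-- two `Y`-morphisms `i : X → P(E)`, `i' : X → P(E')` whose product is an immersion give an immersion
`X → P(E ⊗ E')` under which `O(1)` pulls back to `i^* O(1) ⊗ i'^* O(1)`; the target bundle is prescribed -/
theorem exists_immersion_tensor_of_maps (i : X ⟶ P) (i' : X ⟶ P') (hi : i ≫ p = q) (hi' : i' ≫ p' = q)
    (hk : IsImmersion (pullback.lift i i' (hi.trans hi'.symm)))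
    {L L' : X.Modules} (eL : L ≅ (Scheme.Modules.pullback i).obj O1)
    (eL' : L' ≅ (Scheme.Modules.pullback i').obj O1') :
    ∃ ι : X ⟶ Q, IsImmersion ι ∧ ι ≫ pQ = q ∧
      Nonempty (CohB1.tensorMod L L' ≅ (Scheme.Modules.pullback ι).obj OQ) := by
  classical
  have hO₁ : RelProj.IsRelTwist 𝒮 p chart ((1 : ℕ) : ℤ) O1 lam := hO
  have hO₂ : RelProj.IsRelTwist 𝒮' p' chart' ((1 : ℕ) : ℤ) O1' lam' := hO'
  have hOQ' : RelProj.IsRelTwist 𝒜 pQ chartQ ((1 : ℕ) : ℤ) OQ lamQ := hOQ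
  obtain ⟨s, hs_imm, hs_comp, ⟨eM⟩⟩ := exists_segre_immersion hS hP hO₁ hS' hP' hO₂ h𝒜 pQ chartQ hQ hOQ'
  set k : X ⟶ pullback p p' := pullback.lift i i' (hi.trans hi'.symm) with hkdef
  have hk1 : k ≫ pullback.fst p p' = i := pullback.lift_fst _ _ _
  have hk2 : k ≫ pullback.snd p p' = i' := pullback.lift_snd _ _ _
  have : IsImmersion s := hs_imm
  have hN₁ : PicF.IsInvertible (N₁ p p' O1) := isInvertible_pullback _ (RLPsiV.isInvertible_O1 hS hO₁)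
  have hN₂ : PicF.IsInvertible (N₂ p p' O1') := isInvertible_pullback _ (RLPsiV.isInvertible_O1 hS' hO₂)
  obtain ⟨ψ, -⟩ := exists_pullback_tensorMod_iso k hN₁ hN₂
  refine ⟨k ≫ s, inferInstance, ?_, ⟨?_⟩⟩
  · rw [Category.assoc, hs_comp, ← Category.assoc, hk1, hi]
  · have e₁ : L ≅ (Scheme.Modules.pullback k).obj (N₁ p p' O1) :=
      eL ≪≫ (Scheme.Modules.pullbackCongr hk1.symm).app O1 ≪≫
        ((Scheme.Modules.pullbackComp k (pullback.fst p p')).app O1).symm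
    have e₂ : L' ≅ (Scheme.Modules.pullback k).obj (N₂ p p' O1') :=
      eL' ≪≫ (Scheme.Modules.pullbackCongr hk2.symm).app O1' ≪≫
        ((Scheme.Modules.pullbackComp k (pullback.snd p p')).app O1').symm
    exact PicGrp.tensorModIso e₁ e₂ ≪≫ ψ.symm ≪≫ (Scheme.Modules.pullback k).mapIso eM ≪≫
      (Scheme.Modules.pullbackComp k s).app _

end maps

section twist

variable {Y P Q : Scheme.{u}} {E K : Y.Modules} [E.IsQuasicoherent]
  {𝒮 : RelProj.QCGrAlg Y} {j : E ⟶ 𝒮.toModule} (hS : RelProj.IsGrSymAlg E 𝒮 j)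
  (p : P ⟶ Y)
  (chart : ∀ (U : Y.Opens) (hU : IsAffineOpen U), (((p ⁻¹ᵁ U : P.Opens) : Scheme.{u}) ≅ Proj (𝒮.deg U hU)))
  (hP : RelProj.IsRelProj 𝒮 p chart)
  {O1 : P.Modules}
  {lam : ∀ (U : Y.Opens) (hU : IsAffineOpen U),
    O1 ⟶ (Scheme.Modules.pushforward (RelProj.emb p chart U hU)).obj (GrTwist.twist (𝒮.deg U hU) 1)}
  (hO : RelProj.IsRelTwist 𝒮 p chart 1 O1 lam)
  {𝒜 : RelProj.QCGrAlg Y} {jA : CohB1.tensorMod E K ⟶ 𝒜.toModule}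
  (h𝒜 : RelProj.IsGrSymAlg (CohB1.tensorMod E K) 𝒜 jA)
  (pQ : Q ⟶ Y)
  (chartQ : ∀ (U : Y.Opens) (hU : IsAffineOpen U), (((pQ ⁻¹ᵁ U : Q.Opens) : Scheme.{u}) ≅ Proj (𝒜.deg U hU)))
  (hQ : RelProj.IsRelProj 𝒜 pQ chartQ)
  {OQ : Q.Modules}
  {lamQ : ∀ (U : Y.Opens) (hU : IsAffineOpen U),
    OQ ⟶ (Scheme.Modules.pushforward (RelProj.emb pQ chartQ U hU)).obj (GrTwist.twist (𝒜.deg U hU) 1)}
  (hOQ : RelProj.IsRelTwist 𝒜 pQ chartQ 1 OQ lamQ)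

include hS hP hO h𝒜 hQ hOQ in
/-- **the immersion `P(E) → P(E ⊗ K)`, `K` invertible, with `O_{P(E)}(1) ⊗ p^* K ≅ ι^* O_{P(E ⊗ K)}(1)`** -/
theorem exists_immersion_twist (hK : PicF.IsInvertible K) :
    ∃ ι : P ⟶ Q, IsImmersion ι ∧ ι ≫ pQ = p ∧
      Nonempty (CohB1.tensorMod O1 ((Scheme.Modules.pullback p).obj K) ≅ (Scheme.Modules.pullback ι).obj OQ) := by
  classical
  have hKq : K.IsQuasicoherent := InvQC.isQuasicoherent_of_isInvertible K hK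
  have hQC' := isQC_symPre_of_isQuasicoherent K
  have hS' := isGrSymAlg K hQC'
  have hP' := RelProjExists.isRelProj (grSymAlg K hQC')
  have hO' := RelTwistEx.isRelTwist hP' 1
  obtain ⟨r, hr, ⟨eL'⟩⟩ := exists_mor_of_epi p hS' _ _ hP' hO' (isInvertible_pullback p hK)
    (𝟙 ((Scheme.Modules.pullback p).obj K)) inferInstance
  have hi : 𝟙 P ≫ p = p := Category.id_comp p
  have hk : IsImmersion (pullback.lift (𝟙 P) r (hi.trans hr.symm)) := by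
    have h1 : pullback.lift (𝟙 P) r (hi.trans hr.symm) ≫ pullback.fst p _ = 𝟙 P := pullback.lift_fst _ _ _
    have h2 : IsImmersion (pullback.lift (𝟙 P) r (hi.trans hr.symm) ≫ pullback.fst p _) := by
      rw [h1]; infer_instance
    exact IsImmersion.of_comp _ (pullback.fst p _)
  exact exists_immersion_tensor_of_maps p hS hP hO hS' hP' hO' h𝒜 pQ chartQ hQ hOQ (𝟙 P) r hi hr hk
    ((Scheme.Modules.pullbackId P).app O1).symm eL'

end twist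

end Groth.Agent.Lib.Helper28.VAProd
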