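import Groth.Agent.Lib.Helper28.VeryAmpleLocal
import Groth.Agent.Lib.Helper28.ProjAmple
import Groth.Agent.S12416
import Groth.Agent.S2333

/-!
# From Chow data in the projective space form to the relative `Proj` form; scheme-theoretic closure refinement
-/

set_option autoImplicit false
universe u
open CategoryTheory CategoryTheory.Limits AlgebraicGeometry TopologicalSpace Opposite
noncomputable section

namespace Groth.Agent.Lib.Helper28.ChowProj

variable {X S X' : Scheme.{u}}

/-- an immersion into a projective space over `S` makes the source quasi-projective over `S` -/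
theorem isQuasiProjective_of_immersion (h : X' ⟶ S) [LocallyOfFiniteType h] [QuasiCompact h] (n : ℕ)
    (j : X' ⟶ CohB1.ProjSpaceOver n S) [IsImmersion j] (hcomm : j ≫ CohB1.ProjSpaceOver.toBase n S = h) :
    RelProj.IsQuasiProjective h := by
  refine ⟨inferInstance, inferInstance, (Scheme.Modules.pullback j).obj (Twist.twistOver n S 1), ?_⟩
  exact VeryAmpleLocal.isRelAmple_of_isRelVeryAmplePn h ⟨n, j, inferInstance, hcomm, ⟨Iso.refl _⟩⟩

/-- a proper morphism `π` to a quasi-compact quasi-separated scheme such that `π ≫ r` is quasi-projective is projective -/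
theorem isProjective_of_comp_isQuasiProjective [CompactSpace X] [QuasiSeparatedSpace X] (π : X' ⟶ X) [IsProper π]
    (r : X ⟶ S) (h : RelProj.IsQuasiProjective (π ≫ r)) : RelProj.IsProjective π := by
  obtain ⟨-, -, L, hL⟩ := h
  exact Groth.Agent.S12416.result π ⟨inferInstance, inferInstance, L, Groth.Agent.S2333.result π r L hL⟩

end Groth.Agent.Lib.Helper28.ChowProj
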