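import Groth.Agent.Lib.Helper28.ChowProj

set_option autoImplicit false
universe u
open CategoryTheory CategoryTheory.Limits AlgebraicGeometry TopologicalSpace Opposite
noncomputable section

namespace Groth.Agent.Lib.Helper28.ChowProj

variable {X S X' : Scheme.{u}}

/-- the morphism to the scheme-theoretic image of a quasi-compact morphism is scheme-theoretically dominant -/
theorem isSchemeTheoreticallyDominant_toImage {X Y : Scheme.{u}} (f : X ⟶ Y) [QuasiCompact f] :
    IsSchemeTheoreticallyDominant f.toImage := by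
  rw [isSchemeTheoreticallyDominant_iff]
  refine Scheme.IdealSheafData.ext_of_iSup_eq_top (ι := Y.affineOpens)
    (fun U => ⟨f.imageι ⁻¹ᵁ U.1, U.2.preimage f.imageι⟩) ?_ ?_
  · rw [eq_top_iff]
    intro x _
    obtain ⟨_, ⟨V, hV, rfl⟩, hxV, -⟩ := Y.isBasis_affineOpens.exists_subset_of_mem_open
      (show f.imageι x ∈ ((⊤ : Y.Opens) : Set Y) from trivial) (⊤ : Y.Opens).isOpen
    exact Opens.mem_iSup.2 ⟨⟨V, hV⟩, hxV⟩
  · intro U
    rw [Scheme.Hom.ker_apply]
    simp only [Scheme.IdealSheafData.ideal_bot, Pi.bot_apply]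
    exact (RingHom.injective_iff_ker_eq_bot _).1 (f.toImage_app_injective U)

/-- **closure refinement**: replace `X'` by the scheme-theoretic closure of `π⁻¹ U` -/
theorem exists_closure_refine (π : X' ⟶ X) (U : X.Opens) [IsIso (π ∣_ U)] [QuasiCompact (π ⁻¹ᵁ U).ι] :
    ∃ (X'' : Scheme.{u}) (i : X'' ⟶ X'), IsClosedImmersion i ∧
      Dense (((i ≫ π) ⁻¹ᵁ U : X''.Opens) : Set X'') ∧ IsIso ((i ≫ π) ∣_ U) ∧
      (IsReduced X → IsReduced X'') ∧ ((U : Set X).Nonempty → IrreducibleSpace X → IrreducibleSpace X'') := by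
  let v : ((π ⁻¹ᵁ U : X'.Opens) : Scheme.{u}) ⟶ X' := (π ⁻¹ᵁ U).ι
  have ht : v.toImage ≫ v.imageι = v := v.toImage_imageι
  have hrange : Set.range v.toImage = (((v.imageι ≫ π) ⁻¹ᵁ U : v.image.Opens) : Set v.image) := by
    ext x
    constructor
    · rintro ⟨y, rfl⟩
      show π (v.imageι (v.toImage y)) ∈ U
      have h1 : v.imageι (v.toImage y) = v y := by
        rw [← Scheme.Hom.comp_apply, ht]
      rw [h1]
      exact y.2
    · intro hx
      have hx' : v.imageι x ∈ π ⁻¹ᵁ U := hx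
      refine ⟨⟨v.imageι x, hx'⟩, ?_⟩
      apply v.imageι.isEmbedding.injective
      rw [← Scheme.Hom.comp_apply, ht]
      rfl
  have hdense : Dense (Set.range v.toImage) := v.toImage.denseRange
  have hW : Set.range v.toImage = Set.range ((v.imageι ≫ π) ⁻¹ᵁ U).ι := by
    rw [Scheme.Opens.range_ι]; exact hrange
  let e := IsOpenImmersion.isoOfRangeEq v.toImage ((v.imageι ≫ π) ⁻¹ᵁ U).ι hW
  have he : e.hom ≫ ((v.imageι ≫ π) ⁻¹ᵁ U).ι = v.toImage := IsOpenImmersion.isoOfRangeEq_hom_fac _ _ hW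
  have hcomp : e.hom ≫ ((v.imageι ≫ π) ∣_ U) = π ∣_ U := by
    rw [← cancel_mono U.ι, Category.assoc, morphismRestrict_ι, ← Category.assoc, he, ← Category.assoc, ht,
      morphismRestrict_ι]
  have hiso : IsIso ((v.imageι ≫ π) ∣_ U) := by
    have h2 : (v.imageι ≫ π) ∣_ U = e.inv ≫ (π ∣_ U) := by rw [← hcomp, Iso.inv_hom_id_assoc]
    rw [h2]; infer_instance
  refine ⟨v.image, v.imageι, inferInstance, ?_, hiso, ?_, ?_⟩
  · rw [← hrange]; exact hdense
  · intro hX
    have h1 : IsReduced ((π ⁻¹ᵁ U : X'.Opens) : Scheme.{u}) := isReduced_of_isOpenImmersion (π ∣_ U)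
    have := isSchemeTheoreticallyDominant_toImage v
    exact IsSchemeTheoreticallyDominant.isReduced v.toImage
  · intro hne hX
    have h0 : IrreducibleSpace ((U : X.Opens) : Scheme.{u}) := by
      exact Subtype.irreducibleSpace
        ⟨hne, (PreirreducibleSpace.isPreirreducible_univ (X := X)).open_subset U.isOpen (Set.subset_univ _)⟩
    have h1 : IrreducibleSpace ((π ⁻¹ᵁ U : X'.Opens) : Scheme.{u}) := by
      exact (ObjectProperty.prop_iff_of_iso (fun Z : Scheme.{u} => IrreducibleSpace Z) (asIso (π ∣_ U))).2 h0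
    have h2 : IsIrreducible (Set.range v.toImage) := by
      rw [← Set.image_univ]
      exact (IrreducibleSpace.isIrreducible_univ _).image _ v.toImage.continuous.continuousOn
    have h3 := h2.closure
    rw [hdense.closure_eq] at h3
    exact (irreducibleSpace_def _).2 h3

/-- a proper morphism which is an isomorphism over a dense open is surjective -/
theorem surjective_of_isIso_restrict (f : X' ⟶ X) [IsProper f] (U : X.Opens) (hU : Dense (U : Set X))
    [IsIso (f ∣_ U)] : Surjective f := by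
  have hc : IsClosed (Set.range f) := f.isClosedMap.isClosed_range
  have hsub : (U : Set X) ⊆ Set.range f := by
    intro y hy
    have hs : Function.Surjective (f ∣_ U) := (inferInstance : Surjective (f ∣_ U)).surj
    obtain ⟨z, hz⟩ := hs ⟨y, hy⟩
    refine ⟨(f ⁻¹ᵁ U).ι z, ?_⟩
    have := congrArg (fun φ : _ ⟶ X => φ z) (morphismRestrict_ι f U)
    simp only [Scheme.Hom.comp_apply] at this
    rw [← this, hz]
    rfl
  refine ⟨fun y => ?_⟩
  have : y ∈ closure (U : Set X) := hU y
  exact (hc.closure_subset_iff.mpr hsub) this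

/-- **Chow data in the relative `Proj` form** -/
theorem chow_relProj (r : X ⟶ S) [LocallyOfFiniteType r] [QuasiCompact r] [CompactSpace X] [QuasiSeparatedSpace X]
    (n : ℕ) (π : X' ⟶ X) (j : X' ⟶ CohB1.ProjSpaceOver n S) [IsImmersion j]
    (hcomm : j ≫ CohB1.ProjSpaceOver.toBase n S = π ≫ r) [IsProper π] (U : X.Opens) (hU : Dense (U : Set X))
    [IsIso (π ∣_ U)] [QuasiCompact U.ι] :
    ∃ (X'' : Scheme.{u}) (f : X'' ⟶ X) (j'' : X'' ⟶ CohB1.ProjSpaceOver n S), IsImmersion j'' ∧
      j'' ≫ CohB1.ProjSpaceOver.toBase n S = f ≫ r ∧ IsProper f ∧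
      RelProj.IsQuasiProjective (f ≫ r) ∧ RelProj.IsProjective f ∧ Surjective f ∧
      (Dense ((f ⁻¹ᵁ U : X''.Opens) : Set X'') ∧ IsIso (f ∣_ U)) ∧
      (IsReduced X → IsReduced X'') ∧ (IrreducibleSpace X → IrreducibleSpace X'') ∧
      (IsIntegral X → IsIntegral X'') := by
  have hqc : QuasiCompact (π ⁻¹ᵁ U).ι :=
    MorphismProperty.of_isPullback (P := @QuasiCompact) (isPullback_morphismRestrict π U) inferInstance
  obtain ⟨X'', i, hi, hdense, hiso, hred, hirr⟩ := exists_closure_refine π U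
  have hprop : IsProper (i ≫ π) := inferInstance
  have himm : IsImmersion (i ≫ j) := inferInstance
  have hc : (i ≫ j) ≫ CohB1.ProjSpaceOver.toBase n S = (i ≫ π) ≫ r := by
    rw [Category.assoc, hcomm, Category.assoc]
  have hlft : LocallyOfFiniteType ((i ≫ π) ≫ r) := inferInstance
  have hqc2 : QuasiCompact ((i ≫ π) ≫ r) := inferInstance
  have hqp := isQuasiProjective_of_immersion ((i ≫ π) ≫ r) n (i ≫ j) hc
  refine ⟨X'', i ≫ π, i ≫ j, himm, hc, hprop, hqp, isProjective_of_comp_isQuasiProjective (i ≫ π) r hqp,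
    surjective_of_isIso_restrict (i ≫ π) U hU, ⟨hdense, hiso⟩, hred, ?_, ?_⟩
  · intro hX
    exact hirr hU.nonempty hX
  · intro hX
    have h1 := hred inferInstance
    have h2 := hirr hU.nonempty inferInstance
    exact isIntegral_of_irreducibleSpace_of_isReduced X''

end Groth.Agent.Lib.Helper28.ChowProj
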