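import Groth.Agent.Lib.Helper28.ChowProj2
import Groth.Agent.Lib.Helper28.PullbackAmple2
import Groth.Agent.Lib.lead.ChowR
import Groth.Agent.Lib.Helper4.ChowMain

set_option autoImplicit false
universe u
open CategoryTheory CategoryTheory.Limits AlgebraicGeometry TopologicalSpace Opposite
noncomputable section

namespace Groth.Agent.Lib.Helper28.ChowProj

open Groth.Agent.Lib.lead.NaMain Groth.Agent.Lib.Helper13 Groth.Agent.Lib.Helper22

/-- base change of a morphism which is an isomorphism over an open -/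
theorem isIso_restrict_pullback {X X₁ Y₁ : Scheme.{u}} (π₁ : Y₁ ⟶ X₁) (a : X ⟶ X₁) (U₁ : X₁.Opens)
    [IsIso (π₁ ∣_ U₁)] : IsIso (pullback.snd π₁ a ∣_ (a ⁻¹ᵁ U₁)) := by
  let π := pullback.snd π₁ a
  let U : X.Opens := a ⁻¹ᵁ U₁
  have hA : IsPullback (π ⁻¹ᵁ U).ι (π ∣_ U) π U.ι := (isPullback_morphismRestrict π U).flip
  have hB : IsPullback (pullback.fst π₁ a) π π₁ a := IsPullback.of_hasPullback π₁ a
  have hAB := hA.paste_horiz hB
  have hC : IsPullback (π₁ ⁻¹ᵁ U₁).ι (π₁ ∣_ U₁) π₁ U₁.ι := (isPullback_morphismRestrict π₁ U₁).flip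
  have hb : U.ι ≫ a = (a ∣_ U₁) ≫ U₁.ι := (morphismRestrict_ι a U₁).symm
  rw [hb] at hAB
  let l : ((π ⁻¹ᵁ U : (pullback π₁ a).Opens) : Scheme.{u}) ⟶ ((π₁ ⁻¹ᵁ U₁ : Y₁.Opens) : Scheme.{u}) :=
    hC.lift ((π ⁻¹ᵁ U).ι ≫ pullback.fst π₁ a) ((π ∣_ U) ≫ (a ∣_ U₁)) (by rw [Category.assoc]; exact hAB.w)
  have hl1 : l ≫ (π₁ ⁻¹ᵁ U₁).ι = (π ⁻¹ᵁ U).ι ≫ pullback.fst π₁ a := hC.lift_fst _ _ _
  have hl2 : l ≫ (π₁ ∣_ U₁) = (π ∣_ U) ≫ (a ∣_ U₁) := hC.lift_snd _ _ _
  rw [← hl1] at hAB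
  have hD : IsPullback l (π ∣_ U) (π₁ ∣_ U₁) (a ∣_ U₁) := IsPullback.of_right hAB hl2 hC
  exact hD.isIso_snd_of_isIso

/-- **Chow's lemma over a quasi-compact quasi-separated base, relative `Proj` form, with a nonempty open** -/
theorem exists_chow_nonempty {X S : Scheme.{u}} (f : X ⟶ S) [CompactSpace S] [QuasiSeparatedSpace S]
    [IsSeparated f] [LocallyOfFiniteType f] [QuasiCompact f] [Nonempty X] :
    ∃ (Xbar : Scheme.{u}) (π : Xbar ⟶ X), RelProj.IsProjective π ∧ RelProj.IsQuasiProjective (π ≫ f) ∧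
      ∃ U : X.Opens, (U : Set X).Nonempty ∧ IsIso (π ∣_ U) := by
  have hXc : CompactSpace X := QuasiCompact.compactSpace_of_compactSpace f
  have hXq : QuasiSeparatedSpace X := quasiSeparatedSpace_of_quasiSeparated f
  obtain ⟨X₁, f₁, i, hsep, hlfp, hqc, hi, hcomp⟩ := Groth.Agent.S7395.result f
  obtain ⟨I, _, _, _, D, c, hc, haff, hft, ⟨eS⟩⟩ := exists_approx S
  have : ∀ (i j : Iᵒᵖ) (f : i ⟶ j), IsAffineHom (D.map f) := haff
  have : ∀ i, IsNoetherian (D.obj i) := fun i => isNoetherian_of_ftz (hft i)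
  have : ∀ i, CompactSpace (D.obj i) := fun i => (hft i).1
  have : ∀ i, QuasiSeparatedSpace (D.obj i) := fun i => inferInstance
  let h : X₁ ⟶ c.pt := f₁ ≫ eS.inv
  have : LocallyOfFinitePresentation h :=
    inferInstanceAs (LocallyOfFinitePresentation (f₁ ≫ eS.inv))
  have : QuasiCompact h := inferInstanceAs (QuasiCompact (f₁ ≫ eS.inv))
  have : IsSeparated h := inferInstanceAs (IsSeparated (f₁ ≫ eS.inv))
  have : QuasiSeparated h := inferInstance
  obtain ⟨i₀, ⟨M⟩⟩ := LimModel.hasModel_of_finitePresentation hc h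
  have : LocallyOfFinitePresentation M.h₀ := M.lfp
  have : QuasiCompact M.h₀ := M.qc
  have : QuasiSeparated M.h₀ := M.qs
  have : CompactSpace M.Z₀ := M.compactSpace
  have : QuasiSeparatedSpace M.Z₀ := M.quasiSeparatedSpace
  have hsep' : IsSeparated (pullback.fst (c.π.app i₀) M.h₀) :=
    (LimDescend.prop_iff_of_isPullback @IsSeparated M.pb.flip
      (IsPullback.of_hasPullback (c.π.app i₀) M.h₀)).mp inferInstance
  obtain ⟨j, ψ, hj⟩ := LimDescend.core_isSeparated D c hc i₀ M.h₀ hsep'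
  let M' := M.ofHom ψ
  have : IsSeparated M'.h₀ := by
    change IsSeparated (pullback.snd M.h₀ (D.map ψ))
    rw [← pullbackSymmetry_hom_comp_fst]
    infer_instance
  have : LocallyOfFinitePresentation M'.h₀ := M'.lfp
  have : QuasiCompact M'.h₀ := M'.qc
  -- the affine morphism to the Noetherian model
  have hπaff : IsAffineHom (c.π.app j) := isAffineHom_π_app D c hc j
  have hgaff : IsAffineHom M'.g := MorphismProperty.of_isPullback (P := @IsAffineHom) M'.pb.flip hπaff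
  let G : X ⟶ M'.Z₀ := i ≫ M'.g
  have hGaff : IsAffineHom G := inferInstanceAs (IsAffineHom (i ≫ M'.g))
  have hG₁aff : IsAffineHom G.toImage := by
    have h1 : IsAffineHom (G.toImage ≫ G.imageι) := by rw [G.toImage_imageι]; exact hGaff
    exact IsAffineHom.of_comp G.toImage G.imageι
  let h₁ : G.image ⟶ D.obj j := G.imageι ≫ M'.h₀
  have : IsSeparated h₁ := inferInstanceAs (IsSeparated (G.imageι ≫ M'.h₀))
  have : LocallyOfFiniteType h₁ := inferInstanceAs (LocallyOfFiniteType (G.imageι ≫ M'.h₀))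
  have : QuasiCompact h₁ := inferInstanceAs (QuasiCompact (G.imageι ≫ M'.h₀))
  obtain ⟨n, Y₁, π₁, j₁, himm, hcomm, hprop, -, U₁, hU₁, hiso⟩ := Groth.Agent.Lib.Helper4.ChowMain.chow h₁
  have : LocallyOfFiniteType (π₁ ≫ h₁) := inferInstance
  have : QuasiCompact (π₁ ≫ h₁) := inferInstance
  obtain ⟨-, -, L₁, hL₁⟩ := isQuasiProjective_of_immersion (π₁ ≫ h₁) n j₁ hcomm
  let π := pullback.snd π₁ G.toImage
  let p := pullback.fst π₁ G.toImage
  have hpaff : IsAffineHom p := MorphismProperty.pullback_fst (P := @IsAffineHom) _ _ hG₁aff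
  have hp : Mor2.IsQuasiAffine p := by
    refine ⟨inferInstance, fun V hV => ?_⟩
    have : IsAffine ((p ⁻¹ᵁ V : (pullback π₁ G.toImage).Opens) : Scheme.{u}) := hV.preimage p
    infer_instance
  have hL := PullbackInv.isRelAmple_pullback_of_quasiAffine (π₁ ≫ h₁) p hp L₁ hL₁
  have heq : p ≫ π₁ ≫ h₁ = (π ≫ f) ≫ (eS.inv ≫ c.π.app j) := by
    have h2 : p ≫ π₁ = π ≫ G.toImage := pullback.condition
    have h3 : M'.g ≫ M'.h₀ = h ≫ c.π.app j := M'.pb.w
    calc p ≫ π₁ ≫ h₁ = (p ≫ π₁) ≫ G.imageι ≫ M'.h₀ := by rw [Category.assoc]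
      _ = π ≫ (G.toImage ≫ G.imageι) ≫ M'.h₀ := by rw [h2]; simp only [Category.assoc]
      _ = π ≫ i ≫ M'.g ≫ M'.h₀ := by rw [G.toImage_imageι]; simp only [G, Category.assoc]
      _ = π ≫ i ≫ (f₁ ≫ eS.inv) ≫ c.π.app j := by rw [h3]
      _ = (π ≫ f) ≫ (eS.inv ≫ c.π.app j) := by rw [← hcomp]; simp only [Category.assoc]
  rw [heq] at hL
  have : QuasiCompact (π ≫ f) := inferInstance
  have hL' := Groth.Agent.S2333.result (π ≫ f) (eS.inv ≫ c.π.app j) _ hL
  have hqp : RelProj.IsQuasiProjective (π ≫ f) := ⟨inferInstance, inferInstance, _, hL'⟩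
  refine ⟨_, π, isProjective_of_comp_isQuasiProjective π f hqp, hqp, G.toImage ⁻¹ᵁ U₁, ?_,
    isIso_restrict_pullback π₁ G.toImage U₁⟩
  have hne : Nonempty G.image := ⟨G.toImage (Classical.arbitrary X)⟩
  obtain ⟨x, hx⟩ := G.toImage.denseRange.exists_mem_open U₁.isOpen hU₁.nonempty
  exact ⟨x, hx⟩

end Groth.Agent.Lib.Helper28.ChowProj
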