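import Mathlib

/-!
# Regrading: a grading by additive subgroups as a grading by `ULift ℤ`-submodules (helper28)

`gZ 𝒜 n` is `𝒜 n` as a submodule over `ULift ℤ` (same universe as the ring), with its `GradedAlgebra` instance and the
identification of the homogeneous localizations (`awayEquiv`, compatible with `val`).  Used to transport results
proved for gradings by submodules over a base ring in the same universe.
-/

set_option autoImplicit false
universe u
open HomogeneousLocalization

namespace Groth.Agent.Lib.Helper28.Regrade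

/-- a commutative ring as an algebra over `ULift ℤ` (module structure: Mathlib's `ULift.module`) -/
@[reducible] noncomputable def algZ (A : Type u) [CommRing A] : Algebra (ULift.{u} ℤ) A :=
  Algebra.ofModule (fun r x y => by
    change (r.down • x) * y = r.down • (x * y)
    exact smul_mul_assoc _ _ _) (fun r x y => by
    change x * (r.down • y) = r.down • (x * y)
    exact mul_smul_comm _ _ _)

attribute [local instance] algZ

variable {A : Type u} [CommRing A] (𝒜 : ℕ → AddSubgroup A)

/-- the same grading, by `ULift ℤ`-submodules -/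
def gZ (n : ℕ) : Submodule (ULift.{u} ℤ) A where
  carrier := 𝒜 n
  add_mem' := fun ha hb => add_mem ha hb
  zero_mem' := zero_mem _
  smul_mem' := fun c x hx => by
    change c.down • x ∈ 𝒜 n
    exact zsmul_mem hx _

theorem mem_gZ {n : ℕ} {x : A} : x ∈ gZ 𝒜 n ↔ x ∈ 𝒜 n := Iff.rfl

/-- the identification of the pieces -/
def pieceEquiv (n : ℕ) : 𝒜 n ≃+ gZ 𝒜 n where
  toFun x := ⟨x.1, x.2⟩
  invFun x := ⟨x.1, x.2⟩
  left_inv _ := rfl
  right_inv _ := rfl
  map_add' _ _ := rfl

theorem coe_congr (y : DirectSum ℕ fun i => 𝒜 i) :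
    DirectSum.coeAddMonoidHom (gZ 𝒜) (DirectSum.congrAddEquiv (pieceEquiv 𝒜) y) =
      DirectSum.coeAddMonoidHom 𝒜 y := by
  classical
  induction y using DirectSum.induction_on with
  | zero => simp
  | of i x =>
    change DirectSum.coeAddMonoidHom (gZ 𝒜) (DirectSum.map (fun i => (pieceEquiv 𝒜 i).toAddMonoidHom)
      (DirectSum.of (fun i => 𝒜 i) i x)) = _
    rw [DirectSum.map_of, DirectSum.coeAddMonoidHom_of, DirectSum.coeAddMonoidHom_of]
    rfl
  | add x y hx hy => rw [map_add, map_add, map_add, hx, hy]

variable [GradedRing 𝒜]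

instance : SetLike.GradedMonoid (gZ 𝒜) where
  one_mem := SetLike.GradedOne.one_mem (A := 𝒜)
  mul_mem := fun _ _ _ _ ha hb => SetLike.GradedMul.mul_mem (A := 𝒜) ha hb

noncomputable instance : DirectSum.Decomposition (gZ 𝒜) where
  decompose' x := DirectSum.congrAddEquiv (pieceEquiv 𝒜) (DirectSum.decompose 𝒜 x)
  left_inv x := by
    change DirectSum.coeAddMonoidHom (gZ 𝒜) _ = x
    rw [coe_congr]
    exact DirectSum.Decomposition.left_inv x
  right_inv y := by
    obtain ⟨y', rfl⟩ := (DirectSum.congrAddEquiv (pieceEquiv 𝒜)).surjective y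
    have : (DirectSum.coeAddMonoidHom (gZ 𝒜)) ((DirectSum.congrAddEquiv (pieceEquiv 𝒜)) y') =
        DirectSum.coeAddMonoidHom 𝒜 y' := coe_congr 𝒜 y'
    beta_reduce
    rw [this]
    congr 1
    exact DirectSum.Decomposition.right_inv y'

noncomputable instance : GradedAlgebra (gZ 𝒜) where

/-- the identity as a graded homomorphism to the regraded ring -/
def toZ : 𝒜 →+*ᵍ gZ 𝒜 := { RingHom.id A with map_mem := fun h => h }

/-- the identity as a graded homomorphism from the regraded ring -/
def ofZ : gZ 𝒜 →+*ᵍ 𝒜 := { RingHom.id A with map_mem := fun h => h }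

@[simp] theorem toZ_apply (a : A) : toZ 𝒜 a = a := rfl
@[simp] theorem ofZ_apply (a : A) : ofZ 𝒜 a = a := rfl

/-- the homogeneous localizations of the two gradings agree -/
noncomputable def awayEquiv (f : A) : Away 𝒜 f ≃+* Away (gZ 𝒜) f :=
  RingEquiv.ofRingHom (Away.map (toZ 𝒜) f) (Away.map (ofZ 𝒜) f)
    (by
      ext x
      obtain ⟨c, rfl⟩ := HomogeneousLocalization.mk_surjective x
      rfl)
    (by
      ext x
      obtain ⟨c, rfl⟩ := HomogeneousLocalization.mk_surjective x
      rfl)

theorem awayEquiv_val (f : A) (q : Away 𝒜 f) : (awayEquiv 𝒜 f q).val = q.val := by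
  obtain ⟨c, rfl⟩ := HomogeneousLocalization.mk_surjective q
  rfl

theorem awayEquiv_symm_val (f : A) (q : Away (gZ 𝒜) f) : ((awayEquiv 𝒜 f).symm q).val = q.val := by
  obtain ⟨c, rfl⟩ := HomogeneousLocalization.mk_surjective q
  rfl

end Groth.Agent.Lib.Helper28.Regrade
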