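import Mathlib
import Groth.Agent.Lib.Helper28.Regrade
import Groth.Agent.Lib.Helper28.ConeAlg

/-!
# Algebra of the projective cone for gradings by additive subgroups (helper28)

`exists_dehom` (transported from `ConeAlg.exists_dehom` through `Regrade`), `exists_poly`: `S[z]_(f) ≅ S_(f)[X]`.
-/

set_option autoImplicit false
universe u
open HomogeneousLocalization Polynomial

namespace Groth.Agent.Lib.Helper28.ConeAlgG

open Groth.Agent.Lib.Helper28.Regrade

attribute [local instance] Groth.Agent.Lib.Helper28.Regrade.algZ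

variable {A : Type u} [CommRing A] (𝒜 : ℕ → AddSubgroup A) [GradedRing 𝒜]

/-- dehomogenisation for a grading by additive subgroups -/
theorem exists_dehom {f : A} (hf : f ∈ 𝒜 1) :
    ∃ e : Away 𝒜 f ≃+* A ⧸ Ideal.span {f - 1},
      ∀ (n : ℕ) (x : A), x ∈ 𝒜 n →
        (e.symm (Ideal.Quotient.mk (Ideal.span {f - 1}) x)).val =
          Localization.mk x ⟨f ^ n, pow_mem (Submonoid.mem_powers f) n⟩ := by
  obtain ⟨e, he⟩ := Groth.Agent.Lib.Helper28.ConeAlg.exists_dehom (R := ULift.{u} ℤ) (gZ 𝒜) (f := f) hf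
  refine ⟨(awayEquiv 𝒜 f).trans e, fun n x hx => ?_⟩
  rw [RingEquiv.symm_trans_apply, awayEquiv_symm_val]
  exact he n x hx

/-- two ring homs out of a graded ring that agree on homogeneous elements are equal -/
theorem ringHom_ext_homog {S : Type*} [Semiring S] (g₁ g₂ : A →+* S)
    (h : ∀ (n : ℕ) (a : A), a ∈ 𝒜 n → g₁ a = g₂ a) : g₁ = g₂ := by
  classical
  ext a
  rw [← DirectSum.sum_support_decompose 𝒜 a, map_sum, map_sum]
  exact Finset.sum_congr rfl fun i _ => h i _ (SetLike.coe_mem _)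

section Cone

variable {B : Type u} [CommRing B] (ℬ : ℕ → AddSubgroup B) [GradedRing ℬ]
    [Algebra A B] (φ : 𝒜 →+*ᵍ ℬ) (hφ : ∀ a : A, φ a = algebraMap A B a)
    (z : B) (hhat : Function.Bijective (Polynomial.aeval (R := A) z))

include hφ hhat in
/-- `S[z]_(f) ≅ S_(f)[X]` compatibly with `S_(f)` -/
theorem exists_poly {f : A} (hf : f ∈ 𝒜 1) :
    ∃ Θ : (Away 𝒜 f)[X] ≃+* Away ℬ (φ f), ∀ c : Away 𝒜 f, Θ (C c) = Away.map φ f c := by
  obtain ⟨eA, heA⟩ := exists_dehom 𝒜 hf
  obtain ⟨eB, heB⟩ := exists_dehom ℬ (f := φ f) (φ.2 hf)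
  have hIJ : (Ideal.span {f - 1} : Ideal A) ≤ (Ideal.span {φ f - 1} : Ideal B).comap φ.toRingHom := by
    rw [Ideal.span_le, Set.singleton_subset_iff]
    change φ (f - 1) ∈ (Ideal.span {φ f - 1} : Ideal B)
    rw [map_sub, map_one]
    exact Ideal.subset_span rfl
  let φb : A ⧸ (Ideal.span {f - 1} : Ideal A) →+* B ⧸ (Ideal.span {φ f - 1} : Ideal B) := Ideal.quotientMap (Ideal.span {φ f - 1} : Ideal B) φ.toRingHom hIJ
  have hφb : ∀ a : A, φb (Ideal.Quotient.mk (Ideal.span {f - 1} : Ideal A) a) = Ideal.Quotient.mk (Ideal.span {φ f - 1} : Ideal B) (φ a) := fun a => rfl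
  -- Claim 1
  have claim1 : ∀ q : A ⧸ (Ideal.span {f - 1} : Ideal A), eB.symm (φb q) = Away.map φ f (eA.symm q) := by
    intro q
    obtain ⟨a, rfl⟩ := Ideal.Quotient.mk_surjective q
    have := ringHom_ext_homog 𝒜
      ((eB.symm.toRingHom.comp φb).comp (Ideal.Quotient.mk (Ideal.span {f - 1} : Ideal A)))
      (((Away.map φ f).comp eA.symm.toRingHom).comp (Ideal.Quotient.mk (Ideal.span {f - 1} : Ideal A))) ?_
    · exact congrArg (fun g => g a) this
    · intro n a ha
      change eB.symm (φb (Ideal.Quotient.mk (Ideal.span {f - 1} : Ideal A) a)) = Away.map φ f (eA.symm (Ideal.Quotient.mk (Ideal.span {f - 1} : Ideal A) a))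
      rw [hφb]
      have h1 : eA.symm (Ideal.Quotient.mk (Ideal.span {f - 1} : Ideal A) a) = Away.mk 𝒜 hf n a (by rwa [smul_eq_mul, mul_one]) := by
        apply HomogeneousLocalization.val_injective
        rw [heA n a ha, Away.val_mk]
      rw [h1, Away.map_mk]
      apply HomogeneousLocalization.val_injective
      rw [heB n (φ a) (φ.2 ha), Away.val_mk]
  -- Claim 2
  let α : A[X] →ₐ[A] B := Polynomial.aeval z
  let Ξ : (A ⧸ (Ideal.span {f - 1} : Ideal A))[X] →+* B ⧸ (Ideal.span {φ f - 1} : Ideal B) := Polynomial.eval₂RingHom φb (Ideal.Quotient.mk (Ideal.span {φ f - 1} : Ideal B) z)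
  have hΞ : Ξ.comp (Polynomial.mapRingHom (Ideal.Quotient.mk (Ideal.span {f - 1} : Ideal A))) =
      (Ideal.Quotient.mk (Ideal.span {φ f - 1} : Ideal B)).comp (α : A[X] →+* B) := by
    apply Polynomial.ringHom_ext
    · intro a
      simp only [RingHom.comp_apply, Polynomial.coe_mapRingHom, Polynomial.map_C, Ξ,
        Polynomial.coe_eval₂RingHom, Polynomial.eval₂_C, hφb, hφ]
      congr 1
      exact (Polynomial.aeval_C z a).symm
    · simp only [RingHom.comp_apply, Polynomial.coe_mapRingHom, Polynomial.map_X, Ξ,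
        Polynomial.coe_eval₂RingHom, Polynomial.eval₂_X]
      congr 1
      exact (Polynomial.aeval_X z).symm
  have hΞ' : ∀ P : A[X], Ξ (P.map (Ideal.Quotient.mk (Ideal.span {f - 1} : Ideal A))) = Ideal.Quotient.mk (Ideal.span {φ f - 1} : Ideal B) (α P) :=
    fun P => congrArg (fun g => g P) hΞ
  have hΞbij : Function.Bijective Ξ := by
    constructor
    · rw [injective_iff_map_eq_zero]
      intro Q hQ
      obtain ⟨P, rfl⟩ := Polynomial.map_surjective (Ideal.Quotient.mk (Ideal.span {f - 1} : Ideal A))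
        Ideal.Quotient.mk_surjective Q
      rw [hΞ', Ideal.Quotient.eq_zero_iff_mem, Ideal.mem_span_singleton'] at hQ
      obtain ⟨b', hb'⟩ := hQ
      obtain ⟨P', rfl⟩ := hhat.2 b'
      have h1 : α (P' * C (f - 1)) = α P := by
        rw [map_mul, ← hb']
        congr 1
        change Polynomial.aeval z (C (f - 1)) = _
        rw [Polynomial.aeval_C, map_sub, map_one, ← hφ]
      have h2 : P = P' * C (f - 1) := (hhat.1 h1).symm
      rw [h2, Polynomial.map_mul, Polynomial.map_C]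
      have : Ideal.Quotient.mk (Ideal.span {f - 1} : Ideal A) (f - 1) = 0 :=
        Ideal.Quotient.eq_zero_iff_mem.2 (Ideal.subset_span rfl)
      rw [this, map_zero, mul_zero]
    · intro y
      obtain ⟨b, rfl⟩ := Ideal.Quotient.mk_surjective y
      obtain ⟨P, rfl⟩ := hhat.2 b
      exact ⟨P.map (Ideal.Quotient.mk (Ideal.span {f - 1} : Ideal A)), hΞ' P⟩
  let Θ : (Away 𝒜 f)[X] ≃+* Away ℬ (φ f) :=
    ((Polynomial.mapEquiv eA).trans (RingEquiv.ofBijective Ξ hΞbij)).trans eB.symm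
  refine ⟨Θ, fun c => ?_⟩
  change eB.symm (Ξ ((C c).map (eA : Away 𝒜 f →+* A ⧸ (Ideal.span {f - 1} : Ideal A)))) = _
  rw [Polynomial.map_C]
  change eB.symm (Polynomial.eval₂ φb _ (C (eA c))) = _
  rw [Polynomial.eval₂_C, claim1, RingEquiv.symm_apply_apply]

end Cone

end Groth.Agent.Lib.Helper28.ConeAlgG
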