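import Mathlib

/-!
# `S_f ≅ S_(f)[T, T⁻¹]` for `f` of degree one (helper28)
-/

set_option autoImplicit false
universe u
open HomogeneousLocalization

namespace Groth.Agent.Lib.Helper28.ConeAlgL

open LaurentPolynomial

variable {R A : Type u} [CommRing R] [CommRing A] [Algebra R A] (𝒜 : ℕ → Submodule R A)
    [GradedAlgebra 𝒜] {f : A} (hf : f ∈ 𝒜 1)

theorem mem_smul {n : ℕ} {x : A} (hx : x ∈ 𝒜 n) : x ∈ 𝒜 (n • 1) := by
  rwa [smul_eq_mul, mul_one]

/-- the maps on graded pieces: `x ↦ (x/f^n) T^n` -/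
noncomputable def piece (n : ℕ) : 𝒜 n →+ (Away 𝒜 f)[T;T⁻¹] where
  toFun x := C (Away.mk 𝒜 hf n x.1 (mem_smul 𝒜 x.2)) * T n
  map_zero' := by
    have : Away.mk 𝒜 hf n (0 : A) (mem_smul 𝒜 (zero_mem _)) = 0 := by
      apply HomogeneousLocalization.val_injective
      simp [Away.val_mk, Localization.mk_zero]
    change C (Away.mk 𝒜 hf n (0 : A) _) * T n = 0
    rw [this, map_zero, zero_mul]
  map_add' x y := by
    have : Away.mk 𝒜 hf n (x.1 + y.1) (mem_smul 𝒜 (add_mem x.2 y.2)) =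
        Away.mk 𝒜 hf n x.1 (mem_smul 𝒜 x.2) + Away.mk 𝒜 hf n y.1 (mem_smul 𝒜 y.2) := by
      apply HomogeneousLocalization.val_injective
      simp [Away.val_mk, Localization.add_mk_self]
    change C (Away.mk 𝒜 hf n (x.1 + y.1) _) * T n = _
    rw [this, map_add, add_mul]

theorem piece_apply (n : ℕ) (x : 𝒜 n) :
    piece 𝒜 hf n x = C (Away.mk 𝒜 hf n x.1 (mem_smul 𝒜 x.2)) * T n := rfl

theorem piece_one : piece 𝒜 hf 0 (GradedMonoid.GOne.one (A := fun i => 𝒜 i)) = 1 := by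
  rw [piece_apply]
  have : Away.mk 𝒜 hf 0 ((GradedMonoid.GOne.one (A := fun i => 𝒜 i) : 𝒜 0) : A)
      (mem_smul 𝒜 (GradedMonoid.GOne.one (A := fun i => 𝒜 i) : 𝒜 0).2) = 1 := by
    apply HomogeneousLocalization.val_injective
    rw [Away.val_mk, val_one]
    change Localization.mk (1 : A) _ = 1
    simp
  rw [this, map_one, Nat.cast_zero, T_zero, mul_one]

theorem piece_mul {i j : ℕ} (x : 𝒜 i) (y : 𝒜 j) :
    piece 𝒜 hf (i + j) (GradedMonoid.GMul.mul (A := fun i => 𝒜 i) x y) =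
      piece 𝒜 hf i x * piece 𝒜 hf j y := by
  rw [piece_apply, piece_apply, piece_apply]
  have : Away.mk 𝒜 hf (i + j)
      ((GradedMonoid.GMul.mul (A := fun i => 𝒜 i) x y : 𝒜 (i + j)) : A)
      (mem_smul 𝒜 (GradedMonoid.GMul.mul (A := fun i => 𝒜 i) x y : 𝒜 (i + j)).2) =
      Away.mk 𝒜 hf i x.1 (mem_smul 𝒜 x.2) * Away.mk 𝒜 hf j y.1 (mem_smul 𝒜 y.2) := by
    apply HomogeneousLocalization.val_injective
    rw [val_mul, Away.val_mk, Away.val_mk, Away.val_mk, Localization.mk_mul]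
    change Localization.mk (x.1 * y.1) _ = _
    congr 1
    exact Subtype.ext (pow_add _ _ _)
  rw [this, map_mul, Nat.cast_add, T_add]
  ring

/-- `α : A → A_(f)[T;T⁻¹]`, `a ↦ (a/f^n) T^n` for `a` of degree `n` -/
noncomputable def α : A →+* (Away 𝒜 f)[T;T⁻¹] :=
  (DirectSum.toSemiring (piece 𝒜 hf) (piece_one 𝒜 hf) (piece_mul 𝒜 hf)).comp
    (DirectSum.decomposeRingEquiv 𝒜).toRingHom

theorem α_of_mem {n : ℕ} {x : A} (hx : x ∈ 𝒜 n) :
    α 𝒜 hf x = C (Away.mk 𝒜 hf n x (mem_smul 𝒜 hx)) * T n := by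
  have : α 𝒜 hf x = piece 𝒜 hf n ⟨x, hx⟩ := by
    change DirectSum.toSemiring (piece 𝒜 hf) (piece_one 𝒜 hf) (piece_mul 𝒜 hf)
      (DirectSum.decompose 𝒜 x) = _
    rw [DirectSum.decompose_of_mem 𝒜 hx, DirectSum.toSemiring_of]
  rw [this, piece_apply]

theorem α_f : α 𝒜 hf f = T 1 := by
  rw [α_of_mem 𝒜 hf hf]
  have : Away.mk 𝒜 hf 1 f (mem_smul 𝒜 hf) = 1 := by
    apply HomogeneousLocalization.val_injective
    rw [Away.val_mk, val_one]
    convert Localization.mk_self (⟨f ^ 1, 1, rfl⟩ : Submonoid.powers f) using 2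
    simp
  rw [this, map_one, one_mul, Nat.cast_one]

theorem isUnit_α_f : IsUnit (α 𝒜 hf f) := by
  rw [α_f]; exact isUnit_T 1

/-- `α̃ : A_f → A_(f)[T;T⁻¹]` -/
noncomputable def αt : Localization.Away f →+* (Away 𝒜 f)[T;T⁻¹] :=
  IsLocalization.Away.lift f (isUnit_α_f 𝒜 hf)

theorem αt_algebraMap (a : A) : αt 𝒜 hf (algebraMap A (Localization.Away f) a) = α 𝒜 hf a :=
  IsLocalization.Away.lift_eq f (isUnit_α_f 𝒜 hf) a

/-- the unit `f/1` -/
noncomputable def u : (Localization.Away f)ˣ := (IsLocalization.Away.algebraMap_isUnit f).unit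

theorem u_val : ((u (f := f) : (Localization.Away f)ˣ) : Localization.Away f) =
    algebraMap A (Localization.Away f) f := rfl

/-- `β : A_(f)[T;T⁻¹] → A_f` -/
noncomputable def β : (Away 𝒜 f)[T;T⁻¹] →+* Localization.Away f :=
  LaurentPolynomial.eval₂ (algebraMap (Away 𝒜 f) (Localization.Away f)) u

theorem β_C (q : Away 𝒜 f) : β 𝒜 (C q) = algebraMap (Away 𝒜 f) (Localization.Away f) q :=
  LaurentPolynomial.eval₂_C _ _ q

theorem mk_mul_pow (n : ℕ) (a : A) :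
    Localization.mk a (⟨f ^ n, n, rfl⟩ : Submonoid.powers f) *
      algebraMap A (Localization.Away f) f ^ n = algebraMap A (Localization.Away f) a := by
  rw [← map_pow, Localization.mk_eq_mk']
  exact IsLocalization.mk'_spec _ a (⟨f ^ n, n, rfl⟩ : Submonoid.powers f)

theorem β_α : (β 𝒜).comp (αt 𝒜 hf) = RingHom.id _ := by
  classical
  apply IsLocalization.ringHom_ext (Submonoid.powers f)
  ext a
  simp only [RingHom.comp_apply, RingHom.id_apply, αt_algebraMap]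
  rw [← DirectSum.sum_support_decompose 𝒜 a, map_sum, map_sum, map_sum]
  refine Finset.sum_congr rfl fun n _ => ?_
  rw [α_of_mem 𝒜 hf (SetLike.coe_mem _), β, LaurentPolynomial.eval₂_C_mul_T, zpow_natCast,
    Units.val_pow_eq_pow_val, u_val]
  exact mk_mul_pow n _

theorem αt_val (q : Away 𝒜 f) :
    αt 𝒜 hf (algebraMap (Away 𝒜 f) (Localization.Away f) q) = C q := by
  obtain ⟨n, a, ha, rfl⟩ := Away.mk_surjective 𝒜 hf q
  have ha' : a ∈ 𝒜 n := by rwa [smul_eq_mul, mul_one] at ha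
  have h1 : αt 𝒜 hf (algebraMap (Away 𝒜 f) (Localization.Away f) (Away.mk 𝒜 hf n a ha)) * T n =
      C (Away.mk 𝒜 hf n a ha) * T n := by
    have e1 : algebraMap (Away 𝒜 f) (Localization.Away f) (Away.mk 𝒜 hf n a ha) =
        Localization.mk a (⟨f ^ n, n, rfl⟩ : Submonoid.powers f) := Away.val_mk 𝒜 n hf _ _
    have e2 : (T n : (Away 𝒜 f)[T;T⁻¹]) = αt 𝒜 hf (algebraMap A (Localization.Away f) f ^ n) := by
      rw [map_pow, αt_algebraMap, α_f, T_pow, mul_one]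
    rw [e2, ← map_mul, e1, mk_mul_pow, αt_algebraMap, α_of_mem 𝒜 hf ha', map_pow, αt_algebraMap,
      α_f, T_pow, mul_one]
  exact (isUnit_T (n : ℤ)).mul_right_cancel h1

theorem α_β : (αt 𝒜 hf).comp (β 𝒜) = RingHom.id _ := by
  apply IsLocalization.ringHom_ext (Submonoid.powers (Polynomial.X : Polynomial (Away 𝒜 f)))
  apply Polynomial.ringHom_ext
  · intro q
    simp only [RingHom.comp_apply, RingHom.id_apply, LaurentPolynomial.algebraMap_eq_toLaurent,
      Polynomial.toLaurent_C, β_C, αt_val]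
  · simp only [RingHom.comp_apply, RingHom.id_apply, LaurentPolynomial.algebraMap_eq_toLaurent,
      Polynomial.toLaurent_X]
    rw [β, LaurentPolynomial.eval₂_T, zpow_one, u_val, αt_algebraMap, α_f]

include hf in
/-- `A_(f)[T;T⁻¹] ≅ A_f` compatibly with `A_(f)` -/
theorem exists_laurent :
    ∃ Λ : (Away 𝒜 f)[T;T⁻¹] ≃+* Localization.Away f,
      ∀ q : Away 𝒜 f, Λ (C q) = algebraMap (Away 𝒜 f) (Localization.Away f) q :=
  ⟨RingEquiv.ofRingHom (β 𝒜) (αt 𝒜 hf) (β_α 𝒜 hf) (α_β 𝒜 hf), fun q => β_C 𝒜 q⟩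

end Groth.Agent.Lib.Helper28.ConeAlgL
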