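import Mathlib

/-!
# Fibres of a morphism that is chartwise `Spec` of a ring map (helper28)
-/

set_option autoImplicit false
universe u
open CategoryTheory CategoryTheory.Limits AlgebraicGeometry

namespace Groth.Agent.Lib.Helper28.Fibre

set_option backward.isDefEq.respectTransparency false in
theorem exists_fibre_iso {E X : Scheme.{u}} (p : E ⟶ X) (x : X)
    {C D : CommRingCat.{u}} (jX : Spec C ⟶ X) [IsOpenImmersion jX] (hx : x ∈ Set.range jX)
    (ψ : C ⟶ D) (c : Spec D ⟶ E) (hpb : IsPullback c (Spec.map ψ) p jX) :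
    ∃ γ : C ⟶ X.residueField x, Spec.map γ ≫ jX = X.fromSpecResidueField x ∧
      ∀ (Dκ : CommRingCat.{u}) (a : X.residueField x ⟶ Dκ) (δ : D ⟶ Dκ), IsPushout ψ γ δ a →
        ∃ e : pullback p (X.fromSpecResidueField x) ≅ Spec Dκ,
          e.hom ≫ Spec.map a = pullback.snd p (X.fromSpecResidueField x) := by
  have hrange : Set.range (X.fromSpecResidueField x) ⊆ Set.range jX := by
    rw [Scheme.range_fromSpecResidueField]
    exact Set.singleton_subset_iff.2 hx
  let g : Spec (X.residueField x) ⟶ Spec C :=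
    IsOpenImmersion.lift jX (X.fromSpecResidueField x) hrange
  have hg : g ≫ jX = X.fromSpecResidueField x := IsOpenImmersion.lift_fac _ _ _
  refine ⟨Spec.preimage g, by rw [Spec.map_preimage, hg], fun Dκ a δ hpo => ?_⟩
  have h1 := isPullback_SpecMap_of_isPushout ψ (Spec.preimage g) δ a hpo
  have h2 := h1.paste_horiz hpb
  rw [Spec.map_preimage, hg] at h2
  refine ⟨h2.isoPullback.symm, ?_⟩
  exact h2.isoPullback_inv_snd

end Groth.Agent.Lib.Helper28.Fibre
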