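import Groth.Agent.Lib.Helper28.ProjQCone
import Groth.Agent.Lib.Helper28.ConeAlgG
import Groth.Agent.Lib.Helper28.Fibre
import Groth.Agent.Lib.Helper28.Glue
import Groth.Agent.Lib.Helper28.RelProjGen1
import Groth.Agent.S3598

/-!
# Fibres of the canonical retraction of the pointed projective cone over a general base (helper28)

`isPullback_cE`, `isPullback_cEf`: over the standard charts the retraction `Ê ⟶ Proj(𝒮)` is `Spec` of
`𝒮(U)_(f) → 𝒮[z](U)_(f)`; `locallyOfFiniteType_r`, `fibre_r`: for `𝒮` generated in degree one it is locally of finite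
type with fibres affine lines.
-/

set_option autoImplicit false
universe u
open CategoryTheory CategoryTheory.Limits AlgebraicGeometry Opposite TopologicalSpace
open scoped HomogeneousIdeal
open HomogeneousLocalization
noncomputable section

namespace Groth.Agent.Lib.Helper28.ConeFibre

open Groth.Agent.Lib.Helper28.RelProjBC (AffPair cover)
open Groth.Agent.Lib.Helper28.RelProjQ (mkSite le_of_site map_emb φQ gradedAt_res exists_refine
  mem_range_emb cover')
open Groth.Agent.Lib.Helper28.ProjQ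
open Groth.Agent.Lib.Helper28.ProjQRel
open Groth.Agent.Lib.Helper28.ProjQCone

variable {Y : Scheme.{u}} {𝒮 𝒮h : _root_.RelProj.QCGrAlg Y}
  {ι : 𝒮.toQCAlg ⟶ 𝒮h.toQCAlg} {z : 𝒮h.presheaf.obj (op ⊤)} (hz : RelCone.IsPolyOver 𝒮 𝒮h ι z)
variable {PC P : Scheme.{u}} (pC : PC ⟶ Y)
  (chartC : ∀ (U : Y.Opens) (hU : IsAffineOpen U), (((pC ⁻¹ᵁ U : PC.Opens) : Scheme.{u}) ≅ Proj (𝒮h.deg U hU)))
  (hPC : _root_.RelProj.IsRelProj 𝒮h pC chartC)
  (p : P ⟶ Y)
  (chart : ∀ (U : Y.Opens) (hU : IsAffineOpen U), (((p ⁻¹ᵁ U : P.Opens) : Scheme.{u}) ≅ Proj (𝒮.deg U hU)))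
  (hP : _root_.RelProj.IsRelProj 𝒮 p chart)
variable (r : ((RelCone.pointedProjCone 𝒮 hz pC chartC : PC.Opens) : Scheme.{u}) ⟶ P)
  (hr : HR hz pC chartC p chart r)

instance (U : Y.Opens) (hU : IsAffineOpen U) : IsOpenImmersion (cE hz pC chartC U hU) := by
  have h : IsOpenImmersion (cE hz pC chartC U hU ≫ (RelCone.pointedProjCone 𝒮 hz pC chartC).ι) := by
    rw [cE_ι]; infer_instance
  exact IsOpenImmersion.of_comp _ (RelCone.pointedProjCone 𝒮 hz pC chartC).ι

include hP hPC hr in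
set_option backward.isDefEq.respectTransparency false in
/-- over an affine open the canonical retraction is the pullback of the ring-level one -/
theorem isPullback_cE (U : Y.Opens) (hU : IsAffineOpen U) :
    IsPullback (vQ (χ hz U hU)) (cE hz pC chartC U hU) (_root_.RelProj.emb p chart U hU) r := by
  refine IsOpenImmersion.isPullback _ _ _ _ (cE_r hz pC chartC hPC p chart hP r hr U hU) ?_
  ext e
  change r e ∈ Set.range (_root_.RelProj.emb p chart U hU) ↔ e ∈ Set.range (cE hz pC chartC U hU)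
  rw [mem_range_emb p chart U hU, ← Scheme.Hom.comp_apply, r_comp_p hz pC chartC hPC p chart hP r hr,
    Scheme.Hom.comp_apply]
  constructor
  · intro he
    have hw : (RelCone.pointedProjCone 𝒮 hz pC chartC).ι e ∈ _root_.RelProj.domQ (uι hz) pC chartC := by
      rw [← pointedProjCone_eq_domQ hz pC chartC hPC]; exact e.2
    obtain ⟨y, hy, hye⟩ := exists_of_mem_domQ_of_mem (uι hz) pC chartC hPC _ hw (pairId U hU) he
    have hy' : y ∈ RelCone.domOpen (φQ (uι hz) (pairId U hU)) := hy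
    rw [φQ_ofHom] at hy'
    refine ⟨⟨y, hy'⟩, ?_⟩
    apply (RelCone.pointedProjCone 𝒮 hz pC chartC).ι.isOpenEmbedding.injective
    rw [← Scheme.Hom.comp_apply, cE_ι, Scheme.Hom.comp_apply]
    exact hye
  · rintro ⟨y, rfl⟩
    have h1 : (RelCone.pointedProjCone 𝒮 hz pC chartC).ι (cE hz pC chartC U hU y) =
        _root_.RelProj.emb pC chartC U hU ((RelCone.domOpen (χ hz U hU)).ι y) := by
      rw [← Scheme.Hom.comp_apply, cE_ι, Scheme.Hom.comp_apply]
    rw [h1]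
    exact (mem_range_emb pC chartC U hU _).1 ⟨_, rfl⟩

/-- the chart of `Ê` over the standard open `D₊(f)` of the chart `U` of `Proj(𝒮)` -/
def cEf (U : Y.Opens) (hU : IsAffineOpen U) {d : ℕ} (hd : 0 < d) {f : 𝒮.presheaf.obj (op U)}
    (hf : f ∈ 𝒮.deg U hU d) :
    Spec (CommRingCat.of (Away (𝒮h.deg U hU) ((χ hz U hU) f))) ⟶
      ((RelCone.pointedProjCone 𝒮 hz pC chartC : PC.Opens) : Scheme.{u}) :=
  chartQ (χ hz U hU) hf hd ≫ cE hz pC chartC U hU

include hP hPC hr in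
set_option backward.isDefEq.respectTransparency false in
/-- over a standard chart of `Proj(𝒮)` the retraction is `Spec` of `𝒮(U)_(f) → 𝒮h(U)_(f)` -/
theorem isPullback_cEf (U : Y.Opens) (hU : IsAffineOpen U) {d : ℕ} (hd : 0 < d) {f : 𝒮.presheaf.obj (op U)}
    (hf : f ∈ 𝒮.deg U hU d) :
    IsPullback (cEf hz pC chartC U hU hd hf)
      (Spec.map (CommRingCat.ofHom (Away.map (χ hz U hU) f))) r
      (Proj.awayι (𝒮.deg U hU) f hf hd ≫ _root_.RelProj.emb p chart U hU) :=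
  ((isPullback_chart (χ hz U hU) hd hf).paste_vert
    (isPullback_cE hz pC chartC hPC p chart hP r hr U hU)).flip

/-- the algebra of the chart: `𝒮h(U)_(f) ≅ 𝒮(U)_(f)[X]` for `f` of degree one -/
theorem exists_poly (U : Y.Opens) (hU : IsAffineOpen U) {f : 𝒮.presheaf.obj (op U)} (hf : f ∈ 𝒮.deg U hU 1) :
    ∃ Θ : Polynomial (Away (𝒮.deg U hU) f) ≃+* Away (𝒮h.deg U hU) ((χ hz U hU) f),
      ∀ c : Away (𝒮.deg U hU) f, Θ (Polynomial.C c) = Away.map (χ hz U hU) f c := by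
  letI : Algebra (𝒮.presheaf.obj (op U)) (𝒮h.presheaf.obj (op U)) := (ι.hom.app (op U)).hom.toAlgebra
  exact ConeAlgG.exists_poly (𝒮.deg U hU) (𝒮h.deg U hU) (χ hz U hU) (fun a => rfl)
    (RelCone.restrictTop 𝒮h z U) (hz.bij U hU) hf

section degOne
variable (hgen : 𝒮.IsGenDegOne)

include hgen in
/-- the degree-one standard charts cover `Proj(𝒮)` -/
theorem exists_chart_deg_one (x : P) :
    ∃ t : (Σ U : Y.affineOpens, {f : 𝒮.presheaf.obj (op U.1) // f ∈ 𝒮.deg U.1 U.2 1}),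
      x ∈ Set.range (Proj.awayι (𝒮.deg t.1.1 t.1.2) t.2.1 t.2.2 one_pos ≫
        _root_.RelProj.emb p chart t.1.1 t.1.2) := by
  obtain ⟨U, hU, hxU, -⟩ := Opens.isBasis_iff_nbhd.1 Y.isBasis_affineOpens
    (show p x ∈ (⊤ : Y.Opens) from trivial)
  obtain ⟨q, rfl⟩ := (mem_range_emb p chart U hU x).2 hxU
  obtain ⟨g, hg, hqg⟩ := RelProjFT.cover_of_closure (A := 𝒮.presheaf.obj (op U)) (𝒮.deg U hU)
    ((𝒮.deg U hU 1 : Set (𝒮.presheaf.obj (op U)))) (fun g hg => ⟨1, Nat.one_pos, hg⟩) (hgen U hU) q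
  rw [← Proj.opensRange_awayι (𝒮.deg U hU) g hg one_pos] at hqg
  obtain ⟨t, rfl⟩ := hqg
  exact ⟨⟨⟨U, hU⟩, ⟨g, hg⟩⟩, t, rfl⟩

include hP hPC hr hgen in
set_option backward.isDefEq.respectTransparency false in
theorem locallyOfFiniteType_r : LocallyOfFiniteType r := by
  let 𝒰 := Groth.Agent.Lib.Helper28.Glue.cov
    (fun t : (Σ U : Y.affineOpens, {f : 𝒮.presheaf.obj (op U.1) // f ∈ 𝒮.deg U.1 U.2 1}) =>
      Spec (CommRingCat.of (Away (𝒮.deg t.1.1 t.1.2) t.2.1)))
    (fun t => Proj.awayι (𝒮.deg t.1.1 t.1.2) t.2.1 t.2.2 one_pos ≫ _root_.RelProj.emb p chart t.1.1 t.1.2)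
    (exists_chart_deg_one p chart hgen)
  refine Groth.Agent.Lib.Helper28.ProjMapG.of_isPullback_openCover @LocallyOfFiniteType r 𝒰
    (fun t => Spec (CommRingCat.of (Away (𝒮h.deg t.1.1 t.1.2) ((χ hz t.1.1 t.1.2) t.2.1))))
    (fun t => cEf hz pC chartC t.1.1 t.1.2 one_pos t.2.2)
    (fun t => Spec.map (CommRingCat.ofHom (Away.map (χ hz t.1.1 t.1.2) t.2.1)))
    (fun t => (isPullback_cEf hz pC chartC hPC p chart hP r hr t.1.1 t.1.2 one_pos t.2.2).flip) (fun t => ?_)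
  rw [HasRingHomProperty.Spec_iff (P := @LocallyOfFiniteType)]
  obtain ⟨Θ, hΘ⟩ := exists_poly hz t.1.1 t.1.2 t.2.2
  have : Away.map (χ hz t.1.1 t.1.2) t.2.1 = Θ.toRingHom.comp Polynomial.C := RingHom.ext fun c => (hΘ c).symm
  change (Away.map (χ hz t.1.1 t.1.2) t.2.1).FiniteType
  rw [this]
  exact (RingHom.FiniteType.of_surjective _ Θ.surjective).comp (Groth.Agent.S3598.finiteType_C _)

include hP hPC hr hgen in
set_option backward.isDefEq.respectTransparency false in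
theorem fibre_r (x : P) :
    ∃ e : pullback r (P.fromSpecResidueField x) ≅ Spec (CommRingCat.of (Polynomial (P.residueField x))),
      e.hom ≫ Spec.map (CommRingCat.ofHom (algebraMap (P.residueField x) (Polynomial (P.residueField x)))) =
        pullback.snd r (P.fromSpecResidueField x) := by
  obtain ⟨t, hx⟩ := exists_chart_deg_one p chart hgen x
  obtain ⟨Θ, hΘ⟩ := exists_poly hz t.1.1 t.1.2 t.2.2
  obtain ⟨γ, -, hγ⟩ := Groth.Agent.Lib.Helper28.Fibre.exists_fibre_iso r x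
    (Proj.awayι (𝒮.deg t.1.1 t.1.2) t.2.1 t.2.2 one_pos ≫ _root_.RelProj.emb p chart t.1.1 t.1.2) hx
    (CommRingCat.ofHom (Away.map (χ hz t.1.1 t.1.2) t.2.1))
    (cEf hz pC chartC t.1.1 t.1.2 one_pos t.2.2)
    (isPullback_cEf hz pC chartC hPC p chart hP r hr t.1.1 t.1.2 one_pos t.2.2)
  have hpo := Groth.Agent.S3598.isPushout_poly γ.hom (Away.map (χ hz t.1.1 t.1.2) t.2.1) Θ hΘ
  obtain ⟨e, he⟩ := hγ _ _ _ hpo
  exact ⟨e, he⟩

end degOne

end Groth.Agent.Lib.Helper28.ConeFibre
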