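import Mathlib

set_option autoImplicit false
universe u
open scoped HomogeneousIdeal
open Polynomial
noncomputable section

namespace Groth.Agent.Lib.Helper28.PolyExt

variable {A B : Type u} [CommRing A] [CommRing B] (𝒜 : ℕ → AddSubgroup A) (ℬ : ℕ → AddSubgroup B)
  [GradedRing 𝒜] [GradedRing ℬ] (ι : 𝒜 →+*ᵍ ℬ) (z : B)

variable {𝒜 ℬ} in
/-- the evaluation `A[X] → B`, `X ↦ z` -/
abbrev ev : A[X] →+* B := Polynomial.eval₂RingHom (ι : A →+* B) z

/-- the degree `m` part of a polynomial for the grading `deg (a X^j) = deg a + j` -/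
def hp (m : ℕ) : A[X] →+ A[X] where
  toFun p := ∑ j ∈ Finset.range (m + 1), monomial j (DirectSum.decompose 𝒜 (p.coeff j) (m - j) : A)
  map_zero' := by simp
  map_add' p q := by
    simp only [coeff_add, DirectSum.decompose_add, DirectSum.add_apply, AddMemClass.coe_add,
      map_add, Finset.sum_add_distrib]

theorem hp_apply (m : ℕ) (p : A[X]) :
    hp 𝒜 m p = ∑ j ∈ Finset.range (m + 1),
      monomial j (DirectSum.decompose 𝒜 (p.coeff j) (m - j) : A) := rfl

theorem coeff_hp (m : ℕ) (p : A[X]) (j : ℕ) :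
    (hp 𝒜 m p).coeff j = if j ≤ m then (DirectSum.decompose 𝒜 (p.coeff j) (m - j) : A) else 0 := by
  rw [hp_apply, finsetSum_coeff]
  simp only [coeff_monomial]
  rw [Finset.sum_ite_eq' (Finset.range (m + 1)) j]
  simp only [Finset.mem_range, Nat.lt_succ_iff]

theorem hp_monomial (m n : ℕ) (a : A) :
    hp 𝒜 m (monomial n a) =
      if n ≤ m then monomial n (DirectSum.decompose 𝒜 a (m - n) : A) else 0 := by
  ext j
  rw [coeff_hp]
  split_ifs with h1 h2 h2
  · rw [coeff_monomial, coeff_monomial]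
    split_ifs with h3
    · subst h3; rfl
    · simp
  · rw [coeff_monomial, if_neg (by rintro rfl; exact h2 h1)]
    simp
  · rw [coeff_monomial, if_neg (by rintro rfl; exact h1 h2)]
  · simp

variable {ℬ} in
include ℬ in
theorem ev_hp (hz : z ∈ ℬ 1) (m : ℕ) (p : A[X]) :
    ev ι z (hp 𝒜 m p) = (DirectSum.decompose ℬ (ev ι z p) m : B) := by
  classical
  let F : A[X] →+ B := (ev ι z : A[X] →+ B).comp (hp 𝒜 m)
  let G : A[X] →+ B := (GradedRing.proj ℬ m).comp (ev ι z : A[X] →+ B)
  have hFG : F = G := by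
    apply Polynomial.addHom_ext
    intro n a
    change ev ι z (hp 𝒜 m (monomial n a)) = (DirectSum.decompose ℬ (ev ι z (monomial n a)) m : B)
    have hzn : z ^ n ∈ ℬ n := by
      have := SetLike.pow_mem_graded n hz
      simpa using this
    rw [hp_monomial]
    have e1 : ev ι z (monomial n a) = ι a * z ^ n := by
      change eval₂ _ _ _ = _
      rw [eval₂_monomial]; rfl
    rw [e1, DirectSum.coe_decompose_mul_of_right_mem ℬ m hzn]
    split_ifs with h
    · change eval₂ _ _ _ = _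
      rw [eval₂_monomial]
      congr 1
      exact GradedRingHom.map_directSumDecompose (𝒜 := 𝒜) (ℬ := ℬ) ι
    · exact map_zero _
  exact congrArg (fun k => k p) hFG

variable {ℬ} in
include ℬ in
/-- the coefficients of the polynomial of a homogeneous element -/
theorem coeff_of_mem (hz : z ∈ ℬ 1) (hinj : Function.Injective (ev ι z)) {k : ℕ} {p : A[X]}
    (hx : ev ι z p ∈ ℬ k) :
    (∀ j, j ≤ k → p.coeff j ∈ 𝒜 (k - j)) ∧ ∀ j, k < j → p.coeff j = 0 := by
  have h1 : hp 𝒜 k p = p := by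
    apply hinj
    rw [ev_hp 𝒜 ι z hz, DirectSum.decompose_of_mem_same ℬ hx]
  constructor
  · intro j hj
    have := congrArg (fun q => q.coeff j) h1
    simp only [coeff_hp, if_pos hj] at this
    rw [← this]
    exact SetLike.coe_mem _
  · intro j hj
    have := congrArg (fun q => q.coeff j) h1
    simp only [coeff_hp, if_neg (not_le.2 hj)] at this
    exact this.symm


section theta
variable {𝒜 ℬ}
variable (hz : z ∈ ℬ 1) (hbij : Function.Bijective (ev ι z))

/-- the presentation `A[X] ≃ B` -/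
def polyEquiv : A[X] ≃+* B := RingEquiv.ofBijective (ev ι z) hbij

theorem polyEquiv_apply (p : A[X]) : polyEquiv ι z hbij p = ev ι z p := rfl

theorem polyEquiv_C (a : A) : polyEquiv ι z hbij (C a) = ι a := by
  rw [polyEquiv_apply]
  change eval₂ _ _ _ = _
  rw [eval₂_C]; rfl

theorem polyEquiv_X : polyEquiv ι z hbij X = z := by
  rw [polyEquiv_apply]
  change eval₂ _ _ _ = _
  rw [eval₂_X]

/-- "set `z = 0`" as a ring homomorphism -/
def θR : B →+* A := (Polynomial.evalRingHom 0).comp (polyEquiv ι z hbij).symm.toRingHom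

theorem θR_ι (a : A) : θR ι z hbij (ι a) = a := by
  rw [θR, RingHom.comp_apply, ← polyEquiv_C ι z hbij]
  simp

theorem θR_z : θR ι z hbij z = 0 := by
  have h : θR ι z hbij (polyEquiv ι z hbij X) = 0 := by
    rw [θR, RingHom.comp_apply]
    simp
  rwa [polyEquiv_X] at h

include hz in
theorem θR_mem {k : ℕ} {x : B} (hx : x ∈ ℬ k) : θR ι z hbij x ∈ 𝒜 k := by
  obtain ⟨p, rfl⟩ := (polyEquiv ι z hbij).surjective x
  have h := (coeff_of_mem 𝒜 ι z hz hbij.1 (p := p) hx).1 0 (Nat.zero_le k)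
  rw [θR, RingHom.comp_apply]
  simp only [RingEquiv.toRingHom_eq_coe, RingHom.coe_coe, RingEquiv.symm_apply_apply,
    coe_evalRingHom]
  rw [← coeff_zero_eq_eval_zero]
  simpa using h

/-- "set `z = 0`" as a graded ring homomorphism -/
def θ : ℬ →+*ᵍ 𝒜 :=
  { θR ι z hbij with map_mem := fun hx => θR_mem ι z hz hbij hx }

theorem θ_apply (x : B) : θ ι z hz hbij x = θR ι z hbij x := rfl

theorem θ_ι (a : A) : θ ι z hz hbij (ι a) = a := θR_ι ι z hbij a

theorem θ_z : θ ι z hz hbij z = 0 := θR_z ι z hbij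

theorem θ_comp : (θ ι z hz hbij).comp ι = GradedRingHom.id 𝒜 :=
  GradedRingHom.ext fun a => θ_ι ι z hz hbij a

theorem hirr_θ : 𝒜₊ ≤ (ℬ₊).map (θ ι z hz hbij) := by
  rw [HomogeneousIdeal.irrelevant_le]
  intro i hi a ha
  change a ∈ Ideal.map (θ ι z hz hbij) (ℬ₊).toIdeal
  rw [← θ_ι ι z hz hbij a]
  exact Ideal.mem_map_of_mem _ (HomogeneousIdeal.mem_irrelevant_of_mem _ hi (ι.2 ha))

end theta

end Groth.Agent.Lib.Helper28.PolyExt
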