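import Groth.Agent.Lib.Helper28.ProjQRel
import Groth.Agent.Lib.Helper28.PolyExt

set_option autoImplicit false
universe u
open CategoryTheory CategoryTheory.Limits AlgebraicGeometry Opposite TopologicalSpace
open scoped HomogeneousIdeal
open HomogeneousLocalization
noncomputable section

namespace Groth.Agent.Lib.Helper28.ProjQCone

open Groth.Agent.Lib.Helper28.RelProjBC (AffPair cover)
open Groth.Agent.Lib.Helper28.RelProjQ (mkSite le_of_site map_emb φQ gradedAt_res exists_refine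
  mem_range_emb cover')
open Groth.Agent.Lib.Helper28.ProjQ
open Groth.Agent.Lib.Helper28.ProjQRel

variable {Y : Scheme.{u}} {𝒮 𝒮h : _root_.RelProj.QCGrAlg Y}
  {ι : 𝒮.toQCAlg ⟶ 𝒮h.toQCAlg} {z : 𝒮h.presheaf.obj (op ⊤)} (hz : RelCone.IsPolyOver 𝒮 𝒮h ι z)
variable {PC P : Scheme.{u}} (pC : PC ⟶ Y)
  (chartC : ∀ (U : Y.Opens) (hU : IsAffineOpen U), (((pC ⁻¹ᵁ U : PC.Opens) : Scheme.{u}) ≅ Proj (𝒮h.deg U hU)))
  (hPC : _root_.RelProj.IsRelProj 𝒮h pC chartC)
  (p : P ⟶ Y)
  (chart : ∀ (U : Y.Opens) (hU : IsAffineOpen U), (((p ⁻¹ᵁ U : P.Opens) : Scheme.{u}) ≅ Proj (𝒮.deg U hU)))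
  (hP : _root_.RelProj.IsRelProj 𝒮 p chart)

/-- the graded `𝟙`-morphism of the presentation -/
abbrev uι : _root_.RelProj.QGrHom (𝟙 Y) 𝒮 𝒮h := _root_.RelProj.QGrHom.ofHom ι hz.graded

include hPC in
set_option backward.isDefEq.respectTransparency false in
/-- the pointed projective cone is the open of definition of `Proj(ι)` -/
theorem pointedProjCone_eq_domQ :
    RelCone.pointedProjCone 𝒮 hz pC chartC = _root_.RelProj.domQ (uι hz) pC chartC := by
  apply le_antisymm
  · unfold RelCone.pointedProjCone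
    refine iSup_le fun U => ?_
    rintro _ ⟨x, hx, rfl⟩
    refine emb_mem_domQ (uι hz) pC chartC (pairId U.1 U.2) x ?_
    change x ∈ RelCone.domOpen (φQ (uι hz) (pairId U.1 U.2))
    rw [φQ_ofHom]
    exact hx
  · intro w hw
    obtain ⟨U, hU, hwU, -⟩ := Opens.isBasis_iff_nbhd.1 Y.isBasis_affineOpens
      (show pC w ∈ (⊤ : Y.Opens) from trivial)
    obtain ⟨y, hy, rfl⟩ := exists_of_mem_domQ_of_mem (uι hz) pC chartC hPC w hw (pairId U hU) hwU
    unfold RelCone.pointedProjCone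
    refine Opens.mem_iSup.mpr ⟨⟨U, hU⟩, y, ?_, rfl⟩
    have hy' : y ∈ RelCone.domOpen (φQ (uι hz) (pairId U hU)) := hy
    rw [φQ_ofHom] at hy'
    exact hy'


/-- the chart equations characterising the canonical retraction `Ê ⟶ Proj(𝒮)` -/
def HR (r : ((RelCone.pointedProjCone 𝒮 hz pC chartC : PC.Opens) : Scheme.{u}) ⟶ P) : Prop :=
  ∀ (U : Y.Opens) (hU : IsAffineOpen U) (d : ℕ) (hd : 0 < d) (f : 𝒮.presheaf.obj (op U)) (hf : f ∈ 𝒮.deg U hU d)
    (g : Spec (CommRingCat.of (HomogeneousLocalization.Away (𝒮h.deg U hU) ((_root_.RelProj.gradedHomAt ι hz.graded U hU) f))) ⟶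
      ((RelCone.pointedProjCone 𝒮 hz pC chartC : PC.Opens) : Scheme.{u})),
    g ≫ (RelCone.pointedProjCone 𝒮 hz pC chartC).ι =
        Proj.awayι (𝒮h.deg U hU) ((_root_.RelProj.gradedHomAt ι hz.graded U hU) f) ((_root_.RelProj.gradedHomAt ι hz.graded U hU).2 hf) hd ≫
          _root_.RelProj.emb pC chartC U hU →
      g ≫ r =
        Spec.map (CommRingCat.ofHom (HomogeneousLocalization.Away.map (_root_.RelProj.gradedHomAt ι hz.graded U hU) f)) ≫
          Proj.awayι (𝒮.deg U hU) f hf hd ≫ _root_.RelProj.emb p chart U hU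

/-- the identification of `Ê` with `G(ι)` as schemes -/
def eE : ((RelCone.pointedProjCone 𝒮 hz pC chartC : PC.Opens) : Scheme.{u}) ≅
    ((_root_.RelProj.domQ (uι hz) pC chartC : PC.Opens) : Scheme.{u}) :=
  PC.isoOfEq (pointedProjCone_eq_domQ hz pC chartC hPC)

@[reassoc]
theorem eE_hom_ι : (eE hz pC chartC hPC).hom ≫ (_root_.RelProj.domQ (uι hz) pC chartC).ι =
    (RelCone.pointedProjCone 𝒮 hz pC chartC).ι := PC.isoOfEq_hom_ι _

@[reassoc]
theorem eE_inv_ι : (eE hz pC chartC hPC).inv ≫ (RelCone.pointedProjCone 𝒮 hz pC chartC).ι =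
    (_root_.RelProj.domQ (uι hz) pC chartC).ι := PC.isoOfEq_inv_ι _

include hP in
set_option backward.isDefEq.respectTransparency false in
theorem glue_of_HR (r : ((RelCone.pointedProjCone 𝒮 hz pC chartC : PC.Opens) : Scheme.{u}) ⟶ P)
    (hr : HR hz pC chartC p chart r) (t : AffPair (𝟙 Y)) :
    cW (uι hz) pC chartC t ≫ (eE hz pC chartC hPC).inv ≫ r = pieceW (uι hz) p chart t := by
  refine glue_of_diag (uι hz) p chart hP pC chartC hPC _
    (fun U hU => _root_.RelProj.gradedHomAt ι hz.graded U hU)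
    (fun U hU => φQ_ofHom 𝒮 𝒮h ι hz.graded U hU) ?_ t
  intro U hU d hd f hf g hg
  have := hr U hU d hd f hf (g ≫ (eE hz pC chartC hPC).inv)
    (by rw [Category.assoc, eE_inv_ι]; exact hg)
  rw [Category.assoc] at this
  exact this

set_option backward.isDefEq.respectTransparency false in
theorem HR_of_glue (v : ((_root_.RelProj.domQ (uι hz) pC chartC : PC.Opens) : Scheme.{u}) ⟶ P)
    (hv : ∀ t : AffPair (𝟙 Y), cW (uι hz) pC chartC t ≫ v = pieceW (uι hz) p chart t) :
    HR hz pC chartC p chart ((eE hz pC chartC hPC).hom ≫ v) := by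
  intro U hU d hd f hf g hg
  rw [← Category.assoc]
  exact glue_awayChart (uι hz) p chart pC chartC v hv (pairId U hU)
    (_root_.RelProj.gradedHomAt ι hz.graded U hU) (φQ_ofHom 𝒮 𝒮h ι hz.graded U hU) hd f hf
    (g ≫ (eE hz pC chartC hPC).hom) (by rw [Category.assoc, eE_hom_ι]; exact hg)

include hP hPC in
/-- existence and uniqueness of the canonical retraction -/
theorem existsUnique_HR :
    ∃! r : ((RelCone.pointedProjCone 𝒮 hz pC chartC : PC.Opens) : Scheme.{u}) ⟶ P,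
      HR hz pC chartC p chart r := by
  obtain ⟨v, hv, hvu⟩ := existsUnique_glueW (uι hz) p chart hP pC chartC hPC
  refine ⟨(eE hz pC chartC hPC).hom ≫ v, HR_of_glue hz pC chartC hPC p chart v hv, fun r hr => ?_⟩
  have h1 := hvu _ (glue_of_HR hz pC chartC hPC p chart hP r hr)
  rw [← h1, Iso.hom_inv_id_assoc]


section props
variable (r : ((RelCone.pointedProjCone 𝒮 hz pC chartC : PC.Opens) : Scheme.{u}) ⟶ P)
  (hr : HR hz pC chartC p chart r)

/-- the graded homomorphism of the presentation over an affine open -/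
abbrev χ (U : Y.Opens) (hU : IsAffineOpen U) : 𝒮.deg U hU →+*ᵍ 𝒮h.deg U hU :=
  _root_.RelProj.gradedHomAt ι hz.graded U hU

theorem bij_ev (U : Y.Opens) (hU : IsAffineOpen U) :
    Function.Bijective (PolyExt.ev (χ hz U hU) (RelCone.restrictTop 𝒮h z U)) := hz.bij U hU

/-- "set `z = 0`" over an affine open -/
def θU (U : Y.Opens) (hU : IsAffineOpen U) : 𝒮h.deg U hU →+*ᵍ 𝒮.deg U hU :=
  PolyExt.θ (χ hz U hU) (RelCone.restrictTop 𝒮h z U) (hz.deg_z U hU) (bij_ev hz U hU)

theorem surjective_vQ_χ (U : Y.Opens) (hU : IsAffineOpen U) : Surjective (vQ (χ hz U hU)) :=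
  surjective_vQ_of_retraction (χ hz U hU) (θU hz U hU)
    (PolyExt.θ_comp _ _ (hz.deg_z U hU) (bij_ev hz U hU))
    (PolyExt.hirr_θ _ _ (hz.deg_z U hU) (bij_ev hz U hU))

include hP hr in
theorem r_eq : ∃ v : ((_root_.RelProj.domQ (uι hz) pC chartC : PC.Opens) : Scheme.{u}) ⟶ P,
    (∀ t : AffPair (𝟙 Y), cW (uι hz) pC chartC t ≫ v = pieceW (uι hz) p chart t) ∧
      r = (eE hz pC chartC hPC).hom ≫ v :=
  ⟨(eE hz pC chartC hPC).inv ≫ r, glue_of_HR hz pC chartC hPC p chart hP r hr,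
    (Iso.hom_inv_id_assoc _ _).symm⟩

include hP hPC hr in
set_option backward.isDefEq.respectTransparency false in
theorem isAffineHom_r : IsAffineHom r := by
  obtain ⟨v, hv, rfl⟩ := r_eq hz pC chartC hPC p chart hP r hr
  have : IsAffineHom v :=
    of_chartwise (uι hz) p chart hP pC chartC hPC @IsAffineHom v hv (fun U hU => isAffineHom_vQ _)
  infer_instance

include hP hPC hr in
set_option backward.isDefEq.respectTransparency false in
theorem surjective_r : Function.Surjective r.base := by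
  obtain ⟨v, hv, rfl⟩ := r_eq hz pC chartC hPC p chart hP r hr
  have hs : Surjective v := by
    refine of_chartwise (uι hz) p chart hP pC chartC hPC @Surjective v hv (fun U hU => ?_)
    rw [φQ_ofHom]
    exact surjective_vQ_χ hz U hU
  have : Surjective ((eE hz pC chartC hPC).hom ≫ v) := inferInstance
  exact this.surj

include hP hPC hr in
set_option backward.isDefEq.respectTransparency false in
theorem r_comp_p : r ≫ p = (RelCone.pointedProjCone 𝒮 hz pC chartC).ι ≫ pC := by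
  obtain ⟨v, hv, rfl⟩ := r_eq hz pC chartC hPC p chart hP r hr
  rw [Category.assoc, glue_comp_p (uι hz) p chart hP pC chartC hPC v hv, eE_hom_ι_assoc,
    Category.comp_id]

end props


section retr
variable (r : ((RelCone.pointedProjCone 𝒮 hz pC chartC : PC.Opens) : Scheme.{u}) ⟶ P)
  (hr : HR hz pC chartC p chart r)

theorem range_cE_subset (U : Y.Opens) (hU : IsAffineOpen U) :
    Set.range ((RelCone.domOpen (χ hz U hU)).ι ≫ _root_.RelProj.emb pC chartC U hU).base ⊆
      Set.range (RelCone.pointedProjCone 𝒮 hz pC chartC).ι.base := by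
  rw [Scheme.Opens.range_ι]
  rintro _ ⟨x, rfl⟩
  unfold RelCone.pointedProjCone
  exact Opens.mem_iSup.mpr ⟨⟨U, hU⟩, x.1, x.2, rfl⟩

/-- the diagonal charts of `Ê` -/
def cE (U : Y.Opens) (hU : IsAffineOpen U) :
    ((RelCone.domOpen (χ hz U hU) : (Proj (𝒮h.deg U hU)).Opens) : Scheme.{u}) ⟶
      ((RelCone.pointedProjCone 𝒮 hz pC chartC : PC.Opens) : Scheme.{u}) :=
  IsOpenImmersion.lift (RelCone.pointedProjCone 𝒮 hz pC chartC).ι
    ((RelCone.domOpen (χ hz U hU)).ι ≫ _root_.RelProj.emb pC chartC U hU)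
    (range_cE_subset hz pC chartC U hU)

@[reassoc]
theorem cE_ι (U : Y.Opens) (hU : IsAffineOpen U) :
    cE hz pC chartC U hU ≫ (RelCone.pointedProjCone 𝒮 hz pC chartC).ι =
      (RelCone.domOpen (χ hz U hU)).ι ≫ _root_.RelProj.emb pC chartC U hU :=
  IsOpenImmersion.lift_fac _ _ _

include hP hPC hr in
set_option backward.isDefEq.respectTransparency false in
theorem cE_r (U : Y.Opens) (hU : IsAffineOpen U) :
    cE hz pC chartC U hU ≫ r = vQ (χ hz U hU) ≫ _root_.RelProj.emb p chart U hU := by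
  obtain ⟨v, hv, rfl⟩ := r_eq hz pC chartC hPC p chart hP r hr
  rw [← Category.assoc]
  exact glue_chart (uι hz) p chart pC chartC v hv (pairId U hU) (χ hz U hU)
    (φQ_ofHom 𝒮 𝒮h ι hz.graded U hU) (cE hz pC chartC U hU ≫ (eE hz pC chartC hPC).hom)
    (by rw [Category.assoc, eE_hom_ι, cE_ι]; rfl)

include hP hPC hr in
set_option backward.isDefEq.respectTransparency false in
/-- the canonical retraction retracts the immersion at infinity -/
theorem retraction (θ : 𝒮h.toQCAlg ⟶ 𝒮.toQCAlg) (hθ : _root_.RelProj.IsGradedHom θ) (hθι : ι ≫ θ = 𝟙 _)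
    (hirr : ∀ (U : Y.Opens) (hU : IsAffineOpen U),
      (𝒮.deg U hU)₊ ≤ ((𝒮h.deg U hU)₊).map (_root_.RelProj.gradedHomAt θ hθ U hU))
    (j : P ⟶ PC) (hj : _root_.RelProj.IsRelProjMap θ hθ hirr chartC chart j)
    (j' : P ⟶ ((RelCone.pointedProjCone 𝒮 hz pC chartC : PC.Opens) : Scheme.{u}))
    (hj' : j' ≫ (RelCone.pointedProjCone 𝒮 hz pC chartC).ι = j) : j' ≫ r = 𝟙 P := by
  have hcov : IsOpenCover (fun U : Y.affineOpens => p ⁻¹ᵁ U.1) := by
    rw [IsOpenCover, eq_top_iff]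
    intro x _
    have hx : p x ∈ (⊤ : Y.Opens) := trivial
    rw [← iSup_affineOpens_eq_top Y] at hx
    obtain ⟨U, hxU⟩ := Opens.mem_iSup.1 hx
    exact Opens.mem_iSup.2 ⟨U, hxU⟩
  refine (P.openCoverOfIsOpenCover _ hcov).hom_ext _ _ fun U => ?_
  change (p ⁻¹ᵁ U.1).ι ≫ j' ≫ r = (p ⁻¹ᵁ U.1).ι ≫ 𝟙 P
  obtain ⟨U, hU⟩ := U
  have hθφ : (_root_.RelProj.gradedHomAt θ hθ U hU).comp (χ hz U hU) = GradedRingHom.id _ := by
    apply GradedRingHom.ext
    intro a
    exact congrArg (fun k => (k.hom.app (op U)).hom a) hθι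
  obtain ⟨jU, hjU1, hjU2⟩ := exists_section (χ hz U hU) (_root_.RelProj.gradedHomAt θ hθ U hU) hθφ
    (hirr U hU)
  have e1 : (p ⁻¹ᵁ U).ι ≫ j' = (chart U hU).hom ≫ jU ≫ cE hz pC chartC U hU := by
    rw [← cancel_mono (RelCone.pointedProjCone 𝒮 hz pC chartC).ι, Category.assoc, hj', hj U hU]
    simp only [Category.assoc]
    rw [cE_ι, reassoc_of% hjU1]
    rfl
  rw [reassoc_of% e1, cE_r hz pC chartC hPC p chart hP r hr U hU, reassoc_of% hjU2,
    Category.comp_id]
  unfold _root_.RelProj.emb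
  rw [Iso.hom_inv_id_assoc]

end retr

end Groth.Agent.Lib.Helper28.ProjQCone
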