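import Groth.Agent.Lib.Helper28.ConeRing
import Groth.Agent.Lib.Helper28.ProjQCone

set_option autoImplicit false
universe u
open CategoryTheory CategoryTheory.Limits AlgebraicGeometry Opposite TopologicalSpace
open scoped HomogeneousIdeal
open HomogeneousLocalization
noncomputable section

namespace Groth.Agent.Lib.Helper28.ConeImm

open Groth.Agent.Lib.Helper28.RelProjBC (AffPair cover)
open Groth.Agent.Lib.Helper28.RelProjQ (mkSite le_of_site map_emb φQ gradedAt_res exists_refine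
  mem_range_emb cover')
open Groth.Agent.Lib.Helper28.RelProjExists (hirr)
open Groth.Agent.Lib.Helper28.ProjQ
open Groth.Agent.Lib.Helper28.ProjQRel
open Groth.Agent.Lib.Helper28.ProjQCone

section pointed
variable {Y : Scheme.{u}} (𝒮 : _root_.RelProj.QCGrAlg Y)

theorem exists_refine₂ {U V : Y.Opens} (hU : IsAffineOpen U) (hV : IsAffineOpen V) (s : Y)
    (hsU : s ∈ U) (hsV : s ∈ V) :
    ∃ (W : Y.Opens) (hW : IsAffineOpen W), s ∈ W ∧ mkSite W hW ≤ mkSite U hU ∧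
      mkSite W hW ≤ mkSite V hV := by
  obtain ⟨f, g, e, hs⟩ := exists_basicOpen_le_affine_inter hU hV s ⟨hsU, hsV⟩
  exact ⟨Y.basicOpen f, hU.basicOpen f, hs, ⟨f, rfl⟩, ⟨g, e.symm⟩⟩

theorem mem_vertexCompl_def {U : Y.Opens} (hU : IsAffineOpen U) (x : Spec (𝒮.presheaf.obj (op U))) :
    x ∈ RelCone.vertexCompl (𝒮.deg U hU) ↔
      ¬ (((𝒮.deg U hU)₊.toIdeal : Set (𝒮.presheaf.obj (op U))) ⊆ (x.asIdeal : Set _)) := Iff.rfl

/-- the pointed cone is compatible with restriction -/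
theorem vertexCompl_res {W U : Y.Opens} {hW : IsAffineOpen W} {hU : IsAffineOpen U}
    (h : mkSite W hW ≤ mkSite U hU) (w : Spec (𝒮.presheaf.obj (op W))) :
    Spec.map (𝒮.presheaf.map (homOfLE (le_of_site h)).op) w ∈ RelCone.vertexCompl (𝒮.deg U hU) ↔
      w ∈ RelCone.vertexCompl (𝒮.deg W hW) := by
  rw [mem_vertexCompl_def, mem_vertexCompl_def, not_iff_not]
  constructor
  · intro h1 f hf
    have h2 : (((𝒮.deg U hU)₊).map (𝒮.res hU hW (le_of_site h))).toIdeal ≤ w.asIdeal := by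
      change Ideal.map (𝒮.res hU hW (le_of_site h)) ((𝒮.deg U hU)₊).toIdeal ≤ _
      rw [Ideal.map_le_iff_le_comap]
      exact h1
    exact h2 (hirr 𝒮 h hf)
  · intro h1 f hf
    change (𝒮.res hU hW (le_of_site h)) f ∈ w.asIdeal
    apply h1
    have hf' : f ∈ (𝒮.deg U hU)₊ := hf
    change (𝒮.res hU hW (le_of_site h)) f ∈ (𝒮.deg W hW)₊
    rw [HomogeneousIdeal.mem_irrelevant_iff] at hf' ⊢
    rw [GradedRing.proj_apply] at hf' ⊢
    rw [← GradedRingHom.map_directSumDecompose, hf', map_zero]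


theorem ι_res_apply {W U : Y.Opens} {hW : IsAffineOpen W} {hU : IsAffineOpen U}
    (h : mkSite W hW ≤ mkSite U hU) (w : Spec (𝒮.presheaf.obj (op W))) :
    𝒮.toQCAlg.ι U hU (Spec.map (𝒮.presheaf.map (homOfLE (le_of_site h)).op) w) =
      𝒮.toQCAlg.ι W hW w := by
  rw [← Scheme.Hom.comp_apply]
  exact congrArg (fun k => k w)
    (𝒮.toQCAlg.ι_res (U := mkSite U hU) (V := mkSite W hW) (homOfLE h))

theorem mem_range_ι_iff {U : Y.Opens} (hU : IsAffineOpen U) (c : 𝒮.toQCAlg.spec) :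
    c ∈ Set.range (𝒮.toQCAlg.ι U hU) ↔ 𝒮.toQCAlg.π c ∈ U := by
  have h := 𝒮.toQCAlg.π_preimage U hU
  have h2 : c ∈ 𝒮.toQCAlg.π ⁻¹ᵁ U ↔ c ∈ (𝒮.toQCAlg.ι U hU).opensRange := by rw [h]
  exact h2.symm

set_option backward.isDefEq.respectTransparency false in
/-- **Lemma M**: the pointed cone on a chart -/
theorem ι_mem_pointedCone_iff {U : Y.Opens} (hU : IsAffineOpen U) (x : Spec (𝒮.presheaf.obj (op U))) :
    𝒮.toQCAlg.ι U hU x ∈ RelCone.pointedCone 𝒮 ↔ x ∈ RelCone.vertexCompl (𝒮.deg U hU) := by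
  constructor
  · intro hx
    unfold RelCone.pointedCone at hx
    obtain ⟨⟨V, hV⟩, y, hy, hyx⟩ := Opens.mem_iSup.1 hx
    change y ∈ RelCone.vertexCompl (𝒮.deg V hV) at hy
    change 𝒮.toQCAlg.ι V hV y = _ at hyx
    have hsU : 𝒮.toQCAlg.π (𝒮.toQCAlg.ι U hU x) ∈ U := (mem_range_ι_iff 𝒮 hU _).1 ⟨x, rfl⟩
    have hsV : 𝒮.toQCAlg.π (𝒮.toQCAlg.ι U hU x) ∈ V := by
      rw [← hyx]
      exact (mem_range_ι_iff 𝒮 hV _).1 ⟨y, rfl⟩
    obtain ⟨W, hW, hsW, hWU, hWV⟩ := exists_refine₂ hU hV _ hsU hsV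
    obtain ⟨w, hw⟩ := (mem_range_ι_iff 𝒮 hW _).2 hsW
    have e1 : Spec.map (𝒮.presheaf.map (homOfLE (le_of_site hWU)).op) w = x := by
      apply (𝒮.toQCAlg.ι U hU).isOpenEmbedding.injective
      rw [ι_res_apply 𝒮 hWU w, hw]
    have e2 : Spec.map (𝒮.presheaf.map (homOfLE (le_of_site hWV)).op) w = y := by
      apply (𝒮.toQCAlg.ι V hV).isOpenEmbedding.injective
      rw [ι_res_apply 𝒮 hWV w, hw]
      exact hyx.symm
    rw [← e1, vertexCompl_res 𝒮 hWU w, ← vertexCompl_res 𝒮 hWV w, e2]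
    exact hy
  · intro hx
    unfold RelCone.pointedCone
    exact Opens.mem_iSup.2 ⟨⟨U, hU⟩, x, hx, rfl⟩

end pointed

section imm
variable {Y : Scheme.{u}} {𝒮 𝒮h : _root_.RelProj.QCGrAlg Y}
  {ι : 𝒮.toQCAlg ⟶ 𝒮h.toQCAlg} {z : 𝒮h.presheaf.obj (op ⊤)} (hz : RelCone.IsPolyOver 𝒮 𝒮h ι z)
variable {PC : Scheme.{u}} (pC : PC ⟶ Y)
  (chartC : ∀ (U : Y.Opens) (hU : IsAffineOpen U), (((pC ⁻¹ᵁ U : PC.Opens) : Scheme.{u}) ≅ Proj (𝒮h.deg U hU)))
  (hPC : _root_.RelProj.IsRelProj 𝒮h pC chartC)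
variable (i : 𝒮.toQCAlg.spec ⟶ PC) (hi : RelCone.IsConeImm 𝒮 hz pC chartC i)

/-- the characterising property of `awayZToBase` -/
theorem ha0 (U : Y.Opens) (hU : IsAffineOpen U) :
    ∀ (q : Away (𝒮h.deg U hU) (RelCone.restrictTop 𝒮h z U)) (k : ℕ) (x : 𝒮.presheaf.obj (op U)),
      x ∈ 𝒮.deg U hU k →
      q.val = Localization.mk (χ hz U hU x)
        (⟨(RelCone.restrictTop 𝒮h z U) ^ k, pow_mem (Submonoid.mem_powers _) k⟩ :
          Submonoid.powers (RelCone.restrictTop 𝒮h z U)) →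
      hz.awayZToBase U hU q = x := by
  intro q k x hx hq
  rw [hz.awayZToBase_of_val U hU q _ k hq]
  exact hz.evalOne_ι U hU x

/-- the point of `Proj 𝒮h(U)` attached to a point of the chart `Spec 𝒮(U)` -/
abbrev ptU (U : Y.Opens) (hU : IsAffineOpen U) (x : Spec (𝒮.presheaf.obj (op U))) :
    Proj (𝒮h.deg U hU) :=
  ConeRing.pt (RelCone.restrictTop 𝒮h z U) (hz.deg_z U hU) (hz.awayZToBase U hU) x

include hi in
theorem i_ι_apply (U : Y.Opens) (hU : IsAffineOpen U) (x : Spec (𝒮.presheaf.obj (op U))) :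
    i (𝒮.toQCAlg.ι U hU x) = _root_.RelProj.emb pC chartC U hU (ptU hz U hU x) := by
  rw [← Scheme.Hom.comp_apply, hi U hU]
  rfl

theorem ptU_mem_domOpen_iff (U : Y.Opens) (hU : IsAffineOpen U) (x : Spec (𝒮.presheaf.obj (op U))) :
    ptU hz U hU x ∈ RelCone.domOpen (χ hz U hU) ↔ x ∈ RelCone.vertexCompl (𝒮.deg U hU) :=
  ConeRing.pt_mem_domOpen_iff (χ hz U hU) _ (hz.deg_z U hU) _ (ha0 hz U hU) x

include hPC in
set_option backward.isDefEq.respectTransparency false in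
theorem emb_mem_pointedProjCone_iff (U : Y.Opens) (hU : IsAffineOpen U) (y : Proj (𝒮h.deg U hU)) :
    _root_.RelProj.emb pC chartC U hU y ∈ RelCone.pointedProjCone 𝒮 hz pC chartC ↔
      y ∈ RelCone.domOpen (χ hz U hU) := by
  constructor
  · intro hy
    rw [pointedProjCone_eq_domQ hz pC chartC hPC] at hy
    have hyU : pC (_root_.RelProj.emb pC chartC U hU y) ∈ U :=
      (mem_range_emb pC chartC U hU _).1 ⟨y, rfl⟩
    obtain ⟨y', hy', hyy⟩ := exists_of_mem_domQ_of_mem (uι hz) pC chartC hPC _ hy (pairId U hU) hyU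
    have hy'' : y' ∈ RelCone.domOpen (φQ (uι hz) (pairId U hU)) := hy'
    rw [φQ_ofHom] at hy''
    have : y' = y := (_root_.RelProj.emb pC chartC U hU).isOpenEmbedding.injective hyy
    rw [← this]
    exact hy''
  · intro hy
    unfold RelCone.pointedProjCone
    exact Opens.mem_iSup.2 ⟨⟨U, hU⟩, y, hy, rfl⟩

/-- every point of the affine cone lies in a chart -/
theorem exists_ι (c : 𝒮.toQCAlg.spec) :
    ∃ (U : Y.Opens) (hU : IsAffineOpen U) (x : Spec (𝒮.presheaf.obj (op U))),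
      𝒮.toQCAlg.ι U hU x = c := by
  obtain ⟨U, hU, hcU, -⟩ := Opens.isBasis_iff_nbhd.1 Y.isBasis_affineOpens
    (show 𝒮.toQCAlg.π c ∈ (⊤ : Y.Opens) from trivial)
  obtain ⟨x, hx⟩ := (mem_range_ι_iff 𝒮 hU c).2 hcU
  exact ⟨U, hU, x, hx⟩

include hPC hi in
/-- the pointed affine cone is the preimage of the pointed projective cone -/
theorem preimage_pointedProjCone :
    i ⁻¹ᵁ RelCone.pointedProjCone 𝒮 hz pC chartC = RelCone.pointedCone 𝒮 := by
  ext c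
  obtain ⟨U, hU, x, rfl⟩ := exists_ι c
  change i (𝒮.toQCAlg.ι U hU x) ∈ RelCone.pointedProjCone 𝒮 hz pC chartC ↔
    𝒮.toQCAlg.ι U hU x ∈ RelCone.pointedCone 𝒮
  rw [i_ι_apply hz pC chartC i hi, emb_mem_pointedProjCone_iff hz pC chartC hPC,
    ptU_mem_domOpen_iff, ι_mem_pointedCone_iff]

end imm

section imm2
variable {Y : Scheme.{u}} {𝒮 𝒮h : _root_.RelProj.QCGrAlg Y}
  {ι : 𝒮.toQCAlg ⟶ 𝒮h.toQCAlg} {z : 𝒮h.presheaf.obj (op ⊤)} (hz : RelCone.IsPolyOver 𝒮 𝒮h ι z)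
variable {PC : Scheme.{u}} (pC : PC ⟶ Y)
  (chartC : ∀ (U : Y.Opens) (hU : IsAffineOpen U), (((pC ⁻¹ᵁ U : PC.Opens) : Scheme.{u}) ≅ Proj (𝒮h.deg U hU)))
  (hPC : _root_.RelProj.IsRelProj 𝒮h pC chartC)
variable (i : 𝒮.toQCAlg.spec ⟶ PC) (hi : RelCone.IsConeImm 𝒮 hz pC chartC i)

/-- morphisms out of the relative spectrum are determined on the charts -/
theorem spec_hom_ext {Z : Scheme.{u}} (A : RelSpec.QCAlg Y) (f g : A.spec ⟶ Z)
    (h : ∀ (U : Y.Opens) (hU : IsAffineOpen U), A.ι U hU ≫ f = A.ι U hU ≫ g) : f = g := by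
  apply colimit.hom_ext
  intro U
  exact h U.1 U.2

include hPC hi in
set_option backward.isDefEq.respectTransparency false in
/-- the cone immersion lies over the base -/
theorem i_comp_pC : i ≫ pC = 𝒮.toQCAlg.π := by
  refine spec_hom_ext 𝒮.toQCAlg _ _ fun U hU => ?_
  rw [reassoc_of% (hi U hU), 𝒮.toQCAlg.ι_π, ← RelProjBC.αP_ι 𝒮h pC chartC hPC U hU]
  unfold RelProjBC.αP
  simp only [Category.assoc, IsAffineOpen.isoSpec_inv_ι]
  rw [Proj.awayι_toSpecZero_assoc, ← Spec.map_comp_assoc, ← Spec.map_comp_assoc]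
  congr 2
  ext r
  refine ha0 hz U hU _ 0 _ (𝒮.str_mem U hU r) ?_
  have e : χ hz U hU ((𝒮.str.app (op U)).hom r) = (𝒮h.str.app (op U)).hom r :=
    congrArg (fun t => (t.app (op U)).hom r) ι.comm
  rw [e]
  change Localization.mk ((𝒮h.str.app (op U)).hom r) 1 = _
  congr 1
  exact Subtype.ext (pow_zero _).symm

end imm2

section retr
variable {Y : Scheme.{u}} {𝒮 𝒮h : _root_.RelProj.QCGrAlg Y}
  {ι : 𝒮.toQCAlg ⟶ 𝒮h.toQCAlg} {z : 𝒮h.presheaf.obj (op ⊤)} (hz : RelCone.IsPolyOver 𝒮 𝒮h ι z)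
variable {PC P : Scheme.{u}} (pC : PC ⟶ Y)
  (chartC : ∀ (U : Y.Opens) (hU : IsAffineOpen U), (((pC ⁻¹ᵁ U : PC.Opens) : Scheme.{u}) ≅ Proj (𝒮h.deg U hU)))
  (hPC : _root_.RelProj.IsRelProj 𝒮h pC chartC)
  (p : P ⟶ Y)
  (chart : ∀ (U : Y.Opens) (hU : IsAffineOpen U), (((p ⁻¹ᵁ U : P.Opens) : Scheme.{u}) ≅ Proj (𝒮.deg U hU)))
  (hP : _root_.RelProj.IsRelProj 𝒮 p chart)
variable (i : 𝒮.toQCAlg.spec ⟶ PC) (hi : RelCone.IsConeImm 𝒮 hz pC chartC i)
variable (r : ((RelCone.pointedProjCone 𝒮 hz pC chartC : PC.Opens) : Scheme.{u}) ⟶ P)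
  (hr : HR hz pC chartC p chart r)
variable (i' : ((RelCone.pointedCone 𝒮 : 𝒮.toQCAlg.spec.Opens) : Scheme.{u}) ⟶
    ((RelCone.pointedProjCone 𝒮 hz pC chartC : PC.Opens) : Scheme.{u}))
  (hi' : i' ≫ (RelCone.pointedProjCone 𝒮 hz pC chartC).ι = (RelCone.pointedCone 𝒮).ι ≫ i)

/-- the point of `Proj 𝒮(U)` under a point of the pointed affine cone -/
def qU (U : Y.Opens) (hU : IsAffineOpen U) (x : Spec (𝒮.presheaf.obj (op U)))
    (hx : x ∈ RelCone.vertexCompl (𝒮.deg U hU)) : Proj (𝒮.deg U hU) :=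
  vQ (χ hz U hU) ⟨ptU hz U hU x, (ptU_mem_domOpen_iff hz U hU x).2 hx⟩

theorem mem_qU_iff (U : Y.Opens) (hU : IsAffineOpen U) (x : Spec (𝒮.presheaf.obj (op U)))
    (hx : x ∈ RelCone.vertexCompl (𝒮.deg U hU)) {k : ℕ} {f : 𝒮.presheaf.obj (op U)}
    (hf : f ∈ 𝒮.deg U hU k) :
    f ∈ (qU hz U hU x hx).asHomogeneousIdeal ↔ f ∈ x.asIdeal :=
  ConeRing.vQ_pt_mem_iff (χ hz U hU) _ (hz.deg_z U hU) _ (ha0 hz U hU) x _ hf

theorem qU_eq (U : Y.Opens) (hU : IsAffineOpen U) (x : Spec (𝒮.presheaf.obj (op U)))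
    (hx : x ∈ RelCone.vertexCompl (𝒮.deg U hU)) (q : Proj (𝒮.deg U hU))
    (hxq : x.asIdeal = q.asHomogeneousIdeal.toIdeal) : qU hz U hU x hx = q :=
  ConeRing.vQ_pt_eq (χ hz U hU) _ (hz.deg_z U hU) _ (ha0 hz U hU) q x hxq _

include hP hPC hr hi hi' in
set_option backward.isDefEq.respectTransparency false in
/-- the composite `E ⟶ Ê ⟶ Proj(𝒮)` on points -/
theorem pi_apply (U : Y.Opens) (hU : IsAffineOpen U) (x : Spec (𝒮.presheaf.obj (op U)))
    (hx : x ∈ RelCone.vertexCompl (𝒮.deg U hU))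
    (e : ((RelCone.pointedCone 𝒮 : 𝒮.toQCAlg.spec.Opens) : Scheme.{u}))
    (he : (RelCone.pointedCone 𝒮).ι e = 𝒮.toQCAlg.ι U hU x) :
    (i' ≫ r) e = _root_.RelProj.emb p chart U hU (qU hz U hU x hx) := by
  have h1 : i' e = cE hz pC chartC U hU ⟨ptU hz U hU x, (ptU_mem_domOpen_iff hz U hU x).2 hx⟩ := by
    apply (RelCone.pointedProjCone 𝒮 hz pC chartC).ι.isOpenEmbedding.injective
    rw [← Scheme.Hom.comp_apply, ← Scheme.Hom.comp_apply, hi', cE_ι, Scheme.Hom.comp_apply, he,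
      i_ι_apply hz pC chartC i hi]
    rfl
  rw [Scheme.Hom.comp_apply, h1, ← Scheme.Hom.comp_apply, cE_r hz pC chartC hPC p chart hP r hr]
  rfl


include hP hPC hr hi hi' in
set_option backward.isDefEq.respectTransparency false in
theorem surjective_pi : Function.Surjective (i' ≫ r).base := by
  intro y
  obtain ⟨U, hU, hyU, -⟩ := Opens.isBasis_iff_nbhd.1 Y.isBasis_affineOpens
    (show p y ∈ (⊤ : Y.Opens) from trivial)
  obtain ⟨q, rfl⟩ := (mem_range_emb p chart U hU y).2 hyU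
  let x : Spec (𝒮.presheaf.obj (op U)) := ⟨q.asHomogeneousIdeal.toIdeal, q.isPrime⟩
  have hx : x ∈ RelCone.vertexCompl (𝒮.deg U hU) := by
    rw [mem_vertexCompl_def]
    exact q.not_irrelevant_le
  have hc : 𝒮.toQCAlg.ι U hU x ∈ RelCone.pointedCone 𝒮 := (ι_mem_pointedCone_iff 𝒮 hU x).2 hx
  refine ⟨⟨𝒮.toQCAlg.ι U hU x, hc⟩, ?_⟩
  rw [pi_apply hz pC chartC hPC p chart hP i hi r hr i' hi' U hU x hx _ rfl,
    qU_eq hz U hU x hx q rfl]

include hP hPC hr hi hi' in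
set_option backward.isDefEq.respectTransparency false in
theorem pi_comp_p : (i' ≫ r) ≫ p = (RelCone.pointedCone 𝒮).ι ≫ 𝒮.toQCAlg.π := by
  rw [Category.assoc, r_comp_p hz pC chartC hPC p chart hP r hr, reassoc_of% hi',
    i_comp_pC hz pC chartC hPC i hi]

/-- the affine open `D(f)` of the affine cone over `U` -/
def Wf (U : Y.Opens) (hU : IsAffineOpen U) (f : 𝒮.presheaf.obj (op U)) : 𝒮.toQCAlg.spec.Opens :=
  (Spec.map (CommRingCat.ofHom (algebraMap (𝒮.presheaf.obj (op U)) (Localization.Away f))) ≫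
    𝒮.toQCAlg.ι U hU).opensRange

theorem isAffineOpen_Wf (U : Y.Opens) (hU : IsAffineOpen U) (f : 𝒮.presheaf.obj (op U)) :
    IsAffineOpen (Wf (𝒮 := 𝒮) U hU f) :=
  isAffineOpen_opensRange _

theorem ι_mem_Wf_iff (U : Y.Opens) (hU : IsAffineOpen U) (f : 𝒮.presheaf.obj (op U))
    (x : Spec (𝒮.presheaf.obj (op U))) :
    𝒮.toQCAlg.ι U hU x ∈ Wf (𝒮 := 𝒮) U hU f ↔ f ∉ x.asIdeal := by
  have hr : Set.range (Spec.map (CommRingCat.ofHom
      (algebraMap (𝒮.presheaf.obj (op U)) (Localization.Away f)))) =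
      (PrimeSpectrum.basicOpen f : Set (PrimeSpectrum (𝒮.presheaf.obj (op U)))) :=
    PrimeSpectrum.localization_away_comap_range (Localization.Away f) f
  constructor
  · rintro ⟨t, ht⟩
    rw [Scheme.Hom.comp_apply] at ht
    have := (𝒮.toQCAlg.ι U hU).isOpenEmbedding.injective ht
    have h2 : x ∈ Set.range (Spec.map (CommRingCat.ofHom
      (algebraMap (𝒮.presheaf.obj (op U)) (Localization.Away f)))) := ⟨t, this⟩
    rw [hr] at h2
    exact h2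
  · intro hx
    have h2 : x ∈ Set.range (Spec.map (CommRingCat.ofHom
      (algebraMap (𝒮.presheaf.obj (op U)) (Localization.Away f)))) := by
      rw [hr]; exact hx
    obtain ⟨t, rfl⟩ := h2
    exact ⟨t, rfl⟩

theorem Wf_le_pointedCone (U : Y.Opens) (hU : IsAffineOpen U) {d : ℕ} (hd : 0 < d)
    {f : 𝒮.presheaf.obj (op U)} (hf : f ∈ 𝒮.deg U hU d) :
    Wf (𝒮 := 𝒮) U hU f ≤ RelCone.pointedCone 𝒮 := by
  rintro _ ⟨t, rfl⟩
  rw [Scheme.Hom.comp_apply, ι_mem_pointedCone_iff]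
  have h1 : 𝒮.toQCAlg.ι U hU (Spec.map (CommRingCat.ofHom
      (algebraMap (𝒮.presheaf.obj (op U)) (Localization.Away f))) t) ∈ Wf (𝒮 := 𝒮) U hU f :=
    ⟨t, rfl⟩
  rw [ι_mem_Wf_iff] at h1
  exact (ConeRing.mem_vertexCompl_iff _).2 ⟨d, hd, f, hf, h1⟩

include hP hPC hr hi hi' in
set_option backward.isDefEq.respectTransparency false in
/-- the preimage of a standard chart of `Proj(𝒮)` is the open `D(f)` of the cone -/
theorem pi_preimage (U : Y.Opens) (hU : IsAffineOpen U) {d : ℕ} (hd : 0 < d)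
    {f : 𝒮.presheaf.obj (op U)} (hf : f ∈ 𝒮.deg U hU d) :
    (i' ≫ r) ⁻¹ᵁ (Proj.awayι (𝒮.deg U hU) f hf hd ≫ _root_.RelProj.emb p chart U hU).opensRange =
      (RelCone.pointedCone 𝒮).ι ⁻¹ᵁ Wf (𝒮 := 𝒮) U hU f := by
  ext e
  change (i' ≫ r) e ∈ Set.range (Proj.awayι (𝒮.deg U hU) f hf hd ≫ _root_.RelProj.emb p chart U hU) ↔
    (RelCone.pointedCone 𝒮).ι e ∈ Wf (𝒮 := 𝒮) U hU f
  have key : ∀ (x : Spec (𝒮.presheaf.obj (op U))), (RelCone.pointedCone 𝒮).ι e = 𝒮.toQCAlg.ι U hU x →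
      ((i' ≫ r) e ∈ Set.range (Proj.awayι (𝒮.deg U hU) f hf hd ≫ _root_.RelProj.emb p chart U hU) ↔
        f ∉ x.asIdeal) := by
    intro x he
    have hx : x ∈ RelCone.vertexCompl (𝒮.deg U hU) := by
      rw [← ι_mem_pointedCone_iff 𝒮 hU x, ← he]
      exact e.2
    rw [pi_apply hz pC chartC hPC p chart hP i hi r hr i' hi' U hU x hx e he,
      ← mem_qU_iff hz U hU x hx hf]
    constructor
    · rintro ⟨t, ht⟩
      rw [Scheme.Hom.comp_apply] at ht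
      have h3 := (_root_.RelProj.emb p chart U hU).isOpenEmbedding.injective ht
      have h4 : qU hz U hU x hx ∈ Proj.basicOpen (𝒮.deg U hU) f := by
        rw [← Proj.opensRange_awayι (𝒮.deg U hU) f hf hd, ← h3]
        exact ⟨t, rfl⟩
      exact h4
    · intro h4
      have h5 : qU hz U hU x hx ∈ Proj.basicOpen (𝒮.deg U hU) f := h4
      rw [← Proj.opensRange_awayι (𝒮.deg U hU) f hf hd] at h5
      obtain ⟨t, ht⟩ := h5
      exact ⟨t, by rw [Scheme.Hom.comp_apply, ht]⟩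
  constructor
  · intro h
    have hpU : p ((i' ≫ r) e) ∈ U := by
      obtain ⟨t, ht⟩ := h
      rw [← ht, Scheme.Hom.comp_apply]
      exact (mem_range_emb p chart U hU _).1 ⟨_, rfl⟩
    rw [← Scheme.Hom.comp_apply, pi_comp_p hz pC chartC hPC p chart hP i hi r hr i' hi',
      Scheme.Hom.comp_apply] at hpU
    obtain ⟨x, hx⟩ := (mem_range_ι_iff 𝒮 hU _).2 hpU
    rw [← hx, ι_mem_Wf_iff]
    exact (key x hx.symm).1 h
  · rintro ⟨t, ht⟩
    rw [Scheme.Hom.comp_apply] at ht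
    refine (key _ ht.symm).2 ?_
    have h1 : 𝒮.toQCAlg.ι U hU (Spec.map (CommRingCat.ofHom
        (algebraMap (𝒮.presheaf.obj (op U)) (Localization.Away f))) t) ∈ Wf (𝒮 := 𝒮) U hU f :=
      ⟨t, rfl⟩
    rw [ι_mem_Wf_iff] at h1
    exact h1

include hP hPC hr hi hi' in
set_option backward.isDefEq.respectTransparency false in
theorem isAffineHom_pi : IsAffineHom (i' ≫ r) := by
  refine isAffineHom_of_forall_exists_isAffineOpen _ fun y => ?_
  obtain ⟨U, hU, hyU, -⟩ := Opens.isBasis_iff_nbhd.1 Y.isBasis_affineOpens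
    (show p y ∈ (⊤ : Y.Opens) from trivial)
  obtain ⟨q, rfl⟩ := (mem_range_emb p chart U hU y).2 hyU
  obtain ⟨d, f, hd, hf, hqf⟩ := exists_basicOpen q
  refine ⟨(Proj.awayι (𝒮.deg U hU) f hf hd ≫ _root_.RelProj.emb p chart U hU).opensRange, ?_,
    isAffineOpen_opensRange _, ?_⟩
  · rw [← Proj.opensRange_awayι (𝒮.deg U hU) f hf hd] at hqf
    obtain ⟨t, rfl⟩ := hqf
    exact ⟨t, rfl⟩
  · rw [pi_preimage hz pC chartC hPC p chart hP i hi r hr i' hi' U hU hd hf]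
    refine (isAffineOpen_Wf U hU f).preimage_of_isOpenImmersion _ ?_
    rw [Scheme.Opens.opensRange_ι]
    exact Wf_le_pointedCone U hU hd hf

end retr

end Groth.Agent.Lib.Helper28.ConeImm
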