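import Mathlib

/-!
# Evaluating a degree-zero localization `B_(x)` along a ring homomorphism inverting `x` (helper28)

`evAway ε x : B_(x) → R` (the form of the frozen `RelCone.IsPolyOver.awayZToBase`), with its compatibilities:
transition maps `B_(f) → B_(fg)`, post-composition, maps induced by graded homomorphisms, and the case of the
localization map (the inclusion `A_(f) ⊆ A_f`).
-/

set_option autoImplicit false
universe u
open HomogeneousLocalization

namespace Groth.Agent.Lib.Helper28.EvAway

variable {B : Type u} [CommRing B] (ℬ : ℕ → AddSubgroup B) [GradedRing ℬ]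
variable {R : Type u} [CommRing R]

/-- evaluation of the degree-zero localization `B_(x)` along a ring homomorphism inverting `x` -/
noncomputable def evAway (ε : B →+* R) (x : B) (hx : IsUnit (ε x)) : Away ℬ x →+* R :=
  (IsLocalization.Away.lift x (g := ε) hx).comp (algebraMap (Away ℬ x) (Localization.Away x))

theorem evAway_apply (ε : B →+* R) (x : B) (hx : IsUnit (ε x)) (q : Away ℬ x) :
    evAway ℬ ε x hx q = IsLocalization.Away.lift x (g := ε) hx q.val := rfl

/-- compatibility with the transition maps `B_(f) → B_(fg)` -/
theorem evAway_awayMap (ε : B →+* R) {e : ℕ} {f g x : B} (hg : g ∈ ℬ e) (hx : x = f * g)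
    (hf' : IsUnit (ε f)) (hx' : IsUnit (ε x)) (a : Away ℬ f) :
    evAway ℬ ε x hx' (awayMap ℬ hg hx a) = evAway ℬ ε f hf' a := by
  rw [evAway_apply, evAway_apply, val_awayMap]
  have h : (IsLocalization.Away.lift x (g := ε) hx').comp
      (Localization.awayLift (algebraMap B (Localization.Away x)) f
        (isUnit_of_dvd_unit (map_dvd _ ⟨_, hx⟩) (IsLocalization.Away.algebraMap_isUnit x))) =
      IsLocalization.Away.lift f (g := ε) hf' := by
    apply IsLocalization.ringHom_ext (Submonoid.powers f)
    ext b
    simp only [RingHom.comp_apply]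
    rw [IsLocalization.Away.lift_eq, IsLocalization.Away.lift_eq, IsLocalization.Away.lift_eq]
  exact congrArg (fun k => k a.val) h

/-- compatibility with a further ring homomorphism -/
theorem evAway_comp {R' : Type u} [CommRing R'] (ρ : R →+* R') (ε : B →+* R) (x : B) (hx : IsUnit (ε x))
    (q : Away ℬ x) :
    ρ (evAway ℬ ε x hx q) = evAway ℬ (ρ.comp ε) x (hx.map ρ) q := by
  rw [evAway_apply, evAway_apply]
  have h : ρ.comp (IsLocalization.Away.lift (S := Localization.Away x) x (g := ε) hx) =
      IsLocalization.Away.lift (S := Localization.Away x) x (g := ρ.comp ε) (hx.map ρ) := by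
    apply IsLocalization.ringHom_ext (Submonoid.powers x)
    ext b
    simp only [RingHom.comp_apply]
    rw [IsLocalization.Away.lift_eq, IsLocalization.Away.lift_eq]
    rfl
  exact congrArg (fun k => k q.val) h

variable {A : Type u} [CommRing A] (𝒜 : ℕ → AddSubgroup A) [GradedRing 𝒜]

theorem powers_le_comap (φ : 𝒜 →+*ᵍ ℬ) (f : A) :
    Submonoid.powers f ≤ (Submonoid.powers (φ f)).comap φ.toRingHom := by
  rintro _ ⟨n, rfl⟩
  exact ⟨n, by simp⟩

theorem val_awayMapHom (φ : 𝒜 →+*ᵍ ℬ) (f : A) (q : Away 𝒜 f) :
    (Away.map φ f q).val =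
      IsLocalization.map (Localization.Away (φ f)) φ.toRingHom (powers_le_comap ℬ 𝒜 φ f) q.val := by
  obtain ⟨c, rfl⟩ := HomogeneousLocalization.mk_surjective q
  change (HomogeneousLocalization.map φ _ (HomogeneousLocalization.mk c)).val = _
  rw [HomogeneousLocalization.map_mk, HomogeneousLocalization.val_mk, HomogeneousLocalization.val_mk,
    Localization.mk_eq_mk', Localization.mk_eq_mk', IsLocalization.map_mk']
  rfl

/-- compatibility with the map induced by a graded homomorphism -/
theorem evAway_map (φ : 𝒜 →+*ᵍ ℬ) (ε : B →+* R) (f : A) (h : IsUnit (ε (φ f)))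
    (q : Away 𝒜 f) :
    evAway ℬ ε (φ f) h (Away.map φ f q) = evAway 𝒜 (ε.comp φ.toRingHom) f h q := by
  rw [evAway_apply, evAway_apply, val_awayMapHom]
  have hh : (IsLocalization.Away.lift (S := Localization.Away (φ f)) (φ f) (g := ε) h).comp
      (IsLocalization.map (Localization.Away (φ f)) φ.toRingHom (powers_le_comap ℬ 𝒜 φ f)) =
      IsLocalization.Away.lift (S := Localization.Away f) f (g := ε.comp φ.toRingHom) h := by
    apply IsLocalization.ringHom_ext (Submonoid.powers f)
    ext b
    simp only [RingHom.comp_apply]
    rw [IsLocalization.map_eq, IsLocalization.Away.lift_eq, IsLocalization.Away.lift_eq]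
    rfl
  exact congrArg (fun k => k q.val) hh

/-- evaluation along the localization map is the inclusion `A_(f) ⊆ A_f` -/
theorem evAway_algebraMap (f : A) (q : Away 𝒜 f) :
    evAway 𝒜 (algebraMap A (Localization.Away f)) f (IsLocalization.Away.algebraMap_isUnit f) q =
      algebraMap (Away 𝒜 f) (Localization.Away f) q := by
  rw [evAway_apply]
  have hh : IsLocalization.Away.lift (S := Localization.Away f) f (g := algebraMap A (Localization.Away f))
      (IsLocalization.Away.algebraMap_isUnit f) = RingHom.id _ := by
    apply IsLocalization.ringHom_ext (Submonoid.powers f)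
    ext b
    simp only [RingHom.comp_apply, RingHom.id_apply]
    rw [IsLocalization.Away.lift_eq]
  rw [hh]
  rfl

end Groth.Agent.Lib.Helper28.EvAway
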