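import Groth.Agent.Lib.Helper28.ConeFibre
import Groth.Agent.Lib.Helper28.ConeImm
import Groth.Agent.Lib.Helper28.EvAway
import Groth.Agent.Lib.Helper28.ConeAlgLG
import Groth.Agent.S3576

/-!
# Fibres of the canonical retraction of the pointed affine cone over a general base (helper28)

On the chart `Spec 𝒮(U)_f` of the pointed cone `E`, the composite `E ⟶ Ê ⟶ Proj(𝒮)` is `Spec` of the inclusion
`𝒮(U)_(f) ⊆ 𝒮(U)_f` (`cπ_pi`, via the ring maps `δ`, `β` built with `EvAway`); the resulting pullback squares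
(`isPullback_cπ`) give: locally of finite type and fibres `Spec k(x)[T, T⁻¹]` for `𝒮` generated in degree one.
-/

set_option autoImplicit false
universe u
open CategoryTheory CategoryTheory.Limits AlgebraicGeometry Opposite TopologicalSpace
open scoped HomogeneousIdeal
open HomogeneousLocalization
noncomputable section

namespace Groth.Agent.Lib.Helper28.ConeFibreE

open Groth.Agent.Lib.Helper28.RelProjBC (AffPair cover)
open Groth.Agent.Lib.Helper28.RelProjQ (mkSite le_of_site map_emb φQ gradedAt_res exists_refine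
  mem_range_emb cover')
open Groth.Agent.Lib.Helper28.ProjQ
open Groth.Agent.Lib.Helper28.ProjQRel
open Groth.Agent.Lib.Helper28.ProjQCone
open Groth.Agent.Lib.Helper28.ConeFibre
open Groth.Agent.Lib.Helper28.ConeImm
open Groth.Agent.Lib.Helper28.EvAway

variable {Y : Scheme.{u}} {𝒮 𝒮h : _root_.RelProj.QCGrAlg Y}
  {ι : 𝒮.toQCAlg ⟶ 𝒮h.toQCAlg} {z : 𝒮h.presheaf.obj (op ⊤)} (hz : RelCone.IsPolyOver 𝒮 𝒮h ι z)

section ring
variable (U : Y.Opens) (hU : IsAffineOpen U) (f : 𝒮.presheaf.obj (op U))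

/-- "set `z = 1`" followed by the localization at `f` -/
def ε' : 𝒮h.presheaf.obj (op U) →+* Localization.Away f :=
  (algebraMap (𝒮.presheaf.obj (op U)) (Localization.Away f)).comp (hz.evalOne U hU)

/-- the element `z · ι(f)` -/
abbrev xz : 𝒮h.presheaf.obj (op U) := RelCone.restrictTop 𝒮h z U * (χ hz U hU) f

theorem isUnit_ε'_z : IsUnit (ε' hz U hU f (RelCone.restrictTop 𝒮h z U)) := by
  change IsUnit (algebraMap _ (Localization.Away f) (hz.evalOne U hU (RelCone.restrictTop 𝒮h z U)))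
  rw [hz.evalOne_z, map_one]
  exact isUnit_one

theorem isUnit_ε'_f : IsUnit (ε' hz U hU f ((χ hz U hU) f)) := by
  change IsUnit (algebraMap _ (Localization.Away f) (hz.evalOne U hU ((ι.hom.app (op U)).hom f)))
  rw [hz.evalOne_ι]
  exact IsLocalization.Away.algebraMap_isUnit f

theorem isUnit_ε'_xz : IsUnit (ε' hz U hU f (xz hz U hU f)) := by
  rw [map_mul]
  exact (isUnit_ε'_z hz U hU f).mul (isUnit_ε'_f hz U hU f)

/-- `𝒮h(U)_(z ι f) → 𝒮(U)_f` -/
def δ : Away (𝒮h.deg U hU) (xz hz U hU f) →+* Localization.Away f :=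
  evAway (𝒮h.deg U hU) (ε' hz U hU f) (xz hz U hU f) (isUnit_ε'_xz hz U hU f)

/-- `𝒮h(U)_(ι f) → 𝒮(U)_f` -/
def β : Away (𝒮h.deg U hU) ((χ hz U hU) f) →+* Localization.Away f :=
  (δ hz U hU f).comp (awayMap (𝒮h.deg U hU) (hz.deg_z U hU) (mul_comm _ _))

variable {f} in
/-- `(*)` : on `𝒮h(U)_(z)` the map `δ` is `awayZToBase` followed by the localization -/
theorem δ_awayMap_z {d : ℕ} (hf : f ∈ 𝒮.deg U hU d) :
    (δ hz U hU f).comp (awayMap (𝒮h.deg U hU) ((χ hz U hU).2 hf) rfl) =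
      (algebraMap (𝒮.presheaf.obj (op U)) (Localization.Away f)).comp (hz.awayZToBase U hU) := by
  ext q
  simp only [RingHom.comp_apply]
  refine (evAway_awayMap (𝒮h.deg U hU) (ε' hz U hU f) ((χ hz U hU).2 hf) rfl (isUnit_ε'_z hz U hU f)
    (isUnit_ε'_xz hz U hU f) q).trans ?_
  have h := evAway_comp (𝒮h.deg U hU) (algebraMap (𝒮.presheaf.obj (op U)) (Localization.Away f))
    (hz.evalOne U hU) (RelCone.restrictTop 𝒮h z U) (by rw [hz.evalOne_z]; exact isUnit_one) q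
  exact h.symm

/-- `(**)` : `β` restricted to `𝒮(U)_(f)` is the inclusion into `𝒮(U)_f` -/
theorem β_map :
    (β hz U hU f).comp (Away.map (χ hz U hU) f) =
      algebraMap (Away (𝒮.deg U hU) f) (Localization.Away f) := by
  ext q
  simp only [RingHom.comp_apply]
  refine (evAway_awayMap (𝒮h.deg U hU) (ε' hz U hU f) (hz.deg_z U hU) (mul_comm _ _)
    (isUnit_ε'_f hz U hU f) (isUnit_ε'_xz hz U hU f) _).trans ?_
  rw [evAway_map (𝒮h.deg U hU) (𝒮.deg U hU)]
  have hε : (ε' hz U hU f).comp (χ hz U hU).toRingHom =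
      algebraMap (𝒮.presheaf.obj (op U)) (Localization.Away f) := by
    ext a
    change algebraMap _ (Localization.Away f) (hz.evalOne U hU ((ι.hom.app (op U)).hom a)) = _
    rw [hz.evalOne_ι]
  have key : ∀ (ε : 𝒮.presheaf.obj (op U) →+* Localization.Away f) (h : IsUnit (ε f))
      (hε : ε = algebraMap (𝒮.presheaf.obj (op U)) (Localization.Away f)),
      evAway (𝒮.deg U hU) ε f h q = algebraMap (Away (𝒮.deg U hU) f) (Localization.Away f) q := by
    intro ε h hε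
    subst hε
    exact evAway_algebraMap (𝒮.deg U hU) f q
  exact key _ _ hε

end ring

variable {PC P : Scheme.{u}} (pC : PC ⟶ Y)
  (chartC : ∀ (U : Y.Opens) (hU : IsAffineOpen U), (((pC ⁻¹ᵁ U : PC.Opens) : Scheme.{u}) ≅ Proj (𝒮h.deg U hU)))
  (hPC : _root_.RelProj.IsRelProj 𝒮h pC chartC)
  (p : P ⟶ Y)
  (chart : ∀ (U : Y.Opens) (hU : IsAffineOpen U), (((p ⁻¹ᵁ U : P.Opens) : Scheme.{u}) ≅ Proj (𝒮.deg U hU)))
  (hP : _root_.RelProj.IsRelProj 𝒮 p chart)
variable (i : 𝒮.toQCAlg.spec ⟶ PC) (hi : RelCone.IsConeImm 𝒮 hz pC chartC i)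
variable (r : ((RelCone.pointedProjCone 𝒮 hz pC chartC : PC.Opens) : Scheme.{u}) ⟶ P)
  (hr : HR hz pC chartC p chart r)
variable (i' : ((RelCone.pointedCone 𝒮 : 𝒮.toQCAlg.spec.Opens) : Scheme.{u}) ⟶
    ((RelCone.pointedProjCone 𝒮 hz pC chartC : PC.Opens) : Scheme.{u}))
  (hi' : i' ≫ (RelCone.pointedProjCone 𝒮 hz pC chartC).ι = (RelCone.pointedCone 𝒮).ι ≫ i)

section chart
variable (U : Y.Opens) (hU : IsAffineOpen U) {d : ℕ} (hd : 0 < d) {f : 𝒮.presheaf.obj (op U)}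
  (hf : f ∈ 𝒮.deg U hU d)

/-- the chart `Spec 𝒮(U)_f ⟶ E` of the pointed affine cone -/
def cπ : Spec (CommRingCat.of (Localization.Away f)) ⟶
    ((RelCone.pointedCone 𝒮 : 𝒮.toQCAlg.spec.Opens) : Scheme.{u}) :=
  IsOpenImmersion.lift (RelCone.pointedCone 𝒮).ι
    (Spec.map (CommRingCat.ofHom (algebraMap (𝒮.presheaf.obj (op U)) (Localization.Away f))) ≫
      𝒮.toQCAlg.ι U hU)
    (by
      rw [Scheme.Opens.range_ι]
      exact Wf_le_pointedCone (𝒮 := 𝒮) U hU hd hf)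

@[reassoc]
theorem cπ_ι : cπ U hU hd hf ≫ (RelCone.pointedCone 𝒮).ι =
    Spec.map (CommRingCat.ofHom (algebraMap (𝒮.presheaf.obj (op U)) (Localization.Away f))) ≫
      𝒮.toQCAlg.ι U hU :=
  IsOpenImmersion.lift_fac _ _ _

instance : IsOpenImmersion (cπ U hU hd hf) := by
  have h : IsOpenImmersion (cπ U hU hd hf ≫ (RelCone.pointedCone 𝒮).ι) := by
    rw [cπ_ι]; infer_instance
  exact IsOpenImmersion.of_comp _ (RelCone.pointedCone 𝒮).ι

theorem opensRange_cπ : (cπ U hU hd hf).opensRange = (RelCone.pointedCone 𝒮).ι ⁻¹ᵁ Wf (𝒮 := 𝒮) U hU f := by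
  ext e
  constructor
  · rintro ⟨t, rfl⟩
    change (RelCone.pointedCone 𝒮).ι (cπ U hU hd hf t) ∈ Wf (𝒮 := 𝒮) U hU f
    rw [← Scheme.Hom.comp_apply, cπ_ι]
    exact ⟨t, rfl⟩
  · rintro ⟨t, ht⟩
    refine ⟨t, ?_⟩
    apply (RelCone.pointedCone 𝒮).ι.isOpenEmbedding.injective
    rw [← Scheme.Hom.comp_apply, cπ_ι]
    exact ht

include hi hi' in
set_option backward.isDefEq.respectTransparency false in
/-- on the chart `Spec 𝒮(U)_f` the immersion `E ⟶ Ê` is `Spec β` followed by the chart of `Ê` -/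
theorem cπ_i' : cπ U hU hd hf ≫ i' =
    Spec.map (CommRingCat.ofHom (β hz U hU f)) ≫ cEf hz pC chartC U hU hd hf := by
  rw [← cancel_mono (RelCone.pointedProjCone 𝒮 hz pC chartC).ι, Category.assoc, hi', cπ_ι_assoc, hi U hU,
    Category.assoc]
  unfold cEf
  rw [Category.assoc, cE_ι, reassoc_of% (chartQ_ι (χ hz U hU) hf hd)]
  -- left: Spec(A → A_f) ≫ Spec(awayZToBase) ≫ awayι z ≫ emb
  rw [← Category.assoc (Spec.map _) (Spec.map _), ← Spec.map_comp, ← CommRingCat.ofHom_comp,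
    ← δ_awayMap_z hz U hU hf, CommRingCat.ofHom_comp, Spec.map_comp, Category.assoc,
    Proj.SpecMap_awayMap_awayι_assoc (𝒮h.deg U hU) (hz.deg_z U hU) one_pos ((χ hz U hU).2 hf) rfl]
  -- right
  unfold β
  rw [CommRingCat.ofHom_comp, Spec.map_comp, Category.assoc]
  congr 1
  exact (Proj.SpecMap_awayMap_awayι_assoc (𝒮h.deg U hU) ((χ hz U hU).2 hf) hd (hz.deg_z U hU)
    (mul_comm _ _) _).symm

include hP hPC hr hi hi' in
set_option backward.isDefEq.respectTransparency false in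
/-- on the chart `Spec 𝒮(U)_f` the retraction `E ⟶ Proj(𝒮)` is `Spec` of the inclusion `𝒮(U)_(f) ⊆ 𝒮(U)_f` -/
theorem cπ_pi : cπ U hU hd hf ≫ (i' ≫ r) =
    Spec.map (CommRingCat.ofHom (algebraMap (Away (𝒮.deg U hU) f) (Localization.Away f))) ≫
      Proj.awayι (𝒮.deg U hU) f hf hd ≫ _root_.RelProj.emb p chart U hU := by
  rw [← Category.assoc, cπ_i' hz pC chartC i hi i' hi' U hU hd hf, Category.assoc,
    (isPullback_cEf hz pC chartC hPC p chart hP r hr U hU hd hf).w, ← Category.assoc, ← Spec.map_comp,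
    ← CommRingCat.ofHom_comp, β_map]

include hP hPC hr hi hi' in
set_option backward.isDefEq.respectTransparency false in
theorem isPullback_cπ :
    IsPullback (cπ U hU hd hf)
      (Spec.map (CommRingCat.ofHom (algebraMap (Away (𝒮.deg U hU) f) (Localization.Away f)))) (i' ≫ r)
      (Proj.awayι (𝒮.deg U hU) f hf hd ≫ _root_.RelProj.emb p chart U hU) := by
  refine (IsOpenImmersion.isPullback _ _ _ _
    (cπ_pi hz pC chartC hPC p chart hP i hi r hr i' hi' U hU hd hf) ?_).flip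
  rw [pi_preimage hz pC chartC hPC p chart hP i hi r hr i' hi' U hU hd hf, opensRange_cπ]

end chart

section degOne
variable (hgen : 𝒮.IsGenDegOne)

theorem finiteType_val (U : Y.Opens) (hU : IsAffineOpen U) {f : 𝒮.presheaf.obj (op U)} (hf : f ∈ 𝒮.deg U hU 1) :
    (algebraMap (Away (𝒮.deg U hU) f) (Localization.Away f)).FiniteType := by
  obtain ⟨Λ, hΛ⟩ := Groth.Agent.Lib.Helper28.ConeAlgLG.exists_laurent (𝒮.deg U hU) hf
  have : algebraMap (Away (𝒮.deg U hU) f) (Localization.Away f) =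
      Λ.toRingHom.comp LaurentPolynomial.C := RingHom.ext fun c => (hΛ c).symm
  rw [this]
  exact (RingHom.FiniteType.of_surjective _ Λ.surjective).comp (Groth.Agent.S3576.finiteType_C _)

include hP hPC hr hi hi' hgen in
set_option backward.isDefEq.respectTransparency false in
theorem locallyOfFiniteType_pi : LocallyOfFiniteType (i' ≫ r) := by
  let 𝒰 := Groth.Agent.Lib.Helper28.Glue.cov
    (fun t : (Σ U : Y.affineOpens, {f : 𝒮.presheaf.obj (op U.1) // f ∈ 𝒮.deg U.1 U.2 1}) =>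
      Spec (CommRingCat.of (Away (𝒮.deg t.1.1 t.1.2) t.2.1)))
    (fun t => Proj.awayι (𝒮.deg t.1.1 t.1.2) t.2.1 t.2.2 one_pos ≫ _root_.RelProj.emb p chart t.1.1 t.1.2)
    (exists_chart_deg_one p chart hgen)
  refine Groth.Agent.Lib.Helper28.ProjMapG.of_isPullback_openCover @LocallyOfFiniteType (i' ≫ r) 𝒰
    (fun t => Spec (CommRingCat.of (Localization.Away t.2.1)))
    (fun t => cπ t.1.1 t.1.2 one_pos t.2.2)
    (fun t => Spec.map (CommRingCat.ofHom (algebraMap (Away (𝒮.deg t.1.1 t.1.2) t.2.1) (Localization.Away t.2.1))))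
    (fun t => (isPullback_cπ hz pC chartC hPC p chart hP i hi r hr i' hi' t.1.1 t.1.2 one_pos t.2.2).flip)
    (fun t => ?_)
  rw [HasRingHomProperty.Spec_iff (P := @LocallyOfFiniteType)]
  exact finiteType_val t.1.1 t.1.2 t.2.2

include hP hPC hr hi hi' hgen in
set_option backward.isDefEq.respectTransparency false in
theorem fibre_pi (x : P) :
    ∃ e : pullback (i' ≫ r) (P.fromSpecResidueField x) ≅
        Spec (CommRingCat.of (LaurentPolynomial (P.residueField x))),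
      e.hom ≫ Spec.map (CommRingCat.ofHom (algebraMap (P.residueField x)
        (LaurentPolynomial (P.residueField x)))) = pullback.snd (i' ≫ r) (P.fromSpecResidueField x) := by
  obtain ⟨t, hx⟩ := exists_chart_deg_one p chart hgen x
  obtain ⟨Λ, hΛ⟩ := Groth.Agent.Lib.Helper28.ConeAlgLG.exists_laurent (𝒮.deg t.1.1 t.1.2) t.2.2
  obtain ⟨γ, -, hγ⟩ := Groth.Agent.Lib.Helper28.Fibre.exists_fibre_iso (i' ≫ r) x
    (Proj.awayι (𝒮.deg t.1.1 t.1.2) t.2.1 t.2.2 one_pos ≫ _root_.RelProj.emb p chart t.1.1 t.1.2) hx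
    (CommRingCat.ofHom (algebraMap (Away (𝒮.deg t.1.1 t.1.2) t.2.1) (Localization.Away t.2.1)))
    (cπ t.1.1 t.1.2 one_pos t.2.2)
    (isPullback_cπ hz pC chartC hPC p chart hP i hi r hr i' hi' t.1.1 t.1.2 one_pos t.2.2)
  obtain ⟨δ', hpo⟩ := Groth.Agent.S3576.isPushout_laurent γ.hom
    (algebraMap (Away (𝒮.deg t.1.1 t.1.2) t.2.1) (Localization.Away t.2.1)) Λ hΛ
  obtain ⟨e, he⟩ := hγ _ _ _ hpo
  exact ⟨e, he⟩

end degOne

end Groth.Agent.Lib.Helper28.ConeFibreE
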