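import Groth.Agent.Lib.Helper28.ProjQRel

set_option autoImplicit false
universe u
open CategoryTheory CategoryTheory.Limits AlgebraicGeometry Opposite TopologicalSpace
open scoped HomogeneousIdeal
open HomogeneousLocalization
noncomputable section

namespace Groth.Agent.Lib.Helper28.ProjQComp

open Groth.Agent.Lib.Helper28.RelProjBC (AffPair cover)
open Groth.Agent.Lib.Helper28.RelProjQ (mkSite le_of_site map_emb φQ gradedAt_res exists_refine
  mem_range_emb cover')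
open Groth.Agent.Lib.Helper28.ProjQ
open Groth.Agent.Lib.Helper28.ProjQRel


section aux
variable {Y Y' : Scheme.{u}} {ψ : Y' ⟶ Y} {𝒮 : _root_.RelProj.QCGrAlg Y} {𝒮' : _root_.RelProj.QCGrAlg Y'}
  (u : _root_.RelProj.QGrHom ψ 𝒮 𝒮') {P' : Scheme.{u}} (p' : P' ⟶ Y')
  (chart' : ∀ (U' : Y'.Opens) (hU' : IsAffineOpen U'), (((p' ⁻¹ᵁ U' : P'.Opens) : Scheme.{u}) ≅ Proj (𝒮'.deg U' hU')))
  (hP' : _root_.RelProj.IsRelProj 𝒮' p' chart')

include hP' in
theorem emb_mem_domQ_iff (t : AffPair ψ) (y : Proj (𝒮'.deg t.U' t.hU')) :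
    _root_.RelProj.emb p' chart' t.U' t.hU' y ∈ _root_.RelProj.domQ u p' chart' ↔ y ∈ D u t := by
  constructor
  · intro h
    obtain ⟨y', hy', hyy'⟩ := exists_of_mem_domQ_of_mem u p' chart' hP' _ h t
      ((mem_range_emb p' chart' t.U' t.hU' _).1 ⟨y, rfl⟩)
    have : y' = y := (_root_.RelProj.emb p' chart' t.U' t.hU').isOpenEmbedding.injective hyy'
    rw [← this]
    exact hy'
  · exact emb_mem_domQ u p' chart' t y

end aux

variable {Y Y' : Scheme.{u}} {ψ : Y' ⟶ Y} {𝒯 𝒮 : _root_.RelProj.QCGrAlg Y} {𝒮' : _root_.RelProj.QCGrAlg Y'}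
  (u : _root_.RelProj.QGrHom ψ 𝒮 𝒮') (v : 𝒯.toQCAlg ⟶ 𝒮.toQCAlg) (hv : _root_.RelProj.IsGradedHom v)
  (u' : _root_.RelProj.QGrHom ψ 𝒯 𝒮') (hu' : ∀ U : Y.Opens, u'.app U = v.hom.app (op U) ≫ u.app U)
variable {P PT P' : Scheme.{u}} (p : P ⟶ Y)
  (chart : ∀ (U : Y.Opens) (hU : IsAffineOpen U), (((p ⁻¹ᵁ U : P.Opens) : Scheme.{u}) ≅ Proj (𝒮.deg U hU)))
  (hP : _root_.RelProj.IsRelProj 𝒮 p chart)
  (pT : PT ⟶ Y)
  (chartT : ∀ (U : Y.Opens) (hU : IsAffineOpen U), (((pT ⁻¹ᵁ U : PT.Opens) : Scheme.{u}) ≅ Proj (𝒯.deg U hU)))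
  (hPT : _root_.RelProj.IsRelProj 𝒯 pT chartT)
  (p' : P' ⟶ Y')
  (chart' : ∀ (U' : Y'.Opens) (hU' : IsAffineOpen U'), (((p' ⁻¹ᵁ U' : P'.Opens) : Scheme.{u}) ≅ Proj (𝒮'.deg U' hU')))
  (hP' : _root_.RelProj.IsRelProj 𝒮' p' chart')

include hu' in
theorem φQ_comp (t : AffPair ψ) :
    (φQ u t).comp (φQ (_root_.RelProj.QGrHom.ofHom v hv) (pairId t.U t.hU)) = φQ u' t := by
  rw [φQ_ofHom]
  apply DFunLike.ext
  intro x
  change (𝒮'.presheaf.map (homOfLE t.hle).op).hom ((u.app t.U).hom ((v.hom.app (op t.U)).hom x)) =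
    (𝒮'.presheaf.map (homOfLE t.hle).op).hom ((u'.app t.U).hom x)
  rw [hu']
  rfl

include hv hu' in
theorem D_comp_le (t : AffPair ψ) : D u' t ≤ D u t :=
  domOpen_comp_le _ _ _ (φQ_comp u v hv u' hu' t)

include hv hu' in
theorem domQ_comp_le : _root_.RelProj.domQ u' p' chart' ≤ _root_.RelProj.domQ u p' chart' := by
  intro z hz
  obtain ⟨t, x, hx, rfl⟩ := exists_of_mem_domQ u' p' chart' z hz
  exact emb_mem_domQ u p' chart' t x (D_comp_le u v hv u' hu' t hx)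


include hv hu' hP hP' in
set_option backward.isDefEq.respectTransparency false in
/-- `G(u ∘ v) = G(u) ∩ r⁻¹ G(v)` -/
theorem mem_domQ_comp_iff (r : ((_root_.RelProj.domQ u p' chart' : P'.Opens) : Scheme.{u}) ⟶ P)
    (hr : ∀ t : AffPair ψ, cW u p' chart' t ≫ r = pieceW u p chart t)
    (z : ((_root_.RelProj.domQ u p' chart' : P'.Opens) : Scheme.{u})) :
    (_root_.RelProj.domQ u p' chart').ι z ∈ _root_.RelProj.domQ u' p' chart' ↔
      r z ∈ _root_.RelProj.domQ (_root_.RelProj.QGrHom.ofHom v hv) p chart := by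
  obtain ⟨t, x, rfl⟩ := cover_W u p' chart' z
  have hrz : r (cW u p' chart' t x) = _root_.RelProj.emb p chart t.U t.hU (vQ (φQ u t) x) := by
    rw [← Scheme.Hom.comp_apply, hr t]
    rfl
  rw [hrz, cW_apply, emb_mem_domQ_iff u' p' chart' hP' t]
  refine Iff.trans ?_ (emb_mem_domQ_iff (_root_.RelProj.QGrHom.ofHom v hv) p chart hP
    (pairId t.U t.hU) (vQ (φQ u t) x)).symm
  exact mem_domOpen_comp_iff _ _ _ (φQ_comp u v hv u' hu' t) x


include hv hu' in
set_option backward.isDefEq.respectTransparency false in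
/-- `Proj(u ∘ v) = Proj(v) ∘ Proj(u)` on `G(u ∘ v)` -/
theorem comp_glue (r : ((_root_.RelProj.domQ u p' chart' : P'.Opens) : Scheme.{u}) ⟶ P)
    (hr : ∀ t : AffPair ψ, cW u p' chart' t ≫ r = pieceW u p chart t)
    (rv : ((_root_.RelProj.domQ (_root_.RelProj.QGrHom.ofHom v hv) p chart : P.Opens) : Scheme.{u}) ⟶ PT)
    (hrv : ∀ s : AffPair (𝟙 Y), cW (_root_.RelProj.QGrHom.ofHom v hv) p chart s ≫ rv =
      pieceW (_root_.RelProj.QGrHom.ofHom v hv) pT chartT s)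
    (r' : ((_root_.RelProj.domQ u' p' chart' : P'.Opens) : Scheme.{u}) ⟶ PT)
    (hr' : ∀ t : AffPair ψ, cW u' p' chart' t ≫ r' = pieceW u' pT chartT t)
    (i : ((_root_.RelProj.domQ u' p' chart' : P'.Opens) : Scheme.{u}) ⟶
      ((_root_.RelProj.domQ u p' chart' : P'.Opens) : Scheme.{u}))
    (hi : i ≫ (_root_.RelProj.domQ u p' chart').ι = (_root_.RelProj.domQ u' p' chart').ι)
    (k : ((_root_.RelProj.domQ u' p' chart' : P'.Opens) : Scheme.{u}) ⟶
      ((_root_.RelProj.domQ (_root_.RelProj.QGrHom.ofHom v hv) p chart : P.Opens) : Scheme.{u}))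
    (hk : k ≫ (_root_.RelProj.domQ (_root_.RelProj.QGrHom.ofHom v hv) p chart).ι = i ≫ r) :
    k ≫ rv = r' := by
  refine hom_ext_W u' p' chart' _ _ fun t => ?_
  have hχ := φQ_comp u v hv u' hu' t
  have hle : Set.range (D u' t).ι.base ⊆ Set.range (D u t).ι.base := by
    rw [Scheme.Opens.range_ι, Scheme.Opens.range_ι]
    exact D_comp_le u v hv u' hu' t
  let it : ((D u' t : (Proj (𝒮'.deg t.U' t.hU')).Opens) : Scheme.{u}) ⟶
      ((D u t : (Proj (𝒮'.deg t.U' t.hU')).Opens) : Scheme.{u}) :=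
    IsOpenImmersion.lift (D u t).ι (D u' t).ι hle
  have hit : it ≫ (D u t).ι = (D u' t).ι := IsOpenImmersion.lift_fac _ _ _
  have hle2 : Set.range (it ≫ vQ (φQ u t)).base ⊆
      Set.range (D (_root_.RelProj.QGrHom.ofHom v hv) (pairId t.U t.hU)).ι.base := by
    rw [Scheme.Opens.range_ι]
    rintro _ ⟨x, rfl⟩
    refine (mem_domOpen_comp_iff _ _ _ hχ (it x)).1 ?_
    rw [← Scheme.Hom.comp_apply, hit]
    exact x.2
  let kt : ((D u' t : (Proj (𝒮'.deg t.U' t.hU')).Opens) : Scheme.{u}) ⟶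
      ((D (_root_.RelProj.QGrHom.ofHom v hv) (pairId t.U t.hU) : (Proj (𝒮.deg t.U t.hU)).Opens) :
        Scheme.{u}) :=
    IsOpenImmersion.lift (D (_root_.RelProj.QGrHom.ofHom v hv) (pairId t.U t.hU)).ι
      (it ≫ vQ (φQ u t)) hle2
  have hkt : kt ≫ (D (_root_.RelProj.QGrHom.ofHom v hv) (pairId t.U t.hU)).ι = it ≫ vQ (φQ u t) :=
    IsOpenImmersion.lift_fac _ _ _
  have e1 : cW u' p' chart' t ≫ i = it ≫ cW u p' chart' t := by
    rw [← cancel_mono (_root_.RelProj.domQ u p' chart').ι, Category.assoc, hi, cW_ι,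
      Category.assoc, cW_ι, reassoc_of% hit]
  have e2 : cW u' p' chart' t ≫ k =
      kt ≫ cW (_root_.RelProj.QGrHom.ofHom v hv) p chart (pairId t.U t.hU) := by
    rw [← cancel_mono (_root_.RelProj.domQ (_root_.RelProj.QGrHom.ofHom v hv) p chart).ι,
      Category.assoc, hk, reassoc_of% e1, hr t, Category.assoc, cW_ι, reassoc_of% hkt]
    rfl
  rw [reassoc_of% e2, hrv, hr' t]
  unfold pieceW
  rw [← Category.assoc]
  congr 1
  exact comp_vQ _ _ _ hχ it hit kt hkt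


include hv hu' hP hPT hP' in
set_option backward.isDefEq.respectTransparency false in
/-- the factorisation of `Proj(u ∘ v)` through `Proj(u)` and `Proj(v)` -/
theorem exists_comp (r : ((_root_.RelProj.domQ u p' chart' : P'.Opens) : Scheme.{u}) ⟶ P)
    (hr : _root_.RelProj.IsProjQMapOn u p chart p' chart' (_root_.RelProj.domQ u p' chart') r)
    (r' : ((_root_.RelProj.domQ u' p' chart' : P'.Opens) : Scheme.{u}) ⟶ PT)
    (hr' : _root_.RelProj.IsProjQMapOn u' pT chartT p' chart' (_root_.RelProj.domQ u' p' chart') r') :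
    ∃ (rv : ((_root_.RelProj.domQ (_root_.RelProj.QGrHom.ofHom v hv) p chart : P.Opens) : Scheme.{u}) ⟶ PT)
      (i : ((_root_.RelProj.domQ u' p' chart' : P'.Opens) : Scheme.{u}) ⟶
        ((_root_.RelProj.domQ u p' chart' : P'.Opens) : Scheme.{u}))
      (k : ((_root_.RelProj.domQ u' p' chart' : P'.Opens) : Scheme.{u}) ⟶
        ((_root_.RelProj.domQ (_root_.RelProj.QGrHom.ofHom v hv) p chart : P.Opens) : Scheme.{u})),
      (∀ s : AffPair (𝟙 Y), cW (_root_.RelProj.QGrHom.ofHom v hv) p chart s ≫ rv =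
        pieceW (_root_.RelProj.QGrHom.ofHom v hv) pT chartT s) ∧
      i ≫ (_root_.RelProj.domQ u p' chart').ι = (_root_.RelProj.domQ u' p' chart').ι ∧
      k ≫ (_root_.RelProj.domQ (_root_.RelProj.QGrHom.ofHom v hv) p chart).ι = i ≫ r ∧
      k ≫ rv = r' ∧
      (∀ z : ((_root_.RelProj.domQ u p' chart' : P'.Opens) : Scheme.{u}),
        (_root_.RelProj.domQ u p' chart').ι z ∈ _root_.RelProj.domQ u' p' chart' ↔
          r z ∈ _root_.RelProj.domQ (_root_.RelProj.QGrHom.ofHom v hv) p chart) := by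
  have hrg := glue_of_isProjQMapOn u p chart p' chart' r hr
  have hrg' := glue_of_isProjQMapOn u' pT chartT p' chart' r' hr'
  obtain ⟨rv, hrv, -⟩ := existsUnique_glueW (_root_.RelProj.QGrHom.ofHom v hv) pT chartT hPT p chart hP
  have hle : Set.range (_root_.RelProj.domQ u' p' chart').ι.base ⊆
      Set.range (_root_.RelProj.domQ u p' chart').ι.base := by
    rw [Scheme.Opens.range_ι, Scheme.Opens.range_ι]
    exact domQ_comp_le u v hv u' hu' p' chart'
  let i : ((_root_.RelProj.domQ u' p' chart' : P'.Opens) : Scheme.{u}) ⟶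
      ((_root_.RelProj.domQ u p' chart' : P'.Opens) : Scheme.{u}) :=
    IsOpenImmersion.lift (_root_.RelProj.domQ u p' chart').ι (_root_.RelProj.domQ u' p' chart').ι hle
  have hi : i ≫ (_root_.RelProj.domQ u p' chart').ι = (_root_.RelProj.domQ u' p' chart').ι :=
    IsOpenImmersion.lift_fac _ _ _
  have hmem := mem_domQ_comp_iff u v hv u' hu' p chart hP p' chart' hP' r hrg
  have hle2 : Set.range (i ≫ r).base ⊆
      Set.range (_root_.RelProj.domQ (_root_.RelProj.QGrHom.ofHom v hv) p chart).ι.base := by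
    rw [Scheme.Opens.range_ι]
    rintro _ ⟨x, rfl⟩
    refine (hmem (i x)).1 ?_
    rw [← Scheme.Hom.comp_apply, hi]
    exact x.2
  let k : ((_root_.RelProj.domQ u' p' chart' : P'.Opens) : Scheme.{u}) ⟶
      ((_root_.RelProj.domQ (_root_.RelProj.QGrHom.ofHom v hv) p chart : P.Opens) : Scheme.{u}) :=
    IsOpenImmersion.lift (_root_.RelProj.domQ (_root_.RelProj.QGrHom.ofHom v hv) p chart).ι (i ≫ r) hle2
  have hk : k ≫ (_root_.RelProj.domQ (_root_.RelProj.QGrHom.ofHom v hv) p chart).ι = i ≫ r :=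
    IsOpenImmersion.lift_fac _ _ _
  exact ⟨rv, i, k, hrv, hi, hk,
    comp_glue u v hv u' hu' p chart pT chartT p' chart' r hrg rv hrv r' hrg' i hi k hk, hmem⟩

end Groth.Agent.Lib.Helper28.ProjQComp
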