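import Groth.Agent.Lib.Helper28.ConeImm
import Groth.Agent.Lib.Helper28.ProjQComp

set_option autoImplicit false
universe u
open CategoryTheory CategoryTheory.Limits AlgebraicGeometry Opposite TopologicalSpace
open scoped HomogeneousIdeal
open HomogeneousLocalization
noncomputable section

namespace Groth.Agent.Lib.Helper28.ConeFunct

open Groth.Agent.Lib.Helper28.RelProjBC (AffPair cover)
open Groth.Agent.Lib.Helper28.RelProjQ (mkSite le_of_site map_emb φQ gradedAt_res exists_refine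
  mem_range_emb cover')
open Groth.Agent.Lib.Helper28.ProjQ
open Groth.Agent.Lib.Helper28.ProjQRel
open Groth.Agent.Lib.Helper28.ProjQCone
open Groth.Agent.Lib.Helper28.ConeImm

section ring
variable {A σ : Type u} [CommRing A] [SetLike σ A] [AddSubgroupClass σ A] {𝒜 : ℕ → σ} [GradedRing 𝒜]
variable {B τ : Type u} [CommRing B] [SetLike τ B] [AddSubgroupClass τ B] {ℬ : ℕ → τ} [GradedRing ℬ]
variable (φ : 𝒜 →+*ᵍ ℬ)

set_option backward.isDefEq.respectTransparency false in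
/-- the partial morphism `Proj(φ)` on points: homogeneous elements -/
theorem mem_vQ_iff (x : (RelCone.domOpen φ : Scheme.{u})) {d : ℕ} {g : A} (hg : g ∈ 𝒜 d) :
    g ∈ (vQ φ x).asHomogeneousIdeal ↔ φ g ∈ ((RelCone.domOpen φ).ι x).asHomogeneousIdeal := by
  have h := preimage_basicOpen φ hg
  have h' : x ∈ vQ φ ⁻¹ᵁ Proj.basicOpen 𝒜 g ↔ x ∈ (RelCone.domOpen φ).ι ⁻¹ᵁ Proj.basicOpen ℬ (φ g) := by
    rw [h]
  rw [← not_iff_not]
  exact h'

end ring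

section rel
variable {Y Y' PC PC' : Scheme.{u}} {q : Y' ⟶ Y}
    {𝒮 : _root_.RelProj.QCGrAlg Y} {𝒮' : _root_.RelProj.QCGrAlg Y'}
    (u : _root_.RelProj.QGrHom q 𝒮 𝒮')
    {𝒮h : _root_.RelProj.QCGrAlg Y} {ι : 𝒮.toQCAlg ⟶ 𝒮h.toQCAlg} {z : 𝒮h.presheaf.obj (op ⊤)}
    (hz : RelCone.IsPolyOver 𝒮 𝒮h ι z)
    (pC : PC ⟶ Y) (chartC : ∀ (U : Y.Opens) (hU : IsAffineOpen U), (((pC ⁻¹ᵁ U : PC.Opens) : Scheme.{u}) ≅ Proj (𝒮h.deg U hU)))
    (hC : _root_.RelProj.IsRelProj 𝒮h pC chartC)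
    {𝒮h' : _root_.RelProj.QCGrAlg Y'} {ι' : 𝒮'.toQCAlg ⟶ 𝒮h'.toQCAlg} {z' : 𝒮h'.presheaf.obj (op ⊤)}
    (hz' : RelCone.IsPolyOver 𝒮' 𝒮h' ι' z')
    (pC' : PC' ⟶ Y') (chartC' : ∀ (U : Y'.Opens) (hU : IsAffineOpen U), (((pC' ⁻¹ᵁ U : PC'.Opens) : Scheme.{u}) ≅ Proj (𝒮h'.deg U hU)))
    (hC' : _root_.RelProj.IsRelProj 𝒮h' pC' chartC')
    (uh : _root_.RelProj.QGrHom q 𝒮h 𝒮h')
    (huh : ∀ U : Y.Opens, ι.hom.app (op U) ≫ uh.app U = u.app U ≫ ι'.hom.app (op (q ⁻¹ᵁ U)))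
    (huhz : (uh.app ⊤).hom z = RelCone.restrictTop 𝒮h' z' (q ⁻¹ᵁ ⊤))

include huh in
/-- `φ̂ ∘ ι = ι' ∘ φ` over a pair -/
theorem φQ_uh_χ (t : AffPair q) (f : 𝒮.presheaf.obj (op t.U)) :
    φQ uh t (χ hz t.U t.hU f) = χ hz' t.U' t.hU' (φQ u t f) := by
  change (𝒮h'.presheaf.map (homOfLE t.hle).op).hom ((uh.app t.U).hom ((ι.hom.app (op t.U)).hom f)) =
    (ι'.hom.app (op t.U')).hom ((𝒮'.presheaf.map (homOfLE t.hle).op).hom ((u.app t.U).hom f))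
  have h1 := congrArg (fun k => k.hom f) (huh t.U)
  have h2 : (uh.app t.U).hom ((ι.hom.app (op t.U)).hom f) =
      (ι'.hom.app (op (q ⁻¹ᵁ t.U))).hom ((u.app t.U).hom f) := h1
  rw [h2]
  exact congrArg (fun k => k.hom ((u.app t.U).hom f)) (ι'.hom.naturality (homOfLE t.hle).op).symm

include huhz in
/-- `φ̂(z) = z'` over a pair -/
theorem φQ_uh_z (t : AffPair q) :
    φQ uh t (RelCone.restrictTop 𝒮h z t.U) = RelCone.restrictTop 𝒮h' z' t.U' := by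
  change (𝒮h'.presheaf.map (homOfLE t.hle).op).hom
    ((uh.app t.U).hom ((𝒮h.presheaf.map (homOfLE le_top).op).hom z)) =
      (𝒮h'.presheaf.map (homOfLE le_top).op).hom z'
  have h1 := congrArg (fun k => k.hom z) (uh.naturality (le_top : t.U ≤ ⊤))
  have h2 : (uh.app t.U).hom ((𝒮h.presheaf.map (homOfLE le_top).op).hom z) =
      (𝒮h'.presheaf.map (homOfLE (q.preimage_mono (le_top : t.U ≤ ⊤))).op).hom ((uh.app ⊤).hom z) :=
    h1.symm
  rw [h2, huhz]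
  change (𝒮h'.presheaf.map _).hom ((𝒮h'.presheaf.map _).hom ((𝒮h'.presheaf.map _).hom z')) = _
  rw [← CommRingCat.comp_apply, ← CommRingCat.comp_apply, ← Functor.map_comp, ← Functor.map_comp]
  rfl

variable (Φh : ((_root_.RelProj.domQ uh pC' chartC' : PC'.Opens) : Scheme.{u}) ⟶ PC)
    (hΦh : _root_.RelProj.IsProjQMapOn uh pC chartC pC' chartC' (_root_.RelProj.domQ uh pC' chartC') Φh)

include hΦh in
set_option backward.isDefEq.respectTransparency false in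
theorem Φh_apply (t : AffPair q)
    (x : ((D uh t : (Proj (𝒮h'.deg t.U' t.hU')).Opens) : Scheme.{u})) :
    Φh (cW uh pC' chartC' t x) = _root_.RelProj.emb pC chartC t.U t.hU (vQ (φQ uh t) x) := by
  rw [← Scheme.Hom.comp_apply, glue_of_isProjQMapOn uh pC chartC pC' chartC' Φh hΦh t]
  rfl

include hC huh in
set_option backward.isDefEq.respectTransparency false in
/-- **(L)**: when `Φ̂` of a point lies in the pointed projective cone -/
theorem emb_vQ_mem_iff (t : AffPair q)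
    (x : ((D uh t : (Proj (𝒮h'.deg t.U' t.hU')).Opens) : Scheme.{u})) :
    _root_.RelProj.emb pC chartC t.U t.hU (vQ (φQ uh t) x) ∈ RelCone.pointedProjCone 𝒮 hz pC chartC ↔
      ∃ d : ℕ, 0 < d ∧ ∃ f ∈ 𝒮.deg t.U t.hU d,
        χ hz' t.U' t.hU' (φQ u t f) ∉ ((D uh t).ι x).asHomogeneousIdeal := by
  rw [emb_mem_pointedProjCone_iff hz pC chartC hC, mem_dom_iff]
  constructor
  · rintro ⟨d, hd, f, hf, hfx⟩
    refine ⟨d, hd, f, hf, fun h => hfx ((mem_vQ_iff (φQ uh t) x ((χ hz t.U t.hU).2 hf)).2 ?_)⟩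
    exact Eq.mpr (congrArg (fun y => y ∈ ((D uh t).ι x).asHomogeneousIdeal)
      (φQ_uh_χ u hz hz' uh huh t f)) h
  · rintro ⟨d, hd, f, hf, hfx⟩
    refine ⟨d, hd, f, hf, fun h => hfx ?_⟩
    have h2 := (mem_vQ_iff (φQ uh t) x ((χ hz t.U t.hU).2 hf)).1 h
    exact Eq.mp (congrArg (fun y => y ∈ ((D uh t).ι x).asHomogeneousIdeal)
      (φQ_uh_χ u hz hz' uh huh t f)) h2

include hC hC' huh hΦh in
set_option backward.isDefEq.respectTransparency false in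
/-- `Φ̂⁻¹(Ê) ⊆ Ê'` -/
theorem preimage_le :
    (_root_.RelProj.domQ uh pC' chartC').ι ''ᵁ (Φh ⁻¹ᵁ RelCone.pointedProjCone 𝒮 hz pC chartC) ≤
      RelCone.pointedProjCone 𝒮' hz' pC' chartC' := by
  rintro _ ⟨v, hv, rfl⟩
  obtain ⟨t, x, rfl⟩ := cover_W uh pC' chartC' v
  have hv' : Φh (cW uh pC' chartC' t x) ∈ RelCone.pointedProjCone 𝒮 hz pC chartC := hv
  rw [Φh_apply pC chartC pC' chartC' uh Φh hΦh t x,
    emb_vQ_mem_iff u hz pC chartC hC hz' uh huh t x] at hv'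
  obtain ⟨d, hd, f, hf, hfx⟩ := hv'
  change (_root_.RelProj.domQ uh pC' chartC').ι (cW uh pC' chartC' t x) ∈
    RelCone.pointedProjCone 𝒮' hz' pC' chartC'
  rw [cW_apply, emb_mem_pointedProjCone_iff hz' pC' chartC' hC', mem_dom_iff]
  exact ⟨d, hd, φQ u t f, (φQ u t).2 hf, hfx⟩


section total
variable {P' : Scheme.{u}} (p' : P' ⟶ Y')
    (chart' : ∀ (U : Y'.Opens) (hU : IsAffineOpen U), (((p' ⁻¹ᵁ U : P'.Opens) : Scheme.{u}) ≅ Proj (𝒮'.deg U hU)))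
    (hP' : _root_.RelProj.IsRelProj 𝒮' p' chart')

include hP' in
set_option backward.isDefEq.respectTransparency false in
theorem exists_of_mem_domOpen_χ' (hdom : _root_.RelProj.domQ u p' chart' = ⊤) (t : AffPair q)
    (y' : Proj (𝒮h'.deg t.U' t.hU')) (hy' : y' ∈ RelCone.domOpen (χ hz' t.U' t.hU')) :
    ∃ d : ℕ, 0 < d ∧ ∃ f ∈ 𝒮.deg t.U t.hU d,
      χ hz' t.U' t.hU' (φQ u t f) ∉ y'.asHomogeneousIdeal := by
  have h1 : vQ (χ hz' t.U' t.hU') ⟨y', hy'⟩ ∈ D u t := by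
    rw [← ProjQComp.emb_mem_domQ_iff u p' chart' hP' t, hdom]
    trivial
  obtain ⟨d, hd, f, hf, hfq⟩ := (mem_dom_iff _ _).1 h1
  refine ⟨d, hd, f, hf, fun h => hfq ?_⟩
  exact (mem_vQ_iff (χ hz' t.U' t.hU') ⟨y', hy'⟩ ((φQ u t).2 hf)).2 h

include hz hz' hP' huh huhz in
set_option backward.isDefEq.respectTransparency false in
theorem mem_D_uh (hdom : _root_.RelProj.domQ u p' chart' = ⊤) (t : AffPair q)
    (y' : Proj (𝒮h'.deg t.U' t.hU')) : y' ∈ D uh t := by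
  by_cases hzy : RelCone.restrictTop 𝒮h' z' t.U' ∈ y'.asHomogeneousIdeal
  · have hy' : y' ∈ RelCone.domOpen (χ hz' t.U' t.hU') := by
      by_contra h
      exact ConeRing.z_notMem (χ hz' t.U' t.hU') _ (hz'.deg_z t.U' t.hU') (bij_ev hz' t.U' t.hU') y' h hzy
    obtain ⟨d, hd, f, hf, hfx⟩ := exists_of_mem_domOpen_χ' u hz' p' chart' hP' hdom t y' hy'
    refine (mem_dom_iff _ _).2 ⟨d, hd, χ hz t.U t.hU f, (χ hz t.U t.hU).2 hf, fun h => hfx ?_⟩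
    exact Eq.mp (congrArg (fun y => y ∈ y'.asHomogeneousIdeal) (φQ_uh_χ u hz hz' uh huh t f)) h
  · refine (mem_dom_iff _ _).2 ⟨1, one_pos, RelCone.restrictTop 𝒮h z t.U, hz.deg_z t.U t.hU,
      fun h => hzy ?_⟩
    exact Eq.mp (congrArg (fun y => y ∈ y'.asHomogeneousIdeal) (φQ_uh_z uh huhz t)) h

include hz hz' hP' huh huhz in
theorem domQ_uh_eq_top (hdom : _root_.RelProj.domQ u p' chart' = ⊤) :
    _root_.RelProj.domQ uh pC' chartC' = ⊤ := by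
  rw [eq_top_iff]
  intro w _
  obtain ⟨t, y', rfl⟩ := cover' (ψ := q) pC' chartC' w
  exact emb_mem_domQ uh pC' chartC' t y' (mem_D_uh u hz hz' uh huh huhz p' chart' hP' hdom t y')

include hC hC' hP' huh huhz hΦh in
set_option backward.isDefEq.respectTransparency false in
theorem preimage_eq (hdom : _root_.RelProj.domQ u p' chart' = ⊤) :
    (_root_.RelProj.domQ uh pC' chartC').ι ''ᵁ (Φh ⁻¹ᵁ RelCone.pointedProjCone 𝒮 hz pC chartC) =
      RelCone.pointedProjCone 𝒮' hz' pC' chartC' := by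
  refine le_antisymm (preimage_le u hz pC chartC hC hz' pC' chartC' hC' uh huh Φh hΦh) ?_
  intro w hw
  obtain ⟨t, y', rfl⟩ := cover' (ψ := q) pC' chartC' w
  have hy' : y' ∈ RelCone.domOpen (χ hz' t.U' t.hU') :=
    (emb_mem_pointedProjCone_iff hz' pC' chartC' hC' t.U' t.hU' y').1 hw
  have hyD := mem_D_uh u hz hz' uh huh huhz p' chart' hP' hdom t y'
  refine ⟨cW uh pC' chartC' t ⟨y', hyD⟩, ?_, cW_apply uh pC' chartC' t ⟨y', hyD⟩⟩
  change Φh (cW uh pC' chartC' t ⟨y', hyD⟩) ∈ RelCone.pointedProjCone 𝒮 hz pC chartC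
  rw [Φh_apply pC chartC pC' chartC' uh Φh hΦh t ⟨y', hyD⟩,
    emb_vQ_mem_iff u hz pC chartC hC hz' uh huh t ⟨y', hyD⟩]
  exact exists_of_mem_domOpen_χ' u hz' p' chart' hP' hdom t y' hy'

end total

end rel

end Groth.Agent.Lib.Helper28.ConeFunct
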