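import Groth.Agent.Lib.Helper28.ConeFunct
import Groth.Agent.Lib.Helper28.ProjQComp2

set_option autoImplicit false
universe u
open CategoryTheory CategoryTheory.Limits AlgebraicGeometry Opposite TopologicalSpace
open scoped HomogeneousIdeal
open HomogeneousLocalization
noncomputable section

namespace Groth.Agent.Lib.Helper28.ConeFunct2

open Groth.Agent.Lib.Helper28.RelProjBC (AffPair cover)
open Groth.Agent.Lib.Helper28.RelProjQ (mkSite le_of_site map_emb φQ gradedAt_res exists_refine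
  mem_range_emb cover')
open Groth.Agent.Lib.Helper28.ProjQ
open Groth.Agent.Lib.Helper28.ProjQRel
open Groth.Agent.Lib.Helper28.ProjQCone
open Groth.Agent.Lib.Helper28.ConeImm

section congr
variable {Y Y' : Scheme.{u}} {ψ : Y' ⟶ Y} {𝒮 : _root_.RelProj.QCGrAlg Y} {𝒮' : _root_.RelProj.QCGrAlg Y'}
  (u : _root_.RelProj.QGrHom ψ 𝒮 𝒮')
variable {P P' : Scheme.{u}} (p : P ⟶ Y)
  (chart : ∀ (U : Y.Opens) (hU : IsAffineOpen U), (((p ⁻¹ᵁ U : P.Opens) : Scheme.{u}) ≅ Proj (𝒮.deg U hU)))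
  (p' : P' ⟶ Y')
  (chart' : ∀ (U' : Y'.Opens) (hU' : IsAffineOpen U'), (((p' ⁻¹ᵁ U' : P'.Opens) : Scheme.{u}) ≅ Proj (𝒮'.deg U' hU')))

set_option backward.isDefEq.respectTransparency false in
/-- transport of the partial-morphism predicate along an equality of opens -/
theorem isProjQMapOn_of_eq {W W' : P'.Opens} (h : W' = W) (r : (W : Scheme.{u}) ⟶ P)
    (hr : _root_.RelProj.IsProjQMapOn u p chart p' chart' W r) :
    _root_.RelProj.IsProjQMapOn u p chart p' chart' W' ((P'.isoOfEq h).hom ≫ r) := by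
  subst h
  rw [Scheme.isoOfEq_rfl, Iso.refl_hom, Category.id_comp]
  exact hr

end congr

section cone
variable {Y : Scheme.{u}} {𝒮 𝒮h : _root_.RelProj.QCGrAlg Y}
  {ι : 𝒮.toQCAlg ⟶ 𝒮h.toQCAlg} {z : 𝒮h.presheaf.obj (op ⊤)} (hz : RelCone.IsPolyOver 𝒮 𝒮h ι z)
variable {PC P : Scheme.{u}} (pC : PC ⟶ Y)
  (chartC : ∀ (U : Y.Opens) (hU : IsAffineOpen U), (((pC ⁻¹ᵁ U : PC.Opens) : Scheme.{u}) ≅ Proj (𝒮h.deg U hU)))
  (hPC : _root_.RelProj.IsRelProj 𝒮h pC chartC)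
  (p : P ⟶ Y)
  (chart : ∀ (U : Y.Opens) (hU : IsAffineOpen U), (((p ⁻¹ᵁ U : P.Opens) : Scheme.{u}) ≅ Proj (𝒮.deg U hU)))

set_option backward.isDefEq.respectTransparency false in
/-- the retraction, in `IsProjQMapOn` form, is glued from the pieces -/
theorem glue_of_retraction
    (r : ((RelCone.pointedProjCone 𝒮 hz pC chartC : PC.Opens) : Scheme.{u}) ⟶ P)
    (hr : _root_.RelProj.IsProjQMapOn (uι hz) p chart pC chartC
      (RelCone.pointedProjCone 𝒮 hz pC chartC) r) (t : AffPair (𝟙 Y)) :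
    cW (uι hz) pC chartC t ≫ (eE hz pC chartC hPC).inv ≫ r = pieceW (uι hz) p chart t := by
  have h1 := isProjQMapOn_of_eq (uι hz) p chart pC chartC
    (pointedProjCone_eq_domQ hz pC chartC hPC).symm r hr
  have h2 : (PC.isoOfEq (pointedProjCone_eq_domQ hz pC chartC hPC).symm).hom =
      (eE hz pC chartC hPC).inv := by
    rw [← cancel_mono (RelCone.pointedProjCone 𝒮 hz pC chartC).ι, eE_inv_ι, Scheme.isoOfEq_hom_ι]
  rw [h2] at h1
  exact glue_of_isProjQMapOn (uι hz) p chart pC chartC _ h1 t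

end cone

section comm
variable {Y Y' PC PC' : Scheme.{u}} {q : Y' ⟶ Y}
    {𝒮 : _root_.RelProj.QCGrAlg Y} {𝒮' : _root_.RelProj.QCGrAlg Y'}
    (u : _root_.RelProj.QGrHom q 𝒮 𝒮')
    {𝒮h : _root_.RelProj.QCGrAlg Y} {ι : 𝒮.toQCAlg ⟶ 𝒮h.toQCAlg} {z : 𝒮h.presheaf.obj (op ⊤)}
    (hz : RelCone.IsPolyOver 𝒮 𝒮h ι z)
    (pC : PC ⟶ Y) (chartC : ∀ (U : Y.Opens) (hU : IsAffineOpen U), (((pC ⁻¹ᵁ U : PC.Opens) : Scheme.{u}) ≅ Proj (𝒮h.deg U hU)))
    (hC : _root_.RelProj.IsRelProj 𝒮h pC chartC)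
    {𝒮h' : _root_.RelProj.QCGrAlg Y'} {ι' : 𝒮'.toQCAlg ⟶ 𝒮h'.toQCAlg} {z' : 𝒮h'.presheaf.obj (op ⊤)}
    (hz' : RelCone.IsPolyOver 𝒮' 𝒮h' ι' z')
    (pC' : PC' ⟶ Y') (chartC' : ∀ (U : Y'.Opens) (hU : IsAffineOpen U), (((pC' ⁻¹ᵁ U : PC'.Opens) : Scheme.{u}) ≅ Proj (𝒮h'.deg U hU)))
    (hC' : _root_.RelProj.IsRelProj 𝒮h' pC' chartC')
    (uh : _root_.RelProj.QGrHom q 𝒮h 𝒮h')
    (huh : ∀ U : Y.Opens, ι.hom.app (op U) ≫ uh.app U = u.app U ≫ ι'.hom.app (op (q ⁻¹ᵁ U)))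

/-- the composite graded `q`-morphism `𝒮 → 𝒮[z] → q_* 𝒮'[z]` -/
def wHom : _root_.RelProj.QGrHom q 𝒮 𝒮h' where
  app U := ι.hom.app (op U) ≫ uh.app U
  naturality := by
    intro U V i
    rw [Category.assoc, uh.naturality i, ← Category.assoc, ← Category.assoc]
    congr 1
    exact (ι.hom.naturality (homOfLE i).op).symm
  str_app := by
    intro U
    rw [← Category.assoc]
    have h1 : 𝒮.str.app (op U) ≫ ι.hom.app (op U) = 𝒮h.str.app (op U) :=
      congrArg (fun k => k.app (op U)) ι.comm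
    rw [h1]
    exact uh.str_app U
  map_mem := by
    intro U hU U' hU' hle d x hx
    exact uh.map_mem U hU U' hU' hle (hz.graded U hU d x hx)

section main
variable {P P' : Scheme.{u}} (p : P ⟶ Y)
    (chart : ∀ (U : Y.Opens) (hU : IsAffineOpen U), (((p ⁻¹ᵁ U : P.Opens) : Scheme.{u}) ≅ Proj (𝒮.deg U hU)))
    (hP : _root_.RelProj.IsRelProj 𝒮 p chart)
    (p' : P' ⟶ Y')
    (chart' : ∀ (U : Y'.Opens) (hU : IsAffineOpen U), (((p' ⁻¹ᵁ U : P'.Opens) : Scheme.{u}) ≅ Proj (𝒮'.deg U hU)))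
    (hP' : _root_.RelProj.IsRelProj 𝒮' p' chart')
    (Φh : ((_root_.RelProj.domQ uh pC' chartC' : PC'.Opens) : Scheme.{u}) ⟶ PC)
    (hΦh : _root_.RelProj.IsProjQMapOn uh pC chartC pC' chartC' (_root_.RelProj.domQ uh pC' chartC') Φh)
    (Φ : ((_root_.RelProj.domQ u p' chart' : P'.Opens) : Scheme.{u}) ⟶ P)
    (hΦ : _root_.RelProj.IsProjQMapOn u p chart p' chart' (_root_.RelProj.domQ u p' chart') Φ)
    (r : ((RelCone.pointedProjCone 𝒮 hz pC chartC : PC.Opens) : Scheme.{u}) ⟶ P)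
    (hr : _root_.RelProj.IsProjQMapOn (uι hz) p chart pC chartC (RelCone.pointedProjCone 𝒮 hz pC chartC) r)
    (r' : ((RelCone.pointedProjCone 𝒮' hz' pC' chartC' : PC'.Opens) : Scheme.{u}) ⟶ P')
    (hr' : _root_.RelProj.IsProjQMapOn (uι hz') p' chart' pC' chartC' (RelCone.pointedProjCone 𝒮' hz' pC' chartC') r')

include hC hC' hP hP' huh hΦh hΦ hr hr' in
set_option backward.isDefEq.respectTransparency false in
set_option maxHeartbeats 1600000 in
theorem retraction_comm (T : Scheme.{u})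
    (a : T ⟶ ((RelCone.pointedProjCone 𝒮' hz' pC' chartC' : PC'.Opens) : Scheme.{u}))
    (b : T ⟶ ((_root_.RelProj.domQ uh pC' chartC' : PC'.Opens) : Scheme.{u}))
    (c : T ⟶ ((RelCone.pointedProjCone 𝒮 hz pC chartC : PC.Opens) : Scheme.{u}))
    (hab : a ≫ (RelCone.pointedProjCone 𝒮' hz' pC' chartC').ι = b ≫ (_root_.RelProj.domQ uh pC' chartC').ι)
    (hbc : b ≫ Φh = c ≫ (RelCone.pointedProjCone 𝒮 hz pC chartC).ι) :
    Set.range (a ≫ r').base ⊆ ((_root_.RelProj.domQ u p' chart' : P'.Opens) : Set P') ∧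
      ∀ d : T ⟶ ((_root_.RelProj.domQ u p' chart' : P'.Opens) : Scheme.{u}),
        a ≫ r' = d ≫ (_root_.RelProj.domQ u p' chart').ι → c ≫ r = d ≫ Φ := by
  let w := wHom hz uh
  have hw1 : ∀ U : Y.Opens, w.app U = ι.hom.app (op U) ≫ uh.app U := fun U => rfl
  have hw2 : ∀ U : Y.Opens, w.app U = u.app U ≫ ι'.hom.app (op (q ⁻¹ᵁ U)) := fun U => huh U
  have gΦh := glue_of_isProjQMapOn uh pC chartC pC' chartC' Φh hΦh
  have gΦ := glue_of_isProjQMapOn u p chart p' chart' Φ hΦ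
  have gr := glue_of_retraction hz pC chartC hC p chart r hr
  have gr' := glue_of_retraction hz' pC' chartC' hC' p' chart' r' hr'
  obtain ⟨rw, hrw, -⟩ := existsUnique_glueW w p chart hP pC' chartC' hC'
  -- (A)
  have hleA : Set.range (_root_.RelProj.domQ w pC' chartC').ι.base ⊆
      Set.range (_root_.RelProj.domQ uh pC' chartC').ι.base := by
    rw [Scheme.Opens.range_ι, Scheme.Opens.range_ι]
    exact ProjQComp.domQ_comp_le uh ι hz.graded w hw1 pC' chartC'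
  let iA : ((_root_.RelProj.domQ w pC' chartC' : PC'.Opens) : Scheme.{u}) ⟶
      ((_root_.RelProj.domQ uh pC' chartC' : PC'.Opens) : Scheme.{u}) :=
    IsOpenImmersion.lift (_root_.RelProj.domQ uh pC' chartC').ι (_root_.RelProj.domQ w pC' chartC').ι hleA
  have hiA : iA ≫ (_root_.RelProj.domQ uh pC' chartC').ι = (_root_.RelProj.domQ w pC' chartC').ι :=
    IsOpenImmersion.lift_fac _ _ _
  have hmemA := ProjQComp.mem_domQ_comp_iff uh ι hz.graded w hw1 pC chartC hC pC' chartC' hC' Φh gΦh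
  have hleA2 : Set.range (iA ≫ Φh).base ⊆
      Set.range (_root_.RelProj.domQ (uι hz) pC chartC).ι.base := by
    rw [Scheme.Opens.range_ι]
    rintro _ ⟨x, rfl⟩
    refine (hmemA (iA x)).1 ?_
    rw [← Scheme.Hom.comp_apply, hiA]
    exact x.2
  let kA : ((_root_.RelProj.domQ w pC' chartC' : PC'.Opens) : Scheme.{u}) ⟶
      ((_root_.RelProj.domQ (uι hz) pC chartC : PC.Opens) : Scheme.{u}) :=
    IsOpenImmersion.lift (_root_.RelProj.domQ (uι hz) pC chartC).ι (iA ≫ Φh) hleA2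
  have hkA : kA ≫ (_root_.RelProj.domQ (uι hz) pC chartC).ι = iA ≫ Φh :=
    IsOpenImmersion.lift_fac _ _ _
  have cA : kA ≫ (eE hz pC chartC hC).inv ≫ r = rw :=
    ProjQComp.comp_glue uh ι hz.graded w hw1 pC chartC p chart pC' chartC' Φh gΦh
      ((eE hz pC chartC hC).inv ≫ r) gr rw hrw iA hiA kA hkA
  -- (B)
  have hleB : Set.range (_root_.RelProj.domQ w pC' chartC').ι.base ⊆
      Set.range (_root_.RelProj.domQ (uι hz') pC' chartC').ι.base := by
    rw [Scheme.Opens.range_ι, Scheme.Opens.range_ι]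
    exact ProjQComp2.domQ_comp_le' u ι' hz'.graded w hw2 pC' chartC'
  let iB : ((_root_.RelProj.domQ w pC' chartC' : PC'.Opens) : Scheme.{u}) ⟶
      ((_root_.RelProj.domQ (uι hz') pC' chartC' : PC'.Opens) : Scheme.{u}) :=
    IsOpenImmersion.lift (_root_.RelProj.domQ (uι hz') pC' chartC').ι
      (_root_.RelProj.domQ w pC' chartC').ι hleB
  have hiB : iB ≫ (_root_.RelProj.domQ (uι hz') pC' chartC').ι =
      (_root_.RelProj.domQ w pC' chartC').ι := IsOpenImmersion.lift_fac _ _ _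
  have hmemB := ProjQComp2.mem_domQ_comp_iff' u ι' hz'.graded w hw2 p' chart' hP' pC' chartC' hC'
    ((eE hz' pC' chartC' hC').inv ≫ r') gr'
  have hleB2 : Set.range (iB ≫ (eE hz' pC' chartC' hC').inv ≫ r').base ⊆
      Set.range (_root_.RelProj.domQ u p' chart').ι.base := by
    rw [Scheme.Opens.range_ι]
    rintro _ ⟨x, rfl⟩
    refine (hmemB (iB x)).1 ?_
    rw [← Scheme.Hom.comp_apply, hiB]
    exact x.2
  let kB : ((_root_.RelProj.domQ w pC' chartC' : PC'.Opens) : Scheme.{u}) ⟶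
      ((_root_.RelProj.domQ u p' chart' : P'.Opens) : Scheme.{u}) :=
    IsOpenImmersion.lift (_root_.RelProj.domQ u p' chart').ι
      (iB ≫ (eE hz' pC' chartC' hC').inv ≫ r') hleB2
  have hkB : kB ≫ (_root_.RelProj.domQ u p' chart').ι = iB ≫ (eE hz' pC' chartC' hC').inv ≫ r' :=
    IsOpenImmersion.lift_fac _ _ _
  have cB : kB ≫ Φ = rw :=
    ProjQComp2.comp_glue' u ι' hz'.graded w hw2 p chart p' chart' pC' chartC' Φ gΦ
      ((eE hz' pC' chartC' hC').inv ≫ r') gr' rw hrw iB hiB kB hkB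
  -- the `T`-valued point of `G(w)`
  have hm : Set.range (b ≫ (_root_.RelProj.domQ uh pC' chartC').ι).base ⊆
      Set.range (_root_.RelProj.domQ w pC' chartC').ι.base := by
    rw [Scheme.Opens.range_ι]
    rintro _ ⟨τ, rfl⟩
    rw [Scheme.Hom.comp_apply]
    refine (hmemA (b τ)).2 ?_
    rw [← Scheme.Hom.comp_apply, hbc, ← pointedProjCone_eq_domQ hz pC chartC hC]
    exact (c τ).2
  let m : T ⟶ ((_root_.RelProj.domQ w pC' chartC' : PC'.Opens) : Scheme.{u}) :=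
    IsOpenImmersion.lift (_root_.RelProj.domQ w pC' chartC').ι
      (b ≫ (_root_.RelProj.domQ uh pC' chartC').ι) hm
  have hmι : m ≫ (_root_.RelProj.domQ w pC' chartC').ι = b ≫ (_root_.RelProj.domQ uh pC' chartC').ι :=
    IsOpenImmersion.lift_fac _ _ _
  have hmiA : m ≫ iA = b := by
    rw [← cancel_mono (_root_.RelProj.domQ uh pC' chartC').ι, Category.assoc, hiA, hmι]
  have hmkA : m ≫ kA = c ≫ (eE hz pC chartC hC).hom := by
    rw [← cancel_mono (_root_.RelProj.domQ (uι hz) pC chartC).ι, Category.assoc, hkA,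
      reassoc_of% hmiA, hbc, Category.assoc, eE_hom_ι]
  have hmiB : m ≫ iB = a ≫ (eE hz' pC' chartC' hC').hom := by
    rw [← cancel_mono (_root_.RelProj.domQ (uι hz') pC' chartC').ι, Category.assoc, hiB, hmι,
      Category.assoc, eE_hom_ι, hab]
  have hmkB : (m ≫ kB) ≫ (_root_.RelProj.domQ u p' chart').ι = a ≫ r' := by
    rw [Category.assoc, hkB, reassoc_of% hmiB, Iso.hom_inv_id_assoc]
  constructor
  · rintro _ ⟨τ, rfl⟩
    rw [← hmkB, Scheme.Hom.comp_apply]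
    exact ((m ≫ kB) τ).2
  · intro d hd
    have hmd : m ≫ kB = d := by
      rw [← cancel_mono (_root_.RelProj.domQ u p' chart').ι, hmkB, hd]
    calc c ≫ r = (c ≫ (eE hz pC chartC hC).hom) ≫ (eE hz pC chartC hC).inv ≫ r := by
          rw [Category.assoc, Iso.hom_inv_id_assoc]
      _ = m ≫ kA ≫ (eE hz pC chartC hC).inv ≫ r := by rw [← hmkA, Category.assoc]
      _ = m ≫ rw := by rw [cA]
      _ = m ≫ kB ≫ Φ := by rw [cB]
      _ = d ≫ Φ := by rw [← Category.assoc, hmd]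

end main

end comm

end Groth.Agent.Lib.Helper28.ConeFunct2
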