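import Groth.Agent.Lib.Helper28.ProjChart

set_option autoImplicit false
universe u
open CategoryTheory CategoryTheory.Limits AlgebraicGeometry Opposite TopologicalSpace
open HomogeneousLocalization
noncomputable section

namespace Groth.Agent.Lib.Helper28.ProjKer

open Groth.Agent.Lib.Helper28.ProjChart

/-- the kernel ideal of `Spec` of an injective ring map vanishes -/
theorem specMap_ker_ideal_top {R S : CommRingCat.{u}} (φ : R ⟶ S) (hφ : Function.Injective φ.hom) :
    (Spec.map φ).ker.ideal ⟨⊤, isAffineOpen_top _⟩ = ⊥ := by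
  rw [Scheme.Hom.ker_apply, eq_bot_iff]
  intro x hx
  rw [RingHom.mem_ker] at hx
  rw [Ideal.mem_bot]
  have h1 := Scheme.ΓSpecIso_naturality φ
  have h2 : (Scheme.ΓSpecIso S).hom.hom ((Spec.map φ).appTop.hom x) = 0 := by
    have : (Spec.map φ).appTop.hom x = 0 := hx
    rw [this, map_zero]
  rw [← CommRingCat.comp_apply, h1, CommRingCat.comp_apply] at h2
  have h3 := hφ (h2.trans (map_zero _).symm)
  exact (ConcreteCategory.bijective_of_isIso (Scheme.ΓSpecIso R).hom).1 (h3.trans (map_zero _).symm)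

variable {A : Type u} [CommRing A] {σ : Type*} [SetLike σ A] [AddSubgroupClass σ A]
  (𝒜 : ℕ → σ) [GradedRing 𝒜]

/-- localising away from a regular homogeneous element is injective on degree zero parts -/
theorem awayMap_injective {e d : ℕ} {g z x : A} (hg : g ∈ 𝒜 e) (hz : z ∈ 𝒜 d) (hx : x = g * z)
    (hreg : ∀ b : A, z * b = 0 → b = 0) : Function.Injective (awayMap 𝒜 hz hx) := by
  rw [injective_iff_map_eq_zero]
  intro q hq
  obtain ⟨n, a, ha, rfl⟩ := Away.mk_surjective 𝒜 hg q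
  rw [awayMap_mk] at hq
  have h1 := congrArg HomogeneousLocalization.val hq
  rw [Away.val_mk, HomogeneousLocalization.val_zero, Localization.mk_eq_mk', IsLocalization.mk'_eq_zero_iff] at h1
  obtain ⟨⟨c, m, rfl⟩, hc⟩ := h1
  apply HomogeneousLocalization.val_injective
  rw [Away.val_mk, HomogeneousLocalization.val_zero, Localization.mk_eq_mk', IsLocalization.mk'_eq_zero_iff]
  refine ⟨⟨g ^ m, m, rfl⟩, ?_⟩
  have hreg' : ∀ (k : ℕ) (b : A), z ^ k * b = 0 → b = 0 := by
    intro k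
    induction k with
    | zero => intro b hb; simpa using hb
    | succ k ih =>
      intro b hb
      apply ih
      apply hreg
      rw [← mul_assoc, ← pow_succ']
      exact hb
  apply hreg' (m + n)
  have : z ^ (m + n) * (g ^ m * a) = x ^ m * (a * z ^ n) := by
    rw [hx, mul_pow, pow_add]; ring
  rw [this]
  exact hc

theorem isAffineHom_awayι {d : ℕ} (hd : 0 < d) {f : A} (hf : f ∈ 𝒜 d) :
    IsAffineHom (Proj.awayι 𝒜 f hf hd) := by
  have : IsAffineHom (Proj.awayι 𝒜 f hf hd ≫ Proj.toSpecZero 𝒜) := by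
    rw [Proj.awayι_toSpecZero]
    infer_instance
  exact IsAffineHom.of_comp _ (Proj.toSpecZero 𝒜)

set_option backward.isDefEq.respectTransparency false in
/-- two standard charts of `Proj` meet in the standard chart of the product -/
theorem isPullback_awayι {e d : ℕ} {g z : A} (hg : g ∈ 𝒜 e) (hz : z ∈ 𝒜 d) (he : 0 < e)
    (hd : 0 < d) :
    IsPullback (Spec.map (CommRingCat.ofHom (awayMap 𝒜 hz (rfl : g * z = g * z))))
      (Spec.map (CommRingCat.ofHom (awayMap 𝒜 hg (mul_comm g z))))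
      (Proj.awayι 𝒜 g hg he) (Proj.awayι 𝒜 z hz hd) := by
  have ho : IsOpenImmersion (Spec.map (CommRingCat.ofHom (awayMap 𝒜 hg (mul_comm g z)))) := by
    have : IsOpenImmersion (Spec.map (CommRingCat.ofHom (awayMap 𝒜 hg (mul_comm g z))) ≫
        Proj.awayι 𝒜 z hz hd) := by
      rw [Proj.SpecMap_awayMap_awayι]; infer_instance
    exact IsOpenImmersion.of_comp _ (Proj.awayι 𝒜 z hz hd)
  refine IsOpenImmersion.isPullback _ _ _ _ ?_ ?_
  · rw [Proj.SpecMap_awayMap_awayι, Proj.SpecMap_awayMap_awayι]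
    have key : ∀ (k k' : ℕ) (_ : k = k') (h1 : g * z ∈ 𝒜 k) (h2 : 0 < k) (h1' : g * z ∈ 𝒜 k')
        (h2' : 0 < k'), Proj.awayι 𝒜 (g * z) h1 h2 = Proj.awayι 𝒜 (g * z) h1' h2' := by
      intro k k' hk
      subst hk
      intros
      rfl
    exact key _ _ (add_comm _ _) _ _ _ _
  · rw [Proj.opensRange_awayι]
    ext t
    change Proj.awayι 𝒜 z hz hd t ∈ Proj.basicOpen 𝒜 g ↔
      t ∈ Set.range (Spec.map (CommRingCat.ofHom (awayMap 𝒜 hg (mul_comm g z))))
    rw [range_specMap_awayMap 𝒜 hz hg hd.ne' (mul_comm g z), awayι_mem_basicOpen_iff 𝒜 hz hg hd]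


/-- an ideal whose preimage under a ring isomorphism vanishes is zero -/
theorem eq_bot_of_comap_iso_eq_bot {R S : CommRingCat.{u}} (e : R ≅ S) (I : Ideal R)
    (h : I.comap e.inv.hom = ⊥) : I = ⊥ := by
  rw [eq_bot_iff]
  intro x hx
  have h1 : e.hom.hom x ∈ I.comap e.inv.hom := by
    rw [Ideal.mem_comap, ← CommRingCat.comp_apply, e.hom_inv_id]
    exact hx
  rw [h, Ideal.mem_bot] at h1
  rw [Ideal.mem_bot]
  exact (ConcreteCategory.bijective_of_isIso e.hom).1 (h1.trans (map_zero _).symm)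

set_option backward.isDefEq.respectTransparency false in
/-- the standard chart `D₊(z) ⟶ Proj` of a regular element is scheme-theoretically dense -/
theorem ker_awayι_eq_bot {d : ℕ} (hd : 0 < d) {z : A} (hz : z ∈ 𝒜 d)
    (hreg : ∀ b : A, z * b = 0 → b = 0) : (Proj.awayι 𝒜 z hz hd).ker = ⊥ := by
  have haff := isAffineHom_awayι 𝒜 hd hz
  refine Scheme.IdealSheafData.ext_of_iSup_eq_top
    (fun s : (Proj.affineOpenCover 𝒜).I₀ =>
      (⟨(Proj.awayι 𝒜 s.2.1 s.2.2 s.1.2) ''ᵁ ⊤,
        (isAffineOpen_top _).image_of_isOpenImmersion _⟩ : (Proj 𝒜).affineOpens)) ?_ fun s => ?_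
  · rw [eq_top_iff]
    intro x _
    obtain ⟨s, y, hy⟩ := (Proj.affineOpenCover 𝒜).openCover.exists_eq x
    exact Opens.mem_iSup.2 ⟨s, y, trivial, hy⟩
  · have H := isPullback_awayι 𝒜 s.2.2 hz s.1.2 hd
    have h1 := Scheme.ker_ideal_of_isPullback_of_isOpenImmersion
      (Proj.awayι 𝒜 z hz hd) _ _ (Proj.awayι 𝒜 s.2.1 s.2.2 s.1.2) H ⟨⊤, isAffineOpen_top _⟩
    rw [specMap_ker_ideal_top _ (awayMap_injective 𝒜 s.2.2 hz rfl hreg)] at h1
    rw [Scheme.IdealSheafData.ideal_bot]
    exact eq_bot_of_comap_iso_eq_bot _ _ h1.symm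


end Groth.Agent.Lib.Helper28.ProjKer
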