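import Groth.Agent.Lib.Helper28.ConeImm
import Groth.Agent.Lib.Helper28.ProjKer

set_option autoImplicit false
universe u
open CategoryTheory CategoryTheory.Limits AlgebraicGeometry Opposite TopologicalSpace
open scoped HomogeneousIdeal
open HomogeneousLocalization
noncomputable section

namespace Groth.Agent.Lib.Helper28.ConeGlue

open Groth.Agent.Lib.Helper28.RelProjQ (mkSite le_of_site map_emb mem_range_emb)
open Groth.Agent.Lib.Helper28.ConeImm (spec_hom_ext mem_range_ι_iff)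
open Groth.Agent.Lib.Helper28.PolyExt

section ring
variable {A B : Type u} [CommRing A] [CommRing B] {𝒜 : ℕ → AddSubgroup A} {ℬ : ℕ → AddSubgroup B}
  [GradedRing 𝒜] [GradedRing ℬ] (ι : 𝒜 →+*ᵍ ℬ) (z : B) (hz : z ∈ ℬ 1)

include hz in
/-- ring homomorphisms out of `ℬ_(z)` are determined on the basic fractions -/
theorem hom_ext_fr {R : Type u} [CommRing R] (hinj : Function.Injective (ev ι z))
    (hsurj : Function.Surjective (ev ι z)) (f g : Away ℬ z →+* R)
    (h : ∀ (k : ℕ) (x : A), f (ConeRing.fr ι z hz k x) = g (ConeRing.fr ι z hz k x)) : f = g := by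
  ext q
  obtain ⟨k, y, hy, rfl⟩ := Away.mk_surjective ℬ hz q
  obtain ⟨p, rfl⟩ := hsurj y
  rw [ConeRing.mk_eq_sum ι z hz hinj p hy, map_sum, map_sum]
  exact Finset.sum_congr rfl fun j _ => h _ _

variable {A' B' : Type u} [CommRing A'] [CommRing B'] {𝒜' : ℕ → AddSubgroup A'}
  {ℬ' : ℕ → AddSubgroup B'} [GradedRing 𝒜'] [GradedRing ℬ']

/-- the charts `Spec A ⟶ D₊(z) ⊆ Proj ℬ` are compatible with graded homomorphisms -/
theorem chart_compat (φ : ℬ →+*ᵍ ℬ') (hφ : ℬ'₊ ≤ (ℬ₊).map φ)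
    (θ : Away ℬ z →+* A) (θ' : Away ℬ' (φ z) →+* A') (ρ : A →+* A')
    (H : ∀ q, ρ (θ q) = θ' (Away.map φ z q)) :
    Spec.map (CommRingCat.ofHom ρ) ≫ Spec.map (CommRingCat.ofHom θ) ≫ Proj.awayι ℬ z hz one_pos =
      Spec.map (CommRingCat.ofHom θ') ≫ Proj.awayι ℬ' (φ z) (φ.2 hz) one_pos ≫ Proj.map φ hφ := by
  rw [Proj.awayι_comp_map φ hφ one_pos z hz, ← Spec.map_comp_assoc, ← Spec.map_comp_assoc]
  congr 2
  ext q
  exact H q

include hz in
/-- "set `z = 1`" is compatible with graded homomorphisms of the presentations -/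
theorem compat_graded (ι' : 𝒜' →+*ᵍ ℬ') (φ : ℬ →+*ᵍ ℬ') (ρ : 𝒜 →+*ᵍ 𝒜')
    (hsq : ∀ a, φ (ι a) = ι' (ρ a)) (hbij : Function.Bijective (ev ι z))
    (θ : Away ℬ z →+* A)
    (hθ : ∀ (q : Away ℬ z) (k : ℕ) (x : A), x ∈ 𝒜 k →
      q.val = Localization.mk (ι x) (⟨z ^ k, pow_mem (Submonoid.mem_powers z) k⟩ : Submonoid.powers z) →
        θ q = x)
    (θ' : Away ℬ' (φ z) →+* A')
    (hθ' : ∀ (q : Away ℬ' (φ z)) (k : ℕ) (x : A'), x ∈ 𝒜' k →
      q.val = Localization.mk (ι' x)
        (⟨φ z ^ k, pow_mem (Submonoid.mem_powers (φ z)) k⟩ : Submonoid.powers (φ z)) → θ' q = x)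
    (q : Away ℬ z) : ρ (θ q) = θ' (Away.map φ z q) := by
  have h : (ρ : A →+* A').comp θ = θ'.comp (Away.map φ z) := by
    refine hom_ext_fr ι z hz hbij.1 hbij.2 _ _ fun k x => ?_
    rw [RingHom.comp_apply, RingHom.comp_apply, ConeRing.a0_fr ι z hz θ hθ]
    symm
    refine hθ' _ k _ (ρ.2 (SetLike.coe_mem _)) ?_
    unfold ConeRing.fr
    rw [Away.map_mk, Away.val_mk]
    congr 1
    exact hsq _
  exact congrArg (fun k => k q) h

end ring

section rel
variable {Y : Scheme.{u}}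

set_option backward.isDefEq.respectTransparency false in
/-- morphisms out of the relative spectrum are glued from compatible morphisms on the charts -/
theorem spec_desc {Z : Scheme.{u}} (A : RelSpec.QCAlg Y)
    (g : ∀ (U : Y.Opens) (hU : IsAffineOpen U), Spec (A.presheaf.obj (op U)) ⟶ Z)
    (hg : ∀ (U : Y.Opens) (hU : IsAffineOpen U) (r : Γ(Y, U)),
      Spec.map (A.presheaf.map (homOfLE (Y.basicOpen_le r)).op) ≫ g U hU =
        g (Y.basicOpen r) (hU.basicOpen r)) :
    ∃ f : A.spec ⟶ Z, ∀ (U : Y.Opens) (hU : IsAffineOpen U), A.ι U hU ≫ f = g U hU := by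
  let c : Cocone A.glueData.functor :=
    { pt := Z
      ι :=
        { app := fun U => g U.1 U.2
          naturality := by
            intro V U i
            obtain ⟨U, hU⟩ := U
            obtain ⟨V, hV⟩ := V
            obtain ⟨r, hr⟩ := i.le
            change Y.basicOpen r = V at hr
            subst hr
            simp only [Functor.const_obj_obj, Functor.const_obj_map, Category.comp_id]
            exact hg U hU r } }
  exact ⟨colimit.desc A.glueData.functor c, fun U hU => colimit.ι_desc c ⟨U, hU⟩⟩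


variable {𝒮 Sh : _root_.RelProj.QCGrAlg Y} (ι : 𝒮.toQCAlg ⟶ Sh.toQCAlg) (hι : _root_.RelProj.IsGradedHom ι)
  (z : Sh.presheaf.obj (op ⊤))
  (hz : ∀ (U : Y.Opens) (hU : IsAffineOpen U), RelCone.restrictTop Sh z U ∈ Sh.deg U hU 1)
  (hpoly : ∀ (U : Y.Opens) (hU : IsAffineOpen U),
    Function.Bijective (Polynomial.eval₂RingHom (ι.hom.app (op U)).hom (RelCone.restrictTop Sh z U)))
variable {PC : Scheme.{u}} (pC : PC ⟶ Y)
  (chartC : ∀ (U : Y.Opens) (hU : IsAffineOpen U), (((pC ⁻¹ᵁ U : PC.Opens) : Scheme.{u}) ≅ Proj (Sh.deg U hU)))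
  (hPC : _root_.RelProj.IsRelProj Sh pC chartC)
  (θ : ∀ (U : Y.Opens) (hU : IsAffineOpen U),
    CommRingCat.of (HomogeneousLocalization.Away (Sh.deg U hU) (RelCone.restrictTop Sh z U)) ⟶
      𝒮.presheaf.obj (op U))
  (hθ : ∀ (U : Y.Opens) (hU : IsAffineOpen U)
    (q : HomogeneousLocalization.Away (Sh.deg U hU) (RelCone.restrictTop Sh z U))
    (k : ℕ) (x : 𝒮.presheaf.obj (op U)), x ∈ 𝒮.deg U hU k →
      q.val = Localization.mk ((ι.hom.app (op U)).hom x)
        ⟨RelCone.restrictTop Sh z U ^ k,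
          pow_mem (Submonoid.mem_powers (RelCone.restrictTop Sh z U)) k⟩ →
      (θ U hU).hom q = x)

/-- the chart morphisms of the cone immersion -/
def gU (U : Y.Opens) (hU : IsAffineOpen U) : Spec (𝒮.presheaf.obj (op U)) ⟶ PC :=
  Spec.map (θ U hU) ≫
    Proj.awayι (Sh.deg U hU) (RelCone.restrictTop Sh z U) (hz U hU) one_pos ≫
      _root_.RelProj.emb pC chartC U hU

theorem restrictTop_res (U : Y.Opens) (hU : IsAffineOpen U) (r : Γ(Y, U)) :
    Sh.res hU (hU.basicOpen r) (Y.basicOpen_le r) (RelCone.restrictTop Sh z U) =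
      RelCone.restrictTop Sh z (Y.basicOpen r) := by
  change (Sh.presheaf.map _).hom ((Sh.presheaf.map _).hom z) = (Sh.presheaf.map _).hom z
  rw [← CommRingCat.comp_apply, ← Functor.map_comp]
  rfl

include hι hpoly hPC hθ in
set_option backward.isDefEq.respectTransparency false in
theorem gU_compat (U : Y.Opens) (hU : IsAffineOpen U) (r : Γ(Y, U)) :
    Spec.map (𝒮.presheaf.map (homOfLE (Y.basicOpen_le r)).op) ≫ gU z hz pC chartC θ U hU =
      gU z hz pC chartC θ (Y.basicOpen r) (hU.basicOpen r) := by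
  unfold gU
  rw [← _root_.RelProj.map_res_emb hPC U hU r]
  have key : ∀ (zV : Sh.presheaf.obj (op (Y.basicOpen r)))
      (hzz : Sh.res hU (hU.basicOpen r) (Y.basicOpen_le r) (RelCone.restrictTop Sh z U) = zV)
      (hzV : zV ∈ Sh.deg (Y.basicOpen r) (hU.basicOpen r) 1)
      (θV : CommRingCat.of (HomogeneousLocalization.Away (Sh.deg (Y.basicOpen r) (hU.basicOpen r)) zV) ⟶
        𝒮.presheaf.obj (op (Y.basicOpen r)))
      (hθV : ∀ (q : HomogeneousLocalization.Away (Sh.deg (Y.basicOpen r) (hU.basicOpen r)) zV)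
        (k : ℕ) (x : 𝒮.presheaf.obj (op (Y.basicOpen r))), x ∈ 𝒮.deg (Y.basicOpen r) (hU.basicOpen r) k →
          q.val = Localization.mk ((ι.hom.app (op (Y.basicOpen r))).hom x)
            ⟨zV ^ k, pow_mem (Submonoid.mem_powers zV) k⟩ → θV.hom q = x),
      Spec.map (𝒮.presheaf.map (homOfLE (Y.basicOpen_le r)).op) ≫ Spec.map (θ U hU) ≫
        Proj.awayι (Sh.deg U hU) (RelCone.restrictTop Sh z U) (hz U hU) one_pos ≫
          _root_.RelProj.emb pC chartC U hU =
      Spec.map θV ≫ Proj.awayι (Sh.deg (Y.basicOpen r) (hU.basicOpen r)) zV hzV one_pos ≫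
        Proj.map (Sh.res hU (hU.basicOpen r) (Y.basicOpen_le r)) (Sh.irrelevant_le_map U hU r) ≫
          _root_.RelProj.emb pC chartC U hU := by
    intro zV hzz
    subst hzz
    intro hzV θV hθV
    have h := chart_compat (RelCone.restrictTop Sh z U) (hz U hU)
      (Sh.res hU (hU.basicOpen r) (Y.basicOpen_le r)) (Sh.irrelevant_le_map U hU r)
      (θ U hU).hom θV.hom (𝒮.presheaf.map (homOfLE (Y.basicOpen_le r)).op).hom
      (compat_graded (_root_.RelProj.gradedHomAt ι hι U hU) _ (hz U hU)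
        (_root_.RelProj.gradedHomAt ι hι (Y.basicOpen r) (hU.basicOpen r))
        (Sh.res hU (hU.basicOpen r) (Y.basicOpen_le r))
        (𝒮.res hU (hU.basicOpen r) (Y.basicOpen_le r))
        (fun a => congrArg (fun k => k.hom a) (ι.hom.naturality (homOfLE (Y.basicOpen_le r)).op).symm)
        (hpoly U hU) (θ U hU).hom (hθ U hU) θV.hom hθV)
    have h' := congrArg (fun k => k ≫ _root_.RelProj.emb pC chartC U hU) h
    simp only [Category.assoc] at h'
    exact h'
  exact key _ (restrictTop_res z U hU r) (hz _ _) (θ _ _) (hθ _ _)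

end rel
section rel2
variable {Y : Scheme.{u}}
variable {𝒮 Sh : _root_.RelProj.QCGrAlg Y} (ι : 𝒮.toQCAlg ⟶ Sh.toQCAlg) (hι : _root_.RelProj.IsGradedHom ι)
  (z : Sh.presheaf.obj (op ⊤))
  (hz : ∀ (U : Y.Opens) (hU : IsAffineOpen U), RelCone.restrictTop Sh z U ∈ Sh.deg U hU 1)
  (hpoly : ∀ (U : Y.Opens) (hU : IsAffineOpen U),
    Function.Bijective (Polynomial.eval₂RingHom (ι.hom.app (op U)).hom (RelCone.restrictTop Sh z U)))
variable {PC : Scheme.{u}} (pC : PC ⟶ Y)
  (chartC : ∀ (U : Y.Opens) (hU : IsAffineOpen U), (((pC ⁻¹ᵁ U : PC.Opens) : Scheme.{u}) ≅ Proj (Sh.deg U hU)))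
  (hPC : _root_.RelProj.IsRelProj Sh pC chartC)
  (θ : ∀ (U : Y.Opens) (hU : IsAffineOpen U),
    CommRingCat.of (HomogeneousLocalization.Away (Sh.deg U hU) (RelCone.restrictTop Sh z U)) ⟶
      𝒮.presheaf.obj (op U))
  (hθ : ∀ (U : Y.Opens) (hU : IsAffineOpen U)
    (q : HomogeneousLocalization.Away (Sh.deg U hU) (RelCone.restrictTop Sh z U))
    (k : ℕ) (x : 𝒮.presheaf.obj (op U)), x ∈ 𝒮.deg U hU k →
      q.val = Localization.mk ((ι.hom.app (op U)).hom x)
        ⟨RelCone.restrictTop Sh z U ^ k,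
          pow_mem (Submonoid.mem_powers (RelCone.restrictTop Sh z U)) k⟩ →
      (θ U hU).hom q = x)

include hι hpoly hPC hθ in
/-- existence and uniqueness of the cone immersion -/
theorem existsUnique_coneImm :
    ∃! i : 𝒮.toQCAlg.spec ⟶ PC, ∀ (U : Y.Opens) (hU : IsAffineOpen U),
      𝒮.toQCAlg.ι U hU ≫ i = gU z hz pC chartC θ U hU := by
  obtain ⟨i, hi⟩ := spec_desc 𝒮.toQCAlg (gU z hz pC chartC θ)
    (gU_compat ι hι z hz hpoly pC chartC hPC θ hθ)
  refine ⟨i, hi, fun i' hi' => ?_⟩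
  refine spec_hom_ext 𝒮.toQCAlg _ _ fun U hU => ?_
  rw [hi U hU, hi' U hU]

variable (i : 𝒮.toQCAlg.spec ⟶ PC)
  (hi : ∀ (U : Y.Opens) (hU : IsAffineOpen U), 𝒮.toQCAlg.ι U hU ≫ i = gU z hz pC chartC θ U hU)

include hι hθ hz hpoly in
theorem θ_bijective (U : Y.Opens) (hU : IsAffineOpen U) : Function.Bijective (θ U hU).hom :=
  ⟨ConeRing.injective_a0 (_root_.RelProj.gradedHomAt ι hι U hU) _ (hz U hU) _ (hθ U hU) (hpoly U hU),
    ConeRing.surjective_a0 (_root_.RelProj.gradedHomAt ι hι U hU) _ (hz U hU) _ (hθ U hU)⟩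

include hθ hPC hi in
set_option backward.isDefEq.respectTransparency false in
/-- the cone immersion lies over the base -/
theorem i_comp_pC : i ≫ pC = 𝒮.toQCAlg.π := by
  refine spec_hom_ext 𝒮.toQCAlg _ _ fun U hU => ?_
  rw [reassoc_of% (hi U hU), 𝒮.toQCAlg.ι_π]
  unfold gU
  simp only [Category.assoc]
  rw [← RelProjBC.αP_ι Sh pC chartC hPC U hU]
  unfold RelProjBC.αP
  simp only [Category.assoc, IsAffineOpen.isoSpec_inv_ι]
  rw [Proj.awayι_toSpecZero_assoc, ← Spec.map_comp_assoc, ← Spec.map_comp_assoc]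
  congr 2
  ext r
  refine hθ U hU _ 0 _ (𝒮.str_mem U hU r) ?_
  have e : (ι.hom.app (op U)).hom ((𝒮.str.app (op U)).hom r) = (Sh.str.app (op U)).hom r :=
    congrArg (fun t => (t.app (op U)).hom r) ι.comm
  rw [e]
  change Localization.mk ((Sh.str.app (op U)).hom r) 1 = _
  congr 1
  exact Subtype.ext (pow_zero _).symm

include hθ hPC hi in
set_option backward.isDefEq.respectTransparency false in
/-- the charts of the affine cone are the pullbacks of the charts of the projective cone -/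
theorem isPullback_chart (U : Y.Opens) (hU : IsAffineOpen U) :
    IsPullback (Spec.map (θ U hU) ≫
        Proj.awayι (Sh.deg U hU) (RelCone.restrictTop Sh z U) (hz U hU) one_pos)
      (𝒮.toQCAlg.ι U hU) (_root_.RelProj.emb pC chartC U hU) i := by
  refine IsOpenImmersion.isPullback _ _ _ _ ?_ ?_
  · rw [hi U hU]
    unfold gU
    simp only [Category.assoc]
  · rw [RelProjBC.opensRange_emb Sh pC chartC U hU, ← Scheme.Hom.comp_preimage,
      i_comp_pC ι z hz pC chartC hPC θ hθ i hi, 𝒮.toQCAlg.π_preimage U hU]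

include hθ hPC hi in
set_option backward.isDefEq.respectTransparency false in
theorem isPullback_chart' (U : Y.Opens) (hU : IsAffineOpen U) :
    IsPullback ((Spec.map (θ U hU) ≫
        Proj.awayι (Sh.deg U hU) (RelCone.restrictTop Sh z U) (hz U hU) one_pos) ≫ (chartC U hU).inv)
      (𝒮.toQCAlg.ι U hU) (pC ⁻¹ᵁ U).ι i := by
  refine IsOpenImmersion.isPullback _ _ _ _ ?_ ?_
  · rw [hi U hU]
    unfold gU _root_.RelProj.emb
    simp only [Category.assoc]
  · rw [Scheme.Opens.opensRange_ι, ← Scheme.Hom.comp_preimage,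
      i_comp_pC ι z hz pC chartC hPC θ hθ i hi, 𝒮.toQCAlg.π_preimage U hU]

include hθ hPC hi in
set_option backward.isDefEq.respectTransparency false in
/-- target-local, iso-invariant properties of the cone immersion, chartwise -/
theorem of_chart (Pr : MorphismProperty Scheme.{u}) [IsZariskiLocalAtTarget Pr]
    (H : ∀ (U : Y.Opens) (hU : IsAffineOpen U), Pr (Spec.map (θ U hU) ≫
        Proj.awayι (Sh.deg U hU) (RelCone.restrictTop Sh z U) (hz U hU) one_pos)) : Pr i := by
  have hcov : IsOpenCover (fun U : Y.affineOpens => pC ⁻¹ᵁ U.1) := by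
    rw [IsOpenCover, eq_top_iff]
    intro x _
    have hx : pC x ∈ (⊤ : Y.Opens) := trivial
    rw [← iSup_affineOpens_eq_top Y] at hx
    obtain ⟨U, hxU⟩ := Opens.mem_iSup.1 hx
    exact Opens.mem_iSup.2 ⟨U, hxU⟩
  refine ProjMap.of_isPullback_openCover Pr i (PC.openCoverOfIsOpenCover _ hcov)
    (fun U => Spec (𝒮.presheaf.obj (op U.1)))
    (fun U => 𝒮.toQCAlg.ι U.1 U.2)
    (fun U => (Spec.map (θ U.1 U.2) ≫
        Proj.awayι (Sh.deg U.1 U.2) (RelCone.restrictTop Sh z U.1) (hz U.1 U.2) one_pos) ≫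
          (chartC U.1 U.2).inv)
    (fun U => isPullback_chart' ι z hz pC chartC hPC θ hθ i hi U.1 U.2) (fun U => ?_)
  rw [Pr.cancel_right_of_respectsIso]
  exact H U.1 U.2

include hι hpoly hθ hz in
theorem isIso_specMap_θ (U : Y.Opens) (hU : IsAffineOpen U) : IsIso (Spec.map (θ U hU)) := by
  have : IsIso (θ U hU) := by
    rw [ConcreteCategory.isIso_iff_bijective]
    exact θ_bijective ι hι z hz hpoly θ hθ U hU
  infer_instance

include hι hpoly hθ hPC hi in
set_option backward.isDefEq.respectTransparency false in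
theorem isOpenImmersion_i : IsOpenImmersion i := by
  refine of_chart ι z hz pC chartC hPC θ hθ i hi @IsOpenImmersion fun U hU => ?_
  have := isIso_specMap_θ ι hι z hz hpoly θ hθ U hU
  infer_instance

include hι hpoly hθ hPC hi in
set_option backward.isDefEq.respectTransparency false in
theorem isAffineHom_i : IsAffineHom i := by
  refine of_chart ι z hz pC chartC hPC θ hθ i hi @IsAffineHom fun U hU => ?_
  have := isIso_specMap_θ ι hι z hz hpoly θ hθ U hU
  have := ProjKer.isAffineHom_awayι (Sh.deg U hU) one_pos (hz U hU)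
  infer_instance


include hpoly in
/-- the section `z` is regular -/
theorem z_regular (U : Y.Opens) (hU : IsAffineOpen U) (b : Sh.presheaf.obj (op U))
    (hb : RelCone.restrictTop Sh z U * b = 0) : b = 0 := by
  obtain ⟨p, rfl⟩ := (hpoly U hU).2 b
  have h1 : Polynomial.eval₂RingHom (ι.hom.app (op U)).hom (RelCone.restrictTop Sh z U)
      (Polynomial.X * p) = 0 := by
    rw [map_mul]
    have : Polynomial.eval₂RingHom (ι.hom.app (op U)).hom (RelCone.restrictTop Sh z U)
        Polynomial.X = RelCone.restrictTop Sh z U := Polynomial.eval₂_X _ _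
    rw [this]
    exact hb
  have h2 := (hpoly U hU).1 (h1.trans (map_zero _).symm)
  have h3 : p = 0 := by
    ext n
    have := congrArg (fun q => q.coeff (n + 1)) h2
    simpa [Polynomial.coeff_X_mul] using this
  rw [h3, map_zero]


include hι hpoly hθ hPC hi in
set_option backward.isDefEq.respectTransparency false in
/-- the cone immersion is scheme-theoretically dense -/
theorem ker_i_eq_bot : i.ker = ⊥ := by
  have haff := isAffineHom_i ι hι z hz hpoly pC chartC hPC θ hθ i hi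
  refine Scheme.IdealSheafData.ext_of_iSup_eq_top
    (fun s : Σ U : Y.affineOpens, (Proj (Sh.deg U.1 U.2)).affineOpens =>
      (⟨_root_.RelProj.emb pC chartC s.1.1 s.1.2 ''ᵁ s.2.1,
        s.2.2.image_of_isOpenImmersion _⟩ : PC.affineOpens)) ?_ fun s => ?_
  · rw [eq_top_iff]
    intro w _
    obtain ⟨U, hU, hwU, -⟩ := Opens.isBasis_iff_nbhd.1 Y.isBasis_affineOpens
      (show pC w ∈ (⊤ : Y.Opens) from trivial)
    obtain ⟨y, rfl⟩ := (mem_range_emb pC chartC U hU w).2 hwU
    obtain ⟨W, hW, hyW, -⟩ := Opens.isBasis_iff_nbhd.1 (Proj (Sh.deg U hU)).isBasis_affineOpens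
      (show y ∈ (⊤ : (Proj (Sh.deg U hU)).Opens) from trivial)
    exact Opens.mem_iSup.2 ⟨⟨⟨U, hU⟩, ⟨W, hW⟩⟩, y, hyW, rfl⟩
  · obtain ⟨⟨U, hU⟩, W⟩ := s
    have H := isPullback_chart ι z hz pC chartC hPC θ hθ i hi U hU
    have h1 := Scheme.ker_ideal_of_isPullback_of_isOpenImmersion i _ _
      (_root_.RelProj.emb pC chartC U hU) H W
    have := isIso_specMap_θ ι hι z hz hpoly θ hθ U hU
    rw [Scheme.Hom.ker_comp_of_isIso,
      ProjKer.ker_awayι_eq_bot (Sh.deg U hU) one_pos (hz U hU) (z_regular ι z hpoly U hU),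
      Scheme.IdealSheafData.ideal_bot] at h1
    exact ProjKer.eq_bot_of_comap_iso_eq_bot _ _ h1.symm


include hi in
theorem i_ι_apply (U : Y.Opens) (hU : IsAffineOpen U) (x : Spec (𝒮.presheaf.obj (op U))) :
    i (𝒮.toQCAlg.ι U hU x) = _root_.RelProj.emb pC chartC U hU
      (Proj.awayι (Sh.deg U hU) (RelCone.restrictTop Sh z U) (hz U hU) one_pos
        (Spec.map (θ U hU) x)) := by
  rw [← Scheme.Hom.comp_apply, hi U hU]
  rfl

include hι hpoly hθ hi in
set_option backward.isDefEq.respectTransparency false in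
/-- the image of the cone immersion is the open where `z` does not vanish -/
theorem range_i (Xz : PC.Opens)
    (hXz : ∀ (U : Y.Opens) (hU : IsAffineOpen U),
      Xz ⊓ pC ⁻¹ᵁ U = (pC ⁻¹ᵁ U).ι ''ᵁ ((chartC U hU).hom ⁻¹ᵁ
        Proj.basicOpen (Sh.deg U hU) (RelCone.restrictTop Sh z U))) :
    Set.range i.base = (Xz : Set PC) := by
  ext w
  constructor
  · rintro ⟨c, rfl⟩
    obtain ⟨U, hU, x, rfl⟩ := ConeImm.exists_ι c
    rw [i_ι_apply z hz pC chartC θ i hi]
    have h1 : _root_.RelProj.emb pC chartC U hU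
        (Proj.awayι (Sh.deg U hU) (RelCone.restrictTop Sh z U) (hz U hU) one_pos
          (Spec.map (θ U hU) x)) ∈ Xz ⊓ pC ⁻¹ᵁ U := by
      rw [hXz U hU]
      refine ⟨(chartC U hU).inv (Proj.awayι (Sh.deg U hU) (RelCone.restrictTop Sh z U) (hz U hU) one_pos
          (Spec.map (θ U hU) x)), ?_, rfl⟩
      change (chartC U hU).hom ((chartC U hU).inv _) ∈ Proj.basicOpen _ _
      rw [← Scheme.Hom.comp_apply, Iso.inv_hom_id]
      change Proj.awayι _ _ _ _ _ ∈ Proj.basicOpen _ _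
      rw [← Proj.opensRange_awayι (Sh.deg U hU) _ (hz U hU) one_pos]
      exact ⟨_, rfl⟩
    exact h1.1
  · intro hw
    obtain ⟨U, hU, hwU, -⟩ := Opens.isBasis_iff_nbhd.1 Y.isBasis_affineOpens
      (show pC w ∈ (⊤ : Y.Opens) from trivial)
    have h1 : w ∈ Xz ⊓ pC ⁻¹ᵁ U := ⟨hw, hwU⟩
    rw [hXz U hU] at h1
    obtain ⟨v, hv, rfl⟩ := h1
    have hv' : (chartC U hU).hom v ∈ Proj.basicOpen (Sh.deg U hU) (RelCone.restrictTop Sh z U) := hv
    rw [← Proj.opensRange_awayι (Sh.deg U hU) _ (hz U hU) one_pos] at hv'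
    obtain ⟨t, ht⟩ := hv'
    have := isIso_specMap_θ ι hι z hz hpoly θ hθ U hU
    have hs : Surjective (Spec.map (θ U hU)) := inferInstance
    obtain ⟨x, rfl⟩ := hs.surj t
    refine ⟨𝒮.toQCAlg.ι U hU x, ?_⟩
    rw [i_ι_apply z hz pC chartC θ i hi, ht]
    change (pC ⁻¹ᵁ U).ι ((chartC U hU).inv ((chartC U hU).hom v)) = _
    rw [← Scheme.Hom.comp_apply (chartC U hU).hom, Iso.hom_inv_id]
    rfl


end rel2

end Groth.Agent.Lib.Helper28.ConeGlue
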