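import Groth.Agent.Lib.Helper28.ConeFunct2
import Groth.Agent.Lib.Helper28.ConeGlue

set_option autoImplicit false
universe u
open CategoryTheory CategoryTheory.Limits AlgebraicGeometry Opposite TopologicalSpace
open scoped HomogeneousIdeal
open HomogeneousLocalization
noncomputable section

namespace Groth.Agent.Lib.Helper28.ConeFunct3

open Groth.Agent.Lib.Helper28.RelProjBC (AffPair cover)
open Groth.Agent.Lib.Helper28.RelProjQ (mkSite le_of_site map_emb φQ gradedAt_res exists_refine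
  mem_range_emb cover')
open Groth.Agent.Lib.Helper28.ProjQ
open Groth.Agent.Lib.Helper28.ProjQRel
open Groth.Agent.Lib.Helper28.ProjQCone
open Groth.Agent.Lib.Helper28.ConeImm
open Groth.Agent.Lib.Helper28.ConeFunct

section pairs
variable {Y Y' : Scheme.{u}} (ψ : Y' ⟶ Y)

set_option backward.isDefEq.respectTransparency false in
/-- morphisms out of a relative spectrum over `Y'` are determined on the charts over affine pairs -/
theorem spec_hom_ext_pairs {Z : Scheme.{u}} (A' : RelSpec.QCAlg Y') (f g : A'.spec ⟶ Z)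
    (h : ∀ t : AffPair ψ, A'.ι t.U' t.hU' ≫ f = A'.ι t.U' t.hU' ≫ g) : f = g := by
  have hc : ∀ x : A'.spec, ∃ t : AffPair ψ, x ∈ Set.range (A'.ι t.U' t.hU') := by
    intro x
    obtain ⟨t, ht⟩ := cover ψ (A'.π x)
    rw [Scheme.Opens.range_ι] at ht
    refine ⟨t, ?_⟩
    have : x ∈ A'.π ⁻¹ᵁ t.U' := ht
    rw [A'.π_preimage t.U' t.hU'] at this
    exact this
  exact (Glue.cov (fun t : AffPair ψ => Spec (A'.presheaf.obj (op t.U')))
    (fun t => A'.ι t.U' t.hU') hc).hom_ext _ _ h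

end pairs

section imm
variable {Y Y' PC PC' : Scheme.{u}} {q : Y' ⟶ Y}
    {𝒮 : _root_.RelProj.QCGrAlg Y} {𝒮' : _root_.RelProj.QCGrAlg Y'}
    (u : _root_.RelProj.QGrHom q 𝒮 𝒮')
    {𝒮h : _root_.RelProj.QCGrAlg Y} {ι : 𝒮.toQCAlg ⟶ 𝒮h.toQCAlg} {z : 𝒮h.presheaf.obj (op ⊤)}
    (hz : RelCone.IsPolyOver 𝒮 𝒮h ι z)
    (pC : PC ⟶ Y) (chartC : ∀ (U : Y.Opens) (hU : IsAffineOpen U), (((pC ⁻¹ᵁ U : PC.Opens) : Scheme.{u}) ≅ Proj (𝒮h.deg U hU)))
    {𝒮h' : _root_.RelProj.QCGrAlg Y'} {ι' : 𝒮'.toQCAlg ⟶ 𝒮h'.toQCAlg} {z' : 𝒮h'.presheaf.obj (op ⊤)}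
    (hz' : RelCone.IsPolyOver 𝒮' 𝒮h' ι' z')
    (pC' : PC' ⟶ Y') (chartC' : ∀ (U : Y'.Opens) (hU : IsAffineOpen U), (((pC' ⁻¹ᵁ U : PC'.Opens) : Scheme.{u}) ≅ Proj (𝒮h'.deg U hU)))
    (uh : _root_.RelProj.QGrHom q 𝒮h 𝒮h')
    (huh : ∀ U : Y.Opens, ι.hom.app (op U) ≫ uh.app U = u.app U ≫ ι'.hom.app (op (q ⁻¹ᵁ U)))
    (huhz : (uh.app ⊤).hom z = RelCone.restrictTop 𝒮h' z' (q ⁻¹ᵁ ⊤))
    (Φh : ((_root_.RelProj.domQ uh pC' chartC' : PC'.Opens) : Scheme.{u}) ⟶ PC)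
    (hΦh : _root_.RelProj.IsProjQMapOn uh pC chartC pC' chartC' (_root_.RelProj.domQ uh pC' chartC') Φh)

include huh hΦh in
set_option backward.isDefEq.respectTransparency false in
/-- the chart computation: `Φ̂` on the chart `D₊(z')` of the projective cone -/
theorem chart_key (t : AffPair q) :
    ∀ (zV : 𝒮h'.presheaf.obj (op t.U')) (_ : φQ uh t (RelCone.restrictTop 𝒮h z t.U) = zV)
      (hzV : zV ∈ 𝒮h'.deg t.U' t.hU' 1)
      (θV : HomogeneousLocalization.Away (𝒮h'.deg t.U' t.hU') zV →+* 𝒮'.presheaf.obj (op t.U'))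
      (_ : ∀ (k' : HomogeneousLocalization.Away (𝒮h'.deg t.U' t.hU') zV) (k : ℕ)
        (x : 𝒮'.presheaf.obj (op t.U')), x ∈ 𝒮'.deg t.U' t.hU' k →
          k'.val = Localization.mk (χ hz' t.U' t.hU' x)
            (⟨zV ^ k, pow_mem (Submonoid.mem_powers zV) k⟩ : Submonoid.powers zV) → θV k' = x)
      (g : Spec (𝒮'.presheaf.obj (op t.U')) ⟶ ((_root_.RelProj.domQ uh pC' chartC' : PC'.Opens) : Scheme.{u}))
      (_ : g ≫ (_root_.RelProj.domQ uh pC' chartC').ι =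
        Spec.map (CommRingCat.ofHom θV) ≫ Proj.awayι (𝒮h'.deg t.U' t.hU') zV hzV one_pos ≫
          _root_.RelProj.emb pC' chartC' t.U' t.hU'),
      g ≫ Φh = Spec.map (u.appLE t.U t.U' t.hle) ≫
        Spec.map (CommRingCat.ofHom (hz.awayZToBase t.U t.hU)) ≫
          Proj.awayι (𝒮h.deg t.U t.hU) (RelCone.restrictTop 𝒮h z t.U) (hz.deg_z t.U t.hU) one_pos ≫
            _root_.RelProj.emb pC chartC t.U t.hU := by
  intro zV hzz
  subst hzz
  intro hzV θV hθV g hg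
  have hW := _root_.RelProj.range_awayEmb_subset_domQ uh pC' chartC' t.U t.hU t.U' t.hU' t.hle one_pos
    (RelCone.restrictTop 𝒮h z t.U) (hz.deg_z t.U t.hU)
  have h1 := hΦh t.U t.hU t.U' t.hU' t.hle 1 one_pos (RelCone.restrictTop 𝒮h z t.U)
    (hz.deg_z t.U t.hU) hW
  have hg' : g = Spec.map (CommRingCat.ofHom θV) ≫
      IsOpenImmersion.lift (_root_.RelProj.domQ uh pC' chartC').ι
        (_root_.RelProj.awayEmb uh pC' chartC' t.U t.hU t.U' t.hU' t.hle one_pos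
          (RelCone.restrictTop 𝒮h z t.U) (hz.deg_z t.U t.hU)) hW := by
    rw [← cancel_mono (_root_.RelProj.domQ uh pC' chartC').ι, hg, Category.assoc,
      IsOpenImmersion.lift_fac]
    rfl
  rw [hg', Category.assoc, h1, ← Spec.map_comp_assoc, ← Spec.map_comp_assoc]
  congr 2
  ext k'
  exact (ConeGlue.compat_graded (χ hz t.U t.hU) _ (hz.deg_z t.U t.hU) (χ hz' t.U' t.hU') (φQ uh t) (φQ u t)
    (fun a => φQ_uh_χ u hz hz' uh huh t a) (bij_ev hz t.U t.hU) (hz.awayZToBase t.U t.hU)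
    (ha0 hz t.U t.hU) θV hθV k').symm

end imm

end Groth.Agent.Lib.Helper28.ConeFunct3
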