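import Groth.Agent.Lib.Helper28.ProjQComp2

/-!
# Composition `Proj(v' ∘ u)`, with the composite only known on affine pairs

Variants of the statements of `ProjQComp2` in which the identity `u'' = v' ∘ u` is only assumed on the graded
homomorphisms over affine pairs.
-/

set_option autoImplicit false
universe u
open CategoryTheory CategoryTheory.Limits AlgebraicGeometry Opposite TopologicalSpace
open scoped HomogeneousIdeal
open HomogeneousLocalization
noncomputable section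

namespace Groth.Agent.Lib.Helper28.ProjQComp3

open Groth.Agent.Lib.Helper28.RelProjBC (AffPair cover)
open Groth.Agent.Lib.Helper28.RelProjQ (mkSite le_of_site map_emb φQ gradedAt_res exists_refine
  mem_range_emb cover')
open Groth.Agent.Lib.Helper28.ProjQ
open Groth.Agent.Lib.Helper28.ProjQRel
open Groth.Agent.Lib.Helper28.ProjQComp (emb_mem_domQ_iff)
open Groth.Agent.Lib.Helper28.ProjQComp2 (uv')

variable {Y Y' : Scheme.{u}} {ψ : Y' ⟶ Y} {𝒮 : _root_.RelProj.QCGrAlg Y} {𝒮' 𝒯' : _root_.RelProj.QCGrAlg Y'}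
  (u : _root_.RelProj.QGrHom ψ 𝒮 𝒮') (v' : 𝒮'.toQCAlg ⟶ 𝒯'.toQCAlg) (hv' : _root_.RelProj.IsGradedHom v')
  (u'' : _root_.RelProj.QGrHom ψ 𝒮 𝒯')
  (hχ : ∀ t : AffPair ψ, (φQ (uv' v' hv') (pairId t.U' t.hU')).comp (φQ u t) = φQ u'' t)
variable {P P' PT' : Scheme.{u}} (p : P ⟶ Y)
  (chart : ∀ (U : Y.Opens) (hU : IsAffineOpen U), (((p ⁻¹ᵁ U : P.Opens) : Scheme.{u}) ≅ Proj (𝒮.deg U hU)))
  (hP : _root_.RelProj.IsRelProj 𝒮 p chart)
  (p' : P' ⟶ Y')
  (chart' : ∀ (U' : Y'.Opens) (hU' : IsAffineOpen U'), (((p' ⁻¹ᵁ U' : P'.Opens) : Scheme.{u}) ≅ Proj (𝒮'.deg U' hU')))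
  (hP' : _root_.RelProj.IsRelProj 𝒮' p' chart')
  (pT' : PT' ⟶ Y')
  (chartT' : ∀ (U' : Y'.Opens) (hU' : IsAffineOpen U'), (((pT' ⁻¹ᵁ U' : PT'.Opens) : Scheme.{u}) ≅ Proj (𝒯'.deg U' hU')))
  (hPT' : _root_.RelProj.IsRelProj 𝒯' pT' chartT')

include hχ in
theorem D_comp_le' (t : AffPair ψ) : D u'' t ≤ D (uv' v' hv') (pairId t.U' t.hU') :=
  domOpen_comp_le _ _ _ (hχ t)

include hχ in
theorem domQ_comp_le' :
    _root_.RelProj.domQ u'' pT' chartT' ≤ _root_.RelProj.domQ (uv' v' hv') pT' chartT' := by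
  intro z hz
  obtain ⟨t, x, hx, rfl⟩ := exists_of_mem_domQ u'' pT' chartT' z hz
  exact emb_mem_domQ (uv' v' hv') pT' chartT' (pairId t.U' t.hU') x (D_comp_le' u v' hv' u'' hχ t hx)

include hχ hP' hPT' in
set_option backward.isDefEq.respectTransparency false in
/-- `G(v' ∘ u) = G(v') ∩ Proj(v')⁻¹ G(u)` -/
theorem mem_domQ_comp_iff'
    (rv' : ((_root_.RelProj.domQ (uv' v' hv') pT' chartT' : PT'.Opens) : Scheme.{u}) ⟶ P')
    (hrv' : ∀ s : AffPair (𝟙 Y'), cW (uv' v' hv') pT' chartT' s ≫ rv' = pieceW (uv' v' hv') p' chart' s)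
    (z : ((_root_.RelProj.domQ (uv' v' hv') pT' chartT' : PT'.Opens) : Scheme.{u})) :
    (_root_.RelProj.domQ (uv' v' hv') pT' chartT').ι z ∈ _root_.RelProj.domQ u'' pT' chartT' ↔
      rv' z ∈ _root_.RelProj.domQ u p' chart' := by
  obtain ⟨t, ht⟩ := cover ψ (pT' ((_root_.RelProj.domQ (uv' v' hv') pT' chartT').ι z))
  rw [Scheme.Opens.range_ι] at ht
  obtain ⟨x, rfl⟩ := (mem_range_cW_iff (uv' v' hv') pT' chartT' hPT' (pairId t.U' t.hU') z).2 ht
  have hrz : rv' (cW (uv' v' hv') pT' chartT' (pairId t.U' t.hU') x) =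
      _root_.RelProj.emb p' chart' t.U' t.hU' (vQ (φQ (uv' v' hv') (pairId t.U' t.hU')) x) := by
    rw [← Scheme.Hom.comp_apply, hrv' (pairId t.U' t.hU')]
    rfl
  rw [hrz, cW_apply]
  refine (emb_mem_domQ_iff u'' pT' chartT' hPT' t _).trans
    (Iff.trans ?_ (emb_mem_domQ_iff u p' chart' hP' t _).symm)
  exact mem_domOpen_comp_iff _ _ _ (hχ t) x

include hχ in
set_option backward.isDefEq.respectTransparency false in
/-- `Proj(v' ∘ u) = Proj(u) ∘ Proj(v')` on `G(v' ∘ u)` -/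
theorem comp_glue' (r : ((_root_.RelProj.domQ u p' chart' : P'.Opens) : Scheme.{u}) ⟶ P)
    (hr : ∀ t : AffPair ψ, cW u p' chart' t ≫ r = pieceW u p chart t)
    (rv' : ((_root_.RelProj.domQ (uv' v' hv') pT' chartT' : PT'.Opens) : Scheme.{u}) ⟶ P')
    (hrv' : ∀ s : AffPair (𝟙 Y'), cW (uv' v' hv') pT' chartT' s ≫ rv' = pieceW (uv' v' hv') p' chart' s)
    (r'' : ((_root_.RelProj.domQ u'' pT' chartT' : PT'.Opens) : Scheme.{u}) ⟶ P)
    (hr'' : ∀ t : AffPair ψ, cW u'' pT' chartT' t ≫ r'' = pieceW u'' p chart t)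
    (i : ((_root_.RelProj.domQ u'' pT' chartT' : PT'.Opens) : Scheme.{u}) ⟶
      ((_root_.RelProj.domQ (uv' v' hv') pT' chartT' : PT'.Opens) : Scheme.{u}))
    (hi : i ≫ (_root_.RelProj.domQ (uv' v' hv') pT' chartT').ι = (_root_.RelProj.domQ u'' pT' chartT').ι)
    (k : ((_root_.RelProj.domQ u'' pT' chartT' : PT'.Opens) : Scheme.{u}) ⟶
      ((_root_.RelProj.domQ u p' chart' : P'.Opens) : Scheme.{u}))
    (hk : k ≫ (_root_.RelProj.domQ u p' chart').ι = i ≫ rv') :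
    k ≫ r = r'' := by
  refine hom_ext_W u'' pT' chartT' _ _ fun t => ?_
  have hχt := hχ t
  have hle : Set.range (D u'' t).ι.base ⊆
      Set.range (D (uv' v' hv') (pairId t.U' t.hU')).ι.base := by
    rw [Scheme.Opens.range_ι, Scheme.Opens.range_ι]
    exact D_comp_le' u v' hv' u'' hχ t
  let it : ((D u'' t : (Proj (𝒯'.deg t.U' t.hU')).Opens) : Scheme.{u}) ⟶
      ((D (uv' v' hv') (pairId t.U' t.hU') : (Proj (𝒯'.deg t.U' t.hU')).Opens) : Scheme.{u}) :=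
    IsOpenImmersion.lift (D (uv' v' hv') (pairId t.U' t.hU')).ι (D u'' t).ι hle
  have hit : it ≫ (D (uv' v' hv') (pairId t.U' t.hU')).ι = (D u'' t).ι :=
    IsOpenImmersion.lift_fac _ _ _
  have hle2 : Set.range (it ≫ vQ (φQ (uv' v' hv') (pairId t.U' t.hU'))).base ⊆
      Set.range (D u t).ι.base := by
    rw [Scheme.Opens.range_ι]
    rintro _ ⟨x, rfl⟩
    refine (mem_domOpen_comp_iff _ _ _ hχt (it x)).1 ?_
    rw [← Scheme.Hom.comp_apply, hit]
    exact x.2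
  let kt : ((D u'' t : (Proj (𝒯'.deg t.U' t.hU')).Opens) : Scheme.{u}) ⟶
      ((D u t : (Proj (𝒮'.deg t.U' t.hU')).Opens) : Scheme.{u}) :=
    IsOpenImmersion.lift (D u t).ι (it ≫ vQ (φQ (uv' v' hv') (pairId t.U' t.hU'))) hle2
  have hkt : kt ≫ (D u t).ι = it ≫ vQ (φQ (uv' v' hv') (pairId t.U' t.hU')) :=
    IsOpenImmersion.lift_fac _ _ _
  have e1 : cW u'' pT' chartT' t ≫ i = it ≫ cW (uv' v' hv') pT' chartT' (pairId t.U' t.hU') := by
    rw [← cancel_mono (_root_.RelProj.domQ (uv' v' hv') pT' chartT').ι, Category.assoc, hi, cW_ι,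
      Category.assoc, cW_ι, reassoc_of% hit]
    rfl
  have e2 : cW u'' pT' chartT' t ≫ k = kt ≫ cW u p' chart' t := by
    rw [← cancel_mono (_root_.RelProj.domQ u p' chart').ι,
      Category.assoc, hk, reassoc_of% e1, hrv' (pairId t.U' t.hU'), Category.assoc, cW_ι,
      reassoc_of% hkt]
    rfl
  rw [reassoc_of% e2, hr t, hr'' t]
  unfold pieceW
  rw [← Category.assoc]
  congr 1
  exact comp_vQ _ _ _ hχt it hit kt hkt


end Groth.Agent.Lib.Helper28.ProjQComp3
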