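import Groth.Agent.Lib.Helper28.ConeFunct2
import Groth.Agent.Lib.Helper28.ProjQComp3

/-!
# Functoriality of the closed immersion at infinity of a projective cone
-/

set_option autoImplicit false
universe u
open CategoryTheory CategoryTheory.Limits AlgebraicGeometry Opposite TopologicalSpace
open scoped HomogeneousIdeal
open HomogeneousLocalization
noncomputable section

namespace Groth.Agent.Lib.Helper28.ConeInf

open Groth.Agent.Lib.Helper28.RelProjBC (AffPair cover)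
open Groth.Agent.Lib.Helper28.RelProjQ (mkSite le_of_site map_emb φQ gradedAt_res exists_refine
  mem_range_emb cover')
open Groth.Agent.Lib.Helper28.ProjQ
open Groth.Agent.Lib.Helper28.ProjQRel
open Groth.Agent.Lib.Helper28.ProjQCone
open Groth.Agent.Lib.Helper28.ConeImm
open Groth.Agent.Lib.Helper28.ConeFunct
open Groth.Agent.Lib.Helper28.ProjQComp2 (uv')

variable {Y Y' PC PC' : Scheme.{u}} {q : Y' ⟶ Y}
    {𝒮 : _root_.RelProj.QCGrAlg Y} {𝒮' : _root_.RelProj.QCGrAlg Y'}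
    (u : _root_.RelProj.QGrHom q 𝒮 𝒮')
    {𝒮h : _root_.RelProj.QCGrAlg Y} {ι : 𝒮.toQCAlg ⟶ 𝒮h.toQCAlg} {z : 𝒮h.presheaf.obj (op ⊤)}
    (hz : RelCone.IsPolyOver 𝒮 𝒮h ι z)
    {𝒮h' : _root_.RelProj.QCGrAlg Y'} {ι' : 𝒮'.toQCAlg ⟶ 𝒮h'.toQCAlg} {z' : 𝒮h'.presheaf.obj (op ⊤)}
    (hz' : RelCone.IsPolyOver 𝒮' 𝒮h' ι' z')
    (uh : _root_.RelProj.QGrHom q 𝒮h 𝒮h')
    (huh : ∀ U : Y.Opens, ι.hom.app (op U) ≫ uh.app U = u.app U ≫ ι'.hom.app (op (q ⁻¹ᵁ U)))
    (huhz : (uh.app ⊤).hom z = RelCone.restrictTop 𝒮h' z' (q ⁻¹ᵁ ⊤))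
    (θ : 𝒮h.toQCAlg ⟶ 𝒮.toQCAlg) (hθ : _root_.RelProj.IsGradedHom θ) (hθι : ι ≫ θ = 𝟙 _)
    (hθz : (θ.hom.app (op ⊤)).hom z = 0)
    (θ' : 𝒮h'.toQCAlg ⟶ 𝒮'.toQCAlg) (hθ' : _root_.RelProj.IsGradedHom θ') (hθι' : ι' ≫ θ' = 𝟙 _)
    (hθz' : (θ'.hom.app (op ⊤)).hom z' = 0)

/-- the composite graded `q`-morphism `𝒮[z] → 𝒮 → q_* 𝒮'` -/
def wθ : _root_.RelProj.QGrHom q 𝒮h 𝒮' where
  app U := θ.hom.app (op U) ≫ u.app U
  naturality := by
    intro U V i
    rw [Category.assoc, u.naturality i, ← Category.assoc, ← Category.assoc]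
    congr 1
    exact (θ.hom.naturality (homOfLE i).op).symm
  str_app := by
    intro U
    rw [← Category.assoc]
    have h1 : 𝒮h.str.app (op U) ≫ θ.hom.app (op U) = 𝒮.str.app (op U) :=
      congrArg (fun k => k.app (op U)) θ.comm
    rw [h1]
    exact u.str_app U
  map_mem := by
    intro U hU U' hU' hle d x hx
    exact u.map_mem U hU U' hU' hle (hθ U hU d x hx)

include hθι in
theorem θ_ι (U : Y.Opens) (a : 𝒮.presheaf.obj (op U)) :
    (θ.hom.app (op U)).hom ((ι.hom.app (op U)).hom a) = a :=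
  congrArg (fun k : 𝒮.toQCAlg ⟶ 𝒮.toQCAlg => (k.hom.app (op U)).hom a) hθι

include hθz in
theorem θ_z (U : Y.Opens) : (θ.hom.app (op U)).hom (RelCone.restrictTop 𝒮h z U) = 0 := by
  have h1 := congrArg (fun k => k.hom z) (θ.hom.naturality (homOfLE (le_top : U ≤ ⊤)).op)
  have h2 : (θ.hom.app (op U)).hom ((𝒮h.presheaf.map (homOfLE le_top).op).hom z) =
      (𝒮.presheaf.map (homOfLE le_top).op).hom ((θ.hom.app (op ⊤)).hom z) := h1
  show (θ.hom.app (op U)).hom ((𝒮h.presheaf.map (homOfLE le_top).op).hom z) = 0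
  rw [h2, hθz, map_zero]

include hz hz' huh huhz hθι hθz hθι' hθz' in
/-- `θ' ∘ φ̂ = φ ∘ θ` over an affine pair -/
theorem hχB (t : AffPair q) :
    (φQ (uv' θ' hθ') (pairId t.U' t.hU')).comp (φQ uh t) = φQ (wθ u θ hθ) t := by
  rw [φQ_ofHom]
  let F : 𝒮h.presheaf.obj (op t.U) →+* 𝒮'.presheaf.obj (op t.U') :=
    (θ'.hom.app (op t.U')).hom.comp (φQ uh t).toRingHom
  let G : 𝒮h.presheaf.obj (op t.U) →+* 𝒮'.presheaf.obj (op t.U') :=
    (φQ u t).toRingHom.comp (θ.hom.app (op t.U)).hom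
  let ev := Polynomial.eval₂RingHom (ι.hom.app (op t.U)).hom (RelCone.restrictTop 𝒮h z t.U)
  have hFG : F.comp ev = G.comp ev := by
    refine Polynomial.ringHom_ext (fun a => ?_) ?_
    · show (θ'.hom.app (op t.U')).hom (φQ uh t (ev (Polynomial.C a))) =
        φQ u t ((θ.hom.app (op t.U)).hom (ev (Polynomial.C a)))
      have h1 : ev (Polynomial.C a) = χ hz t.U t.hU a := Polynomial.eval₂_C _ _
      rw [h1, φQ_uh_χ u hz hz' uh huh t a]
      show (θ'.hom.app (op t.U')).hom ((ι'.hom.app (op t.U')).hom (φQ u t a)) =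
        φQ u t ((θ.hom.app (op t.U)).hom ((ι.hom.app (op t.U)).hom a))
      rw [θ_ι θ' hθι', θ_ι θ hθι]
    · show (θ'.hom.app (op t.U')).hom (φQ uh t (ev Polynomial.X)) =
        φQ u t ((θ.hom.app (op t.U)).hom (ev Polynomial.X))
      have h1 : ev Polynomial.X = RelCone.restrictTop 𝒮h z t.U := Polynomial.eval₂_X _ _
      rw [h1, φQ_uh_z uh huhz t, θ_z θ' hθz', θ_z θ hθz, map_zero]
  apply DFunLike.ext
  intro x
  obtain ⟨P, rfl⟩ := (hz.bij t.U t.hU).2 x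
  exact congrArg (fun k => k P) hFG

section main
variable (pC : PC ⟶ Y)
    (chartC : ∀ (U : Y.Opens) (hU : IsAffineOpen U), (((pC ⁻¹ᵁ U : PC.Opens) : Scheme.{u}) ≅ Proj (𝒮h.deg U hU)))
    (hC : _root_.RelProj.IsRelProj 𝒮h pC chartC)
    (pC' : PC' ⟶ Y')
    (chartC' : ∀ (U : Y'.Opens) (hU : IsAffineOpen U), (((pC' ⁻¹ᵁ U : PC'.Opens) : Scheme.{u}) ≅ Proj (𝒮h'.deg U hU)))
    (hC' : _root_.RelProj.IsRelProj 𝒮h' pC' chartC')
    {P P' : Scheme.{u}} (p : P ⟶ Y)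
    (chart : ∀ (U : Y.Opens) (hU : IsAffineOpen U), (((p ⁻¹ᵁ U : P.Opens) : Scheme.{u}) ≅ Proj (𝒮.deg U hU)))
    (hP : _root_.RelProj.IsRelProj 𝒮 p chart)
    (p' : P' ⟶ Y')
    (chart' : ∀ (U : Y'.Opens) (hU : IsAffineOpen U), (((p' ⁻¹ᵁ U : P'.Opens) : Scheme.{u}) ≅ Proj (𝒮'.deg U hU)))
    (hP' : _root_.RelProj.IsRelProj 𝒮' p' chart')
    (Φh : ((_root_.RelProj.domQ uh pC' chartC' : PC'.Opens) : Scheme.{u}) ⟶ PC)
    (hΦh : _root_.RelProj.IsProjQMapOn uh pC chartC pC' chartC' (_root_.RelProj.domQ uh pC' chartC') Φh)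
    (Φ : ((_root_.RelProj.domQ u p' chart' : P'.Opens) : Scheme.{u}) ⟶ P)
    (hΦ : _root_.RelProj.IsProjQMapOn u p chart p' chart' (_root_.RelProj.domQ u p' chart') Φ)
    (jX : P ⟶ PC) (hjX : _root_.RelProj.IsProjQMap (_root_.RelProj.QGrHom.ofHom θ hθ) pC chartC p chart jX)
    (jX' : P' ⟶ PC')
    (hjX' : _root_.RelProj.IsProjQMap (_root_.RelProj.QGrHom.ofHom θ' hθ') pC' chartC' p' chart' jX')

include hz hz' huh huhz hθι hθz hθι' hθz' hC hC' hP hP' hΦh hΦ hjX hjX' in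
set_option backward.isDefEq.respectTransparency false in
set_option maxHeartbeats 1600000 in
/-- **the closed immersions at infinity are functorial**: `Φ̂ ∘ j' = j ∘ Φ` on `G(φ)`, and `j'(G(φ)) ⊆ G(φ̂)` -/
theorem infinity_comm (T : Scheme.{u})
    (d : T ⟶ ((_root_.RelProj.domQ u p' chart' : P'.Opens) : Scheme.{u}))
    (e : T ⟶ ((_root_.RelProj.domQ uh pC' chartC' : PC'.Opens) : Scheme.{u}))
    (hde : d ≫ (_root_.RelProj.domQ u p' chart').ι ≫ jX' = e ≫ (_root_.RelProj.domQ uh pC' chartC').ι) :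
    jX'.base '' ((_root_.RelProj.domQ u p' chart' : P'.Opens) : Set P') ⊆
        ((_root_.RelProj.domQ uh pC' chartC' : PC'.Opens) : Set PC') ∧
      e ≫ Φh = d ≫ Φ ≫ jX := by
  let w := wθ u θ hθ
  have hw1 : ∀ U : Y.Opens, w.app U = θ.hom.app (op U) ≫ u.app U := fun U => rfl
  have hχ := hχB u hz hz' uh huh huhz θ hθ hθι hθz θ' hθ' hθι' hθz'
  have gΦh := glue_of_isProjQMapOn uh pC chartC pC' chartC' Φh hΦh
  have gΦ := glue_of_isProjQMapOn u p chart p' chart' Φ hΦ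
  have gj := glue_of_isProjQMap (_root_.RelProj.QGrHom.ofHom θ hθ) pC chartC p chart jX hjX
  have gj' := glue_of_isProjQMap (uv' θ' hθ') pC' chartC' p' chart' jX' hjX'
  obtain ⟨rw, hrw, -⟩ := existsUnique_glueW w pC chartC hC p' chart' hP'
  -- (A): `w = u ∘ θ`
  have hleA : _root_.RelProj.domQ w p' chart' ≤ _root_.RelProj.domQ u p' chart' :=
    ProjQComp.domQ_comp_le u θ hθ w hw1 p' chart'
  have hmemA := ProjQComp.mem_domQ_comp_iff u θ hθ w hw1 p chart hP p' chart' hP' Φ gΦ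
  have hgeA : _root_.RelProj.domQ u p' chart' ≤ _root_.RelProj.domQ w p' chart' := by
    intro x hx
    refine (hmemA ⟨x, hx⟩).2 ?_
    rw [hjX.1]
    trivial
  have hleA' : Set.range (_root_.RelProj.domQ w p' chart').ι.base ⊆
      Set.range (_root_.RelProj.domQ u p' chart').ι.base := by
    rw [Scheme.Opens.range_ι, Scheme.Opens.range_ι]
    exact hleA
  let iA : ((_root_.RelProj.domQ w p' chart' : P'.Opens) : Scheme.{u}) ⟶
      ((_root_.RelProj.domQ u p' chart' : P'.Opens) : Scheme.{u}) :=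
    IsOpenImmersion.lift (_root_.RelProj.domQ u p' chart').ι (_root_.RelProj.domQ w p' chart').ι hleA'
  have hiA : iA ≫ (_root_.RelProj.domQ u p' chart').ι = (_root_.RelProj.domQ w p' chart').ι :=
    IsOpenImmersion.lift_fac _ _ _
  have hleA2 : Set.range (iA ≫ Φ).base ⊆
      Set.range (_root_.RelProj.domQ (_root_.RelProj.QGrHom.ofHom θ hθ) p chart).ι.base := by
    rw [Scheme.Opens.range_ι, hjX.1]
    intro x _
    trivial
  let kA : ((_root_.RelProj.domQ w p' chart' : P'.Opens) : Scheme.{u}) ⟶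
      ((_root_.RelProj.domQ (_root_.RelProj.QGrHom.ofHom θ hθ) p chart : P.Opens) : Scheme.{u}) :=
    IsOpenImmersion.lift (_root_.RelProj.domQ (_root_.RelProj.QGrHom.ofHom θ hθ) p chart).ι (iA ≫ Φ) hleA2
  have hkA : kA ≫ (_root_.RelProj.domQ (_root_.RelProj.QGrHom.ofHom θ hθ) p chart).ι = iA ≫ Φ :=
    IsOpenImmersion.lift_fac _ _ _
  have cA : kA ≫ (_root_.RelProj.domQ (_root_.RelProj.QGrHom.ofHom θ hθ) p chart).ι ≫ jX = rw :=
    ProjQComp.comp_glue u θ hθ w hw1 p chart pC chartC p' chart' Φ gΦ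
      ((_root_.RelProj.domQ (_root_.RelProj.QGrHom.ofHom θ hθ) p chart).ι ≫ jX) gj rw hrw iA hiA kA hkA
  -- (B): `w = θ' ∘ φ̂`
  have hleB : _root_.RelProj.domQ w p' chart' ≤ _root_.RelProj.domQ (uv' θ' hθ') p' chart' :=
    ProjQComp3.domQ_comp_le' uh θ' hθ' w hχ p' chart'
  have hleB' : Set.range (_root_.RelProj.domQ w p' chart').ι.base ⊆
      Set.range (_root_.RelProj.domQ (uv' θ' hθ') p' chart').ι.base := by
    rw [Scheme.Opens.range_ι, Scheme.Opens.range_ι]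
    exact hleB
  let iB : ((_root_.RelProj.domQ w p' chart' : P'.Opens) : Scheme.{u}) ⟶
      ((_root_.RelProj.domQ (uv' θ' hθ') p' chart' : P'.Opens) : Scheme.{u}) :=
    IsOpenImmersion.lift (_root_.RelProj.domQ (uv' θ' hθ') p' chart').ι
      (_root_.RelProj.domQ w p' chart').ι hleB'
  have hiB : iB ≫ (_root_.RelProj.domQ (uv' θ' hθ') p' chart').ι =
      (_root_.RelProj.domQ w p' chart').ι := IsOpenImmersion.lift_fac _ _ _
  have hmemB := ProjQComp3.mem_domQ_comp_iff' uh θ' hθ' w hχ pC' chartC' hC' p' chart' hP'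
    ((_root_.RelProj.domQ (uv' θ' hθ') p' chart').ι ≫ jX') gj'
  have hleB2 : Set.range (iB ≫ (_root_.RelProj.domQ (uv' θ' hθ') p' chart').ι ≫ jX').base ⊆
      Set.range (_root_.RelProj.domQ uh pC' chartC').ι.base := by
    rw [Scheme.Opens.range_ι]
    rintro _ ⟨x, rfl⟩
    refine (hmemB (iB x)).1 ?_
    rw [← Scheme.Hom.comp_apply, hiB]
    exact x.2
  let kB : ((_root_.RelProj.domQ w p' chart' : P'.Opens) : Scheme.{u}) ⟶
      ((_root_.RelProj.domQ uh pC' chartC' : PC'.Opens) : Scheme.{u}) :=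
    IsOpenImmersion.lift (_root_.RelProj.domQ uh pC' chartC').ι
      (iB ≫ (_root_.RelProj.domQ (uv' θ' hθ') p' chart').ι ≫ jX') hleB2
  have hkB : kB ≫ (_root_.RelProj.domQ uh pC' chartC').ι =
      iB ≫ (_root_.RelProj.domQ (uv' θ' hθ') p' chart').ι ≫ jX' := IsOpenImmersion.lift_fac _ _ _
  have cB : kB ≫ Φh = rw :=
    ProjQComp3.comp_glue' uh θ' hθ' w hχ pC chartC pC' chartC' p' chart' Φh gΦh
      ((_root_.RelProj.domQ (uv' θ' hθ') p' chart').ι ≫ jX') gj' rw hrw iB hiB kB hkB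
  constructor
  · rintro _ ⟨x, hx, rfl⟩
    have hxw : x ∈ _root_.RelProj.domQ w p' chart' := hgeA hx
    have hxθ : x ∈ _root_.RelProj.domQ (uv' θ' hθ') p' chart' := hleB hxw
    exact (hmemB ⟨x, hxθ⟩).1 hxw
  · -- the `T`-valued point of `G(w)`
    have hm : Set.range (d ≫ (_root_.RelProj.domQ u p' chart').ι).base ⊆
        Set.range (_root_.RelProj.domQ w p' chart').ι.base := by
      rw [Scheme.Opens.range_ι]
      rintro _ ⟨τ, rfl⟩
      rw [Scheme.Hom.comp_apply]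
      exact hgeA (d τ).2
    let m : T ⟶ ((_root_.RelProj.domQ w p' chart' : P'.Opens) : Scheme.{u}) :=
      IsOpenImmersion.lift (_root_.RelProj.domQ w p' chart').ι
        (d ≫ (_root_.RelProj.domQ u p' chart').ι) hm
    have hmι : m ≫ (_root_.RelProj.domQ w p' chart').ι = d ≫ (_root_.RelProj.domQ u p' chart').ι :=
      IsOpenImmersion.lift_fac _ _ _
    have hmiA : m ≫ iA = d := by
      rw [← cancel_mono (_root_.RelProj.domQ u p' chart').ι, Category.assoc, hiA, hmι]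
    have hmkB : m ≫ kB = e := by
      rw [← cancel_mono (_root_.RelProj.domQ uh pC' chartC').ι, Category.assoc, hkB, ← hde,
        reassoc_of% hiB, reassoc_of% hmι]
    calc e ≫ Φh = m ≫ kB ≫ Φh := by rw [← Category.assoc, hmkB]
      _ = m ≫ rw := by rw [cB]
      _ = m ≫ kA ≫ (_root_.RelProj.domQ (_root_.RelProj.QGrHom.ofHom θ hθ) p chart).ι ≫ jX := by rw [cA]
      _ = m ≫ iA ≫ Φ ≫ jX := by rw [reassoc_of% hkA]
      _ = d ≫ Φ ≫ jX := by rw [reassoc_of% hmiA]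

end main

end Groth.Agent.Lib.Helper28.ConeInf
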