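import Groth.Agent.Lib.Helper28.PolyExt

/-!
# The locus at infinity of a projective cone, ring level

For `B = A[z]` graded with `z` of degree one, and a graded retraction `θ : B → A` of `ι : A → B` killing `z`:
the image of `Proj(θ) : Proj A → Proj B` is `V₊(z)`.
-/

set_option autoImplicit false
universe u
open scoped HomogeneousIdeal
open Polynomial AlgebraicGeometry
noncomputable section

namespace Groth.Agent.Lib.Helper28.ConeInfRing

open Groth.Agent.Lib.Helper28.PolyExt

variable {A B : Type u} [CommRing A] [CommRing B] {𝒜 : ℕ → AddSubgroup A} {ℬ : ℕ → AddSubgroup B}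
  [GradedRing 𝒜] [GradedRing ℬ] (ι : 𝒜 →+*ᵍ ℬ) (z : B) (hbij : Function.Bijective (ev ι z))
  (θ : ℬ →+*ᵍ 𝒜) (hθι : ∀ a, θ (ι a) = a) (hθz : θ z = 0) (hirr : 𝒜₊ ≤ (ℬ₊).map θ)

include hbij hθι hθz in
/-- the kernel of `θ` is generated by `z` -/
theorem sub_mem_span (b : B) : b - ι (θ b) ∈ Ideal.span ({z} : Set B) := by
  obtain ⟨p, rfl⟩ := hbij.2 b
  have h1 : θ (ev ι z p) = p.coeff 0 := by
    have h2 : ((θ : B →+* A).comp (ev ι z)) = Polynomial.constantCoeff := by
      refine Polynomial.ringHom_ext (fun a => ?_) ?_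
      · show θ (ev ι z (C a)) = Polynomial.constantCoeff (C a)
        have : ev ι z (C a) = ι a := Polynomial.eval₂_C _ _
        rw [this, hθι]
        simp
      · show θ (ev ι z X) = Polynomial.constantCoeff X
        have : ev ι z X = z := Polynomial.eval₂_X _ _
        rw [this, hθz]
        simp
    exact congrArg (fun k => k p) h2
  rw [h1]
  have h3 : ev ι z p - ι (p.coeff 0) = z * ev ι z p.divX := by
    have h4 : ι (p.coeff 0) = ev ι z (C (p.coeff 0)) := (Polynomial.eval₂_C _ _).symm
    have h5 : ev ι z (X * p.divX) = z * ev ι z p.divX := by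
      rw [map_mul]
      congr 1
      exact Polynomial.eval₂_X _ _
    rw [h4, ← map_sub, ← h5]
    congr 1
    have h6 := Polynomial.divX_mul_X_add p
    calc p - C (p.coeff 0) = (p.divX * X + C (p.coeff 0)) - C (p.coeff 0) := by rw [h6]
      _ = X * p.divX := by ring
  rw [h3]
  exact Ideal.mul_mem_right _ _ (Ideal.subset_span rfl)

include hθz in
/-- the image of `Proj(θ)` avoids `D₊(z)` -/
theorem map_notMem_basicOpen (s : Proj 𝒜) : Proj.map θ hirr s ∉ Proj.basicOpen ℬ z := by
  intro h
  have h1 : s ∈ Proj.map θ hirr ⁻¹ᵁ Proj.basicOpen ℬ z := h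
  rw [Proj.map_preimage_basicOpen, hθz, Proj.basicOpen_zero] at h1
  exact h1

include hbij hθι hθz in
/-- every point of `V₊(z)` is in the image of `Proj(θ)` -/
theorem exists_map_eq (y : Proj ℬ) (hy : y ∉ Proj.basicOpen ℬ z) : ∃ s : Proj 𝒜, Proj.map θ hirr s = y := by
  have hzy : z ∈ y.asHomogeneousIdeal := by
    by_contra h
    exact hy ((Proj.mem_basicOpen ℬ z y).2 h)
  have hspan : ∀ b : B, b - ι (θ b) ∈ y.asHomogeneousIdeal.toIdeal := fun b =>
    (Ideal.span_le.2 (Set.singleton_subset_iff.2 hzy)) (sub_mem_span ι z hbij θ hθι hθz b)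
  have hiff : ∀ b : B, ι (θ b) ∈ y.asHomogeneousIdeal.toIdeal ↔ b ∈ y.asHomogeneousIdeal.toIdeal := by
    intro b
    constructor
    · intro h
      have := add_mem (hspan b) h
      rwa [sub_add_cancel] at this
    · intro h
      have := sub_mem h (hspan b)
      rwa [sub_sub_cancel] at this
  let s : ProjectiveSpectrum 𝒜 :=
    { asHomogeneousIdeal := y.asHomogeneousIdeal.comap ι
      isPrime := y.isPrime.comap ι
      not_irrelevant_le := by
        intro hle
        apply y.not_irrelevant_le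
        rw [HomogeneousIdeal.irrelevant_le]
        intro i hi b hb
        have h1 : θ b ∈ 𝒜₊ := HomogeneousIdeal.mem_irrelevant_of_mem _ hi (θ.2 hb)
        have h2 : ι (θ b) ∈ y.asHomogeneousIdeal.toIdeal := hle h1
        exact (hiff b).1 h2 }
  refine ⟨s, ?_⟩
  apply ProjectiveSpectrum.ext
  apply HomogeneousIdeal.ext
  ext b
  exact hiff b

end Groth.Agent.Lib.Helper28.ConeInfRing
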