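import Groth.Agent.Lib.Helper28.ConeInf
import Groth.Agent.Lib.Helper28.ConeInfRing
import Groth.Agent.Lib.Helper28.ConeGlue

/-!
# The image of the affine cone in the projective cone is the complement of the locus at infinity
-/

set_option autoImplicit false
universe u
open CategoryTheory CategoryTheory.Limits AlgebraicGeometry Opposite TopologicalSpace
open scoped HomogeneousIdeal
open HomogeneousLocalization
noncomputable section

namespace Groth.Agent.Lib.Helper28.ConeInfRange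

open Groth.Agent.Lib.Helper28.RelProjBC (AffPair cover)
open Groth.Agent.Lib.Helper28.RelProjQ (mkSite le_of_site map_emb φQ gradedAt_res exists_refine
  mem_range_emb cover')
open Groth.Agent.Lib.Helper28.ProjQ
open Groth.Agent.Lib.Helper28.ProjQRel
open Groth.Agent.Lib.Helper28.ProjQCone
open Groth.Agent.Lib.Helper28.ConeImm

variable {Y PC P : Scheme.{u}} {𝒮 𝒮h : _root_.RelProj.QCGrAlg Y}
    {ι : 𝒮.toQCAlg ⟶ 𝒮h.toQCAlg} {z : 𝒮h.presheaf.obj (op ⊤)} (hz : RelCone.IsPolyOver 𝒮 𝒮h ι z)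
    (pC : PC ⟶ Y)
    (chartC : ∀ (U : Y.Opens) (hU : IsAffineOpen U), (((pC ⁻¹ᵁ U : PC.Opens) : Scheme.{u}) ≅ Proj (𝒮h.deg U hU)))
    (hPC : _root_.RelProj.IsRelProj 𝒮h pC chartC)
    (i : 𝒮.toQCAlg.spec ⟶ PC) (hi : RelCone.IsConeImm 𝒮 hz pC chartC i)
    (θ : 𝒮h.toQCAlg ⟶ 𝒮.toQCAlg) (hθ : _root_.RelProj.IsGradedHom θ) (hιθ : ι ≫ θ = 𝟙 _)
    (hθz : (θ.hom.app (op ⊤)).hom z = 0)
    (hirr : ∀ (U : Y.Opens) (hU : IsAffineOpen U),
      (𝒮.deg U hU)₊ ≤ ((𝒮h.deg U hU)₊).map (_root_.RelProj.gradedHomAt θ hθ U hU))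
    (p : P ⟶ Y)
    (chart : ∀ (U : Y.Opens) (hU : IsAffineOpen U), (((p ⁻¹ᵁ U : P.Opens) : Scheme.{u}) ≅ Proj (𝒮.deg U hU)))
    (j : P ⟶ PC) (hj : _root_.RelProj.IsRelProjMap θ hθ hirr chartC chart j)

include hz hPC hi hιθ hθz hj in
set_option backward.isDefEq.respectTransparency false in
/-- **`i(C) = Ĉ − j(X)`** -/
theorem range_i_eq_compl_range_j : Set.range i.base = (Set.range j.base)ᶜ := by
  have hjU : ∀ (U : Y.Opens) (hU : IsAffineOpen U), _root_.RelProj.emb p chart U hU ≫ j =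
      Proj.map (_root_.RelProj.gradedHomAt θ hθ U hU) (hirr U hU) ≫ _root_.RelProj.emb pC chartC U hU := by
    intro U hU
    unfold _root_.RelProj.emb
    rw [Category.assoc, hj U hU, Iso.inv_hom_id_assoc]
  have hjUa : ∀ (U : Y.Opens) (hU : IsAffineOpen U) (s : Proj (𝒮.deg U hU)),
      j (_root_.RelProj.emb p chart U hU s) = _root_.RelProj.emb pC chartC U hU
        (Proj.map (_root_.RelProj.gradedHomAt θ hθ U hU) (hirr U hU) s) := by
    intro U hU s
    rw [← Scheme.Hom.comp_apply, hjU U hU]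
    rfl
  have hθιU : ∀ (U : Y.Opens) (hU : IsAffineOpen U) (a : 𝒮.presheaf.obj (op U)),
      _root_.RelProj.gradedHomAt θ hθ U hU (χ hz U hU a) = a := fun U hU a => ConeInf.θ_ι θ hιθ U a
  have hθzU : ∀ (U : Y.Opens) (hU : IsAffineOpen U),
      _root_.RelProj.gradedHomAt θ hθ U hU (RelCone.restrictTop 𝒮h z U) = 0 := fun U hU => ConeInf.θ_z θ hθz U
  ext w
  constructor
  · rintro ⟨c, rfl⟩ ⟨t, ht⟩
    obtain ⟨U, hU, htU, -⟩ := Opens.isBasis_iff_nbhd.1 Y.isBasis_affineOpens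
      (show p t ∈ (⊤ : Y.Opens) from trivial)
    obtain ⟨s, rfl⟩ := (mem_range_emb p chart U hU t).2 htU
    have ht' : _root_.RelProj.emb pC chartC U hU
        (Proj.map (_root_.RelProj.gradedHomAt θ hθ U hU) (hirr U hU) s) = i c := by
      rw [← hjUa U hU s]
      exact ht
    have hcU : 𝒮.toQCAlg.π c ∈ U := by
      have h2 : pC (i c) ∈ U := by
        rw [← ht']
        exact (mem_range_emb pC chartC U hU _).1 ⟨_, rfl⟩
      rwa [← Scheme.Hom.comp_apply, ConeImm.i_comp_pC hz pC chartC hPC i hi] at h2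
    obtain ⟨x, rfl⟩ := (mem_range_ι_iff 𝒮 hU c).2 hcU
    rw [ConeImm.i_ι_apply hz pC chartC i hi] at ht'
    have h3 := (_root_.RelProj.emb pC chartC U hU).isOpenEmbedding.injective ht'
    have h4 : ptU hz U hU x ∈ Proj.basicOpen (𝒮h.deg U hU) (RelCone.restrictTop 𝒮h z U) := by
      rw [← Proj.opensRange_awayι _ _ (hz.deg_z U hU) one_pos]
      exact ⟨_, rfl⟩
    rw [← h3] at h4
    exact ConeInfRing.map_notMem_basicOpen (RelCone.restrictTop 𝒮h z U)
      (_root_.RelProj.gradedHomAt θ hθ U hU) (hθzU U hU) (hirr U hU) s h4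
  · intro hw
    obtain ⟨U, hU, hwU, -⟩ := Opens.isBasis_iff_nbhd.1 Y.isBasis_affineOpens
      (show pC w ∈ (⊤ : Y.Opens) from trivial)
    obtain ⟨y, rfl⟩ := (mem_range_emb pC chartC U hU w).2 hwU
    by_cases hy : y ∈ Proj.basicOpen (𝒮h.deg U hU) (RelCone.restrictTop 𝒮h z U)
    · rw [← Proj.opensRange_awayι _ _ (hz.deg_z U hU) one_pos] at hy
      obtain ⟨τ, hτ⟩ := hy
      have hiso : IsIso (Spec.map (CommRingCat.ofHom (hz.awayZToBase U hU))) :=
        ConeGlue.isIso_specMap_θ ι hz.graded z hz.deg_z hz.bij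
          (fun U hU => CommRingCat.ofHom (hz.awayZToBase U hU)) (fun U hU => ha0 hz U hU) U hU
      have hs : Surjective (Spec.map (CommRingCat.ofHom (hz.awayZToBase U hU))) := inferInstance
      obtain ⟨x, rfl⟩ := hs.surj τ
      refine ⟨𝒮.toQCAlg.ι U hU x, ?_⟩
      show i (𝒮.toQCAlg.ι U hU x) = _
      rw [ConeImm.i_ι_apply hz pC chartC i hi, ← hτ]
      rfl
    · exfalso
      obtain ⟨s, hs⟩ := ConeInfRing.exists_map_eq (χ hz U hU) (RelCone.restrictTop 𝒮h z U) (bij_ev hz U hU)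
        (_root_.RelProj.gradedHomAt θ hθ U hU) (hθιU U hU) (hθzU U hU) (hirr U hU) y hy
      apply hw
      refine ⟨_root_.RelProj.emb p chart U hU s, ?_⟩
      show j (_root_.RelProj.emb p chart U hU s) = _
      rw [hjUa U hU s, hs]

end Groth.Agent.Lib.Helper28.ConeInfRange
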