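import Groth.Agent.Lib.Helper28.RLPsiV1

/-!
# Functions on a relative `Proj` read as fractions: existence and change of chart (helper28)

* `secOfAway`: the ring of functions on `D₊(b) ⊆ P` over the chart `U` is `𝒮(U)_(b)`.
* `exists_readsO`: for `a, b` homogeneous of the same positive degree there is a function on `D₊(b)` reading `a / b`.
* `ReadsO.basic`: a function reading `a / b` on the chart over `V` reads the restrictions on the chart over a basic open.
-/

set_option autoImplicit false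
universe u
open CategoryTheory CategoryTheory.Limits AlgebraicGeometry Opposite TopologicalSpace
open HomogeneousLocalization
open scoped HomogeneousIdeal
noncomputable section

namespace Groth.Agent.Lib.Helper28.ConeLine

open Groth.Agent.Lib.Helper28 Groth.Agent.Lib.Helper28.QCohLoc
open Groth.Agent.Lib.Helper28.RelTwistVal Groth.Agent.Lib.Helper28.RLPsiU Groth.Agent.Lib.Helper28.RLPsiV

variable {Y P : Scheme.{u}} {𝒮 : RelProj.QCGrAlg Y} {p : P ⟶ Y}
  {chart : ∀ (U : Y.Opens) (hU : IsAffineOpen U), (((p ⁻¹ᵁ U : P.Opens) : Scheme.{u}) ≅ Proj (𝒮.deg U hU))}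

section away

variable {U : Y.Opens} (hU : IsAffineOpen U) (b : 𝒮.presheaf.obj (op U))

variable (p chart) in
/-- the functions on `D₊(b) ⊆ P` over the chart `U`, from the degree-zero localization -/
def secOfAway : Away (𝒮.deg U hU) b →+* Γ(P, WPU p chart hU b) :=
  (((RelProj.emb p chart U hU).appIso (Proj.basicOpen (𝒮.deg U hU) b)).inv.hom).comp
    (Proj.awayToSection (𝒮.deg U hU) b).hom

theorem secOfAway_bijective {d : ℕ} (hd : 0 < d) (hb : b ∈ 𝒮.deg U hU d) :
    Function.Bijective (secOfAway p chart hU b) := by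
  have hiso : IsIso (Proj.awayToSection (𝒮.deg U hU) b) :=
    (Proj.basicOpenIsoAway (𝒮.deg U hU) b hb hd).isIso_hom
  have h1 := ConcreteCategory.bijective_of_isIso (Proj.awayToSection (𝒮.deg U hU) b)
  have h2 := ConcreteCategory.bijective_of_isIso
    ((RelProj.emb p chart U hU).appIso (Proj.basicOpen (𝒮.deg U hU) b)).inv
  exact h2.comp h1

theorem le_preimage_WPU :
    Proj.basicOpen (𝒮.deg U hU) b ≤ (RelProj.emb p chart U hU) ⁻¹ᵁ WPU p chart hU b :=
  fun z hz => ⟨z, hz, rfl⟩

set_option backward.isDefEq.respectTransparency false in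
theorem resO_app_secOfAway (q : Away (𝒮.deg U hU) b) :
    resO (le_preimage_WPU hU b) ((RelProj.emb p chart U hU).app (WPU p chart hU b) (secOfAway p chart hU b q)) =
      (Proj.awayToSection (𝒮.deg U hU) b).hom q := by
  have h1 := congrArg (fun χ => χ.hom ((Proj.awayToSection (𝒮.deg U hU) b).hom q))
    ((RelProj.emb p chart U hU).appIso (Proj.basicOpen (𝒮.deg U hU) b)).inv_hom_id
  rw [Scheme.Hom.appIso_hom] at h1
  exact h1

set_option backward.isDefEq.respectTransparency false in
/-- the function attached to the fraction `a / b^n` reads `a / b^n` -/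
theorem readsO_secOfAway {d : ℕ} (hb : b ∈ 𝒮.deg U hU d) (n : ℕ) (a : 𝒮.presheaf.obj (op U))
    (ha : a ∈ 𝒮.deg U hU (n • d)) :
    ReadsO p chart hU (secOfAway p chart hU b (Away.mk (𝒮.deg U hU) hb n a ha)) a (b ^ n) := by
  intro y hy
  have hyD : y ∈ Proj.basicOpen (𝒮.deg U hU) b := (Proj.mem_basicOpen _ b y).2 (not_mem_of_mem_WPU hU b y hy)
  have h1 : cvO p chart hU (secOfAway p chart hU b (Away.mk (𝒮.deg U hU) hb n a ha)) y hy =
      (GrModQC.valO (𝒮.deg U hU) (resO (le_preimage_WPU hU b) ((RelProj.emb p chart U hU).app (WPU p chart hU b)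
        (secOfAway p chart hU b (Away.mk (𝒮.deg U hU) hb n a ha)))) ⟨y, hyD⟩).val := rfl
  rw [h1, resO_app_secOfAway]
  have h2 : (GrModQC.valO (𝒮.deg U hU) ((Proj.awayToSection (𝒮.deg U hU) b).hom (Away.mk (𝒮.deg U hU) hb n a ha))
      ⟨y, hyD⟩).val = Localization.mk a ⟨b ^ n, GrSectMod.pow_nin (𝒮.deg U hU) n ⟨y, hyD⟩⟩ := rfl
  rw [h2, Localization.mk_mul, Localization.mk_eq_mk_iff, Localization.r_iff_exists]
  refine ⟨1, ?_⟩
  simp only [OneMemClass.coe_one, one_mul, mul_one]
  ring

/-- for `a, b` homogeneous of the same positive degree there is a function on `D₊(b)` reading `a / b` -/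
theorem exists_readsO {d : ℕ} (a : 𝒮.presheaf.obj (op U))
    (ha : a ∈ 𝒮.deg U hU d) (hb : b ∈ 𝒮.deg U hU d) :
    ∃ c : Γ(P, WPU p chart hU b), ReadsO p chart hU c a b := by
  have ha' : a ∈ 𝒮.deg U hU (1 • d) := by rwa [one_smul]
  refine ⟨secOfAway p chart hU b (Away.mk (𝒮.deg U hU) hb 1 a ha'), ?_⟩
  have h := readsO_secOfAway (p := p) (chart := chart) hU b hb 1 a ha'
  rwa [pow_one] at h

end away

variable (hP : RelProj.IsRelProj 𝒮 p chart)

include hP in
/-- change of chart to a basic open -/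
theorem ReadsO.basic {V W : Y.Opens} (hV : IsAffineOpen V) (hW : IsAffineOpen W) (r : Γ(Y, V))
    (e : W = Y.basicOpen r) (hle : W ≤ V) {W₁ : P.Opens} {c : Γ(P, W₁)} {a b : 𝒮.presheaf.obj (op V)}
    (h : ReadsO p chart hV c a b) : ReadsO p chart hW c (𝒮.res hV hW hle a) (𝒮.res hV hW hle b) := by
  intro y hy
  have hy' : (RelProj.emb p chart V hV).base (ProjectiveSpectrum.comap (𝒮.res hV hW hle)
      (irrelevant_le_map_of_eq 𝒮 hV hW r e hle) y) ∈ W₁ := by
    rw [← emb_eq_of_eq hP hV hW r e hle y]; exact hy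
  have h1 := valO_basic hP hV hW r e hle W₁ c y hy hy'
  have h2 := h _ hy'
  unfold cvO at h2 ⊢
  rw [h1]
  have h3 := congrArg (GrTwist.locMap (𝒮.res hV hW hle) (irrelevant_le_map_of_eq 𝒮 hV hW r e hle) y) h2
  rw [map_mul, GrTwist.locMap_mk, GrTwist.locMap_mk] at h3
  refine Eq.trans ?_ (h3.trans ?_)
  · congr 1
    rw [Localization.mk_eq_mk_iff, Localization.r_iff_exists]
    exact ⟨1, by simp⟩
  · rw [Localization.mk_eq_mk_iff, Localization.r_iff_exists]
    exact ⟨1, by simp⟩

/-- scaling numerator and denominator -/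
theorem ReadsO.scale {U : Y.Opens} {hU : IsAffineOpen U} {W₁ : P.Opens} {c : Γ(P, W₁)} {a b : 𝒮.presheaf.obj (op U)}
    (h : ReadsO p chart hU c a b) (r : 𝒮.presheaf.obj (op U)) : ReadsO p chart hU c (r * a) (r * b) := by
  intro y hy
  have h1 : (Localization.mk (r * b) 1 : GrTwist.Loc (𝒮.deg U hU) y) =
      Localization.mk r 1 * Localization.mk b 1 := by
    rw [Localization.mk_mul, one_mul]
  have h2 : (Localization.mk (r * a) 1 : GrTwist.Loc (𝒮.deg U hU) y) =
      Localization.mk r 1 * Localization.mk a 1 := by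
    rw [Localization.mk_mul, one_mul]
  rw [h1, h2, ← h y hy]
  ring

end Groth.Agent.Lib.Helper28.ConeLine
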