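import Mathlib

set_option autoImplicit false
universe u
open CategoryTheory CategoryTheory.Limits AlgebraicGeometry Opposite TopologicalSpace
open HomogeneousLocalization
noncomputable section

namespace Groth.Agent.Lib.Helper28.ProjLine

variable {A : Type u} [CommRing A] (𝒜 : ℕ → AddSubgroup A) [GradedRing 𝒜]
  (t : A) (ht : t ∈ 𝒜 1)
  (H1 : ∀ (d : ℕ) (a : A), a ∈ 𝒜 d → ∃ a₀ ∈ 𝒜 0, a = a₀ * t ^ d)
  (H2 : ∀ a₀ ∈ 𝒜 0, ∀ n : ℕ, t ^ n * a₀ = 0 → a₀ = 0)

include H1 in
theorem basicOpen_eq_top : Proj.basicOpen 𝒜 t = ⊤ := by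
  classical
  have h := Proj.iSup_basicOpen_eq_top 𝒜 (fun _ : Unit => t) ?_
  · rw [← h]
    exact (iSup_const (ι := Unit) (a := Proj.basicOpen 𝒜 t)).symm
  · intro a ha
    have h0 : (DirectSum.decompose 𝒜 a 0 : A) = 0 := ha
    rw [← DirectSum.sum_support_decompose 𝒜 a]
    refine Ideal.sum_mem _ fun d _ => ?_
    by_cases hd : d = 0
    · subst hd
      rw [h0]
      exact Ideal.zero_mem _
    · obtain ⟨a₀, -, ha₀⟩ := H1 d _ (DirectSum.decompose 𝒜 a d).2
      rw [ha₀]
      obtain ⟨e, rfl⟩ := Nat.exists_eq_succ_of_ne_zero hd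
      rw [pow_succ, ← mul_assoc]
      exact Ideal.mul_mem_left _ _ (Ideal.subset_span ⟨(), rfl⟩)

include ht H1 H2 in
theorem bijective_fromZeroRingHom :
    Function.Bijective (fromZeroRingHom 𝒜 (Submonoid.powers t)) := by
  constructor
  · rw [injective_iff_map_eq_zero]
    intro a ha
    have h1 : (fromZeroRingHom 𝒜 (Submonoid.powers t) a).val = 0 := by rw [ha, val_zero]
    have h2 : (fromZeroRingHom 𝒜 (Submonoid.powers t) a).val =
        Localization.mk (a : A) (1 : Submonoid.powers t) := rfl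
    rw [h2, Localization.mk_eq_mk', IsLocalization.mk'_eq_zero_iff] at h1
    obtain ⟨⟨_, n, rfl⟩, hn⟩ := h1
    exact Subtype.ext (H2 a a.2 n hn)
  · intro x
    obtain ⟨n, a, ha, rfl⟩ := Away.mk_surjective 𝒜 ht x
    obtain ⟨a₀, ha₀, rfl⟩ := H1 _ a ha
    refine ⟨⟨a₀, ha₀⟩, ?_⟩
    rw [ext_iff_val, Away.val_mk]
    show Localization.mk a₀ (1 : Submonoid.powers t) = _
    rw [Localization.mk_eq_mk_iff, Localization.r_iff_exists]
    refine ⟨1, ?_⟩
    simp only [OneMemClass.coe_one, one_mul, smul_eq_mul, mul_one]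
    ring

include ht H1 H2 in
/-- `Proj` of a graded ring generated over degree zero by one regular element of degree one -/
theorem isIso_toSpecZero : IsIso (Proj.toSpecZero 𝒜) := by
  have hι : IsIso (Proj.awayι 𝒜 t ht Nat.one_pos) := by
    apply isIso_of_isOpenImmersion_of_opensRange_eq_top
    rw [Proj.opensRange_awayι, basicOpen_eq_top 𝒜 t H1]
  have hb := bijective_fromZeroRingHom 𝒜 t ht H1 H2
  have hr : IsIso (CommRingCat.ofHom (fromZeroRingHom 𝒜 (Submonoid.powers t))) :=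
    (ConcreteCategory.isIso_iff_bijective _).2 hb
  have h := Proj.awayι_toSpecZero 𝒜 t ht Nat.one_pos
  have h2 : Proj.toSpecZero 𝒜 = inv (Proj.awayι 𝒜 t ht Nat.one_pos) ≫
      Spec.map (CommRingCat.ofHom (fromZeroRingHom 𝒜 (Submonoid.powers t))) := by
    rw [← h, IsIso.inv_hom_id_assoc]
  rw [h2]
  infer_instance

end Groth.Agent.Lib.Helper28.ProjLine
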