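import Groth.Agent.Lib.Helper28.SymAlgGraded
import Groth.Agent.Lib.Helper28.ProjLine
import Groth.Agent.Lib.Helper28.GenIso
import Groth.Agent.Lib.Helper28.AmpleBasis

set_option autoImplicit false
universe u
open CategoryTheory CategoryTheory.Limits AlgebraicGeometry Opposite TopologicalSpace
noncomputable section

namespace Groth.Agent.Lib.Helper28.SymAlg

open Groth.Agent.Lib.Helper28 Groth.Agent.Lib.Helper28.QCohLoc Groth.Agent.Lib.Helper28.TraceAlg
open Groth.Agent.Lib.Helper28.GenLocus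

attribute [local instance] algAt

section line

variable {X : Scheme.{u}} {L : X.Modules} [L.IsQuasicoherent]
    {𝒮 : RelProj.QCGrAlg X} {j : L ⟶ 𝒮.toModule} (hS : RelProj.IsGrSymAlg L 𝒮 j)
    {U : X.Opens} (hU : IsAffineOpen U) {g : Γ(L, U)} (hg : IsGen L U g)

omit [L.IsQuasicoherent] in
include hg in
theorem j_eq_coef (m : Γ(L, U)) :
    asR 𝒮.toQCAlg (j.app U m) = (𝒮.str.app (op U)).hom (hg.coef le_rfl m) * asR 𝒮.toQCAlg (j.app U g) := by
  have h1 : (hg.coef le_rfl m • g : Γ(L, U)) = m := by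
    have h := hg.coef_smul le_rfl m
    rw [res_self] at h
    exact h
  conv_lhs => rw [← h1]
  rw [Scheme.Modules.Hom.app_smul]
  rfl

omit [L.IsQuasicoherent] in
include hg in
theorem list_prod_eq (l : List Γ(L, U)) :
    (l.map (fun m => asR 𝒮.toQCAlg (j.app U m))).prod =
      (𝒮.str.app (op U)).hom ((l.map (hg.coef le_rfl)).prod) * asR 𝒮.toQCAlg (j.app U g) ^ l.length := by
  induction l with
  | nil => rw [List.map_nil, List.prod_nil, List.map_nil, List.prod_nil, List.length_nil, pow_zero, map_one, mul_one]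
  | cons m l ih =>
    rw [List.map_cons, List.prod_cons, List.map_cons, List.prod_cons, List.length_cons, ih, j_eq_coef hg m,
      map_mul, pow_succ]
    ring

include hS hU hg in
/-- the degree-`d` part is `O(U) · t^d` -/
theorem exists_eq_str_mul_pow (d : ℕ) (a : 𝒮.presheaf.obj (op U)) (ha : a ∈ 𝒮.deg U hU d) :
    ∃ b : Γ(X, U), a = (𝒮.str.app (op U)).hom b * asR 𝒮.toQCAlg (j.app U g) ^ d := by
  have ha' := deg_le_monoGrp hS U hU d ha
  refine AddSubgroup.closure_induction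
    (p := fun a _ => ∃ b : Γ(X, U), a = (𝒮.str.app (op U)).hom b * asR 𝒮.toQCAlg (j.app U g) ^ d)
    (fun x hx => ?_) ?_ (fun x x' _ _ hx hx' => ?_) (fun x _ hx => ?_) ha'
  · obtain ⟨a, l, rfl, rfl⟩ := hx
    refine ⟨a * (l.map (hg.coef le_rfl)).prod, ?_⟩
    rw [list_prod_eq hg, map_mul, mul_assoc]
  · exact ⟨0, by rw [map_zero, zero_mul]⟩
  · obtain ⟨b, rfl⟩ := hx
    obtain ⟨b', rfl⟩ := hx'
    exact ⟨b + b', by rw [map_add, add_mul]⟩
  · obtain ⟨b, rfl⟩ := hx
    exact ⟨-b, by rw [map_neg, neg_mul]⟩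

include hS hU hg in
/-- evaluation at `t = 1` -/
theorem exists_ev : ∃ ev : 𝒮.presheaf.obj (op U) →+* Γ(X, U),
    (∀ b : Γ(X, U), ev ((𝒮.str.app (op U)).hom b) = b) ∧ ev (asR 𝒮.toQCAlg (j.app U g)) = 1 := by
  let lam : Γ(L, U) →+ Γ(X, U) :=
    { toFun := hg.coef le_rfl
      map_zero' := by
        have h := hg.coef_smul_left le_rfl 0 0
        rw [zero_smul, zero_mul] at h
        exact h
      map_add' := hg.coef_add le_rfl }
  obtain ⟨ev, h1, h2⟩ := exists_ringHom_sec hS.1 U hU (RingHom.id Γ(X, U)) lam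
    (fun a m => hg.coef_smul_left le_rfl a m)
  exact ⟨ev, h1, (h2 g).trans hg.coef_self⟩

include hS hU hg in
theorem isIso_toSpecZero_line : IsIso (Proj.toSpecZero (𝒮.deg U hU)) := by
  obtain ⟨ev, hev1, hev2⟩ := exists_ev hS hU hg
  refine ProjLine.isIso_toSpecZero (𝒮.deg U hU) (asR 𝒮.toQCAlg (j.app U g)) (hS.2 U hU g) ?_ ?_
  · intro d a ha
    obtain ⟨b, rfl⟩ := exists_eq_str_mul_pow hS hU hg d a ha
    exact ⟨_, 𝒮.str_mem U hU b, rfl⟩
  · intro a₀ ha₀ n hn
    obtain ⟨b, rfl⟩ := exists_eq_str_mul_pow hS hU hg 0 a₀ ha₀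
    have h := congrArg ev hn
    rw [map_mul, map_pow, hev2, one_pow, one_mul, map_mul, map_pow, hev2, one_pow, mul_one, hev1, map_zero] at h
    rw [h, map_zero, zero_mul]

include hS hU hg in
theorem isIso_strZero_line : IsIso (𝒮.strZero U hU) := by
  obtain ⟨ev, hev1, hev2⟩ := exists_ev hS hU hg
  refine (ConcreteCategory.isIso_iff_bijective _).2 ⟨fun r r' h => ?_, fun a₀ => ?_⟩
  · have h1 : (𝒮.str.app (op U)).hom r = (𝒮.str.app (op U)).hom r' := congrArg Subtype.val h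
    have h2 := congrArg ev h1
    rw [hev1, hev1] at h2
    exact h2
  · obtain ⟨b, hb⟩ := exists_eq_str_mul_pow hS hU hg 0 a₀.1 a₀.2
    refine ⟨b, Subtype.ext ?_⟩
    rw [pow_zero, mul_one] at hb
    exact hb.symm

end line

/-- **`Proj(Sym L) → X` is an isomorphism for an invertible module `L`** -/
theorem isIso_proj_symLine {X PL : Scheme.{u}} {L : X.Modules} [L.IsQuasicoherent] (hL : PicF.IsInvertible L)
    {𝒮 : RelProj.QCGrAlg X} {j : L ⟶ 𝒮.toModule} (hS : RelProj.IsGrSymAlg L 𝒮 j)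
    (pL : PL ⟶ X)
    (chartL : ∀ (U : X.Opens) (hU : IsAffineOpen U), (((pL ⁻¹ᵁ U : PL.Opens) : Scheme.{u}) ≅ Proj (𝒮.deg U hU)))
    (hPL : RelProj.IsRelProj 𝒮 pL chartL) : IsIso pL := by
  choose U g hxU hU hg using GenLocus.exists_isGen_affine L hL
  have hcov : iSup U = ⊤ := by
    refine top_le_iff.1 fun x _ => ?_
    exact Opens.mem_iSup.2 ⟨x, hxU x⟩
  show (MorphismProperty.isomorphisms Scheme) pL
  rw [IsZariskiLocalAtTarget.iff_of_iSup_eq_top (P := MorphismProperty.isomorphisms Scheme) U hcov]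
  intro x
  show IsIso (pL ∣_ U x)
  have h1 := hPL.chart_over (U x) (hU x)
  have h2 : (pL ∣_ U x) ≫ (U x).ι = (pL ⁻¹ᵁ U x).ι ≫ pL := morphismRestrict_ι pL (U x)
  have h3 : (hU x).fromSpec = (hU x).isoSpec.inv ≫ (U x).ι := ((hU x).isoSpec_inv_ι).symm
  have h4 : pL ∣_ U x = (chartL (U x) (hU x)).hom ≫ Proj.toSpecZero (𝒮.deg (U x) (hU x)) ≫
      Spec.map (𝒮.strZero (U x) (hU x)) ≫ (hU x).isoSpec.inv := by
    rw [← cancel_mono (U x).ι, h2, ← h1, h3]
    simp only [Category.assoc]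
  rw [h4]
  have i1 := isIso_toSpecZero_line hS (hU x) (hg x)
  have i2 := isIso_strZero_line hS (hU x) (hg x)
  infer_instance

end Groth.Agent.Lib.Helper28.SymAlg
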