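import Groth.Agent.Lib.Helper28.SymAlgSec
import Groth.Agent.Lib.Helper28.ModIsoCover

set_option autoImplicit false
universe u
open CategoryTheory CategoryTheory.Limits AlgebraicGeometry Opposite TopologicalSpace
noncomputable section

namespace Groth.Agent.Lib.Helper28.SymAlg

open Groth.Agent.Lib.Helper28 Groth.Agent.Lib.Helper28.QCohLoc Groth.Agent.Lib.Helper28.TraceAlg

attribute [local instance] algAt

variable {S : Scheme.{u}}

theorem str_res (A : RelSpec.QCAlg S) {U V : S.Opens} (h : V ≤ U) (a : Γ(S, U)) :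
    (A.str.app (op V)).hom (resO h a) = (A.presheaf.map (homOfLE h).op).hom ((A.str.app (op U)).hom a) :=
  congrArg (fun χ => χ.hom a) (A.str.naturality (homOfLE h).op)

/-- the underlying module of a quasi-coherent algebra is localizing on affine opens -/
theorem isLocOn_toModule (A : RelSpec.QCAlg S) {U : S.Opens} (hU : IsAffineOpen U) : IsLocOn A.toModule U := by
  refine ⟨fun r y => ?_, fun r x hx => ?_⟩
  · let _ : Algebra (A.presheaf.obj (op U)) (A.presheaf.obj (op (S.basicOpen r))) :=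
      (A.presheaf.map (homOfLE (S.basicOpen_le r)).op).hom.toAlgebra
    have hloc : IsLocalization.Away ((A.str.app (op U)).hom r) (A.presheaf.obj (op (S.basicOpen r))) := A.isQC U hU r
    obtain ⟨n, a, ha⟩ := IsLocalization.Away.surj ((A.str.app (op U)).hom r) (asR A y)
    refine ⟨n, ofR A a, ?_⟩
    show (A.str.app (op (S.basicOpen r))).hom ((resO (S.basicOpen_le r) r) ^ n) * asR A y =
      (A.presheaf.map (homOfLE (S.basicOpen_le r)).op).hom a
    rw [map_pow, str_res, mul_comm]
    exact ha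
  · let _ : Algebra (A.presheaf.obj (op U)) (A.presheaf.obj (op (S.basicOpen r))) :=
      (A.presheaf.map (homOfLE (S.basicOpen_le r)).op).hom.toAlgebra
    have hloc : IsLocalization.Away ((A.str.app (op U)).hom r) (A.presheaf.obj (op (S.basicOpen r))) := A.isQC U hU r
    have h0 : algebraMap (A.presheaf.obj (op U)) (A.presheaf.obj (op (S.basicOpen r))) (asR A x) = 0 := hx
    obtain ⟨⟨m, n, rfl⟩, hm⟩ := (IsLocalization.map_eq_zero_iff (Submonoid.powers ((A.str.app (op U)).hom r))
      (A.presheaf.obj (op (S.basicOpen r))) (asR A x)).1 h0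
    refine ⟨n, ?_⟩
    show (A.str.app (op U)).hom (r ^ n) * asR A x = 0
    rw [map_pow]
    exact hm

theorem toModuleMap_app' {A B : RelSpec.QCAlg S} (ψ : A ⟶ B) (W : S.Opens) (z : Γ(A.toModule, W)) :
    (RelSpec.QCAlg.Hom.toModuleMap ψ).app W z = (ψ.hom.app (op W)).hom z := rfl

/-- a homomorphism of quasi-coherent algebras which is bijective over the affine opens is an isomorphism -/
theorem exists_inv_of_bijective_affine {A B : RelSpec.QCAlg S} (ψ : A ⟶ B)
    (h : ∀ (U : S.Opens), IsAffineOpen U → Function.Bijective (ψ.hom.app (op U)).hom) :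
    ∃ g : B ⟶ A, ψ ≫ g = 𝟙 A ∧ g ≫ ψ = 𝟙 B := by
  have hiso : IsIso (RelSpec.QCAlg.Hom.toModuleMap ψ) := by
    refine isIso_of_affine_cover (RelSpec.QCAlg.Hom.toModuleMap ψ) (fun U : S.affineOpens => U.1)
      (fun U => U.2) (fun x => ?_) (fun U => isLocOn_toModule A U.2) (fun U => isLocOn_toModule B U.2)
      (fun U => h U.1 U.2)
    obtain ⟨U, hU, hxU, -⟩ := Opens.isBasis_iff_nbhd.1 S.isBasis_affineOpens
      (show x ∈ (⊤ : S.Opens) from trivial)
    exact ⟨⟨U, hU⟩, hxU⟩
  have hbij : ∀ W : S.Opens, Function.Bijective (ψ.hom.app (op W)).hom := by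
    intro W
    refine Function.bijective_iff_has_inverse.2 ⟨fun y => (inv (RelSpec.QCAlg.Hom.toModuleMap ψ)).app W y,
      fun x => ?_, fun y => ?_⟩
    · exact congrArg (fun χ : A.toModule ⟶ A.toModule => χ.app W x) (IsIso.hom_inv_id (RelSpec.QCAlg.Hom.toModuleMap ψ))
    · exact congrArg (fun χ : B.toModule ⟶ B.toModule => χ.app W y) (IsIso.inv_hom_id (RelSpec.QCAlg.Hom.toModuleMap ψ))
  have happ : ∀ W : (Opens S)ᵒᵖ, IsIso (ψ.hom.app W) := by
    intro W
    exact (ConcreteCategory.isIso_iff_bijective _).2 (hbij W.unop)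
  have hnat : IsIso ψ.hom := NatIso.isIso_of_isIso_app ψ.hom
  refine ⟨⟨inv ψ.hom, ?_⟩, ?_, ?_⟩
  · rw [← ψ.comm, Category.assoc, IsIso.hom_inv_id, Category.comp_id]
  · apply RelSpec.QCAlg.hom_ext
    exact IsIso.hom_inv_id ψ.hom
  · apply RelSpec.QCAlg.hom_ext
    exact IsIso.inv_hom_id ψ.hom

/-- **criterion**: a quasi-coherent algebra whose sections over every affine open are the symmetric algebra of the
sections of `E` is the symmetric algebra of `E` -/
theorem isSymAlg_of_liftU_bijective {E : S.Modules} [E.IsQuasicoherent] (A : RelSpec.QCAlg S) (j : E ⟶ A.toModule)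
    (h : ∀ (U : S.Opens), IsAffineOpen U → Function.Bijective (liftU A j U)) : RelSpec.IsSymAlg E A j := by
  have hQC := isQC_symPre_of_isQuasicoherent E
  have h₀ := isSymAlg hQC
  obtain ⟨ψ, hψ, -⟩ := h₀ A j
  have hψ' : jHom E hQC ≫ RelSpec.QCAlg.Hom.toModuleMap ψ = j := hψ
  have hbij : ∀ (U : S.Opens), IsAffineOpen U → Function.Bijective (ψ.hom.app (op U)).hom := by
    intro U hU
    have key : (ψ.hom.app (op U)).hom.comp (liftU (symAlg E hQC) (jHom E hQC) U).toRingHom =
        (liftU A j U).toRingHom := by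
      apply ringHom_ext
      · intro a
        show (ψ.hom.app (op U)).hom (liftU (symAlg E hQC) (jHom E hQC) U _) = liftU A j U _
        rw [liftU_algebraMap, liftU_algebraMap]
        exact congrArg (fun χ => (χ.app (op U)).hom a) ψ.comm
      · intro m
        show (ψ.hom.app (op U)).hom (liftU (symAlg E hQC) (jHom E hQC) U _) = liftU A j U _
        rw [liftU_ι, liftU_ι, ← hψ']
        rfl
    have h1 := liftU_bijective h₀ U hU
    have h2 := h U hU
    have h3 : (ψ.hom.app (op U)).hom ∘ (liftU (symAlg E hQC) (jHom E hQC) U) = liftU A j U := by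
      funext z
      exact RingHom.congr_fun key z
    have h4 : (ψ.hom.app (op U)).hom =
        (liftU A j U) ∘ (Equiv.ofBijective _ h1).symm := by
      funext y
      obtain ⟨z, rfl⟩ := h1.2 y
      show _ = liftU A j U ((Equiv.ofBijective _ h1).symm ((Equiv.ofBijective _ h1) z))
      rw [Equiv.symm_apply_apply]
      exact congrFun h3 z
    rw [h4]
    exact h2.comp (Equiv.bijective _)
  obtain ⟨g, hψg, hgψ⟩ := exists_inv_of_bijective_affine ψ hbij
  intro B φ
  obtain ⟨θ, hθ, hθu⟩ := h₀ B φ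
  have hθ' : jHom E hQC ≫ RelSpec.QCAlg.Hom.toModuleMap θ = φ := hθ
  refine ⟨g ≫ θ, ?_, fun χ hχ => ?_⟩
  · show j ≫ RelSpec.QCAlg.Hom.toModuleMap (g ≫ θ) = φ
    rw [← hψ', Category.assoc, ← toModuleMap_comp, ← Category.assoc, hψg, Category.id_comp]
    exact hθ'
  · have hχ' : j ≫ RelSpec.QCAlg.Hom.toModuleMap χ = φ := hχ
    have h1 : ψ ≫ χ = θ := hθu _ (by
      show jHom E hQC ≫ RelSpec.QCAlg.Hom.toModuleMap (ψ ≫ χ) = φ
      rw [toModuleMap_comp, ← Category.assoc, hψ']
      exact hχ')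
    rw [← h1, ← Category.assoc, hgψ, Category.id_comp]

end Groth.Agent.Lib.Helper28.SymAlg
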