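import Groth.Agent.Lib.Helper28.ConeLineA
import Groth.Agent.Lib.Helper28.ProjSymLine
import Groth.Agent.Lib.Helper28.ConeImm
import Groth.Agent.Lib.Helper28.ProjUPGeom
import Groth.Agent.Lib.Helper28.VeryAmpleImm
import Groth.Agent.Lib.Helper28.SymAlgCrit

/-!
# The pointed projective cone of a line bundle: the pairing and the local geometry (helper28)

* `pair κ s ℓ`: the function `⟨s, ℓ⟩` attached to sections of `L` and `L'` through `κ : L ⊗ L' ≅ O`.
* `tau`, `tauh`: the degree-one elements of `𝒮(V)`, `𝒮[z](V)` attached to a section of `L`.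
* `inf_eq_WPU`: over an affine open `V` on which `t` generates `L`, the pointed projective cone is `D₊(t)`.
-/

set_option autoImplicit false
universe u
open CategoryTheory CategoryTheory.Limits AlgebraicGeometry Opposite TopologicalSpace
open HomogeneousLocalization
open scoped HomogeneousIdeal
noncomputable section

namespace Groth.Agent.Lib.Helper28.ConeLine

open Groth.Agent.Lib.Helper28 Groth.Agent.Lib.Helper28.QCohLoc Groth.Agent.Lib.Helper28.TraceAlg
open Groth.Agent.Lib.Helper28.GenLocus Groth.Agent.Lib.Helper28.SymAlg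
open Groth.Agent.Lib.Helper28.RelTwistVal Groth.Agent.Lib.Helper28.RLPsiU Groth.Agent.Lib.Helper28.RLPsiV
open Groth.Agent.Lib.Helper28.ProjQCone (χ)
open Groth.Agent.Lib.Helper28.AmpleLocal (fnOf fnOf_res fnOf_smul isUnit_fnOf)

section pair

variable {Y : Scheme.{u}} {L L' : Y.Modules} (κ : CohB1.tensorMod L L' ≅ Coh.structureModule Y)

/-- the function `⟨s, ℓ⟩` -/
def pair {W : Y.Opens} (s : Γ(L, W)) (ℓ : Γ(L', W)) : Γ(Y, W) :=
  fnOf (κ.hom.app W (TensorGen.tmulSec L L' s ℓ))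

theorem pair_add_right {W : Y.Opens} (s : Γ(L, W)) (ℓ ℓ' : Γ(L', W)) :
    pair κ s (ℓ + ℓ') = pair κ s ℓ + pair κ s ℓ' := by
  unfold pair
  rw [TensorGen.tmulSec_add_right, map_add]
  rfl

theorem pair_smul_right {W : Y.Opens} (a : Γ(Y, W)) (s : Γ(L, W)) (ℓ : Γ(L', W)) :
    pair κ s (a • ℓ) = a * pair κ s ℓ := by
  unfold pair
  rw [TensorGen.tmulSec_smul_right, Scheme.Modules.Hom.app_smul, fnOf_smul]

theorem pair_smul_left {W : Y.Opens} (a : Γ(Y, W)) (s : Γ(L, W)) (ℓ : Γ(L', W)) :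
    pair κ (a • s) ℓ = a * pair κ s ℓ := by
  unfold pair
  rw [TensorGen.tmulSec_smul_left, Scheme.Modules.Hom.app_smul, fnOf_smul]

theorem pair_res {W W' : Y.Opens} (h : W' ≤ W) (s : Γ(L, W)) (ℓ : Γ(L', W)) :
    pair κ (res L h s) (res L' h ℓ) = resO h (pair κ s ℓ) := by
  unfold pair
  rw [← TensorGen.tmulSec_res, app_res, fnOf_res]

theorem isUnit_pair {W : Y.Opens} {s : Γ(L, W)} {ℓ : Γ(L', W)} (hs : IsGen L W s) (hℓ : IsGen L' W ℓ) :
    IsUnit (pair κ s ℓ) :=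
  isUnit_fnOf (VeryAmpleImm.isGen_app_iso κ (InvTensor.isGen_tmulSec L L' hs hℓ))

end pair

section line

variable {Y : Scheme.{u}} {L : Y.Modules} {𝒮 𝒮h : RelProj.QCGrAlg Y} (j : L ⟶ 𝒮.toModule)
  (ι : 𝒮.toQCAlg ⟶ 𝒮h.toQCAlg)

/-- the element of `𝒮(V)` attached to a section of `L` -/
def tau (V : Y.Opens) (t : Γ(L, V)) : 𝒮.presheaf.obj (op V) := asR 𝒮.toQCAlg (j.app V t)

/-- the element of `𝒮[z](V)` attached to a section of `L` -/
def tauh (V : Y.Opens) (t : Γ(L, V)) : 𝒮h.presheaf.obj (op V) := (ι.hom.app (op V)).hom (tau j V t)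

theorem tau_res {V W : Y.Opens} (h : W ≤ V) (t : Γ(L, V)) :
    (𝒮.presheaf.map (homOfLE h).op).hom (tau j V t) = tau j W (res L h t) := by
  unfold tau
  rw [app_res]
  rfl

theorem tauh_res {V W : Y.Opens} (h : W ≤ V) (t : Γ(L, V)) :
    (𝒮h.presheaf.map (homOfLE h).op).hom (tauh j ι V t) = tauh j ι W (res L h t) := by
  unfold tauh
  rw [← tau_res j h t]
  exact (congrArg (fun χ => χ.hom (tau j V t)) (ι.hom.naturality (homOfLE h).op)).symm

theorem tau_smul {V : Y.Opens} (a : Γ(Y, V)) (t : Γ(L, V)) :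
    tau j V (a • t) = (𝒮.str.app (op V)).hom a * tau j V t := by
  unfold tau
  rw [Scheme.Modules.Hom.app_smul]
  rfl

theorem ι_str {V : Y.Opens} (a : Γ(Y, V)) :
    (ι.hom.app (op V)).hom ((𝒮.str.app (op V)).hom a) = (𝒮h.str.app (op V)).hom a :=
  congrArg (fun χ => (χ.app (op V)).hom a) ι.comm

theorem tauh_smul {V : Y.Opens} (a : Γ(Y, V)) (t : Γ(L, V)) :
    tauh j ι V (a • t) = (𝒮h.str.app (op V)).hom a * tauh j ι V t := by
  unfold tauh
  rw [tau_smul, map_mul, ι_str]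

theorem z_res (z : 𝒮h.presheaf.obj (op ⊤)) {V W : Y.Opens} (h : W ≤ V) :
    (𝒮h.presheaf.map (homOfLE h).op).hom (RelCone.restrictTop 𝒮h z V) = RelCone.restrictTop 𝒮h z W := by
  unfold RelCone.restrictTop
  rw [← CommRingCat.comp_apply, ← Functor.map_comp]
  rfl

end line

section geom

variable {Y PC : Scheme.{u}} {L : Y.Modules} {𝒮 𝒮h : RelProj.QCGrAlg Y} {j : L ⟶ 𝒮.toModule}
  (hS : RelProj.IsGrSymAlg L 𝒮 j)
  {ι : 𝒮.toQCAlg ⟶ 𝒮h.toQCAlg} {z : 𝒮h.presheaf.obj (op ⊤)} (hz : RelCone.IsPolyOver 𝒮 𝒮h ι z)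
  {pC : PC ⟶ Y}
  {chartC : ∀ (U : Y.Opens) (hU : IsAffineOpen U), (((pC ⁻¹ᵁ U : PC.Opens) : Scheme.{u}) ≅ Proj (𝒮h.deg U hU))}
  (hPC : RelProj.IsRelProj 𝒮h pC chartC)
  {V : Y.Opens} (hV : IsAffineOpen V) {t : Γ(L, V)} (ht : IsGen L V t)

include hS in
theorem tau_mem (t : Γ(L, V)) : tau j V t ∈ 𝒮.deg V hV 1 := hS.2 V hV t

include hS hz in
theorem tauh_mem (t : Γ(L, V)) : tauh j ι V t ∈ 𝒮h.deg V hV 1 :=
  (χ hz V hV).map_mem (tau_mem hS hV t)

variable [L.IsQuasicoherent]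

include hS ht in
/-- the irrelevant ideal of `Sym(L)(V)` is generated by the generator of `L` -/
theorem irrelevant_le_span :
    ((𝒮.deg V hV)₊).toIdeal ≤ Ideal.span {tau j V t} := by
  classical
  intro a ha
  have h0 : (DirectSum.decompose (𝒮.deg V hV) a 0 : 𝒮.presheaf.obj (op V)) = 0 := ha
  rw [← DirectSum.sum_support_decompose (𝒮.deg V hV) a]
  refine Ideal.sum_mem _ fun d _ => ?_
  by_cases hd : d = 0
  · subst hd
    rw [h0]
    exact Ideal.zero_mem _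
  · obtain ⟨b, hb⟩ := exists_eq_str_mul_pow hS hV ht d _ (DirectSum.decompose (𝒮.deg V hV) a d).2
    rw [hb]
    obtain ⟨e, rfl⟩ := Nat.exists_eq_succ_of_ne_zero hd
    rw [pow_succ, ← mul_assoc]
    exact Ideal.mul_mem_left _ _ (Ideal.subset_span rfl)

include hS ht in
/-- over `V` the open of definition of the retraction is `D₊(t)` -/
theorem domOpen_eq :
    RelCone.domOpen (χ hz V hV) = Proj.basicOpen (𝒮h.deg V hV) (tauh j ι V t) := by
  ext y
  rw [SetLike.mem_coe, SetLike.mem_coe, RelCone.mem_domOpen, Proj.mem_basicOpen]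
  constructor
  · rintro ⟨f, hf, hfy⟩ hty
    obtain ⟨g, rfl⟩ := Ideal.mem_span_singleton'.1 (irrelevant_le_span hS hV ht hf)
    apply hfy
    have h1 : (χ hz V hV) (g * tau j V t) = (χ hz V hV) g * tauh j ι V t := map_mul _ _ _
    rw [h1]
    exact Ideal.mul_mem_left _ _ hty
  · intro hty
    refine ⟨tau j V t, ?_, hty⟩
    exact HomogeneousIdeal.mem_irrelevant_of_mem _ one_pos (tau_mem hS hV t)

include hS ht hPC in
/-- over `V` the pointed projective cone is `D₊(t)` -/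
theorem inf_eq_WPU :
    RelCone.pointedProjCone 𝒮 hz pC chartC ⊓ pC ⁻¹ᵁ V = WPU pC chartC hV (tauh j ι V t) := by
  ext x
  constructor
  · rintro ⟨hxE, hxV⟩
    obtain ⟨y, rfl⟩ := (RelProjQ.mem_range_emb pC chartC V hV x).2 hxV
    have h1 := (ConeImm.emb_mem_pointedProjCone_iff hz pC chartC hPC V hV y).1 hxE
    rw [domOpen_eq hS hz hV ht] at h1
    exact ⟨y, h1, rfl⟩
  · rintro ⟨y, hy, rfl⟩
    refine ⟨(ConeImm.emb_mem_pointedProjCone_iff hz pC chartC hPC V hV y).2 ?_, ?_⟩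
    · rw [domOpen_eq hS hz hV ht]; exact hy
    · exact (RelProjQ.mem_range_emb pC chartC V hV _).1 ⟨y, rfl⟩

end geom

end Groth.Agent.Lib.Helper28.ConeLine
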