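import Groth.Agent.Lib.Helper28.ConeLineB

/-!
# The pointed projective cone of a line bundle: functions reading `⟨t, ℓ⟩ z / t` (helper28)

`Rd`: the function `c` on an open of the projective cone reads `⟨t, ℓ⟩ z / t` in the chart over `V`; the calculus of this
relation (additivity, linearity, restriction, uniqueness, existence, independence of the generator).
-/

set_option autoImplicit false
universe u
open CategoryTheory CategoryTheory.Limits AlgebraicGeometry Opposite TopologicalSpace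
open HomogeneousLocalization
open scoped HomogeneousIdeal
noncomputable section

namespace Groth.Agent.Lib.Helper28.ConeLine

open Groth.Agent.Lib.Helper28 Groth.Agent.Lib.Helper28.QCohLoc Groth.Agent.Lib.Helper28.TraceAlg
open Groth.Agent.Lib.Helper28.GenLocus Groth.Agent.Lib.Helper28.SymAlg
open Groth.Agent.Lib.Helper28.RelTwistVal Groth.Agent.Lib.Helper28.RLPsiU Groth.Agent.Lib.Helper28.RLPsiV
open Groth.Agent.Lib.Helper28.ProjQCone (χ)

section num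

variable {Y : Scheme.{u}} {L L' : Y.Modules} (κ : CohB1.tensorMod L L' ≅ Coh.structureModule Y)
  {𝒮h : RelProj.QCGrAlg Y} (z : 𝒮h.presheaf.obj (op ⊤))

/-- the numerator `⟨t, ℓ⟩ z` -/
def num (V : Y.Opens) (t : Γ(L, V)) (ℓ : Γ(L', V)) : 𝒮h.presheaf.obj (op V) :=
  (𝒮h.str.app (op V)).hom (pair κ t ℓ) * RelCone.restrictTop 𝒮h z V

theorem num_add {V : Y.Opens} (t : Γ(L, V)) (ℓ ℓ' : Γ(L', V)) :
    num κ z V t (ℓ + ℓ') = num κ z V t ℓ + num κ z V t ℓ' := by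
  unfold num
  rw [pair_add_right, map_add, add_mul]

theorem num_smul {V : Y.Opens} (a : Γ(Y, V)) (t : Γ(L, V)) (ℓ : Γ(L', V)) :
    num κ z V t (a • ℓ) = (𝒮h.str.app (op V)).hom a * num κ z V t ℓ := by
  unfold num
  rw [pair_smul_right, map_mul, mul_assoc]

theorem num_smul_left {V : Y.Opens} (a : Γ(Y, V)) (t : Γ(L, V)) (ℓ : Γ(L', V)) :
    num κ z V (a • t) ℓ = (𝒮h.str.app (op V)).hom a * num κ z V t ℓ := by
  unfold num
  rw [pair_smul_left, map_mul, mul_assoc]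

theorem num_res {V W : Y.Opens} (h : W ≤ V) (t : Γ(L, V)) (ℓ : Γ(L', V)) :
    (𝒮h.presheaf.map (homOfLE h).op).hom (num κ z V t ℓ) = num κ z W (res L h t) (res L' h ℓ) := by
  unfold num
  rw [map_mul, z_res, pair_res, SymAlg.str_res]

theorem num_mem (hz1 : ∀ (U : Y.Opens) (hU : IsAffineOpen U), RelCone.restrictTop 𝒮h z U ∈ 𝒮h.deg U hU 1)
    {V : Y.Opens} (hV : IsAffineOpen V) (t : Γ(L, V)) (ℓ : Γ(L', V)) :
    num κ z V t ℓ ∈ 𝒮h.deg V hV 1 := by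
  have h := SetLike.mul_mem_graded (A := 𝒮h.deg V hV) (𝒮h.str_mem V hV (pair κ t ℓ)) (hz1 V hV)
  rwa [zero_add] at h

end num

section rd

variable {Y PC : Scheme.{u}} {L L' : Y.Modules} (κ : CohB1.tensorMod L L' ≅ Coh.structureModule Y)
  {𝒮 𝒮h : RelProj.QCGrAlg Y} (j : L ⟶ 𝒮.toModule)
  (ι : 𝒮.toQCAlg ⟶ 𝒮h.toQCAlg) (z : 𝒮h.presheaf.obj (op ⊤))
  (pC : PC ⟶ Y)
  (chartC : ∀ (U : Y.Opens) (hU : IsAffineOpen U), (((pC ⁻¹ᵁ U : PC.Opens) : Scheme.{u}) ≅ Proj (𝒮h.deg U hU)))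

/-- the function `c` reads `⟨t, ℓ⟩ z / t` in the chart over `V` -/
def Rd {V : Y.Opens} (hV : IsAffineOpen V) (t : Γ(L, V)) {W₁ : PC.Opens} (c : Γ(PC, W₁)) (ℓ : Γ(L', V)) : Prop :=
  ReadsO pC chartC hV c (num κ z V t ℓ) (tauh j ι V t)

variable {κ j ι z pC chartC}

theorem Rd.add {V : Y.Opens} {hV : IsAffineOpen V} {t : Γ(L, V)} {W₁ : PC.Opens} {c c' : Γ(PC, W₁)}
    {ℓ ℓ' : Γ(L', V)} (h : Rd κ j ι z pC chartC hV t c ℓ) (h' : Rd κ j ι z pC chartC hV t c' ℓ') :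
    Rd κ j ι z pC chartC hV t (c + c') (ℓ + ℓ') := by
  unfold Rd at h h' ⊢
  rw [num_add]
  exact h.add h'

theorem Rd.resO {V : Y.Opens} {hV : IsAffineOpen V} {t : Γ(L, V)} {W₁ W₂ : PC.Opens} (hle : W₂ ≤ W₁)
    {c : Γ(PC, W₁)} {ℓ : Γ(L', V)} (h : Rd κ j ι z pC chartC hV t c ℓ) :
    Rd κ j ι z pC chartC hV t (QCohLoc.resO hle c) ℓ :=
  ReadsO.resO hle h

theorem Rd.unique {V : Y.Opens} {hV : IsAffineOpen V} {t : Γ(L, V)} {W₁ : PC.Opens} {c c' : Γ(PC, W₁)}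
    {ℓ : Γ(L', V)} (hW : W₁ ≤ WPU pC chartC hV (tauh j ι V t))
    (h : Rd κ j ι z pC chartC hV t c ℓ) (h' : Rd κ j ι z pC chartC hV t c' ℓ) : c = c' :=
  ReadsO.unique hW h h'

variable (hPC : RelProj.IsRelProj 𝒮h pC chartC)

include hPC in
theorem Rd.smul {V : Y.Opens} {hV : IsAffineOpen V} {t : Γ(L, V)} {W₁ : PC.Opens} (hle : W₁ ≤ pC ⁻¹ᵁ V)
    (a : Γ(Y, V)) {c : Γ(PC, W₁)} {ℓ : Γ(L', V)} (h : Rd κ j ι z pC chartC hV t c ℓ) :
    Rd κ j ι z pC chartC hV t (pC.appLE V W₁ hle a * c) (a • ℓ) := by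
  have h1 := (ReadsO.base hPC hle a).mul h
  rw [one_mul] at h1
  unfold Rd
  rw [num_smul]
  exact h1

include hPC in
/-- independence of the generator and restriction to a basic open of the base -/
theorem Rd.basic {V W : Y.Opens} (hV : IsAffineOpen V) (hW : IsAffineOpen W) (r : Γ(Y, V))
    (e : W = Y.basicOpen r) (hle : W ≤ V) {t : Γ(L, V)} {t' : Γ(L, W)} (ht : IsGen L V t) (ht' : IsGen L W t')
    {W₁ : PC.Opens} {c : Γ(PC, W₁)} {ℓ : Γ(L', V)} (h : Rd κ j ι z pC chartC hV t c ℓ) :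
    Rd κ j ι z pC chartC hW t' c (res L' hle ℓ) := by
  have h1 := ReadsO.basic hPC hV hW r e hle h
  rw [RelProj.QCGrAlg.res_apply, RelProj.QCGrAlg.res_apply, num_res, tauh_res] at h1
  have hut : (ht'.coef le_rfl (res L hle t) • t' : Γ(L, W)) = res L hle t := by
    have := ht'.coef_smul le_rfl (res L hle t)
    rwa [res_self] at this
  obtain ⟨v, hv⟩ := ProjUPGeom.isUnit_coef_of_isGen (ht.res hle) ht'
  have h2 : ReadsO pC chartC hW c (num κ z W ((v : Γ(Y, W)) • t') (res L' hle ℓ)) (tauh j ι W ((v : Γ(Y, W)) • t')) := by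
    rw [hv, hut]
    exact h1
  rw [num_smul_left, tauh_smul] at h2
  have h3 := ReadsO.scale h2 ((𝒮h.str.app (op W)).hom ((v⁻¹ : (Γ(Y, W))ˣ) : Γ(Y, W)))
  rw [← mul_assoc, ← mul_assoc, ← map_mul, Units.inv_mul, map_one, one_mul, one_mul] at h3
  exact h3

theorem Rd.exists (hS : RelProj.IsGrSymAlg L 𝒮 j) (hz : RelCone.IsPolyOver 𝒮 𝒮h ι z)
    {V : Y.Opens} (hV : IsAffineOpen V) (t : Γ(L, V)) (ℓ : Γ(L', V)) :
    ∃ c : Γ(PC, WPU pC chartC hV (tauh j ι V t)), Rd κ j ι z pC chartC hV t c ℓ :=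
  exists_readsO hV (tauh j ι V t) (num κ z V t ℓ) (num_mem κ z hz.deg_z hV t ℓ) (tauh_mem hS hz hV t)

end rd

end Groth.Agent.Lib.Helper28.ConeLine
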