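import Groth.Agent.Lib.Helper28.RLPsiU2

set_option autoImplicit false
universe u
open CategoryTheory CategoryTheory.Limits AlgebraicGeometry Opposite TopologicalSpace
open HomogeneousLocalization
noncomputable section

namespace Groth.Agent.Lib.Helper28.RLPsiU

open Groth.Agent.Lib.Helper28 Groth.Agent.Lib.Helper28.QCohLoc Groth.Agent.Lib.Helper28.TraceAlg
open Groth.Agent.Lib.Helper28.GenLocus Groth.Agent.Lib.Helper28.SymAlg
open Groth.Agent.Lib.Helper28.RLPsi
open Groth.Agent.Lib.Helper28.RelProjBC (AffPair)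
open Groth.Agent.Lib.Helper28.RelProjQ (φQ mem_range_emb)
open Groth.Agent.Lib.Helper28.ProjQ (mem_dom_iff exists_basicOpen)
open Groth.Agent.Lib.Helper28.ProjQRel (D)
open Groth.Agent.Lib.Helper28.ProjQComp (emb_mem_domQ_iff)

attribute [local instance] algAt

section main

variable {Y X P PL : Scheme.{u}} {q : X ⟶ Y} {L : X.Modules} [L.IsQuasicoherent]
  {𝒮 : RelProj.QCGrAlg Y} {𝒮L : RelProj.QCGrAlg X} {j : L ⟶ 𝒮L.toModule} (hj : RelProj.IsGrSymAlg L 𝒮L j)
  (u : RelProj.QGrHom q 𝒮 𝒮L)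
  (p : P ⟶ Y) (chart : ∀ (U : Y.Opens) (hU : IsAffineOpen U), (((p ⁻¹ᵁ U : P.Opens) : Scheme.{u}) ≅ Proj (𝒮.deg U hU)))
  (hP : RelProj.IsRelProj 𝒮 p chart)
  (pL : PL ⟶ X)
  (chartL : ∀ (U : X.Opens) (hU : IsAffineOpen U), (((pL ⁻¹ᵁ U : PL.Opens) : Scheme.{u}) ≅ Proj (𝒮L.deg U hU)))
  (hPL : RelProj.IsRelProj 𝒮L pL chartL)
  (r : ((RelProj.domQ u pL chartL : PL.Opens) : Scheme.{u}) ⟶ P)
  (hr : RelProj.IsProjQMapOn u p chart pL chartL (RelProj.domQ u pL chartL) r)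

include hj hP hPL hr in
/-- `X_t` is affine as soon as `r⁻¹(D₊(s))` is -/
theorem isAffineOpen_XTU (hL : PicF.IsInvertible L) {U : Y.Opens} (hU : IsAffineOpen U) {n : ℕ} (hn : 0 < n)
    (s : 𝒮.presheaf.obj (op U))
    (hs : s ∈ 𝒮.deg U hU n) (h : IsAffineOpen (r ⁻¹ᵁ WPU p chart hU s)) : IsAffineOpen (XTU u U n s) := by
  have hiso : IsIso pL := SymAlg.isIso_proj_symLine hL hj pL chartL hPL
  have h1 := h.image_of_isOpenImmersion ((RelProj.domQ u pL chartL).ι ≫ pL)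
  rw [Scheme.Hom.comp_image, image_preimage_WP hj u p chart hP pL chartL hPL r hr hU hn s hs hL,
    Scheme.Hom.image_preimage_eq_opensRange_inf] at h1
  have h2 : pL.opensRange = ⊤ := top_le_iff.1 fun x _ => pL.surjective x
  rw [h2, top_inf_eq] at h1
  exact h1

variable {ι : Type*} (U : ι → Y.Opens) (hU : ∀ a, IsAffineOpen (U a)) (n : ι → ℕ)
  (s : ∀ a, 𝒮.presheaf.obj (op (U a))) (hns : ∀ a, 0 < n a ∧ s a ∈ 𝒮.deg (U a) (hU a) (n a))

include hj hP hPL hr hns in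
/-- the loci `X_{t_a}` cover `X` if the `r⁻¹(D₊(s_a))` cover the source -/
theorem iSup_XTU_eq_top (hL : PicF.IsInvertible L) (htop : RelProj.domQ u pL chartL = ⊤)
    (h : ∀ w : ((RelProj.domQ u pL chartL : PL.Opens) : Scheme.{u}), ∃ a, r w ∈ WPU p chart (hU a) (s a)) :
    (⨆ a, XTU u (U a) (n a) (s a)) = ⊤ := by
  have hiso : IsIso pL := SymAlg.isIso_proj_symLine hL hj pL chartL hPL
  refine top_le_iff.1 fun x _ => ?_
  obtain ⟨z, rfl⟩ := pL.surjective x
  have hz : z ∈ RelProj.domQ u pL chartL := by rw [htop]; trivial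
  obtain ⟨a, ha⟩ := h ⟨z, hz⟩
  refine Opens.mem_iSup.2 ⟨a, ?_⟩
  have h1 : z ∈ (RelProj.domQ u pL chartL).ι ''ᵁ (r ⁻¹ᵁ WPU p chart (hU a) (s a)) := ⟨⟨z, hz⟩, ha, rfl⟩
  rw [image_preimage_WP hj u p chart hP pL chartL hPL r hr (hU a) (hns a).1 (s a) (hns a).2 hL] at h1
  exact h1

include hj hP hPL hr in
/-- the charts cover the source if the loci `X_{t_a}` cover `X` -/
theorem exists_mem_range_alphaD (hL : PicF.IsInvertible L)
    (hV : ∀ a, IsAffineOpen (XTU u (U a) (n a) (s a)))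
    (hcov : (⨆ a, XTU u (U a) (n a) (s a)) = ⊤) (w : ((RelProj.domQ u pL chartL : PL.Opens) : Scheme.{u})) :
    ∃ a, w ∈ Set.range (alphaD u pL chartL (hU a) (hns a).1 (s a) (hns a).2 (hV a)) := by
  have hx : pL ((RelProj.domQ u pL chartL).ι w) ∈ (⨆ a, XTU u (U a) (n a) (s a)) := by rw [hcov]; trivial
  obtain ⟨a, ha⟩ := Opens.mem_iSup.1 hx
  refine ⟨a, ?_⟩
  have h1 : (RelProj.domQ u pL chartL).ι w ∈ pL ⁻¹ᵁ XTU u (U a) (n a) (s a) := ha
  rw [← image_preimage_WP hj u p chart hP pL chartL hPL r hr (hU a) (hns a).1 (s a) (hns a).2 hL] at h1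
  obtain ⟨w', hw', hww'⟩ := h1
  have : w' = w := (RelProj.domQ u pL chartL).ι.isOpenEmbedding.injective hww'
  rw [this] at hw'
  have h2 : w ∈ (alphaD u pL chartL (hU a) (hns a).1 (s a) (hns a).2 (hV a)).opensRange := by
    rw [opensRange_alphaD hj u p chart hP pL chartL hPL r hr (hU a) (hns a).1 (s a) (hns a).2 (hV a) hL]
    exact hw'
  exact h2

include hj hPL hns in
/-- everywhere-definedness from the covering condition -/
theorem domQ_eq_top_of_iSup (hL : PicF.IsInvertible L)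
    (hcov : (⨆ a, XTU u (U a) (n a) (s a)) = ⊤) : RelProj.domQ u pL chartL = ⊤ := by
  refine top_le_iff.1 (fun z _ => ?_)
  have hx : pL z ∈ (⨆ a, XTU u (U a) (n a) (s a)) := by rw [hcov]; trivial
  obtain ⟨a, ha⟩ := Opens.mem_iSup.1 hx
  have hNV := (mem_XTU_iff u (n a) (s a) (pL z)).1 ha
  have hxU : pL z ∈ q ⁻¹ᵁ U a := XTU_le u (n a) (s a) ha
  obtain ⟨V, g, hxV, hV, hg, hVU⟩ := exists_isGen_affine_le hL (pL z) _ hxU
  obtain ⟨y, hy⟩ := (mem_range_emb pL chartL V hV z).2 hxV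
  have hy2 : RelProj.emb pL chartL V hV y = z := hy
  have hy' : y ∈ Proj.basicOpen (𝒮L.deg V hV) (tauU u (U a) (s a) V hVU) :=
    (mem_basicOpen_tauU_iff hj u pL chartL hPL (hU a) (hns a).1 (s a) (hns a).2 hV hVU hg y).2
      (by rw [hy2]; exact hNV)
  have hyD : y ∈ D u ⟨U a, hU a, V, hV, hVU⟩ := (mem_dom_iff _ y).2 ⟨n a, (hns a).1, s a, (hns a).2, hy'⟩
  have h2 := (emb_mem_domQ_iff u pL chartL hPL ⟨U a, hU a, V, hV, hVU⟩ y).2 hyD
  rw [← hy2]
  exact h2

omit [L.IsQuasicoherent] in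
theorem isAffineOpen_WPU {U : Y.Opens} (hU : IsAffineOpen U) {n : ℕ} (hn : 0 < n) (s : 𝒮.presheaf.obj (op U))
    (hs : s ∈ 𝒮.deg U hU n) :
    IsAffineOpen (WPU p chart hU s) :=
  (Proj.isAffineOpen_basicOpen (𝒮.deg U hU) s hs hn).image_of_isOpenImmersion (RelProj.emb p chart U hU)

end main

section crit

variable {Y X P PL : Scheme.{u}} {q : X ⟶ Y} {L : X.Modules} [L.IsQuasicoherent]
  {𝒮 : RelProj.QCGrAlg Y} {𝒮L : RelProj.QCGrAlg X} {j : L ⟶ 𝒮L.toModule} (hj : RelProj.IsGrSymAlg L 𝒮L j)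
  (u : RelProj.QGrHom q 𝒮 𝒮L)
  (p : P ⟶ Y) (chart : ∀ (U : Y.Opens) (hU : IsAffineOpen U), (((p ⁻¹ᵁ U : P.Opens) : Scheme.{u}) ≅ Proj (𝒮.deg U hU)))
  (hP : RelProj.IsRelProj 𝒮 p chart)
  (pL : PL ⟶ X)
  (chartL : ∀ (U : X.Opens) (hU : IsAffineOpen U), (((pL ⁻¹ᵁ U : PL.Opens) : Scheme.{u}) ≅ Proj (𝒮L.deg U hU)))
  (hPL : RelProj.IsRelProj 𝒮L pL chartL)
  (r : ((RelProj.domQ u pL chartL : PL.Opens) : Scheme.{u}) ⟶ P)
  (hr : RelProj.IsProjQMapOn u p chart pL chartL (RelProj.domQ u pL chartL) r)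

/-- a family `(U_a, n_a, s_a)` satisfying (i), (ii), (iii) -/
def IsGoodFamily {ι : Type u} (U : ι → Y.Opens) (hU : ∀ a, IsAffineOpen (U a)) (n : ι → ℕ)
    (s : ∀ a, 𝒮.presheaf.obj (op (U a))) : Prop :=
  (∀ a, 0 < n a ∧ s a ∈ 𝒮.deg (U a) (hU a) (n a)) ∧ (⨆ a, XTU u (U a) (n a) (s a)) = ⊤ ∧
    (∀ a, IsAffineOpen (XTU u (U a) (n a) (s a))) ∧ (∀ a, Cond3U u (hU a) (n a) (s a))

include hj hP hPL hr in
/-- (i), (ii), (iii) imply that `r_{L,ψ}` is everywhere defined and an immersion (general base) -/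
theorem immersion_of_family (hL : PicF.IsInvertible L) {ι : Type u} (U : ι → Y.Opens)
    (hU : ∀ a, IsAffineOpen (U a)) (n : ι → ℕ) (s : ∀ a, 𝒮.presheaf.obj (op (U a)))
    (h : IsGoodFamily u U hU n s) : RelProj.domQ u pL chartL = ⊤ ∧ IsImmersion r := by
  obtain ⟨hns, hcov, haff, h3⟩ := h
  refine ⟨domQ_eq_top_of_iSup hj u pL chartL hPL U hU n s hns hL hcov, ?_⟩
  refine prop_of_charts @IsImmersion r
    (fun a => Spec (RB u (hU a) (s a) (haff a))) (fun a => Spec (RA (hU a) (s a)))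
    (fun a => alphaD u pL chartL (hU a) (hns a).1 (s a) (hns a).2 (haff a))
    (fun a => Spec.map (psiAway u (hU a) (s a) (haff a)))
    (fun a => betaP p chart (hU a) (hns a).1 (s a) (hns a).2)
    (fun a => isPullback_chart hj u p chart hP pL chartL hPL r hr (hU a) (hns a).1 (s a) (hns a).2 (haff a) hL)
    (exists_mem_range_alphaD hj u p chart hP pL chartL hPL r hr U hU n s hns hL haff hcov) (fun a => ?_)
  have hci : IsClosedImmersion (Spec.map (psiAway u (hU a) (s a) (haff a))) :=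
    IsClosedImmersion.spec_of_surjective _
      (surjective_psiAway_of_cond3 hj u p chart hP pL chartL hPL r hr (hU a) (hns a).1 (s a) (hns a).2 (haff a) hL (h3 a))
  infer_instance

include hj hP hPL hr in
/-- if `r_{L,ψ}` is everywhere defined and an immersion, there is a family satisfying (i), (ii), (iii) -/
theorem exists_family_of_immersion (hL : PicF.IsInvertible L) (htop : RelProj.domQ u pL chartL = ⊤)
    (himm : IsImmersion r) :
    ∃ (ι : Type u) (U : ι → Y.Opens) (hU : ∀ a, IsAffineOpen (U a)) (n : ι → ℕ)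
      (s : ∀ a, 𝒮.presheaf.obj (op (U a))), IsGoodFamily u U hU n s := by
  have hr' : r.liftCoborder ≫ r.coborderRange.ι = r := r.liftCoborder_ι
  have hex : ∀ w : ((RelProj.domQ u pL chartL : PL.Opens) : Scheme.{u}),
      ∃ (U : Y.Opens) (hU : IsAffineOpen U) (d : ℕ) (f : 𝒮.presheaf.obj (op U)), 0 < d ∧ f ∈ 𝒮.deg U hU d ∧
        r w ∈ WPU p chart hU f ∧ WPU p chart hU f ≤ r.coborderRange := by
    intro w
    have hrw : r w ∈ r.coborderRange := by
      have h1 : r.coborderRange.ι (r.liftCoborder w) = r w := congrArg (fun k => k w) hr'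
      rw [← h1]
      exact (r.liftCoborder w).2
    obtain ⟨_, ⟨U, hU, rfl⟩, hpU, -⟩ := Y.isBasis_affineOpens.exists_subset_of_mem_open
      (Set.mem_univ (p (r w))) isOpen_univ
    obtain ⟨y₀, hy₀⟩ := (mem_range_emb p chart U hU (r w)).2 hpU
    have hy₀' : RelProj.emb p chart U hU y₀ = r w := hy₀
    obtain ⟨d, f, hd, hf, hy₀f, hfle⟩ := exists_pos_basicOpen_le (𝒮.deg U hU)
      ((RelProj.emb p chart U hU) ⁻¹ᵁ r.coborderRange) y₀ (by
        show RelProj.emb p chart U hU y₀ ∈ r.coborderRange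
        rw [hy₀']
        exact hrw)
    refine ⟨U, hU, d, f, hd, hf, ⟨y₀, hy₀f, hy₀'⟩, ?_⟩
    rintro _ ⟨y, hy, rfl⟩
    exact hfle hy
  choose U hU n s hn hs hmem hle using hex
  have hns : ∀ a, 0 < n a ∧ s a ∈ 𝒮.deg (U a) (hU a) (n a) := fun a => ⟨hn a, hs a⟩
  have hpre : ∀ a, r ⁻¹ᵁ WPU p chart (hU a) (s a) =
      r.liftCoborder ⁻¹ᵁ (r.coborderRange.ι ⁻¹ᵁ WPU p chart (hU a) (s a)) := by
    intro a
    rw [← Scheme.Hom.comp_preimage]
    exact congrArg (fun k : _ ⟶ P => k ⁻¹ᵁ WPU p chart (hU a) (s a)) hr'.symm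
  have haff : ∀ a, IsAffineOpen (XTU u (U a) (n a) (s a)) := fun a => by
    refine isAffineOpen_XTU hj u p chart hP pL chartL hPL r hr hL (hU a) (hn a) (s a) (hs a) ?_
    rw [hpre a]
    refine IsAffineOpen.preimage ?_ r.liftCoborder
    refine (isAffineOpen_WPU p chart (hU a) (hn a) (s a) (hs a)).preimage_of_isOpenImmersion _ ?_
    rw [Scheme.Opens.opensRange_ι]
    exact hle a
  refine ⟨_, U, hU, n, s, hns, ?_, haff, fun a => ?_⟩
  · exact iSup_XTU_eq_top hj u p chart hP pL chartL hPL r hr U hU n s hns hL htop fun w => ⟨w, hmem w⟩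
  · refine cond3_of_surjective_psiAway u (hU a) (s a) (hs a) (haff a) ?_
    refine surjective_of_isClosedImmersion_specMap _ ?_
    have hpb := isPullback_chart hj u p chart hP pL chartL hPL r hr (hU a) (hn a) (s a) (hs a) (haff a) hL
    have hβ : Set.range (betaP p chart (hU a) (hn a) (s a) (hs a)) ⊆ Set.range r.coborderRange.ι := by
      rw [Scheme.Opens.range_ι]
      have h1 := opensRange_betaP p chart (hU a) (hn a) (s a) (hs a)
      rintro _ ⟨y, rfl⟩
      have h2 : betaP p chart (hU a) (hn a) (s a) (hs a) y ∈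
          (betaP p chart (hU a) (hn a) (s a) (hs a)).opensRange := ⟨y, rfl⟩
      rw [h1] at h2
      exact hle a h2
    have hβ' : IsOpenImmersion.lift r.coborderRange.ι (betaP p chart (hU a) (hn a) (s a) (hs a)) hβ ≫
        r.coborderRange.ι = betaP p chart (hU a) (hn a) (s a) (hs a) := IsOpenImmersion.lift_fac _ _ _
    have hoi : IsOpenImmersion
        (IsOpenImmersion.lift r.coborderRange.ι (betaP p chart (hU a) (hn a) (s a) (hs a)) hβ) := by
      have : IsOpenImmersion (IsOpenImmersion.lift r.coborderRange.ι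
          (betaP p chart (hU a) (hn a) (s a) (hs a)) hβ ≫ r.coborderRange.ι) := by
        rw [hβ']
        infer_instance
      exact IsOpenImmersion.of_comp _ r.coborderRange.ι
    have hpb2 : IsPullback (alphaD u pL chartL (hU a) (hn a) (s a) (hs a) (haff a))
        (Spec.map (psiAway u (hU a) (s a) (haff a))) r.liftCoborder
        (IsOpenImmersion.lift r.coborderRange.ι (betaP p chart (hU a) (hn a) (s a) (hs a)) hβ) := by
      refine isPullback_cancel_mono r.coborderRange.ι ?_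
      rw [hr', hβ']
      exact hpb
    exact IsZariskiLocalAtTarget.of_isPullback (P := @IsClosedImmersion) hpb2 inferInstance

end crit

end Groth.Agent.Lib.Helper28.RLPsiU
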