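import Groth.Agent.Lib.Helper28.ConeLineC
import Groth.Agent.Lib.Helper28.ModChartGlue
import Groth.Agent.Lib.Helper28.RLPsiU3
import Groth.Agent.Lib.Helper28.AmpleBasis

/-!
# The pointed projective cone of a line bundle: the structure morphism is affine; the module map `L' → q_* O` (helper28)
-/

set_option autoImplicit false
universe u
open CategoryTheory CategoryTheory.Limits AlgebraicGeometry Opposite TopologicalSpace
open HomogeneousLocalization
open scoped HomogeneousIdeal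
noncomputable section

namespace Groth.Agent.Lib.Helper28.ConeLine

open Groth.Agent.Lib.Helper28 Groth.Agent.Lib.Helper28.QCohLoc Groth.Agent.Lib.Helper28.TraceAlg
open Groth.Agent.Lib.Helper28.GenLocus Groth.Agent.Lib.Helper28.SymAlg
open Groth.Agent.Lib.Helper28.RelTwistVal Groth.Agent.Lib.Helper28.RLPsiU Groth.Agent.Lib.Helper28.RLPsiV
open Groth.Agent.Lib.Helper28.ProjQCone (χ)

section cone

variable {Y PC : Scheme.{u}} {L L' : Y.Modules} (κ : CohB1.tensorMod L L' ≅ Coh.structureModule Y)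
  {𝒮 𝒮h : RelProj.QCGrAlg Y} {j : L ⟶ 𝒮.toModule} (hS : RelProj.IsGrSymAlg L 𝒮 j)
  {ι : 𝒮.toQCAlg ⟶ 𝒮h.toQCAlg} {z : 𝒮h.presheaf.obj (op ⊤)} (hz : RelCone.IsPolyOver 𝒮 𝒮h ι z)
  (pC : PC ⟶ Y)
  (chartC : ∀ (U : Y.Opens) (hU : IsAffineOpen U), (((pC ⁻¹ᵁ U : PC.Opens) : Scheme.{u}) ≅ Proj (𝒮h.deg U hU)))
  (hPC : RelProj.IsRelProj 𝒮h pC chartC)

/-- the pointed projective cone -/
abbrev EE : PC.Opens := RelCone.pointedProjCone 𝒮 hz pC chartC

/-- the structure morphism of the pointed projective cone -/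
abbrev qq : ((EE hz pC chartC : PC.Opens) : Scheme.{u}) ⟶ Y := (EE hz pC chartC).ι ≫ pC

/-- the part of the pointed projective cone over `V`, as an open of the projective cone -/
abbrev DD (V : Y.Opens) : PC.Opens := (EE hz pC chartC).ι ''ᵁ ((qq hz pC chartC) ⁻¹ᵁ V)

theorem DD_eq_inf (V : Y.Opens) : DD hz pC chartC V = EE hz pC chartC ⊓ pC ⁻¹ᵁ V := by
  show (EE hz pC chartC).ι ''ᵁ (((EE hz pC chartC).ι ≫ pC) ⁻¹ᵁ V) = _
  rw [Scheme.Hom.comp_preimage, Scheme.Hom.image_preimage_eq_opensRange_inf, Scheme.Opens.opensRange_ι]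

theorem DD_le (V : Y.Opens) : DD hz pC chartC V ≤ pC ⁻¹ᵁ V := by
  rw [DD_eq_inf]; exact inf_le_right

theorem DD_le_EE (V : Y.Opens) : DD hz pC chartC V ≤ EE hz pC chartC := by
  rw [DD_eq_inf]; exact inf_le_left

theorem DD_mono {W V : Y.Opens} (h : W ≤ V) : DD hz pC chartC W ≤ DD hz pC chartC V :=
  (EE hz pC chartC).ι.image_mono ((qq hz pC chartC).preimage_mono h)

variable [L.IsQuasicoherent]

include hS hPC in
theorem DD_eq_WPU {V : Y.Opens} (hV : IsAffineOpen V) {t : Γ(L, V)} (ht : IsGen L V t) :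
    DD hz pC chartC V = WPU pC chartC hV (tauh j ι V t) :=
  (DD_eq_inf hz pC chartC V).trans (inf_eq_WPU hS hz hPC hV ht)

include hS hPC in
/-- the pointed projective cone of a line bundle is affine over the base -/
theorem isAffineHom_qq (hL : PicF.IsInvertible L) : IsAffineHom (qq hz pC chartC) := by
  apply isAffineHom_of_forall_exists_isAffineOpen
  intro x
  obtain ⟨V, t, hxV, hV, ht⟩ := GenLocus.exists_isGen_affine L hL x
  refine ⟨V, hxV, hV, ?_⟩
  rw [← (EE hz pC chartC).ι.isAffineOpen_iff_of_isOpenImmersion]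
  show IsAffineOpen (DD hz pC chartC V)
  rw [DD_eq_WPU hS hz pC chartC hPC hV ht]
  exact isAffineOpen_WPU pC chartC hV one_pos _ (tauh_mem hS hz hV t)

include hS hPC in
theorem exists_rd {V : Y.Opens} (hV : IsAffineOpen V) {t : Γ(L, V)} (ht : IsGen L V t) (ℓ : Γ(L', V)) :
    ∃ c : Γ(PC, DD hz pC chartC V), Rd κ j ι z pC chartC hV t c ℓ := by
  obtain ⟨c, hc⟩ := Rd.exists (κ := κ) (pC := pC) (chartC := chartC) hS hz hV t ℓ
  exact ⟨QCohLoc.resO (le_of_eq (DD_eq_WPU hS hz pC chartC hPC hV ht)) c, hc.resO _⟩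

/-- the function `⟨t, ℓ⟩ z / t` on the part of the cone over `V` -/
def psi {V : Y.Opens} (hV : IsAffineOpen V) {t : Γ(L, V)} (ht : IsGen L V t) (ℓ : Γ(L', V)) :
    Γ(PC, DD hz pC chartC V) :=
  (exists_rd κ hS hz pC chartC hPC hV ht ℓ).choose

theorem rd_psi {V : Y.Opens} (hV : IsAffineOpen V) {t : Γ(L, V)} (ht : IsGen L V t) (ℓ : Γ(L', V)) :
    Rd κ j ι z pC chartC hV t (psi κ hS hz pC chartC hPC hV ht ℓ) ℓ :=
  (exists_rd κ hS hz pC chartC hPC hV ht ℓ).choose_spec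

theorem psi_eq {V : Y.Opens} (hV : IsAffineOpen V) {t : Γ(L, V)} (ht : IsGen L V t) (ℓ : Γ(L', V))
    {c : Γ(PC, DD hz pC chartC V)} (h : Rd κ j ι z pC chartC hV t c ℓ) :
    psi κ hS hz pC chartC hPC hV ht ℓ = c :=
  Rd.unique (le_of_eq (DD_eq_WPU hS hz pC chartC hPC hV ht)) (rd_psi κ hS hz pC chartC hPC hV ht ℓ) h

theorem psi_add {V : Y.Opens} (hV : IsAffineOpen V) {t : Γ(L, V)} (ht : IsGen L V t) (ℓ ℓ' : Γ(L', V)) :
    psi κ hS hz pC chartC hPC hV ht (ℓ + ℓ') =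
      psi κ hS hz pC chartC hPC hV ht ℓ + psi κ hS hz pC chartC hPC hV ht ℓ' :=
  psi_eq κ hS hz pC chartC hPC hV ht _
    ((rd_psi κ hS hz pC chartC hPC hV ht ℓ).add (rd_psi κ hS hz pC chartC hPC hV ht ℓ'))

theorem psi_smul {V : Y.Opens} (hV : IsAffineOpen V) {t : Γ(L, V)} (ht : IsGen L V t) (a : Γ(Y, V))
    (ℓ : Γ(L', V)) :
    psi κ hS hz pC chartC hPC hV ht (a • ℓ) =
      pC.appLE V (DD hz pC chartC V) (DD_le hz pC chartC V) a * psi κ hS hz pC chartC hPC hV ht ℓ :=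
  psi_eq κ hS hz pC chartC hPC hV ht _
    ((rd_psi κ hS hz pC chartC hPC hV ht ℓ).smul hPC (DD_le hz pC chartC V) a)

set_option backward.isDefEq.respectTransparency false in
/-- restriction to a smaller affine open -/
theorem psi_res {V W : Y.Opens} (hV : IsAffineOpen V) (hW : IsAffineOpen W) (hle : W ≤ V)
    {t : Γ(L, V)} (ht : IsGen L V t) {t' : Γ(L, W)} (ht' : IsGen L W t') (ℓ : Γ(L', V)) :
    QCohLoc.resO (DD_mono hz pC chartC hle) (psi κ hS hz pC chartC hPC hV ht ℓ) =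
      psi κ hS hz pC chartC hPC hW ht' (res L' hle ℓ) := by
  refine eq_of_basic_cover_fn (𝒮 := 𝒮h) (chart := chartC) hV hW
    ((DD_le hz pC chartC W).trans (pC.preimage_mono hle)) (DD_le hz pC chartC W) _ _ ?_
  intro W' hW' r r' e e' y hy
  have hW'W : W' ≤ W := by rw [e']; exact Y.basicOpen_le r'
  have hW'V : W' ≤ V := by rw [e]; exact Y.basicOpen_le r
  have h1 : Rd κ j ι z pC chartC hW' (res L hW'W t')
      (QCohLoc.resO (DD_mono hz pC chartC hle) (psi κ hS hz pC chartC hPC hV ht ℓ)) (res L' hW'V ℓ) :=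
    ((rd_psi κ hS hz pC chartC hPC hV ht ℓ).resO _).basic hPC hV hW' r e hW'V ht (ht'.res hW'W)
  have h2 : Rd κ j ι z pC chartC hW' (res L hW'W t')
      (psi κ hS hz pC chartC hPC hW ht' (res L' hle ℓ)) (res L' hW'W (res L' hle ℓ)) :=
    (rd_psi κ hS hz pC chartC hPC hW ht' _).basic hPC hW hW' r' e' hW'W ht' (ht'.res hW'W)
  rw [res_res] at h2
  have hb : tauh j ι W' (res L hW'W t') ∉ y.asHomogeneousIdeal := by
    apply not_mem_of_mem_WPU hW' _ y
    rw [← DD_eq_WPU hS hz pC chartC hPC hW' (ht'.res hW'W), DD_eq_inf]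
    refine ⟨?_, ?_⟩
    · exact DD_le_EE hz pC chartC W hy
    · exact (RelProjQ.mem_range_emb pC chartC W' hW' _).1 ⟨y, rfl⟩
  have hu : IsUnit (Localization.mk (tauh j ι W' (res L hW'W t')) 1 : GrTwist.Loc (𝒮h.deg W' hW') y) :=
    (GrModQC.isUnit_mk_iff (𝒮h.deg W' hW') y _ 1).2 hb
  exact hu.mul_left_injective ((h1 y hy).trans (h2 y hy).symm)

end cone

end Groth.Agent.Lib.Helper28.ConeLine
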