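import Groth.Agent.Lib.Helper28.ConeLineD

/-!
# The pointed projective cone of a line bundle: the module map `L' → q_* O` (helper28)
-/

set_option autoImplicit false
universe u
open CategoryTheory CategoryTheory.Limits AlgebraicGeometry Opposite TopologicalSpace
open HomogeneousLocalization
open scoped HomogeneousIdeal
noncomputable section

namespace Groth.Agent.Lib.Helper28.ConeLine

open Groth.Agent.Lib.Helper28 Groth.Agent.Lib.Helper28.QCohLoc Groth.Agent.Lib.Helper28.TraceAlg
open Groth.Agent.Lib.Helper28.GenLocus Groth.Agent.Lib.Helper28.SymAlg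
open Groth.Agent.Lib.Helper28.RelTwistVal Groth.Agent.Lib.Helper28.RLPsiU Groth.Agent.Lib.Helper28.RLPsiV
open Groth.Agent.Lib.Helper28.ProjQCone (χ)

/-- an affine open with a generator of `L` -/
structure Good {Y : Scheme.{u}} (L : Y.Modules) : Type u where
  V : Y.Opens
  hV : IsAffineOpen V
  t : Γ(L, V)
  ht : IsGen L V t

section glue

variable {Y PC : Scheme.{u}} {L L' : Y.Modules} (κ : CohB1.tensorMod L L' ≅ Coh.structureModule Y)
  {𝒮 𝒮h : RelProj.QCGrAlg Y} {j : L ⟶ 𝒮.toModule} (hS : RelProj.IsGrSymAlg L 𝒮 j)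
  {ι : 𝒮.toQCAlg ⟶ 𝒮h.toQCAlg} {z : 𝒮h.presheaf.obj (op ⊤)} (hz : RelCone.IsPolyOver 𝒮 𝒮h ι z)
  (pC : PC ⟶ Y)
  (chartC : ∀ (U : Y.Opens) (hU : IsAffineOpen U), (((pC ⁻¹ᵁ U : PC.Opens) : Scheme.{u}) ≅ Proj (𝒮h.deg U hU)))
  (hPC : RelProj.IsRelProj 𝒮h pC chartC)
  [L.IsQuasicoherent] [L'.IsQuasicoherent] [IsAffineHom (qq hz pC chartC)]

/-- the direct image algebra of the pointed projective cone -/
abbrev BB : RelSpec.QCAlg Y := RelSpec.QCAlg.directImage (qq hz pC chartC)

set_option backward.isDefEq.respectTransparency false in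
theorem str_BB (V : Y.Opens) (a : Γ(Y, V)) :
    (((BB hz pC chartC).str.app (op V)).hom a : Γ(PC, DD hz pC chartC V)) =
      pC.appLE V (DD hz pC chartC V) (DD_le hz pC chartC V) a := by
  show (((EE hz pC chartC).ι ≫ pC).app V a : Γ(PC, DD hz pC chartC V)) = _
  rw [Scheme.Hom.comp_app, Scheme.Opens.ι_app]
  rfl

/-- a section of the direct image algebra, as a function on an open of the projective cone -/
def toPC {V : Y.Opens} (x : Γ((BB hz pC chartC).toModule, V)) : Γ(PC, DD hz pC chartC V) := x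

/-- a function on the part of the cone over `V`, as a section of the direct image algebra -/
def ofPC {V : Y.Opens} (x : Γ(PC, DD hz pC chartC V)) : Γ((BB hz pC chartC).toModule, V) := x

@[simp] theorem toPC_ofPC {V : Y.Opens} (x : Γ(PC, DD hz pC chartC V)) :
    toPC hz pC chartC (ofPC hz pC chartC x) = x := rfl

@[simp] theorem ofPC_toPC {V : Y.Opens} (x : Γ((BB hz pC chartC).toModule, V)) :
    ofPC hz pC chartC (toPC hz pC chartC x) = x := rfl

set_option backward.isDefEq.respectTransparency false in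
theorem toPC_smul (V : Y.Opens) (a : Γ(Y, V)) (x : Γ((BB hz pC chartC).toModule, V)) :
    toPC hz pC chartC (a • x : Γ((BB hz pC chartC).toModule, V)) =
      pC.appLE V (DD hz pC chartC V) (DD_le hz pC chartC V) a * toPC hz pC chartC x := by
  rw [← str_BB]
  rfl

set_option backward.isDefEq.respectTransparency false in
theorem toPC_res {V W : Y.Opens} (h : W ≤ V) (x : Γ((BB hz pC chartC).toModule, V)) :
    toPC hz pC chartC (res (BB hz pC chartC).toModule h x) =
      QCohLoc.resO (DD_mono hz pC chartC h) (toPC hz pC chartC x) := rfl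

theorem toPC_add {V : Y.Opens} (x y : Γ((BB hz pC chartC).toModule, V)) :
    toPC hz pC chartC (x + y) = toPC hz pC chartC x + toPC hz pC chartC y := rfl

theorem ofPC_add {V : Y.Opens} (x y : Γ(PC, DD hz pC chartC V)) :
    ofPC hz pC chartC (x + y) = ofPC hz pC chartC x + ofPC hz pC chartC y := rfl

/-- the chart map `ℓ ↦ ⟨t, ℓ⟩ z / t` -/
def psiHom (i : Good L) : Γ(L', i.V) →+ Γ((BB hz pC chartC).toModule, i.V) :=
  AddMonoidHom.mk' (fun ℓ => ofPC hz pC chartC (psi κ hS hz pC chartC hPC i.hV i.ht ℓ))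
    (fun ℓ ℓ' => by rw [psi_add, ofPC_add])

theorem toPC_psiHom (i : Good L) (ℓ : Γ(L', i.V)) :
    toPC hz pC chartC (psiHom κ hS hz pC chartC hPC i ℓ) = psi κ hS hz pC chartC hPC i.hV i.ht ℓ := rfl

theorem toPC_injective {V : Y.Opens} : Function.Injective (toPC hz pC chartC (V := V)) := fun _ _ h => h

theorem psiHom_smul (i : Good L) (a : Γ(Y, i.V)) (ℓ : Γ(L', i.V)) :
    psiHom κ hS hz pC chartC hPC i (a • ℓ) = a • psiHom κ hS hz pC chartC hPC i ℓ := by
  apply toPC_injective hz pC chartC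
  rw [toPC_smul, toPC_psiHom, toPC_psiHom, psi_smul]

/-- restriction of the chart map to a smaller good open -/
theorem psiHom_res (i i' : Good L) (hle : i'.V ≤ i.V) (ℓ : Γ(L', i.V)) :
    res (BB hz pC chartC).toModule hle (psiHom κ hS hz pC chartC hPC i ℓ) =
      psiHom κ hS hz pC chartC hPC i' (res L' hle ℓ) := by
  apply toPC_injective hz pC chartC
  rw [toPC_res, toPC_psiHom, toPC_psiHom]
  exact psi_res κ hS hz pC chartC hPC i.hV i'.hV hle i.ht i'.ht ℓ

/-- the chart data of the module map -/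
def chartData (hL : PicF.IsInvertible L) : ChartHomData L' (BB hz pC chartC).toModule where
  ι := Good L
  U i := i.V
  hU i := i.hV
  cov x := by
    obtain ⟨V, t, hxV, hV, ht⟩ := GenLocus.exists_isGen_affine L hL x
    exact ⟨⟨V, hV, t, ht⟩, hxV⟩
  loc i := isLocOn_of_isQuasicoherent L' i.hV
  ψ i := psiHom κ hS hz pC chartC hPC i
  smul i a x := psiHom_smul κ hS hz pC chartC hPC i a x
  compat i i₂ m := by
    refine ext_eq _ _ _ _ _ _ _ ?_
    intro r hr k m₁ hkm
    let i' : Good L := ⟨Y.basicOpen r, i.hV.basicOpen r, res L (Y.basicOpen_le r) i.t, i.ht.res _⟩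
    rw [res_res] at hkm ⊢
    have e1 := psiHom_res κ hS hz pC chartC hPC i i' (Y.basicOpen_le r) m₁
    have e2 := psiHom_res κ hS hz pC chartC hPC i₂ i' (hr.trans inf_le_right) m
    rw [e1, e2, ← hkm]
    exact (psiHom_smul κ hS hz pC chartC hPC i' _ _).symm

/-- the module map `L' ⟶ q_* O`, `ℓ ↦ ⟨t, ℓ⟩ z / t` -/
def lam (hL : PicF.IsInvertible L) : L' ⟶ (BB hz pC chartC).toModule :=
  (chartData κ hS hz pC chartC hPC hL).hom

theorem toPC_lam_app (hL : PicF.IsInvertible L) (i : Good L) (ℓ : Γ(L', i.V)) :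
    toPC hz pC chartC ((lam κ hS hz pC chartC hPC hL).app i.V ℓ) = psi κ hS hz pC chartC hPC i.hV i.ht ℓ := by
  have h := (chartData κ hS hz pC chartC hPC hL).hom_app i ℓ
  exact congrArg (toPC hz pC chartC) h

end glue

end Groth.Agent.Lib.Helper28.ConeLine
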