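import Groth.Agent.Lib.Helper28.ConeLineE
import Groth.Agent.Lib.Helper28.ConeAlgG2

/-!
# The pointed projective cone of a line bundle: the functions over a good open form a polynomial ring (helper28)
-/

set_option autoImplicit false
universe u
open CategoryTheory CategoryTheory.Limits AlgebraicGeometry Opposite TopologicalSpace
open HomogeneousLocalization
open scoped HomogeneousIdeal
noncomputable section

namespace Groth.Agent.Lib.Helper28.ConeLine

open Groth.Agent.Lib.Helper28 Groth.Agent.Lib.Helper28.QCohLoc Groth.Agent.Lib.Helper28.TraceAlg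
open Groth.Agent.Lib.Helper28.GenLocus Groth.Agent.Lib.Helper28.SymAlg
open Groth.Agent.Lib.Helper28.RelTwistVal Groth.Agent.Lib.Helper28.RLPsiU Groth.Agent.Lib.Helper28.RLPsiV
open Groth.Agent.Lib.Helper28.ProjQCone (χ)

section away2

variable {Y P : Scheme.{u}} {𝒮 : RelProj.QCGrAlg Y} {p : P ⟶ Y}
  {chart : ∀ (U : Y.Opens) (hU : IsAffineOpen U), (((p ⁻¹ᵁ U : P.Opens) : Scheme.{u}) ≅ Proj (𝒮.deg U hU))}
  {U : Y.Opens} (hU : IsAffineOpen U) (b : 𝒮.presheaf.obj (op U))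

/-- the function attached to an element of the degree-zero localization with value `a / b^n` reads `a / b^n` -/
theorem readsO_secOfAway_of_val {d : ℕ} (hb : b ∈ 𝒮.deg U hU d) (n : ℕ) (a : 𝒮.presheaf.obj (op U))
    (ha : a ∈ 𝒮.deg U hU (n • d)) (q : Away (𝒮.deg U hU) b) (s : Submonoid.powers b)
    (hs : (s : 𝒮.presheaf.obj (op U)) = b ^ n) (hq : q.val = Localization.mk a s) :
    ReadsO p chart hU (secOfAway p chart hU b q) a (b ^ n) := by
  have hs' : s = ⟨b ^ n, pow_mem (Submonoid.mem_powers b) n⟩ := Subtype.ext hs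
  subst hs'
  have h1 : q = Away.mk (𝒮.deg U hU) hb n a ha :=
    HomogeneousLocalization.val_injective _ (hq.trans (Away.val_mk _ _ _ _ _).symm)
  rw [h1]
  exact readsO_secOfAway (p := p) (chart := chart) hU b hb n a ha

end away2

section kap

variable {Y : Scheme.{u}} {L : Y.Modules} [L.IsQuasicoherent] {𝒮 : RelProj.QCGrAlg Y} {j : L ⟶ 𝒮.toModule}
  (hS : RelProj.IsGrSymAlg L 𝒮 j) {V : Y.Opens} (hV : IsAffineOpen V) {t : Γ(L, V)} (ht : IsGen L V t)

/-- `O(V) → 𝒮(V)_(τ)` -/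
def kap (𝒮 : RelProj.QCGrAlg Y) {V : Y.Opens} (hV : IsAffineOpen V) (τ : 𝒮.presheaf.obj (op V)) :
    Γ(Y, V) →+* Away (𝒮.deg V hV) τ :=
  (fromZeroRingHom (𝒮.deg V hV) (Submonoid.powers τ)).comp (𝒮.strZero V hV).hom

theorem kap_val (τ : 𝒮.presheaf.obj (op V)) (a : Γ(Y, V)) :
    (kap 𝒮 hV τ a).val = Localization.mk ((𝒮.str.app (op V)).hom a) 1 := rfl

include hS ht in
theorem kap_bijective : Function.Bijective (kap 𝒮 hV (tau j V t)) := by
  obtain ⟨ev, hev1, hev2⟩ := exists_ev hS hV ht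
  have h1 : Function.Bijective (𝒮.strZero V hV).hom :=
    (ConcreteCategory.isIso_iff_bijective _).1 (isIso_strZero_line hS hV ht)
  have h2 : Function.Bijective (fromZeroRingHom (𝒮.deg V hV) (Submonoid.powers (tau j V t))) := by
    refine ProjLine.bijective_fromZeroRingHom (𝒮.deg V hV) (tau j V t) (tau_mem hS hV t) ?_ ?_
    · intro d a ha
      obtain ⟨b, rfl⟩ := exists_eq_str_mul_pow hS hV ht d a ha
      exact ⟨_, 𝒮.str_mem V hV b, rfl⟩
    · intro a₀ ha₀ n hn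
      obtain ⟨b, rfl⟩ := exists_eq_str_mul_pow hS hV ht 0 a₀ ha₀
      have h := congrArg ev hn
      unfold tau at h
      rw [map_mul, map_pow, hev2, one_pow, one_mul, map_mul, map_pow, hev2, one_pow, mul_one, hev1, map_zero] at h
      rw [h, map_zero, zero_mul]
  exact h2.comp h1

end kap

section poly

variable {Y PC : Scheme.{u}} {L : Y.Modules} [L.IsQuasicoherent]
  {𝒮 𝒮h : RelProj.QCGrAlg Y} {j : L ⟶ 𝒮.toModule} (hS : RelProj.IsGrSymAlg L 𝒮 j)
  {ι : 𝒮.toQCAlg ⟶ 𝒮h.toQCAlg} {z : 𝒮h.presheaf.obj (op ⊤)} (hz : RelCone.IsPolyOver 𝒮 𝒮h ι z)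
  (pC : PC ⟶ Y)
  (chartC : ∀ (U : Y.Opens) (hU : IsAffineOpen U), (((pC ⁻¹ᵁ U : PC.Opens) : Scheme.{u}) ≅ Proj (𝒮h.deg U hU)))
  (hPC : RelProj.IsRelProj 𝒮h pC chartC)

/-- the algebra of the chart: `𝒮h(U)_(f) ≅ 𝒮(U)_(f)[X]` for `f` of degree one, with `X ↦ z / f` -/
theorem exists_polyX (U : Y.Opens) (hU : IsAffineOpen U) {f : 𝒮.presheaf.obj (op U)} (hf : f ∈ 𝒮.deg U hU 1) :
    ∃ Θ : Polynomial (Away (𝒮.deg U hU) f) ≃+* Away (𝒮h.deg U hU) ((χ hz U hU) f),
      (∀ c : Away (𝒮.deg U hU) f, Θ (Polynomial.C c) = Away.map (χ hz U hU) f c) ∧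
      (Θ Polynomial.X).val = Localization.mk (RelCone.restrictTop 𝒮h z U)
        ⟨(χ hz U hU) f ^ 1, pow_mem (Submonoid.mem_powers ((χ hz U hU) f)) 1⟩ := by
  letI : Algebra (𝒮.presheaf.obj (op U)) (𝒮h.presheaf.obj (op U)) := (ι.hom.app (op U)).hom.toAlgebra
  exact ConeAlgG.exists_poly' (𝒮.deg U hU) (𝒮h.deg U hU) (χ hz U hU) (fun a => rfl)
    (RelCone.restrictTop 𝒮h z U) (hz.bij U hU) hf (hz.deg_z U hU)

theorem map_kap_val {V : Y.Opens} (hV : IsAffineOpen V) (τ : 𝒮.presheaf.obj (op V)) (a : Γ(Y, V)) :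
    (Away.map (χ hz V hV) τ (kap 𝒮 hV τ a)).val = Localization.mk ((𝒮h.str.app (op V)).hom a) 1 := by
  have h1 : (Away.map (χ hz V hV) τ (kap 𝒮 hV τ a)).val =
      Localization.mk ((χ hz V hV) ((𝒮.str.app (op V)).hom a)) ⟨(χ hz V hV) 1, (Submonoid.mem_powers_iff _ _).2 ⟨0, by simp⟩⟩ := rfl
  rw [h1, Localization.mk_eq_mk_iff, Localization.r_iff_exists]
  refine ⟨1, ?_⟩
  have h2 : (χ hz V hV) ((𝒮.str.app (op V)).hom a) = (𝒮h.str.app (op V)).hom a := ι_str ι a
  simp only [OneMemClass.coe_one, one_mul, mul_one, map_one, h2]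

include hS hz hPC in
set_option backward.isDefEq.respectTransparency false in
/-- the functions on the part of the cone over a good open: a polynomial ring in `z / t` -/
theorem local_poly_aux {V : Y.Opens} (hV : IsAffineOpen V) {t : Γ(L, V)} (ht : IsGen L V t)
    (D : PC.Opens) (hD : D = WPU pC chartC hV (tauh j ι V t)) (hle : D ≤ pC ⁻¹ᵁ V) :
    ∃ β : Polynomial Γ(Y, V) →+* Γ(PC, D), Function.Bijective β ∧
      (∀ a : Γ(Y, V), β (Polynomial.C a) = pC.appLE V D hle a) ∧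
      ReadsO pC chartC hV (β Polynomial.X) (RelCone.restrictTop 𝒮h z V) (tauh j ι V t) := by
  subst hD
  obtain ⟨Θ, hΘC, hΘX⟩ : ∃ Θ : Polynomial (Away (𝒮.deg V hV) (tau j V t)) ≃+* Away (𝒮h.deg V hV) (tauh j ι V t),
      (∀ c : Away (𝒮.deg V hV) (tau j V t), Θ (Polynomial.C c) = Away.map (χ hz V hV) (tau j V t) c) ∧
      (Θ Polynomial.X).val = Localization.mk (RelCone.restrictTop 𝒮h z V)
        ⟨tauh j ι V t ^ 1, pow_mem (Submonoid.mem_powers (tauh j ι V t)) 1⟩ :=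
    exists_polyX hz V hV (tau_mem hS hV t)
  have hκ := kap_bijective hS hV ht
  have hb : tauh j ι V t ∈ 𝒮h.deg V hV 1 := tauh_mem hS hz hV t
  let κe : Γ(Y, V) ≃+* Away (𝒮.deg V hV) (tau j V t) := RingEquiv.ofBijective _ hκ
  let β : Polynomial Γ(Y, V) →+* Γ(PC, WPU pC chartC hV (tauh j ι V t)) :=
    (secOfAway pC chartC hV (tauh j ι V t)).comp
      ((Θ : Polynomial (Away (𝒮.deg V hV) (tau j V t)) →+* Away (𝒮h.deg V hV) (tauh j ι V t)).comp
        ((Polynomial.mapEquiv κe : Polynomial Γ(Y, V) →+* Polynomial (Away (𝒮.deg V hV) (tau j V t)))))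
  refine ⟨β, ?_, ?_, ?_⟩
  · exact (secOfAway_bijective hV _ one_pos hb).comp (Θ.bijective.comp (Polynomial.mapEquiv κe).bijective)
  · intro a
    have e1 : β (Polynomial.C a) = secOfAway pC chartC hV (tauh j ι V t)
        (Away.map (χ hz V hV) (tau j V t) (kap 𝒮 hV (tau j V t) a)) := by
      show secOfAway pC chartC hV (tauh j ι V t) (Θ (Polynomial.mapEquiv κe (Polynomial.C a))) = _
      rw [Polynomial.mapEquiv_apply, Polynomial.map_C, hΘC]
      rfl
    have h0 : (𝒮h.str.app (op V)).hom a ∈ 𝒮h.deg V hV (0 • 1) := by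
      rw [zero_smul]; exact 𝒮h.str_mem V hV a
    have r1 := readsO_secOfAway_of_val (p := pC) (chart := chartC) hV (tauh j ι V t) hb 0
      ((𝒮h.str.app (op V)).hom a) h0 (Away.map (χ hz V hV) (tau j V t) (kap 𝒮 hV (tau j V t) a)) 1
      (by rw [pow_zero]; rfl) (map_kap_val hz hV (tau j V t) a)
    rw [pow_zero] at r1
    have r2 := (ReadsO.base (hU := hV) hPC hle a)
    have r3 := r1.mul (ReadsO.self (p := pC) (chart := chartC) (hU := hV) (W₁ := WPU pC chartC hV (tauh j ι V t)) (tauh j ι V t))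
    have r4 := r2.mul (ReadsO.self (p := pC) (chart := chartC) (hU := hV) (W₁ := WPU pC chartC hV (tauh j ι V t)) (tauh j ι V t))
    rw [one_mul, mul_one] at r3 r4
    rw [e1]
    exact ReadsO.unique le_rfl r3 r4
  · have e1 : β Polynomial.X = secOfAway pC chartC hV (tauh j ι V t) (Θ Polynomial.X) := by
      show secOfAway pC chartC hV (tauh j ι V t) (Θ (Polynomial.mapEquiv κe Polynomial.X)) = _
      rw [Polynomial.mapEquiv_apply, Polynomial.map_X]
    have h1 : RelCone.restrictTop 𝒮h z V ∈ 𝒮h.deg V hV (1 • 1) := by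
      rw [one_smul]; exact hz.deg_z V hV
    have r1 := readsO_secOfAway_of_val (p := pC) (chart := chartC) hV (tauh j ι V t) hb 1
      (RelCone.restrictTop 𝒮h z V) h1 (Θ Polynomial.X) _ rfl hΘX
    rw [pow_one] at r1
    rw [e1]
    exact r1

include hS hPC in
/-- the functions on the part of the cone over a good open: a polynomial ring in `z / t` -/
theorem local_poly {V : Y.Opens} (hV : IsAffineOpen V) {t : Γ(L, V)} (ht : IsGen L V t) :
    ∃ β : Polynomial Γ(Y, V) →+* Γ(PC, DD hz pC chartC V), Function.Bijective β ∧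
      (∀ a : Γ(Y, V), β (Polynomial.C a) = pC.appLE V (DD hz pC chartC V) (DD_le hz pC chartC V) a) ∧
      ReadsO pC chartC hV (β Polynomial.X) (RelCone.restrictTop 𝒮h z V) (tauh j ι V t) :=
  local_poly_aux hS hz pC chartC hPC hV ht _ (DD_eq_WPU hS hz pC chartC hPC hV ht) (DD_le hz pC chartC V)

end poly

end Groth.Agent.Lib.Helper28.ConeLine
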