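import Groth.Agent.Lib.Helper28.SymAlgFT
import Groth.Agent.Lib.Helper28.EpiAffine

set_option autoImplicit false
universe u
open CategoryTheory CategoryTheory.Limits AlgebraicGeometry Opposite TopologicalSpace
noncomputable section

namespace Groth.Agent.Lib.Helper28.RelSpecCover

variable {S : Scheme.{u}} {A B : RelSpec.QCAlg S} (ψ : A ⟶ B)

theorem isPullback_specMap (U : S.Opens) (hU : IsAffineOpen U) :
    IsPullback (B.ι U hU) (Spec.map (ψ.hom.app (op U))) (RelSpec.QCAlg.specMap ψ) (A.ι U hU) := by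
  refine (IsOpenImmersion.isPullback (Spec.map (ψ.hom.app (op U))) (B.ι U hU) (A.ι U hU)
    (RelSpec.QCAlg.specMap ψ) (RelSpec.QCAlg.ι_specMap U hU ψ) ?_).flip
  rw [← A.π_preimage U hU, ← B.π_preimage U hU, ← Scheme.Hom.comp_preimage, RelSpec.QCAlg.specMap_π]

theorem prop_specMap_of_charts (P : MorphismProperty Scheme.{u}) [IsZariskiLocalAtTarget P]
    (hcov : ∀ x : S, ∃ (U : S.Opens) (hU : IsAffineOpen U), x ∈ U ∧ P (Spec.map (ψ.hom.app (op U)))) :
    P (RelSpec.QCAlg.specMap ψ) := by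
  choose U hU hxU hP using hcov
  let 𝒰 : A.spec.OpenCover := Scheme.Cover.mkOfCovers A.spec (fun z => Spec (A.presheaf.obj (op (U (A.π z)))))
    (fun z => A.ι (U (A.π z)) (hU (A.π z)))
    (fun z => by
      have hz : z ∈ (A.ι (U (A.π z)) (hU (A.π z))).opensRange := by
        rw [← A.π_preimage]
        exact hxU (A.π z)
      obtain ⟨y, hy⟩ := hz
      exact ⟨z, y, hy⟩)
    (fun z => inferInstance)
  apply IsZariskiLocalAtTarget.of_openCover 𝒰
  intro (z : A.spec)
  have hpb := isPullback_specMap ψ (U (A.π z)) (hU (A.π z))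
  have h1 : hpb.isoPullback.hom ≫ pullback.snd (RelSpec.QCAlg.specMap ψ) (A.ι (U (A.π z)) (hU (A.π z))) =
      Spec.map (ψ.hom.app (op (U (A.π z)))) := hpb.isoPullback_hom_snd
  have h2 := hP (A.π z)
  rw [← h1] at h2
  exact (MorphismProperty.cancel_left_of_respectsIso P _ _).1 h2

end Groth.Agent.Lib.Helper28.RelSpecCover

namespace Groth.Agent.Lib.Helper28.SymAlg

open Groth.Agent.Lib.Helper28 Groth.Agent.Lib.Helper28.QCohLoc Groth.Agent.Lib.Helper28.TraceAlg

attribute [local instance] algAt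

variable {S : Scheme.{u}}

/-- **an epimorphism of quasi-coherent modules induces a closed immersion of vector bundles** -/
theorem isClosedImmersion_specMap {E F : S.Modules} (hE : Coh.IsQCoh E) (hF : Coh.IsQCoh F) (u : E ⟶ F) [Epi u]
    {A B : RelSpec.QCAlg S} {j : E ⟶ A.toModule} {k : F ⟶ B.toModule}
    (hB : RelSpec.IsSymAlg F B k) (ψ : A ⟶ B)
    (hψ : j ≫ RelSpec.QCAlg.Hom.toModuleMap ψ = u ≫ k) :
    IsClosedImmersion (RelSpec.QCAlg.specMap ψ) := by
  have : E.IsQuasicoherent := hE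
  have : F.IsQuasicoherent := hF
  refine RelSpecCover.prop_specMap_of_charts ψ @IsClosedImmersion (fun x => ?_)
  obtain ⟨_, ⟨U, hU, rfl⟩, hxU, -⟩ := S.isBasis_affineOpens.exists_subset_of_mem_open (Set.mem_univ x) isOpen_univ
  refine ⟨U, hU, hxU, IsClosedImmersion.spec_of_surjective _ ?_⟩
  intro b
  obtain ⟨z, rfl⟩ := (liftU_bijective hB U hU).2 b
  induction z using SymmetricAlgebra.induction with
  | algebraMap a =>
    refine ⟨(A.str.app (op U)).hom a, ?_⟩
    rw [liftU_algebraMap]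
    exact congrArg (fun χ => (χ.app (op U)).hom a) ψ.comm
  | ι n =>
    obtain ⟨m, rfl⟩ := surjective_app_of_epi u hU (isLocOn_of_isQuasicoherent E hU)
      (isLocOn_of_isQuasicoherent F hU) n
    refine ⟨asR A (j.app U m), ?_⟩
    rw [liftU_ι]
    have h1 := congrArg (fun χ : E ⟶ B.toModule => χ.app U m) hψ
    exact h1
  | mul a b ha hb =>
    obtain ⟨a', ha'⟩ := ha
    obtain ⟨b', hb'⟩ := hb
    exact ⟨a' * b', by rw [map_mul, map_mul, ha', hb']⟩
  | add a b ha hb =>
    obtain ⟨a', ha'⟩ := ha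
    obtain ⟨b', hb'⟩ := hb
    exact ⟨a' + b', by rw [map_add, map_add, ha', hb']⟩

end Groth.Agent.Lib.Helper28.SymAlg
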