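import Groth.Agent.Lib.Helper28.ConeLineF
import Groth.Agent.Lib.Helper28.SymAlgCI
import Groth.Agent.Lib.Helper28.AffSpec

/-!
# The pointed projective cone of a line bundle `L` is the line bundle `V(L')` of the inverse `L'` (helper28)
-/

set_option autoImplicit false
universe u
open CategoryTheory CategoryTheory.Limits AlgebraicGeometry Opposite TopologicalSpace
open HomogeneousLocalization
open scoped HomogeneousIdeal
noncomputable section

namespace Groth.Agent.Lib.Helper28.ConeLine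

open Groth.Agent.Lib.Helper28 Groth.Agent.Lib.Helper28.QCohLoc Groth.Agent.Lib.Helper28.TraceAlg
open Groth.Agent.Lib.Helper28.GenLocus Groth.Agent.Lib.Helper28.SymAlg
open Groth.Agent.Lib.Helper28.RelTwistVal Groth.Agent.Lib.Helper28.RLPsiU Groth.Agent.Lib.Helper28.RLPsiV
open Groth.Agent.Lib.Helper28.ProjQCone (χ)

section main

variable {Y PC : Scheme.{u}} {L L' : Y.Modules} (κ : CohB1.tensorMod L L' ≅ Coh.structureModule Y)
  {𝒮 𝒮h : RelProj.QCGrAlg Y} {j : L ⟶ 𝒮.toModule} (hS : RelProj.IsGrSymAlg L 𝒮 j)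
  {ι : 𝒮.toQCAlg ⟶ 𝒮h.toQCAlg} {z : 𝒮h.presheaf.obj (op ⊤)} (hz : RelCone.IsPolyOver 𝒮 𝒮h ι z)
  (pC : PC ⟶ Y)
  (chartC : ∀ (U : Y.Opens) (hU : IsAffineOpen U), (((pC ⁻¹ᵁ U : PC.Opens) : Scheme.{u}) ≅ Proj (𝒮h.deg U hU)))
  (hPC : RelProj.IsRelProj 𝒮h pC chartC)
  [L.IsQuasicoherent] [L'.IsQuasicoherent] [IsAffineHom (qq hz pC chartC)]
  {𝒮' : RelSpec.QCAlg Y} {j' : L' ⟶ 𝒮'.toModule} (hS' : RelSpec.IsSymAlg L' 𝒮' j')
  (hL : PicF.IsInvertible L)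
  (Φ : 𝒮' ⟶ BB hz pC chartC)
  (hΦ : j' ≫ RelSpec.QCAlg.Hom.toModuleMap Φ = lam κ hS hz pC chartC hPC hL)

/-- the homomorphism `Φ` over `V`, with values in the functions on the part of the cone over `V` -/
def phiV (V : Y.Opens) : 𝒮'.presheaf.obj (op V) →+* Γ(PC, DD hz pC chartC V) := (Φ.hom.app (op V)).hom

theorem phiV_str (V : Y.Opens) (a : Γ(Y, V)) :
    phiV hz pC chartC Φ V ((𝒮'.str.app (op V)).hom a) =
      pC.appLE V (DD hz pC chartC V) (DD_le hz pC chartC V) a := by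
  rw [← str_BB]
  exact congrArg (fun χ => (χ.app (op V)).hom a) Φ.comm

include hΦ in
theorem phiV_j (i : Good L) (ℓ : Γ(L', i.V)) :
    phiV hz pC chartC Φ i.V (asR 𝒮' (j'.app i.V ℓ)) = psi κ hS hz pC chartC hPC i.hV i.ht ℓ := by
  rw [← toPC_lam_app κ hS hz pC chartC hPC hL i ℓ, ← hΦ]
  rfl

include hPC in
/-- `⟨t, ℓ⟩ z / t` is `⟨t, ℓ⟩` times `z / t` -/
theorem psi_eq_mul (i : Good L) (ℓ : Γ(L', i.V)) {w : Γ(PC, DD hz pC chartC i.V)}
    (hw : ReadsO pC chartC i.hV w (RelCone.restrictTop 𝒮h z i.V) (tauh j ι i.V i.t)) :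
    psi κ hS hz pC chartC hPC i.hV i.ht ℓ =
      pC.appLE i.V (DD hz pC chartC i.V) (DD_le hz pC chartC i.V) (pair κ i.t ℓ) * w := by
  apply psi_eq
  have h1 := (ReadsO.base (hU := i.hV) hPC (DD_le hz pC chartC i.V) (pair κ i.t ℓ)).mul hw
  rw [one_mul] at h1
  exact h1

theorem j'_smul {V : Y.Opens} (c : Γ(Y, V)) (m : Γ(L', V)) :
    asR 𝒮' (j'.app V (c • m)) = (𝒮'.str.app (op V)).hom c * asR 𝒮' (j'.app V m) := by
  rw [Scheme.Modules.Hom.app_smul]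
  rfl

include hS' hΦ in
/-- over an affine open on which `L` and `L'` are trivial, `Φ` is bijective -/
theorem bijective_phiV (i : Good L) {t' : Γ(L', i.V)} (ht' : IsGen L' i.V t') :
    Function.Bijective (phiV hz pC chartC Φ i.V) := by
  obtain ⟨β, hβ, hβC, hβX⟩ := local_poly hS hz pC chartC hPC i.hV i.ht
  obtain ⟨v, hv⟩ := isUnit_pair κ i.ht ht'
  -- the element mapping to `z / t`
  let x' : 𝒮'.presheaf.obj (op i.V) :=
    (𝒮'.str.app (op i.V)).hom ((v⁻¹ : (Γ(Y, i.V))ˣ) : Γ(Y, i.V)) * asR 𝒮' (j'.app i.V t')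
  let Ψ₀ : Polynomial Γ(Y, i.V) →+* 𝒮'.presheaf.obj (op i.V) :=
    Polynomial.eval₂RingHom (𝒮'.str.app (op i.V)).hom x'
  have hx' : phiV hz pC chartC Φ i.V x' = β Polynomial.X := by
    show phiV hz pC chartC Φ i.V ((𝒮'.str.app (op i.V)).hom ((v⁻¹ : (Γ(Y, i.V))ˣ) : Γ(Y, i.V)) *
      asR 𝒮' (j'.app i.V t')) = _
    rw [map_mul, phiV_str, phiV_j κ hS hz pC chartC hPC hL Φ hΦ i t',
      psi_eq_mul κ hS hz pC chartC hPC i t' hβX, ← mul_assoc, ← map_mul, ← hv, Units.inv_mul, map_one, one_mul]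
  have hcomp : (phiV hz pC chartC Φ i.V).comp Ψ₀ = β := by
    apply Polynomial.ringHom_ext
    · intro a
      show phiV hz pC chartC Φ i.V (Polynomial.eval₂ (𝒮'.str.app (op i.V)).hom x' (Polynomial.C a)) = _
      rw [Polynomial.eval₂_C, phiV_str, hβC]
    · show phiV hz pC chartC Φ i.V (Polynomial.eval₂ (𝒮'.str.app (op i.V)).hom x' Polynomial.X) = _
      rw [Polynomial.eval₂_X, hx']
  let βe : Polynomial Γ(Y, i.V) ≃+* Γ(PC, DD hz pC chartC i.V) := RingEquiv.ofBijective β hβ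
  have hβe : ∀ p, βe p = β p := fun p => rfl
  let Ψ : Γ(PC, DD hz pC chartC i.V) →+* 𝒮'.presheaf.obj (op i.V) := Ψ₀.comp (βe.symm : _ →+* _)
  have hΨφ : Ψ.comp (phiV hz pC chartC Φ i.V) = RingHom.id _ := by
    refine ringHom_ext_sec hS' i.V i.hV _ _ (fun a => ?_) (fun m => ?_)
    · show Ψ₀ (βe.symm (phiV hz pC chartC Φ i.V ((𝒮'.str.app (op i.V)).hom a))) = _
      rw [phiV_str, ← hβC, ← hβe, RingEquiv.symm_apply_apply]
      show Polynomial.eval₂ (𝒮'.str.app (op i.V)).hom x' (Polynomial.C a) = _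
      rw [Polynomial.eval₂_C]
      rfl
    · show Ψ₀ (βe.symm (phiV hz pC chartC Φ i.V (asR 𝒮' (j'.app i.V m)))) = asR 𝒮' (j'.app i.V m)
      have hm : (ht'.coef le_rfl m • t' : Γ(L', i.V)) = m := by
        have := ht'.coef_smul le_rfl m
        rwa [res_self] at this
      have h1 : phiV hz pC chartC Φ i.V (asR 𝒮' (j'.app i.V m)) =
          βe (Polynomial.C (pair κ i.t m) * Polynomial.X) := by
        rw [phiV_j κ hS hz pC chartC hPC hL Φ hΦ i m, psi_eq_mul κ hS hz pC chartC hPC i m hβX, hβe, map_mul, hβC]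
      rw [h1, RingEquiv.symm_apply_apply]
      show Polynomial.eval₂ (𝒮'.str.app (op i.V)).hom x' (Polynomial.C (pair κ i.t m) * Polynomial.X) = _
      rw [Polynomial.eval₂_mul, Polynomial.eval₂_C, Polynomial.eval₂_X]
      show (𝒮'.str.app (op i.V)).hom (pair κ i.t m) *
        ((𝒮'.str.app (op i.V)).hom ((v⁻¹ : (Γ(Y, i.V))ˣ) : Γ(Y, i.V)) * asR 𝒮' (j'.app i.V t')) = _
      conv_rhs => rw [← hm, j'_smul]
      conv_lhs => rw [← hm, pair_smul_right, ← hv]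
      rw [← mul_assoc, ← map_mul, mul_assoc, Units.mul_inv, mul_one]
  constructor
  · intro a b hab
    have ha := RingHom.congr_fun hΨφ a
    have hb := RingHom.congr_fun hΨφ b
    rw [RingHom.comp_apply, RingHom.id_apply] at ha hb
    rw [← ha, ← hb, hab]
  · intro y
    obtain ⟨p, rfl⟩ := hβ.2 y
    exact ⟨Ψ₀ p, RingHom.congr_fun hcomp p⟩

end main

/-- **the pointed projective cone of `V(L)` is `V(L')`** for `L'` an inverse of the invertible module `L` -/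
theorem exists_iso_pointedProjCone {Y PC : Scheme.{u}} {L L' : Y.Modules}
    (hL : PicF.IsInvertible L) (hL' : PicF.IsInvertible L') [L.IsQuasicoherent] [L'.IsQuasicoherent]
    (κ : CohB1.tensorMod L L' ≅ Coh.structureModule Y)
    {𝒮 𝒮h : RelProj.QCGrAlg Y} {j : L ⟶ 𝒮.toModule} (hS : RelProj.IsGrSymAlg L 𝒮 j)
    {ι : 𝒮.toQCAlg ⟶ 𝒮h.toQCAlg} {z : 𝒮h.presheaf.obj (op ⊤)} (hz : RelCone.IsPolyOver 𝒮 𝒮h ι z)
    (pC : PC ⟶ Y)
    (chartC : ∀ (U : Y.Opens) (hU : IsAffineOpen U), (((pC ⁻¹ᵁ U : PC.Opens) : Scheme.{u}) ≅ Proj (𝒮h.deg U hU)))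
    (hPC : RelProj.IsRelProj 𝒮h pC chartC)
    {𝒮' : RelSpec.QCAlg Y} {j' : L' ⟶ 𝒮'.toModule} (hS' : RelSpec.IsSymAlg L' 𝒮' j') :
    ∃ e : 𝒮'.spec ≅ ((RelCone.pointedProjCone 𝒮 hz pC chartC : PC.Opens) : Scheme.{u}),
      e.hom ≫ (RelCone.pointedProjCone 𝒮 hz pC chartC).ι ≫ pC = 𝒮'.π := by
  haveI : IsAffineHom (qq hz pC chartC) := isAffineHom_qq hS hz pC chartC hPC hL
  obtain ⟨Φ, hΦ, -⟩ := hS' (BB hz pC chartC) (lam κ hS hz pC chartC hPC hL)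
  have hiso : IsIso (RelSpec.QCAlg.specMap Φ) := by
    refine RelSpecCover.prop_specMap_of_charts Φ (MorphismProperty.isomorphisms Scheme) (fun x => ?_)
    obtain ⟨W, t'₀, hxW, -, ht'₀⟩ := GenLocus.exists_isGen_affine L' hL' x
    obtain ⟨V₀, t₀, hxV₀, -, ht₀⟩ := GenLocus.exists_isGen_affine L hL x
    obtain ⟨_, ⟨V, hV, rfl⟩, hxV, hVle⟩ := Y.isBasis_affineOpens.exists_subset_of_mem_open
      (show x ∈ ((V₀ ⊓ W : Y.Opens) : Set Y) from ⟨hxV₀, hxW⟩) (V₀ ⊓ W).isOpen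
    have h1 : V ≤ V₀ := fun a ha => (hVle ha).1
    have h2 : V ≤ W := fun a ha => (hVle ha).2
    refine ⟨V, hV, hxV, ?_⟩
    have hb := bijective_phiV κ hS hz pC chartC hPC hS' hL Φ hΦ ⟨V, hV, res L h1 t₀, ht₀.res h1⟩ (ht'₀.res h2)
    have : IsIso (Φ.hom.app (op V)) := (ConcreteCategory.isIso_iff_bijective _).2 hb
    show IsIso (Spec.map (Φ.hom.app (op V)))
    infer_instance
  obtain ⟨c, hc, hcπ⟩ := AffSpec.exists_iso_spec_directImage (qq hz pC chartC)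
  haveI := hc
  refine ⟨(asIso (c ≫ RelSpec.QCAlg.specMap Φ)).symm, ?_⟩
  rw [Iso.symm_hom, asIso_inv, IsIso.inv_comp_eq, Category.assoc, RelSpec.QCAlg.specMap_π]
  exact hcπ.symm

end Groth.Agent.Lib.Helper28.ConeLine
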