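import Groth.Agent.Lib.Helper28.GrauertNormal

set_option autoImplicit false
universe u
open CategoryTheory CategoryTheory.Limits AlgebraicGeometry Opposite TopologicalSpace
noncomputable section

namespace Groth.Agent.Lib.Helper28.ConeNormal

/-- every point has an integral open neighbourhood -/
def LocInt (V : Scheme.{u}) : Prop := ∀ v : V, ∃ O : V.Opens, v ∈ O ∧ IsIntegral (O : Scheme.{u})

section germ

variable {V : Scheme.{u}}

/-- on an integral open subscheme the germ maps are injective -/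
theorem germ_injective_of_le {O : V.Opens} [IsIntegral (O : Scheme.{u})] {U : V.Opens} (hUO : U ≤ O)
    (w : V) (hw : w ∈ U) : Function.Injective (V.presheaf.germ U w hw) := by
  let w' : (O : Scheme.{u}) := ⟨w, hUO hw⟩
  have h1 := Scheme.Hom.germ_stalkMap O.ι U w' hw
  have h2 : Function.Injective (O.ι.app U).hom := by
    haveI : IsIso (O.ι.app U) := Scheme.Hom.isIso_app O.ι U (by rw [Scheme.Opens.opensRange_ι]; exact hUO)
    exact ((ConcreteCategory.isIso_iff_bijective _).1 inferInstance).1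
  have h3 : Function.Injective ((O : Scheme.{u}).presheaf.germ (O.ι ⁻¹ᵁ U) w' hw) :=
    germ_injective_of_isIntegral _ w' hw
  have h4 : Function.Injective (O.ι.app U ≫ (O : Scheme.{u}).presheaf.germ (O.ι ⁻¹ᵁ U) w' hw).hom := by
    intro a b hab
    exact h2 (h3 hab)
  rw [← h1] at h4
  intro a b hab
  apply h4
  show (O.ι.stalkMap w').hom ((V.presheaf.germ U w hw).hom a) = (O.ι.stalkMap w').hom ((V.presheaf.germ U w hw).hom b)
  rw [hab]

/-- nonvanishing of a germ spreads over an integral neighbourhood -/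
theorem germ_ne_zero_nhds (hLI : LocInt V) {U : V.Opens} (x : Γ(V, U)) (w : V) (hw : w ∈ U)
    (hx : V.presheaf.germ U w hw x ≠ 0) :
    ∃ (N : V.Opens) (hNU : N ≤ U), w ∈ N ∧ ∀ (w' : V) (hw' : w' ∈ N), V.presheaf.germ U w' (hNU hw') x ≠ 0 := by
  obtain ⟨O, hwO, hO⟩ := hLI w
  haveI := hO
  refine ⟨U ⊓ O, inf_le_left, ⟨hw, hwO⟩, ?_⟩
  intro w' hw' h0
  apply hx
  have h1 : V.presheaf.germ (U ⊓ O) w' hw' (V.presheaf.map (homOfLE (inf_le_left : U ⊓ O ≤ U)).op x) = 0 := by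
    rw [TopCat.Presheaf.germ_res_apply]
    exact h0
  have h2 : V.presheaf.map (homOfLE (inf_le_left : U ⊓ O ≤ U)).op x = 0 := by
    apply germ_injective_of_le (inf_le_right : U ⊓ O ≤ O) w' hw'
    rw [h1, map_zero]
  have h3 := TopCat.Presheaf.germ_res_apply V.presheaf (homOfLE (inf_le_left : U ⊓ O ≤ U)) w ⟨hw, hwO⟩ x
  rw [← h3, h2, map_zero]

/-- vanishing of a germ spreads over a neighbourhood -/
theorem germ_eq_zero_nhds {U : V.Opens} (x : Γ(V, U)) (w : V) (hw : w ∈ U)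
    (hx : V.presheaf.germ U w hw x = 0) :
    ∃ (N : V.Opens) (hNU : N ≤ U), w ∈ N ∧ ∀ (w' : V) (hw' : w' ∈ N), V.presheaf.germ U w' (hNU hw') x = 0 := by
  have h0 : V.presheaf.germ U w hw x = V.presheaf.germ U w hw (0 : Γ(V, U)) := by rw [hx, map_zero]
  obtain ⟨N, hwN, iU, iV, he⟩ := TopCat.Presheaf.germ_eq V.presheaf w hw hw x 0 h0
  refine ⟨N, iU.le, hwN, ?_⟩
  intro w' hw'
  have h3 := TopCat.Presheaf.germ_res_apply V.presheaf iU w' hw' x
  rw [← h3, he, map_zero, map_zero]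

/-- the support of a section, as an open set -/
def suppOpen (hLI : LocInt V) {U : V.Opens} (x : Γ(V, U)) : V.Opens :=
  ⟨{w | ∃ hw : w ∈ U, V.presheaf.germ U w hw x ≠ 0}, by
    rw [isOpen_iff_forall_mem_open]
    rintro w ⟨hw, hx⟩
    obtain ⟨N, hNU, hwN, hN⟩ := germ_ne_zero_nhds hLI x w hw hx
    exact ⟨N, fun w' hw' => ⟨hNU hw', hN w' hw'⟩, N.isOpen, hwN⟩⟩

/-- the vanishing locus of a section, as an open set -/
def zeroOpen {U : V.Opens} (x : Γ(V, U)) : V.Opens :=
  ⟨{w | ∃ hw : w ∈ U, V.presheaf.germ U w hw x = 0}, by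
    rw [isOpen_iff_forall_mem_open]
    rintro w ⟨hw, hx⟩
    obtain ⟨N, hNU, hwN, hN⟩ := germ_eq_zero_nhds x w hw hx
    exact ⟨N, fun w' hw' => ⟨hNU hw', hN w' hw'⟩, N.isOpen, hwN⟩⟩

theorem suppOpen_le (hLI : LocInt V) {U : V.Opens} (x : Γ(V, U)) : suppOpen hLI x ≤ U := fun _ hw => hw.1

theorem zeroOpen_le {U : V.Opens} (x : Γ(V, U)) : zeroOpen x ≤ U := fun _ hw => hw.1

theorem mem_suppOpen (hLI : LocInt V) {U : V.Opens} (x : Γ(V, U)) (w : V) (hw : w ∈ U) :
    w ∈ suppOpen hLI x ↔ V.presheaf.germ U w hw x ≠ 0 :=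
  ⟨fun h => h.2, fun h => ⟨hw, h⟩⟩

theorem mem_zeroOpen {U : V.Opens} (x : Γ(V, U)) (w : V) (hw : w ∈ U) :
    w ∈ zeroOpen x ↔ V.presheaf.germ U w hw x = 0 :=
  ⟨fun h => h.2, fun h => ⟨hw, h⟩⟩

theorem le_sup_supp_zero (hLI : LocInt V) {U : V.Opens} (x : Γ(V, U)) : U ≤ suppOpen hLI x ⊔ zeroOpen x := by
  intro w hw
  by_cases h : V.presheaf.germ U w hw x = 0
  · exact Or.inr ⟨hw, h⟩
  · exact Or.inl ⟨hw, h⟩

theorem supp_inf_zero (hLI : LocInt V) {U : V.Opens} (x : Γ(V, U)) : suppOpen hLI x ⊓ zeroOpen x = ⊥ := by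
  rw [eq_bot_iff]
  rintro w ⟨⟨_, h1⟩, ⟨_, h2⟩⟩
  exact h1 h2

end germ

section glue

variable {V : Scheme.{u}}

/-- gluing two sections over disjoint opens covering `U` -/
theorem exists_glue_two {U S Z : V.Opens} (hS : S ≤ U) (hZ : Z ≤ U) (hcov : U ≤ S ⊔ Z) (hdisj : S ⊓ Z = ⊥)
    (a : Γ(V, S)) (b : Γ(V, Z)) :
    ∃ s : Γ(V, U), V.presheaf.map (homOfLE hS).op s = a ∧ V.presheaf.map (homOfLE hZ).op s = b := by
  let Uf : Bool → V.Opens := fun i => Bool.rec Z S i
  let sf : ∀ i : Bool, ToType (V.sheaf.1.obj (op (Uf i))) := fun i => Bool.rec b a i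
  have hle : ∀ i, Uf i ≤ U := fun i => by cases i <;> assumption
  have hcov' : U ≤ iSup Uf := by
    intro w hw
    rcases hcov hw with h | h
    · exact TopologicalSpace.Opens.mem_iSup.2 ⟨true, h⟩
    · exact TopologicalSpace.Opens.mem_iSup.2 ⟨false, h⟩
  haveI h1 : Subsingleton Γ(V, S ⊓ Z) := by rw [hdisj]; infer_instance
  haveI h2 : Subsingleton Γ(V, Z ⊓ S) := by rw [inf_comm, hdisj]; infer_instance
  have hcomp : TopCat.Presheaf.IsCompatible V.sheaf.1 Uf sf := by
    intro i j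
    cases i <;> cases j
    · rfl
    · exact @Subsingleton.elim _ h2 _ _
    · exact @Subsingleton.elim _ h1 _ _
    · rfl
  obtain ⟨s, hs, -⟩ := V.sheaf.existsUnique_gluing' Uf U (fun i => homOfLE (hle i)) hcov' sf hcomp
  exact ⟨s, hs true, hs false⟩

end glue


section idem

variable {V : Scheme.{u}} (hLI : LocInt V) (hN : Pi1.IsNormalScheme V) {U : V.Opens}

include hLI

/-- the idempotent of the support of a section -/
theorem exists_idem (x : Γ(V, U)) :
    ∃ e : Γ(V, U), ∀ (w : V) (hw : w ∈ U),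
      (V.presheaf.germ U w hw x ≠ 0 → V.presheaf.germ U w hw e = 1) ∧
      (V.presheaf.germ U w hw x = 0 → V.presheaf.germ U w hw e = 0) := by
  obtain ⟨e, he1, he0⟩ := exists_glue_two (suppOpen_le hLI x) (zeroOpen_le x) (le_sup_supp_zero hLI x)
    (supp_inf_zero hLI x) (1 : Γ(V, suppOpen hLI x)) (0 : Γ(V, zeroOpen x))
  refine ⟨e, fun w hw => ⟨fun h => ?_, fun h => ?_⟩⟩
  · have hw' : w ∈ suppOpen hLI x := ⟨hw, h⟩
    have h3 := TopCat.Presheaf.germ_res_apply V.presheaf (homOfLE (suppOpen_le hLI x)) w hw' e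
    rw [← h3, he1, map_one]
  · have hw' : w ∈ zeroOpen x := ⟨hw, h⟩
    have h3 := TopCat.Presheaf.germ_res_apply V.presheaf (homOfLE (zeroOpen_le x)) w hw' e
    rw [← h3, he0, map_zero]

/-- the chosen idempotent of the support of a section -/
def idem (x : Γ(V, U)) : Γ(V, U) := (exists_idem hLI x).choose

theorem germ_idem_of_ne (x : Γ(V, U)) (w : V) (hw : w ∈ U) (h : V.presheaf.germ U w hw x ≠ 0) :
    V.presheaf.germ U w hw (idem hLI x) = 1 :=
  ((exists_idem hLI x).choose_spec w hw).1 h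

theorem germ_idem_of_eq (x : Γ(V, U)) (w : V) (hw : w ∈ U) (h : V.presheaf.germ U w hw x = 0) :
    V.presheaf.germ U w hw (idem hLI x) = 0 :=
  ((exists_idem hLI x).choose_spec w hw).2 h

omit hLI in
theorem section_ext' (s t : Γ(V, U))
    (h : ∀ (w : V) (hw : w ∈ U), V.presheaf.germ U w hw s = V.presheaf.germ U w hw t) : s = t :=
  TopCat.Presheaf.section_ext V.sheaf U s t h

theorem mul_idem (x : Γ(V, U)) : x * idem hLI x = x := by
  apply section_ext'
  intro w hw
  rw [map_mul]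
  by_cases h : V.presheaf.germ U w hw x = 0
  · rw [h, zero_mul]
  · rw [germ_idem_of_ne hLI x w hw h, mul_one]

theorem one_sub_idem_mul (x : Γ(V, U)) : (1 - idem hLI x) * x = 0 := by
  rw [sub_mul, one_mul, mul_comm, mul_idem, sub_self]

include hN in
theorem idem_mul_eq_zero (t x x' : Γ(V, U)) (h : t * (x * x') = 0) :
    idem hLI t * (idem hLI x * idem hLI x') = 0 := by
  apply section_ext'
  intro w hw
  haveI := (hN w).1
  rw [map_mul, map_mul, map_zero]
  have h0 : V.presheaf.germ U w hw t * (V.presheaf.germ U w hw x * V.presheaf.germ U w hw x') = 0 := by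
    rw [← map_mul, ← map_mul, h, map_zero]
  rcases mul_eq_zero.1 h0 with h1 | h1
  · rw [germ_idem_of_eq hLI t w hw h1, zero_mul]
  · rcases mul_eq_zero.1 h1 with h2 | h2
    · rw [germ_idem_of_eq hLI x w hw h2, zero_mul, mul_zero]
    · rw [germ_idem_of_eq hLI x' w hw h2, mul_zero, mul_zero]

include hN in
/-- **the local rings of `Spec Γ(U)` are domains** when `V` is normal and locally integral -/
theorem isDomain_localization (𝔮 : Ideal Γ(V, U)) [𝔮.IsPrime] : IsDomain (Localization.AtPrime 𝔮) := by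
  haveI : NoZeroDivisors (Localization.AtPrime 𝔮) := by
    constructor
    intro a b hab
    obtain ⟨x, s, rfl⟩ := IsLocalization.exists_mk'_eq 𝔮.primeCompl a
    obtain ⟨x', s', rfl⟩ := IsLocalization.exists_mk'_eq 𝔮.primeCompl b
    rw [← IsLocalization.mk'_mul, IsLocalization.mk'_eq_zero_iff] at hab
    obtain ⟨t, ht⟩ := hab
    have h1 := idem_mul_eq_zero hLI hN (t : Γ(V, U)) x x' ht
    have key : ∀ y : Γ(V, U), idem hLI y ∈ 𝔮 → ∃ m : 𝔮.primeCompl, (m : Γ(V, U)) * y = 0 := by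
      intro y hy
      refine ⟨⟨1 - idem hLI y, ?_⟩, one_sub_idem_mul hLI y⟩
      intro hmem
      have : (1 : Γ(V, U)) ∈ 𝔮 := by
        have := 𝔮.add_mem hmem hy
        rwa [sub_add_cancel] at this
      exact (Ideal.IsPrime.ne_top inferInstance) ((Ideal.eq_top_iff_one 𝔮).2 this)
    have h2 : idem hLI (t : Γ(V, U)) * (idem hLI x * idem hLI x') ∈ 𝔮 := by rw [h1]; exact 𝔮.zero_mem
    rcases (Ideal.IsPrime.mem_or_mem inferInstance h2) with h3 | h3
    · exfalso
      obtain ⟨m, hm⟩ := key (t : Γ(V, U)) h3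
      -- t = t * e_t ∈ 𝔮
      have h4 : (t : Γ(V, U)) ∈ 𝔮 := by
        rw [← mul_idem hLI (t : Γ(V, U))]
        exact 𝔮.mul_mem_left _ h3
      exact t.2 h4
    · rcases (Ideal.IsPrime.mem_or_mem inferInstance h3) with h4 | h4
      · left
        rw [IsLocalization.mk'_eq_zero_iff]
        exact key x h4
      · right
        rw [IsLocalization.mk'_eq_zero_iff]
        exact key x' h4
  exact NoZeroDivisors.to_isDomain _

end idem

end Groth.Agent.Lib.Helper28.ConeNormal
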