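import Mathlib

set_option autoImplicit false
open Polynomial

namespace Groth.Agent.Lib.Helper28.ConeNormal

/-- in an integrally closed domain, a homogeneous integral relation forces divisibility -/
theorem dvd_of_scaleRoots_eval_eq_zero {O : Type*} [CommRing O] [IsDomain O] [IsIntegrallyClosed O] (x y : O)
    (hy : y ≠ 0) (Q : O[X]) (hQ : IsUnit Q.leadingCoeff) (h : eval x (scaleRoots Q y) = 0) : y ∣ x := by
  let K := FractionRing O
  let f : O →+* K := algebraMap O K
  have hfinj : Function.Injective f := IsFractionRing.injective O K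
  have hfy : f y ≠ 0 := fun h0 => hy (hfinj (by rw [h0, map_zero]))
  have h1 := scaleRoots_eval₂_mul (p := Q) f (f x / f y) y
  rw [mul_div_cancel₀ _ hfy, eval₂_hom, h, map_zero] at h1
  have h2 : eval₂ f (f x / f y) Q = 0 := by
    rcases mul_eq_zero.1 h1.symm with h3 | h3
    · exact (pow_ne_zero _ hfy h3).elim
    · exact h3
  obtain ⟨c, hc⟩ := hQ.exists_left_inv
  have hPm : (C c * Q).Monic := monic_C_mul_of_mul_leadingCoeff_eq_one hc
  have hP : eval₂ f (f x / f y) (C c * Q) = 0 := by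
    rw [eval₂_mul, h2, mul_zero]
  have hint : IsIntegral O (f x / f y) := ⟨C c * Q, hPm, hP⟩
  obtain ⟨ρ, hρ⟩ := IsIntegrallyClosed.isIntegral_iff.1 hint
  refine ⟨ρ, hfinj ?_⟩
  rw [map_mul]
  show f x = f y * algebraMap O K ρ
  rw [hρ, mul_div_cancel₀ _ hfy]

/-- a criterion for the localization of a ring at a prime to be integrally closed, in terms of homogeneous integral
relations in the ring itself -/
theorem isIntegrallyClosed_localization_of_dvd {B : Type*} [CommRing B] (𝔮 : Ideal B) [𝔮.IsPrime]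
    [IsDomain (Localization.AtPrime 𝔮)]
    (H : ∀ (X Y : B) (Q : B[X]) (t : B), algebraMap B (Localization.AtPrime 𝔮) Y ≠ 0 → Q.leadingCoeff ∉ 𝔮 →
        t ∉ 𝔮 → t * eval X (scaleRoots Q Y) = 0 →
        ∃ c : Localization.AtPrime 𝔮, algebraMap B (Localization.AtPrime 𝔮) X =
          algebraMap B (Localization.AtPrime 𝔮) Y * c) :
    IsIntegrallyClosed (Localization.AtPrime 𝔮) := by
  let R := Localization.AtPrime 𝔮
  let K := FractionRing R
  let ψ : B →+* R := algebraMap B R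
  let φ : R →+* K := algebraMap R K
  have hφinj : Function.Injective φ := IsFractionRing.injective R K
  refine (isIntegrallyClosed_iff K).2 ?_
  intro z hz
  obtain ⟨P, hPm, hPz⟩ := hz
  obtain ⟨x₁, y₁, hy₁, rfl⟩ := IsFractionRing.div_surjective (A := R) z
  obtain ⟨X₀, s, rfl⟩ := IsLocalization.exists_mk'_eq 𝔮.primeCompl x₁
  obtain ⟨Y₀, s', rfl⟩ := IsLocalization.exists_mk'_eq 𝔮.primeCompl y₁
  -- common denominators
  have hs : IsUnit (ψ s) := IsLocalization.map_units R s
  have hs' : IsUnit (ψ s') := IsLocalization.map_units R s'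
  have hX : ψ (X₀ * s') = IsLocalization.mk' R X₀ s * (ψ s * ψ s') := by
    rw [← mul_assoc, IsLocalization.mk'_spec, map_mul]
  have hY : ψ (Y₀ * s) = IsLocalization.mk' R Y₀ s' * (ψ s * ψ s') := by
    rw [mul_comm (ψ s) (ψ s'), ← mul_assoc, IsLocalization.mk'_spec, map_mul]
  have hu : ψ s * ψ s' ≠ 0 := (hs.mul hs').ne_zero
  have hy₁0 : IsLocalization.mk' R Y₀ s' ≠ 0 := nonZeroDivisors.ne_zero hy₁
  have hY0 : ψ (Y₀ * s) ≠ 0 := by rw [hY]; exact mul_ne_zero hy₁0 hu
  have hz' : φ (IsLocalization.mk' R X₀ s) / φ (IsLocalization.mk' R Y₀ s') = φ (ψ (X₀ * s')) / φ (ψ (Y₀ * s)) := by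
    rw [hX, hY, map_mul φ (IsLocalization.mk' R X₀ s), map_mul φ (IsLocalization.mk' R Y₀ s')]
    have : φ (ψ s * ψ s') ≠ 0 := fun h0 => hu (hφinj (by rw [h0, map_zero]))
    rw [mul_div_mul_right _ _ this]
  rw [hz'] at hPz ⊢
  have hrel : eval (ψ (X₀ * s')) (scaleRoots P (ψ (Y₀ * s))) = 0 := by
    have h1 := scaleRoots_eval₂_eq_zero_of_eval₂_div_eq_zero hφinj hPz (mem_nonZeroDivisors_of_ne_zero hY0)
    rw [eval₂_hom] at h1
    exact hφinj (by rw [h1, map_zero])
  -- clear denominators in the polynomial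
  obtain ⟨b, hb, hQ⟩ := IsLocalization.integerNormalization_spec 𝔮.primeCompl P
  set Q := IsLocalization.integerNormalization 𝔮.primeCompl P with hQdef
  have hbu : IsUnit (ψ b) := IsLocalization.map_units R ⟨b, hb⟩
  have hQ' : Q.map ψ = C (ψ b) * P := by
    rw [hQ, ← Polynomial.smul_eq_C_mul]
    exact (IsScalarTower.algebraMap_smul R b P).symm
  have hcoeffn : ψ (Q.coeff P.natDegree) = ψ b := by
    have := congrArg (fun p => p.coeff P.natDegree) hQ'
    simp only [coeff_map, coeff_C_mul] at this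
    rw [this, hPm.coeff_natDegree, mul_one]
  have hdeg_le : Q.natDegree ≤ P.natDegree := by
    rw [natDegree_le_iff_coeff_eq_zero]
    intro i hi
    have h1 : i ∉ P.support := by
      rw [notMem_support_iff]
      exact coeff_eq_zero_of_natDegree_lt hi
    have h2 : i ∉ Q.support := fun h => h1 (IsLocalization.integerNormalization_support 𝔮.primeCompl P h)
    exact notMem_support_iff.1 h2
  have hcoeff_ne : Q.coeff P.natDegree ≠ 0 := by
    intro h0
    rw [h0, map_zero] at hcoeffn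
    exact hbu.ne_zero hcoeffn.symm
  have hdeg : Q.natDegree = P.natDegree := natDegree_eq_of_le_of_coeff_ne_zero hdeg_le hcoeff_ne
  have hlc : ψ Q.leadingCoeff = ψ b := by
    rw [leadingCoeff, hdeg, hcoeffn]
  have hlc' : Q.leadingCoeff ∉ 𝔮 := by
    have h1 : IsUnit (ψ Q.leadingCoeff) := by rw [hlc]; exact hbu
    have h2 := (IsLocalization.AtPrime.isUnit_to_map_iff R 𝔮 Q.leadingCoeff).1 h1
    exact h2
  have hrelB : ψ (eval (X₀ * s') (scaleRoots Q (Y₀ * s))) = 0 := by
    rw [← eval₂_at_apply, ← eval_map, map_scaleRoots _ _ _ (by rw [hlc]; exact hbu.ne_zero), hQ',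
      mul_scaleRoots_of_noZeroDivisors, scaleRoots_C, eval_mul, hrel, mul_zero]
  obtain ⟨t, ht⟩ := (IsLocalization.map_eq_zero_iff 𝔮.primeCompl R _).1 hrelB
  obtain ⟨c, hc⟩ := H (X₀ * s') (Y₀ * s) Q t hY0 hlc' t.2 ht
  refine ⟨c, ?_⟩
  show φ c = φ (ψ (X₀ * s')) / φ (ψ (Y₀ * s))
  have : φ (ψ (Y₀ * s)) ≠ 0 := fun h0 => hY0 (hφinj (by rw [h0, map_zero]))
  rw [eq_div_iff this]
  have h5 : φ c * φ (ψ (Y₀ * s)) = φ (ψ (X₀ * s')) := by
    have h6 : ψ (X₀ * s') = ψ (Y₀ * s) * c := hc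
    rw [h6, map_mul φ, mul_comm]
  exact h5

end Groth.Agent.Lib.Helper28.ConeNormal
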