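import Groth.Agent.Lib.Helper28.ConeNormalA
import Groth.Agent.Lib.Helper28.ConeNormalAlg

set_option autoImplicit false
universe u
open CategoryTheory CategoryTheory.Limits AlgebraicGeometry Opposite TopologicalSpace
noncomputable section

namespace Groth.Agent.Lib.Helper28.ConeNormal

section divide

variable {V : Scheme.{u}} (hN : Pi1.IsNormalScheme V)

include hN in
/-- local-to-global divisibility: if `y` vanishes nowhere (as a germ) and divides `x` in every stalk, then `y`
divides `x` -/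
theorem exists_quotient_of_germ_dvd {U' : V.Opens} (x y : Γ(V, U'))
    (hy : ∀ (w : V) (hw : w ∈ U'), V.presheaf.germ U' w hw y ≠ 0)
    (hdvd : ∀ (w : V) (hw : w ∈ U'), V.presheaf.germ U' w hw y ∣ V.presheaf.germ U' w hw x) :
    ∃ c : Γ(V, U'), x = y * c := by
  -- local quotients
  have hloc : ∀ w : U', ∃ (N : V.Opens) (hNU : N ≤ U') (_ : w.1 ∈ N) (c : Γ(V, N)),
      V.presheaf.map (homOfLE hNU).op x = V.presheaf.map (homOfLE hNU).op y * c := by
    rintro ⟨w, hw⟩
    obtain ⟨cw, hcw⟩ := hdvd w hw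
    obtain ⟨N, hwN, s, hs⟩ := TopCat.Presheaf.exists_germ_eq V.presheaf cw
    have hN₁ : N ⊓ U' ≤ U' := inf_le_right
    have hN₁' : N ⊓ U' ≤ N := inf_le_left
    have hw₁ : w ∈ N ⊓ U' := ⟨hwN, hw⟩
    let D : Γ(V, N ⊓ U') := V.presheaf.map (homOfLE hN₁).op x -
      V.presheaf.map (homOfLE hN₁).op y * V.presheaf.map (homOfLE hN₁').op s
    have hD : V.presheaf.germ (N ⊓ U') w hw₁ D = 0 := by
      show V.presheaf.germ (N ⊓ U') w hw₁ (V.presheaf.map (homOfLE hN₁).op x -
        V.presheaf.map (homOfLE hN₁).op y * V.presheaf.map (homOfLE hN₁').op s) = 0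
      rw [map_sub, map_mul, TopCat.Presheaf.germ_res_apply, TopCat.Presheaf.germ_res_apply,
        TopCat.Presheaf.germ_res_apply, hs, hcw, sub_self]
    obtain ⟨N₂, hN₂, hwN₂, hzero⟩ := germ_eq_zero_nhds D w hw₁ hD
    have hDres : V.presheaf.map (homOfLE hN₂).op D = 0 := by
      apply section_ext'
      intro p hp
      rw [TopCat.Presheaf.germ_res_apply, map_zero]
      exact hzero p hp
    refine ⟨N₂, hN₂.trans hN₁, hwN₂, V.presheaf.map (homOfLE (hN₂.trans hN₁')).op s, ?_⟩
    have h1 : V.presheaf.map (homOfLE hN₂).op D =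
        V.presheaf.map (homOfLE (hN₂.trans hN₁)).op x -
          V.presheaf.map (homOfLE (hN₂.trans hN₁)).op y * V.presheaf.map (homOfLE (hN₂.trans hN₁')).op s := by
      show V.presheaf.map (homOfLE hN₂).op (V.presheaf.map (homOfLE hN₁).op x -
        V.presheaf.map (homOfLE hN₁).op y * V.presheaf.map (homOfLE hN₁').op s) = _
      rw [map_sub, map_mul, ← ConcreteCategory.comp_apply, ← ConcreteCategory.comp_apply,
        ← ConcreteCategory.comp_apply, ← Functor.map_comp, ← Functor.map_comp]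
      rfl
    rw [h1] at hDres
    exact sub_eq_zero.1 hDres
  choose N hNU hwN c hc using hloc
  have hcover : U' ≤ iSup N := by
    intro w hw
    exact TopologicalSpace.Opens.mem_iSup.2 ⟨⟨w, hw⟩, hwN ⟨w, hw⟩⟩
  have hcomp : TopCat.Presheaf.IsCompatible V.sheaf.1 N c := by
    intro w w'
    apply section_ext'
    intro p hp
    haveI := (hN p).1
    have hp1 : p ∈ N w := hp.1
    have hp2 : p ∈ N w' := hp.2
    have hpU : p ∈ U' := hNU w hp1
    have e1 : V.presheaf.germ (N w ⊓ N w') p hp (V.sheaf.1.map (Opens.infLELeft (N w) (N w')).op (c w)) =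
        V.presheaf.germ (N w) p hp1 (c w) := TopCat.Presheaf.germ_res_apply V.presheaf _ p hp (c w)
    have e2 : V.presheaf.germ (N w ⊓ N w') p hp (V.sheaf.1.map (Opens.infLERight (N w) (N w')).op (c w')) =
        V.presheaf.germ (N w') p hp2 (c w') := TopCat.Presheaf.germ_res_apply V.presheaf _ p hp (c w')
    rw [e1, e2]
    have g1 : V.presheaf.germ U' p hpU x = V.presheaf.germ U' p hpU y * V.presheaf.germ (N w) p hp1 (c w) := by
      have := congrArg (V.presheaf.germ (N w) p hp1) (hc w)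
      rw [map_mul, TopCat.Presheaf.germ_res_apply, TopCat.Presheaf.germ_res_apply] at this
      exact this
    have g2 : V.presheaf.germ U' p hpU x = V.presheaf.germ U' p hpU y * V.presheaf.germ (N w') p hp2 (c w') := by
      have := congrArg (V.presheaf.germ (N w') p hp2) (hc w')
      rw [map_mul, TopCat.Presheaf.germ_res_apply, TopCat.Presheaf.germ_res_apply] at this
      exact this
    exact mul_left_cancel₀ (hy p hpU) (g1.symm.trans g2)
  obtain ⟨c₀, hc₀, -⟩ := V.sheaf.existsUnique_gluing' N U' (fun w => homOfLE (hNU w)) hcover c hcomp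
  refine ⟨c₀, ?_⟩
  apply section_ext'
  intro p hp
  have h1 := congrArg (V.presheaf.germ (N ⟨p, hp⟩) p (hwN ⟨p, hp⟩)) (hc ⟨p, hp⟩)
  rw [map_mul, TopCat.Presheaf.germ_res_apply, TopCat.Presheaf.germ_res_apply] at h1
  rw [map_mul, h1]
  congr 1
  have h2 := congrArg (V.presheaf.germ (N ⟨p, hp⟩) p (hwN ⟨p, hp⟩)) (hc₀ ⟨p, hp⟩)
  rw [← h2]
  exact TopCat.Presheaf.germ_res_apply V.presheaf _ p _ c₀

end divide

section main

open Polynomial

variable {V : Scheme.{u}} (hLI : LocInt V) (hN : Pi1.IsNormalScheme V) {U : V.Opens}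
  (hUc : IsCompact (U : Set V)) (hUqs : IsQuasiSeparated (U : Set V))

include hLI hN hUc hUqs in
/-- the geometric step: a homogeneous integral relation in `Γ(U)` gives divisibility in the local ring -/
theorem exists_quotient_localization (𝔮 : Ideal Γ(V, U)) [𝔮.IsPrime] [IsDomain (Localization.AtPrime 𝔮)]
    (X Y : Γ(V, U)) (Q : Γ(V, U)[X]) (t : Γ(V, U))
    (hY : algebraMap Γ(V, U) (Localization.AtPrime 𝔮) Y ≠ 0) (hQ : Q.leadingCoeff ∉ 𝔮) (ht : t ∉ 𝔮)
    (hrel : t * eval X (scaleRoots Q Y) = 0) :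
    ∃ c : Localization.AtPrime 𝔮, algebraMap Γ(V, U) (Localization.AtPrime 𝔮) X =
      algebraMap Γ(V, U) (Localization.AtPrime 𝔮) Y * c := by
  obtain ⟨m, hm⟩ : ∃ m : Γ(V, U), m = t * Q.leadingCoeff := ⟨_, rfl⟩
  have hm𝔮 : m ∉ 𝔮 := fun h => (Ideal.IsPrime.mem_or_mem inferInstance (hm ▸ h)).elim ht hQ
  have hUmU : V.basicOpen m ≤ U := V.basicOpen_le m
  have hSUm : V.basicOpen m ⊓ suppOpen hLI Y ≤ V.basicOpen m := inf_le_left
  have hZUm : V.basicOpen m ⊓ zeroOpen Y ≤ V.basicOpen m := inf_le_left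
  have hSU : V.basicOpen m ⊓ suppOpen hLI Y ≤ U := hSUm.trans hUmU
  -- divisibility on `S`
  have hy : ∀ (w : V) (hw : w ∈ V.basicOpen m ⊓ suppOpen hLI Y),
      V.presheaf.germ _ w hw (V.presheaf.map (homOfLE hSU).op Y) ≠ 0 := by
    intro w hw
    rw [TopCat.Presheaf.germ_res_apply]
    exact hw.2.2
  have hdvd : ∀ (w : V) (hw : w ∈ V.basicOpen m ⊓ suppOpen hLI Y),
      V.presheaf.germ _ w hw (V.presheaf.map (homOfLE hSU).op Y) ∣
        V.presheaf.germ _ w hw (V.presheaf.map (homOfLE hSU).op X) := by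
    intro w hw
    rw [TopCat.Presheaf.germ_res_apply, TopCat.Presheaf.germ_res_apply]
    have hwU : w ∈ U := hSU hw
    haveI := (hN w).1
    haveI := (hN w).2
    let g : Γ(V, U) →+* V.presheaf.stalk w := (V.presheaf.germ U w hwU).hom
    have hgm : IsUnit (g m) := (V.mem_basicOpen m w hwU).1 hw.1
    have hgm' : IsUnit (g t) ∧ IsUnit (g Q.leadingCoeff) := by
      rw [hm, map_mul] at hgm
      exact IsUnit.mul_iff.1 hgm
    have hlc0 : g Q.leadingCoeff ≠ 0 := hgm'.2.ne_zero
    have hlc : (Q.map g).leadingCoeff = g Q.leadingCoeff := leadingCoeff_map_of_leadingCoeff_ne_zero g hlc0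
    have h1 : g t * eval (g X) (scaleRoots (Q.map g) (g Y)) = 0 := by
      have := congrArg g hrel
      rw [map_mul, map_zero, ← eval₂_at_apply, ← Polynomial.eval_map, map_scaleRoots _ _ _ hlc0] at this
      exact this
    have h2 : eval (g X) (scaleRoots (Q.map g) (g Y)) = 0 := by
      rcases mul_eq_zero.1 h1 with h3 | h3
      · exact (hgm'.1.ne_zero h3).elim
      · exact h3
    exact dvd_of_scaleRoots_eval_eq_zero (g X) (g Y) hw.2.2 (Q.map g) (by rw [hlc]; exact hgm'.2) h2
  obtain ⟨c', hc'⟩ := exists_quotient_of_germ_dvd hN _ _ hy hdvd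
  -- extension by zero
  have hcov : V.basicOpen m ≤ (V.basicOpen m ⊓ suppOpen hLI Y) ⊔ (V.basicOpen m ⊓ zeroOpen Y) := by
    intro w hw
    rcases le_sup_supp_zero hLI Y (hUmU hw) with h | h
    · exact Or.inl ⟨hw, h⟩
    · exact Or.inr ⟨hw, h⟩
  have hdisj : (V.basicOpen m ⊓ suppOpen hLI Y) ⊓ (V.basicOpen m ⊓ zeroOpen Y) = ⊥ := by
    rw [eq_bot_iff]
    rintro w ⟨⟨_, h1⟩, ⟨_, h2⟩⟩
    have : w ∈ suppOpen hLI Y ⊓ zeroOpen Y := ⟨h1, h2⟩
    rw [supp_inf_zero] at this
    exact this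
  obtain ⟨ct, hct1, -⟩ := exists_glue_two hSUm hZUm hcov hdisj c' (0 : Γ(V, V.basicOpen m ⊓ zeroOpen Y))
  -- the key identity on `U_m`
  have hkey : V.presheaf.map (homOfLE hUmU).op X * V.presheaf.map (homOfLE hUmU).op (idem hLI Y) =
      V.presheaf.map (homOfLE hUmU).op Y * ct := by
    apply section_ext'
    intro w hw
    have hwU : w ∈ U := hUmU hw
    rw [map_mul, map_mul, TopCat.Presheaf.germ_res_apply, TopCat.Presheaf.germ_res_apply,
      TopCat.Presheaf.germ_res_apply]
    by_cases h : V.presheaf.germ U w hwU Y = 0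
    · rw [germ_idem_of_eq hLI Y w hwU h, h, mul_zero, zero_mul]
    · rw [germ_idem_of_ne hLI Y w hwU h, mul_one]
      have hwS : w ∈ V.basicOpen m ⊓ suppOpen hLI Y := ⟨hw, ⟨hwU, h⟩⟩
      have e1 := congrArg (V.presheaf.germ _ w hwS) hc'
      rw [map_mul, TopCat.Presheaf.germ_res_apply, TopCat.Presheaf.germ_res_apply] at e1
      rw [e1]
      congr 1
      have e2 := congrArg (V.presheaf.germ _ w hwS) hct1
      rw [TopCat.Presheaf.germ_res_apply] at e2
      exact e2.symm
  -- quasi-compactness and quasi-separatedness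
  obtain ⟨k, b, hb⟩ := exists_eq_pow_mul_of_isCompact_of_isQuasiSeparated V U hUc hUqs m ct
  have hb' : V.presheaf.map (homOfLE hUmU).op b = (V.presheaf.map (homOfLE hUmU).op m) ^ k * ct := hb
  have hDres : V.presheaf.map (homOfLE hUmU).op (m ^ k * (X * idem hLI Y) - Y * b) = 0 := by
    rw [map_sub, map_mul, map_mul, map_mul, map_pow, hb', hkey]
    ring
  obtain ⟨k', hk'⟩ := exists_pow_mul_eq_zero_of_res_basicOpen_eq_zero_of_isCompact V hUc
    (m ^ k * (X * idem hLI Y) - Y * b) m hDres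
  -- conclusion in the local ring
  let ψ : Γ(V, U) →+* Localization.AtPrime 𝔮 := algebraMap Γ(V, U) (Localization.AtPrime 𝔮)
  have hψm : IsUnit (ψ m) := IsLocalization.map_units (Localization.AtPrime 𝔮) (⟨m, hm𝔮⟩ : 𝔮.primeCompl)
  have hψe : ψ (idem hLI Y) = 1 := by
    have h1 := congrArg ψ (one_sub_idem_mul hLI Y)
    rw [map_mul, map_zero, map_sub, map_one] at h1
    rcases mul_eq_zero.1 h1 with h2 | h2
    · exact (sub_eq_zero.1 h2).symm
    · exact (hY h2).elim
  have h3 : ψ m ^ k * ψ X = ψ Y * ψ b := by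
    have h4 := congrArg ψ hk'
    simp only [map_mul, map_sub, map_pow, map_zero] at h4
    rw [hψe, mul_one] at h4
    rcases mul_eq_zero.1 h4 with h5 | h5
    · exact ((hψm.pow k').ne_zero h5).elim
    · exact sub_eq_zero.1 h5
  obtain ⟨v, hv⟩ := hψm.pow k
  refine ⟨ψ b * ↑v⁻¹, ?_⟩
  show ψ X = ψ Y * (ψ b * ↑v⁻¹)
  rw [← mul_assoc, ← h3, ← hv, mul_comm (↑v : Localization.AtPrime 𝔮), mul_assoc, Units.mul_inv, mul_one]

include hLI hN hUc hUqs in
/-- **normality of `Spec Γ(U)`**: for a quasi-compact quasi-separated open `U` of a normal locally integral scheme,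
the local rings of the ring of functions on `U` are integrally closed domains -/
theorem isIntegrallyClosed_localization (𝔮 : Ideal Γ(V, U)) [𝔮.IsPrime] :
    IsDomain (Localization.AtPrime 𝔮) ∧ IsIntegrallyClosed (Localization.AtPrime 𝔮) := by
  haveI := isDomain_localization hLI hN 𝔮
  refine ⟨inferInstance, isIntegrallyClosed_localization_of_dvd 𝔮 ?_⟩
  intro X Y Q t hY hQ ht hrel
  exact exists_quotient_localization hLI hN hUc hUqs 𝔮 X Y Q t hY hQ ht hrel

end main

end Groth.Agent.Lib.Helper28.ConeNormal
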