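import Groth.Agent.Lib.Helper28.ConeNormalB

set_option autoImplicit false
universe u
open CategoryTheory CategoryTheory.Limits AlgebraicGeometry Opposite TopologicalSpace
noncomputable section

namespace Groth.Agent.Lib.Helper28.ConeNormal

open Groth.Agent.Lib.Helper28 Groth.Agent.Lib.Helper28.GrauertFactor
open Groth.Agent.Lib.Helper28.QCohLoc Groth.Agent.Lib.Helper28.TraceAlg
open Groth.Agent.Lib.Helper28.GenLocus Groth.Agent.Lib.Helper28.SymAlg

attribute [local instance] algAt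

section transport

/-- transport of the local ring along a ring isomorphism -/
theorem isDomain_isIntegrallyClosed_of_ringEquiv {R' B S : Type*} [CommRing R'] [CommRing B] [CommRing S]
    [Algebra R' S] (φ : R' ≃+* B) (𝔭 : Ideal R') [𝔭.IsPrime] [IsLocalization.AtPrime S 𝔭]
    (h : ∀ (𝔮 : Ideal B) [𝔮.IsPrime],
      IsDomain (Localization.AtPrime 𝔮) ∧ IsIntegrallyClosed (Localization.AtPrime 𝔮)) :
    IsDomain S ∧ IsIntegrallyClosed S := by
  let 𝔮 : Ideal B := 𝔭.comap φ.symm.toRingHom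
  haveI : 𝔮.IsPrime := Ideal.comap_isPrime _ _
  have H : 𝔭.primeCompl.map φ.toMonoidHom = 𝔮.primeCompl := by
    ext b
    constructor
    · rintro ⟨a, ha, rfl⟩
      show φ a ∉ 𝔮
      intro hb
      apply ha
      have : φ.symm (φ a) ∈ 𝔭 := hb
      rwa [φ.symm_apply_apply] at this
    · intro hb
      refine ⟨φ.symm b, ?_, φ.apply_symm_apply b⟩
      exact hb
  let e : S ≃+* Localization.AtPrime 𝔮 := IsLocalization.ringEquivOfRingEquiv S (Localization.AtPrime 𝔮) φ H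
  obtain ⟨h1, h2⟩ := h 𝔮
  exact ⟨MulEquiv.isDomain (Localization.AtPrime 𝔮) e.toMulEquiv, IsIntegrallyClosed.of_equiv e.symm⟩

end transport

section bundle

variable {X : Scheme.{u}} {L : X.Modules} [L.IsQuasicoherent] {A : RelSpec.QCAlg X} {j : L ⟶ A.toModule}

theorem isIso_gammaAff (A : RelSpec.QCAlg X) {W : X.Opens} (hW : IsAffineOpen W) : IsIso (A.gammaAff W hW) := by
  rw [← A.gammaMap_app W hW]
  haveI := Groth.Agent.Lib.Helper4.QCAlgPushout.isIso_gammaMap A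
  exact NatIso.isIso_app_of_isIso _ _

/-- the ring isomorphism between the functions on the chart of the line bundle and a polynomial ring -/
def chartEquiv (hA : RelSpec.IsSymAlg L A j) {W : X.Opens} (hW : IsAffineOpen W) {g : Γ(L, W)}
    (hg : IsGen L W g) : Γ(A.spec, A.π ⁻¹ᵁ W) ≃+* Polynomial Γ(X, W) := by
  haveI := isIso_gammaAff A hW
  let e0 : Γ(A.spec, A.π ⁻¹ᵁ W) ≃+* A.presheaf.obj (op W) := (asIso (A.gammaAff W hW)).commRingCatIsoToRingEquiv
  let e1 : SymmetricAlgebra Γ(X, W) Γ(L, W) ≃ₐ[Γ(X, W)] (A.presheaf.obj (op W)) :=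
    AlgEquiv.ofBijective (liftU A j W) (liftU_bijective hA W hW)
  have hbij : Function.Bijective (LinearMap.toSpanSingleton Γ(X, W) Γ(L, W) g) := by
    have h1 := hg W le_rfl
    rw [res_self] at h1
    exact h1
  let b : Module.Basis Unit Γ(X, W) Γ(L, W) :=
    (Module.Basis.singleton Unit Γ(X, W)).map (LinearEquiv.ofBijective _ hbij)
  let e2 := SymmetricAlgebra.equivMvPolynomial b
  let e3 := MvPolynomial.pUnitAlgEquiv Γ(X, W)
  exact e0.trans ((e1.symm.trans (e2.trans e3)).toRingEquiv)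

theorem isDomain_Γ_preimage' (hA : RelSpec.IsSymAlg L A j) {W : X.Opens} (hW : IsAffineOpen W) {g : Γ(L, W)}
    (hg : IsGen L W g) [IsDomain Γ(X, W)] : IsDomain Γ(A.spec, A.π ⁻¹ᵁ W) :=
  MulEquiv.isDomain (Polynomial Γ(X, W)) (chartEquiv hA hW hg).toMulEquiv

theorem isIntegrallyClosed_Γ_preimage (hA : RelSpec.IsSymAlg L A j) {W : X.Opens} (hW : IsAffineOpen W)
    {g : Γ(L, W)} (hg : IsGen L W g) [IsDomain Γ(X, W)] [IsIntegrallyClosed Γ(X, W)] :
    IsIntegrallyClosed Γ(A.spec, A.π ⁻¹ᵁ W) :=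
  IsIntegrallyClosed.of_equiv (chartEquiv hA hW hg).symm

/-- trivializing affine charts with a domain of functions, on a locally integral scheme -/
theorem exists_domain_chart (hL : PicF.IsInvertible L)
    (hLI : ∀ x : X, ∃ U : X.Opens, x ∈ U ∧ IsIntegral (U : Scheme.{u})) (x : X) :
    ∃ (W : X.Opens) (g : Γ(L, W)), x ∈ W ∧ IsAffineOpen W ∧ IsGen L W g ∧ IsDomain Γ(X, W) := by
  obtain ⟨U₁, hxU₁, hU₁⟩ := hLI x
  obtain ⟨V₀, g, hxV₀, -, hg⟩ := exists_isGen_affine L hL x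
  obtain ⟨_, ⟨W, hW, rfl⟩, hxW, hWle⟩ := X.isBasis_affineOpens.exists_subset_of_mem_open
    (show x ∈ ((V₀ ⊓ U₁ : X.Opens) : Set X) from ⟨hxV₀, hxU₁⟩) (V₀ ⊓ U₁).isOpen
  have h1 : W ≤ V₀ := fun a ha => (hWle ha).1
  have h2 : W ≤ U₁ := fun a ha => (hWle ha).2
  refine ⟨W, res L h1 g, hxW, hW, hg.res h1, ?_⟩
  haveI := hU₁
  haveI : Nonempty (W : Scheme.{u}) := ⟨⟨x, hxW⟩⟩
  haveI : IsIntegral (W : Scheme.{u}) := isIntegral_of_isOpenImmersion (X.homOfLE h2)
  have h3 : IsDomain Γ(X, (Scheme.Opens.ι W) ''ᵁ ⊤) := (inferInstance : IsDomain Γ((W : Scheme.{u}), ⊤))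
  rw [Scheme.Opens.ι_image_top] at h3
  exact h3

theorem isIntegral_preimage_chart (hA : RelSpec.IsSymAlg L A j) {W : X.Opens} (hW : IsAffineOpen W)
    {g : Γ(L, W)} (hg : IsGen L W g) [IsDomain Γ(X, W)] (v : A.spec) (hv : A.π v ∈ W) :
    IsIntegral ((A.π ⁻¹ᵁ W : A.spec.Opens) : Scheme.{u}) := by
  haveI := isDomain_Γ_preimage' hA hW hg
  haveI : IsAffine ((A.π ⁻¹ᵁ W : A.spec.Opens) : Scheme.{u}) := hW.preimage A.π
  haveI : Nonempty ((A.π ⁻¹ᵁ W : A.spec.Opens) : Scheme.{u}) := ⟨⟨v, hv⟩⟩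
  have h3 : IsDomain Γ(A.spec, (A.π ⁻¹ᵁ W).ι ''ᵁ ⊤) := by
    rw [Scheme.Opens.ι_image_top]; infer_instance
  haveI : IsDomain Γ(((A.π ⁻¹ᵁ W : A.spec.Opens) : Scheme.{u}), ⊤) := h3
  exact isIntegral_of_isAffine_of_isDomain _

/-- the line bundle of an invertible module on a locally integral scheme is locally integral -/
theorem locInt_spec (hA : RelSpec.IsSymAlg L A j) (hL : PicF.IsInvertible L)
    (hLI : ∀ x : X, ∃ U : X.Opens, x ∈ U ∧ IsIntegral (U : Scheme.{u})) : LocInt A.spec := by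
  intro v
  obtain ⟨W, g, hxW, hW, hg, hdom⟩ := exists_domain_chart hL hLI (A.π v)
  haveI := hdom
  exact ⟨A.π ⁻¹ᵁ W, hxW, isIntegral_preimage_chart hA hW hg v hxW⟩

/-- the line bundle of an invertible module on a normal locally integral scheme is normal -/
theorem isNormalScheme_spec (hA : RelSpec.IsSymAlg L A j) (hL : PicF.IsInvertible L)
    (hLI : ∀ x : X, ∃ U : X.Opens, x ∈ U ∧ IsIntegral (U : Scheme.{u})) (hX : Pi1.IsNormalScheme X) :
    Pi1.IsNormalScheme A.spec := by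
  intro v
  obtain ⟨W, g, hxW, hW, hg, hdom⟩ := exists_domain_chart hL hLI (A.π v)
  haveI := hdom
  haveI := isIntegrallyClosed_sections hX hW
  haveI := isDomain_Γ_preimage' hA hW hg
  haveI := isIntegrallyClosed_Γ_preimage hA hW hg
  have hO : IsAffineOpen (A.π ⁻¹ᵁ W) := hW.preimage A.π
  have hv : v ∈ A.π ⁻¹ᵁ W := hxW
  have hdom' := isDomain_stalk_of_isAffineOpen_of_isDomain hO v hv
  refine ⟨hdom', ?_⟩
  have h1 := hO.isLocalization_stalk ⟨v, hv⟩
  letI alg := TopCat.Presheaf.algebra_section_stalk A.spec.presheaf (⟨v, hv⟩ : (A.π ⁻¹ᵁ W : A.spec.Opens))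
  exact @isIntegrallyClosed_of_isLocalization Γ(A.spec, A.π ⁻¹ᵁ W) (A.spec.presheaf.stalk v) _ _ alg _ _
    (hO.primeIdealOf ⟨v, hv⟩).asIdeal.primeCompl (Ideal.primeCompl_le_nonZeroDivisors _) h1

end bundle

section integralV

variable {X : Scheme.{u}} [IsIntegral X] {L : X.Modules} [L.IsQuasicoherent] {A : RelSpec.QCAlg X}
  {j : L ⟶ A.toModule}

/-- over an integral scheme: trivializing affine charts inside a given open -/
theorem exists_chart_le (hL : PicF.IsInvertible L) (x : X) (W₀ : X.Opens) (hx : x ∈ W₀) :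
    ∃ (W : X.Opens) (g : Γ(L, W)), x ∈ W ∧ IsAffineOpen W ∧ IsGen L W g ∧ W ≤ W₀ ∧ IsDomain Γ(X, W) := by
  obtain ⟨V₀, g, hxV₀, -, hg⟩ := exists_isGen_affine L hL x
  obtain ⟨_, ⟨W, hW, rfl⟩, hxW, hWle⟩ := X.isBasis_affineOpens.exists_subset_of_mem_open
    (show x ∈ ((V₀ ⊓ W₀ : X.Opens) : Set X) from ⟨hxV₀, hx⟩) (V₀ ⊓ W₀).isOpen
  have h1 : W ≤ V₀ := fun a ha => (hWle ha).1
  have h2 : W ≤ W₀ := fun a ha => (hWle ha).2
  haveI : Nonempty (W : Scheme.{u}) := ⟨⟨x, hxW⟩⟩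
  exact ⟨W, res L h1 g, hxW, hW, hg.res h1, h2, IsIntegral.component_integral W⟩

theorem preimage_chart_nonempty (hA : RelSpec.IsSymAlg L A j) {W : X.Opens} (hW : IsAffineOpen W) {g : Γ(L, W)}
    (hg : IsGen L W g) [IsDomain Γ(X, W)] : ((A.π ⁻¹ᵁ W : A.spec.Opens) : Set A.spec).Nonempty := by
  by_contra hne
  have hbot : A.π ⁻¹ᵁ W = ⊥ := by
    rw [eq_bot_iff]
    intro v hv
    exact (hne ⟨v, hv⟩).elim
  haveI := isDomain_Γ_preimage' hA hW hg
  haveI : Subsingleton Γ(A.spec, A.π ⁻¹ᵁ W) := by rw [hbot]; infer_instance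
  exact zero_ne_one (Subsingleton.elim (0 : Γ(A.spec, A.π ⁻¹ᵁ W)) 1)

/-- **the line bundle of an invertible module over an integral scheme is integral** (no zero section needed) -/
theorem isIntegral_spec' (hA : RelSpec.IsSymAlg L A j) (hL : PicF.IsInvertible L) : IsIntegral A.spec := by
  have hchart : ∀ x : X, ∃ (W : X.Opens) (g : Γ(L, W)), x ∈ W ∧ IsAffineOpen W ∧ IsGen L W g ∧ IsDomain Γ(X, W) := by
    intro x
    obtain ⟨W, g, hxW, hW, hg, -, hdom⟩ := exists_chart_le hL x ⊤ trivial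
    exact ⟨W, g, hxW, hW, hg, hdom⟩
  choose W g hxW hWaff hg hWdom using hchart
  haveI : Nonempty A.spec := by
    haveI := hWdom (Nonempty.some inferInstance)
    obtain ⟨v, -⟩ := preimage_chart_nonempty hA (hWaff (Nonempty.some inferInstance)) (hg _)
    exact ⟨v⟩
  haveI : IrreducibleSpace A.spec := by
    refine irreducibleSpace_of_cover (fun x : X => ((A.π ⁻¹ᵁ (W x) : A.spec.Opens) : Set A.spec))
      (fun x => ?_) (fun x => (A.π ⁻¹ᵁ (W x)).isOpen) (fun v => ⟨A.π v, hxW (A.π v)⟩) (fun x x' => ?_)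
    · haveI := hWdom x
      haveI := isDomain_Γ_preimage' hA (hWaff x) (hg x)
      exact isIrreducible_of_isAffineOpen_of_isDomain ((hWaff x).preimage A.π)
    · have hne : ((W x ⊓ W x' : X.Opens) : Set X).Nonempty := by
        have h1 := (IrreducibleSpace.isIrreducible_univ X).2 (W x) (W x') (W x).isOpen (W x').isOpen
          ⟨x, Set.mem_univ _, hxW x⟩ ⟨x', Set.mem_univ _, hxW x'⟩
        obtain ⟨z, -, hz⟩ := h1
        exact ⟨z, hz⟩
      obtain ⟨z, hz⟩ := hne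
      obtain ⟨W'', g'', hzW'', hW'', hg'', hle, hdom''⟩ := exists_chart_le hL z (W x ⊓ W x') hz
      haveI := hdom''
      obtain ⟨v, hv⟩ := preimage_chart_nonempty hA hW'' hg''
      exact ⟨v, (hle hv).1, (hle hv).2⟩
  haveI : ∀ v : A.spec, _root_.IsReduced (A.spec.presheaf.stalk v) := by
    intro v
    haveI := hWdom (A.π v)
    haveI := isDomain_Γ_preimage' hA (hWaff (A.π v)) (hg (A.π v))
    haveI := isDomain_stalk_of_isAffineOpen_of_isDomain ((hWaff (A.π v)).preimage A.π) v (hxW (A.π v))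
    infer_instance
  haveI : IsReduced A.spec := isReduced_of_isReduced_stalk A.spec
  exact isIntegral_of_irreducibleSpace_of_isReduced A.spec

end integralV

section cone

variable {V Y : Scheme.{u}} (h : V ⟶ Y) [QuasiCompact h] [QuasiSeparated h]

/-- the functions on the chart of `Spec (h_* O_V)` over an affine open `U` are the functions on `h⁻¹ U` -/
def chartRingEquiv {U : Y.Opens} (hU : IsAffineOpen U) :
    Γ((RelSpec.QCAlg.directImage h).spec, (RelSpec.QCAlg.directImage h).π ⁻¹ᵁ U) ≃+* Γ(V, h ⁻¹ᵁ U) := by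
  haveI := isIso_gammaAff (RelSpec.QCAlg.directImage h) hU
  exact (asIso ((RelSpec.QCAlg.directImage h).gammaAff U hU)).commRingCatIsoToRingEquiv

/-- **normality of the relative spectrum of a direct image algebra** -/
theorem isNormalScheme_spec_directImage (hLI : LocInt V) (hN : Pi1.IsNormalScheme V) :
    Pi1.IsNormalScheme (RelSpec.QCAlg.directImage h).spec := by
  intro c
  obtain ⟨U, hcU⟩ := TopologicalSpace.Opens.mem_iSup.mp
    ((iSup_affineOpens_eq_top Y).ge (Set.mem_univ ((RelSpec.QCAlg.directImage h).π c)))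
  have hT : IsAffineOpen ((RelSpec.QCAlg.directImage h).π ⁻¹ᵁ U.1) := U.2.preimage _
  have hc : c ∈ (RelSpec.QCAlg.directImage h).π ⁻¹ᵁ U.1 := hcU
  have hloc := hT.isLocalization_stalk ⟨c, hc⟩
  letI alg := TopCat.Presheaf.algebra_section_stalk (RelSpec.QCAlg.directImage h).spec.presheaf
    (⟨c, hc⟩ : ((RelSpec.QCAlg.directImage h).π ⁻¹ᵁ U.1 : (RelSpec.QCAlg.directImage h).spec.Opens))
  have hUc : IsCompact ((h ⁻¹ᵁ U.1 : V.Opens) : Set V) := h.isCompact_preimage U.2.isCompact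
  have hUqs : IsQuasiSeparated ((h ⁻¹ᵁ U.1 : V.Opens) : Set V) := h.isQuasiSeparated_preimage U.2.isQuasiSeparated
  exact @isDomain_isIntegrallyClosed_of_ringEquiv _ _ ((RelSpec.QCAlg.directImage h).spec.presheaf.stalk c) _ _ _ alg
    (chartRingEquiv h U.2) (hT.primeIdealOf ⟨c, hc⟩).asIdeal _ hloc
    (fun 𝔮 _ => isIntegrallyClosed_localization hLI hN hUc hUqs 𝔮)

/-- **integrality of the relative spectrum of a direct image algebra** -/
theorem isIntegral_spec_directImage [IsIntegral V] : IsIntegral (RelSpec.QCAlg.directImage h).spec := by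
  -- charts
  have hne_iff : ∀ (U : Y.Opens) (hU : IsAffineOpen U),
      (((RelSpec.QCAlg.directImage h).π ⁻¹ᵁ U : (RelSpec.QCAlg.directImage h).spec.Opens) :
        Set (RelSpec.QCAlg.directImage h).spec).Nonempty ↔ ((h ⁻¹ᵁ U : V.Opens) : Set V).Nonempty := by
    intro U hU
    constructor
    · rintro ⟨c, hc⟩
      by_contra hne
      have hbot : h ⁻¹ᵁ U = ⊥ := by
        rw [eq_bot_iff]
        intro v hv
        exact (hne ⟨v, hv⟩).elim
      haveI : Subsingleton Γ(V, h ⁻¹ᵁ U) := by rw [hbot]; infer_instance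
      haveI : Nonempty (((RelSpec.QCAlg.directImage h).π ⁻¹ᵁ U :
        (RelSpec.QCAlg.directImage h).spec.Opens) : Scheme.{u}) := ⟨⟨c, hc⟩⟩
      haveI : Nontrivial Γ((RelSpec.QCAlg.directImage h).spec, (RelSpec.QCAlg.directImage h).π ⁻¹ᵁ U) :=
        Scheme.component_nontrivial _ _
      have := (chartRingEquiv h hU).injective (Subsingleton.elim ((chartRingEquiv h hU) 0) ((chartRingEquiv h hU) 1))
      exact zero_ne_one this
    · rintro ⟨v, hv⟩
      by_contra hne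
      have hbot : (RelSpec.QCAlg.directImage h).π ⁻¹ᵁ U = ⊥ := by
        rw [eq_bot_iff]
        intro c hc
        exact (hne ⟨c, hc⟩).elim
      haveI : Subsingleton Γ((RelSpec.QCAlg.directImage h).spec, (RelSpec.QCAlg.directImage h).π ⁻¹ᵁ U) := by
        rw [hbot]; infer_instance
      haveI : Nonempty ((h ⁻¹ᵁ U : V.Opens) : Scheme.{u}) := ⟨⟨v, hv⟩⟩
      haveI : Nontrivial Γ(V, h ⁻¹ᵁ U) := Scheme.component_nontrivial _ _
      have := (chartRingEquiv h hU).symm.injective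
        (Subsingleton.elim ((chartRingEquiv h hU).symm 0) ((chartRingEquiv h hU).symm 1))
      exact zero_ne_one this
  have hdom : ∀ (U : Y.Opens) (hU : IsAffineOpen U), ((h ⁻¹ᵁ U : V.Opens) : Set V).Nonempty →
      IsDomain Γ((RelSpec.QCAlg.directImage h).spec, (RelSpec.QCAlg.directImage h).π ⁻¹ᵁ U) := by
    rintro U hU ⟨v, hv⟩
    haveI : Nonempty ((h ⁻¹ᵁ U : V.Opens) : Scheme.{u}) := ⟨⟨v, hv⟩⟩
    haveI : IsDomain Γ(V, h ⁻¹ᵁ U) := IsIntegral.component_integral (h ⁻¹ᵁ U)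
    exact MulEquiv.isDomain Γ(V, h ⁻¹ᵁ U) (chartRingEquiv h hU).toMulEquiv
  have hcovY : ∀ y : Y, ∃ U : Y.affineOpens, y ∈ U.1 := fun y =>
    TopologicalSpace.Opens.mem_iSup.mp ((iSup_affineOpens_eq_top Y).ge (Set.mem_univ y))
  haveI : Nonempty (RelSpec.QCAlg.directImage h).spec := by
    let v : V := Nonempty.some inferInstance
    obtain ⟨U, hU⟩ := hcovY (h v)
    obtain ⟨c, -⟩ := (hne_iff U.1 U.2).2 ⟨v, hU⟩
    exact ⟨c⟩
  let I := {U : Y.affineOpens // ((h ⁻¹ᵁ U.1 : V.Opens) : Set V).Nonempty}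
  haveI : IrreducibleSpace (RelSpec.QCAlg.directImage h).spec := by
    refine irreducibleSpace_of_cover (fun i : I => (((RelSpec.QCAlg.directImage h).π ⁻¹ᵁ i.1.1 :
      (RelSpec.QCAlg.directImage h).spec.Opens) : Set (RelSpec.QCAlg.directImage h).spec))
      (fun i => ?_) (fun i => ((RelSpec.QCAlg.directImage h).π ⁻¹ᵁ i.1.1).isOpen) (fun c => ?_) (fun i i' => ?_)
    · haveI := hdom i.1.1 i.1.2 i.2
      exact isIrreducible_of_isAffineOpen_of_isDomain (i.1.2.preimage _)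
    · obtain ⟨U, hU⟩ := hcovY ((RelSpec.QCAlg.directImage h).π c)
      exact ⟨⟨U, (hne_iff U.1 U.2).1 ⟨c, hU⟩⟩, hU⟩
    · obtain ⟨v, hv1, hv2⟩ := nonempty_preirreducible_inter (h ⁻¹ᵁ i.1.1).isOpen (h ⁻¹ᵁ i'.1.1).isOpen i.2 i'.2
      obtain ⟨_, ⟨U'', hU'', rfl⟩, hvU'', hle⟩ := Y.isBasis_affineOpens.exists_subset_of_mem_open
        (show h v ∈ ((i.1.1 ⊓ i'.1.1 : Y.Opens) : Set Y) from ⟨hv1, hv2⟩) (i.1.1 ⊓ i'.1.1).isOpen
      obtain ⟨c, hc⟩ := (hne_iff U'' hU'').2 ⟨v, hvU''⟩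
      exact ⟨c, (hle hc).1, (hle hc).2⟩
  haveI : ∀ c : (RelSpec.QCAlg.directImage h).spec,
      _root_.IsReduced ((RelSpec.QCAlg.directImage h).spec.presheaf.stalk c) := by
    intro c
    obtain ⟨U, hU⟩ := hcovY ((RelSpec.QCAlg.directImage h).π c)
    haveI := hdom U.1 U.2 ((hne_iff U.1 U.2).1 ⟨c, hU⟩)
    haveI := isDomain_stalk_of_isAffineOpen_of_isDomain (U.2.preimage (RelSpec.QCAlg.directImage h).π) c hU
    infer_instance
  haveI : IsReduced (RelSpec.QCAlg.directImage h).spec := isReduced_of_isReduced_stalk _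
  exact isIntegral_of_irreducibleSpace_of_isReduced _

end cone

end Groth.Agent.Lib.Helper28.ConeNormal
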