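import Groth.Agent.Lib.Helper28.PolyExt
import Groth.Agent.Lib.Helper28.ProjQ

/-!
# The affine cone inside the projective cone, ring level (helper28)

`ℬ = 𝒜[z]`; `a0 : ℬ_(z) → A` is "set `z = 1`".
-/

set_option autoImplicit false
universe u
open CategoryTheory CategoryTheory.Limits AlgebraicGeometry Opposite TopologicalSpace
open scoped HomogeneousIdeal
open HomogeneousLocalization Polynomial
noncomputable section

namespace Groth.Agent.Lib.Helper28.ConeRing

open Groth.Agent.Lib.Helper28.PolyExt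
open Groth.Agent.Lib.Helper28.ProjQ
open Groth.Agent.Lib.Helper28.ProjChart

variable {A B : Type u} [CommRing A] [CommRing B] {𝒜 : ℕ → AddSubgroup A} {ℬ : ℕ → AddSubgroup B}
  [GradedRing 𝒜] [GradedRing ℬ] (ι : 𝒜 →+*ᵍ ℬ) (z : B) (hz : z ∈ ℬ 1)

/-- the fraction `ι x_k / z^k` -/
def fr (k : ℕ) (x : A) : Away ℬ z :=
  Away.mk ℬ hz k (ι (DirectSum.decompose 𝒜 x k : A))
    (by have := ι.2 (SetLike.coe_mem (DirectSum.decompose 𝒜 x k)); simpa using this)

theorem fr_val (k : ℕ) (x : A) :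
    (fr ι z hz k x).val =
      Localization.mk (ι (DirectSum.decompose 𝒜 x k : A)) (⟨z ^ k, pow_mem (Submonoid.mem_powers z) k⟩ : Submonoid.powers z) := rfl

theorem fr_val_of_mem {k : ℕ} {x : A} (hx : x ∈ 𝒜 k) :
    (fr ι z hz k x).val = Localization.mk (ι x) (⟨z ^ k, pow_mem (Submonoid.mem_powers z) k⟩ : Submonoid.powers z) := by
  rw [fr_val, DirectSum.decompose_of_mem_same 𝒜 hx]

/-- a homogeneous fraction as a sum of the basic fractions -/
theorem mk_eq_sum (hinj : Function.Injective (ev ι z)) {k : ℕ} (p : A[X])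
    (hy : ev ι z p ∈ ℬ (k • 1)) :
    Away.mk ℬ hz k (ev ι z p) hy = ∑ j ∈ Finset.range (k + 1), fr ι z hz (k - j) (p.coeff j) := by
  have hy' : ev ι z p ∈ ℬ k := by simpa using hy
  obtain ⟨h1, h2⟩ := coeff_of_mem 𝒜 ι z hz hinj hy'
  apply HomogeneousLocalization.val_injective
  rw [← HomogeneousLocalization.algebraMap_apply, ← HomogeneousLocalization.algebraMap_apply,
    map_sum]
  simp only [HomogeneousLocalization.algebraMap_apply]
  rw [Away.val_mk]
  have hdeg : p.natDegree < k + 1 := by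
    rw [Nat.lt_succ_iff, Polynomial.natDegree_le_iff_coeff_eq_zero]
    exact h2
  have e1 : ev ι z p = ∑ j ∈ Finset.range (k + 1), ι (p.coeff j) * z ^ j := by
    change eval₂ _ _ _ = _
    rw [eval₂_eq_sum_range' _ hdeg]
    rfl
  rw [e1]
  have e2 : ∀ (s : Finset ℕ) (g : ℕ → B),
      Localization.mk (∑ j ∈ s, g j) (⟨z ^ k, pow_mem (Submonoid.mem_powers z) k⟩ : Submonoid.powers z)
        = ∑ j ∈ s, Localization.mk (g j) (⟨z ^ k, pow_mem (Submonoid.mem_powers z) k⟩ : Submonoid.powers z) := by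
    intro s g
    classical
    induction s using Finset.induction_on with
    | empty => simp [Localization.mk_zero]
    | insert a s ha ih =>
      rw [Finset.sum_insert ha, Finset.sum_insert ha, ← ih, Localization.add_mk_self]
  rw [e2]
  refine Finset.sum_congr rfl fun j hj => ?_
  have hj' : j ≤ k := Nat.lt_succ_iff.1 (Finset.mem_range.1 hj)
  rw [fr_val_of_mem ι z hz (h1 j hj'), Localization.mk_eq_mk_iff, Localization.r_iff_exists]
  refine ⟨1, ?_⟩
  simp only [OneMemClass.coe_one, one_mul]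
  rw [mul_comm (z ^ (k - j)), mul_assoc, ← pow_add, Nat.add_sub_cancel' hj', mul_comm]

variable (a0 : Away ℬ z →+* A)
  (ha0 : ∀ (q : Away ℬ z) (k : ℕ) (x : A), x ∈ 𝒜 k →
    q.val = Localization.mk (ι x) (⟨z ^ k, pow_mem (Submonoid.mem_powers z) k⟩ : Submonoid.powers z) → a0 q = x)

include ha0 in
theorem a0_fr (k : ℕ) (x : A) : a0 (fr ι z hz k x) = (DirectSum.decompose 𝒜 x k : A) :=
  ha0 _ k _ (SetLike.coe_mem _) rfl

include ha0 in
theorem a0_fr_of_mem {k : ℕ} {x : A} (hx : x ∈ 𝒜 k) : a0 (fr ι z hz k x) = x := by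
  rw [a0_fr ι z hz a0 ha0, DirectSum.decompose_of_mem_same 𝒜 hx]

include hz ha0 in
theorem surjective_a0 : Function.Surjective a0 := by
  intro a
  classical
  refine ⟨∑ d ∈ (DirectSum.decompose 𝒜 a).support, fr ι z hz d a, ?_⟩
  rw [map_sum]
  simp only [a0_fr ι z hz a0 ha0]
  exact DirectSum.sum_support_decompose 𝒜 a

include hz ha0 in
theorem injective_a0 (hbij : Function.Bijective (ev ι z)) : Function.Injective a0 := by
  rw [injective_iff_map_eq_zero]
  intro q hq
  obtain ⟨k, y, hy, rfl⟩ := Away.mk_surjective ℬ hz q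
  have hy' : y ∈ ℬ k := by simpa using hy
  obtain ⟨p, rfl⟩ := hbij.2 y
  obtain ⟨h1, h2⟩ := coeff_of_mem 𝒜 ι z hz hbij.1 hy'
  rw [mk_eq_sum ι z hz hbij.1 p hy, map_sum] at hq
  have hq' : ∑ j ∈ Finset.range (k + 1), p.coeff j = 0 := by
    rw [← hq]
    refine Finset.sum_congr rfl fun j hj => ?_
    have hj' : j ≤ k := Nat.lt_succ_iff.1 (Finset.mem_range.1 hj)
    rw [a0_fr_of_mem ι z hz a0 ha0 (h1 j hj')]
  have hp : p = 0 := by
    ext j
    rw [coeff_zero]
    by_cases hj : k < j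
    · exact h2 j hj
    · have hj' : j ≤ k := not_lt.1 hj
      have := congrArg (fun s => (DirectSum.decompose 𝒜 s (k - j) : A)) hq'
      simp only [DirectSum.decompose_sum, DirectSum.decompose_zero] at this
      rw [DFinsupp.finsetSum_apply, AddSubmonoidClass.coe_finsetSum] at this
      rw [Finset.sum_eq_single j] at this
      · rw [DirectSum.decompose_of_mem_same 𝒜 (h1 j hj')] at this
        simpa using this
      · intro i hi hij
        have hi' : i ≤ k := Nat.lt_succ_iff.1 (Finset.mem_range.1 hi)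
        rw [DirectSum.decompose_of_mem_ne 𝒜 (h1 i hi')]
        omega
      · intro hj2
        exact absurd (Finset.mem_range.2 (Nat.lt_succ_iff.2 hj')) hj2
  subst hp
  apply HomogeneousLocalization.val_injective
  rw [Away.val_mk, map_zero, Localization.mk_zero, HomogeneousLocalization.val_zero]

omit [GradedRing ℬ] in
/-- membership in the pointed affine cone through homogeneous elements of positive degree -/
theorem mem_vertexCompl_iff (x : Spec (CommRingCat.of A)) :
    x ∈ RelCone.vertexCompl (R := CommRingCat.of A) 𝒜 ↔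
      ∃ d : ℕ, 0 < d ∧ ∃ f ∈ 𝒜 d, f ∉ x.asIdeal := by
  have e : x ∈ RelCone.vertexCompl (R := CommRingCat.of A) 𝒜 ↔
      ¬ (((HomogeneousIdeal.irrelevant 𝒜).toIdeal : Set A) ⊆ (x.asIdeal : Set A)) := Iff.rfl
  rw [e, Set.not_subset]
  constructor
  · rintro ⟨f, hf, hfx⟩
    by_contra hcon
    push Not at hcon
    apply hfx
    classical
    rw [← DirectSum.sum_support_decompose 𝒜 f]
    refine Ideal.sum_mem _ fun i _ => ?_
    by_cases hi : i = 0
    · subst hi
      have h0 : (DirectSum.decompose 𝒜 f 0 : A) = 0 := by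
        have := (HomogeneousIdeal.mem_irrelevant_iff 𝒜 f).1 hf
        simpa [GradedRing.proj_apply] using this
      rw [h0]
      exact Ideal.zero_mem _
    · exact hcon i (Nat.pos_of_ne_zero hi) _ (SetLike.coe_mem _)
  · rintro ⟨d, hd, f, hf, hfx⟩
    exact ⟨f, HomogeneousIdeal.mem_irrelevant_of_mem _ hd hf, hfx⟩

/-- the point of `Proj ℬ` attached to a prime of `A` -/
def pt (x : Spec (CommRingCat.of A)) : Proj ℬ :=
  Proj.awayι ℬ z hz one_pos (Spec.map (CommRingCat.ofHom a0) x)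

include ha0 in
set_option backward.isDefEq.respectTransparency false in
theorem pt_mem_basicOpen_iff {k : ℕ} {f : A} (hf : f ∈ 𝒜 k) (x : Spec (CommRingCat.of A)) :
    pt z hz a0 x ∈ Proj.basicOpen ℬ (ι f) ↔ f ∉ x.asIdeal := by
  unfold pt
  refine (awayι_mem_basicOpen_iff ℬ hz (ι.2 hf) one_pos _).trans ?_
  have e : a0 (Away.isLocalizationElem hz (ι.2 hf)) = f := by
    refine ha0 _ k f hf ?_
    rw [Away.val_mk, pow_one]
    rfl
  change ¬ (a0 (Away.isLocalizationElem hz (ι.2 hf)) ∈ x.asIdeal) ↔ _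
  rw [e]

include ha0 in
theorem ι_mem_pt_iff {k : ℕ} {f : A} (hf : f ∈ 𝒜 k) (x : Spec (CommRingCat.of A)) :
    ι f ∈ (pt z hz a0 x).asHomogeneousIdeal ↔ f ∈ x.asIdeal := by
  rw [← not_iff_not]
  exact pt_mem_basicOpen_iff ι z hz a0 ha0 hf x

include ha0 in
theorem pt_mem_domOpen_iff (x : Spec (CommRingCat.of A)) :
    pt z hz a0 x ∈ RelCone.domOpen ι ↔ x ∈ RelCone.vertexCompl (R := CommRingCat.of A) 𝒜 := by
  rw [mem_dom_iff, mem_vertexCompl_iff]
  constructor
  · rintro ⟨d, hd, f, hf, hfx⟩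
    exact ⟨d, hd, f, hf, fun h => hfx ((ι_mem_pt_iff ι z hz a0 ha0 hf x).2 h)⟩
  · rintro ⟨d, hd, f, hf, hfx⟩
    exact ⟨d, hd, f, hf, fun h => hfx ((ι_mem_pt_iff ι z hz a0 ha0 hf x).1 h)⟩

include ha0 in
set_option backward.isDefEq.respectTransparency false in
theorem vQ_pt_mem_iff (x : Spec (CommRingCat.of A)) (hx : pt z hz a0 x ∈ RelCone.domOpen ι)
    {k : ℕ} {f : A} (hf : f ∈ 𝒜 k) :
    f ∈ (vQ ι ⟨pt z hz a0 x, hx⟩).asHomogeneousIdeal ↔ f ∈ x.asIdeal := by
  have h := preimage_basicOpen ι hf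
  have h' : (⟨pt z hz a0 x, hx⟩ : (RelCone.domOpen ι : Scheme.{u})) ∈ vQ ι ⁻¹ᵁ Proj.basicOpen 𝒜 f ↔
      (⟨pt z hz a0 x, hx⟩ : (RelCone.domOpen ι : Scheme.{u})) ∈
        (RelCone.domOpen ι).ι ⁻¹ᵁ Proj.basicOpen ℬ (ι f) := by rw [h]
  rw [← not_iff_not]
  refine Iff.trans ?_ (h'.trans (pt_mem_basicOpen_iff ι z hz a0 ha0 hf x))
  rfl

include ha0 in
theorem vQ_pt_eq (q : Proj 𝒜) (x : Spec (CommRingCat.of A))
    (hxq : x.asIdeal = q.asHomogeneousIdeal.toIdeal) (hx : pt z hz a0 x ∈ RelCone.domOpen ι) :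
    vQ ι ⟨pt z hz a0 x, hx⟩ = q := by
  apply ProjectiveSpectrum.ext
  refine HomogeneousIdeal.ext' fun i f hf => ?_
  rw [vQ_pt_mem_iff ι z hz a0 ha0 x hx hf, hxq]
  rfl

include hz in
/-- outside the open of definition the section `z` does not vanish -/
theorem z_notMem (hbij : Function.Bijective (ev ι z)) (w : Proj ℬ) (hw : w ∉ RelCone.domOpen ι) :
    z ∉ w.asHomogeneousIdeal := by
  intro hzw
  apply w.not_irrelevant_le
  rw [HomogeneousIdeal.irrelevant_le]
  intro k hk y hy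
  obtain ⟨p, rfl⟩ := hbij.2 y
  obtain ⟨h1, h2⟩ := coeff_of_mem 𝒜 ι z hz hbij.1 hy
  have hdeg : p.natDegree < k + 1 := by
    rw [Nat.lt_succ_iff, Polynomial.natDegree_le_iff_coeff_eq_zero]
    exact h2
  have e1 : ev ι z p = ∑ j ∈ Finset.range (k + 1), ι (p.coeff j) * z ^ j := by
    change eval₂ _ _ _ = _
    rw [eval₂_eq_sum_range' _ hdeg]
    rfl
  rw [e1]
  refine Ideal.sum_mem _ fun j hj => ?_
  have hj' : j ≤ k := Nat.lt_succ_iff.1 (Finset.mem_range.1 hj)
  by_cases hjk : j = k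
  · subst hjk
    exact Ideal.mul_mem_left _ _ (Ideal.pow_mem_of_mem _ hzw _ hk)
  · have : ι (p.coeff j) ∈ w.asHomogeneousIdeal := by
      by_contra hcon
      exact hw ((mem_dom_iff ι w).2 ⟨k - j, by omega, p.coeff j, h1 j hj', hcon⟩)
    exact Ideal.mul_mem_right _ _ this

include ha0 in
set_option backward.isDefEq.respectTransparency false in
/-- a point outside the open of definition comes from the vertex locus of the affine cone -/
theorem exists_pt (hbij : Function.Bijective (ev ι z)) (w : Proj ℬ) (hw : w ∉ RelCone.domOpen ι) :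
    ∃ x : Spec (CommRingCat.of A), x ∉ RelCone.vertexCompl (R := CommRingCat.of A) 𝒜 ∧
      pt z hz a0 x = w := by
  have hzw := z_notMem ι z hz hbij w hw
  have h1 : w ∈ Proj.basicOpen ℬ z := hzw
  rw [← Proj.opensRange_awayι ℬ z hz one_pos] at h1
  obtain ⟨v, rfl⟩ := h1
  let e : Away ℬ z ≃+* A := RingEquiv.ofBijective a0
    ⟨injective_a0 ι z hz a0 ha0 hbij, surjective_a0 ι z hz a0 ha0⟩
  let x : Spec (CommRingCat.of A) := Spec.map (CommRingCat.ofHom e.symm.toRingHom) v
  have hx : Spec.map (CommRingCat.ofHom a0) x = v := by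
    change (Spec.map (CommRingCat.ofHom e.symm.toRingHom) ≫ Spec.map (CommRingCat.ofHom a0)) v = v
    rw [← Spec.map_comp]
    have : CommRingCat.ofHom a0 ≫ CommRingCat.ofHom e.symm.toRingHom = 𝟙 _ := by
      ext q
      exact congrArg val (e.symm_apply_apply q)
    rw [this, Spec.map_id]
    rfl
  have hpt : pt z hz a0 x = Proj.awayι ℬ z hz one_pos v := by
    unfold pt
    rw [hx]
  refine ⟨x, ?_, hpt⟩
  rw [← pt_mem_domOpen_iff ι z hz a0 ha0 x, hpt]
  exact hw

end Groth.Agent.Lib.Helper28.ConeRing
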