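import Groth.Agent.Lib.Helper28.ConeLineB
import Groth.Agent.Lib.Helper28.PolyExt

/-!
# Exchanging zero and infinity in the projective closure of a line bundle: algebra over a good open (helper28)

* `Pairing L L'`: a perfect pairing `L × L' → O` on sections (from an isomorphism `L ⊗ L' ≅ O`), and its swap.
* `exists_normal_form`: over an affine open `V` on which `t` generates `L`, the homogeneous elements of degree `k` of
  `Sym(L)[z](V)` are the `∑ b_j t^(k-j) z^j`.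
* `ringHom_ext_line`: ring homomorphisms out of `Sym(L)[z](V)` are determined on functions, on `L` and on `z`.
-/

set_option autoImplicit false
universe u
open CategoryTheory CategoryTheory.Limits AlgebraicGeometry Opposite TopologicalSpace
open HomogeneousLocalization
open scoped HomogeneousIdeal
noncomputable section

namespace Groth.Agent.Lib.Helper28.ConeSwap

open Groth.Agent.Lib.Helper28 Groth.Agent.Lib.Helper28.QCohLoc Groth.Agent.Lib.Helper28.TraceAlg
open Groth.Agent.Lib.Helper28.GenLocus Groth.Agent.Lib.Helper28.SymAlg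
open Groth.Agent.Lib.Helper28.ProjQCone (χ)
open Groth.Agent.Lib.Helper28.ConeLine

/-- a perfect pairing of two modules with values in the functions -/
structure Pairing {Y : Scheme.{u}} (L L' : Y.Modules) where
  pr : ∀ (W : Y.Opens), Γ(L, W) → Γ(L', W) → Γ(Y, W)
  add_left : ∀ (W : Y.Opens) (s s' : Γ(L, W)) (ℓ : Γ(L', W)), pr W (s + s') ℓ = pr W s ℓ + pr W s' ℓ
  add_right : ∀ (W : Y.Opens) (s : Γ(L, W)) (ℓ ℓ' : Γ(L', W)), pr W s (ℓ + ℓ') = pr W s ℓ + pr W s ℓ'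
  smul_left : ∀ (W : Y.Opens) (a : Γ(Y, W)) (s : Γ(L, W)) (ℓ : Γ(L', W)), pr W (a • s) ℓ = a * pr W s ℓ
  smul_right : ∀ (W : Y.Opens) (a : Γ(Y, W)) (s : Γ(L, W)) (ℓ : Γ(L', W)), pr W s (a • ℓ) = a * pr W s ℓ
  res : ∀ {W W' : Y.Opens} (h : W' ≤ W) (s : Γ(L, W)) (ℓ : Γ(L', W)),
    pr W' (res L h s) (res L' h ℓ) = resO h (pr W s ℓ)
  isUnit : ∀ (W : Y.Opens) (s : Γ(L, W)) (ℓ : Γ(L', W)), IsGen L W s → IsGen L' W ℓ → IsUnit (pr W s ℓ)

namespace Pairing

variable {Y : Scheme.{u}} {L L' : Y.Modules}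

theorem pair_add_left (κ : CohB1.tensorMod L L' ≅ Coh.structureModule Y) {W : Y.Opens} (s s' : Γ(L, W))
    (ℓ : Γ(L', W)) : ConeLine.pair κ (s + s') ℓ = ConeLine.pair κ s ℓ + ConeLine.pair κ s' ℓ := by
  unfold ConeLine.pair
  rw [TensorGen.tmulSec_add_left, map_add]
  rfl

/-- the pairing attached to an isomorphism `L ⊗ L' ≅ O` -/
def ofIso (κ : CohB1.tensorMod L L' ≅ Coh.structureModule Y) : Pairing L L' where
  pr W s ℓ := ConeLine.pair κ s ℓ
  add_left W s s' ℓ := pair_add_left κ s s' ℓ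
  add_right W s ℓ ℓ' := pair_add_right κ s ℓ ℓ'
  smul_left W a s ℓ := pair_smul_left κ a s ℓ
  smul_right W a s ℓ := pair_smul_right κ a s ℓ
  res h s ℓ := pair_res κ h s ℓ
  isUnit W s ℓ hs hℓ := isUnit_pair κ hs hℓ

/-- the swapped pairing -/
def swap (P : Pairing L L') : Pairing L' L where
  pr W ℓ s := P.pr W s ℓ
  add_left W ℓ ℓ' s := P.add_right W s ℓ ℓ'
  add_right W ℓ s s' := P.add_left W s s' ℓ
  smul_left W a ℓ s := P.smul_right W a s ℓ
  smul_right W a ℓ s := P.smul_left W a s ℓ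
  res h ℓ s := P.res h s ℓ
  isUnit W ℓ s hℓ hs := P.isUnit W s ℓ hs hℓ

@[simp] theorem swap_pr (P : Pairing L L') (W : Y.Opens) (ℓ : Γ(L', W)) (s : Γ(L, W)) :
    P.swap.pr W ℓ s = P.pr W s ℓ := rfl

end Pairing

section line

variable {Y : Scheme.{u}} {L : Y.Modules} [L.IsQuasicoherent] {𝒮 𝒮h : RelProj.QCGrAlg Y} {j : L ⟶ 𝒮.toModule}
  (hS : RelProj.IsGrSymAlg L 𝒮 j)
  {ι : 𝒮.toQCAlg ⟶ 𝒮h.toQCAlg} {z : 𝒮h.presheaf.obj (op ⊤)} (hz : RelCone.IsPolyOver 𝒮 𝒮h ι z)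
  {V : Y.Opens} (hV : IsAffineOpen V)

/-- a monomial `b t^(k-j) z^j` has degree `k` -/
theorem term_mem {A B : 𝒮h.presheaf.obj (op V)} (hA : A ∈ 𝒮h.deg V hV 1) (hB : B ∈ 𝒮h.deg V hV 1)
    (b : Γ(Y, V)) {k j : ℕ} (hj : j ≤ k) :
    (𝒮h.str.app (op V)).hom b * A ^ (k - j) * B ^ j ∈ 𝒮h.deg V hV k := by
  have h1 : A ^ (k - j) ∈ 𝒮h.deg V hV (k - j) := by
    have := SetLike.pow_mem_graded (A := 𝒮h.deg V hV) (k - j) hA
    simpa using this
  have h2 : B ^ j ∈ 𝒮h.deg V hV j := by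
    have := SetLike.pow_mem_graded (A := 𝒮h.deg V hV) j hB
    simpa using this
  have h3 := SetLike.mul_mem_graded (A := 𝒮h.deg V hV)
    (SetLike.mul_mem_graded (A := 𝒮h.deg V hV) (𝒮h.str_mem V hV b) h1) h2
  have e : 0 + (k - j) + j = k := by omega
  rwa [e] at h3

include hS hz in
/-- the homogeneous elements of degree `k` of `Sym(L)[z](V)` are the `∑ b_j t^(k-j) z^j` -/
theorem exists_normal_form {t : Γ(L, V)} (ht : IsGen L V t) (k : ℕ) (x : 𝒮h.presheaf.obj (op V))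
    (hx : x ∈ 𝒮h.deg V hV k) :
    ∃ b : ℕ → Γ(Y, V), x = ∑ i ∈ Finset.range (k + 1),
      (𝒮h.str.app (op V)).hom (b i) * tauh j ι V t ^ (k - i) * RelCone.restrictTop 𝒮h z V ^ i := by
  classical
  obtain ⟨p, rfl⟩ := (hz.bij V hV).2 x
  have hx' : PolyExt.ev (χ hz V hV) (RelCone.restrictTop 𝒮h z V) p ∈ 𝒮h.deg V hV k := hx
  obtain ⟨hc1, hc2⟩ := PolyExt.coeff_of_mem (𝒮.deg V hV) (χ hz V hV) (RelCone.restrictTop 𝒮h z V)
    (hz.deg_z V hV) (hz.bij V hV).1 hx'
  have hb : ∀ i : ℕ, ∃ b : Γ(Y, V), i ≤ k → p.coeff i = (𝒮.str.app (op V)).hom b * tau j V t ^ (k - i) := by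
    intro i
    by_cases hi : i ≤ k
    · obtain ⟨b, hb⟩ := exists_eq_str_mul_pow hS hV ht (k - i) _ (hc1 i hi)
      exact ⟨b, fun _ => hb⟩
    · exact ⟨0, fun h => absurd h hi⟩
  choose b hb using hb
  refine ⟨b, ?_⟩
  have hdeg : p.natDegree < k + 1 :=
    Nat.lt_succ_of_le (Polynomial.natDegree_le_iff_coeff_eq_zero.2 fun N hN => hc2 N hN)
  have hp := Polynomial.as_sum_range' p (k + 1) hdeg
  conv_lhs => rw [hp]
  rw [map_sum]
  refine Finset.sum_congr rfl fun i hi => ?_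
  have hik : i ≤ k := Nat.lt_succ_iff.1 (Finset.mem_range.1 hi)
  show Polynomial.eval₂ (ι.hom.app (op V)).hom (RelCone.restrictTop 𝒮h z V) (Polynomial.monomial i (p.coeff i)) = _
  rw [Polynomial.eval₂_monomial, hb i hik, map_mul, map_pow, ι_str]
  rfl

include hS hz hV in
/-- ring homomorphisms out of `Sym(L)[z](V)` are determined on the functions, on `L` and on `z` -/
theorem ringHom_ext_line {C : Type*} [Semiring C] (F G : 𝒮h.presheaf.obj (op V) →+* C)
    (h1 : ∀ a : Γ(Y, V), F ((𝒮h.str.app (op V)).hom a) = G ((𝒮h.str.app (op V)).hom a))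
    (h2 : ∀ ℓ : Γ(L, V), F (tauh j ι V ℓ) = G (tauh j ι V ℓ))
    (h3 : F (RelCone.restrictTop 𝒮h z V) = G (RelCone.restrictTop 𝒮h z V)) : F = G := by
  have hι : F.comp (ι.hom.app (op V)).hom = G.comp (ι.hom.app (op V)).hom := by
    refine ringHom_ext_sec hS.1 V hV _ _ (fun a => ?_) (fun m => ?_)
    · show F ((ι.hom.app (op V)).hom ((𝒮.str.app (op V)).hom a)) = G ((ι.hom.app (op V)).hom ((𝒮.str.app (op V)).hom a))
      rw [ι_str]
      exact h1 a
    · exact h2 m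
  have key : F.comp (Polynomial.eval₂RingHom (ι.hom.app (op V)).hom (RelCone.restrictTop 𝒮h z V)) =
      G.comp (Polynomial.eval₂RingHom (ι.hom.app (op V)).hom (RelCone.restrictTop 𝒮h z V)) := by
    apply Polynomial.ringHom_ext
    · intro a
      simp only [RingHom.comp_apply, Polynomial.coe_eval₂RingHom, Polynomial.eval₂_C]
      exact RingHom.congr_fun hι a
    · simp only [RingHom.comp_apply, Polynomial.coe_eval₂RingHom, Polynomial.eval₂_X]
      exact h3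
  refine RingHom.ext fun x => ?_
  obtain ⟨p, rfl⟩ := (hz.bij V hV).2 x
  exact RingHom.congr_fun key p

end line

end Groth.Agent.Lib.Helper28.ConeSwap
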