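import Groth.Agent.Lib.Helper28.ConeSwapA

/-!
# Exchanging zero and infinity: the graded homomorphism `Sym(L')[z'](V) → Sym(L)[z](V)`, `z' ↦ t`, `ℓ' ↦ ⟨t, ℓ'⟩ z` (helper28)
-/

set_option autoImplicit false
universe u
open CategoryTheory CategoryTheory.Limits AlgebraicGeometry Opposite TopologicalSpace
open HomogeneousLocalization
open scoped HomogeneousIdeal
noncomputable section

namespace Groth.Agent.Lib.Helper28.ConeSwap

open Groth.Agent.Lib.Helper28 Groth.Agent.Lib.Helper28.QCohLoc Groth.Agent.Lib.Helper28.TraceAlg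
open Groth.Agent.Lib.Helper28.GenLocus Groth.Agent.Lib.Helper28.SymAlg
open Groth.Agent.Lib.Helper28.ProjQCone (χ)
open Groth.Agent.Lib.Helper28.ConeLine

section phi

variable {Y : Scheme.{u}} {L L' : Y.Modules} [L.IsQuasicoherent] [L'.IsQuasicoherent] (Pr : Pairing L L')
  {𝒮 𝒮h : RelProj.QCGrAlg Y} {j : L ⟶ 𝒮.toModule} (hS : RelProj.IsGrSymAlg L 𝒮 j)
  {ι : 𝒮.toQCAlg ⟶ 𝒮h.toQCAlg} {z : 𝒮h.presheaf.obj (op ⊤)} (hz : RelCone.IsPolyOver 𝒮 𝒮h ι z)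
  {𝒮' 𝒮h' : RelProj.QCGrAlg Y} {j' : L' ⟶ 𝒮'.toModule} (hS' : RelProj.IsGrSymAlg L' 𝒮' j')
  {ι' : 𝒮'.toQCAlg ⟶ 𝒮h'.toQCAlg} {z' : 𝒮h'.presheaf.obj (op ⊤)} (hz' : RelCone.IsPolyOver 𝒮' 𝒮h' ι' z')
  {V : Y.Opens} (hV : IsAffineOpen V)

include hS' hz' hV in
theorem exists_phi (j : L ⟶ 𝒮.toModule) (ι : 𝒮.toQCAlg ⟶ 𝒮h.toQCAlg) (z : 𝒮h.presheaf.obj (op ⊤)) (t : Γ(L, V)) :
    ∃ φ : 𝒮h'.presheaf.obj (op V) →+* 𝒮h.presheaf.obj (op V),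
      (∀ a : Γ(Y, V), φ ((𝒮h'.str.app (op V)).hom a) = (𝒮h.str.app (op V)).hom a) ∧
      (∀ ℓ' : Γ(L', V), φ (tauh j' ι' V ℓ') =
        (𝒮h.str.app (op V)).hom (Pr.pr V t ℓ') * RelCone.restrictTop 𝒮h z V) ∧
      φ (RelCone.restrictTop 𝒮h' z' V) = tauh j ι V t := by
  obtain ⟨F, hF1, hF2⟩ := exists_ringHom_sec hS'.1 V hV (𝒮h.str.app (op V)).hom
    (AddMonoidHom.mk' (fun ℓ' : Γ(L', V) => (𝒮h.str.app (op V)).hom (Pr.pr V t ℓ') * RelCone.restrictTop 𝒮h z V)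
      (fun ℓ ℓ' => by rw [Pr.add_right, map_add, add_mul]))
    (fun a m => by
      show (𝒮h.str.app (op V)).hom (Pr.pr V t (a • m)) * RelCone.restrictTop 𝒮h z V =
        (𝒮h.str.app (op V)).hom a * ((𝒮h.str.app (op V)).hom (Pr.pr V t m) * RelCone.restrictTop 𝒮h z V)
      rw [Pr.smul_right, map_mul, mul_assoc])
  have hι'C : ∀ a : 𝒮'.presheaf.obj (op V),
      (hz'.polyEquiv V hV).symm ((ι'.hom.app (op V)).hom a) = Polynomial.C a := by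
    intro a
    rw [RingEquiv.symm_apply_eq, hz'.polyEquiv_apply, Polynomial.eval₂_C]
  have hz'X : (hz'.polyEquiv V hV).symm (RelCone.restrictTop 𝒮h' z' V) = Polynomial.X := by
    rw [RingEquiv.symm_apply_eq, hz'.polyEquiv_apply, Polynomial.eval₂_X]
  refine ⟨(Polynomial.eval₂RingHom F (tauh j ι V t)).comp (hz'.polyEquiv V hV).symm.toRingHom, ?_, ?_, ?_⟩
  · intro a
    show Polynomial.eval₂ F (tauh j ι V t) ((hz'.polyEquiv V hV).symm ((𝒮h'.str.app (op V)).hom a)) = _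
    rw [← ι_str ι' a, hι'C, Polynomial.eval₂_C, hF1]
  · intro ℓ'
    show Polynomial.eval₂ F (tauh j ι V t) ((hz'.polyEquiv V hV).symm (tauh j' ι' V ℓ')) = _
    unfold tauh
    rw [hι'C, Polynomial.eval₂_C]
    exact hF2 ℓ'
  · show Polynomial.eval₂ F (tauh j ι V t) ((hz'.polyEquiv V hV).symm (RelCone.restrictTop 𝒮h' z' V)) = _
    rw [hz'X, Polynomial.eval₂_X]

/-- the homomorphism `Sym(L')[z'](V) → Sym(L)[z](V)`, `z' ↦ t`, `ℓ' ↦ ⟨t, ℓ'⟩ z` -/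
def phiR (j : L ⟶ 𝒮.toModule) (ι : 𝒮.toQCAlg ⟶ 𝒮h.toQCAlg) (z : 𝒮h.presheaf.obj (op ⊤)) (t : Γ(L, V)) :
    𝒮h'.presheaf.obj (op V) →+* 𝒮h.presheaf.obj (op V) :=
  (exists_phi Pr hS' hz' hV j ι z t).choose

theorem phiR_str (j : L ⟶ 𝒮.toModule) (ι : 𝒮.toQCAlg ⟶ 𝒮h.toQCAlg) (z : 𝒮h.presheaf.obj (op ⊤)) (t : Γ(L, V))
    (a : Γ(Y, V)) :
    phiR Pr hS' hz' hV j ι z t ((𝒮h'.str.app (op V)).hom a) = (𝒮h.str.app (op V)).hom a :=
  (exists_phi Pr hS' hz' hV j ι z t).choose_spec.1 a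

theorem phiR_tauh (j : L ⟶ 𝒮.toModule) (ι : 𝒮.toQCAlg ⟶ 𝒮h.toQCAlg) (z : 𝒮h.presheaf.obj (op ⊤)) (t : Γ(L, V))
    (ℓ' : Γ(L', V)) :
    phiR Pr hS' hz' hV j ι z t (tauh j' ι' V ℓ') =
      (𝒮h.str.app (op V)).hom (Pr.pr V t ℓ') * RelCone.restrictTop 𝒮h z V :=
  (exists_phi Pr hS' hz' hV j ι z t).choose_spec.2.1 ℓ'

theorem phiR_z (j : L ⟶ 𝒮.toModule) (ι : 𝒮.toQCAlg ⟶ 𝒮h.toQCAlg) (z : 𝒮h.presheaf.obj (op ⊤)) (t : Γ(L, V)) :
    phiR Pr hS' hz' hV j ι z t (RelCone.restrictTop 𝒮h' z' V) = tauh j ι V t :=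
  (exists_phi Pr hS' hz' hV j ι z t).choose_spec.2.2

/-- the image of a monomial -/
theorem phiR_term (j : L ⟶ 𝒮.toModule) (ι : 𝒮.toQCAlg ⟶ 𝒮h.toQCAlg) (z : 𝒮h.presheaf.obj (op ⊤)) (t : Γ(L, V))
    (t' : Γ(L', V)) (b : Γ(Y, V)) (m i : ℕ) :
    phiR Pr hS' hz' hV j ι z t
        ((𝒮h'.str.app (op V)).hom b * tauh j' ι' V t' ^ m * RelCone.restrictTop 𝒮h' z' V ^ i) =
      (𝒮h.str.app (op V)).hom b * ((𝒮h.str.app (op V)).hom (Pr.pr V t t') * RelCone.restrictTop 𝒮h z V) ^ m *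
        tauh j ι V t ^ i := by
  rw [map_mul, map_mul, map_pow, map_pow, phiR_str, phiR_tauh, phiR_z]

include hS hz in
/-- `phiR` preserves degrees -/
theorem phiR_mem (t : Γ(L, V)) {t' : Γ(L', V)} (ht' : IsGen L' V t') {k : ℕ} {x : 𝒮h'.presheaf.obj (op V)}
    (hx : x ∈ 𝒮h'.deg V hV k) : phiR Pr hS' hz' hV j ι z t x ∈ 𝒮h.deg V hV k := by
  obtain ⟨b, rfl⟩ := exists_normal_form hS' hz' hV ht' k x hx
  rw [map_sum]
  refine Finset.sum_induction _ (· ∈ 𝒮h.deg V hV k) (fun _ _ => add_mem) (zero_mem _) fun i hi => ?_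
  have hik : i ≤ k := Nat.lt_succ_iff.1 (Finset.mem_range.1 hi)
  rw [phiR_term]
  refine term_mem hV ?_ (tauh_mem hS hz hV t) (b i) hik
  have h := SetLike.mul_mem_graded (A := 𝒮h.deg V hV) (𝒮h.str_mem V hV (Pr.pr V t t')) (hz.deg_z V hV)
  rwa [zero_add] at h

/-- the graded homomorphism `Sym(L')[z'](V) → Sym(L)[z](V)`, `z' ↦ t`, `ℓ' ↦ ⟨t, ℓ'⟩ z` -/
def phiG (t : Γ(L, V)) {t' : Γ(L', V)} (ht' : IsGen L' V t') : 𝒮h'.deg V hV →+*ᵍ 𝒮h.deg V hV :=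
  { phiR Pr hS' hz' hV j ι z t with
    map_mem := fun hx => phiR_mem Pr hS hz hS' hz' hV t ht' hx }

theorem phiG_apply (t : Γ(L, V)) {t' : Γ(L', V)} (ht' : IsGen L' V t') (x : 𝒮h'.presheaf.obj (op V)) :
    phiG Pr hS hz hS' hz' hV t ht' x = phiR Pr hS' hz' hV j ι z t x := rfl

include hS hz in
/-- scaling the generator -/
theorem phiR_smul (a : Γ(Y, V)) (t : Γ(L, V)) {t' : Γ(L', V)} (ht' : IsGen L' V t') {k : ℕ}
    {x : 𝒮h'.presheaf.obj (op V)} (hx : x ∈ 𝒮h'.deg V hV k) :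
    phiR Pr hS' hz' hV j ι z (a • t) x = (𝒮h.str.app (op V)).hom a ^ k * phiR Pr hS' hz' hV j ι z t x := by
  obtain ⟨b, rfl⟩ := exists_normal_form hS' hz' hV ht' k x hx
  rw [map_sum, map_sum, Finset.mul_sum]
  refine Finset.sum_congr rfl fun i hi => ?_
  have hik : i ≤ k := Nat.lt_succ_iff.1 (Finset.mem_range.1 hi)
  rw [phiR_term, phiR_term, Pr.smul_left, map_mul, tauh_smul, mul_assoc ((𝒮h.str.app (op V)).hom a), mul_pow, mul_pow]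
  have e : (𝒮h.str.app (op V)).hom a ^ k =
      (𝒮h.str.app (op V)).hom a ^ (k - i) * (𝒮h.str.app (op V)).hom a ^ i := by
    rw [← pow_add, Nat.sub_add_cancel hik]
  rw [e]
  ring

include hS hz in
/-- the irrelevant ideal condition -/
theorem hirr_phiG {t : Γ(L, V)} (ht : IsGen L V t) {t' : Γ(L', V)} (ht' : IsGen L' V t') :
    (𝒮h.deg V hV)₊ ≤ ((𝒮h'.deg V hV)₊).map (phiG Pr hS hz hS' hz' hV t ht') := by
  rw [HomogeneousIdeal.irrelevant_le]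
  intro k hk x hx
  change x ∈ Ideal.map (phiG Pr hS hz hS' hz' hV t ht') ((𝒮h'.deg V hV)₊.toIdeal)
  have hx' : x ∈ 𝒮h.deg V hV k := hx
  -- `t` and `z` are in the image ideal
  have h1 : tauh j ι V t ∈ Ideal.map (phiG Pr hS hz hS' hz' hV t ht') ((𝒮h'.deg V hV)₊.toIdeal) := by
    have h := Ideal.mem_map_of_mem (phiG Pr hS hz hS' hz' hV t ht')
      (HomogeneousIdeal.mem_irrelevant_of_mem (𝒮h'.deg V hV) one_pos (hz'.deg_z V hV))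
    have e : phiG Pr hS hz hS' hz' hV t ht' (RelCone.restrictTop 𝒮h' z' V) = tauh j ι V t := phiR_z Pr hS' hz' hV j ι z t
    rwa [e] at h
  have h2 : RelCone.restrictTop 𝒮h z V ∈ Ideal.map (phiG Pr hS hz hS' hz' hV t ht') ((𝒮h'.deg V hV)₊.toIdeal) := by
    obtain ⟨v, hv⟩ := Pr.isUnit V t t' ht ht'
    have h := Ideal.mem_map_of_mem (phiG Pr hS hz hS' hz' hV t ht')
      (HomogeneousIdeal.mem_irrelevant_of_mem (𝒮h'.deg V hV) one_pos (tauh_mem hS' hz' hV t'))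
    have e : phiG Pr hS hz hS' hz' hV t ht' (tauh j' ι' V t') =
        (𝒮h.str.app (op V)).hom (Pr.pr V t t') * RelCone.restrictTop 𝒮h z V := phiR_tauh Pr hS' hz' hV j ι z t t'
    rw [e] at h
    have h3 := Ideal.mul_mem_left _ ((𝒮h.str.app (op V)).hom ((v⁻¹ : (Γ(Y, V))ˣ) : Γ(Y, V))) h
    rwa [← mul_assoc, ← map_mul, ← hv, Units.inv_mul, map_one, one_mul] at h3
  obtain ⟨b, rfl⟩ := exists_normal_form hS hz hV ht k x hx'
  refine Ideal.sum_mem _ fun i hi => ?_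
  have hik : i ≤ k := Nat.lt_succ_iff.1 (Finset.mem_range.1 hi)
  by_cases hi0 : i = 0
  · subst hi0
    obtain ⟨e, rfl⟩ := Nat.exists_eq_succ_of_ne_zero (Nat.pos_iff_ne_zero.1 hk)
    rw [pow_zero, mul_one, Nat.sub_zero, pow_succ, ← mul_assoc]
    exact Ideal.mul_mem_left _ _ h1
  · obtain ⟨e, rfl⟩ := Nat.exists_eq_succ_of_ne_zero hi0
    rw [pow_succ, ← mul_assoc]
    exact Ideal.mul_mem_left _ _ h2

end phi

end Groth.Agent.Lib.Helper28.ConeSwap
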