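import Mathlib

/-!
# Graded homomorphisms differing by a character `c^deg` induce the same morphism of `Proj` (helper28)
-/

set_option autoImplicit false
universe u
open CategoryTheory AlgebraicGeometry HomogeneousLocalization
open scoped HomogeneousIdeal
noncomputable section

namespace Groth.Agent.Lib.Helper28.ProjMapScalar

variable {A B : Type u} [CommRing A] [CommRing B] {𝒜 : ℕ → AddSubgroup A} {ℬ : ℕ → AddSubgroup B}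
  [GradedRing 𝒜] [GradedRing ℬ]

theorem awayMap_comp_map (φ₁ φ₂ : 𝒜 →+*ᵍ ℬ) (c : B) (hc : c ∈ ℬ 0)
    (h : ∀ (n : ℕ) (x : A), x ∈ 𝒜 n → φ₂ x = φ₁ x * c ^ n) {i : ℕ} {s : A} (hs : s ∈ 𝒜 i)
    (hcn : c ^ i ∈ ℬ 0) (hx : φ₂ s = φ₁ s * c ^ i) :
    (awayMap ℬ hcn hx).comp (Away.map φ₁ s) = Away.map φ₂ s := by
  ext x
  obtain ⟨n, a, ha, rfl⟩ := x.mk_surjective _ hs
  rw [RingHom.comp_apply, Away.map_mk, Away.map_mk, awayMap_mk]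
  rw [Away.val_mk, Away.val_mk]
  congr 1
  rw [h _ a ha, ← pow_mul, smul_eq_mul, mul_comm n i]

set_option backward.isDefEq.respectTransparency false in
theorem map_eq_of_scalar (φ₁ φ₂ : 𝒜 →+*ᵍ ℬ) (h₁ : ℬ₊ ≤ 𝒜₊.map φ₁) (h₂ : ℬ₊ ≤ 𝒜₊.map φ₂) (c : B) (hc : c ∈ ℬ 0)
    (h : ∀ (n : ℕ) (x : A), x ∈ 𝒜 n → φ₂ x = φ₁ x * c ^ n) : Proj.map φ₁ h₁ = Proj.map φ₂ h₂ := by
  refine (Proj.mapAffineOpenCover φ₂ h₂).openCover.hom_ext _ _ fun s => ?_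
  simp only [Scheme.AffineOpenCover.openCover_f, Proj.mapAffineOpenCover_f]
  rw [Proj.awayι_comp_map φ₂ h₂ s.1.2 _ s.2.2]
  have hx : φ₂ s.2 = φ₁ s.2 * c ^ (s.1 : ℕ) := h _ _ s.2.2
  have hcn : c ^ (s.1 : ℕ) ∈ ℬ 0 := by
    have := SetLike.pow_mem_graded (A := ℬ) (s.1 : ℕ) hc
    simpa using this
  have e1 := Proj.SpecMap_awayMap_awayι ℬ (φ₁.map_mem s.2.2) s.1.2 hcn hx
  have e2 : Proj.awayι ℬ (φ₂ s.2) (φ₂.map_mem s.2.2) s.1.2 =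
      Spec.map (CommRingCat.ofHom (awayMap ℬ hcn hx)) ≫ Proj.awayι ℬ (φ₁ s.2) (φ₁.map_mem s.2.2) s.1.2 :=
    e1.symm
  rw [e2, Category.assoc, Proj.awayι_comp_map φ₁ h₁ s.1.2 _ s.2.2, ← Category.assoc, ← Spec.map_comp,
    ← CommRingCat.ofHom_comp, awayMap_comp_map φ₁ φ₂ c hc h s.2.2 hcn hx]

end Groth.Agent.Lib.Helper28.ProjMapScalar
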