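import Groth.Agent.Lib.Helper28.ConeSwapB
import Groth.Agent.Lib.Helper28.ProjMapScalar

/-!
# Exchanging zero and infinity: restriction and composition of the chart homomorphisms (helper28)
-/

set_option autoImplicit false
universe u
open CategoryTheory CategoryTheory.Limits AlgebraicGeometry Opposite TopologicalSpace
open HomogeneousLocalization
open scoped HomogeneousIdeal
noncomputable section

namespace Groth.Agent.Lib.Helper28.ConeSwap

open Groth.Agent.Lib.Helper28 Groth.Agent.Lib.Helper28.QCohLoc Groth.Agent.Lib.Helper28.TraceAlg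
open Groth.Agent.Lib.Helper28.GenLocus Groth.Agent.Lib.Helper28.SymAlg
open Groth.Agent.Lib.Helper28.ProjQCone (χ)
open Groth.Agent.Lib.Helper28.ConeLine

section phi2

variable {Y : Scheme.{u}} {L L' : Y.Modules} [L.IsQuasicoherent] [L'.IsQuasicoherent] (Pr : Pairing L L')
  {𝒮 𝒮h : RelProj.QCGrAlg Y} {j : L ⟶ 𝒮.toModule} (hS : RelProj.IsGrSymAlg L 𝒮 j)
  {ι : 𝒮.toQCAlg ⟶ 𝒮h.toQCAlg} {z : 𝒮h.presheaf.obj (op ⊤)} (hz : RelCone.IsPolyOver 𝒮 𝒮h ι z)
  {𝒮' 𝒮h' : RelProj.QCGrAlg Y} {j' : L' ⟶ 𝒮'.toModule} (hS' : RelProj.IsGrSymAlg L' 𝒮' j')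
  {ι' : 𝒮'.toQCAlg ⟶ 𝒮h'.toQCAlg} {z' : 𝒮h'.presheaf.obj (op ⊤)} (hz' : RelCone.IsPolyOver 𝒮' 𝒮h' ι' z')

/-- the chart homomorphisms commute with restriction -/
theorem phiR_res {V W : Y.Opens} (hV : IsAffineOpen V) (hW : IsAffineOpen W) (h : W ≤ V) (t : Γ(L, V))
    (x : 𝒮h'.presheaf.obj (op V)) :
    (𝒮h.presheaf.map (homOfLE h).op).hom (phiR Pr hS' hz' hV j ι z t x) =
      phiR Pr hS' hz' hW j ι z (res L h t) ((𝒮h'.presheaf.map (homOfLE h).op).hom x) := by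
  have key : ((𝒮h.presheaf.map (homOfLE h).op).hom).comp (phiR Pr hS' hz' hV j ι z t) =
      (phiR Pr hS' hz' hW j ι z (res L h t)).comp ((𝒮h'.presheaf.map (homOfLE h).op).hom) := by
    refine ringHom_ext_line hS' hz' hV _ _ (fun a => ?_) (fun ℓ' => ?_) ?_
    · rw [RingHom.comp_apply, RingHom.comp_apply, phiR_str, ← SymAlg.str_res 𝒮h.toQCAlg h a,
        ← SymAlg.str_res 𝒮h'.toQCAlg h a, phiR_str]
    · rw [RingHom.comp_apply, RingHom.comp_apply, phiR_tauh, tauh_res, phiR_tauh, map_mul, z_res,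
        ← SymAlg.str_res 𝒮h.toQCAlg h, Pr.res]
    · rw [RingHom.comp_apply, RingHom.comp_apply, phiR_z, z_res, phiR_z, tauh_res]
  exact RingHom.congr_fun key x

include hS' hz' in
/-- the two chart homomorphisms compose to the character `⟨t, t'⟩^deg` -/
theorem phiR_comp {V : Y.Opens} (hV : IsAffineOpen V) {t : Γ(L, V)} (ht : IsGen L V t) (t' : Γ(L', V)) {k : ℕ}
    {x : 𝒮h.presheaf.obj (op V)} (hx : x ∈ 𝒮h.deg V hV k) :
    phiR Pr hS' hz' hV j ι z t (phiR Pr.swap hS hz hV j' ι' z' t' x) =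
      x * (𝒮h.str.app (op V)).hom (Pr.pr V t t') ^ k := by
  obtain ⟨b, rfl⟩ := exists_normal_form hS hz hV ht k x hx
  rw [map_sum, map_sum, Finset.sum_mul]
  refine Finset.sum_congr rfl fun i hi => ?_
  have hik : i ≤ k := Nat.lt_succ_iff.1 (Finset.mem_range.1 hi)
  rw [phiR_term, map_mul, map_mul, map_pow, map_pow, map_mul, phiR_str, phiR_str, phiR_z, phiR_tauh,
    Pairing.swap_pr, mul_pow, mul_pow]
  have e : (𝒮h.str.app (op V)).hom (Pr.pr V t t') ^ k =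
      (𝒮h.str.app (op V)).hom (Pr.pr V t t') ^ (k - i) * (𝒮h.str.app (op V)).hom (Pr.pr V t t') ^ i := by
    rw [← pow_add, Nat.sub_add_cancel hik]
  rw [e]
  ring

end phi2

end Groth.Agent.Lib.Helper28.ConeSwap
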