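import Groth.Agent.Lib.Helper28.RLPsiD

set_option autoImplicit false
universe u
open CategoryTheory CategoryTheory.Limits AlgebraicGeometry Opposite TopologicalSpace
noncomputable section

namespace Groth.Agent.Lib.Helper28.RLPsi

open Groth.Agent.Lib.Helper28 Groth.Agent.Lib.Helper28.QCohLoc Groth.Agent.Lib.Helper28.TraceAlg
open Groth.Agent.Lib.Helper28.GenLocus Groth.Agent.Lib.Helper28.SymAlg

open Groth.Agent.Lib.Helper28.RelProjBC (AffPair)
open Groth.Agent.Lib.Helper28.RelProjQ (φQ mem_range_emb)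
open Groth.Agent.Lib.Helper28.ProjQ (mem_dom_iff basicOpen_le_dom vQ preimage_basicOpen exists_basicOpen)
open Groth.Agent.Lib.Helper28.ProjQRel (D cW cW_apply pieceW glue_of_isProjQMapOn glue_comp_p)
open Groth.Agent.Lib.Helper28.ProjQComp (emb_mem_domQ_iff)

attribute [local instance] algAt

section gen

variable {Y X P PL : Scheme.{u}} {q : X ⟶ Y} {L : X.Modules} [L.IsQuasicoherent]
  {𝒮 : RelProj.QCGrAlg Y} {𝒮L : RelProj.QCGrAlg X} {j : L ⟶ 𝒮L.toModule} (hj : RelProj.IsGrSymAlg L 𝒮L j)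
  (u : RelProj.QGrHom q 𝒮 𝒮L)
  (p : P ⟶ Y) (chart : ∀ (U : Y.Opens) (hU : IsAffineOpen U), (((p ⁻¹ᵁ U : P.Opens) : Scheme.{u}) ≅ Proj (𝒮.deg U hU)))
  (hP : RelProj.IsRelProj 𝒮 p chart)
  (pL : PL ⟶ X)
  (chartL : ∀ (U : X.Opens) (hU : IsAffineOpen U), (((pL ⁻¹ᵁ U : PL.Opens) : Scheme.{u}) ≅ Proj (𝒮L.deg U hU)))
  (hPL : RelProj.IsRelProj 𝒮L pL chartL)
  (r : ((RelProj.domQ u pL chartL : PL.Opens) : Scheme.{u}) ⟶ P)
  (hr : RelProj.IsProjQMapOn u p chart pL chartL (RelProj.domQ u pL chartL) r)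

omit [L.IsQuasicoherent] in
include hr hPL in
/-- the pointwise description of `r⁻¹(D₊(f))` in a chart, for a general affine pair -/
theorem mem_preimage_iff_pair (t : AffPair q) {d : ℕ} (hd : 0 < d) (f : 𝒮.presheaf.obj (op t.U))
    (hf : f ∈ 𝒮.deg t.U t.hU d) (y : Proj (𝒮L.deg t.U' t.hU')) :
    RelProj.emb pL chartL t.U' t.hU' y ∈
        (RelProj.domQ u pL chartL).ι ''ᵁ
          (r ⁻¹ᵁ ((RelProj.emb p chart t.U t.hU) ''ᵁ Proj.basicOpen (𝒮.deg t.U t.hU) f)) ↔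
      y ∈ Proj.basicOpen (𝒮L.deg t.U' t.hU') (φQ u t f) := by
  have hglue := glue_of_isProjQMapOn u p chart pL chartL r hr t
  have key : ∀ (hy : y ∈ D u t),
      r (cW u pL chartL t ⟨y, hy⟩) = RelProj.emb p chart t.U t.hU (vQ (φQ u t) ⟨y, hy⟩) := by
    intro hy
    have := congrArg (fun k => k ⟨y, hy⟩) hglue
    exact this
  have hpre := SetLike.ext_iff.1 (preimage_basicOpen (φQ u t) hf)
  constructor
  · rintro ⟨w, hw, hwz'⟩
    have hwz : (RelProj.domQ u pL chartL).ι w = RelProj.emb pL chartL t.U' t.hU' y := hwz'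
    have hz : RelProj.emb pL chartL t.U' t.hU' y ∈ RelProj.domQ u pL chartL := by
      have : (RelProj.domQ u pL chartL).ι w ∈ RelProj.domQ u pL chartL := w.2
      rw [hwz] at this
      exact this
    have hyD : y ∈ D u t := (emb_mem_domQ_iff u pL chartL hPL t y).1 hz
    have hw' : cW u pL chartL t ⟨y, hyD⟩ = w := by
      apply (RelProj.domQ u pL chartL).ι.isOpenEmbedding.injective
      exact (cW_apply u pL chartL t ⟨y, hyD⟩).trans hwz.symm
    obtain ⟨y₀, hy₀, hy₀w⟩ := hw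
    rw [← hw', key hyD] at hy₀w
    have h1 := (RelProj.emb p chart t.U t.hU).isOpenEmbedding.injective hy₀w
    rw [h1] at hy₀
    exact (hpre ⟨y, hyD⟩).1 hy₀
  · intro hy
    have hyD : y ∈ D u t := basicOpen_le_dom (φQ u t) hf hd hy
    refine ⟨cW u pL chartL t ⟨y, hyD⟩, ?_, cW_apply u pL chartL t ⟨y, hyD⟩⟩
    refine ⟨vQ (φQ u t) ⟨y, hyD⟩, (hpre ⟨y, hyD⟩).2 hy, (key hyD).symm⟩

/-- `ψ♭(s)` is locally nilpotent over `q⁻¹ U` -/
def LocNilU (U : Y.Opens) (s : 𝒮.presheaf.obj (op U)) : Prop :=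
  ∀ x : X, x ∈ q ⁻¹ᵁ U → ∃ (V : X.Opens) (_ : IsAffineOpen V) (hVU : V ≤ q ⁻¹ᵁ U), x ∈ V ∧
    IsNilpotent ((u.appLE U V hVU).hom s)

omit [L.IsQuasicoherent] in
/-- a trivializing affine neighbourhood inside a given open -/
theorem exists_isGen_affine_le (hL : PicF.IsInvertible L) (x : X) (W : X.Opens) (hxW : x ∈ W) :
    ∃ (V : X.Opens) (g : Γ(L, V)), x ∈ V ∧ IsAffineOpen V ∧ IsGen L V g ∧ V ≤ W := by
  obtain ⟨V₀, g, hxV₀, -, hg⟩ := exists_isGen_affine L hL x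
  obtain ⟨_, ⟨V, hV, rfl⟩, hxV, hVle⟩ := X.isBasis_affineOpens.exists_subset_of_mem_open
    (show x ∈ ((V₀ ⊓ W : X.Opens) : Set X) from ⟨hxV₀, hxW⟩) (V₀ ⊓ W).isOpen
  have h1 : V ≤ V₀ := fun a ha => (hVle ha).1
  have h2 : V ≤ W := fun a ha => (hVle ha).2
  exact ⟨V, res L h1 g, hxV, hV, hg.res h1, h2⟩

omit [L.IsQuasicoherent] in
theorem rS_appLE (U : Y.Opens) (s : 𝒮.presheaf.obj (op U)) {V W : X.Opens} (hV : V ≤ q ⁻¹ᵁ U) (h : W ≤ V) :
    rS 𝒮L h ((u.appLE U V hV).hom s) = (u.appLE U W (h.trans hV)).hom s :=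
  congrArg (fun k => k.hom s) (u.toQHom.appLE_map hV h)

include hj hP hPL hr in
/-- **dominance criterion for `r_{L,ψ}` over a general base** -/
theorem isDominant_iffU (hL : PicF.IsInvertible L) :
    IsDominant r ↔
      ∀ (U : Y.Opens) (hU : IsAffineOpen U) (n : ℕ), 0 < n → ∀ s ∈ 𝒮.deg U hU n,
        LocNilU u U s → IsNilpotent s := by
  have hiso : IsIso pL := isIso_proj_symLine hL hj pL chartL hPL
  have hover : r ≫ p = (RelProj.domQ u pL chartL).ι ≫ pL ≫ q :=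
    glue_comp_p u p chart hP pL chartL hPL r (glue_of_isProjQMapOn u p chart pL chartL r hr)
  constructor
  · intro hdom U hU n hn s hs hnil
    by_contra hns
    obtain ⟨y₀, hy₀⟩ := exists_mem_basicOpen_of_not_isNilpotent (𝒮.deg U hU) hn hs hns
    obtain ⟨w, hw⟩ := hdom.denseRange.exists_mem_open
      ((RelProj.emb p chart U hU) ''ᵁ Proj.basicOpen (𝒮.deg U hU) s).isOpen
      ⟨RelProj.emb p chart U hU y₀, ⟨y₀, hy₀, rfl⟩⟩
    -- the point of `X` below `w` lies over `U`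
    have hxU : pL ((RelProj.domQ u pL chartL).ι w) ∈ q ⁻¹ᵁ U := by
      have h1 : p (r w) = q (pL ((RelProj.domQ u pL chartL).ι w)) := congrArg (fun k => k w) hover
      show q (pL ((RelProj.domQ u pL chartL).ι w)) ∈ U
      rw [← h1]
      obtain ⟨y₁, -, hy₁⟩ := hw
      have hy₁' : RelProj.emb p chart U hU y₁ = r w := hy₁
      exact (mem_range_emb p chart U hU (r w)).1 ⟨y₁, hy₁'⟩
    obtain ⟨V, g, hxV, hV, hg, hVU⟩ := exists_isGen_affine_le hL _ _ hxU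
    obtain ⟨y, hy⟩ := (mem_range_emb pL chartL V hV _).2 hxV
    have hy2 : RelProj.emb pL chartL V hV y = (RelProj.domQ u pL chartL).ι w := hy
    have hz : RelProj.emb pL chartL V hV y ∈ (RelProj.domQ u pL chartL).ι ''ᵁ
        (r ⁻¹ᵁ ((RelProj.emb p chart U hU) ''ᵁ Proj.basicOpen (𝒮.deg U hU) s)) := ⟨w, hw, hy2.symm⟩
    have hyD := (mem_preimage_iff_pair u p chart pL chartL hPL r hr ⟨U, hU, V, hV, hVU⟩ hn s hs y).1 hz
    have hmem : (u.appLE U V hVU).hom s ∈ 𝒮L.deg V hV n := u.map_mem U hU V hV hVU hs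
    obtain ⟨b, hb⟩ := exists_eq_str_mul_pow hj hV hg n _ hmem
    have hyD' : y ∈ Proj.basicOpen (𝒮L.deg V hV) ((u.appLE U V hVU).hom s) := hyD
    rw [hb, mem_basicOpen_line_iff hj hV hg pL chartL hPL b hn y, hy2] at hyD'
    -- local nilpotency contradicts `b ≠ 0` at the point
    obtain ⟨V₁, hV₁, hV₁U, hxV₁, hnil₁⟩ := hnil _ hxU
    obtain ⟨_, ⟨W, hW, rfl⟩, hxW, hWle⟩ := X.isBasis_affineOpens.exists_subset_of_mem_open
      (show pL ((RelProj.domQ u pL chartL).ι w) ∈ ((V ⊓ V₁ : X.Opens) : Set X) from ⟨hxV, hxV₁⟩) (V ⊓ V₁).isOpen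
    have h1 : W ≤ V := fun a ha => (hWle ha).1
    have h2 : W ≤ V₁ := fun a ha => (hWle ha).2
    have hnilW : IsNilpotent ((u.appLE U W (h2.trans hV₁U)).hom s) := by
      rw [← rS_appLE u U s hV₁U h2]
      exact hnil₁.map _
    have hW2 : (u.appLE U W (h2.trans hV₁U)).hom s =
        (𝒮L.str.app (op W)).hom (resO h1 b) * asR 𝒮L.toQCAlg (j.app W (res L h1 g)) ^ n := by
      have := rS_appLE u U s hVU h1
      rw [hb, rS_elem] at this
      exact this.symm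
    rw [hW2] at hnilW
    have hbn : IsNilpotent (resO h1 b) := isNilpotent_coef hj hW (hg.res h1) _ n hnilW
    have hbot : X.basicOpen (resO h1 b) = ⊥ := X.basicOpen_eq_bot_of_isNilpotent W _ hbn
    have hmem2 : pL ((RelProj.domQ u pL chartL).ι w) ∈ X.basicOpen (resO h1 b) := by
      have e : X.basicOpen (resO h1 b) = W ⊓ X.basicOpen b := Scheme.basicOpen_res _ _ _
      rw [e]
      exact ⟨hxW, hyD'⟩
    rw [hbot] at hmem2
    exact hmem2
  · intro H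
    refine ⟨?_⟩
    show Dense (Set.range r)
    rw [dense_iff_inter_open]
    rintro O hO ⟨p₀, hp₀⟩
    obtain ⟨_, ⟨U, hU, rfl⟩, hpU, -⟩ := Y.isBasis_affineOpens.exists_subset_of_mem_open
      (Set.mem_univ (p p₀)) isOpen_univ
    obtain ⟨y₀, hy₀⟩ := (mem_range_emb p chart U hU p₀).2 hpU
    have hy₀' : RelProj.emb p chart U hU y₀ = p₀ := hy₀
    obtain ⟨d, f, hd, hf, hy₀f, hfle⟩ := exists_pos_basicOpen_le (𝒮.deg U hU)
      ((RelProj.emb p chart U hU) ⁻¹ᵁ ⟨O, hO⟩) y₀ (by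
        show RelProj.emb p chart U hU y₀ ∈ O
        rw [hy₀']
        exact hp₀)
    have hfn : ¬ IsNilpotent f := by
      rintro ⟨m, hm⟩
      apply hy₀f
      refine y₀.isPrime.mem_of_pow_mem m ?_
      rw [hm]
      exact Ideal.zero_mem _
    have hnl : ¬ LocNilU u U f := fun hl => hfn (H U hU d hd f hf hl)
    unfold LocNilU at hnl
    push Not at hnl
    obtain ⟨x, hxU, hx⟩ := hnl
    obtain ⟨V, g, hxV, hV, hg, hVU⟩ := exists_isGen_affine_le hL x _ hxU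
    have hnn := hx V hV hVU hxV
    have hmem : (u.appLE U V hVU).hom f ∈ 𝒮L.deg V hV d := u.map_mem U hU V hV hVU hf
    obtain ⟨b, hb⟩ := exists_eq_str_mul_pow hj hV hg d _ hmem
    have hbn : ¬ IsNilpotent b := by
      intro hbn
      apply hnn
      rw [hb]
      exact (Commute.all _ _).isNilpotent_mul_right (hbn.map _)
    rw [Scheme.isNilpotent_iff_basicOpen_eq_bot_of_isCompact hV.isCompact] at hbn
    obtain ⟨x', hx'⟩ : ∃ x', x' ∈ X.basicOpen b := by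
      by_contra hcon
      push Not at hcon
      exact hbn (eq_bot_iff.2 fun a ha => (hcon a ha).elim)
    obtain ⟨z', rfl⟩ := pL.surjective x'
    have hz'V : pL z' ∈ V := X.basicOpen_le b hx'
    obtain ⟨y', hy'⟩ := (mem_range_emb pL chartL V hV z').2 hz'V
    have hy'2 : RelProj.emb pL chartL V hV y' = z' := hy'
    have hyD : y' ∈ Proj.basicOpen (𝒮L.deg V hV) ((u.appLE U V hVU).hom f) := by
      rw [hb, mem_basicOpen_line_iff hj hV hg pL chartL hPL b hd y', hy'2]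
      exact hx'
    have hz := (mem_preimage_iff_pair u p chart pL chartL hPL r hr ⟨U, hU, V, hV, hVU⟩ hd f hf y').2 hyD
    obtain ⟨w, ⟨y₁, hy₁, hy₁w⟩, -⟩ := hz
    refine ⟨r w, ?_, ⟨w, rfl⟩⟩
    have h3 : y₁ ∈ (RelProj.emb p chart U hU) ⁻¹ᵁ ⟨O, hO⟩ := hfle hy₁
    have h4 : RelProj.emb p chart U hU y₁ ∈ O := h3
    have h5 : RelProj.emb p chart U hU y₁ = r w := hy₁w
    rw [← h5]
    exact h4

end gen

end Groth.Agent.Lib.Helper28.RLPsi
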