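import Groth.Prelude.Def_RelProj2
import Groth.Agent.Lib.Helper28.AwayBCG
import Groth.Agent.Lib.Helper28.Glue
import Mathlib

set_option autoImplicit false
universe u
open CategoryTheory CategoryTheory.Limits AlgebraicGeometry Opposite TopologicalSpace
open scoped HomogeneousIdeal
noncomputable section

namespace Groth.Agent.Lib.Helper28.RelProjBC

section pairs
variable {S S' : Scheme.{u}} (g : S' ⟶ S)

/-- affine pairs `U' ≤ g⁻¹ U` -/
structure AffPair where
  U : S.Opens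
  hU : IsAffineOpen U
  U' : S'.Opens
  hU' : IsAffineOpen U'
  hle : U' ≤ g ⁻¹ᵁ U

theorem cover (y : S') : ∃ t : AffPair g, y ∈ Set.range (t.U'.ι) := by
  obtain ⟨U, hU, hxU, -⟩ := Opens.isBasis_iff_nbhd.1 S.isBasis_affineOpens
    (show g y ∈ (⊤ : S.Opens) from trivial)
  obtain ⟨U', hU', hxU', hle⟩ := Opens.isBasis_iff_nbhd.1 S'.isBasis_affineOpens
    (show y ∈ g ⁻¹ᵁ U from hxU)
  refine ⟨⟨U, hU, U', hU', hle⟩, ?_⟩
  rw [Scheme.Opens.range_ι]
  exact hxU'

set_option backward.isDefEq.respectTransparency false in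
theorem resLE_eq (t : AffPair g) :
    Spec.map (g.appLE t.U t.U' t.hle) ≫ t.hU.isoSpec.inv =
      t.hU'.isoSpec.inv ≫ g.resLE t.U t.U' t.hle := by
  rw [← cancel_mono t.U.ι, Category.assoc, Category.assoc, IsAffineOpen.isoSpec_inv_ι,
    Scheme.Hom.resLE_comp_ι, IsAffineOpen.SpecMap_appLE_fromSpec g t.hU t.hU' t.hle,
    ← IsAffineOpen.isoSpec_inv_ι, Category.assoc]

end pairs

section chart
variable {Y : Scheme.{u}} (𝒮 : _root_.RelProj.QCGrAlg Y) {P : Scheme.{u}} (p : P ⟶ Y)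
  (chart : ∀ (U : Y.Opens) (hU : IsAffineOpen U), (((p ⁻¹ᵁ U : P.Opens) : Scheme.{u}) ≅ Proj (𝒮.deg U hU)))
  (hP : _root_.RelProj.IsRelProj 𝒮 p chart)

/-- the structure morphism of a chart to the affine open -/
def αP (U : Y.Opens) (hU : IsAffineOpen U) : Proj (𝒮.deg U hU) ⟶ (U : Scheme.{u}) :=
  Proj.toSpecZero (𝒮.deg U hU) ≫ Spec.map (𝒮.strZero U hU) ≫ hU.isoSpec.inv

include hP in
set_option backward.isDefEq.respectTransparency false in
theorem αP_ι (U : Y.Opens) (hU : IsAffineOpen U) :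
    αP 𝒮 U hU ≫ U.ι = _root_.RelProj.emb p chart U hU ≫ p := by
  have h := hP.chart_over U hU
  unfold _root_.RelProj.emb
  rw [Category.assoc, ← h, Iso.inv_hom_id_assoc, αP]
  simp only [Category.assoc, IsAffineOpen.isoSpec_inv_ι]

set_option backward.isDefEq.respectTransparency false in
theorem opensRange_emb (U : Y.Opens) (hU : IsAffineOpen U) :
    (_root_.RelProj.emb p chart U hU).opensRange = p ⁻¹ᵁ U := by
  unfold _root_.RelProj.emb
  rw [Scheme.Hom.opensRange_comp_of_isIso, Scheme.Opens.opensRange_ι]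

include hP in
set_option backward.isDefEq.respectTransparency false in
theorem isPullback_emb (U : Y.Opens) (hU : IsAffineOpen U) :
    IsPullback (αP 𝒮 U hU) (_root_.RelProj.emb p chart U hU) U.ι p := by
  refine IsOpenImmersion.isPullback _ _ _ _ (αP_ι 𝒮 p chart hP U hU).symm ?_
  rw [Scheme.Opens.opensRange_ι, opensRange_emb]

end chart


section left
variable {Y Y' : Scheme.{u}} (ψ : Y' ⟶ Y) (𝒮 : _root_.RelProj.QCGrAlg Y) (𝒮' : _root_.RelProj.QCGrAlg Y')
  (t : AffPair ψ) (φ : 𝒮.deg t.U t.hU →+*ᵍ 𝒮'.deg t.U' t.hU')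
  (hpo : IsPushout (ψ.appLE t.U t.U' t.hle) (𝒮.str.app (op t.U)) (𝒮'.str.app (op t.U'))
    (CommRingCat.ofHom φ.toRingHom))
  (hirr : (𝒮'.deg t.U' t.hU')₊ ≤ ((𝒮.deg t.U t.hU)₊).map φ)

include hpo in
set_option backward.isDefEq.respectTransparency false in
/-- the chart square of a base change of relative Proj's is cartesian -/
theorem isPullback_left :
    IsPullback (Proj.map φ hirr) (αP 𝒮' t.U' t.hU') (αP 𝒮 t.U t.hU) (ψ.resLE t.U t.U' t.hle) := by
  have h1 := AwayBCG.isPullback_proj (𝒮.deg t.U t.hU) (𝒮'.deg t.U' t.hU')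
    (ψ.appLE t.U t.U' t.hle).hom (𝒮.str.app (op t.U)).hom (𝒮'.str.app (op t.U')).hom φ
    (𝒮.str_mem t.U t.hU) (𝒮'.str_mem t.U' t.hU')
    (𝒮.strZero t.U t.hU).hom (fun _ => rfl) (𝒮'.strZero t.U' t.hU').hom (fun _ => rfl) hpo hirr
  refine (h1.of_iso (Iso.refl _) (Iso.refl _) t.hU'.isoSpec.symm t.hU.isoSpec.symm ?_ ?_ ?_ ?_)
  · simp only [Iso.refl_hom, Category.id_comp, Category.comp_id]
  · simp only [Iso.refl_hom, Category.id_comp, Iso.symm_hom, αP, Category.assoc]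
    rfl
  · simp only [Iso.refl_hom, Category.id_comp, Iso.symm_hom, αP, Category.assoc]
    rfl
  · simp only [Iso.symm_hom]
    exact resLE_eq ψ t

end left


section main
variable {Y Y' P P' : Scheme.{u}} (ψ : Y' ⟶ Y) (𝒮 : _root_.RelProj.QCGrAlg Y)
  (𝒮' : _root_.RelProj.QCGrAlg Y')
  (p : P ⟶ Y)
  (chart : ∀ (U : Y.Opens) (hU : IsAffineOpen U), (((p ⁻¹ᵁ U : P.Opens) : Scheme.{u}) ≅ Proj (𝒮.deg U hU)))
  (hP : _root_.RelProj.IsRelProj 𝒮 p chart) (p' : P' ⟶ Y')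
  (chart' : ∀ (U' : Y'.Opens) (hU' : IsAffineOpen U'), (((p' ⁻¹ᵁ U' : P'.Opens) : Scheme.{u}) ≅ Proj (𝒮'.deg U' hU')))
  (hP' : _root_.RelProj.IsRelProj 𝒮' p' chart') (g : P' ⟶ P)
  (φ : ∀ t : AffPair ψ, 𝒮.deg t.U t.hU →+*ᵍ 𝒮'.deg t.U' t.hU')
  (hpo : ∀ t : AffPair ψ, IsPushout (ψ.appLE t.U t.U' t.hle) (𝒮.str.app (op t.U)) (𝒮'.str.app (op t.U'))
    (CommRingCat.ofHom (φ t).toRingHom))
  (hirr : ∀ t : AffPair ψ, (𝒮'.deg t.U' t.hU')₊ ≤ ((𝒮.deg t.U t.hU)₊).map (φ t))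
  (hg : ∀ t : AffPair ψ, _root_.RelProj.emb p' chart' t.U' t.hU' ≫ g =
    Proj.map (φ t) (hirr t) ≫ _root_.RelProj.emb p chart t.U t.hU)

include hP hP' hpo hg in
set_option backward.isDefEq.respectTransparency false in
/-- a morphism of relative Proj's over `ψ` which is chartwise `Proj.map` of base-change homomorphisms is a base change -/
theorem isPullback_of_charts : IsPullback g p' p ψ := by
  refine (Scheme.isPullback_of_openCover p' g ψ p
    (Glue.cov (fun t : AffPair ψ => (t.U' : Scheme.{u})) (fun t => t.U'.ι) (cover ψ))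
      fun (t : AffPair ψ) => ?_).flip
  have hpaste := (isPullback_left ψ 𝒮 𝒮' t (φ t) (hpo t) (hirr t)).paste_horiz
    (isPullback_emb 𝒮 p chart hP t.U t.hU).flip
  rw [← hg t, Scheme.Hom.resLE_comp_ι] at hpaste
  have hB := (isPullback_emb 𝒮' p' chart' hP' t.U' t.hU').flip
  refine hpaste.flip.of_iso hB.isoPullback (Iso.refl _) (Iso.refl _) (Iso.refl _) ?_ ?_ ?_ ?_
  · simp only [Iso.refl_hom, Category.comp_id]
    exact hB.isoPullback_hom_snd.symm
  · simp only [Iso.refl_hom, Category.comp_id]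
    have h1 := hB.isoPullback_hom_fst
    exact Eq.trans (congrArg (· ≫ g) h1.symm) (Category.assoc _ _ _)
  · simp only [Iso.refl_hom, Category.comp_id, Category.id_comp]
    rfl
  · simp only [Iso.refl_hom, Category.comp_id, Category.id_comp]

end main

end Groth.Agent.Lib.Helper28.RelProjBC
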