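import Groth.Prelude.Def_RelProj4
import Groth.Agent.Lib.Helper28.RelProjBC
import Groth.Agent.Lib.Helper28.RelProjExists
import Groth.Agent.Lib.Helper28.GlueLocal
import Mathlib

set_option autoImplicit false
universe u
open CategoryTheory CategoryTheory.Limits AlgebraicGeometry Opposite TopologicalSpace
open scoped HomogeneousIdeal
open HomogeneousLocalization
noncomputable section

namespace Groth.Agent.Lib.Helper28.RelProjQ

open Groth.Agent.Lib.Helper28.RelProjBC (AffPair cover)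
open Groth.Agent.Lib.Helper28.RelProjExists (hirr projMap_congr)

/-- an affine open as an object of the small affine Zariski site -/
def mkSite {X : Scheme.{u}} (U : X.Opens) (hU : IsAffineOpen U) : X.AffineZariskiSite := ⟨U, hU⟩

theorem le_of_site {X : Scheme.{u}} {V U : X.Opens} {hV : IsAffineOpen V} {hU : IsAffineOpen U}
    (h : mkSite V hV ≤ mkSite U hU) : V ≤ U :=
  Scheme.AffineZariskiSite.toOpens_mono h

section emb
variable {Y : Scheme.{u}} (𝒮 : _root_.RelProj.QCGrAlg Y) {P : Scheme.{u}} (p : P ⟶ Y)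
  (chart : ∀ (U : Y.Opens) (hU : IsAffineOpen U), (((p ⁻¹ᵁ U : P.Opens) : Scheme.{u}) ≅ Proj (𝒮.deg U hU)))
  (hP : _root_.RelProj.IsRelProj 𝒮 p chart)

include hP in
/-- compatibility of the chart immersions with restriction in the affine Zariski site -/
theorem map_emb {V U : Y.AffineZariskiSite} (h : V ≤ U) :
    Proj.map (𝒮.res U.2 V.2 (Scheme.AffineZariskiSite.toOpens_mono h)) (hirr 𝒮 h) ≫
      _root_.RelProj.emb p chart U.1 U.2 = _root_.RelProj.emb p chart V.1 V.2 := by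
  obtain ⟨V, hV⟩ := V
  obtain ⟨f, hf⟩ := h
  change Y.basicOpen f = V at hf
  subst hf
  exact _root_.RelProj.map_res_emb hP U.1 U.2 f

end emb

section Q
variable {Y Y' : Scheme.{u}} {ψ : Y' ⟶ Y} {𝒮 : _root_.RelProj.QCGrAlg Y} {𝒮' : _root_.RelProj.QCGrAlg Y'}
  (u : _root_.RelProj.QGrHom ψ 𝒮 𝒮')

/-- the graded homomorphism of a pair -/
abbrev φQ (t : AffPair ψ) : 𝒮.deg t.U t.hU →+*ᵍ 𝒮'.deg t.U' t.hU' :=
  u.gradedAt t.U t.hU t.U' t.hU' t.hle

theorem gradedAt_res (t w : AffPair ψ) (i : w.U ≤ t.U) (i' : w.U' ≤ t.U') :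
    (𝒮'.res t.hU' w.hU' i').comp (φQ u t) = (φQ u w).comp (𝒮.res t.hU w.hU i) := by
  ext x
  have h1 := congrArg (fun k => k.hom x) (u.toQHom.appLE_map t.hle i')
  have h2 := congrArg (fun k => k.hom x) (u.toQHom.map_appLE i w.hle)
  exact h1.trans h2.symm


section glue
variable {P P' : Scheme.{u}} (p : P ⟶ Y)
  (chart : ∀ (U : Y.Opens) (hU : IsAffineOpen U), (((p ⁻¹ᵁ U : P.Opens) : Scheme.{u}) ≅ Proj (𝒮.deg U hU)))
  (hP : _root_.RelProj.IsRelProj 𝒮 p chart) (p' : P' ⟶ Y')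
  (chart' : ∀ (U' : Y'.Opens) (hU' : IsAffineOpen U'), (((p' ⁻¹ᵁ U' : P'.Opens) : Scheme.{u}) ≅ Proj (𝒮'.deg U' hU')))
  (hP' : _root_.RelProj.IsRelProj 𝒮' p' chart')
  (hirrQ : ∀ t : AffPair ψ, (𝒮'.deg t.U' t.hU')₊ ≤ ((𝒮.deg t.U t.hU)₊).map (φQ u t))

/-- the local pieces of `Proj(u)` -/
def piece (t : AffPair ψ) : Proj (𝒮'.deg t.U' t.hU') ⟶ P :=
  Proj.map (φQ u t) (hirrQ t) ≫ _root_.RelProj.emb p chart t.U t.hU

include hP in
set_option backward.isDefEq.respectTransparency false in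
theorem piece_restrict (t w : AffPair ψ) (h : mkSite w.U w.hU ≤ mkSite t.U t.hU)
    (h' : mkSite w.U' w.hU' ≤ mkSite t.U' t.hU') :
    Proj.map (𝒮'.res t.hU' w.hU' (le_of_site h')) (hirr 𝒮' h') ≫ piece u p chart hirrQ t =
      piece u p chart hirrQ w := by
  unfold piece
  have e1 : Proj.map ((φQ u w).comp (𝒮.res t.hU w.hU (le_of_site h)))
      (HomogeneousIdeal.irrelevant_le_map_comp (hirr 𝒮 h) (hirrQ w)) =
      Proj.map (φQ u w) (hirrQ w) ≫ Proj.map (𝒮.res t.hU w.hU (le_of_site h)) (hirr 𝒮 h) :=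
    Proj.map_comp _ _ _ _
  rw [← Category.assoc, ← Proj.map_comp,
    projMap_congr _ _ _ (HomogeneousIdeal.irrelevant_le_map_comp (hirr 𝒮 h) (hirrQ w))
      (gradedAt_res u t w (le_of_site h) (le_of_site h')),
    e1, Category.assoc]
  congr 1
  exact map_emb 𝒮 p chart hP (V := mkSite w.U w.hU) (U := mkSite t.U t.hU) h

omit u in
/-- common refinement of two pairs around a point -/
theorem exists_refine (t₁ t₂ : AffPair ψ) (y : Y') (hy₁ : y ∈ t₁.U') (hy₂ : y ∈ t₂.U') :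
    ∃ w : AffPair ψ, y ∈ w.U' ∧ mkSite w.U w.hU ≤ mkSite t₁.U t₁.hU ∧
      mkSite w.U w.hU ≤ mkSite t₂.U t₂.hU ∧
      mkSite w.U' w.hU' ≤ mkSite t₁.U' t₁.hU' ∧ mkSite w.U' w.hU' ≤ mkSite t₂.U' t₂.hU' := by
  obtain ⟨r₁, r₂, e, hW⟩ := exists_basicOpen_le_affine_inter t₁.hU t₂.hU (ψ y)
    ⟨t₁.hle hy₁, t₂.hle hy₂⟩
  obtain ⟨f₁, f₂, e', hV'⟩ := exists_basicOpen_le_affine_inter t₁.hU' t₂.hU' y ⟨hy₁, hy₂⟩
  have hV'aff : IsAffineOpen (Y'.basicOpen f₁) := t₁.hU'.basicOpen f₁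
  obtain ⟨h, hle, hyh⟩ := hV'aff.exists_basicOpen_le (V := ψ ⁻¹ᵁ Y.basicOpen r₁) ⟨y, hW⟩ hV'
  refine ⟨⟨Y.basicOpen r₁, t₁.hU.basicOpen r₁, Y'.basicOpen h, hV'aff.basicOpen h, hle⟩, hyh,
    ⟨r₁, rfl⟩, ⟨r₂, e.symm⟩, ?_, ?_⟩
  · exact le_trans (b := mkSite (Y'.basicOpen f₁) hV'aff) ⟨h, rfl⟩ ⟨f₁, rfl⟩
  · exact le_trans (b := mkSite (Y'.basicOpen f₁) hV'aff) ⟨h, rfl⟩ ⟨f₂, e'.symm⟩


omit u in
set_option backward.isDefEq.respectTransparency false in
theorem mem_range_emb {Y : Scheme.{u}} {𝒮 : _root_.RelProj.QCGrAlg Y} {P : Scheme.{u}} (p : P ⟶ Y)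
    (chart : ∀ (U : Y.Opens) (hU : IsAffineOpen U), (((p ⁻¹ᵁ U : P.Opens) : Scheme.{u}) ≅ Proj (𝒮.deg U hU)))
    (U : Y.Opens) (hU : IsAffineOpen U) (z : P) :
    z ∈ Set.range (_root_.RelProj.emb p chart U hU) ↔ p z ∈ U := by
  have h := RelProjBC.opensRange_emb 𝒮 p chart U hU
  have h2 : z ∈ (_root_.RelProj.emb p chart U hU).opensRange ↔ z ∈ p ⁻¹ᵁ U := by rw [h]
  exact h2

omit u in
theorem cover' (z : P') : ∃ t : AffPair ψ, z ∈ Set.range (_root_.RelProj.emb p' chart' t.U' t.hU') := by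
  obtain ⟨t, ht⟩ := cover ψ (p' z)
  rw [Scheme.Opens.range_ι] at ht
  exact ⟨t, (mem_range_emb p' chart' t.U' t.hU' z).2 ht⟩

include hP hP' in
set_option backward.isDefEq.respectTransparency false in
theorem glue_H (t s : AffPair ψ) (x : Proj (𝒮'.deg t.U' t.hU')) (y : Proj (𝒮'.deg s.U' s.hU'))
    (hxy : _root_.RelProj.emb p' chart' t.U' t.hU' x = _root_.RelProj.emb p' chart' s.U' s.hU' y) :
    ∃ (V : Scheme.{u}) (a : V ⟶ Proj (𝒮'.deg t.U' t.hU')) (b : V ⟶ Proj (𝒮'.deg s.U' s.hU')),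
      a ≫ _root_.RelProj.emb p' chart' t.U' t.hU' = b ≫ _root_.RelProj.emb p' chart' s.U' s.hU' ∧
      IsOpenImmersion (a ≫ _root_.RelProj.emb p' chart' t.U' t.hU') ∧
      _root_.RelProj.emb p' chart' t.U' t.hU' x ∈
        Set.range (a ≫ _root_.RelProj.emb p' chart' t.U' t.hU') ∧
      a ≫ piece u p chart hirrQ t = b ≫ piece u p chart hirrQ s := by
  set z := _root_.RelProj.emb p' chart' t.U' t.hU' x with hz
  have hz1 : p' z ∈ t.U' := (mem_range_emb p' chart' t.U' t.hU' z).1 ⟨x, rfl⟩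
  have hz2 : p' z ∈ s.U' := (mem_range_emb p' chart' s.U' s.hU' z).1 ⟨y, hxy.symm⟩
  obtain ⟨w, hzw, h1, h2, h1', h2'⟩ := exists_refine t s (p' z) hz1 hz2
  have ea : Proj.map (𝒮'.res t.hU' w.hU' (le_of_site h1')) (hirr 𝒮' h1') ≫
      _root_.RelProj.emb p' chart' t.U' t.hU' = _root_.RelProj.emb p' chart' w.U' w.hU' :=
    map_emb 𝒮' p' chart' hP' (V := mkSite w.U' w.hU') (U := mkSite t.U' t.hU') h1'
  have eb : Proj.map (𝒮'.res s.hU' w.hU' (le_of_site h2')) (hirr 𝒮' h2') ≫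
      _root_.RelProj.emb p' chart' s.U' s.hU' = _root_.RelProj.emb p' chart' w.U' w.hU' :=
    map_emb 𝒮' p' chart' hP' (V := mkSite w.U' w.hU') (U := mkSite s.U' s.hU') h2'
  refine ⟨_, Proj.map (𝒮'.res t.hU' w.hU' (le_of_site h1')) (hirr 𝒮' h1'),
    Proj.map (𝒮'.res s.hU' w.hU' (le_of_site h2')) (hirr 𝒮' h2'), ea.trans eb.symm, ?_, ?_, ?_⟩
  · rw [ea]; exact _root_.RelProj.isOpenImmersion_emb p' chart' w.U' w.hU'
  · rw [ea]
    exact (mem_range_emb p' chart' w.U' w.hU' z).2 hzw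
  · rw [piece_restrict u p chart hP hirrQ t w h1 h1', piece_restrict u p chart hP hirrQ s w h2 h2']

include hP hP' in
/-- existence and uniqueness of the morphism chartwise given by `Proj.map` -/
theorem existsUnique_glue : ∃! h : P' ⟶ P, ∀ t : AffPair ψ,
    _root_.RelProj.emb p' chart' t.U' t.hU' ≫ h = piece u p chart hirrQ t :=
  GlueLocal.existsUnique_glue (fun t : AffPair ψ => Proj (𝒮'.deg t.U' t.hU'))
    (fun t => _root_.RelProj.emb p' chart' t.U' t.hU') (cover' p' chart')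
    (fun t => piece u p chart hirrQ t) (glue_H u p chart hP p' chart' hP' hirrQ)


omit u in
/-- with the irrelevant-ideal condition the open of definition of a graded homomorphism is everything -/
theorem domOpen_eq_top {A B : Type u} [CommRing A] [CommRing B] {𝒜 : ℕ → AddSubgroup A}
    {ℬ : ℕ → AddSubgroup B} [GradedRing 𝒜] [GradedRing ℬ] (φ : 𝒜 →+*ᵍ ℬ)
    (hφ : ℬ₊ ≤ (𝒜₊).map φ) : RelCone.domOpen φ = ⊤ := by
  rw [eq_top_iff]
  intro x _
  rw [RelCone.mem_domOpen]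
  by_contra hcon
  push Not at hcon
  apply x.not_irrelevant_le
  refine le_trans hφ ?_
  change Ideal.map φ (𝒜₊).toIdeal ≤ x.asHomogeneousIdeal.toIdeal
  rw [Ideal.map_le_iff_le_comap]
  intro f hf
  exact hcon f hf

include hirrQ in
set_option backward.isDefEq.respectTransparency false in
theorem domQ_eq_top : _root_.RelProj.domQ u p' chart' = ⊤ := by
  rw [eq_top_iff]
  intro z _
  obtain ⟨t, x, hx⟩ := cover' p' chart' z
  unfold _root_.RelProj.domQ
  refine Opens.mem_iSup.mpr ⟨⟨(⟨t.U, t.hU⟩, ⟨t.U', t.hU'⟩), t.hle⟩, ?_⟩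
  refine ⟨x, ?_, hx⟩
  change x ∈ RelCone.domOpen (φQ u t)
  rw [domOpen_eq_top (φQ u t) (hirrQ t)]
  trivial

set_option backward.isDefEq.respectTransparency false in
/-- a morphism glued from the pieces satisfies the chart equations of `IsProjQMap` -/
theorem chart_eq_of_glue (h : P' ⟶ P) (hh : ∀ t : AffPair ψ,
    _root_.RelProj.emb p' chart' t.U' t.hU' ≫ h = piece u p chart hirrQ t)
    (U : Y.Opens) (hU : IsAffineOpen U) (U' : Y'.Opens) (hU' : IsAffineOpen U') (hle : U' ≤ ψ ⁻¹ᵁ U)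
    (d : ℕ) (hd : 0 < d) (f : 𝒮.presheaf.obj (op U)) (hf : f ∈ 𝒮.deg U hU d) :
    _root_.RelProj.awayEmb u p' chart' U hU U' hU' hle hd f hf ≫ h =
      Spec.map (CommRingCat.ofHom (HomogeneousLocalization.Away.map (u.gradedAt U hU U' hU' hle) f)) ≫
        Proj.awayι (𝒮.deg U hU) f hf hd ≫ _root_.RelProj.emb p chart U hU := by
  have h1 := hh ⟨U, hU, U', hU', hle⟩
  unfold _root_.RelProj.awayEmb
  rw [Category.assoc, h1]
  unfold piece
  rw [← Category.assoc, Proj.awayι_comp_map _ _ hd f hf, Category.assoc]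

set_option backward.isDefEq.respectTransparency false in
/-- a morphism satisfying the chart equations of `IsProjQMap` is glued from the pieces -/
theorem glue_of_chart_eq (h : P' ⟶ P)
    (hh : ∀ (U : Y.Opens) (hU : IsAffineOpen U) (U' : Y'.Opens) (hU' : IsAffineOpen U') (hle : U' ≤ ψ ⁻¹ᵁ U)
      (d : ℕ) (hd : 0 < d) (f : 𝒮.presheaf.obj (op U)) (hf : f ∈ 𝒮.deg U hU d),
      _root_.RelProj.awayEmb u p' chart' U hU U' hU' hle hd f hf ≫ h =
        Spec.map (CommRingCat.ofHom (HomogeneousLocalization.Away.map (u.gradedAt U hU U' hU' hle) f)) ≫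
          Proj.awayι (𝒮.deg U hU) f hf hd ≫ _root_.RelProj.emb p chart U hU)
    (t : AffPair ψ) :
    _root_.RelProj.emb p' chart' t.U' t.hU' ≫ h = piece u p chart hirrQ t := by
  refine (Proj.mapAffineOpenCover (φQ u t) (hirrQ t)).openCover.hom_ext _ _ fun s => ?_
  simp only [Scheme.AffineOpenCover.openCover_f, Proj.mapAffineOpenCover_f]
  have h1 := hh t.U t.hU t.U' t.hU' t.hle s.1.1 s.1.2 s.2.1 s.2.2
  unfold _root_.RelProj.awayEmb at h1
  rw [Category.assoc] at h1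
  rw [h1]
  unfold piece
  rw [Proj.awayι_comp_map_assoc _ _ s.1.2 s.2.1 s.2.2]


end glue

section baseChange
variable {P P' : Scheme.{u}} (p : P ⟶ Y)
  (chart : ∀ (U : Y.Opens) (hU : IsAffineOpen U), (((p ⁻¹ᵁ U : P.Opens) : Scheme.{u}) ≅ Proj (𝒮.deg U hU)))
  (hP : _root_.RelProj.IsRelProj 𝒮 p chart) (p' : P' ⟶ Y')
  (chart' : ∀ (U' : Y'.Opens) (hU' : IsAffineOpen U'), (((p' ⁻¹ᵁ U' : P'.Opens) : Scheme.{u}) ≅ Proj (𝒮'.deg U' hU')))
  (hP' : _root_.RelProj.IsRelProj 𝒮' p' chart')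
  (hu : RelSpec.IsQBaseChange u.toQHom)

include hu in
theorem isPushout_pair (t : AffPair ψ) :
    IsPushout (ψ.appLE t.U t.U' t.hle) (𝒮.str.app (op t.U)) (𝒮'.str.app (op t.U'))
      (CommRingCat.ofHom (φQ u t).toRingHom) :=
  hu t.U t.hU t.U' t.hU' t.hle

include hu in
theorem hirrQ_of_baseChange (t : AffPair ψ) :
    (𝒮'.deg t.U' t.hU')₊ ≤ ((𝒮.deg t.U t.hU)₊).map (φQ u t) :=
  AwayBCG.irrelevant_le_map (𝒮.deg t.U t.hU) (𝒮'.deg t.U' t.hU')
    (ψ.appLE t.U t.U' t.hle).hom (𝒮.str.app (op t.U)).hom (𝒮'.str.app (op t.U')).hom (φQ u t)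
    (𝒮.str_mem t.U t.hU) (𝒮'.str_mem t.U' t.hU') (isPushout_pair u hu t)

include hP hP' hu in
theorem exists_isProjQMap : ∃ h : P' ⟶ P, _root_.RelProj.IsProjQMap u p chart p' chart' h := by
  obtain ⟨h, hh, -⟩ := existsUnique_glue u p chart hP p' chart' hP' (hirrQ_of_baseChange u hu)
  exact ⟨h, domQ_eq_top u p' chart' (hirrQ_of_baseChange u hu),
    chart_eq_of_glue u p chart p' chart' (hirrQ_of_baseChange u hu) h hh⟩

include hP hP' hu in
theorem isPullback_of_isProjQMap (h : P' ⟶ P)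
    (hh : _root_.RelProj.IsProjQMap u p chart p' chart' h) : IsPullback h p' p ψ :=
  RelProjBC.isPullback_of_charts ψ 𝒮 𝒮' p chart hP p' chart' hP' h (fun t => φQ u t)
    (isPushout_pair u hu) (hirrQ_of_baseChange u hu)
    (glue_of_chart_eq u p chart p' chart' (hirrQ_of_baseChange u hu) h hh.2)

end baseChange

end Q

end Groth.Agent.Lib.Helper28.RelProjQ
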