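import Groth.Agent.Lib.Helper28.ConeSwapC
import Groth.Agent.Lib.Helper28.RelProjQ
import Groth.Agent.Lib.Helper28.RLPsiE

/-!
# Exchanging zero and infinity: gluing the chart morphisms `Proj Sym(L)[z](V) → Proj Sym(L')[z'](V)` (helper28)
-/

set_option autoImplicit false
universe u
open CategoryTheory CategoryTheory.Limits AlgebraicGeometry Opposite TopologicalSpace
open HomogeneousLocalization
open scoped HomogeneousIdeal
noncomputable section

namespace Groth.Agent.Lib.Helper28.ConeSwap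

open Groth.Agent.Lib.Helper28 Groth.Agent.Lib.Helper28.QCohLoc Groth.Agent.Lib.Helper28.TraceAlg
open Groth.Agent.Lib.Helper28.GenLocus Groth.Agent.Lib.Helper28.SymAlg
open Groth.Agent.Lib.Helper28.ProjQCone (χ)
open Groth.Agent.Lib.Helper28.ConeLine
open Groth.Agent.Lib.Helper28.RelProjQ (mkSite le_of_site)
open Groth.Agent.Lib.Helper28.RelProjExists (hirr projMap_congr)

/-- an affine open together with generators of `L` and `L'` on it -/
structure Good2 {Y : Scheme.{u}} (L L' : Y.Modules) where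
  V : Y.Opens
  hV : IsAffineOpen V
  t : Γ(L, V)
  ht : IsGen L V t
  t' : Γ(L', V)
  ht' : IsGen L' V t'

namespace Good2

variable {Y : Scheme.{u}} {L L' : Y.Modules}

/-- exchanging the roles of the two modules -/
def swap (i : Good2 L L') : Good2 L' L := ⟨i.V, i.hV, i.t', i.ht', i.t, i.ht⟩

/-- good opens cover -/
theorem exists_mem (hL : PicF.IsInvertible L) (hL' : PicF.IsInvertible L') (y : Y) :
    ∃ i : Good2 L L', y ∈ i.V := by
  obtain ⟨V₀, t, hy₀, hV₀, ht⟩ := GenLocus.exists_isGen_affine L hL y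
  obtain ⟨V, t', hyV, hV, ht', hle⟩ := RLPsi.exists_isGen_affine_le hL' y V₀ hy₀
  exact ⟨⟨V, hV, res L hle t, ht.res hle, t', ht'⟩, hyV⟩

end Good2

section glue

variable {Y : Scheme.{u}} {L L' : Y.Modules} [L.IsQuasicoherent] [L'.IsQuasicoherent] (Pr : Pairing L L')
  {𝒮 𝒮h : RelProj.QCGrAlg Y} {j : L ⟶ 𝒮.toModule} (hS : RelProj.IsGrSymAlg L 𝒮 j)
  {ι : 𝒮.toQCAlg ⟶ 𝒮h.toQCAlg} {z : 𝒮h.presheaf.obj (op ⊤)} (hz : RelCone.IsPolyOver 𝒮 𝒮h ι z)
  {𝒮' 𝒮h' : RelProj.QCGrAlg Y} {j' : L' ⟶ 𝒮'.toModule} (hS' : RelProj.IsGrSymAlg L' 𝒮' j')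
  {ι' : 𝒮'.toQCAlg ⟶ 𝒮h'.toQCAlg} {z' : 𝒮h'.presheaf.obj (op ⊤)} (hz' : RelCone.IsPolyOver 𝒮' 𝒮h' ι' z')

/-- the chart morphism does not depend on the generators -/
theorem projMap_phiG_indep {V : Y.Opens} (hV : IsAffineOpen V) {t₁ t₂ : Γ(L, V)} (ht₁ : IsGen L V t₁)
    (ht₂ : IsGen L V t₂) {t₁' t₂' : Γ(L', V)} (ht₁' : IsGen L' V t₁') (ht₂' : IsGen L' V t₂') :
    Proj.map (phiG Pr hS hz hS' hz' hV t₁ ht₁') (hirr_phiG Pr hS hz hS' hz' hV ht₁ ht₁') =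
      Proj.map (phiG Pr hS hz hS' hz' hV t₂ ht₂') (hirr_phiG Pr hS hz hS' hz' hV ht₂ ht₂') := by
  refine ProjMapScalar.map_eq_of_scalar _ _ _ _ ((𝒮h.str.app (op V)).hom (ht₁.coef le_rfl t₂))
    (𝒮h.str_mem V hV _) fun n x hx => ?_
  have e : t₂ = (ht₁.coef le_rfl t₂ • t₁ : Γ(L, V)) := by
    have h := ht₁.coef_smul le_rfl t₂
    rw [res_self] at h
    exact h.symm
  show phiR Pr hS' hz' hV j ι z t₂ x = phiR Pr hS' hz' hV j ι z t₁ x * _
  conv_lhs => rw [e]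
  rw [phiR_smul Pr hS hz hS' hz' hV _ t₁ ht₁' hx, mul_comm]

/-- the chart morphism over a good open -/
def PhiV (i : Good2 L L') : Proj (𝒮h.deg i.V i.hV) ⟶ Proj (𝒮h'.deg i.V i.hV) :=
  Proj.map (phiG Pr hS hz hS' hz' i.hV i.t i.ht') (hirr_phiG Pr hS hz hS' hz' i.hV i.ht i.ht')

variable {PC PC' : Scheme.{u}} (pC : PC ⟶ Y)
  (chartC : ∀ (U : Y.Opens) (hU : IsAffineOpen U), (((pC ⁻¹ᵁ U : PC.Opens) : Scheme.{u}) ≅ Proj (𝒮h.deg U hU)))
  (hPC : RelProj.IsRelProj 𝒮h pC chartC) (pC' : PC' ⟶ Y)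
  (chartC' : ∀ (U : Y.Opens) (hU : IsAffineOpen U), (((pC' ⁻¹ᵁ U : PC'.Opens) : Scheme.{u}) ≅ Proj (𝒮h'.deg U hU)))
  (hPC' : RelProj.IsRelProj 𝒮h' pC' chartC')

/-- the local pieces of the swap morphism -/
def piece (i : Good2 L L') : Proj (𝒮h.deg i.V i.hV) ⟶ PC' :=
  PhiV Pr hS hz hS' hz' i ≫ RelProj.emb pC' chartC' i.V i.hV

theorem phiG_res (i w : Good2 L L') (h : w.V ≤ i.V) :
    (𝒮h.res i.hV w.hV h).comp (phiG Pr hS hz hS' hz' i.hV i.t i.ht') =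
      (phiG Pr hS hz hS' hz' w.hV (res L h i.t) w.ht').comp (𝒮h'.res i.hV w.hV h) := by
  ext x
  exact phiR_res Pr hS' hz' i.hV w.hV h i.t x

include hPC' in
set_option backward.isDefEq.respectTransparency false in
theorem piece_restrict (i w : Good2 L L') (h : mkSite w.V w.hV ≤ mkSite i.V i.hV) :
    Proj.map (𝒮h.res i.hV w.hV (le_of_site h)) (hirr 𝒮h h) ≫ piece Pr hS hz hS' hz' pC' chartC' i =
      piece Pr hS hz hS' hz' pC' chartC' w := by
  unfold piece PhiV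
  have hirr2 := hirr_phiG Pr hS hz hS' hz' w.hV (i.ht.res (le_of_site h)) w.ht'
  have e1 : Proj.map ((phiG Pr hS hz hS' hz' w.hV (res L (le_of_site h) i.t) w.ht').comp
        (𝒮h'.res i.hV w.hV (le_of_site h)))
      (HomogeneousIdeal.irrelevant_le_map_comp (hirr 𝒮h' h) hirr2) =
      Proj.map (phiG Pr hS hz hS' hz' w.hV (res L (le_of_site h) i.t) w.ht') hirr2 ≫
        Proj.map (𝒮h'.res i.hV w.hV (le_of_site h)) (hirr 𝒮h' h) :=
    Proj.map_comp _ _ _ _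
  rw [← Category.assoc, ← Proj.map_comp,
    projMap_congr _ _ _ (HomogeneousIdeal.irrelevant_le_map_comp (hirr 𝒮h' h) hirr2)
      (phiG_res Pr hS hz hS' hz' i w (le_of_site h)),
    e1, Category.assoc,
    projMap_phiG_indep Pr hS hz hS' hz' w.hV (i.ht.res (le_of_site h)) w.ht w.ht' w.ht']
  congr 1
  exact RelProjQ.map_emb 𝒮h' pC' chartC' hPC' (V := mkSite w.V w.hV) (U := mkSite i.V i.hV) h

include hPC hPC' in
set_option backward.isDefEq.respectTransparency false in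
theorem glue_H (hL : PicF.IsInvertible L) (hL' : PicF.IsInvertible L') (i s : Good2 L L')
    (x : Proj (𝒮h.deg i.V i.hV)) (y : Proj (𝒮h.deg s.V s.hV))
    (hxy : RelProj.emb pC chartC i.V i.hV x = RelProj.emb pC chartC s.V s.hV y) :
    ∃ (W : Scheme.{u}) (a : W ⟶ Proj (𝒮h.deg i.V i.hV)) (b : W ⟶ Proj (𝒮h.deg s.V s.hV)),
      a ≫ RelProj.emb pC chartC i.V i.hV = b ≫ RelProj.emb pC chartC s.V s.hV ∧
      IsOpenImmersion (a ≫ RelProj.emb pC chartC i.V i.hV) ∧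
      RelProj.emb pC chartC i.V i.hV x ∈ Set.range (a ≫ RelProj.emb pC chartC i.V i.hV) ∧
      a ≫ piece Pr hS hz hS' hz' pC' chartC' i = b ≫ piece Pr hS hz hS' hz' pC' chartC' s := by
  set q := RelProj.emb pC chartC i.V i.hV x with hq
  have hq1 : pC q ∈ i.V := (RelProjQ.mem_range_emb pC chartC i.V i.hV q).1 ⟨x, rfl⟩
  have hq2 : pC q ∈ s.V := (RelProjQ.mem_range_emb pC chartC s.V s.hV q).1 ⟨y, hxy.symm⟩
  obtain ⟨W, hW, hqW, h1, h2⟩ := ConeImm.exists_refine₂ i.hV s.hV (pC q) hq1 hq2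
  let w : Good2 L L' := ⟨W, hW, res L (le_of_site h1) i.t, i.ht.res (le_of_site h1),
    res L' (le_of_site h1) i.t', i.ht'.res (le_of_site h1)⟩
  have h1w : mkSite w.V w.hV ≤ mkSite i.V i.hV := h1
  have h2w : mkSite w.V w.hV ≤ mkSite s.V s.hV := h2
  have ea : Proj.map (𝒮h.res i.hV w.hV (le_of_site h1w)) (hirr 𝒮h h1w) ≫
      RelProj.emb pC chartC i.V i.hV = RelProj.emb pC chartC w.V w.hV :=
    RelProjQ.map_emb 𝒮h pC chartC hPC (V := mkSite w.V w.hV) (U := mkSite i.V i.hV) h1w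
  have eb : Proj.map (𝒮h.res s.hV w.hV (le_of_site h2w)) (hirr 𝒮h h2w) ≫
      RelProj.emb pC chartC s.V s.hV = RelProj.emb pC chartC w.V w.hV :=
    RelProjQ.map_emb 𝒮h pC chartC hPC (V := mkSite w.V w.hV) (U := mkSite s.V s.hV) h2w
  refine ⟨_, Proj.map (𝒮h.res i.hV w.hV (le_of_site h1w)) (hirr 𝒮h h1w),
    Proj.map (𝒮h.res s.hV w.hV (le_of_site h2w)) (hirr 𝒮h h2w), ea.trans eb.symm, ?_, ?_, ?_⟩
  · rw [ea]; exact _root_.RelProj.isOpenImmersion_emb pC chartC w.V w.hV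
  · rw [ea]
    exact (RelProjQ.mem_range_emb pC chartC w.V w.hV q).2 hqW
  · rw [piece_restrict Pr hS hz hS' hz' pC' chartC' hPC' i w h1w,
      piece_restrict Pr hS hz hS' hz' pC' chartC' hPC' s w h2w]

include hPC hPC' in
/-- the swap morphism, glued from the chart morphisms -/
theorem existsUnique_glue (hL : PicF.IsInvertible L) (hL' : PicF.IsInvertible L') :
    ∃! Φ : PC ⟶ PC', ∀ i : Good2 L L',
      RelProj.emb pC chartC i.V i.hV ≫ Φ = piece Pr hS hz hS' hz' pC' chartC' i :=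
  GlueLocal.existsUnique_glue (fun i : Good2 L L' => Proj (𝒮h.deg i.V i.hV))
    (fun i => RelProj.emb pC chartC i.V i.hV)
    (fun x => by
      obtain ⟨i, hi⟩ := Good2.exists_mem hL hL' (pC x)
      exact ⟨i, (RelProjQ.mem_range_emb pC chartC i.V i.hV x).2 hi⟩)
    (fun i => piece Pr hS hz hS' hz' pC' chartC' i)
    (glue_H Pr hS hz hS' hz' pC chartC hPC pC' chartC' hPC' hL hL')

end glue

end Groth.Agent.Lib.Helper28.ConeSwap
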