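import Groth.Agent.Lib.Helper28.ConeSwapD

/-!
# Exchanging zero and infinity: the glued morphism is an isomorphism over the base (helper28)
-/

set_option autoImplicit false
universe u
open CategoryTheory CategoryTheory.Limits AlgebraicGeometry Opposite TopologicalSpace
open HomogeneousLocalization
open scoped HomogeneousIdeal
noncomputable section

namespace Groth.Agent.Lib.Helper28.ConeSwap

open Groth.Agent.Lib.Helper28 Groth.Agent.Lib.Helper28.QCohLoc Groth.Agent.Lib.Helper28.TraceAlg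
open Groth.Agent.Lib.Helper28.GenLocus Groth.Agent.Lib.Helper28.SymAlg
open Groth.Agent.Lib.Helper28.ProjQCone (χ)
open Groth.Agent.Lib.Helper28.ConeLine
open Groth.Agent.Lib.Helper28.RelProjQ (mkSite le_of_site)
open Groth.Agent.Lib.Helper28.RelProjExists (hirr projMap_congr)

section iso

variable {Y : Scheme.{u}} {L L' : Y.Modules} [L.IsQuasicoherent] [L'.IsQuasicoherent] (Pr : Pairing L L')
  {𝒮 𝒮h : RelProj.QCGrAlg Y} {j : L ⟶ 𝒮.toModule} (hS : RelProj.IsGrSymAlg L 𝒮 j)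
  {ι : 𝒮.toQCAlg ⟶ 𝒮h.toQCAlg} {z : 𝒮h.presheaf.obj (op ⊤)} (hz : RelCone.IsPolyOver 𝒮 𝒮h ι z)
  {𝒮' 𝒮h' : RelProj.QCGrAlg Y} {j' : L' ⟶ 𝒮'.toModule} (hS' : RelProj.IsGrSymAlg L' 𝒮' j')
  {ι' : 𝒮'.toQCAlg ⟶ 𝒮h'.toQCAlg} {z' : 𝒮h'.presheaf.obj (op ⊤)} (hz' : RelCone.IsPolyOver 𝒮' 𝒮h' ι' z')

set_option backward.isDefEq.respectTransparency false in
/-- the chart morphisms in the two directions are mutually inverse -/
theorem PhiV_comp (i : Good2 L L') :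
    PhiV Pr hS hz hS' hz' i ≫ PhiV Pr.swap hS' hz' hS hz i.swap = 𝟙 _ := by
  have hid : (𝒮h.deg i.V i.hV)₊ ≤ ((𝒮h.deg i.V i.hV)₊).map (GradedRingHom.id (𝒮h.deg i.V i.hV)) := by simp
  have h1 := hirr_phiG Pr hS hz hS' hz' i.hV i.ht i.ht'
  have h2 := hirr_phiG Pr.swap hS' hz' hS hz i.hV i.ht' i.ht
  have e1 : PhiV Pr hS hz hS' hz' i ≫ PhiV Pr.swap hS' hz' hS hz i.swap =
      Proj.map ((phiG Pr hS hz hS' hz' i.hV i.t i.ht').comp (phiG Pr.swap hS' hz' hS hz i.hV i.t' i.ht))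
        (HomogeneousIdeal.irrelevant_le_map_comp h2 h1) :=
    (Proj.map_comp _ _ h2 h1).symm
  rw [e1, ← Proj.map_id]
  symm
  refine ProjMapScalar.map_eq_of_scalar _ _ hid _ ((𝒮h.str.app (op i.V)).hom (Pr.pr i.V i.t i.t'))
    (𝒮h.str_mem i.V i.hV _) fun n x hx => ?_
  exact phiR_comp Pr hS hz hS' hz' i.hV i.ht i.t' hx

variable {PC PC' : Scheme.{u}} (pC : PC ⟶ Y)
  (chartC : ∀ (U : Y.Opens) (hU : IsAffineOpen U), (((pC ⁻¹ᵁ U : PC.Opens) : Scheme.{u}) ≅ Proj (𝒮h.deg U hU)))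
  (hPC : RelProj.IsRelProj 𝒮h pC chartC) (pC' : PC' ⟶ Y)
  (chartC' : ∀ (U : Y.Opens) (hU : IsAffineOpen U), (((pC' ⁻¹ᵁ U : PC'.Opens) : Scheme.{u}) ≅ Proj (𝒮h'.deg U hU)))
  (hPC' : RelProj.IsRelProj 𝒮h' pC' chartC')

omit [L.IsQuasicoherent] [L'.IsQuasicoherent] in
/-- morphisms out of the projective closure are determined on the good charts -/
theorem hom_ext_good (hL : PicF.IsInvertible L) (hL' : PicF.IsInvertible L') {Z : Scheme.{u}} (f g : PC ⟶ Z)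
    (h : ∀ i : Good2 L L', RelProj.emb pC chartC i.V i.hV ≫ f = RelProj.emb pC chartC i.V i.hV ≫ g) :
    f = g := by
  have hc : ∀ x : PC, ∃ i : Good2 L L', x ∈ Set.range (RelProj.emb pC chartC i.V i.hV) := fun x => by
    obtain ⟨i, hi⟩ := Good2.exists_mem hL hL' (pC x)
    exact ⟨i, (RelProjQ.mem_range_emb pC chartC i.V i.hV x).2 hi⟩
  exact (Glue.cov (fun i : Good2 L L' => Proj (𝒮h.deg i.V i.hV))
    (fun i => RelProj.emb pC chartC i.V i.hV) hc).hom_ext _ _ fun i => h i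

include hPC hPC' in
/-- **the swap isomorphism** -/
theorem exists_iso (hL : PicF.IsInvertible L) (hL' : PicF.IsInvertible L') :
    ∃ Φ : PC ≅ PC', ∀ i : Good2 L L',
      RelProj.emb pC chartC i.V i.hV ≫ Φ.hom =
        PhiV Pr hS hz hS' hz' i ≫ RelProj.emb pC' chartC' i.V i.hV := by
  obtain ⟨Φ, hΦ, -⟩ := existsUnique_glue Pr hS hz hS' hz' pC chartC hPC pC' chartC' hPC' hL hL'
  obtain ⟨Ψ, hΨ, -⟩ := existsUnique_glue Pr.swap hS' hz' hS hz pC' chartC' hPC' pC chartC hPC hL' hL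
  have hΨ' : ∀ i : Good2 L L', RelProj.emb pC' chartC' i.V i.hV ≫ Ψ =
      PhiV Pr.swap hS' hz' hS hz i.swap ≫ RelProj.emb pC chartC i.V i.hV := fun i => hΨ i.swap
  have hΦ' : ∀ i : Good2 L' L, RelProj.emb pC chartC i.V i.hV ≫ Φ =
      PhiV Pr hS hz hS' hz' i.swap ≫ RelProj.emb pC' chartC' i.V i.hV := fun i => hΦ i.swap
  refine ⟨⟨Φ, Ψ, ?_, ?_⟩, fun i => hΦ i⟩
  · refine hom_ext_good pC chartC hL hL' _ _ fun i => ?_
    have h1 : RelProj.emb pC chartC i.V i.hV ≫ Φ =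
        PhiV Pr hS hz hS' hz' i ≫ RelProj.emb pC' chartC' i.V i.hV := hΦ i
    calc RelProj.emb pC chartC i.V i.hV ≫ Φ ≫ Ψ
        = (RelProj.emb pC chartC i.V i.hV ≫ Φ) ≫ Ψ := (Category.assoc _ _ _).symm
      _ = (PhiV Pr hS hz hS' hz' i ≫ RelProj.emb pC' chartC' i.V i.hV) ≫ Ψ := by rw [h1]
      _ = PhiV Pr hS hz hS' hz' i ≫ (RelProj.emb pC' chartC' i.V i.hV ≫ Ψ) := Category.assoc _ _ _
      _ = PhiV Pr hS hz hS' hz' i ≫
            (PhiV Pr.swap hS' hz' hS hz i.swap ≫ RelProj.emb pC chartC i.V i.hV) :=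
        congrArg (fun k => PhiV Pr hS hz hS' hz' i ≫ k) (hΨ' i)
      _ = (PhiV Pr hS hz hS' hz' i ≫ PhiV Pr.swap hS' hz' hS hz i.swap) ≫
            RelProj.emb pC chartC i.V i.hV := (Category.assoc _ _ _).symm
      _ = 𝟙 _ ≫ RelProj.emb pC chartC i.V i.hV :=
        congrArg (fun k => k ≫ RelProj.emb pC chartC i.V i.hV) (PhiV_comp Pr hS hz hS' hz' i)
      _ = RelProj.emb pC chartC i.V i.hV ≫ 𝟙 _ := by rw [Category.id_comp, Category.comp_id]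
  · refine hom_ext_good pC' chartC' hL' hL _ _ fun i => ?_
    have h1 : RelProj.emb pC' chartC' i.V i.hV ≫ Ψ =
        PhiV Pr.swap hS' hz' hS hz i ≫ RelProj.emb pC chartC i.V i.hV := hΨ i
    have h2 : PhiV Pr.swap hS' hz' hS hz i ≫ PhiV Pr hS hz hS' hz' i.swap = 𝟙 _ :=
      PhiV_comp Pr.swap hS' hz' hS hz i
    calc RelProj.emb pC' chartC' i.V i.hV ≫ Ψ ≫ Φ
        = (RelProj.emb pC' chartC' i.V i.hV ≫ Ψ) ≫ Φ := (Category.assoc _ _ _).symm
      _ = (PhiV Pr.swap hS' hz' hS hz i ≫ RelProj.emb pC chartC i.V i.hV) ≫ Φ := by rw [h1]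
      _ = PhiV Pr.swap hS' hz' hS hz i ≫ (RelProj.emb pC chartC i.V i.hV ≫ Φ) := Category.assoc _ _ _
      _ = PhiV Pr.swap hS' hz' hS hz i ≫
            (PhiV Pr hS hz hS' hz' i.swap ≫ RelProj.emb pC' chartC' i.V i.hV) :=
        congrArg (fun k => PhiV Pr.swap hS' hz' hS hz i ≫ k) (hΦ' i)
      _ = (PhiV Pr.swap hS' hz' hS hz i ≫ PhiV Pr hS hz hS' hz' i.swap) ≫
            RelProj.emb pC' chartC' i.V i.hV := (Category.assoc _ _ _).symm
      _ = 𝟙 _ ≫ RelProj.emb pC' chartC' i.V i.hV :=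
        congrArg (fun k => k ≫ RelProj.emb pC' chartC' i.V i.hV) h2
      _ = RelProj.emb pC' chartC' i.V i.hV ≫ 𝟙 _ := by rw [Category.id_comp, Category.comp_id]

include hPC hPC' in
/-- a morphism given chartwise by the `PhiV` lies over the base -/
theorem comp_pC' (hL : PicF.IsInvertible L) (hL' : PicF.IsInvertible L') (Φ : PC ⟶ PC')
    (hΦ : ∀ i : Good2 L L', RelProj.emb pC chartC i.V i.hV ≫ Φ =
        PhiV Pr hS hz hS' hz' i ≫ RelProj.emb pC' chartC' i.V i.hV) : Φ ≫ pC' = pC := by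
  refine hom_ext_good pC chartC hL hL' _ _ fun i => ?_
  rw [← Category.assoc, hΦ i, Category.assoc, RLPsi.emb_comp_pL i.hV pC' chartC' hPC',
    RLPsi.emb_comp_pL i.hV pC chartC hPC]
  unfold PhiV
  have e : 𝒮h'.strZero i.V i.hV ≫
      CommRingCat.ofHom (ProjMapG.zeroHom (phiG Pr hS hz hS' hz' i.hV i.t i.ht')) = 𝒮h.strZero i.V i.hV := by
    ext a
    exact phiR_str Pr hS' hz' i.hV j ι z i.t a
  rw [ProjMapG.map_toSpecZero_assoc, ← Spec.map_comp_assoc, e]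

end iso

end Groth.Agent.Lib.Helper28.ConeSwap
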