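import Groth.Agent.Lib.Helper28.ConeSwapE

/-!
# Exchanging zero and infinity: the swap isomorphism exchanges the zero section and the locus at infinity (helper28)
-/

set_option autoImplicit false
universe u
open CategoryTheory CategoryTheory.Limits AlgebraicGeometry Opposite TopologicalSpace
open HomogeneousLocalization
open scoped HomogeneousIdeal
noncomputable section

namespace Groth.Agent.Lib.Helper28.ConeSwap

open Groth.Agent.Lib.Helper28 Groth.Agent.Lib.Helper28.QCohLoc Groth.Agent.Lib.Helper28.TraceAlg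
open Groth.Agent.Lib.Helper28.GenLocus Groth.Agent.Lib.Helper28.SymAlg
open Groth.Agent.Lib.Helper28.ProjQCone (χ)
open Groth.Agent.Lib.Helper28.ConeLine
open Groth.Agent.Lib.Helper28.RelProjQ (mkSite le_of_site)
open Groth.Agent.Lib.Helper28.RelProjExists (hirr projMap_congr)

section ring

variable {A B : Type u} [CommRing A] [CommRing B] {𝒜 : ℕ → AddSubgroup A} {ℬ : ℕ → AddSubgroup B}
  [GradedRing 𝒜] [GradedRing ℬ] (ι : 𝒜 →+*ᵍ ℬ) (z : B) (hz : z ∈ ℬ 1)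
  (a0 : Away ℬ z →+* A)
  (ha0 : ∀ (q : Away ℬ z) (k : ℕ) (x : A), x ∈ 𝒜 k →
    q.val = Localization.mk (ι x) (⟨z ^ k, pow_mem (Submonoid.mem_powers z) k⟩ : Submonoid.powers z) → a0 q = x)

omit [GradedRing 𝒜] in
theorem pt_mem_basicOpen_z (x : Spec (CommRingCat.of A)) :
    ConeRing.pt z hz a0 x ∈ Proj.basicOpen ℬ z := by
  rw [← Proj.opensRange_awayι ℬ z hz one_pos]
  exact ⟨_, rfl⟩

include ha0 in
set_option backward.isDefEq.respectTransparency false in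
/-- a point of `D₊(z)` comes from the affine cone -/
theorem exists_pt_of_mem (hbij : Function.Bijective (PolyExt.ev ι z)) (w : Proj ℬ)
    (hw : w ∈ Proj.basicOpen ℬ z) : ∃ x : Spec (CommRingCat.of A), ConeRing.pt z hz a0 x = w := by
  rw [← Proj.opensRange_awayι ℬ z hz one_pos] at hw
  obtain ⟨v, rfl⟩ := hw
  let e : Away ℬ z ≃+* A := RingEquiv.ofBijective a0
    ⟨ConeRing.injective_a0 ι z hz a0 ha0 hbij, ConeRing.surjective_a0 ι z hz a0 ha0⟩
  let x : Spec (CommRingCat.of A) := Spec.map (CommRingCat.ofHom e.symm.toRingHom) v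
  have hx : Spec.map (CommRingCat.ofHom a0) x = v := by
    change (Spec.map (CommRingCat.ofHom e.symm.toRingHom) ≫ Spec.map (CommRingCat.ofHom a0)) v = v
    rw [← Spec.map_comp]
    have : CommRingCat.ofHom a0 ≫ CommRingCat.ofHom e.symm.toRingHom = 𝟙 _ := by
      ext q
      exact congrArg val (e.symm_apply_apply q)
    rw [this, Spec.map_id]
    rfl
  refine ⟨x, ?_⟩
  unfold ConeRing.pt
  rw [hx]

omit [GradedRing 𝒜] in
/-- multiplying by a unit does not change a basic open of `Proj` -/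
theorem basicOpen_unit_mul {u s : B} (hu : IsUnit u) :
    Proj.basicOpen ℬ (u * s) = Proj.basicOpen ℬ s := by
  ext y
  rw [SetLike.mem_coe, SetLike.mem_coe, Proj.mem_basicOpen, Proj.mem_basicOpen, not_iff_not]
  constructor
  · intro h
    obtain ⟨v, rfl⟩ := hu
    have h2 := Ideal.mul_mem_left y.asHomogeneousIdeal.toIdeal ((v⁻¹ : Bˣ) : B) h
    rwa [← mul_assoc, Units.inv_mul, one_mul] at h2
  · intro h
    exact Ideal.mul_mem_left _ _ h

end ring

section sets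

variable {Y : Scheme.{u}} {𝒮 𝒮h : RelProj.QCGrAlg Y}
  {ι : 𝒮.toQCAlg ⟶ 𝒮h.toQCAlg} {z : 𝒮h.presheaf.obj (op ⊤)} (hz : RelCone.IsPolyOver 𝒮 𝒮h ι z)
  {PC : Scheme.{u}} (pC : PC ⟶ Y)
  (chartC : ∀ (U : Y.Opens) (hU : IsAffineOpen U), (((pC ⁻¹ᵁ U : PC.Opens) : Scheme.{u}) ≅ Proj (𝒮h.deg U hU)))
  (hPC : RelProj.IsRelProj 𝒮h pC chartC)
  (i : 𝒮.toQCAlg.spec ⟶ PC) (hi : RelCone.IsConeImm 𝒮 hz pC chartC i)

include hPC hi in
/-- over a chart, the image of the affine cone is `D₊(z)` -/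
theorem emb_mem_range_i_iff (U : Y.Opens) (hU : IsAffineOpen U) (y : Proj (𝒮h.deg U hU)) :
    RelProj.emb pC chartC U hU y ∈ Set.range i.base ↔
      y ∈ Proj.basicOpen (𝒮h.deg U hU) (RelCone.restrictTop 𝒮h z U) := by
  constructor
  · rintro ⟨c, hc⟩
    have hcU : 𝒮.toQCAlg.π c ∈ U := by
      have h2 : pC (i c) ∈ U := by
        rw [show i c = RelProj.emb pC chartC U hU y from hc]
        exact (RelProjQ.mem_range_emb pC chartC U hU _).1 ⟨_, rfl⟩
      rwa [← Scheme.Hom.comp_apply, ConeImm.i_comp_pC hz pC chartC hPC i hi] at h2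
    obtain ⟨x, rfl⟩ := (ConeImm.mem_range_ι_iff 𝒮 hU c).2 hcU
    have hc' : i (𝒮.toQCAlg.ι U hU x) = RelProj.emb pC chartC U hU y := hc
    rw [ConeImm.i_ι_apply hz pC chartC i hi] at hc'
    have h3 := (RelProj.emb pC chartC U hU).isOpenEmbedding.injective hc'
    rw [← h3]
    exact pt_mem_basicOpen_z _ (hz.deg_z U hU) _ x
  · intro hy
    obtain ⟨x, hx⟩ := exists_pt_of_mem (χ hz U hU) _ (hz.deg_z U hU) _ (ConeImm.ha0 hz U hU)
      (ProjQCone.bij_ev hz U hU) y hy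
    refine ⟨𝒮.toQCAlg.ι U hU x, ?_⟩
    change i (𝒮.toQCAlg.ι U hU x) = _
    rw [ConeImm.i_ι_apply hz pC chartC i hi]
    exact congrArg _ hx

end sets

section swap

variable {Y : Scheme.{u}} {L L' : Y.Modules} [L.IsQuasicoherent] [L'.IsQuasicoherent] (Pr : Pairing L L')
  {𝒮 𝒮h : RelProj.QCGrAlg Y} {j : L ⟶ 𝒮.toModule} (hS : RelProj.IsGrSymAlg L 𝒮 j)
  {ι : 𝒮.toQCAlg ⟶ 𝒮h.toQCAlg} {z : 𝒮h.presheaf.obj (op ⊤)} (hz : RelCone.IsPolyOver 𝒮 𝒮h ι z)
  {𝒮' 𝒮h' : RelProj.QCGrAlg Y} {j' : L' ⟶ 𝒮'.toModule} (hS' : RelProj.IsGrSymAlg L' 𝒮' j')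
  {ι' : 𝒮'.toQCAlg ⟶ 𝒮h'.toQCAlg} {z' : 𝒮h'.presheaf.obj (op ⊤)} (hz' : RelCone.IsPolyOver 𝒮' 𝒮h' ι' z')
  {PC PC' : Scheme.{u}} (pC : PC ⟶ Y)
  (chartC : ∀ (U : Y.Opens) (hU : IsAffineOpen U), (((pC ⁻¹ᵁ U : PC.Opens) : Scheme.{u}) ≅ Proj (𝒮h.deg U hU)))
  (hPC : RelProj.IsRelProj 𝒮h pC chartC) (pC' : PC' ⟶ Y)
  (chartC' : ∀ (U : Y.Opens) (hU : IsAffineOpen U), (((pC' ⁻¹ᵁ U : PC'.Opens) : Scheme.{u}) ≅ Proj (𝒮h'.deg U hU)))
  (hPC' : RelProj.IsRelProj 𝒮h' pC' chartC')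
  (i : 𝒮.toQCAlg.spec ⟶ PC) (hi : RelCone.IsConeImm 𝒮 hz pC chartC i)
  (i' : 𝒮'.toQCAlg.spec ⟶ PC') (hi' : RelCone.IsConeImm 𝒮' hz' pC' chartC' i')

/-- the chart morphism pulls `D₊(s)` back to `D₊(φ s)` -/
theorem PhiV_mem_basicOpen_iff (k : Good2 L L') (s : 𝒮h'.presheaf.obj (op k.V)) (y : Proj (𝒮h.deg k.V k.hV)) :
    PhiV Pr hS hz hS' hz' k y ∈ Proj.basicOpen (𝒮h'.deg k.V k.hV) s ↔
      y ∈ Proj.basicOpen (𝒮h.deg k.V k.hV) (phiR Pr hS' hz' k.hV j ι z k.t s) := Iff.rfl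

include hPC hPC' hi hi' in
/-- the swap morphism pulls the affine cone of `L'` back to the pointed projective cone of `L`, and the pointed
projective cone of `L'` back to the affine cone of `L` -/
theorem swap_mem (hL : PicF.IsInvertible L) (hL' : PicF.IsInvertible L') (Φ : PC ⟶ PC')
    (hΦ : ∀ k : Good2 L L', RelProj.emb pC chartC k.V k.hV ≫ Φ =
        PhiV Pr hS hz hS' hz' k ≫ RelProj.emb pC' chartC' k.V k.hV) (w : PC) :
    (Φ w ∈ Set.range i'.base ↔ w ∈ RelCone.pointedProjCone 𝒮 hz pC chartC) ∧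
      (Φ w ∈ RelCone.pointedProjCone 𝒮' hz' pC' chartC' ↔ w ∈ Set.range i.base) := by
  obtain ⟨k, hk⟩ := Good2.exists_mem hL hL' (pC w)
  obtain ⟨y, rfl⟩ := (RelProjQ.mem_range_emb pC chartC k.V k.hV w).2 hk
  have e : Φ (RelProj.emb pC chartC k.V k.hV y) =
      RelProj.emb pC' chartC' k.V k.hV (PhiV Pr hS hz hS' hz' k y) := by
    rw [← Scheme.Hom.comp_apply, hΦ k]
    rfl
  rw [e]
  constructor
  · rw [emb_mem_range_i_iff hz' pC' chartC' hPC' i' hi', PhiV_mem_basicOpen_iff, phiR_z,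
      ConeImm.emb_mem_pointedProjCone_iff hz pC chartC hPC, domOpen_eq hS hz k.hV k.ht]
  · rw [emb_mem_range_i_iff hz pC chartC hPC i hi,
      ConeImm.emb_mem_pointedProjCone_iff hz' pC' chartC' hPC', domOpen_eq hS' hz' k.hV k.ht',
      PhiV_mem_basicOpen_iff, phiR_tauh,
      basicOpen_unit_mul (((Pr.isUnit k.V k.t k.t' k.ht k.ht').map (𝒮h.str.app (op k.V)).hom))]

end swap

section final

/-- images under a bijection of a set and of its complement -/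
theorem image_eq_of_forall {X X' : Type*} (f : X → X') (g : X' → X) (hfg : ∀ x', f (g x') = x')
    (A : Set X) (B : Set X') (h : ∀ x, f x ∈ B ↔ x ∈ A) : f '' A = B ∧ f '' Aᶜ = Bᶜ := by
  constructor
  · ext x'
    constructor
    · rintro ⟨x, hx, rfl⟩
      exact (h x).2 hx
    · intro hx'
      exact ⟨g x', (h _).1 (by rw [hfg]; exact hx'), hfg x'⟩
  · ext x'
    constructor
    · rintro ⟨x, hx, rfl⟩ hB
      exact hx ((h x).1 hB)
    · intro hx'
      refine ⟨g x', fun hA => hx' ?_, hfg x'⟩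
      have := (h _).2 hA
      rwa [hfg] at this

end final

end Groth.Agent.Lib.Helper28.ConeSwap
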