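import Groth.Agent.Lib.Helper28.VeryAmpleImm
import Groth.Agent.Lib.Helper28.TwistGenDAmple
import Groth.Agent.Lib.Helper28.ProjSect
import Groth.Agent.Lib.Helper28.ProjSpaceBasic

set_option autoImplicit false
universe u
open CategoryTheory CategoryTheory.Limits AlgebraicGeometry Opposite TopologicalSpace
open HomogeneousLocalization
noncomputable section

namespace Groth.Agent.Lib.Helper28.VeryAmpleProj

open Groth.Agent.Lib.Helper28 Groth.Agent.Lib.Helper28.QCohLoc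

theorem specMap_appLE_top {R S : CommRingCat.{u}} (φ : R ⟶ S) (h : (⊤ : (Spec S).Opens) ≤ Spec.map φ ⁻¹ᵁ ⊤) :
    (Spec.map φ).appLE ⊤ ⊤ h = (Scheme.ΓSpecIso R).hom ≫ φ ≫ (Scheme.ΓSpecIso S).inv := by
  have h1 : (Spec.map φ).appLE ⊤ ⊤ h = (Spec.map φ).appTop := Scheme.Hom.appLE_eq_app _
  rw [h1]
  have := Scheme.ΓSpecIso_naturality φ
  rw [← Category.assoc, ← this, Category.assoc, Iso.hom_inv_id, Category.comp_id]

section A
variable {A σ : Type u} [CommRing A] [SetLike σ A] [AddSubgroupClass σ A] (𝒜 : ℕ → σ) [GradedRing 𝒜]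

set_option backward.isDefEq.respectTransparency false in
theorem toSpecZero_appLE {n : ℕ} (hn : 0 < n) {f : A} (hf : f ∈ 𝒜 n) :
    (Proj.toSpecZero 𝒜).appLE ⊤ (Proj.basicOpen 𝒜 f) le_top =
      (Scheme.ΓSpecIso _).hom ≫ CommRingCat.ofHom (fromZeroRingHom 𝒜 _) ≫ Proj.awayToSection 𝒜 f := by
  have hK := ProjSect.awayToSection_appLE 𝒜 hn hf
  have hiso : IsIso (Proj.awayToSection 𝒜 f) := (Proj.basicOpenIsoAway 𝒜 f hf hn).isIso_hom
  set α := (Proj.awayι 𝒜 f hf hn).appLE (Proj.basicOpen 𝒜 f) ⊤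
      (by rw [ProjSect.awayι_preimage_self]) with hα
  have hαiso : IsIso α := by
    have : α = inv (Proj.awayToSection 𝒜 f) ≫ (Scheme.ΓSpecIso _).inv := by
      rw [IsIso.eq_inv_comp]; exact hK
    rw [this]; infer_instance
  rw [← cancel_mono α]
  simp only [Category.assoc]
  rw [hK, hα, Scheme.Hom.appLE_comp_appLE]
  have h2 := Proj.awayι_toSpecZero 𝒜 f hf hn
  rw [ProjSect.appLE_congr' h2 ⊤ ⊤ _ le_top]
  exact specMap_appLE_top _ _

end A

section B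
variable {R A : Type u} [CommRing R] [CommRing A] [Algebra R A] (𝒜 : ℕ → Submodule R A) [GradedAlgebra 𝒜]

/-- the structure morphism `Proj 𝒜 ⟶ Spec R` -/
abbrev toBase : Proj 𝒜 ⟶ Spec (CommRingCat.of R) :=
  Proj.toSpecZero 𝒜 ≫ Spec.map (CommRingCat.ofHom (algebraMap R (𝒜 0)))

theorem zero_smul_mem (n : ℕ) (r : R) : algebraMap R A r ∈ 𝒜 (0 • n) := by
  rw [zero_smul]
  exact SetLike.algebraMap_mem_graded 𝒜 r

omit [GradedAlgebra 𝒜] in
theorem one_smul_mem {n : ℕ} {y : A} (hy : y ∈ 𝒜 n) : y ∈ 𝒜 (1 • n) := by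
  rwa [one_smul]

set_option backward.isDefEq.respectTransparency false in
theorem toBase_appLE_apply {n : ℕ} (hn : 0 < n) {f : A} (hf : f ∈ 𝒜 n) (r : R) :
    (toBase 𝒜).appLE ⊤ (Proj.basicOpen 𝒜 f) le_top ((Scheme.ΓSpecIso (CommRingCat.of R)).inv r) =
      Proj.awayToSection 𝒜 f (Away.mk 𝒜 hf 0 (algebraMap R A r) (zero_smul_mem 𝒜 n r)) := by
  have h1 : (toBase 𝒜).appLE ⊤ (Proj.basicOpen 𝒜 f) le_top =
      (Spec.map (CommRingCat.ofHom (algebraMap R (𝒜 0)))).appLE ⊤ ⊤ le_top ≫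
        (Proj.toSpecZero 𝒜).appLE ⊤ (Proj.basicOpen 𝒜 f) le_top := by
    rw [Scheme.Hom.appLE_comp_appLE]
  rw [h1, specMap_appLE_top, toSpecZero_appLE 𝒜 hn hf]
  simp only [Category.assoc, Iso.inv_hom_id_assoc, CommRingCat.comp_apply]
  have h2 : (Scheme.ΓSpecIso (CommRingCat.of R)).hom ((Scheme.ΓSpecIso (CommRingCat.of R)).inv r) = r := by
    rw [← CommRingCat.comp_apply, Iso.inv_hom_id]; rfl
  rw [h2]
  show Proj.awayToSection 𝒜 f (fromZeroRingHom 𝒜 _ (algebraMap R (𝒜 0) r)) = _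
  congr 1
  apply HomogeneousLocalization.val_injective
  rw [Away.val_mk]
  show Localization.mk ((algebraMap R (𝒜 0) r : 𝒜 0) : A) _ = _
  rw [Localization.mk_eq_mk_iff, Localization.r_iff_exists]
  refine ⟨1, ?_⟩
  simp

open Groth.Agent.Lib.Helper28.GenLocus Groth.Agent.Lib.Helper28.TwistGen in
theorem mem_closure_key {n : ℕ} (hn : 0 < n) {t : ℕ} (Y : Fin (t + 1) → A) (hY : ∀ k, Y k ∈ 𝒜 n)
    (l : Fin (t + 1))
    (hgen : ∀ z : Γ(Proj 𝒜, Proj.basicOpen 𝒜 (Y l)), z ∈ Subring.closure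
      ({c | ∃ k, c = Proj.awayToSection 𝒜 (Y l) (Away.mk 𝒜 (hY l) 1 (Y k) (one_smul_mem 𝒜 (hY k)))} ∪
       {c | ∃ r : R, c = Proj.awayToSection 𝒜 (Y l)
          (Away.mk 𝒜 (hY l) 0 (algebraMap R A r) (zero_smul_mem 𝒜 n r))}))
    (W : (Proj 𝒜).Opens) (hW : W = Proj.basicOpen 𝒜 (Y l)) :
    ∀ z : Γ(Proj 𝒜, W), z ∈ Subring.closure
      ({c | ∃ k, res (Twist.twist 𝒜 (n : ℤ)) (le_top : W ≤ ⊤)
            (secOf (ofSection (Twist.twist 𝒜 (n : ℤ)) (gsec 𝒜 (Y k) (hY k)))) =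
          (c • res (Twist.twist 𝒜 (n : ℤ)) (le_top : W ≤ ⊤)
            (secOf (ofSection (Twist.twist 𝒜 (n : ℤ)) (gsec 𝒜 (Y l) (hY l)))) :
              Γ(Twist.twist 𝒜 (n : ℤ), W))} ∪
        Set.range ((toBase 𝒜).appLE ⊤ W le_top)) := by
  subst hW
  intro z
  refine Subring.closure_mono ?_ (hgen z)
  rintro c (⟨k, rfl⟩ | ⟨r, rfl⟩)
  · left
    refine ⟨k, ?_⟩
    rw [secOf_ofSection, secOf_ofSection]
    apply TwistQC.ext_val
    intro x
    rw [TwistQC.val_smul, GrTildeQC.val_valO_awayToSection 𝒜 (hY l) 1 (Y k) _ x, TwistQC.val_res, TwistQC.val_res,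
      val_gsec, val_gsec, Localization.mk_mul, Localization.mk_eq_mk_iff, Localization.r_iff_exists]
    refine ⟨1, ?_⟩
    simp only [OneMemClass.coe_one, one_mul, mul_one, pow_one]
    ring
  · right
    exact ⟨(Scheme.ΓSpecIso (CommRingCat.of R)).inv r, toBase_appLE_apply 𝒜 hn (hY l) r⟩

open Groth.Agent.Lib.Helper28.GenLocus Groth.Agent.Lib.Helper28.TwistGen in
/-- **closed immersion of `Proj` into a projective space from sections of `O(n)`** -/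
theorem exists_closedImmersion_of_sections [Algebra.FiniteType (𝒜 0) A]
    (hsurj : Function.Surjective (algebraMap R (𝒜 0)))
    {n : ℕ} (hn : 0 < n) {t : ℕ} (Y : Fin (t + 1) → A) (hY : ∀ k, Y k ∈ 𝒜 n) (I₀ : Set (Fin (t + 1)))
    (hcov : ∀ x : Proj 𝒜, ∃ l ∈ I₀, x ∈ Proj.basicOpen 𝒜 (Y l))
    (hgen : ∀ l ∈ I₀, ∀ z : Γ(Proj 𝒜, Proj.basicOpen 𝒜 (Y l)), z ∈ Subring.closure
      ({c | ∃ k, c = Proj.awayToSection 𝒜 (Y l) (Away.mk 𝒜 (hY l) 1 (Y k) (one_smul_mem 𝒜 (hY k)))} ∪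
       {c | ∃ r : R, c = Proj.awayToSection 𝒜 (Y l)
          (Away.mk 𝒜 (hY l) 0 (algebraMap R A r) (zero_smul_mem 𝒜 n r))})) :
    ∃ (N : ℕ) (i : Proj 𝒜 ⟶ CohB1.ProjSpaceOver N (Spec (CommRingCat.of R))), IsClosedImmersion i ∧
      i ≫ pullback.snd (CohB1.ProjSpace.toSpec N (ULift.{u} ℤ))
          (specULiftZIsTerminal.from (Spec (CommRingCat.of R))) = toBase 𝒜 ∧
      Nonempty (Twist.twist 𝒜 (n : ℤ) ≅
        (Scheme.Modules.pullback i).obj (Twist.twistOver N (Spec (CommRingCat.of R)) 1)) := by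
  classical
  have hcov' : ∀ x : Proj 𝒜, ∃ g : A, g ∈ 𝒜 n ∧ x ∈ Proj.basicOpen 𝒜 g := fun x => by
    obtain ⟨l, -, hx⟩ := hcov x
    exact ⟨Y l, hY l, hx⟩
  have hL : PicF.IsInvertible (Twist.twist 𝒜 (n : ℤ)) := by
    refine isInvertible_of_isGen _ fun x => ?_
    obtain ⟨g, hg, hx⟩ := hcov' x
    exact ⟨Proj.basicOpen 𝒜 g, _, hx, TwistGenD.isGen_gsecD 𝒜 hg hn⟩
  have hloc : ∀ k, CohB1.genLocus (Twist.twist 𝒜 (n : ℤ))
      (ofSection (Twist.twist 𝒜 (n : ℤ)) (gsec 𝒜 (Y k) (hY k))) = Proj.basicOpen 𝒜 (Y k) := fun k =>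
    TwistGenD.genLocus_ofSection_gsec 𝒜 (hY k) hn hcov'
  have hva : RelAmple.IsRelVeryAmplePn (toBase 𝒜) (Twist.twist 𝒜 (n : ℤ)) := by
    refine VeryAmpleImm.isRelVeryAmplePn_of_sections (toBase 𝒜) hL t
      (fun k => ofSection (Twist.twist 𝒜 (n : ℤ)) (gsec 𝒜 (Y k) (hY k))) I₀ ?_ ?_ ?_
    · intro x
      obtain ⟨l, hl, hx⟩ := hcov x
      exact ⟨l, hl, by rw [hloc]; exact hx⟩
    · intro a _
      rw [hloc]
      exact Proj.isAffineOpen_basicOpen 𝒜 _ (hY a) hn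
    · intro a ha
      exact mem_closure_key 𝒜 hn Y hY a (hgen a ha) _ (hloc a)
  obtain ⟨N, i, himm, hcomp, hiso⟩ := hva
  have hcl0 : IsClosedImmersion (Spec.map (CommRingCat.ofHom (algebraMap R (𝒜 0)))) :=
    IsClosedImmersion.spec_of_surjective _ hsurj
  have hp : IsProper (toBase 𝒜) := inferInstance
  have hprop2 := Groth.Agent.Lib.Helper28.ProjSpaceBasic.isProper_toBase N (Spec (CommRingCat.of R))
  have hip : IsProper i := by
    have : IsProper (i ≫ CohB1.ProjSpaceOver.toBase N (Spec (CommRingCat.of R))) := hcomp ▸ hp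
    exact IsProper.of_comp i (CohB1.ProjSpaceOver.toBase N (Spec (CommRingCat.of R)))
  have hcl : IsClosedImmersion i :=
    IsClosedImmersion.of_isPreimmersion i i.isClosedMap.isClosed_range
  exact ⟨N, i, hcl, hcomp, hiso⟩

end B
section C
variable {R A : Type u} [CommRing R] [CommRing A] [Algebra R A]

/-- a finite generating subset of a generating set of a finite type algebra -/
theorem exists_finset_subset_adjoin [Algebra.FiniteType R A] {S : Set A} (hS : Algebra.adjoin R S = ⊤) :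
    ∃ T : Finset A, (T : Set A) ⊆ S ∧ Algebra.adjoin R (T : Set A) = ⊤ := by
  classical
  obtain ⟨t, ht⟩ := (Algebra.FiniteType.out : (⊤ : Subalgebra R A).FG)
  have key : ∀ x ∈ Algebra.adjoin R S, ∃ T : Finset A, (T : Set A) ⊆ S ∧ x ∈ Algebra.adjoin R (T : Set A) := by
    intro x hx
    induction hx using Algebra.adjoin_induction with
    | mem x hx => exact ⟨{x}, by simpa using hx, Algebra.subset_adjoin (by simp)⟩
    | algebraMap r => exact ⟨∅, by simp, Subalgebra.algebraMap_mem _ r⟩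
    | add x y _ _ hx hy =>
      obtain ⟨T₁, h₁, hx⟩ := hx
      obtain ⟨T₂, h₂, hy⟩ := hy
      refine ⟨T₁ ∪ T₂, by simpa using ⟨h₁, h₂⟩, add_mem ?_ ?_⟩
      · exact Algebra.adjoin_mono (by simp) hx
      · exact Algebra.adjoin_mono (by simp) hy
    | mul x y _ _ hx hy =>
      obtain ⟨T₁, h₁, hx⟩ := hx
      obtain ⟨T₂, h₂, hy⟩ := hy
      refine ⟨T₁ ∪ T₂, by simpa using ⟨h₁, h₂⟩, mul_mem ?_ ?_⟩
      · exact Algebra.adjoin_mono (by simp) hx
      · exact Algebra.adjoin_mono (by simp) hy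
  have key' : ∀ x : A, ∃ T : Finset A, (T : Set A) ⊆ S ∧ x ∈ Algebra.adjoin R (T : Set A) :=
    fun x => key x (by rw [hS]; trivial)
  choose T hTS hT using key'
  refine ⟨t.biUnion T, ?_, ?_⟩
  · intro y hy
    simp only [Finset.coe_biUnion, Set.mem_iUnion] at hy
    obtain ⟨x, _, hy⟩ := hy
    exact hTS x hy
  · rw [eq_top_iff, ← ht]
    refine Algebra.adjoin_le ?_
    intro x hx
    refine Algebra.adjoin_mono ?_ (hT x)
    intro y hy
    simp only [Finset.coe_biUnion, Set.mem_iUnion]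
    exact ⟨x, hx, hy⟩

variable (𝒜 : ℕ → Submodule R A) [GradedAlgebra 𝒜]

/-- if `A` is generated by homogeneous elements of positive degree, then `A₀` is the image of `R` -/
theorem algebraMap_zero_surjective {S : Set A} (hS : Algebra.adjoin R S = ⊤)
    (hpos : ∀ x ∈ S, ∃ e : ℕ, 0 < e ∧ x ∈ 𝒜 e) : Function.Surjective (algebraMap R (𝒜 0)) := by
  have key : ∀ a ∈ Algebra.adjoin R S, ∃ r : R, (GradedRing.projZeroRingHom 𝒜 a : A) = algebraMap R A r := by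
    intro a ha
    induction ha using Algebra.adjoin_induction with
    | mem x hx =>
      obtain ⟨e, he, hxe⟩ := hpos x hx
      refine ⟨0, ?_⟩
      rw [map_zero]
      show ((DirectSum.decompose 𝒜 x 0 : 𝒜 0) : A) = 0
      rw [DirectSum.decompose_of_mem_ne 𝒜 hxe (by omega)]
    | algebraMap r =>
      refine ⟨r, ?_⟩
      show ((DirectSum.decompose 𝒜 (algebraMap R A r) 0 : 𝒜 0) : A) = _
      rw [DirectSum.decompose_of_mem_same 𝒜 (SetLike.algebraMap_mem_graded 𝒜 r)]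
    | add x y _ _ hx hy =>
      obtain ⟨r, hr⟩ := hx
      obtain ⟨r', hr'⟩ := hy
      exact ⟨r + r', by rw [map_add, map_add, hr, hr']⟩
    | mul x y _ _ hx hy =>
      obtain ⟨r, hr⟩ := hx
      obtain ⟨r', hr'⟩ := hy
      exact ⟨r * r', by rw [map_mul, map_mul, hr, hr']⟩
  intro a
  obtain ⟨r, hr⟩ := key a.1 (by rw [hS]; trivial)
  refine ⟨r, Subtype.ext ?_⟩
  have h1 : (GradedRing.projZeroRingHom 𝒜 a.1 : A) = a.1 := by
    show ((DirectSum.decompose 𝒜 a.1 0 : 𝒜 0) : A) = _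
    rw [DirectSum.decompose_of_mem_same 𝒜 a.2]
  rw [← h1, hr]
  rfl

end C

section Psi
variable {R A : Type u} [CommRing R] [CommRing A] [Algebra R A] (𝒜 : ℕ → Submodule R A) [GradedAlgebra 𝒜]
variable {n : ℕ} (hn : 0 < n) {g : A} (hg : g ∈ 𝒜 1)

include hn hg in
theorem num_mem (k : ℕ) {a : A} (ha : a ∈ 𝒜 k) : a * g ^ ((n - 1) * k) ∈ 𝒜 (k • n) := by
  have h1 : g ^ ((n - 1) * k) ∈ 𝒜 ((n - 1) * k) := TwistGen.pow_mem_one 𝒜 hg _
  have h2 := SetLike.mul_mem_graded ha h1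
  have : k + (n - 1) * k = k • n := by
    obtain ⟨n', rfl⟩ := Nat.exists_eq_succ_of_ne_zero hn.ne'
    simp only [smul_eq_mul, Nat.succ_sub_one, Nat.mul_succ]
    ring
  rwa [this] at h2

theorem away_mk_eq {d : ℕ} {f : A} (hf : f ∈ 𝒜 d) {j j' : ℕ} {a a' : A} (ha : a ∈ 𝒜 (j • d)) (ha' : a' ∈ 𝒜 (j' • d))
    (h : a * f ^ j' = a' * f ^ j) : Away.mk 𝒜 hf j a ha = Away.mk 𝒜 hf j' a' ha' := by
  apply HomogeneousLocalization.val_injective
  rw [Away.val_mk, Away.val_mk, Localization.mk_eq_mk_iff, Localization.r_iff_exists]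
  exact ⟨1, by simp only [OneMemClass.coe_one, one_mul]; rw [mul_comm, h, mul_comm]⟩

theorem away_mk_add {d : ℕ} {f : A} (hf : f ∈ 𝒜 d) (j : ℕ) {a b : A} (ha : a ∈ 𝒜 (j • d)) (hb : b ∈ 𝒜 (j • d)) :
    Away.mk 𝒜 hf j (a + b) (add_mem ha hb) = Away.mk 𝒜 hf j a ha + Away.mk 𝒜 hf j b hb := by
  apply HomogeneousLocalization.val_injective
  rw [HomogeneousLocalization.val_add, Away.val_mk, Away.val_mk, Away.val_mk, Localization.add_mk_self]

theorem away_mk_mul {d : ℕ} {f : A} (hf : f ∈ 𝒜 d) (i j : ℕ) {a b : A} (ha : a ∈ 𝒜 (i • d)) (hb : b ∈ 𝒜 (j • d)) :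
    Away.mk 𝒜 hf i a ha * Away.mk 𝒜 hf j b hb =
      Away.mk 𝒜 hf (i + j) (a * b) (by rw [add_smul]; exact SetLike.mul_mem_graded ha hb) := by
  apply HomogeneousLocalization.val_injective
  rw [HomogeneousLocalization.val_mul, Away.val_mk, Away.val_mk, Away.val_mk, Localization.mk_mul]
  congr 1
  exact Subtype.ext (pow_add f i j).symm

theorem away_mk_eq_one {d : ℕ} {f : A} (hf : f ∈ 𝒜 d) (j : ℕ) {a : A} (ha : a ∈ 𝒜 (j • d)) (h : a = f ^ j) :
    Away.mk 𝒜 hf j a ha = 1 := by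
  apply HomogeneousLocalization.val_injective
  rw [Away.val_mk, HomogeneousLocalization.val_one]
  subst h
  exact Localization.mk_self (⟨f ^ j, _⟩ : Submonoid.powers f)

/-- the degree `k` piece of the dehomogenisation map `a ↦ a / g^k`, with values in `Γ(Proj, D₊(g^n))` -/
def psiPiece (k : ℕ) : 𝒜 k →+ Γ(Proj 𝒜, Proj.basicOpen 𝒜 (g ^ n)) where
  toFun a := Proj.awayToSection 𝒜 (g ^ n)
    (Away.mk 𝒜 (TwistGen.pow_mem_one 𝒜 hg n) k (a.1 * g ^ ((n - 1) * k)) (num_mem 𝒜 hn hg k a.2))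
  map_zero' := by
    have : Away.mk 𝒜 (TwistGen.pow_mem_one 𝒜 hg n) k (((0 : 𝒜 k) : A) * g ^ ((n - 1) * k))
        (num_mem 𝒜 hn hg k (0 : 𝒜 k).2) = 0 := by
      apply HomogeneousLocalization.val_injective
      rw [Away.val_mk, HomogeneousLocalization.val_zero]
      simp [Localization.mk_zero]
    rw [this, map_zero]
  map_add' a b := by
    have : Away.mk 𝒜 (TwistGen.pow_mem_one 𝒜 hg n) k (((a + b : 𝒜 k) : A) * g ^ ((n - 1) * k))
        (num_mem 𝒜 hn hg k (a + b).2) =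
        Away.mk 𝒜 (TwistGen.pow_mem_one 𝒜 hg n) k (a.1 * g ^ ((n - 1) * k)) (num_mem 𝒜 hn hg k a.2) +
        Away.mk 𝒜 (TwistGen.pow_mem_one 𝒜 hg n) k (b.1 * g ^ ((n - 1) * k)) (num_mem 𝒜 hn hg k b.2) := by
      rw [← away_mk_add]
      congr 1
      simp [add_mul]
    rw [this, map_add]

/-- the dehomogenisation ring homomorphism `A → Γ(Proj, D₊(g^n))`, `a ↦ Σ a_k / g^k` -/
def psi : A →+* Γ(Proj 𝒜, Proj.basicOpen 𝒜 (g ^ n)) :=
  (DirectSum.toSemiring (psiPiece 𝒜 hn hg)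
    (by
      show Proj.awayToSection 𝒜 (g ^ n) (Away.mk 𝒜 _ 0 _ _) = 1
      rw [away_mk_eq_one 𝒜 _ 0 _ (by simp [SetLike.coe_gOne]), map_one])
    (by
      intro i j ai aj
      show Proj.awayToSection 𝒜 (g ^ n) _ = Proj.awayToSection 𝒜 (g ^ n) _ * Proj.awayToSection 𝒜 (g ^ n) _
      rw [← map_mul, away_mk_mul]
      congr 2
      show (ai.1 * aj.1) * g ^ ((n - 1) * (i + j)) = _
      ring)).comp (DirectSum.decomposeRingEquiv 𝒜).toRingHom

theorem psi_of_mem {k : ℕ} {a : A} (ha : a ∈ 𝒜 k) :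
    psi 𝒜 hn hg a = Proj.awayToSection 𝒜 (g ^ n)
      (Away.mk 𝒜 (TwistGen.pow_mem_one 𝒜 hg n) k (a * g ^ ((n - 1) * k)) (num_mem 𝒜 hn hg k ha)) := by
  unfold psi
  rw [RingHom.comp_apply]
  show DirectSum.toSemiring _ _ _ (DirectSum.decompose 𝒜 a) = _
  rw [DirectSum.decompose_of_mem 𝒜 ha, DirectSum.toSemiring_of]
  rfl

end Psi

section F
variable {R A : Type u} [CommRing R] [CommRing A] [Algebra R A] (𝒜 : ℕ → Submodule R A) [GradedAlgebra 𝒜]

theorem isScalarTower_zero : IsScalarTower R (𝒜 0) A := ⟨fun r a x => by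
  show ((r • a : 𝒜 0) : A) * x = r • ((a : A) * x)
  rw [Submodule.coe_smul, smul_mul_assoc]⟩

theorem finiteType_zero [Algebra.FiniteType R A] : Algebra.FiniteType (𝒜 0) A :=
  haveI := isScalarTower_zero 𝒜
  Algebra.FiniteType.of_restrictScalars_finiteType R (𝒜 0) A

theorem away_mk_congr {d : ℕ} {f : A} (hf : f ∈ 𝒜 d) (j : ℕ) {a a' : A} (ha : a ∈ 𝒜 (j • d)) (h : a = a') :
    Away.mk 𝒜 hf j a ha = Away.mk 𝒜 hf j a' (h ▸ ha) := by
  subst h; rfl

theorem exp_aux {n e : ℕ} (hn : 0 < n) (he : e ≤ n) : (n - 1) * e + n = (n - e) + n * e := by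
  obtain ⟨n', rfl⟩ := Nat.exists_eq_succ_of_ne_zero hn.ne'
  obtain ⟨q, hq⟩ := Nat.exists_eq_add_of_le he
  rw [hq]
  simp only [Nat.add_sub_cancel_left]
  have : n' = e + q - 1 := by omega
  subst this
  rcases Nat.eq_zero_or_pos (e + q) with h | h
  · omega
  · have h2 : e + q - 1 + 1 = e + q := by omega
    calc (e + q - 1) * e + (e + q) = (e + q - 1) * e + 1 * e + q := by ring
      _ = (e + q - 1 + 1) * e + q := by ring
      _ = (e + q) * e + q := by rw [h2]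
      _ = q + (e + q) * e := by ring

/-- ratio generation on `D₊(g^n)`, for `g` of degree one -/
theorem mem_closure_degOne {n : ℕ} (hn : 0 < n) {g : A} (hg : g ∈ 𝒜 1) (T : Set A)
    (hT : Algebra.adjoin R T = ⊤) (y : A) (hy : y ∈ 𝒜 n) (hyg : y = g ^ n)
    (S : Set Γ(Proj 𝒜, Proj.basicOpen 𝒜 y))
    (hR : ∀ r : R, Proj.awayToSection 𝒜 y (Away.mk 𝒜 hy 0 (algebraMap R A r) (zero_smul_mem 𝒜 n r)) ∈
      Subring.closure S)
    (hS : ∀ x ∈ T, ∃ (e : ℕ) (_ : e ≤ n) (hx : x ∈ 𝒜 e),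
      Proj.awayToSection 𝒜 y (Away.mk 𝒜 hy 1 (x * g ^ (n - e))
        (by rw [one_smul]
            have := SetLike.mul_mem_graded hx (TwistGen.pow_mem_one 𝒜 hg (n - e))
            rwa [Nat.add_sub_cancel' ‹e ≤ n›] at this)) ∈ Subring.closure S) :
    ∀ z : Γ(Proj 𝒜, Proj.basicOpen 𝒜 y), z ∈ Subring.closure S := by
  subst hyg
  have hF : g ^ n ∈ 𝒜 n := hy
  have key : ∀ a : A, psi 𝒜 hn hg a ∈ Subring.closure S := by
    intro a
    have ha : a ∈ Algebra.adjoin R T := by rw [hT]; trivial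
    induction ha using Algebra.adjoin_induction with
    | mem x hx =>
      obtain ⟨e, he, hxe, hmem⟩ := hS x hx
      rw [psi_of_mem 𝒜 hn hg hxe]
      convert hmem using 2
      refine away_mk_eq 𝒜 _ _ _ ?_
      rw [pow_one, ← pow_mul, mul_assoc, mul_assoc, ← pow_add, ← pow_add, exp_aux hn he]
    | algebraMap r =>
      rw [psi_of_mem 𝒜 hn hg (SetLike.algebraMap_mem_graded 𝒜 r)]
      convert hR r using 2
      refine away_mk_eq 𝒜 _ _ _ ?_
      simp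
    | add x y _ _ hx hy => rw [map_add]; exact add_mem hx hy
    | mul x y _ _ hx hy => rw [map_mul]; exact mul_mem hx hy
  intro z
  obtain ⟨j, a, ha, rfl⟩ := GrTildeQC.exists_awayToSection 𝒜 hn hF z
  have h1 := key a
  rw [psi_of_mem 𝒜 hn hg ha] at h1
  convert h1 using 2
  refine away_mk_eq 𝒜 _ _ _ ?_
  rw [← pow_mul, ← pow_mul, mul_assoc, ← pow_add]
  congr 2
  simp only [smul_eq_mul]
  obtain ⟨n', rfl⟩ := Nat.exists_eq_succ_of_ne_zero hn.ne'
  simp only [Nat.succ_sub_one, Nat.succ_eq_add_one]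
  ring

/-- **S13183**: closed immersion by `O(n)`, `n ≥ d`, when `Proj` is covered in degree one -/
theorem exists_closedImmersion_degOne (d : ℕ)
    (hgen : Algebra.adjoin R (⋃ i ∈ Finset.Icc 1 d, (𝒜 i : Set A)) = ⊤)
    (hcov : (⨆ g : 𝒜 1, Proj.basicOpen 𝒜 (g : A)) = ⊤) [Algebra.FiniteType R A] (n : ℕ) (hn : d ≤ n)
    (hn1 : 0 < n) :
    ∃ (N : ℕ) (i : Proj 𝒜 ⟶ CohB1.ProjSpaceOver N (Spec (CommRingCat.of R))), IsClosedImmersion i ∧
      i ≫ pullback.snd (CohB1.ProjSpace.toSpec N (ULift.{u} ℤ))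
          (specULiftZIsTerminal.from (Spec (CommRingCat.of R))) = toBase 𝒜 ∧
      Nonempty (Twist.twist 𝒜 (n : ℤ) ≅
        (Scheme.Modules.pullback i).obj (Twist.twistOver N (Spec (CommRingCat.of R)) 1)) := by
  classical
  have := finiteType_zero 𝒜
  have : CompactSpace (Proj 𝒜) := QuasiCompact.compactSpace_of_compactSpace (Proj.toSpecZero 𝒜)
  have hpos : ∀ x ∈ (⋃ i ∈ Finset.Icc 1 d, (𝒜 i : Set A)), ∃ e, 1 ≤ e ∧ e ≤ d ∧ x ∈ 𝒜 e := by
    intro x hx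
    simp only [Set.mem_iUnion, Finset.mem_Icc] at hx
    obtain ⟨i, ⟨h1, h2⟩, hx⟩ := hx
    exact ⟨i, h1, h2, hx⟩
  have hsurj := algebraMap_zero_surjective 𝒜 hgen (fun x hx => by
    obtain ⟨e, h1, _, hx⟩ := hpos x hx
    exact ⟨e, h1, hx⟩)
  obtain ⟨T, hTS, hT⟩ := exists_finset_subset_adjoin hgen
  have hTdeg : ∀ x : T, ∃ e, 1 ≤ e ∧ e ≤ d ∧ x.1 ∈ 𝒜 e := fun x => hpos x.1 (hTS x.2)
  choose ex hex1 hexd hexmem using hTdeg
  obtain ⟨t, ht⟩ : ∃ t : Finset (𝒜 1), ∀ x : Proj 𝒜, ∃ g ∈ t, x ∈ Proj.basicOpen 𝒜 (g : A) := by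
    obtain ⟨t, ht⟩ := isCompact_univ.elim_finite_subcover
      (fun g : 𝒜 1 => ((Proj.basicOpen 𝒜 (g : A) : (Proj 𝒜).Opens) : Set (Proj 𝒜)))
      (fun g => (Proj.basicOpen 𝒜 (g : A)).isOpen) (by
        intro x _
        have hx : x ∈ (⨆ g : 𝒜 1, Proj.basicOpen 𝒜 (g : A)) := by rw [hcov]; trivial
        obtain ⟨g, hg⟩ := Opens.mem_iSup.1 hx
        exact Set.mem_iUnion.2 ⟨g, hg⟩)
    refine ⟨t, fun x => ?_⟩
    have := ht (Set.mem_univ x)
    simp only [Set.mem_iUnion] at this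
    obtain ⟨g, hg, hx⟩ := this
    exact ⟨g, hg, hx⟩
  let J := Option (t × Option T)
  have hcard : Fintype.card J ≠ 0 := Fintype.card_ne_zero
  obtain ⟨t₀, ht₀⟩ := Nat.exists_eq_succ_of_ne_zero hcard
  let eqv : J ≃ Fin (t₀ + 1) := Fintype.equivFinOfCardEq ht₀
  let Yf : J → A := fun j => match j with
    | none => 0
    | some (l, none) => (l.1 : A) ^ n
    | some (l, some x) => x.1 * (l.1 : A) ^ (n - ex x)
  have hYf : ∀ j, Yf j ∈ 𝒜 n := by
    rintro (_ | ⟨l, _ | x⟩)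
    · exact zero_mem _
    · exact TwistGen.pow_mem_one 𝒜 l.1.2 n
    · have := SetLike.mul_mem_graded (hexmem x) (TwistGen.pow_mem_one 𝒜 l.1.2 (n - ex x))
      rwa [Nat.add_sub_cancel' ((hexd x).trans hn)] at this
  refine exists_closedImmersion_of_sections 𝒜 hsurj hn1 (fun k => Yf (eqv.symm k)) (fun k => hYf _)
    {k | ∃ l, eqv.symm k = some (l, none)} ?_ ?_
  · intro x
    obtain ⟨g, hg, hx⟩ := ht x
    refine ⟨eqv (some (⟨g, hg⟩, none)), ⟨⟨g, hg⟩, by simp⟩, ?_⟩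
    show x ∈ Proj.basicOpen 𝒜 (Yf (eqv.symm (eqv _)))
    rw [Equiv.symm_apply_apply]
    show x ∈ Proj.basicOpen 𝒜 ((g : A) ^ n)
    rw [Proj.basicOpen_pow 𝒜 _ _ hn1]; exact hx
  · rintro k ⟨l, hl⟩
    refine mem_closure_degOne 𝒜 hn1 l.1.2 (T : Set A) hT (Yf (eqv.symm k)) (hYf _)
      (by rw [hl]) _ ?_ ?_
    · intro r; exact Subring.subset_closure (Or.inr ⟨r, rfl⟩)
    · intro x hx
      refine ⟨ex ⟨x, hx⟩, (hexd _).trans hn, hexmem ⟨x, hx⟩, ?_⟩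
      refine Subring.subset_closure (Or.inl ⟨eqv (some (l, some ⟨x, hx⟩)), ?_⟩)
      congr 1
      refine away_mk_congr 𝒜 _ 1 _ ?_
      show _ = Yf (eqv.symm (eqv _))
      rw [Equiv.symm_apply_apply]

end F

end Groth.Agent.Lib.Helper28.VeryAmpleProj
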