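import Groth.Agent.Lib.Helper28.RLPsiU11
import Groth.Agent.Lib.Helper28.RelProjAmple
import Groth.Agent.Lib.Helper28.VeryAmpleProj

set_option autoImplicit false
universe u
open CategoryTheory CategoryTheory.Limits AlgebraicGeometry Opposite TopologicalSpace
open HomogeneousLocalization
open scoped HomogeneousIdeal
noncomputable section

namespace Groth.Agent.Lib.Helper28.RLPsiV

open Groth.Agent.Lib.Helper28 Groth.Agent.Lib.Helper28.QCohLoc Groth.Agent.Lib.Helper28.TraceAlg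
open Groth.Agent.Lib.Helper28.GenLocus Groth.Agent.Lib.Helper28.SymAlg
open Groth.Agent.Lib.Helper28.RLPsi Groth.Agent.Lib.Helper28.RelTwistVal Groth.Agent.Lib.Helper28.RLPsiU

section base

variable {Y P : Scheme.{u}} {𝒮 : RelProj.QCGrAlg Y} {p : P ⟶ Y}
  {chart : ∀ (U : Y.Opens) (hU : IsAffineOpen U), (((p ⁻¹ᵁ U : P.Opens) : Scheme.{u}) ≅ Proj (𝒮.deg U hU))}
  (hP : RelProj.IsRelProj 𝒮 p chart)

include hP in
set_option backward.isDefEq.respectTransparency false in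
/-- the value of a function pulled back from the base -/
theorem cvO_base {U : Y.Opens} (hU : IsAffineOpen U) {W₁ : P.Opens} (hle : W₁ ≤ p ⁻¹ᵁ U)
    (a : Γ(Y, U)) (y : Proj (𝒮.deg U hU)) (hy : (RelProj.emb p chart U hU).base y ∈ W₁) :
    cvO p chart hU (p.appLE U W₁ hle a) y hy = Localization.mk ((𝒮.str.app (op U)).hom a) 1 := by
  obtain ⟨d, f, hd, hf, hyf, hfle⟩ := exists_pos_basicOpen_le (𝒮.deg U hU)
    ((RelProj.emb p chart U hU) ⁻¹ᵁ W₁) y hy
  unfold cvO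
  have h1 : GrModQC.valO (𝒮.deg U hU) ((RelProj.emb p chart U hU).app W₁ (p.appLE U W₁ hle a)) ⟨y, hy⟩ =
      GrModQC.valO (𝒮.deg U hU) (resO hfle ((RelProj.emb p chart U hU).app W₁ (p.appLE U W₁ hle a))) ⟨y, hyf⟩ := rfl
  rw [h1]
  have hcomp : RelProj.emb p chart U hU ≫ p =
      Proj.toSpecZero (𝒮.deg U hU) ≫ Spec.map (𝒮.strZero U hU) ≫ hU.fromSpec :=
    emb_comp_pL hU p chart hP
  have hleU : Proj.basicOpen (𝒮.deg U hU) f ≤ (RelProj.emb p chart U hU ≫ p) ⁻¹ᵁ U := by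
    intro z hz
    exact hle (hfle hz)
  have h2 : resO hfle ((RelProj.emb p chart U hU).app W₁ (p.appLE U W₁ hle a)) =
      ((RelProj.emb p chart U hU ≫ p).appLE U (Proj.basicOpen (𝒮.deg U hU) f) hleU).hom a := by
    rw [← Scheme.Hom.appLE_comp_appLE _ _ U W₁ (Proj.basicOpen (𝒮.deg U hU) f) hle hfle, CommRingCat.comp_apply]
    rfl
  rw [h2]
  have hpre : hU.fromSpec ⁻¹ᵁ U = ⊤ := hU.fromSpec_preimage_self
  have hle1 : (⊤ : (Spec (CommRingCat.of (𝒮.deg U hU 0))).Opens) ≤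
      (Spec.map (𝒮.strZero U hU) ≫ hU.fromSpec) ⁻¹ᵁ U := by
    rw [Scheme.Hom.comp_preimage, hpre, Scheme.Hom.preimage_top]
  have hle2 : Proj.basicOpen (𝒮.deg U hU) f ≤
      (Proj.toSpecZero (𝒮.deg U hU) ≫ Spec.map (𝒮.strZero U hU) ≫ hU.fromSpec) ⁻¹ᵁ U := by
    rw [← hcomp]; exact hleU
  rw [ProjSect.appLE_congr' hcomp U (Proj.basicOpen (𝒮.deg U hU) f) hleU hle2,
    ← Scheme.Hom.appLE_comp_appLE (Proj.toSpecZero (𝒮.deg U hU)) (Spec.map (𝒮.strZero U hU) ≫ hU.fromSpec)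
      U ⊤ (Proj.basicOpen (𝒮.deg U hU) f) hle1 le_top,
    ← Scheme.Hom.appLE_comp_appLE (Spec.map (𝒮.strZero U hU)) hU.fromSpec U ⊤ ⊤ hpre.ge le_top,
    VeryAmpleProj.specMap_appLE_top, VeryAmpleProj.toSpecZero_appLE (𝒮.deg U hU) hd hf]
  have h3 : hU.fromSpec.appLE U ⊤ hpre.ge = (Scheme.ΓSpecIso Γ(Y, U)).inv := by
    unfold Scheme.Hom.appLE
    rw [hU.fromSpec_app_self, Category.assoc, ← Functor.map_comp]
    have h4 : ((eqToHom hU.fromSpec_preimage_self).op ≫ (homOfLE hpre.ge).op) = 𝟙 _ := Subsingleton.elim _ _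
    rw [h4, CategoryTheory.Functor.map_id, Category.comp_id]
  rw [h3]
  simp only [Category.assoc, Iso.inv_hom_id_assoc, CommRingCat.comp_apply]
  rfl

end base

section sig

variable {Y P : Scheme.{u}} {𝒮 : RelProj.QCGrAlg Y} {p : P ⟶ Y}
  {chart : ∀ (U : Y.Opens) (hU : IsAffineOpen U), (((p ⁻¹ᵁ U : P.Opens) : Scheme.{u}) ≅ Proj (𝒮.deg U hU))}
  (hP : RelProj.IsRelProj 𝒮 p chart)
  {O1 : P.Modules}
  {lam : ∀ (U : Y.Opens) (hU : IsAffineOpen U),
    O1 ⟶ (Scheme.Modules.pushforward (RelProj.emb p chart U hU)).obj (GrTwist.twist (𝒮.deg U hU) ((1 : ℕ) : ℤ))}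
  (hO : RelProj.IsRelTwist 𝒮 p chart ((1 : ℕ) : ℤ) O1 lam)
  {U : Y.Opens} (hU : IsAffineOpen U)

theorem cv_add {κ : ℤ} {L : P.Modules}
    (lam : ∀ (U : Y.Opens) (hU : IsAffineOpen U),
      L ⟶ (Scheme.Modules.pushforward (RelProj.emb p chart U hU)).obj (GrTwist.twist (𝒮.deg U hU) κ))
    {W₁ : P.Opens} (s t : Γ(L, W₁)) (y : Proj (𝒮.deg U hU))
    (hy : (RelProj.emb p chart U hU).base y ∈ W₁) :
    cv lam hU (s + t) y hy = cv lam hU s y hy + cv lam hU t y hy := by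
  unfold cv
  rw [map_add]
  rfl

theorem cvO_add {W₁ : P.Opens} (c c' : Γ(P, W₁)) (y : Proj (𝒮.deg U hU))
    (hy : (RelProj.emb p chart U hU).base y ∈ W₁) :
    cvO p chart hU (c + c') y hy = cvO p chart hU c y hy + cvO p chart hU c' y hy := by
  unfold cvO
  rw [map_add]
  exact HomogeneousLocalization.val_add _ _

/-- the section of `O_P(1)` over `p⁻¹U` defined by an element of degree one -/
def sig (a : 𝒮.presheaf.obj (op U)) (ha : a ∈ 𝒮.deg U hU 1) : Γ(O1, p ⁻¹ᵁ U) :=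
  Classical.choose (RelProjAmple.exists_section hO hU a ha)

theorem cv_sig (a : 𝒮.presheaf.obj (op U)) (ha : a ∈ 𝒮.deg U hU 1) (y : Proj (𝒮.deg U hU))
    (hy : (RelProj.emb p chart U hU).base y ∈ p ⁻¹ᵁ U) :
    cv lam hU (sig hO hU a ha) y hy = Localization.mk a 1 :=
  Classical.choose_spec (RelProjAmple.exists_section hO hU a ha) y hy

theorem sig_add (a b : 𝒮.presheaf.obj (op U)) (ha : a ∈ 𝒮.deg U hU 1) (hb : b ∈ 𝒮.deg U hU 1) :
    sig hO hU (a + b) (add_mem ha hb) = sig hO hU a ha + sig hO hU b hb := by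
  refine ext_cv hO hU le_rfl _ _ fun y hy => ?_
  rw [cv_add, cv_sig, cv_sig, cv_sig, Localization.add_mk_self]

include hP in
theorem sig_smul (r : Γ(Y, U)) (a : 𝒮.presheaf.obj (op U)) (ha : a ∈ 𝒮.deg U hU 1)
    (hra : (𝒮.str.app (op U)).hom r * a ∈ 𝒮.deg U hU 1) :
    sig hO hU ((𝒮.str.app (op U)).hom r * a) hra = (p.app U r • sig hO hU a ha : Γ(O1, p ⁻¹ᵁ U)) := by
  refine ext_cv hO hU le_rfl _ _ fun y hy => ?_
  have h1 : p.app U r = p.appLE U (p ⁻¹ᵁ U) le_rfl r := by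
    rw [Scheme.Hom.appLE_eq_app]
  rw [cv_smul, cv_sig, cv_sig, h1, cvO_base hP hU le_rfl r y hy, Localization.mk_mul, one_mul]

end sig

section reads

variable {Y P : Scheme.{u}} {𝒮 : RelProj.QCGrAlg Y} {p : P ⟶ Y}
  {chart : ∀ (U : Y.Opens) (hU : IsAffineOpen U), (((p ⁻¹ᵁ U : P.Opens) : Scheme.{u}) ≅ Proj (𝒮.deg U hU))}
  (hP : RelProj.IsRelProj 𝒮 p chart)
  {U : Y.Opens} (hU : IsAffineOpen U)

theorem WPU_le (b : 𝒮.presheaf.obj (op U)) : WPU p chart hU b ≤ p ⁻¹ᵁ U :=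
  (Scheme.Hom.image_le_opensRange _ _).trans (RelProjQC.opensRange_emb p chart U hU).le

theorem not_mem_of_mem_WPU (b : 𝒮.presheaf.obj (op U)) (y : Proj (𝒮.deg U hU))
    (hy : (RelProj.emb p chart U hU).base y ∈ WPU p chart hU b) : b ∉ y.asHomogeneousIdeal := by
  obtain ⟨y', hy', hyy'⟩ := hy
  have : y' = y := (RelProj.emb p chart U hU).isOpenEmbedding.injective hyy'
  subst this
  exact (Proj.mem_basicOpen _ b y').1 hy'

theorem mem_WPU_iff (b : 𝒮.presheaf.obj (op U)) (y : Proj (𝒮.deg U hU)) :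
    (RelProj.emb p chart U hU).base y ∈ WPU p chart hU b ↔ b ∉ y.asHomogeneousIdeal :=
  ⟨not_mem_of_mem_WPU hU b y, fun h => ⟨y, (Proj.mem_basicOpen _ b y).2 h, rfl⟩⟩

variable (p chart) in
/-- the function `c` reads as the fraction `a / b` -/
def ReadsO {W₁ : P.Opens} (c : Γ(P, W₁)) (a b : 𝒮.presheaf.obj (op U)) : Prop :=
  ∀ (y : Proj (𝒮.deg U hU)) (hy : (RelProj.emb p chart U hU).base y ∈ W₁),
    cvO p chart hU c y hy * Localization.mk b 1 = Localization.mk a 1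

variable {hU}

theorem ReadsO.mul {W₁ : P.Opens} {c c' : Γ(P, W₁)} {a b a' b' : 𝒮.presheaf.obj (op U)}
    (h : ReadsO p chart hU c a b) (h' : ReadsO p chart hU c' a' b') : ReadsO p chart hU (c * c') (a * a') (b * b') := by
  intro y hy
  have h1 : (Localization.mk (b * b') 1 : GrTwist.Loc (𝒮.deg U hU) y) =
      Localization.mk b 1 * Localization.mk b' 1 := by
    rw [Localization.mk_mul, one_mul]
  have h2 : (Localization.mk (a * a') 1 : GrTwist.Loc (𝒮.deg U hU) y) =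
      Localization.mk a 1 * Localization.mk a' 1 := by
    rw [Localization.mk_mul, one_mul]
  rw [cvO_mul, h1, h2, ← h y hy, ← h' y hy]
  ring

theorem ReadsO.add {W₁ : P.Opens} {c c' : Γ(P, W₁)} {a a' b : 𝒮.presheaf.obj (op U)}
    (h : ReadsO p chart hU c a b) (h' : ReadsO p chart hU c' a' b) : ReadsO p chart hU (c + c') (a + a') b := by
  intro y hy
  rw [cvO_add, add_mul, h y hy, h' y hy, Localization.add_mk_self]

theorem ReadsO.one {W₁ : P.Opens} : ReadsO p chart hU (1 : Γ(P, W₁)) (1 : 𝒮.presheaf.obj (op U)) 1 := by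
  intro y hy
  rw [cvO_one, one_mul]

theorem ReadsO.pow {W₁ : P.Opens} {c : Γ(P, W₁)} {a b : 𝒮.presheaf.obj (op U)}
    (h : ReadsO p chart hU c a b) (n : ℕ) : ReadsO p chart hU (c ^ n) (a ^ n) (b ^ n) := by
  induction n with
  | zero =>
    rw [pow_zero, pow_zero, pow_zero]
    exact ReadsO.one
  | succ n ih =>
    rw [pow_succ, pow_succ, pow_succ]
    exact ih.mul h

theorem ReadsO.resO {W₁ W₂ : P.Opens} (hle : W₂ ≤ W₁) {c : Γ(P, W₁)} {a b : 𝒮.presheaf.obj (op U)}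
    (h : ReadsO p chart hU c a b) : ReadsO p chart hU (QCohLoc.resO hle c) a b := by
  intro y hy
  rw [cvO_resO]
  exact h y (hle hy)

include hP in
theorem ReadsO.base {W₁ : P.Opens} (hle : W₁ ≤ p ⁻¹ᵁ U) (r : Γ(Y, U)) :
    ReadsO p chart hU (p.appLE U W₁ hle r) ((𝒮.str.app (op U)).hom r) 1 := by
  intro y hy
  rw [cvO_base hP hU hle r y hy, Localization.mk_mul, mul_one, one_mul]

/-- a function is determined by the fraction it reads -/
theorem ReadsO.unique {W₁ : P.Opens} {c c' : Γ(P, W₁)} {a b : 𝒮.presheaf.obj (op U)}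
    (hW : W₁ ≤ WPU p chart hU b) (h : ReadsO p chart hU c a b) (h' : ReadsO p chart hU c' a b) : c = c' := by
  refine ext_cvO (𝒮 := 𝒮) (chart := chart) hU (hW.trans (WPU_le hU b)) c c' fun y hy => ?_
  have hb : b ∉ y.asHomogeneousIdeal := not_mem_of_mem_WPU hU b y (hW hy)
  have hu : IsUnit (Localization.mk b 1 : GrTwist.Loc (𝒮.deg U hU) y) :=
    (GrModQC.isUnit_mk_iff (𝒮.deg U hU) y b 1).2 hb
  exact hu.mul_left_injective ((h y hy).trans (h' y hy).symm)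

/-- where a function reading `a / b` is invertible -/
theorem ReadsO.mem_basicOpen_iff {W₁ : P.Opens} {c : Γ(P, W₁)} {a b : 𝒮.presheaf.obj (op U)}
    (hW : W₁ ≤ WPU p chart hU b) (h : ReadsO p chart hU c a b) (y : Proj (𝒮.deg U hU))
    (hy : (RelProj.emb p chart U hU).base y ∈ W₁) :
    (RelProj.emb p chart U hU).base y ∈ P.basicOpen c ↔ a ∉ y.asHomogeneousIdeal := by
  have hb : b ∉ y.asHomogeneousIdeal := not_mem_of_mem_WPU hU b y (hW hy)
  have hu : IsUnit (Localization.mk b 1 : GrTwist.Loc (𝒮.deg U hU) y) :=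
    (GrModQC.isUnit_mk_iff (𝒮.deg U hU) y b 1).2 hb
  rw [mem_basicOpen_iff_isUnit_cvO hU c y hy, ← GrModQC.isUnit_mk_iff (𝒮.deg U hU) y a 1, ← h y hy,
    IsUnit.mul_iff]
  exact ⟨fun h1 => ⟨h1, hu⟩, fun h1 => h1.1⟩

end reads

section gen

variable {Y P : Scheme.{u}} {𝒮 : RelProj.QCGrAlg Y} {p : P ⟶ Y}
  {chart : ∀ (U : Y.Opens) (hU : IsAffineOpen U), (((p ⁻¹ᵁ U : P.Opens) : Scheme.{u}) ≅ Proj (𝒮.deg U hU))}
  (hP : RelProj.IsRelProj 𝒮 p chart)
  {O1 : P.Modules}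
  {lam : ∀ (U : Y.Opens) (hU : IsAffineOpen U),
    O1 ⟶ (Scheme.Modules.pushforward (RelProj.emb p chart U hU)).obj (GrTwist.twist (𝒮.deg U hU) ((1 : ℕ) : ℤ))}
  (hO : RelProj.IsRelTwist 𝒮 p chart ((1 : ℕ) : ℤ) O1 lam)
  {U : Y.Opens} (hU : IsAffineOpen U)

/-- `σ_m` generates `O_P(1)` over `D₊(m)` -/
theorem isGen_sig (m : 𝒮.presheaf.obj (op U)) (hm : m ∈ 𝒮.deg U hU 1) :
    IsGen O1 (WPU p chart hU m) (res O1 (WPU_le hU m) (sig hO hU m hm)) := by
  obtain ⟨g, hg, hread⟩ := exists_gen_reads hO hU hm one_pos 1 (by norm_num)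
  have h1 : res O1 (WPU_le hU m) (sig hO hU m hm) = g := by
    refine ext_cv hO hU (WPU_le hU m) _ _ fun y hy => ?_
    obtain ⟨hmy, hval⟩ := hread y hy
    rw [cv_res, cv_sig]
    refine Eq.trans ?_ hval.symm
    unfold GrTwistGenVal.pw
    rw [Localization.mk_eq_mk_iff, Localization.r_iff_exists]
    refine ⟨1, ?_⟩
    simp
  rw [h1]
  exact hg

/-- the coefficient of `σ_a` with respect to the generator `σ_m` reads `a / m` -/
theorem exists_coef (m : 𝒮.presheaf.obj (op U)) (hm : m ∈ 𝒮.deg U hU 1)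
    (a : 𝒮.presheaf.obj (op U)) (ha : a ∈ 𝒮.deg U hU 1) :
    ∃ c : Γ(P, WPU p chart hU m), ReadsO p chart hU c a m ∧
      res O1 (WPU_le hU m) (sig hO hU a ha) = (c • res O1 (WPU_le hU m) (sig hO hU m hm) : Γ(O1, WPU p chart hU m)) := by
  obtain ⟨c, hc⟩ := (isGen_sig hO hU m hm (WPU p chart hU m) le_rfl).2 (res O1 (WPU_le hU m) (sig hO hU a ha))
  have hc' : (c • res O1 (WPU_le hU m) (sig hO hU m hm) : Γ(O1, WPU p chart hU m)) =
      res O1 (WPU_le hU m) (sig hO hU a ha) := by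
    rw [← hc]
    show _ = (c • res O1 le_rfl _ : Γ(O1, _))
    rw [res_self]
  refine ⟨c, fun y hy => ?_, hc'.symm⟩
  have h1 : cv lam hU (c • res O1 (WPU_le hU m) (sig hO hU m hm) : Γ(O1, WPU p chart hU m)) y hy =
      cv lam hU (res O1 (WPU_le hU m) (sig hO hU a ha)) y hy := by rw [hc']
  rw [cv_smul, cv_res, cv_res, cv_sig, cv_sig] at h1
  exact h1

end gen

section fn

variable {Y P : Scheme.{u}} {𝒮 : RelProj.QCGrAlg Y} {p : P ⟶ Y}
  {chart : ∀ (U : Y.Opens) (hU : IsAffineOpen U), (((p ⁻¹ᵁ U : P.Opens) : Scheme.{u}) ≅ Proj (𝒮.deg U hU))}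
  {U : Y.Opens} (hU : IsAffineOpen U)

theorem ReadsO.self {W₁ : P.Opens} (b : 𝒮.presheaf.obj (op U)) : ReadsO p chart hU (1 : Γ(P, W₁)) b b := by
  intro y hy
  rw [cvO_one, one_mul]

set_option backward.isDefEq.respectTransparency false in
/-- every function on `D₊(H)` reads as `G / H^n` -/
theorem exists_readsO_of_fn {d : ℕ} (hd : 0 < d) (H : 𝒮.presheaf.obj (op U)) (hH : H ∈ 𝒮.deg U hU d)
    (c : Γ(P, WPU p chart hU H)) :
    ∃ (n : ℕ) (_ : 0 < n) (G : 𝒮.presheaf.obj (op U)) (_ : G ∈ 𝒮.deg U hU (n * d)),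
      ReadsO p chart hU c G (H ^ n) := by
  have hle : Proj.basicOpen (𝒮.deg U hU) H ≤ (RelProj.emb p chart U hU) ⁻¹ᵁ WPU p chart hU H :=
    fun z hz => ⟨z, hz, rfl⟩
  have hiso : IsIso (Proj.awayToSection (𝒮.deg U hU) H) := (Proj.basicOpenIsoAway (𝒮.deg U hU) H hH hd).isIso_hom
  obtain ⟨q, hq⟩ := (ConcreteCategory.bijective_of_isIso (Proj.awayToSection (𝒮.deg U hU) H)).2
    (resO hle ((RelProj.emb p chart U hU).app (WPU p chart hU H) c))
  obtain ⟨n, G, hG, rfl⟩ := Away.mk_surjective (𝒮.deg U hU) hH q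
  have key : ReadsO p chart hU c G (H ^ n) := by
    intro y hy
    have hyD : y ∈ Proj.basicOpen (𝒮.deg U hU) H := (Proj.mem_basicOpen _ H y).2 (not_mem_of_mem_WPU hU H y hy)
    have h1 : cvO p chart hU c y hy =
        (GrModQC.valO (𝒮.deg U hU) (resO hle ((RelProj.emb p chart U hU).app (WPU p chart hU H) c)) ⟨y, hyD⟩).val := rfl
    rw [h1, ← hq]
    have h2 : (GrModQC.valO (𝒮.deg U hU) ((Proj.awayToSection (𝒮.deg U hU) H).hom (Away.mk (𝒮.deg U hU) hH n G hG))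
        ⟨y, hyD⟩).val = Localization.mk G ⟨H ^ n, GrSectMod.pow_nin (𝒮.deg U hU) n ⟨y, hyD⟩⟩ := rfl
    rw [h2, Localization.mk_mul, Localization.mk_eq_mk_iff, Localization.r_iff_exists]
    refine ⟨1, ?_⟩
    simp only [OneMemClass.coe_one, one_mul, mul_one]
    ring
  rcases Nat.eq_zero_or_pos n with h0 | hn
  · subst h0
    refine ⟨1, one_pos, G * H, ?_, ?_⟩
    · have := SetLike.mul_mem_graded hG hH
      rw [smul_eq_mul, zero_mul, zero_add] at this
      rw [one_mul]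
      exact this
    · have h3 := key.mul (ReadsO.self hU (W₁ := WPU p chart hU H) H)
      rw [mul_one, pow_zero, one_mul] at h3
      rw [pow_one]
      exact h3
  · refine ⟨n, hn, G, ?_, key⟩
    rw [← smul_eq_mul]
    exact hG

end fn

section cover

variable {Y : Scheme.{u}} {E : Y.Modules} [E.IsQuasicoherent]
    {𝒮 : RelProj.QCGrAlg Y} {j : E ⟶ 𝒮.toModule} (hS : RelProj.IsGrSymAlg E 𝒮 j)
    {U : Y.Opens} (hU : IsAffineOpen U)

include hS in
/-- the standard opens of the degree-one generators cover the projective bundle -/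
theorem exists_deg_one_not_mem (z : Proj (𝒮.deg U hU)) :
    ∃ e : Γ(E, U), asR 𝒮.toQCAlg (j.app U e) ∉ z.asHomogeneousIdeal := by
  by_contra hcon
  push_neg at hcon
  obtain ⟨d, f, hd, hf, hzf, -⟩ := exists_pos_basicOpen_le (𝒮.deg U hU) ⊤ z trivial
  have hf' := deg_le_monoGrp hS U hU d hf
  have hmem : f ∈ z.asHomogeneousIdeal.toIdeal := by
    refine AddSubgroup.closure_induction (p := fun x _ => x ∈ z.asHomogeneousIdeal.toIdeal)
      (fun x hx => ?_) ?_ (fun x x' _ _ hx hx' => ?_) (fun x _ hx => ?_) hf'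
    · obtain ⟨a, l, hl, rfl⟩ := hx
      apply Ideal.mul_mem_left
      cases l with
      | nil => exact absurd hl (by simpa using hd.ne)
      | cons m l =>
        rw [List.map_cons, List.prod_cons]
        exact Ideal.mul_mem_right _ _ (hcon m)
    · exact Ideal.zero_mem _
    · exact Ideal.add_mem _ hx hx'
    · exact neg_mem hx
  exact (Proj.mem_basicOpen _ f z).1 hzf hmem

end cover

end Groth.Agent.Lib.Helper28.RLPsiV
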