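import Groth.Agent.Lib.Helper28.SymAlgSec

set_option autoImplicit false
universe u
open CategoryTheory CategoryTheory.Limits AlgebraicGeometry Opposite TopologicalSpace
noncomputable section

namespace Groth.Agent.Lib.Helper28.SymAlg

open Groth.Agent.Lib.Helper28 Groth.Agent.Lib.Helper28.QCohLoc Groth.Agent.Lib.Helper28.TraceAlg

attribute [local instance] algAt

section graded

variable {Y : Scheme.{u}} {E : Y.Modules} [E.IsQuasicoherent]
    {𝒮 : RelProj.QCGrAlg Y} {j : E ⟶ 𝒮.toModule} (hS : RelProj.IsGrSymAlg E 𝒮 j)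
    (U : Y.Opens) (hU : IsAffineOpen U)

/-- the monomials of degree `d` -/
def monoSet (𝒮 : RelProj.QCGrAlg Y) (j : E ⟶ 𝒮.toModule) (U : Y.Opens) (d : ℕ) : Set (𝒮.presheaf.obj (op U)) :=
  {x | ∃ (a : Γ(Y, U)) (l : List Γ(E, U)), l.length = d ∧
    x = (𝒮.str.app (op U)).hom a * (l.map (fun m => asR 𝒮.toQCAlg (j.app U m))).prod}

/-- the additive subgroup spanned by the monomials of degree `d` -/
def monoGrp (𝒮 : RelProj.QCGrAlg Y) (j : E ⟶ 𝒮.toModule) (U : Y.Opens) (d : ℕ) :
    AddSubgroup (𝒮.presheaf.obj (op U)) :=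
  AddSubgroup.closure (monoSet 𝒮 j U d)

omit [E.IsQuasicoherent] in
include hS in
theorem list_prod_mem (l : List Γ(E, U)) :
    (l.map (fun m => asR 𝒮.toQCAlg (j.app U m))).prod ∈ 𝒮.deg U hU l.length := by
  induction l with
  | nil =>
    rw [List.map_nil, List.prod_nil, List.length_nil]
    exact SetLike.GradedOne.one_mem
  | cons m l ih =>
    rw [List.map_cons, List.prod_cons, List.length_cons, add_comm]
    exact SetLike.mul_mem_graded (hS.2 U hU m) ih

omit [E.IsQuasicoherent] in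
include hS in
theorem monoGrp_le_deg (d : ℕ) : monoGrp 𝒮 j U d ≤ 𝒮.deg U hU d := by
  refine (AddSubgroup.closure_le _).2 ?_
  rintro x ⟨a, l, rfl, rfl⟩
  have h := SetLike.mul_mem_graded (𝒮.str_mem U hU a) (list_prod_mem hS U hU l)
  rw [zero_add] at h
  exact h

omit [E.IsQuasicoherent] in
theorem mul_mem_monoGrp {d e : ℕ} {x y : 𝒮.presheaf.obj (op U)} (hx : x ∈ monoGrp 𝒮 j U d)
    (hy : y ∈ monoGrp 𝒮 j U e) : x * y ∈ monoGrp 𝒮 j U (d + e) := by
  induction hx using AddSubgroup.closure_induction with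
  | mem x hx =>
    obtain ⟨a, l, hl, rfl⟩ := hx
    induction hy using AddSubgroup.closure_induction with
    | mem y hy =>
      obtain ⟨b, l', hl', rfl⟩ := hy
      refine AddSubgroup.subset_closure ⟨a * b, l ++ l', ?_, ?_⟩
      · rw [List.length_append, hl, hl']
      · rw [List.map_append, List.prod_append, map_mul]
        ring
    | zero => rw [mul_zero]; exact AddSubgroup.zero_mem _
    | add y y' _ _ hy hy' => rw [mul_add]; exact AddSubgroup.add_mem _ hy hy'
    | neg y _ hy => rw [mul_neg]; exact AddSubgroup.neg_mem _ hy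
  | zero => rw [zero_mul]; exact AddSubgroup.zero_mem _
  | add x x' _ _ hx hx' => rw [add_mul]; exact AddSubgroup.add_mem _ hx hx'
  | neg x _ hx => rw [neg_mul]; exact AddSubgroup.neg_mem _ hx

omit [E.IsQuasicoherent] in
theorem mul_mem_iSup {x y : 𝒮.presheaf.obj (op U)} (hx : x ∈ ⨆ d, monoGrp 𝒮 j U d)
    (hy : y ∈ ⨆ d, monoGrp 𝒮 j U d) : x * y ∈ ⨆ d, monoGrp 𝒮 j U d := by
  refine AddSubgroup.iSup_induction (C := fun x => x * y ∈ ⨆ d, monoGrp 𝒮 j U d) _ hx
    (fun d x hx => ?_) ?_ (fun x x' hx hx' => ?_)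
  · refine AddSubgroup.iSup_induction (C := fun y => x * y ∈ ⨆ d, monoGrp 𝒮 j U d) _ hy
      (fun e y hy => ?_) ?_ (fun y y' hy hy' => ?_)
    · exact AddSubgroup.mem_iSup_of_mem (d + e) (mul_mem_monoGrp U hx hy)
    · show x * 0 ∈ _
      rw [mul_zero]; exact AddSubgroup.zero_mem _
    · show x * (y + y') ∈ _
      rw [mul_add]; exact AddSubgroup.add_mem _ hy hy'
  · show 0 * y ∈ _
    rw [zero_mul]; exact AddSubgroup.zero_mem _
  · show (x + x') * y ∈ _
    rw [add_mul]; exact AddSubgroup.add_mem _ hx hx'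

include hS hU in
theorem mem_iSup_monoGrp (y : 𝒮.presheaf.obj (op U)) : y ∈ ⨆ d, monoGrp 𝒮 j U d := by
  obtain ⟨t, rfl⟩ := (liftU_bijective hS.1 U hU).2 y
  induction t using SymmetricAlgebra.induction with
  | algebraMap a =>
    rw [liftU_algebraMap]
    refine AddSubgroup.mem_iSup_of_mem 0 (AddSubgroup.subset_closure ⟨a, [], rfl, ?_⟩)
    rw [List.map_nil, List.prod_nil, mul_one]
  | ι m =>
    rw [liftU_ι]
    refine AddSubgroup.mem_iSup_of_mem 1 (AddSubgroup.subset_closure ⟨1, [m], rfl, ?_⟩)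
    rw [List.map_cons, List.map_nil, List.prod_cons, List.prod_nil, mul_one, map_one, one_mul]
  | mul x y hx hy =>
    rw [map_mul]
    exact mul_mem_iSup U hx hy
  | add x y hx hy =>
    rw [map_add]
    exact AddSubgroup.add_mem _ hx hy

include hS hU in
/-- **the graded pieces of a graded symmetric algebra are spanned by the monomials** -/
theorem deg_le_monoGrp (d : ℕ) : 𝒮.deg U hU d ≤ monoGrp 𝒮 j U d := by
  intro x hx
  have key : ∀ y : 𝒮.presheaf.obj (op U), y ∈ ⨆ e, monoGrp 𝒮 j U e →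
      GradedRing.proj (𝒮.deg U hU) d y ∈ monoGrp 𝒮 j U d := by
    intro y hy
    refine AddSubgroup.iSup_induction (C := fun y => GradedRing.proj (𝒮.deg U hU) d y ∈ monoGrp 𝒮 j U d) _ hy
      (fun e y hy => ?_) ?_ (fun y y' hy hy' => ?_)
    · show GradedRing.proj (𝒮.deg U hU) d y ∈ monoGrp 𝒮 j U d
      rw [GradedRing.proj_apply]
      by_cases hed : e = d
      · subst hed
        rw [DirectSum.decompose_of_mem_same _ (monoGrp_le_deg hS U hU e hy)]
        exact hy
      · rw [DirectSum.decompose_of_mem_ne _ (monoGrp_le_deg hS U hU e hy) hed]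
        exact AddSubgroup.zero_mem _
    · show GradedRing.proj (𝒮.deg U hU) d 0 ∈ monoGrp 𝒮 j U d
      rw [map_zero]; exact AddSubgroup.zero_mem _
    · show GradedRing.proj (𝒮.deg U hU) d (y + y') ∈ monoGrp 𝒮 j U d
      rw [map_add]; exact AddSubgroup.add_mem _ hy hy'
  have h1 := key x (mem_iSup_monoGrp hS U hU x)
  rw [GradedRing.proj_apply, DirectSum.decompose_of_mem_same _ hx] at h1
  exact h1

include hS hU in
/-- a ring homomorphism out of the sections of a graded symmetric algebra which sends the functions to degree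
zero and the sections of `E` to degree one preserves degrees -/
theorem map_mem_of_gens {R' : Type*} [CommRing R'] (𝒜' : ℕ → AddSubgroup R') [GradedRing 𝒜']
    (F : 𝒮.presheaf.obj (op U) →+* R')
    (h0 : ∀ a : Γ(Y, U), F ((𝒮.str.app (op U)).hom a) ∈ 𝒜' 0)
    (h1 : ∀ m : Γ(E, U), F (asR 𝒮.toQCAlg (j.app U m)) ∈ 𝒜' 1)
    {d : ℕ} {x : 𝒮.presheaf.obj (op U)} (hx : x ∈ 𝒮.deg U hU d) : F x ∈ 𝒜' d := by
  have hx' := deg_le_monoGrp hS U hU d hx
  have hl : ∀ l : List Γ(E, U), F (l.map (fun m => asR 𝒮.toQCAlg (j.app U m))).prod ∈ 𝒜' l.length := by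
    intro l
    induction l with
    | nil =>
      rw [List.map_nil, List.prod_nil, List.length_nil, map_one]
      exact SetLike.GradedOne.one_mem
    | cons m l ih =>
      rw [List.map_cons, List.prod_cons, List.length_cons, add_comm, map_mul]
      exact SetLike.mul_mem_graded (h1 m) ih
  refine AddSubgroup.closure_induction (p := fun x _ => F x ∈ 𝒜' d) (fun x hx => ?_) ?_
    (fun x x' _ _ hx hx' => ?_) (fun x _ hx => ?_) hx'
  · obtain ⟨a, l, rfl, rfl⟩ := hx
    rw [map_mul]
    have h := SetLike.mul_mem_graded (h0 a) (hl l)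
    rw [zero_add] at h
    exact h
  · show F 0 ∈ 𝒜' d
    rw [map_zero]; exact AddSubgroup.zero_mem _
  · show F (x + x') ∈ 𝒜' d
    rw [map_add]; exact AddSubgroup.add_mem _ hx hx'
  · show F (-x) ∈ 𝒜' d
    rw [map_neg]; exact AddSubgroup.neg_mem _ hx

end graded

end Groth.Agent.Lib.Helper28.SymAlg
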