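import Groth.Agent.Lib.Helper28.RelProj
import Groth.Agent.Lib.Helper28.RelProjGlue
import Groth.Agent.Lib.Helper28.RelProjProper
import Groth.Agent.Lib.Helper28.SymAlgGraded
import Groth.Agent.Lib.Helper28.RLPsiV1
import Groth.Agent.Lib.Helper28.BiprodQC

/-!
# `P(E) ⨿ P(F)` is a closed subscheme of `P(E ⊕ F)` (EGA II 4.3.6)
-/

set_option autoImplicit false
universe u
open CategoryTheory CategoryTheory.Limits AlgebraicGeometry Opposite TopologicalSpace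
open scoped HomogeneousIdeal
noncomputable section

namespace Groth.Agent.Lib.Helper28.CoprodBundle

open Groth.Agent.Lib.Helper28 Groth.Agent.Lib.Helper28.QCohLoc Groth.Agent.Lib.Helper28.TraceAlg
open Groth.Agent.Lib.Helper28.SymAlg

section general

variable {U V X : Scheme.{u}} (f : U ⟶ X) (g : V ⟶ X)

theorem desc_inl_apply (x : U) : (coprod.desc f g) ((coprod.inl : U ⟶ U ⨿ V) x) = f x := by
  rw [← Scheme.Hom.comp_apply, coprod.inl_desc]

theorem desc_inr_apply (y : V) : (coprod.desc f g) ((coprod.inr : V ⟶ U ⨿ V) y) = g y := by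
  rw [← Scheme.Hom.comp_apply, coprod.inr_desc]

theorem coprod_cases (z : (U ⨿ V : Scheme.{u})) :
    (∃ x : U, (coprod.inl : U ⟶ U ⨿ V) x = z) ∨ (∃ y : V, (coprod.inr : V ⟶ U ⨿ V) y = z) := by
  obtain ⟨(x | y), rfl⟩ := (coprodMk U V).surjective z
  · exact Or.inl ⟨x, (coprodMk_inl U V x).symm⟩
  · exact Or.inr ⟨y, (coprodMk_inr U V y).symm⟩

/-- the copairing of two monomorphisms with disjoint images is a monomorphism -/
theorem mono_coprodDesc [Mono f] [Mono g] (hdisj : ∀ (a : U) (b : V), f a ≠ g b) :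
    Mono (coprod.desc f g) := by
  refine ⟨fun {T} a b hab => ?_⟩
  have hpt : ∀ t : T, (coprod.desc f g) (a t) = (coprod.desc f g) (b t) := by
    intro t
    rw [← Scheme.Hom.comp_apply, ← Scheme.Hom.comp_apply, hab]
  refine RelProjGlue.hom_ext_of_local a b fun t => ?_
  rcases coprod_cases (a t) with ⟨x, hx⟩ | ⟨y, hy⟩
  · -- `b t` lies in the first summand as well
    have hb : ∃ x', (coprod.inl : U ⟶ U ⨿ V) x' = b t := by
      rcases coprod_cases (b t) with h | ⟨y', hy'⟩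
      · exact h
      · exfalso
        have h1 := hpt t
        rw [← hx, ← hy', desc_inl_apply, desc_inr_apply] at h1
        exact hdisj x y' h1
    let W : T.Opens := a ⁻¹ᵁ (coprod.inl : U ⟶ U ⨿ V).opensRange ⊓ b ⁻¹ᵁ (coprod.inl : U ⟶ U ⨿ V).opensRange
    have htW : t ∈ W := ⟨⟨x, hx⟩, hb⟩
    have hra : Set.range (W.ι ≫ a) ⊆ Set.range (coprod.inl : U ⟶ U ⨿ V) := by
      rintro _ ⟨w, rfl⟩
      rw [Scheme.Hom.comp_apply]
      exact (show W.ι w ∈ W from w.2).1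
    have hrb : Set.range (W.ι ≫ b) ⊆ Set.range (coprod.inl : U ⟶ U ⨿ V) := by
      rintro _ ⟨w, rfl⟩
      rw [Scheme.Hom.comp_apply]
      exact (show W.ι w ∈ W from w.2).2
    have h1 : IsOpenImmersion.lift (coprod.inl : U ⟶ U ⨿ V) (W.ι ≫ a) hra =
        IsOpenImmersion.lift (coprod.inl : U ⟶ U ⨿ V) (W.ι ≫ b) hrb := by
      rw [← cancel_mono f]
      have e1 : IsOpenImmersion.lift (coprod.inl : U ⟶ U ⨿ V) (W.ι ≫ a) hra ≫ f = W.ι ≫ a ≫ coprod.desc f g := by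
        have := congrArg (fun k => k ≫ coprod.desc f g) (IsOpenImmersion.lift_fac (coprod.inl : _ ⟶ U ⨿ V) (W.ι ≫ a) hra)
        simpa only [Category.assoc, coprod.inl_desc] using this
      have e2 : IsOpenImmersion.lift (coprod.inl : U ⟶ U ⨿ V) (W.ι ≫ b) hrb ≫ f = W.ι ≫ b ≫ coprod.desc f g := by
        have := congrArg (fun k => k ≫ coprod.desc f g) (IsOpenImmersion.lift_fac (coprod.inl : _ ⟶ U ⨿ V) (W.ι ≫ b) hrb)
        simpa only [Category.assoc, coprod.inl_desc] using this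
      rw [e1, e2, hab]
    refine ⟨W, W.ι, inferInstance, ⟨⟨t, htW⟩, rfl⟩, ?_⟩
    rw [← IsOpenImmersion.lift_fac (coprod.inl : U ⟶ U ⨿ V) (W.ι ≫ a) hra, h1, IsOpenImmersion.lift_fac]
  · have hb : ∃ y', (coprod.inr : V ⟶ U ⨿ V) y' = b t := by
      rcases coprod_cases (b t) with ⟨x', hx'⟩ | h
      · exfalso
        have h1 := hpt t
        rw [← hy, ← hx', desc_inl_apply, desc_inr_apply] at h1
        exact hdisj x' y h1.symm
      · exact h
    let W : T.Opens := a ⁻¹ᵁ (coprod.inr : V ⟶ U ⨿ V).opensRange ⊓ b ⁻¹ᵁ (coprod.inr : V ⟶ U ⨿ V).opensRange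
    have htW : t ∈ W := ⟨⟨y, hy⟩, hb⟩
    have hra : Set.range (W.ι ≫ a) ⊆ Set.range (coprod.inr : V ⟶ U ⨿ V) := by
      rintro _ ⟨w, rfl⟩
      rw [Scheme.Hom.comp_apply]
      exact (show W.ι w ∈ W from w.2).1
    have hrb : Set.range (W.ι ≫ b) ⊆ Set.range (coprod.inr : V ⟶ U ⨿ V) := by
      rintro _ ⟨w, rfl⟩
      rw [Scheme.Hom.comp_apply]
      exact (show W.ι w ∈ W from w.2).2
    have h1 : IsOpenImmersion.lift (coprod.inr : V ⟶ U ⨿ V) (W.ι ≫ a) hra =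
        IsOpenImmersion.lift (coprod.inr : V ⟶ U ⨿ V) (W.ι ≫ b) hrb := by
      rw [← cancel_mono g]
      have e1 : IsOpenImmersion.lift (coprod.inr : V ⟶ U ⨿ V) (W.ι ≫ a) hra ≫ g = W.ι ≫ a ≫ coprod.desc f g := by
        have := congrArg (fun k => k ≫ coprod.desc f g) (IsOpenImmersion.lift_fac (coprod.inr : _ ⟶ U ⨿ V) (W.ι ≫ a) hra)
        simpa only [Category.assoc, coprod.inr_desc] using this
      have e2 : IsOpenImmersion.lift (coprod.inr : V ⟶ U ⨿ V) (W.ι ≫ b) hrb ≫ g = W.ι ≫ b ≫ coprod.desc f g := by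
        have := congrArg (fun k => k ≫ coprod.desc f g) (IsOpenImmersion.lift_fac (coprod.inr : _ ⟶ U ⨿ V) (W.ι ≫ b) hrb)
        simpa only [Category.assoc, coprod.inr_desc] using this
      rw [e1, e2, hab]
    refine ⟨W, W.ι, inferInstance, ⟨⟨t, htW⟩, rfl⟩, ?_⟩
    rw [← IsOpenImmersion.lift_fac (coprod.inr : V ⟶ U ⨿ V) (W.ι ≫ a) hra, h1, IsOpenImmersion.lift_fac]

/-- the copairing of two closed immersions with disjoint images is a closed immersion -/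
theorem isClosedImmersion_coprodDesc [IsClosedImmersion f] [IsClosedImmersion g]
    (hdisj : ∀ (a : U) (b : V), f a ≠ g b) : IsClosedImmersion (coprod.desc f g) := by
  have hm := mono_coprodDesc f g hdisj
  exact (IsClosedImmersion.iff_isFinite_and_mono _).2 ⟨inferInstance, hm⟩

end general

section retract

variable {Y : Scheme.{u}} {M N : Y.Modules} [M.IsQuasicoherent] [N.IsQuasicoherent]
  {𝒮M 𝒮N : RelProj.QCGrAlg Y} {jM : M ⟶ 𝒮M.toModule} (hjM : RelProj.IsGrSymAlg M 𝒮M jM)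
  {jN : N ⟶ 𝒮N.toModule} (hjN : RelProj.IsGrSymAlg N 𝒮N jN)
  (π : 𝒮M.toQCAlg ⟶ 𝒮N.toQCAlg) (hπ : RelProj.IsGradedHom π)
  (s : M ⟶ N) (hjπ : jM ≫ RelSpec.QCAlg.Hom.toModuleMap π = s ≫ jN)

omit [M.IsQuasicoherent] [N.IsQuasicoherent] in
include hjπ in
theorem pi_j (U : Y.Opens) (x : Γ(M, U)) :
    (π.hom.app (op U)).hom (asR 𝒮M.toQCAlg (jM.app U x)) = asR 𝒮N.toQCAlg (jN.app U (s.app U x)) := by
  have h := congrArg (fun ψ : M ⟶ 𝒮N.toModule => ψ.app U x) hjπ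
  exact h

omit [M.IsQuasicoherent] [N.IsQuasicoherent] in
theorem pi_str (U : Y.Opens) (a : Γ(Y, U)) :
    (π.hom.app (op U)).hom ((𝒮M.str.app (op U)).hom a) = (𝒮N.str.app (op U)).hom a := by
  have h0 := NatTrans.congr_app π.comm (op U)
  rw [NatTrans.comp_app] at h0
  exact congrArg (fun k => k.hom a) h0

include hjM hjN hjπ in
/-- a graded homomorphism of symmetric algebras induced by a retraction of modules is surjective in every degree -/
theorem surj_deg (σ : N ⟶ M) (hσ : σ ≫ s = 𝟙 N) (U : Y.Opens) (hU : IsAffineOpen U) (d : ℕ)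
    (y : 𝒮N.presheaf.obj (op U)) (hy : y ∈ 𝒮N.deg U hU d) :
    ∃ q ∈ 𝒮M.deg U hU d, (RelProj.gradedHomAt π hπ U hU) q = y := by
  have hy' := deg_le_monoGrp hjN U hU d hy
  refine AddSubgroup.closure_induction
    (p := fun y _ => ∃ q ∈ 𝒮M.deg U hU d, (RelProj.gradedHomAt π hπ U hU) q = y)
    (fun y hy => ?_) ?_ (fun y y' _ _ hq hq' => ?_) (fun y _ hq => ?_) hy'
  · obtain ⟨a, l, hl, rfl⟩ := hy
    refine ⟨(𝒮M.str.app (op U)).hom a * ((l.map (σ.app U)).map (fun m => asR 𝒮M.toQCAlg (jM.app U m))).prod,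
      ?_, ?_⟩
    · refine monoGrp_le_deg hjM U hU d (AddSubgroup.subset_closure ⟨a, l.map (σ.app U), ?_, rfl⟩)
      rw [List.length_map, hl]
    · show (π.hom.app (op U)).hom _ = _
      rw [map_mul, pi_str, map_list_prod, List.map_map, List.map_map]
      congr 2
      refine List.map_congr_left fun m _ => ?_
      show (π.hom.app (op U)).hom (asR 𝒮M.toQCAlg (jM.app U (σ.app U m))) = _
      rw [pi_j π s hjπ]
      have h := congrArg (fun ψ : N ⟶ N => ψ.app U m) hσ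
      have h' : s.app U (σ.app U m) = m := h
      rw [h']
  · exact ⟨0, AddSubgroup.zero_mem _, map_zero _⟩
  · obtain ⟨q, hq, rfl⟩ := hq
    obtain ⟨q', hq', rfl⟩ := hq'
    exact ⟨q + q', AddSubgroup.add_mem _ hq hq', map_add _ _ _⟩
  · obtain ⟨q, hq, rfl⟩ := hq
    exact ⟨-q, AddSubgroup.neg_mem _ hq, map_neg _ _⟩

end retract

section bundle

variable {Y PE PF P : Scheme.{u}} {E F : Y.Modules} [E.IsQuasicoherent] [F.IsQuasicoherent]
  {𝒮E 𝒮F 𝒮 : RelProj.QCGrAlg Y}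
  {jE : E ⟶ 𝒮E.toModule} (hjE : RelProj.IsGrSymAlg E 𝒮E jE)
  {jF : F ⟶ 𝒮F.toModule} (hjF : RelProj.IsGrSymAlg F 𝒮F jF)
  {j : E ⊞ F ⟶ 𝒮.toModule} (hj : RelProj.IsGrSymAlg (E ⊞ F) 𝒮 j)
  (πE : 𝒮.toQCAlg ⟶ 𝒮E.toQCAlg) (hπE : RelProj.IsGradedHom πE)
  (hjπE : j ≫ RelSpec.QCAlg.Hom.toModuleMap πE = biprod.fst ≫ jE)
  (πF : 𝒮.toQCAlg ⟶ 𝒮F.toQCAlg) (hπF : RelProj.IsGradedHom πF)
  (hjπF : j ≫ RelSpec.QCAlg.Hom.toModuleMap πF = biprod.snd ≫ jF)
  (hirrE : ∀ (U : Y.Opens) (hU : IsAffineOpen U),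
    (𝒮E.deg U hU)₊ ≤ ((𝒮.deg U hU)₊).map (RelProj.gradedHomAt πE hπE U hU))
  (hirrF : ∀ (U : Y.Opens) (hU : IsAffineOpen U),
    (𝒮F.deg U hU)₊ ≤ ((𝒮.deg U hU)₊).map (RelProj.gradedHomAt πF hπF U hU))

include hj hjπE hjπF in
/-- on a chart, the images of `P(E)` and `P(F)` in `P(E ⊕ F)` are disjoint -/
theorem chart_disjoint (U : Y.Opens) (hU : IsAffineOpen U) (a' : Proj (𝒮E.deg U hU)) (b' : Proj (𝒮F.deg U hU)) :
    (Proj.map (RelProj.gradedHomAt πE hπE U hU) (hirrE U hU)) a' ≠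
      (Proj.map (RelProj.gradedHomAt πF hπF U hU) (hirrF U hU)) b' := by
  intro heq
  obtain ⟨x, hx⟩ := RLPsiV.exists_deg_one_not_mem hj hU ((Proj.map (RelProj.gradedHomAt πE hπE U hU) (hirrE U hU)) a')
  have hdec := biprod_decomp E F U x
  have hsum : asR 𝒮.toQCAlg (j.app U x) =
      asR 𝒮.toQCAlg (j.app U ((biprod.inl : E ⟶ E ⊞ F).app U ((biprod.fst : E ⊞ F ⟶ E).app U x))) +
      asR 𝒮.toQCAlg (j.app U ((biprod.inr : F ⟶ E ⊞ F).app U ((biprod.snd : E ⊞ F ⟶ F).app U x))) := by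
    conv_lhs => rw [hdec]
    rw [map_add]
    rfl
  have hor : asR 𝒮.toQCAlg (j.app U ((biprod.inl : E ⟶ E ⊞ F).app U ((biprod.fst : E ⊞ F ⟶ E).app U x))) ∉
        ((Proj.map (RelProj.gradedHomAt πE hπE U hU) (hirrE U hU)) a').asHomogeneousIdeal ∨
      asR 𝒮.toQCAlg (j.app U ((biprod.inr : F ⟶ E ⊞ F).app U ((biprod.snd : E ⊞ F ⟶ F).app U x))) ∉
        ((Proj.map (RelProj.gradedHomAt πE hπE U hU) (hirrE U hU)) a').asHomogeneousIdeal := by
    by_contra hcon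
    rw [not_or, not_not, not_not] at hcon
    apply hx
    rw [hsum]
    exact Ideal.add_mem _ hcon.1 hcon.2
  rcases hor with h | h
  · -- the point lies in `D₊(j(inl e))`, whose preimage in `P(F)` is empty
    rw [heq] at h
    have hb : b' ∈ (Proj.map (RelProj.gradedHomAt πF hπF U hU) (hirrF U hU)) ⁻¹ᵁ
        Proj.basicOpen (𝒮.deg U hU) (asR 𝒮.toQCAlg (j.app U ((biprod.inl : E ⟶ E ⊞ F).app U
          ((biprod.fst : E ⊞ F ⟶ E).app U x)))) :=
      (Proj.mem_basicOpen _ _ _).2 h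
    rw [Proj.map_preimage_basicOpen] at hb
    have h0 : (RelProj.gradedHomAt πF hπF U hU) (asR 𝒮.toQCAlg (j.app U ((biprod.inl : E ⟶ E ⊞ F).app U
        ((biprod.fst : E ⊞ F ⟶ E).app U x)))) = 0 := by
      show (πF.hom.app (op U)).hom _ = 0
      rw [pi_j πF biprod.snd hjπF, biprod_inl_snd, map_zero]
      rfl
    rw [h0] at hb
    exact (Proj.mem_basicOpen _ _ _).1 hb (Ideal.zero_mem _)
  · have ha : a' ∈ (Proj.map (RelProj.gradedHomAt πE hπE U hU) (hirrE U hU)) ⁻¹ᵁ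
        Proj.basicOpen (𝒮.deg U hU) (asR 𝒮.toQCAlg (j.app U ((biprod.inr : F ⟶ E ⊞ F).app U
          ((biprod.snd : E ⊞ F ⟶ F).app U x)))) :=
      (Proj.mem_basicOpen _ _ _).2 h
    rw [Proj.map_preimage_basicOpen] at ha
    have h0 : (RelProj.gradedHomAt πE hπE U hU) (asR 𝒮.toQCAlg (j.app U ((biprod.inr : F ⟶ E ⊞ F).app U
        ((biprod.snd : E ⊞ F ⟶ F).app U x)))) = 0 := by
      show (πE.hom.app (op U)).hom _ = 0
      rw [pi_j πE biprod.fst hjπE, biprod_inr_fst, map_zero]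
      rfl
    rw [h0] at ha
    exact (Proj.mem_basicOpen _ _ _).1 ha (Ideal.zero_mem _)

variable {p : P ⟶ Y} {pE : PE ⟶ Y} {pF : PF ⟶ Y}
  {chart : ∀ (U : Y.Opens) (hU : IsAffineOpen U), ((p ⁻¹ᵁ U : P.Opens) : Scheme.{u}) ≅ Proj (𝒮.deg U hU)}
  {chartE : ∀ (U : Y.Opens) (hU : IsAffineOpen U), ((pE ⁻¹ᵁ U : PE.Opens) : Scheme.{u}) ≅ Proj (𝒮E.deg U hU)}
  {chartF : ∀ (U : Y.Opens) (hU : IsAffineOpen U), ((pF ⁻¹ᵁ U : PF.Opens) : Scheme.{u}) ≅ Proj (𝒮F.deg U hU)}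
  (hP : RelProj.IsRelProj 𝒮 p chart) (hPE : RelProj.IsRelProj 𝒮E pE chartE) (hPF : RelProj.IsRelProj 𝒮F pF chartF)
  (hE' : PE ⟶ P) (hhE : RelProj.IsRelProjMap πE hπE hirrE chart chartE hE')
  (hF' : PF ⟶ P) (hhF : RelProj.IsRelProjMap πF hπF hirrF chart chartF hF')

include hj hjE hjπE hP hPE hhE in
theorem isClosedImmersion_fst : IsClosedImmersion hE' := by
  refine Groth.Agent.Lib.Helper28.RelProj.of_chartwise πE hπE hirrE chart chartE hP hPE hE' hhE @IsClosedImmersion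
    fun U hU => ?_
  exact RelProjProper.isClosedImmersion_map_of_pos (RelProj.gradedHomAt πE hπE U hU)
    (fun d y hy => surj_deg hj hjE πE hπE biprod.fst hjπE biprod.inl biprod.inl_fst U hU (d + 1) y hy) (hirrE U hU)

include hj hjF hjπF hP hPF hhF in
theorem isClosedImmersion_snd : IsClosedImmersion hF' := by
  refine Groth.Agent.Lib.Helper28.RelProj.of_chartwise πF hπF hirrF chart chartF hP hPF hF' hhF @IsClosedImmersion
    fun U hU => ?_
  exact RelProjProper.isClosedImmersion_map_of_pos (RelProj.gradedHomAt πF hπF U hU)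
    (fun d y hy => surj_deg hj hjF πF hπF biprod.snd hjπF biprod.inr biprod.inr_snd U hU (d + 1) y hy) (hirrF U hU)

include hj hjπE hjπF hP hPE hPF hhE hhF in
theorem disjoint_images (a : PE) (b : PF) : hE' a ≠ hF' b := by
  intro heq
  obtain ⟨_, ⟨U, hU, rfl⟩, hzU, -⟩ := Y.isBasis_affineOpens.exists_subset_of_mem_open
    (show p (hE' a) ∈ ((⊤ : Y.Opens) : Set Y) from trivial) (⊤ : Y.Opens).isOpen
  have hcE := Groth.Agent.Lib.Helper28.RelProj.comp_eq πE hπE hirrE chart chartE hP hPE hE' hhE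
  have hcF := Groth.Agent.Lib.Helper28.RelProj.comp_eq πF hπF hirrF chart chartF hP hPF hF' hhF
  have haU : a ∈ pE ⁻¹ᵁ U := by
    show pE a ∈ U
    rw [← hcE, Scheme.Hom.comp_apply]
    exact hzU
  have hbU : b ∈ pF ⁻¹ᵁ U := by
    show pF b ∈ U
    rw [← hcF, Scheme.Hom.comp_apply, ← heq]
    exact hzU
  have h1 := congrArg (fun k : ((pE ⁻¹ᵁ U : PE.Opens) : Scheme.{u}) ⟶ P => k ⟨a, haU⟩) (hhE U hU)
  have h2 := congrArg (fun k : ((pF ⁻¹ᵁ U : PF.Opens) : Scheme.{u}) ⟶ P => k ⟨b, hbU⟩) (hhF U hU)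
  simp only [Scheme.Hom.comp_apply] at h1 h2
  have h1' : hE' a = _ := h1
  have h2' : hF' b = _ := h2
  rw [h1', h2'] at heq
  have h3 := (p ⁻¹ᵁ U).ι.isOpenEmbedding.injective heq
  have h4 := congrArg (fun t => (chart U hU).hom t) h3
  simp only [Scheme.inv_hom_apply] at h4
  exact chart_disjoint hj πE hπE hjπE πF hπF hjπF hirrE hirrF U hU _ _ h4

include hj hjE hjF hjπE hjπF hP hPE hPF hhE hhF in
/-- **EGA II 4.3.6**: `P(E) ⨿ P(F) → P(E ⊕ F)` is a closed immersion -/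
theorem isClosedImmersion_coprod_desc : IsClosedImmersion (coprod.desc hE' hF') := by
  have h1 : IsClosedImmersion hE' := isClosedImmersion_fst hjE hj πE hπE hjπE hirrE hP hPE hE' hhE
  have h2 : IsClosedImmersion hF' := isClosedImmersion_snd hjF hj πF hπF hjπF hirrF hP hPF hF' hhF
  exact isClosedImmersion_coprodDesc hE' hF'
    (disjoint_images hj πE hπE hjπE πF hπF hjπF hirrE hirrF hP hPE hPF hE' hhE hF' hhF)

end bundle

end Groth.Agent.Lib.Helper28.CoprodBundle
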