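import Groth.Agent.Lib.Helper28.CoprodMod
import Groth.Agent.Lib.Helper28.TensorIso
import Groth.Agent.Lib.Helper28.BiprodQC

/-!
# A module on a disjoint union is determined by its restrictions to the two pieces
-/

set_option autoImplicit false
universe u
open CategoryTheory CategoryTheory.Limits AlgebraicGeometry Opposite TopologicalSpace
noncomputable section

namespace Groth.Agent.Lib.Helper28.CoprodMod

open Groth.Agent.Lib.Helper28 Groth.Agent.Lib.Helper28.QCohLoc

section res

variable {X : Scheme.{u}} (M : X.Modules)

theorem res_bijective_of_le {U V : X.Opens} (h : V ≤ U) (h' : U ≤ V) : Function.Bijective (res M h) := by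
  constructor
  · intro x y hxy
    have := congrArg (res M h') hxy
    rwa [res_res, res_res, res_self, res_self] at this
  · intro y
    exact ⟨res M h' y, by rw [res_res, res_self]⟩

end res

variable {X X' Z : Scheme.{u}} (j : X ⟶ Z) (j' : X' ⟶ Z) [IsOpenImmersion j] [IsOpenImmersion j']

/-- the comparison morphism from a module to the sum of the extensions of its two restrictions -/
def eta (M : Z.Modules) :
    M ⟶ (Scheme.Modules.pushforward j).obj (M.restrict j) ⊞ (Scheme.Modules.pushforward j').obj (M.restrict j') :=
  biprod.lift ((Scheme.Modules.restrictAdjunction j).unit.app M) ((Scheme.Modules.restrictAdjunction j').unit.app M)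

theorem unit_app_bijective (M : Z.Modules) (V : Z.Opens) (hV : V ≤ j.opensRange) :
    Function.Bijective (((Scheme.Modules.restrictAdjunction j).unit.app M).app V) := by
  have hle : V ≤ j ''ᵁ j ⁻¹ᵁ V := by
    rw [j.image_preimage_eq_opensRange_inf]
    exact le_inf hV le_rfl
  exact res_bijective_of_le M (j.image_preimage_le V) hle

theorem subsingleton_of_disjoint (hdisj : Disjoint (Set.range j) (Set.range j')) (M : Z.Modules) (V : Z.Opens)
    (hV : V ≤ j.opensRange) :
    Subsingleton Γ((Scheme.Modules.pushforward j').obj (M.restrict j'), V) := by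
  show Subsingleton Γ(M, j' ''ᵁ (j' ⁻¹ᵁ V))
  refine subsingleton_sections_of_eq_bot M _ ?_
  ext x
  simp only [Opens.coe_bot, Set.mem_empty_iff_false, iff_false]
  rintro ⟨y, hy, rfl⟩
  obtain ⟨x₀, hx₀⟩ := hV hy
  exact Set.disjoint_left.1 hdisj ⟨x₀, hx₀⟩ ⟨y, rfl⟩

theorem eta_bijective_left (hdisj : Disjoint (Set.range j) (Set.range j')) (M : Z.Modules) (V : Z.Opens)
    (hV : V ≤ j.opensRange) : Function.Bijective ((eta j j' M).app V) := by
  have hsub := subsingleton_of_disjoint j j' hdisj M V hV
  have hb := unit_app_bijective j M V hV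
  have hfst : ∀ x : Γ(M, V), (biprod.fst : (Scheme.Modules.pushforward j).obj (M.restrict j) ⊞
      (Scheme.Modules.pushforward j').obj (M.restrict j') ⟶ _).app V ((eta j j' M).app V x) =
      ((Scheme.Modules.restrictAdjunction j).unit.app M).app V x := by
    intro x
    have h := congrArg (fun ψ : M ⟶ (Scheme.Modules.pushforward j).obj (M.restrict j) => ψ.app V x)
      (biprod.lift_fst ((Scheme.Modules.restrictAdjunction j).unit.app M)
        ((Scheme.Modules.restrictAdjunction j').unit.app M))
    exact h
  constructor
  · intro x y hxy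
    apply hb.1
    rw [← hfst x, ← hfst y, hxy]
  · intro y
    obtain ⟨x, hx⟩ := hb.2 ((biprod.fst : (Scheme.Modules.pushforward j).obj (M.restrict j) ⊞
      (Scheme.Modules.pushforward j').obj (M.restrict j') ⟶ _).app V y)
    refine ⟨x, ?_⟩
    rw [biprod_decomp _ _ V ((eta j j' M).app V x), biprod_decomp _ _ V y, hfst x, hx]
    congr 2
    exact Subsingleton.elim _ _

theorem eta_bijective_right (hdisj : Disjoint (Set.range j) (Set.range j')) (M : Z.Modules) (V : Z.Opens)
    (hV : V ≤ j'.opensRange) : Function.Bijective ((eta j j' M).app V) := by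
  have hsub := subsingleton_of_disjoint j' j hdisj.symm M V hV
  have hb := unit_app_bijective j' M V hV
  have hsnd : ∀ x : Γ(M, V), (biprod.snd : (Scheme.Modules.pushforward j).obj (M.restrict j) ⊞
      (Scheme.Modules.pushforward j').obj (M.restrict j') ⟶ _).app V ((eta j j' M).app V x) =
      ((Scheme.Modules.restrictAdjunction j').unit.app M).app V x := by
    intro x
    have h := congrArg (fun ψ : M ⟶ (Scheme.Modules.pushforward j').obj (M.restrict j') => ψ.app V x)
      (biprod.lift_snd ((Scheme.Modules.restrictAdjunction j).unit.app M)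
        ((Scheme.Modules.restrictAdjunction j').unit.app M))
    exact h
  constructor
  · intro x y hxy
    apply hb.1
    rw [← hsnd x, ← hsnd y, hxy]
  · intro y
    obtain ⟨x, hx⟩ := hb.2 ((biprod.snd : (Scheme.Modules.pushforward j).obj (M.restrict j) ⊞
      (Scheme.Modules.pushforward j').obj (M.restrict j') ⟶ _).app V y)
    refine ⟨x, ?_⟩
    rw [biprod_decomp _ _ V ((eta j j' M).app V x), biprod_decomp _ _ V y, hsnd x, hx]
    congr 2
    exact Subsingleton.elim _ _

/-- the comparison morphism is an isomorphism when the two opens are disjoint and cover -/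
theorem isIso_eta (hc : IsCompl j.opensRange j'.opensRange) (M : Z.Modules) : IsIso (eta j j' M) := by
  have hdisj : Disjoint (Set.range j) (Set.range j') := by
    rw [Set.disjoint_iff]
    rintro x ⟨hx, hx'⟩
    have : x ∈ j.opensRange ⊓ j'.opensRange := ⟨hx, hx'⟩
    rw [hc.inf_eq_bot] at this
    exact this
  refine TensorIso.isIso_of_bijective_on_basis (eta j j' M)
    (fun V => V ≤ j.opensRange ∨ V ≤ j'.opensRange) (fun U x hx => ?_) (fun W hW => ?_)
  · have hx' : x ∈ j.opensRange ⊔ j'.opensRange := by rw [hc.sup_eq_top]; trivial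
    rcases hx' with h | h
    · exact ⟨U ⊓ j.opensRange, Or.inl inf_le_right, ⟨hx, h⟩, inf_le_left⟩
    · exact ⟨U ⊓ j'.opensRange, Or.inr inf_le_right, ⟨hx, h⟩, inf_le_left⟩
  · rcases hW with h | h
    · exact eta_bijective_left j j' hdisj M W h
    · exact eta_bijective_right j j' hdisj M W h

/-- **two modules on a disjoint union with isomorphic restrictions to both pieces are isomorphic** -/
theorem nonempty_iso_of_restrict_iso (hc : IsCompl j.opensRange j'.opensRange) (M N : Z.Modules)
    (e : M.restrict j ≅ N.restrict j) (e' : M.restrict j' ≅ N.restrict j') : Nonempty (M ≅ N) := by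
  have h1 := isIso_eta j j' hc M
  have h2 := isIso_eta j j' hc N
  exact ⟨asIso (eta j j' M) ≪≫
    biprod.mapIso ((Scheme.Modules.pushforward j).mapIso e) ((Scheme.Modules.pushforward j').mapIso e') ≪≫
    (asIso (eta j j' N)).symm⟩

/-- the same with inverse images -/
theorem nonempty_iso_of_pullback_iso (hc : IsCompl j.opensRange j'.opensRange) (M N : Z.Modules)
    (e : (Scheme.Modules.pullback j).obj M ≅ (Scheme.Modules.pullback j).obj N)
    (e' : (Scheme.Modules.pullback j').obj M ≅ (Scheme.Modules.pullback j').obj N) : Nonempty (M ≅ N) :=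
  nonempty_iso_of_restrict_iso j j' hc M N
    ((Scheme.Modules.restrictFunctorIsoPullback j).app M ≪≫ e ≪≫ ((Scheme.Modules.restrictFunctorIsoPullback j).app N).symm)
    ((Scheme.Modules.restrictFunctorIsoPullback j').app M ≪≫ e' ≪≫ ((Scheme.Modules.restrictFunctorIsoPullback j').app N).symm)

end Groth.Agent.Lib.Helper28.CoprodMod
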