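import Groth.Agent.Lib.Helper28.DblRing
import Groth.Agent.Lib.Helper28.TwistIso
import Groth.Agent.Lib.Helper28.GenIso
import Groth.Agent.Lib.Helper28.InvQC

/-!
# The pairing on sections induced by `m : L ⊗ L ⟶ O_X`, for `L` invertible
-/

set_option autoImplicit false
universe u
open CategoryTheory CategoryTheory.Limits AlgebraicGeometry Opposite TopologicalSpace
noncomputable section

namespace Groth.Agent.Lib.Helper28.DblAlg

open Groth.Agent.Lib.Helper28 Groth.Agent.Lib.Helper28.QCohLoc Groth.Agent.Lib.Helper28.GenLocus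
  Groth.Agent.Lib.Helper28.TensorGen

variable {X : Scheme.{u}} (L : X.Modules) (m : CohB1.tensorMod L L ⟶ Coh.structureModule X)

/-- the pairing on sections -/
def mu (U : X.Opens) (l l' : Γ(L, U)) : Γ(X, U) := m.app U (tmulSec L L l l')

theorem mu_add_left (U : X.Opens) (l l' l'' : Γ(L, U)) :
    mu L m U (l + l') l'' = mu L m U l l'' + mu L m U l' l'' := by
  unfold mu
  rw [tmulSec_add_left, map_add]
  rfl

theorem mu_add_right (U : X.Opens) (l l' l'' : Γ(L, U)) :
    mu L m U l (l' + l'') = mu L m U l l' + mu L m U l l'' := by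
  unfold mu
  rw [tmulSec_add_right, map_add]
  rfl

theorem mu_smul_left (U : X.Opens) (a : Γ(X, U)) (l l' : Γ(L, U)) :
    mu L m U (a • l : Γ(L, U)) l' = a * mu L m U l l' := by
  unfold mu
  rw [tmulSec_smul_left, Scheme.Modules.Hom.app_smul]
  rfl

theorem mu_smul_right (U : X.Opens) (a : Γ(X, U)) (l l' : Γ(L, U)) :
    mu L m U l (a • l' : Γ(L, U)) = a * mu L m U l l' := by
  unfold mu
  rw [tmulSec_smul_right, Scheme.Modules.Hom.app_smul]
  rfl

theorem mu_res {U V : X.Opens} (h : V ≤ U) (l l' : Γ(L, U)) :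
    mu L m V (res L h l) (res L h l') = resO h (mu L m U l l') := by
  unfold mu
  rw [← tmulSec_res, app_res]
  rfl

variable {L}

include m in
/-- the pairing is symmetric, for `L` invertible -/
theorem mu_symm (hL : PicF.IsInvertible L) (U : X.Opens) (l l' : Γ(L, U)) : mu L m U l l' = mu L m U l' l := by
  have hloc : ∀ pt : U, ∃ (V : X.Opens) (hV : V ≤ U), pt.1 ∈ V ∧
      resO hV (mu L m U l l') = resO hV (mu L m U l' l) := by
    intro pt
    obtain ⟨W, g, hptW, hg⟩ := exists_isGen L hL pt.1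
    refine ⟨U ⊓ W, inf_le_left, ⟨pt.2, hptW⟩, ?_⟩
    have hg' := hg.res (inf_le_right : U ⊓ W ≤ W)
    rw [← mu_res, ← mu_res, ← hg'.coef_smul le_rfl (res L inf_le_left l),
      ← hg'.coef_smul le_rfl (res L inf_le_left l'), mu_smul_left, mu_smul_right, mu_smul_left, mu_smul_right]
    ring
  choose V hV hpt heq using hloc
  exact eq_of_locally_eq (Coh.structureModule X) V U hV (fun x hx => Opens.mem_iSup.2 ⟨⟨x, hx⟩, hpt _⟩)
    (show Γ(Coh.structureModule X, U) from mu L m U l l') (show Γ(Coh.structureModule X, U) from mu L m U l' l) heq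

include m in
/-- the pairing is associative, for `L` invertible -/
theorem mu_assoc (hL : PicF.IsInvertible L) (U : X.Opens) (l l' l'' : Γ(L, U)) :
    (mu L m U l l' • l'' : Γ(L, U)) = (mu L m U l' l'' • l : Γ(L, U)) := by
  have hloc : ∀ pt : U, ∃ (V : X.Opens) (hV : V ≤ U), pt.1 ∈ V ∧
      res L hV (mu L m U l l' • l'' : Γ(L, U)) = res L hV (mu L m U l' l'' • l : Γ(L, U)) := by
    intro pt
    obtain ⟨W, g, hptW, hg⟩ := exists_isGen L hL pt.1
    refine ⟨U ⊓ W, inf_le_left, ⟨pt.2, hptW⟩, ?_⟩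
    have hg' := hg.res (inf_le_right : U ⊓ W ≤ W)
    rw [res_smul, res_smul, ← mu_res, ← mu_res]
    have e1 := hg'.coef_smul le_rfl (res L inf_le_left l)
    have e2 := hg'.coef_smul le_rfl (res L inf_le_left l')
    have e3 := hg'.coef_smul le_rfl (res L inf_le_left l'')
    generalize hg'.coef le_rfl (res L inf_le_left l) = a at e1
    generalize hg'.coef le_rfl (res L inf_le_left l') = b at e2
    generalize hg'.coef le_rfl (res L inf_le_left l'') = c at e3
    rw [← e1, ← e2, ← e3, mu_smul_left, mu_smul_right, mu_smul_left, mu_smul_right, smul_smul, smul_smul]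
    congr 1
    ring
  choose V hV hpt heq using hloc
  exact eq_of_locally_eq L V U hV (fun x hx => Opens.mem_iSup.2 ⟨⟨x, hx⟩, hpt _⟩) _ _ heq

/-- the pairing on the sections over `U` -/
def pairing (hL : PicF.IsInvertible L) (U : X.Opens) : Dbl.Pairing Γ(X, U) Γ(L, U) where
  μ := mu L m U
  add_left := mu_add_left L m U
  smul_left := mu_smul_left L m U
  symm := mu_symm m hL U
  assoc := mu_assoc m hL U

end Groth.Agent.Lib.Helper28.DblAlg
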