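import Groth.Agent.Lib.Helper28.DblAlgA
import Groth.Agent.Lib.Helper28.QCAlgOfQCoh
import Groth.Agent.Lib.Helper28.QCohConv

/-!
# The sheaf of rings `O_X ⊕ L` attached to a pairing `m : L ⊗ L ⟶ O_X` on an invertible module
-/

set_option autoImplicit false
universe u
open CategoryTheory CategoryTheory.Limits AlgebraicGeometry Opposite TopologicalSpace
noncomputable section

namespace Groth.Agent.Lib.Helper28.DblAlg

open Groth.Agent.Lib.Helper28 Groth.Agent.Lib.Helper28.QCohLoc Groth.Agent.Lib.Helper28.GenLocus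
  Groth.Agent.Lib.Helper28.TensorGen

variable {X : Scheme.{u}} {L : X.Modules} (m : CohB1.tensorMod L L ⟶ Coh.structureModule X)
  (hL : PicF.IsInvertible L)

/-- the sections of the algebra over `U` -/
def Sec (_ : CohB1.tensorMod L L ⟶ Coh.structureModule X) (_ : PicF.IsInvertible L) (U : X.Opens) : Type u :=
  Dbl Γ(X, U) Γ(L, U)

namespace Sec

variable {m hL} {U : X.Opens}

/-- constructor -/
def mk (s : Γ(X, U)) (l : Γ(L, U)) : Sec m hL U := (⟨s, l⟩ : Dbl Γ(X, U) Γ(L, U))

/-- the function component -/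
def fn (x : Sec m hL U) : Γ(X, U) := Dbl.fst x

/-- the `L` component -/
def sc (x : Sec m hL U) : Γ(L, U) := Dbl.snd x

@[ext] theorem ext {x y : Sec m hL U} (h1 : x.fn = y.fn) (h2 : x.sc = y.sc) : x = y := Dbl.ext h1 h2

@[simp] theorem fn_mk (s : Γ(X, U)) (l : Γ(L, U)) : (mk s l : Sec m hL U).fn = s := rfl
@[simp] theorem sc_mk (s : Γ(X, U)) (l : Γ(L, U)) : (mk s l : Sec m hL U).sc = l := rfl

instance : CommRing (Sec m hL U) := Dbl.commRing (pairing m hL U)

@[simp] theorem fn_add (x y : Sec m hL U) : (x + y).fn = x.fn + y.fn := rfl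
@[simp] theorem sc_add (x y : Sec m hL U) : (x + y).sc = x.sc + y.sc := rfl
@[simp] theorem fn_zero : (0 : Sec m hL U).fn = 0 := rfl
@[simp] theorem sc_zero : (0 : Sec m hL U).sc = 0 := rfl
@[simp] theorem fn_one : (1 : Sec m hL U).fn = 1 := rfl
@[simp] theorem sc_one : (1 : Sec m hL U).sc = 0 := rfl
theorem fn_mul (x y : Sec m hL U) : (x * y).fn = x.fn * y.fn + mu L m U x.sc y.sc := rfl
theorem sc_mul (x y : Sec m hL U) : (x * y).sc = (x.fn • y.sc + y.fn • x.sc : Γ(L, U)) := rfl

end Sec

/-- restriction, as a ring homomorphism -/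
def resHom {U V : X.Opens} (h : V ≤ U) : Sec m hL U →+* Sec m hL V where
  toFun x := Sec.mk (resO h x.fn) (res L h x.sc)
  map_one' := Sec.ext (map_one _) (res_zero L h)
  map_zero' := Sec.ext (map_zero _) (res_zero L h)
  map_add' x y := Sec.ext (map_add _ _ _) (res_add L h _ _)
  map_mul' x y := by
    apply Sec.ext
    · show resO h (x.fn * y.fn + mu L m U x.sc y.sc) =
        resO h x.fn * resO h y.fn + mu L m V (res L h x.sc) (res L h y.sc)
      rw [mu_res]
      show (X.presheaf.map (homOfLE h).op).hom (x.fn * y.fn + mu L m U x.sc y.sc) = _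
      rw [map_add, map_mul]
    · show res L h (x.fn • y.sc + y.fn • x.sc : Γ(L, U)) =
        (resO h x.fn • res L h y.sc + resO h y.fn • res L h x.sc : Γ(L, V))
      rw [res_add, res_smul, res_smul]

@[simp] theorem resHom_fn {U V : X.Opens} (h : V ≤ U) (x : Sec m hL U) : (resHom m hL h x).fn = resO h x.fn := rfl
@[simp] theorem resHom_sc {U V : X.Opens} (h : V ≤ U) (x : Sec m hL U) : (resHom m hL h x).sc = res L h x.sc := rfl

theorem resO_self' {U : X.Opens} (a : Γ(X, U)) : resO (le_refl U) a = a := by
  have : (homOfLE (le_refl U)).op = 𝟙 (op U) := rfl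
  unfold resO
  rw [this, X.presheaf.map_id]
  rfl

/-- the presheaf of rings `O_X ⊕ L` -/
def ringPresheaf : TopCat.Presheaf CommRingCat.{u} X.carrier where
  obj U := CommRingCat.of (Sec m hL U.unop)
  map i := CommRingCat.ofHom (resHom m hL (leOfHom i.unop))
  map_id U := by
    apply CommRingCat.hom_ext
    apply RingHom.ext
    intro x
    apply Sec.ext (m := m) (hL := hL)
    · exact resO_self' _
    · exact res_self L _
  map_comp i j := by
    apply CommRingCat.hom_ext
    apply RingHom.ext
    intro x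
    apply Sec.ext (m := m) (hL := hL)
    · exact (resO_resO _ _ _).symm
    · exact (res_res L _ _ _).symm

/-- the function component of an element of the ring of sections -/
abbrev fnOf {U : X.Opens} (x : (ringPresheaf m hL).obj (op U)) : Γ(X, U) := Sec.fn (m := m) (hL := hL) (U := U) x

/-- the `L` component of an element of the ring of sections -/
abbrev scOf {U : X.Opens} (x : (ringPresheaf m hL).obj (op U)) : Γ(L, U) := Sec.sc (m := m) (hL := hL) (U := U) x

theorem isSheaf_ringPresheaf : (ringPresheaf m hL).IsSheaf := by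
  rw [TopCat.Presheaf.isSheaf_iff_isSheafUniqueGluing]
  intro ι U sf hsf
  have hfn : ∀ i j, res (Coh.structureModule X) (inf_le_left : U i ⊓ U j ≤ U i)
      (show Γ(Coh.structureModule X, U i) from fnOf m hL (sf i)) =
      res (Coh.structureModule X) (inf_le_right : U i ⊓ U j ≤ U j)
        (show Γ(Coh.structureModule X, U j) from fnOf m hL (sf j)) := by
    intro i j
    exact congrArg (fun z => fnOf m hL (U := U i ⊓ U j) z) (hsf i j)
  have hsc : ∀ i j, res L (inf_le_left : U i ⊓ U j ≤ U i) (scOf m hL (sf i)) =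
      res L (inf_le_right : U i ⊓ U j ≤ U j) (scOf m hL (sf j)) := by
    intro i j
    exact congrArg (fun z => scOf m hL (U := U i ⊓ U j) z) (hsf i j)
  obtain ⟨a, ha⟩ := exists_gluing (Coh.structureModule X) U (iSup U) (le_iSup U) le_rfl
    (fun i => (show Γ(Coh.structureModule X, U i) from fnOf m hL (sf i))) hfn
  obtain ⟨l, hl⟩ := exists_gluing L U (iSup U) (le_iSup U) le_rfl (fun i => scOf m hL (sf i)) hsc
  refine ⟨(Sec.mk (show Γ(X, iSup U) from a) l : Sec m hL (iSup U)), ?_, ?_⟩
  · intro i
    apply Sec.ext (m := m) (hL := hL)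
    · exact ha i
    · exact hl i
  · intro s' hs'
    apply Sec.ext (m := m) (hL := hL)
    · refine eq_of_locally_eq (Coh.structureModule X) U (iSup U) (le_iSup U) le_rfl
        (show Γ(Coh.structureModule X, iSup U) from fnOf m hL s') a (fun i => ?_)
      rw [ha i]
      exact congrArg (fun z => fnOf m hL (U := U i) z) (hs' i)
    · refine eq_of_locally_eq L U (iSup U) (le_iSup U) le_rfl (scOf m hL s') l (fun i => ?_)
      rw [hl i]
      exact congrArg (fun z => scOf m hL (U := U i) z) (hs' i)

/-- the structure map `O_X ⟶ O_X ⊕ L` -/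
def strHom : X.presheaf ⟶ ringPresheaf m hL where
  app U := CommRingCat.ofHom
    { toFun := fun s => (Sec.mk s 0 : Sec m hL U.unop)
      map_one' := rfl
      map_zero' := rfl
      map_add' := fun s s' => Sec.ext (m := m) (hL := hL) rfl (add_zero (0 : Γ(L, U.unop))).symm
      map_mul' := fun s s' => by
        apply Sec.ext (m := m) (hL := hL)
        · show s * s' = s * s' + mu L m U.unop 0 0
          have h0 : mu L m U.unop 0 0 = 0 := (pairing m hL U.unop).zero_left 0
          rw [h0, add_zero]
        · show (0 : Γ(L, U.unop)) = ((show Γ(X, U.unop) from s) • (0 : Γ(L, U.unop)) +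
            (show Γ(X, U.unop) from s') • (0 : Γ(L, U.unop)) : Γ(L, U.unop))
          rw [smul_zero, smul_zero, add_zero] }
  naturality U V i := by
    apply CommRingCat.hom_ext
    apply RingHom.ext
    intro s
    apply Sec.ext (m := m) (hL := hL)
    · rfl
    · exact (res_zero L _).symm

end Groth.Agent.Lib.Helper28.DblAlg
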