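import Groth.Agent.Lib.Helper28.DblAlgB
import Groth.Prelude.Def_FinCov
import Groth.Agent.Lib.Helper28.SecExtend

/-!
# `O_X ⊕ L` as a quasi-coherent algebra
-/

set_option autoImplicit false
universe u
open CategoryTheory CategoryTheory.Limits AlgebraicGeometry Opposite TopologicalSpace
noncomputable section

namespace Groth.Agent.Lib.Helper28.DblAlg

open Groth.Agent.Lib.Helper28 Groth.Agent.Lib.Helper28.QCohLoc Groth.Agent.Lib.Helper28.GenLocus
  Groth.Agent.Lib.Helper28.TensorGen Groth.Agent.Lib.Helper28.QCAlgOfQCoh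

variable {X : Scheme.{u}} {L : X.Modules} (m : CohB1.tensorMod L L ⟶ Coh.structureModule X)
  (hL : PicF.IsInvertible L)

/-- the sheaf of rings -/
def ringSheaf : Sheaf (Opens.grothendieckTopology X) CommRingCat.{u} := ⟨ringPresheaf m hL, isSheaf_ringPresheaf m hL⟩

/-- the structure map, as a morphism of sheaves -/
def strSheafHom : X.sheaf ⟶ ringSheaf m hL := ⟨strHom m hL⟩

/-- a section of the underlying module, as an element of the ring of sections -/
abbrev asSec {U : X.Opens} (y : Γ(modOf (ringSheaf m hL) (strSheafHom m hL), U)) : Sec m hL U := y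

/-- an element of the ring of sections, as a section of the underlying module -/
abbrev ofSec {U : X.Opens} (y : Sec m hL U) : Γ(modOf (ringSheaf m hL) (strSheafHom m hL), U) := y

theorem smul_fn {U : X.Opens} (c : Γ(X, U)) (y : Γ(modOf (ringSheaf m hL) (strSheafHom m hL), U)) :
    (asSec m hL (c • y)).fn = c * (asSec m hL y).fn := by
  show c * (asSec m hL y).fn + mu L m U 0 (asSec m hL y).sc = c * (asSec m hL y).fn
  have h0 : mu L m U 0 (asSec m hL y).sc = 0 := (pairing m hL U).zero_left _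
  rw [h0, add_zero]

theorem smul_sc {U : X.Opens} (c : Γ(X, U)) (y : Γ(modOf (ringSheaf m hL) (strSheafHom m hL), U)) :
    (asSec m hL (c • y)).sc = (c • (asSec m hL y).sc : Γ(L, U)) := by
  show (c • (asSec m hL y).sc + (asSec m hL y).fn • (0 : Γ(L, U)) : Γ(L, U)) = _
  rw [smul_zero, add_zero]

theorem res_fn {U V : X.Opens} (h : V ≤ U) (y : Γ(modOf (ringSheaf m hL) (strSheafHom m hL), U)) :
    (asSec m hL (res (modOf (ringSheaf m hL) (strSheafHom m hL)) h y)).fn = resO h (asSec m hL y).fn := rfl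

theorem res_sc {U V : X.Opens} (h : V ≤ U) (y : Γ(modOf (ringSheaf m hL) (strSheafHom m hL), U)) :
    (asSec m hL (res (modOf (ringSheaf m hL) (strSheafHom m hL)) h y)).sc = res L h (asSec m hL y).sc := rfl

theorem isLocOn_modOf {U : X.Opens} (hU : IsAffineOpen U) :
    IsLocOn (modOf (ringSheaf m hL) (strSheafHom m hL)) U where
  surj r y := by
    have := InvQC.isQuasicoherent_of_isInvertible L hL
    obtain ⟨n₁, a, ha⟩ := (InvQC.isLocOn_unit hU).surj r
      (show Γ(Coh.structureModule X, X.basicOpen r) from (asSec m hL y).fn)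
    obtain ⟨n₂, l, hl⟩ := (isLocOn_of_isQuasicoherent L hU).surj r (asSec m hL y).sc
    have ha' : resO (X.basicOpen_le r) r ^ n₁ * (asSec m hL y).fn = resO (X.basicOpen_le r) (show Γ(X, U) from a) := ha
    refine ⟨n₁ + n₂, ofSec m hL (Sec.mk (r ^ n₂ * (show Γ(X, U) from a)) (r ^ n₁ • l : Γ(L, U))), ?_⟩
    apply Sec.ext (m := m) (hL := hL)
    · rw [smul_fn, res_fn]
      show resO (X.basicOpen_le r) r ^ (n₁ + n₂) * (asSec m hL y).fn =
        resO (X.basicOpen_le r) (r ^ n₂ * (show Γ(X, U) from a))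
      rw [GenLocus.resO_mul, resO_pow, ← ha', pow_add]
      ring
    · rw [smul_sc, res_sc]
      show (resO (X.basicOpen_le r) r ^ (n₁ + n₂) • (asSec m hL y).sc : Γ(L, X.basicOpen r)) =
        res L (X.basicOpen_le r) (r ^ n₁ • l : Γ(L, U))
      rw [res_smul, resO_pow, ← hl, pow_add, mul_smul]
  inj r x hx := by
    have := InvQC.isQuasicoherent_of_isInvertible L hL
    have h1 : res (Coh.structureModule X) (X.basicOpen_le r)
        (show Γ(Coh.structureModule X, U) from (asSec m hL x).fn) = 0 :=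
      congrArg (fun z => Sec.fn (m := m) (hL := hL) (U := X.basicOpen r) z) hx
    have h2 : res L (X.basicOpen_le r) (asSec m hL x).sc = 0 :=
      congrArg (fun z => Sec.sc (m := m) (hL := hL) (U := X.basicOpen r) z) hx
    obtain ⟨n₁, hn₁⟩ := (InvQC.isLocOn_unit hU).inj r _ h1
    obtain ⟨n₂, hn₂⟩ := (isLocOn_of_isQuasicoherent L hU).inj r _ h2
    have hn₁' : r ^ n₁ * (asSec m hL x).fn = 0 := hn₁
    refine ⟨n₁ + n₂, ?_⟩
    apply Sec.ext (m := m) (hL := hL)
    · rw [smul_fn]
      show r ^ (n₁ + n₂) * (asSec m hL x).fn = 0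
      rw [pow_add, mul_comm (r ^ n₁), mul_assoc, hn₁', mul_zero]
    · rw [smul_sc]
      show (r ^ (n₁ + n₂) • (asSec m hL x).sc : Γ(L, U)) = 0
      rw [pow_add, mul_smul, hn₂, smul_zero]

theorem isQCoh_modOf : Coh.IsQCoh (modOf (ringSheaf m hL) (strSheafHom m hL)) :=
  isQuasicoherent_of_forall_isLocOn _ fun U => isLocOn_modOf m hL U.2

/-- **the quasi-coherent algebra `O_X ⊕ L`** -/
def dblAlg : RelSpec.QCAlg X where
  presheaf := ringPresheaf m hL
  isSheaf := isSheaf_ringPresheaf m hL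
  str := strHom m hL
  isQC := QCAlgOfQCoh.isQC (ringSheaf m hL) (strSheafHom m hL) (isQCoh_modOf m hL)

end Groth.Agent.Lib.Helper28.DblAlg
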