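import Groth.Agent.Lib.Helper28.DblAlgC
import Groth.Agent.Lib.Helper28.SecTwistCompat

/-!
# `O_X ⊕ L` is the double-cover algebra of `(L, m)`
-/

set_option autoImplicit false
universe u
open CategoryTheory CategoryTheory.Limits AlgebraicGeometry Opposite TopologicalSpace
noncomputable section

namespace Groth.Agent.Lib.Helper28.DblAlg

open Groth.Agent.Lib.Helper28 Groth.Agent.Lib.Helper28.QCohLoc Groth.Agent.Lib.Helper28.GenLocus
  Groth.Agent.Lib.Helper28.TensorGen Groth.Agent.Lib.Helper28.QCAlgOfQCoh

variable {X : Scheme.{u}} {L : X.Modules} (m : CohB1.tensorMod L L ⟶ Coh.structureModule X)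
  (hL : PicF.IsInvertible L)

/-- the inclusion `L ⟶ O_X ⊕ L` -/
def jMap : L ⟶ (dblAlg m hL).toModule :=
  ⟨letI := (dblAlg m hL).moduleSect
   PresheafOfModules.homMk
    { app := fun U => AddCommGrpCat.ofHom
        { toFun := fun l => (Sec.mk 0 (show Γ(L, U.unop) from l) : Sec m hL U.unop)
          map_zero' := rfl
          map_add' := fun l l' => Sec.ext (m := m) (hL := hL) (add_zero (0 : Γ(X, U.unop))).symm rfl }
      naturality := fun U V i => by
        ext l
        apply Sec.ext (m := m) (hL := hL)
        · exact (GenLocus.resO_zero _).symm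
        · rfl }
    (fun U r l => by
      apply Sec.ext (m := m) (hL := hL)
      · show (0 : Γ(X, U.unop)) = (show Γ(X, U.unop) from r) * 0 + mu L m U.unop 0 (show Γ(L, U.unop) from l)
        have h0 : mu L m U.unop 0 (show Γ(L, U.unop) from l) = 0 := (pairing m hL U.unop).zero_left _
        rw [h0, mul_zero, add_zero]
      · show ((show Γ(X, U.unop) from r) • (show Γ(L, U.unop) from l) : Γ(L, U.unop)) =
          ((show Γ(X, U.unop) from r) • (show Γ(L, U.unop) from l) + (0 : Γ(X, U.unop)) • (0 : Γ(L, U.unop)) :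
            Γ(L, U.unop))
        rw [zero_smul, add_zero])⟩

/-- **`O_X ⊕ L` with the inclusion of `L` is the double-cover algebra of `(L, m)`** -/
theorem isDblAlg : FinCov.IsDblAlg L m (dblAlg m hL) (jMap m hL) := by
  constructor
  · intro U
    constructor
    · intro p q hpq
      have h1 := congrArg (fun z => Sec.fn (m := m) (hL := hL) (U := U) z) hpq
      have h2 := congrArg (fun z => Sec.sc (m := m) (hL := hL) (U := U) z) hpq
      have h1' : p.1 + 0 = q.1 + 0 := h1
      have h2' : (0 : Γ(L, U)) + (show Γ(L, U) from p.2) = (0 : Γ(L, U)) + (show Γ(L, U) from q.2) := h2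
      rw [add_zero, add_zero] at h1'
      rw [zero_add, zero_add] at h2'
      exact Prod.ext h1' h2'
    · intro z
      refine ⟨(Sec.fn (m := m) (hL := hL) (U := U) z, Sec.sc (m := m) (hL := hL) (U := U) z), ?_⟩
      apply Sec.ext (m := m) (hL := hL)
      · exact add_zero _
      · exact zero_add _
  · intro U l l'
    apply Sec.ext (m := m) (hL := hL)
    · show (0 : Γ(X, U)) * 0 + mu L m U (show Γ(L, U) from l) (show Γ(L, U) from l') = _
      rw [zero_mul, zero_add]
      rfl
    · show ((0 : Γ(X, U)) • (show Γ(L, U) from l') + (0 : Γ(X, U)) • (show Γ(L, U) from l) : Γ(L, U)) = 0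
      rw [zero_smul, zero_smul, add_zero]

end Groth.Agent.Lib.Helper28.DblAlg
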