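import Groth.Agent.Lib.Helper28.TraceE
import Groth.Agent.Lib.Helper28.GenIso

/-!
# The frame `(1, j g)` of a double-cover algebra `O ⊕ L`
-/

set_option autoImplicit false
universe u
open CategoryTheory CategoryTheory.Limits AlgebraicGeometry Opposite TopologicalSpace
noncomputable section

namespace Groth.Agent.Lib.Helper28.TraceAlg

open Groth.Agent.Lib.Helper28 Groth.Agent.Lib.Helper28.QCohLoc Groth.Agent.Lib.Helper17.Frame
  Groth.Agent.Lib.Helper28.GenLocus

variable {X : Scheme.{u}} {L : X.Modules} {m : CohB1.tensorMod L L ⟶ Coh.structureModule X}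
  {A : RelSpec.QCAlg X} {j : L ⟶ A.toModule}

attribute [local instance] algAt

section dblFrame

variable (h : FinCov.IsDblAlg L m A j)

include h in
theorem dbl_inj (T : X.Opens) (s s' : Γ(X, T)) (l l' : Γ(L, T))
    (e : ofR A (algebraMap Γ(X, T) (A.presheaf.obj (op T)) s) + j.app T l =
      ofR A (algebraMap Γ(X, T) (A.presheaf.obj (op T)) s') + j.app T l') : s = s' ∧ l = l' := by
  have h1 := (h.1 T).1 (a₁ := (s, l)) (a₂ := (s', l')) e
  exact ⟨congrArg Prod.fst h1, congrArg Prod.snd h1⟩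

include h in
theorem dbl_surj (T : X.Opens) (a : Γ(A.toModule, T)) :
    ∃ (s : Γ(X, T)) (l : Γ(L, T)), ofR A (algebraMap Γ(X, T) (A.presheaf.obj (op T)) s) + j.app T l = a := by
  obtain ⟨p, hp⟩ := (h.1 T).2 a
  exact ⟨p.1, p.2, hp⟩

/-- the sections `1, j g` -/
def sig (j : L ⟶ A.toModule) {U : X.Opens} (g : Γ(L, U)) : Fin 2 → Γ(A.toModule, U) :=
  ![ofR A 1, j.app U g]

theorem comb_eq {U : X.Opens} (g : Γ(L, U)) {T : X.Opens} (hT : T ≤ U) (c : Fin 2 → Γ(X, T)) :
    (∑ i, c i • res A.toModule hT (sig j g i) : Γ(A.toModule, T)) =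
      ofR A (algebraMap Γ(X, T) (A.presheaf.obj (op T)) (c 0)) + j.app T (c 1 • res L hT g) := by
  rw [Fin.sum_univ_two]
  have h0 : res A.toModule hT (sig j g 0) = ofR A 1 := res_one (A := A) hT
  have h1 : res A.toModule hT (sig j g 1) = j.app T (res L hT g) := (app_res j hT g).symm
  rw [h0, h1, Scheme.Modules.Hom.app_smul]
  congr 1
  exact (Algebra.algebraMap_eq_smul_one (A := A.presheaf.obj (op T)) (c 0)).symm

include h in
theorem isBasisOn_sig {U : X.Opens} {g : Γ(L, U)} (hg : IsGen L U g) :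
    Groth.Agent.Lib.Helper29.FreeIso.IsBasisOn A.toModule U (sig j g) := by
  refine ⟨fun T hT c hc => ?_, fun T hT t pt hpt => ?_⟩
  · rw [comb_eq] at hc
    have hz : ofR A (algebraMap Γ(X, T) (A.presheaf.obj (op T)) 0) + j.app T (0 : Γ(L, T)) = 0 := by
      rw [map_zero, map_zero]
      exact add_zero _
    obtain ⟨e0, e1⟩ := dbl_inj h T _ _ _ _ (hc.trans hz.symm)
    have e2 : c 1 = 0 := by
      apply (hg T hT).1
      show (c 1 • res L hT g : Γ(L, T)) = (0 : Γ(X, T)) • res L hT g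
      rw [e1, zero_smul]
    intro i
    fin_cases i
    · exact e0
    · exact e2
  · obtain ⟨s, l, hsl⟩ := dbl_surj h T t
    refine ⟨T, le_rfl, hpt, ![s, hg.coef hT l], ?_⟩
    rw [res_self, comb_eq]
    show t = ofR A (algebraMap Γ(X, T) (A.presheaf.obj (op T)) s) + j.app T (hg.coef hT l • res L hT g)
    rw [hg.coef_smul hT l]
    exact hsl.symm

include h in
/-- **`O ⊕ L` is locally free of rank two** -/
theorem locFree_two (hL : PicF.IsInvertible L) : FlatMod.IsFinLocFreeOfRank 2 A.toModule := by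
  intro x
  obtain ⟨U, g, hxU, hg⟩ := exists_isGen L hL x
  exact ⟨U, hxU, (isBasisOn_sig h hg).nonempty_iso⟩

end dblFrame

end Groth.Agent.Lib.Helper28.TraceAlg
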