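import Mathlib

/-!
# The ring `R ⊕ M` with product `(s, l)(s', l') = (s s' + μ(l, l'), s l' + s' l)`
-/

set_option autoImplicit false
universe u

namespace Groth.Agent.Lib.Helper28

/-- pairs `(s, l)`, to carry the twisted ring structure -/
@[ext]
structure Dbl (R : Type u) (M : Type u) where
  fst : R
  snd : M

namespace Dbl

variable {R M : Type u} [CommRing R] [AddCommGroup M] [Module R M]

/-- pairs as a product -/
def equivProd : Dbl R M ≃ R × M where
  toFun x := (x.1, x.2)
  invFun p := ⟨p.1, p.2⟩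
  left_inv _ := rfl
  right_inv _ := rfl

instance : AddCommGroup (Dbl R M) := equivProd.addCommGroup

@[simp] theorem add_fst (x y : Dbl R M) : (x + y).fst = x.fst + y.fst := rfl
@[simp] theorem add_snd (x y : Dbl R M) : (x + y).snd = x.snd + y.snd := rfl
@[simp] theorem zero_fst : (0 : Dbl R M).fst = 0 := rfl
@[simp] theorem zero_snd : (0 : Dbl R M).snd = 0 := rfl
@[simp] theorem neg_fst (x : Dbl R M) : (-x).fst = -x.fst := rfl
@[simp] theorem neg_snd (x : Dbl R M) : (-x).snd = -x.snd := rfl
@[simp] theorem sub_fst (x y : Dbl R M) : (x - y).fst = x.fst - y.fst := rfl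
@[simp] theorem sub_snd (x y : Dbl R M) : (x - y).snd = x.snd - y.snd := rfl

variable (R M) in
/-- a symmetric bilinear pairing with `μ(l, l') l'' = μ(l', l'') l` -/
structure Pairing where
  μ : M → M → R
  add_left : ∀ l l' l'', μ (l + l') l'' = μ l l'' + μ l' l''
  smul_left : ∀ (a : R) l l', μ (a • l) l' = a * μ l l'
  symm : ∀ l l', μ l l' = μ l' l
  assoc : ∀ l l' l'', μ l l' • l'' = μ l' l'' • l

namespace Pairing

variable (P : Pairing R M)

theorem add_right (l l' l'' : M) : P.μ l (l' + l'') = P.μ l l' + P.μ l l'' := by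
  rw [P.symm, P.add_left, P.symm l', P.symm l'']

theorem smul_right (a : R) (l l' : M) : P.μ l (a • l') = a * P.μ l l' := by
  rw [P.symm, P.smul_left, P.symm]

theorem zero_left (l : M) : P.μ 0 l = 0 := by
  have := P.smul_left 0 0 l
  rwa [zero_smul, zero_mul] at this

theorem zero_right (l : M) : P.μ l 0 = 0 := by
  rw [P.symm, P.zero_left]

end Pairing

/-- the twisted commutative ring structure -/
@[reducible] def commRing (P : Pairing R M) : CommRing (Dbl R M) :=
  { (inferInstance : AddCommGroup (Dbl R M)) with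
    mul := fun x y => ⟨x.1 * y.1 + P.μ x.2 y.2, x.1 • y.2 + y.1 • x.2⟩
    one := ⟨1, 0⟩
    mul_assoc := by
      intro x y z
      apply Dbl.ext
      · show (x.1 * y.1 + P.μ x.2 y.2) * z.1 + P.μ (x.1 • y.2 + y.1 • x.2) z.2 =
          x.1 * (y.1 * z.1 + P.μ y.2 z.2) + P.μ x.2 (y.1 • z.2 + z.1 • y.2)
        rw [P.add_left, P.smul_left, P.smul_left, P.add_right, P.smul_right, P.smul_right]
        ring
      · show (x.1 * y.1 + P.μ x.2 y.2) • z.2 + z.1 • (x.1 • y.2 + y.1 • x.2) =
          x.1 • (y.1 • z.2 + z.1 • y.2) + (y.1 * z.1 + P.μ y.2 z.2) • x.2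
        rw [add_smul, add_smul, smul_add, smul_add, P.assoc x.2 y.2 z.2, smul_smul, smul_smul, smul_smul, smul_smul,
          mul_smul, mul_smul]
        simp only [smul_smul]
        rw [mul_comm z.1 x.1, mul_comm z.1 y.1]
        abel
    one_mul := by
      intro x
      apply Dbl.ext
      · show 1 * x.1 + P.μ 0 x.2 = x.1
        rw [P.zero_left, one_mul, add_zero]
      · show (1 : R) • x.2 + x.1 • (0 : M) = x.2
        rw [one_smul, smul_zero, add_zero]
    mul_one := by
      intro x
      apply Dbl.ext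
      · show x.1 * 1 + P.μ x.2 0 = x.1
        rw [P.zero_right, mul_one, add_zero]
      · show x.1 • (0 : M) + (1 : R) • x.2 = x.2
        rw [one_smul, smul_zero, zero_add]
    left_distrib := by
      intro x y z
      apply Dbl.ext
      · show x.1 * (y.1 + z.1) + P.μ x.2 (y.2 + z.2) = (x.1 * y.1 + P.μ x.2 y.2) + (x.1 * z.1 + P.μ x.2 z.2)
        rw [P.add_right]
        ring
      · show x.1 • (y.2 + z.2) + (y.1 + z.1) • x.2 = (x.1 • y.2 + y.1 • x.2) + (x.1 • z.2 + z.1 • x.2)
        rw [smul_add, add_smul]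
        abel
    right_distrib := by
      intro x y z
      apply Dbl.ext
      · show (x.1 + y.1) * z.1 + P.μ (x.2 + y.2) z.2 = (x.1 * z.1 + P.μ x.2 z.2) + (y.1 * z.1 + P.μ y.2 z.2)
        rw [P.add_left]
        ring
      · show (x.1 + y.1) • z.2 + z.1 • (x.2 + y.2) = (x.1 • z.2 + z.1 • x.2) + (y.1 • z.2 + z.1 • y.2)
        rw [smul_add, add_smul]
        abel
    zero_mul := by
      intro x
      apply Dbl.ext
      · show 0 * x.1 + P.μ 0 x.2 = 0
        rw [P.zero_left, zero_mul, add_zero]
      · show (0 : R) • x.2 + x.1 • (0 : M) = 0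
        rw [zero_smul, smul_zero, add_zero]
    mul_zero := by
      intro x
      apply Dbl.ext
      · show x.1 * 0 + P.μ x.2 0 = 0
        rw [P.zero_right, mul_zero, add_zero]
      · show x.1 • (0 : M) + (0 : R) • x.2 = 0
        rw [zero_smul, smul_zero, add_zero]
    mul_comm := by
      intro x y
      apply Dbl.ext
      · show x.1 * y.1 + P.μ x.2 y.2 = y.1 * x.1 + P.μ y.2 x.2
        rw [P.symm, mul_comm]
      · show x.1 • y.2 + y.1 • x.2 = y.1 • x.2 + x.1 • y.2
        rw [add_comm] }

theorem mul_fst (P : Pairing R M) (x y : Dbl R M) :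
    (letI := commRing P; x * y).fst = x.1 * y.1 + P.μ x.2 y.2 := rfl

theorem mul_snd (P : Pairing R M) (x y : Dbl R M) :
    (letI := commRing P; x * y).snd = x.1 • y.2 + y.1 • x.2 := rfl

theorem one_fst (P : Pairing R M) : (letI := commRing P; (1 : Dbl R M)).fst = 1 := rfl

theorem one_snd (P : Pairing R M) : (letI := commRing P; (1 : Dbl R M)).snd = 0 := rfl

end Dbl

end Groth.Agent.Lib.Helper28
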