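import Mathlib

set_option autoImplicit false

namespace Groth.Agent.Lib.Helper28.TraceAlgebra

theorem mat2 {R : Type*} [CommRing R] (M : Matrix (Fin 2) (Fin 2) R) :
    M * M = M.trace • M - M.det • (1 : Matrix (Fin 2) (Fin 2) R) := by
  ext i j
  fin_cases i <;> fin_cases j <;>
    simp [Matrix.mul_apply, Fin.sum_univ_two, Matrix.trace, Matrix.det_fin_two] <;> ring

theorem cayley2 {R S : Type*} [CommRing R] [CommRing S] [Algebra R S] (b : Module.Basis (Fin 2) R S) (a : S) :
    a * a = Algebra.trace R S a • a - (Algebra.leftMulMatrix b a).det • (1 : S) := by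
  apply Algebra.leftMulMatrix_injective b
  rw [map_mul, map_sub, map_smul, map_smul, map_one, Algebra.trace_eq_matrix_trace b]
  exact mat2 _

theorem sq_of_trace_zero {R S : Type*} [CommRing R] [CommRing S] [Algebra R S] (b : Module.Basis (Fin 2) R S)
    (a : S) (ha : Algebra.trace R S a = 0) :
    a * a = algebraMap R S (-(Algebra.leftMulMatrix b a).det) := by
  rw [cayley2 b a, ha, zero_smul, zero_sub, Algebra.algebraMap_eq_smul_one, neg_smul]

theorem mul_of_trace_zero {R S : Type*} [CommRing R] [CommRing S] [Algebra R S] (b : Module.Basis (Fin 2) R S)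
    (δ : R) (hδ : (2 : R) * δ = 1) (a a' : S) (ha : Algebra.trace R S a = 0) (ha' : Algebra.trace R S a' = 0) :
    a * a' = algebraMap R S (Algebra.trace R S (a * a') * δ) := by
  have h1 := sq_of_trace_zero b a ha
  have h2 := sq_of_trace_zero b a' ha'
  have h3 := sq_of_trace_zero b (a + a') (by rw [map_add, ha, ha', add_zero])
  have h4 : (2 : S) * (a * a') = algebraMap R S (-(Algebra.leftMulMatrix b (a + a')).det +
      (Algebra.leftMulMatrix b a).det + (Algebra.leftMulMatrix b a').det) := by
    rw [map_add, map_add, map_neg]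
    rw [map_neg] at h1 h2 h3
    linear_combination h3 - h1 - h2
  obtain ⟨ρ, hρ⟩ : ∃ ρ : R, a * a' = algebraMap R S ρ := by
    refine ⟨δ * (-(Algebra.leftMulMatrix b (a + a')).det +
      (Algebra.leftMulMatrix b a).det + (Algebra.leftMulMatrix b a').det), ?_⟩
    rw [map_mul, ← h4]
    have h5 : algebraMap R S δ * 2 = 1 := by
      have := congrArg (algebraMap R S) hδ
      rw [map_mul, map_one, map_ofNat] at this
      rw [mul_comm]
      exact this
    rw [← mul_assoc, h5, one_mul]
  rw [hρ, Algebra.trace_algebraMap_of_basis b, Fintype.card_fin]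
  congr 1
  rw [nsmul_eq_mul, Nat.cast_ofNat]
  linear_combination (-ρ) * hδ

end Groth.Agent.Lib.Helper28.TraceAlgebra
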