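import Groth.Agent.Lib.Helper28.TraceE
import Groth.Agent.Lib.Helper28.TraceAlgebra2
import Groth.Agent.Lib.Helper28.AmpleH1A
import Groth.Agent.Lib.Helper28.SecTwistCompat

/-!
# A locally free algebra of rank two with `2` invertible is `O ⊕ ker τ`
-/

set_option autoImplicit false
universe u
open CategoryTheory CategoryTheory.Limits AlgebraicGeometry Opposite TopologicalSpace
noncomputable section

namespace Groth.Agent.Lib.Helper28.TraceAlg

open Groth.Agent.Lib.Helper28 Groth.Agent.Lib.Helper28.QCohLoc Groth.Agent.Lib.Helper17.Frame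
  Groth.Agent.Lib.Helper28.IdealDual Groth.Agent.Lib.Helper28.TensorGen

variable {X : Scheme.{u}} {A : RelSpec.QCAlg X}

attribute [local instance] algAt

section rank2

/-- the restriction of a global function -/
def dl (δ : Γ(X, ⊤)) (W : X.Opens) : Γ(X, W) := resO (le_top : W ≤ ⊤) δ

theorem dl_res (δ : Γ(X, ⊤)) {W V : X.Opens} (h : V ≤ W) : resO h (dl δ W) = dl δ V :=
  resO_resO _ _ _

theorem two_dl (δ : Γ(X, ⊤)) (hδ : (2 : Γ(X, ⊤)) * δ = 1) (W : X.Opens) : (2 : Γ(X, W)) * dl δ W = 1 := by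
  have h := congrArg (resO (le_top : W ≤ ⊤)) hδ
  rw [GenLocus.resO_mul] at h
  have h1 : resO (le_top : W ≤ ⊤) (2 : Γ(X, ⊤)) = 2 :=
    map_ofNat (X.presheaf.map (homOfLE (le_top : W ≤ ⊤)).op).hom 2
  have h2 : resO (le_top : W ≤ ⊤) (1 : Γ(X, ⊤)) = 1 :=
    map_one (X.presheaf.map (homOfLE (le_top : W ≤ ⊤)).op).hom
  rw [h1, h2] at h
  exact h

variable (hA : FlatMod.IsFinLocFreeOfRank 2 A.toModule) (τ : A.toModule ⟶ Coh.structureModule X)
  (hτ : FinCov.IsTrace A τ) (δ : Γ(X, ⊤)) (hδ : (2 : Γ(X, ⊤)) * δ = 1)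

include hA hτ hδ in
/-- the product of two sections of trace zero is a function -/
theorem mul_of_tau_zero (W : X.Opens) (a a' : Γ(A.toModule, W)) (ha : τ.app W a = 0) (ha' : τ.app W a' = 0) :
    ofR A (asR A a * asR A a') = ofR A (algebraMap Γ(X, W) (A.presheaf.obj (op W))
      ((show Γ(X, W) from τ.app W (ofR A (asR A a * asR A a'))) * dl δ W)) := by
  have hloc : ∀ pt : W, ∃ V : X.Opens, V ≤ W ∧ pt.1 ∈ V ∧ FramedD A 2 V := by
    intro pt
    obtain ⟨V₀, hV₀, hptV₀⟩ := framedD_cov A 2 hA pt.1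
    exact ⟨V₀ ⊓ W, inf_le_right, ⟨hptV₀, pt.2⟩, hV₀.mono inf_le_left⟩
  choose V hVW hpt hfr using hloc
  refine eq_of_locally_eq A.toModule V W hVW (fun y hy => Opens.mem_iSup.2 ⟨⟨y, hy⟩, hpt _⟩)
    _ _ (fun pt => ?_)
  rw [str_res]
  refine (res_mul A (hVW pt) (asR A a) (asR A a')).trans ?_
  obtain ⟨U, γ, hVU, hγ⟩ := hfr pt
  have htr : ∀ z : Γ(A.toModule, W), Algebra.trace Γ(X, V pt) (A.presheaf.obj (op (V pt)))
      (asR A (res A.toModule (hVW pt) z)) = resO (hVW pt) (show Γ(X, W) from τ.app W z) := by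
    intro z
    have h1 := tau_app_of_framed hA τ hτ (⟨U, 2, γ, hVU, hγ⟩ : Framed A (V pt)) (res A.toModule (hVW pt) z)
    rw [app_res] at h1
    exact h1.symm
  have h0 : resO (hVW pt) (0 : Γ(X, W)) = 0 := GenLocus.resO_zero _
  have e1 := TraceAlgebra.mul_of_trace_zero (frameBasis hγ hVU) (dl δ (V pt)) (two_dl δ hδ (V pt))
    (asR A (res A.toModule (hVW pt) a)) (asR A (res A.toModule (hVW pt) a'))
    (by rw [htr, ha]; exact h0) (by rw [htr, ha']; exact h0)
  refine e1.trans ?_
  congr 1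
  rw [GenLocus.resO_mul, dl_res]
  congr 1
  rw [← htr]
  congr 1
  exact (res_mul A (hVW pt) (asR A a) (asR A a')).symm

end rank2

section pairing

variable (τ : A.toModule ⟶ Coh.structureModule X) (δ : Γ(X, ⊤))

/-- the product of two sections of the kernel, as a section of `A` -/
def kmul (W : X.Opens) (l l' : Γ(kernel τ, W)) : Γ(A.toModule, W) :=
  ofR A (asR A ((kernel.ι τ).app W l) * asR A ((kernel.ι τ).app W l'))

theorem kmul_add_left (W : X.Opens) (l₁ l₂ l' : Γ(kernel τ, W)) :
    kmul τ W (l₁ + l₂) l' = kmul τ W l₁ l' + kmul τ W l₂ l' := by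
  unfold kmul
  rw [map_add]
  exact add_mul (asR A ((kernel.ι τ).app W l₁)) (asR A ((kernel.ι τ).app W l₂)) (asR A ((kernel.ι τ).app W l'))

theorem kmul_add_right (W : X.Opens) (l l₁ l₂ : Γ(kernel τ, W)) :
    kmul τ W l (l₁ + l₂) = kmul τ W l l₁ + kmul τ W l l₂ := by
  unfold kmul
  rw [map_add]
  exact mul_add (asR A ((kernel.ι τ).app W l)) (asR A ((kernel.ι τ).app W l₁)) (asR A ((kernel.ι τ).app W l₂))

theorem kmul_smul_left (W : X.Opens) (a : Γ(X, W)) (l l' : Γ(kernel τ, W)) :
    kmul τ W (a • l) l' = a • kmul τ W l l' := by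
  unfold kmul
  rw [Scheme.Modules.Hom.app_smul]
  exact smul_mul_assoc a (asR A ((kernel.ι τ).app W l)) (asR A ((kernel.ι τ).app W l'))

theorem kmul_smul_right (W : X.Opens) (a : Γ(X, W)) (l l' : Γ(kernel τ, W)) :
    kmul τ W l (a • l') = a • kmul τ W l l' := by
  unfold kmul
  rw [Scheme.Modules.Hom.app_smul]
  exact mul_smul_comm a (asR A ((kernel.ι τ).app W l)) (asR A ((kernel.ι τ).app W l'))

theorem kmul_res {W W' : X.Opens} (h : W' ≤ W) (l l' : Γ(kernel τ, W)) :
    kmul τ W' (res (kernel τ) h l) (res (kernel τ) h l') = res A.toModule h (kmul τ W l l') := by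
  unfold kmul
  rw [app_res, app_res]
  exact (res_mul A h (asR A ((kernel.ι τ).app W l)) (asR A ((kernel.ι τ).app W l'))).symm

/-- `τ` on sections, with values in functions -/
def tauO (W : X.Opens) (z : Γ(A.toModule, W)) : Γ(X, W) := τ.app W z

theorem tauO_add (W : X.Opens) (z z' : Γ(A.toModule, W)) : tauO τ W (z + z') = tauO τ W z + tauO τ W z' := by
  unfold tauO
  rw [map_add]
  rfl

theorem tauO_sub (W : X.Opens) (z z' : Γ(A.toModule, W)) : tauO τ W (z - z') = tauO τ W z - tauO τ W z' := by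
  unfold tauO
  rw [map_sub]
  rfl

theorem tauO_smul (W : X.Opens) (a : Γ(X, W)) (z : Γ(A.toModule, W)) : tauO τ W (a • z) = a * tauO τ W z := by
  unfold tauO
  rw [Scheme.Modules.Hom.app_smul]
  rfl

theorem tauO_res {W W' : X.Opens} (h : W' ≤ W) (z : Γ(A.toModule, W)) :
    tauO τ W' (res A.toModule h z) = resO h (tauO τ W z) :=
  app_res τ h z

/-- the pairing on `ker τ`, with values in functions -/
def betaO (W : X.Opens) (l l' : Γ(kernel τ, W)) : Γ(X, W) := tauO τ W (kmul τ W l l') * dl δ W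

/-- the pairing `ker τ ⊗ ker τ ⟶ O_X`, `l ⊗ l' ↦ τ(l l') / 2` -/
def mPair : CohB1.tensorMod (kernel τ) (kernel τ) ⟶ Coh.structureModule X :=
  TensorIso.lift _ (Coh.structureModule X) (TensorIso.tensorDesc (kernel τ) (kernel τ) (Coh.structureModule X)
    (fun W l l' => (show Γ(Coh.structureModule X, W) from betaO τ δ W l l'))
    (fun W m m' n => by
      show betaO τ δ W (m + m') n = betaO τ δ W m n + betaO τ δ W m' n
      unfold betaO
      rw [kmul_add_left, tauO_add, add_mul])
    (fun W m n n' => by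
      show betaO τ δ W m (n + n') = betaO τ δ W m n + betaO τ δ W m n'
      unfold betaO
      rw [kmul_add_right, tauO_add, add_mul])
    (fun W a m n => by
      show betaO τ δ W (a • m) n = a * betaO τ δ W m n
      unfold betaO
      rw [kmul_smul_left, tauO_smul, mul_assoc])
    (fun W a m n => by
      show betaO τ δ W m (a • n) = a * betaO τ δ W m n
      unfold betaO
      rw [kmul_smul_right, tauO_smul, mul_assoc])
    (fun W W' h m n => by
      show betaO τ δ W' (res (kernel τ) h m) (res (kernel τ) h n) = resO h (betaO τ δ W m n)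
      unfold betaO
      rw [kmul_res, tauO_res, GenLocus.resO_mul, dl_res]))

theorem mPair_app (W : X.Opens) (l l' : Γ(kernel τ, W)) :
    (mPair τ δ).app W (tmulSec (kernel τ) (kernel τ) l l') =
      (show Γ(Coh.structureModule X, W) from betaO τ δ W l l') := by
  unfold mPair tmulSec ηT
  exact AmpleH1.lift_app_unit _ _ _ W (ptmul _ _ l l')

end pairing

section dbl

variable (hA : FlatMod.IsFinLocFreeOfRank 2 A.toModule) (τ : A.toModule ⟶ Coh.structureModule X)
  (hτ : FinCov.IsTrace A τ) (δ : Γ(X, ⊤)) (hδ : (2 : Γ(X, ⊤)) * δ = 1)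

include hA hτ in
theorem tauO_str (W : X.Opens) (u : Γ(X, W)) :
    tauO τ W (ofR A (algebraMap Γ(X, W) (A.presheaf.obj (op W)) u)) = 2 * u := by
  have h := tau_str hA τ hτ W u
  refine Eq.trans h ?_
  show ((2 : ℕ) : Γ(X, W)) * u = 2 * u
  rw [Nat.cast_ofNat]

theorem tauO_iota (W : X.Opens) (l : Γ(kernel τ, W)) : tauO τ W ((kernel.ι τ).app W l) = 0 :=
  app_kernel_ι_app τ W l

include hA hτ hδ in
/-- **a locally free algebra of rank two, with `2` invertible, is `O_X ⊕ ker τ`** -/
theorem isDblAlg : FinCov.IsDblAlg (kernel τ) (mPair τ δ) A (kernel.ι τ) := by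
  constructor
  · intro U
    constructor
    · intro p q hpq
      have h1 : ofR A (algebraMap Γ(X, U) (A.presheaf.obj (op U)) p.1) + (kernel.ι τ).app U p.2 =
          ofR A (algebraMap Γ(X, U) (A.presheaf.obj (op U)) q.1) + (kernel.ι τ).app U q.2 := hpq
      have h2 := congrArg (tauO τ U) h1
      rw [tauO_add, tauO_add, tauO_str hA τ hτ, tauO_str hA τ hτ, tauO_iota, tauO_iota, add_zero, add_zero] at h2
      have h3 : p.1 = q.1 := by
        have h4 := congrArg (fun z => dl δ U * z) h2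
        simp only [← mul_assoc] at h4
        rw [mul_comm (dl δ U) 2, two_dl δ hδ, one_mul, one_mul] at h4
        exact h4
      have h4 : (kernel.ι τ).app U p.2 = (kernel.ι τ).app U q.2 := by
        rw [h3] at h1
        exact add_left_cancel h1
      exact Prod.ext h3 (kernel_ι_app_injective τ U h4)
    · intro a
      have h0 : τ.app U ((show Γ(A.toModule, U) from a) -
          ofR A (algebraMap Γ(X, U) (A.presheaf.obj (op U)) (tauO τ U a * dl δ U))) = 0 := by
        show tauO τ U ((show Γ(A.toModule, U) from a) -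
          ofR A (algebraMap Γ(X, U) (A.presheaf.obj (op U)) (tauO τ U a * dl δ U))) = 0
        rw [tauO_sub, tauO_str hA τ hτ]
        have := two_dl δ hδ U
        linear_combination (-(tauO τ U a)) * this
      obtain ⟨l, hl⟩ := exists_kernel_app_eq τ U _ h0
      refine ⟨(tauO τ U a * dl δ U, l), ?_⟩
      show ofR A (algebraMap Γ(X, U) (A.presheaf.obj (op U)) (tauO τ U a * dl δ U)) + (kernel.ι τ).app U l = a
      rw [hl]
      exact add_sub_cancel _ _
  · intro U l l'
    have h := mul_of_tau_zero hA τ hτ δ hδ U ((kernel.ι τ).app U l) ((kernel.ι τ).app U l')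
      (app_kernel_ι_app τ U l) (app_kernel_ι_app τ U l')
    rw [GenLocus.sectwist_tmul_eq]
    have hm := mPair_app τ δ U l l'
    refine Eq.trans h ?_
    show ofR A (algebraMap Γ(X, U) (A.presheaf.obj (op U)) (betaO τ δ U l l')) = _
    exact congrArg (fun z : Γ(X, U) => ofR A (algebraMap Γ(X, U) (A.presheaf.obj (op U)) z)) hm.symm

end dbl

end Groth.Agent.Lib.Helper28.TraceAlg
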