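import Groth.Agent.Lib.Helper28.DblFrame
import Groth.Agent.Lib.Helper28.TraceF

/-!
# The kernel of the trace of a double-cover algebra `O ⊕ L` is `L`
-/

set_option autoImplicit false
universe u
open CategoryTheory CategoryTheory.Limits AlgebraicGeometry Opposite TopologicalSpace
noncomputable section

namespace Groth.Agent.Lib.Helper28.TraceAlg

open Groth.Agent.Lib.Helper28 Groth.Agent.Lib.Helper28.QCohLoc Groth.Agent.Lib.Helper17.Frame
  Groth.Agent.Lib.Helper28.GenLocus

variable {X : Scheme.{u}} {L : X.Modules} {m : CohB1.tensorMod L L ⟶ Coh.structureModule X}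
  {A : RelSpec.QCAlg X} {j : L ⟶ A.toModule}

attribute [local instance] algAt

section dblTrace

variable (h : FinCov.IsDblAlg L m A j)

include h in
theorem isFrame_sig {U : X.Opens} {g : Γ(L, U)} (hg : IsGen L U g) : IsFrame A.toModule U (sig j g) := by
  intro T hT
  constructor
  · intro c c' hcc'
    have hcc : (∑ i, c i • res A.toModule hT (sig j g i) : Γ(A.toModule, T)) =
        ∑ i, c' i • res A.toModule hT (sig j g i) := hcc'
    rw [comb_eq, comb_eq] at hcc
    obtain ⟨e0, e1⟩ := dbl_inj h T _ _ _ _ hcc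
    have e2 : c 1 = c' 1 := (hg T hT).1 e1
    funext i
    fin_cases i
    · exact e0
    · exact e2
  · intro t
    obtain ⟨s, l, hsl⟩ := dbl_surj h T t
    refine ⟨![s, hg.coef hT l], ?_⟩
    show (∑ i, (![s, hg.coef hT l] : Fin 2 → Γ(X, T)) i • res A.toModule hT (sig j g i) : Γ(A.toModule, T)) = t
    rw [comb_eq]
    show ofR A (algebraMap Γ(X, T) (A.presheaf.obj (op T)) s) + j.app T (hg.coef hT l • res L hT g) = t
    rw [hg.coef_smul hT l]
    exact hsl

include h in
theorem dbl_mul (T : X.Opens) (l l' : Γ(L, T)) :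
    ∃ μ : Γ(X, T), asR A (j.app T l) * asR A (j.app T l') = algebraMap Γ(X, T) (A.presheaf.obj (op T)) μ :=
  ⟨_, h.2 T l l'⟩

variable (hA : FlatMod.IsFinLocFreeOfRank 2 A.toModule) (τ : A.toModule ⟶ Coh.structureModule X)
  (hτ : FinCov.IsTrace A τ)

include h hA hτ in
/-- the trace vanishes on `j(L)`, over opens where `L` is trivial -/
theorem tau_j_of_isGen {U : X.Opens} {g : Γ(L, U)} (hg : IsGen L U g) {V : X.Opens} (hV : V ≤ U) (l : Γ(L, V)) :
    τ.app V (j.app V l) = 0 := by
  have hγ := isFrame_sig h hg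
  rw [tau_app_of_framed hA τ hτ (⟨U, 2, sig j g, hV, hγ⟩ : Framed A V) (j.app V l)]
  show Algebra.trace Γ(X, V) (A.presheaf.obj (op V)) (asR A (j.app V l)) = 0
  rw [trace_eq_sum hγ hV, Fin.sum_univ_two]
  have h0 : res A.toModule hV (sig j g 0) = ofR A 1 := res_one (A := A) hV
  have h1 : res A.toModule hV (sig j g 1) = j.app V (res L hV g) := (app_res j hV g).symm
  rw [h0, h1]
  obtain ⟨μ, hμ⟩ := dbl_mul h V l (res L hV g)
  have c0 : hγ.coef hV (ofR A (asR A (j.app V l) * asR A (ofR A (1 : A.presheaf.obj (op V))))) =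
      ![0, hg.coef hV l] := by
    apply hγ.coef_eq hV
    rw [comb_eq]
    show ofR A (algebraMap Γ(X, V) (A.presheaf.obj (op V)) 0) + j.app V (hg.coef hV l • res L hV g) = _
    rw [hg.coef_smul hV l, map_zero]
    show (0 : A.presheaf.obj (op V)) + asR A (j.app V l) = asR A (j.app V l) * 1
    rw [zero_add, mul_one]
  have c1 : hγ.coef hV (ofR A (asR A (j.app V l) * asR A (j.app V (res L hV g)))) = ![μ, 0] := by
    apply hγ.coef_eq hV
    rw [comb_eq]
    show ofR A (algebraMap Γ(X, V) (A.presheaf.obj (op V)) μ) + j.app V ((0 : Γ(X, V)) • res L hV g) = _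
    rw [zero_smul, map_zero, hμ]
    exact add_zero _
  rw [c0, c1]
  show (0 : Γ(X, V)) + 0 = 0
  exact add_zero _

include h hA hτ in
/-- the trace vanishes on `j(L)` -/
theorem tau_j (hL : PicF.IsInvertible L) (T : X.Opens) (l : Γ(L, T)) : τ.app T (j.app T l) = 0 := by
  have hloc : ∀ pt : T, ∃ (V U : X.Opens) (g : Γ(L, U)), V ≤ T ∧ pt.1 ∈ V ∧ V ≤ U ∧ IsGen L U g := by
    intro pt
    obtain ⟨U, g, hxU, hg⟩ := exists_isGen L hL pt.1
    exact ⟨U ⊓ T, U, g, inf_le_right, ⟨hxU, pt.2⟩, inf_le_left, hg⟩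
  choose V U g hVT hpt hVU hg using hloc
  refine eq_of_locally_eq (Coh.structureModule X) V T hVT (fun y hy => Opens.mem_iSup.2 ⟨⟨y, hy⟩, hpt _⟩)
    _ _ (fun pt => ?_)
  rw [← app_res, ← app_res, res_zero]
  exact tau_j_of_isGen h hA τ hτ (hg pt) (hVU pt) _

include h hτ in
/-- **the kernel of the trace of `O ⊕ L` is `j(L)`** -/
theorem tau_eq_zero_iff (hL : PicF.IsInvertible L) (h2 : IsUnit (2 : Γ(X, ⊤))) (U : X.Opens)
    (a : A.toModule.val.obj (op U)) :
    (τ.val.app (op U)).hom a = 0 ↔ a ∈ Set.range (j.val.app (op U)).hom := by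
  obtain ⟨δ, hδ⟩ := h2.exists_right_inv
  have hA := locFree_two h hL
  constructor
  · intro ha
    obtain ⟨s, l, hsl⟩ := dbl_surj h U a
    have h1 : tauO τ U a = 2 * s := by
      rw [← hsl, tauO_add, tauO_str hA τ hτ]
      have h3 : tauO τ U (j.app U l) = 0 := tau_j h hA τ hτ hL U l
      rw [h3, add_zero]
    have h4 : tauO τ U a = 0 := ha
    have hs : s = 0 := by
      have h5 := two_dl δ hδ U
      have h6 : (2 : Γ(X, U)) * s = 0 := h1.symm.trans h4
      linear_combination (-s) * h5 + (dl δ U) * h6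
    refine ⟨l, ?_⟩
    rw [hs, map_zero] at hsl
    exact (zero_add _).symm.trans hsl
  · rintro ⟨l, rfl⟩
    exact tau_j h hA τ hτ hL U l

end dblTrace

end Groth.Agent.Lib.Helper28.TraceAlg
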