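import Mathlib

/-!
# A family of submodules with projections is an internal direct sum
-/

set_option autoImplicit false

namespace Groth.Agent.Lib.Helper28.DecompProj

variable {R M : Type*} [Ring R] [AddCommGroup M] [Module R M] (ℳ : ℕ → Submodule R M)
  (π : ℕ → M →+ M)

theorem pi_coe (hid : ∀ n x, x ∈ ℳ n → π n x = x)
    (hzero : ∀ n m x, m ≠ n → x ∈ ℳ m → π n x = 0) (i : ℕ) (y : DirectSum ℕ fun i => ℳ i) :
    π i (DirectSum.coeAddMonoidHom ℳ y) = (y i : M) := by
  induction y using DirectSum.induction_on with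
  | zero => simp
  | of j z =>
    rw [DirectSum.coeAddMonoidHom_of]
    by_cases h : j = i
    · subst h
      rw [DirectSum.of_eq_same, hid _ _ z.2]
    · rw [DirectSum.of_eq_of_ne _ _ _ (Ne.symm h), hzero i j _ h z.2]
      rfl
  | add x y hx hy =>
    rw [map_add, map_add, hx, hy, DirectSum.add_apply, Submodule.coe_add]

theorem isInternal (hmem : ∀ n x, π n x ∈ ℳ n) (hid : ∀ n x, x ∈ ℳ n → π n x = x)
    (hzero : ∀ n m x, m ≠ n → x ∈ ℳ m → π n x = 0)
    (hsum : ∀ x, ∃ S : Finset ℕ, x = ∑ n ∈ S, π n x) : DirectSum.IsInternal ℳ := by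
  constructor
  · rw [injective_iff_map_eq_zero]
    intro y hy
    ext i
    rw [← pi_coe ℳ π hid hzero i y, hy, map_zero]
    simp
  · intro x
    obtain ⟨S, hS⟩ := hsum x
    refine ⟨∑ n ∈ S, DirectSum.of (fun i => ℳ i) n ⟨π n x, hmem n x⟩, ?_⟩
    rw [map_sum]
    conv_rhs => rw [hS]
    refine Finset.sum_congr rfl fun n _ => ?_
    rw [DirectSum.coeAddMonoidHom_of]

/-- the decomposition given by the projections -/
@[reducible] noncomputable def decomposition (hmem : ∀ n x, π n x ∈ ℳ n) (hid : ∀ n x, x ∈ ℳ n → π n x = x)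
    (hzero : ∀ n m x, m ≠ n → x ∈ ℳ m → π n x = 0)
    (hsum : ∀ x, ∃ S : Finset ℕ, x = ∑ n ∈ S, π n x) : DirectSum.Decomposition ℳ :=
  (isInternal ℳ π hmem hid hzero hsum).chooseDecomposition

end Groth.Agent.Lib.Helper28.DecompProj
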