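import Groth.Agent.Lib.Helper28.TwistBC3
import Groth.Agent.Lib.Helper28.GrModQC

/-!
# Dehomogenization along an element of degree one

For `f ∈ 𝒜 1`: the ring homomorphism `A → Γ(D₊(f), O)`, `a ↦ Σ a_j / f^j`, and the additive map
`M → Γ(D₊(f), M(n)~)`, `m ↦ Σ m_i f^{n - i}`, semilinear over it.
-/

set_option autoImplicit false
universe u
open CategoryTheory AlgebraicGeometry Opposite TopologicalSpace DirectSum
open HomogeneousLocalization
noncomputable section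

namespace Groth.Agent.Lib.Helper28.Dehom

open Groth.Agent.Lib.Helper28 Groth.Agent.Lib.Helper28.QCohLoc Groth.Agent.Lib.Helper28.TwistBC
open Groth.Agent.Lib.Helper28.GrModQC (valO)

section ring

variable {A σ : Type u} [CommRing A] [SetLike σ A] [AddSubgroupClass σ A] (𝒜 : ℕ → σ) [GradedRing 𝒜]
  {d : ℕ} {f : A} (hf : f ∈ 𝒜 d)

/-- product of two homogeneous fractions -/
theorem numO_mul (i j : ℕ) (a b : A) (ha : a ∈ 𝒜 (i • d)) (hb : b ∈ 𝒜 (j • d)) :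
    numO 𝒜 hf i a * numO 𝒜 hf j b = numO 𝒜 hf (i + j) (a * b) := by
  have hab : a * b ∈ 𝒜 ((i + j) • d) := by
    rw [add_smul]; exact SetLike.mul_mem_graded ha hb
  apply extO
  intro x
  rw [valO_mul, val_numO_of_mem 𝒜 hf i a ha, val_numO_of_mem 𝒜 hf j b hb, val_numO_of_mem 𝒜 hf (i + j) _ hab,
    Localization.mk_mul]
  congr 1
  exact Subtype.ext (pow_add f i j).symm

theorem numO_zero_one : numO 𝒜 hf 0 (1 : A) = 1 := by
  have h1 : (1 : A) ∈ 𝒜 (0 • d) := by rw [zero_smul]; exact SetLike.GradedOne.one_mem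
  apply extO
  intro x
  rw [val_numO_of_mem 𝒜 hf 0 1 h1]
  have : (valO 𝒜 (1 : Γ(Proj 𝒜, Proj.basicOpen 𝒜 f)) x).val = 1 := HomogeneousLocalization.val_one
  rw [this]
  have h2 : (⟨f ^ 0, GrSectMod.pow_nin 𝒜 0 x⟩ : x.1.asHomogeneousIdeal.toIdeal.primeCompl) = 1 :=
    Subtype.ext (pow_zero f)
  rw [h2]
  exact Localization.mk_one

end ring


section deg1

variable {A σ : Type u} [CommRing A] [SetLike σ A] [AddSubgroupClass σ A] (𝒜 : ℕ → σ) [GradedRing 𝒜]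
  {f : A} (hf : f ∈ 𝒜 1)

omit [AddSubgroupClass σ A] [GradedRing 𝒜] in
theorem mem_smul_one {j : ℕ} {a : A} (ha : a ∈ 𝒜 j) : a ∈ 𝒜 (j • 1) := by rwa [smul_eq_mul, mul_one]

/-- `a ↦ a / f^j` on the degree-`j` part -/
def dOpiece (j : ℕ) : 𝒜 j →+ Γ(Proj 𝒜, Proj.basicOpen 𝒜 f) :=
  AddMonoidHom.mk' (fun a => numO 𝒜 hf j (a : A)) (fun a b => numO_add 𝒜 hf j a b)

/-- the dehomogenization homomorphism `A → Γ(D₊(f), O)` -/
def dO : A →+* Γ(Proj 𝒜, Proj.basicOpen 𝒜 f) :=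
  (DirectSum.toSemiring (dOpiece 𝒜 hf) (numO_zero_one 𝒜 hf)
    (fun {i j} ai aj => (numO_mul 𝒜 hf i j ai aj (mem_smul_one 𝒜 ai.2) (mem_smul_one 𝒜 aj.2)).symm)).comp
    (DirectSum.decomposeRingEquiv 𝒜 : A ≃+* ⨁ i, 𝒜 i).toRingHom

theorem dO_of_mem {j : ℕ} {a : A} (ha : a ∈ 𝒜 j) : dO 𝒜 hf a = numO 𝒜 hf j a := by
  unfold dO
  rw [RingHom.comp_apply]
  have h1 : (DirectSum.decomposeRingEquiv 𝒜 : A ≃+* ⨁ i, 𝒜 i).toRingHom a =
      DirectSum.of (fun i => 𝒜 i) j ⟨a, ha⟩ := DirectSum.decompose_of_mem 𝒜 ha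
  rw [h1, DirectSum.toSemiring_of]
  rfl

theorem dO_self : dO 𝒜 hf f = 1 := by
  rw [dO_of_mem 𝒜 hf hf]
  apply extO
  intro x
  rw [val_numO_of_mem 𝒜 hf 1 f (mem_smul_one 𝒜 hf)]
  have : (valO 𝒜 (1 : Γ(Proj 𝒜, Proj.basicOpen 𝒜 f)) x).val = 1 := HomogeneousLocalization.val_one
  rw [this, Localization.mk_eq_mk', IsLocalization.mk'_eq_iff_eq_mul, one_mul]
  congr 1
  exact (pow_one f).symm

theorem dO_surjective : Function.Surjective (dO 𝒜 hf) := by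
  intro s
  obtain ⟨j, a, ha, rfl⟩ := exists_numO 𝒜 hf Nat.one_pos s
  have ha' : a ∈ 𝒜 j := by rwa [smul_eq_mul, mul_one] at ha
  exact ⟨a, dO_of_mem 𝒜 hf ha'⟩

end deg1


section mod

variable {A σ : Type u} [CommRing A] [SetLike σ A] [AddSubgroupClass σ A] (𝒜 : ℕ → σ) [GradedRing 𝒜]
  {f : A} (hf : f ∈ 𝒜 1)
variable {M τ : Type u} [AddCommGroup M] [Module A M] [SetLike τ M] [AddSubgroupClass τ M] (ℳ : ℕ → τ)
  [DirectSum.Decomposition ℳ] [SetLike.GradedSMul 𝒜 ℳ] (n : ℤ)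

theorem mk_add_same {R : Type*} [CommSemiring R] {M : Type*} [AddCommMonoid M] [Module R M] {S : Submonoid R}
    (m m' : M) (s : S) :
    (LocalizedModule.mk (m + m') s : LocalizedModule S M) = LocalizedModule.mk m s + LocalizedModule.mk m' s := by
  rw [LocalizedModule.mk_add_mk, ← smul_add, LocalizedModule.mk_cancel_common_left]

/-- the exponent of the denominator -/
def kIdx (n : ℤ) (i : ℕ) : ℕ := ((i : ℤ) - n).toNat
/-- the exponent of the correcting power of `f` in the numerator -/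
def eIdx (n : ℤ) (i : ℕ) : ℕ := (n - (i : ℤ)).toNat

theorem idx_eq (n : ℤ) (i : ℕ) : ((eIdx n i + i : ℕ) : ℤ) = (kIdx n i : ℤ) * ((1 : ℕ) : ℤ) + n := by
  unfold eIdx kIdx
  push_cast
  omega

include hf in
omit [DirectSum.Decomposition ℳ] in
theorem pow_smul_mem {e i : ℕ} {m : M} (hm : m ∈ ℳ i) : f ^ e • m ∈ ℳ (e + i) := by
  have h1 : f ^ e ∈ 𝒜 (e • 1) := SetLike.pow_mem_graded e hf
  rw [smul_eq_mul, mul_one] at h1
  exact SetLike.GradedSMul.smul_mem h1 hm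

/-- `m ↦ f^e m / f^k` on the degree-`i` part -/
def dMpiece (i : ℕ) : ℳ i →+ Γ(GrMod.tilde 𝒜 ℳ n, Proj.basicOpen 𝒜 f) :=
  AddMonoidHom.mk' (fun m => GrModQC.mkSect 𝒜 ℳ hf n (kIdx n i) (eIdx n i + i) (f ^ eIdx n i • (m : M))
    (pow_smul_mem 𝒜 hf ℳ m.2) (idx_eq n i)) (by
      intro a b
      apply GrModQC.ext_val
      intro x
      show GrModQC.val 𝒜 ℳ (GrModQC.mkSect 𝒜 ℳ hf n (kIdx n i) (eIdx n i + i) (f ^ eIdx n i • ((a + b : ℳ i) : M))
          (pow_smul_mem 𝒜 hf ℳ (a + b).2) (idx_eq n i)) x =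
        GrModQC.val 𝒜 ℳ (GrModQC.mkSect 𝒜 ℳ hf n (kIdx n i) (eIdx n i + i) (f ^ eIdx n i • (a : M))
          (pow_smul_mem 𝒜 hf ℳ a.2) (idx_eq n i)) x +
        GrModQC.val 𝒜 ℳ (GrModQC.mkSect 𝒜 ℳ hf n (kIdx n i) (eIdx n i + i) (f ^ eIdx n i • (b : M))
          (pow_smul_mem 𝒜 hf ℳ b.2) (idx_eq n i)) x
      rw [GrModQC.val_mkSect, GrModQC.val_mkSect, GrModQC.val_mkSect, ← mk_add_same, ← smul_add]
      rfl)

/-- the dehomogenization map `M → Γ(D₊(f), M(n)~)` -/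
def dM : M →+ Γ(GrMod.tilde 𝒜 ℳ n, Proj.basicOpen 𝒜 f) :=
  (DirectSum.toAddMonoid (dMpiece 𝒜 hf ℳ n)).comp (DirectSum.decomposeAddEquiv ℳ).toAddMonoidHom

theorem dM_of_mem {i : ℕ} {m : M} (hm : m ∈ ℳ i) (x : Proj.basicOpen 𝒜 f) :
    GrModQC.val 𝒜 ℳ (dM 𝒜 hf ℳ n m) x =
      LocalizedModule.mk (f ^ eIdx n i • m) ⟨f ^ kIdx n i, GrSectMod.pow_nin 𝒜 (kIdx n i) x⟩ := by
  unfold dM
  rw [AddMonoidHom.comp_apply]
  have h1 : (DirectSum.decomposeAddEquiv ℳ).toAddMonoidHom m = DirectSum.of (fun i => ℳ i) i ⟨m, hm⟩ :=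
    DirectSum.decompose_of_mem ℳ hm
  rw [h1, DirectSum.toAddMonoid_of]
  rfl

end mod


section mod2

variable {A σ : Type u} [CommRing A] [SetLike σ A] [AddSubgroupClass σ A] (𝒜 : ℕ → σ) [GradedRing 𝒜]
  {f : A} (hf : f ∈ 𝒜 1)
variable {M τ : Type u} [AddCommGroup M] [Module A M] [SetLike τ M] [AddSubgroupClass τ M] (ℳ : ℕ → τ)
  [DirectSum.Decomposition ℳ] [SetLike.GradedSMul 𝒜 ℳ] (n : ℤ)

theorem dM_smul_of_mem {j i : ℕ} {a : A} {m : M} (ha : a ∈ 𝒜 j) (hm : m ∈ ℳ i) :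
    dM 𝒜 hf ℳ n (a • m) = dO 𝒜 hf a • dM 𝒜 hf ℳ n m := by
  have ham : a • m ∈ ℳ (j + i) := SetLike.GradedSMul.smul_mem ha hm
  apply GrModQC.ext_val
  intro x
  rw [GrModQC.val_smul, dM_of_mem 𝒜 hf ℳ n ham, dM_of_mem 𝒜 hf ℳ n hm, dO_of_mem 𝒜 hf ha,
    val_numO_of_mem 𝒜 hf j a (mem_smul_one 𝒜 ha), LocalizedModule.mk_smul_mk, LocalizedModule.mk_eq]
  refine ⟨1, ?_⟩
  have key : j + kIdx n i + eIdx n (j + i) = kIdx n (j + i) + eIdx n i := by
    unfold kIdx eIdx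
    push_cast
    omega
  simp only [Submonoid.smul_def, one_smul, smul_smul]
  congr 1
  have h1 : f ^ j * f ^ kIdx n i * f ^ eIdx n (j + i) = f ^ kIdx n (j + i) * f ^ eIdx n i := by
    rw [← pow_add, ← pow_add, ← pow_add, key]
  calc f ^ j * f ^ kIdx n i * (f ^ eIdx n (j + i) * a) = (f ^ j * f ^ kIdx n i * f ^ eIdx n (j + i)) * a := by ring
    _ = f ^ kIdx n (j + i) * f ^ eIdx n i * a := by rw [h1]
    _ = f ^ kIdx n (j + i) * (a * f ^ eIdx n i) := by ring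

/-- the dehomogenization of `M` is semilinear over the dehomogenization of `A` -/
theorem dM_smul (a : A) (m : M) : dM 𝒜 hf ℳ n (a • m) = dO 𝒜 hf a • dM 𝒜 hf ℳ n m := by
  classical
  induction a using DirectSum.Decomposition.inductionOn 𝒜 with
  | zero => rw [zero_smul, map_zero, map_zero, zero_smul]
  | @homogeneous j a =>
    induction m using DirectSum.Decomposition.inductionOn ℳ with
    | zero => rw [smul_zero, map_zero, smul_zero]
    | @homogeneous i m => exact dM_smul_of_mem 𝒜 hf ℳ n a.2 m.2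
    | add m m' hm hm' => rw [smul_add, map_add, map_add, hm, hm', smul_add]
  | add a a' ha ha' => rw [add_smul, map_add, map_add, ha, ha', add_smul]

theorem dM_surjective : Function.Surjective (dM 𝒜 hf ℳ n) := by
  intro t
  obtain ⟨k, i, m, hm, hi, hval⟩ := GrModQC.exists_frac 𝒜 ℳ hf Nat.one_pos n t
  refine ⟨m, ?_⟩
  apply GrModQC.ext_val
  intro x
  rw [hval x, dM_of_mem 𝒜 hf ℳ n hm, LocalizedModule.mk_eq]
  refine ⟨1, ?_⟩
  have hk : kIdx n i = k := by unfold kIdx; push_cast at hi; omega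
  have he : eIdx n i = 0 := by unfold eIdx; push_cast at hi; omega
  simp only [Submonoid.smul_def, one_smul]
  show f ^ k • f ^ eIdx n i • m = f ^ kIdx n i • m
  rw [he, hk, pow_zero, one_smul]

theorem mk_sum_same {R : Type*} [CommSemiring R] {M : Type*} [AddCommMonoid M] [Module R M] {S : Submonoid R}
    {ι : Type*} (T : Finset ι) (m : ι → M) (s : S) :
    (LocalizedModule.mk (∑ i ∈ T, m i) s : LocalizedModule S M) = ∑ i ∈ T, LocalizedModule.mk (m i) s := by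
  classical
  induction T using Finset.induction_on with
  | empty => simp
  | insert a T ha ih => rw [Finset.sum_insert ha, Finset.sum_insert ha, mk_add_same, ih]

/-- an element whose dehomogenization vanishes is killed by every additive map which does not see `f` -/
theorem map_eq_zero_of_dM_eq_zero (x : M) (hx : dM 𝒜 hf ℳ n x = 0) {Q : Type*} [AddCommGroup Q] (Λ : M →+ Q)
    (hΛ : ∀ y : M, Λ (f • y) = Λ y) : Λ x = 0 := by
  classical
  have hΛ' : ∀ (c : ℕ) (y : M), Λ (f ^ c • y) = Λ y := by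
    intro c
    induction c with
    | zero => intro y; rw [pow_zero, one_smul]
    | succ c ih => intro y; rw [pow_succ, mul_smul, ih, hΛ]
  let supp := (DirectSum.decompose ℳ x).support
  let xi : ℕ → M := fun i => (DirectSum.decompose ℳ x i : M)
  have hxi : ∀ i, xi i ∈ ℳ i := fun i => (DirectSum.decompose ℳ x i).2
  have hsum : x = ∑ i ∈ supp, xi i := (DirectSum.sum_support_decompose ℳ x).symm
  let K := supp.sup (kIdx n)
  have hK : ∀ i ∈ supp, kIdx n i ≤ K := fun i hi => Finset.le_sup (f := kIdx n) hi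
  let c : ℕ → ℕ := fun i => K - kIdx n i + eIdx n i
  let z : M := ∑ i ∈ supp, f ^ c i • xi i
  let K' : ℕ := (K + n).toNat
  -- degrees
  have hdeg : ∀ i ∈ supp, c i + i = K' := by
    intro i hi
    have := hK i hi
    show K - kIdx n i + eIdx n i + i = (K + n).toNat
    unfold kIdx eIdx at *
    omega
  have hz : z ∈ ℳ K' := by
    refine sum_mem fun i hi => ?_
    rw [← hdeg i hi]
    exact pow_smul_mem 𝒜 hf ℳ (hxi i)
  -- the value of `dM x`
  have hval : ∀ y : Proj.basicOpen 𝒜 f, GrModQC.val 𝒜 ℳ (dM 𝒜 hf ℳ n x) y =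
      LocalizedModule.mk z ⟨f ^ K, GrSectMod.pow_nin 𝒜 K y⟩ := by
    intro y
    have h1 : dM 𝒜 hf ℳ n x = ∑ i ∈ supp, dM 𝒜 hf ℳ n (xi i) := by
      conv_lhs => rw [hsum]
      exact map_sum _ _ _
    have h2 : GrModQC.val 𝒜 ℳ (∑ i ∈ supp, dM 𝒜 hf ℳ n (xi i)) y =
        ∑ i ∈ supp, GrModQC.val 𝒜 ℳ (dM 𝒜 hf ℳ n (xi i)) y := by
      let vy : Γ(GrMod.tilde 𝒜 ℳ n, Proj.basicOpen 𝒜 f) →+ GrMod.LocMod 𝒜 (M := M) y.1 :=
        AddMonoidHom.mk' (fun t => GrModQC.val 𝒜 ℳ t y) (fun a b => rfl)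
      exact map_sum vy _ _
    rw [h1, h2, mk_sum_same]
    refine Finset.sum_congr rfl fun i hi => ?_
    rw [dM_of_mem 𝒜 hf ℳ n (hxi i), LocalizedModule.mk_eq]
    refine ⟨1, ?_⟩
    simp only [Submonoid.smul_def, one_smul, smul_smul]
    congr 1
    have := hK i hi
    show f ^ K * f ^ eIdx n i = f ^ kIdx n i * f ^ (K - kIdx n i + eIdx n i)
    rw [← pow_add, ← pow_add]
    congr 1
    omega
  -- `z` is killed by a power of `f`
  have hzero : ∀ q : ProjectiveSpectrum 𝒜, f ∉ q.asHomogeneousIdeal →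
      (LocalizedModule.mk z 1 : LocalizedModule q.asHomogeneousIdeal.toIdeal.primeCompl M) = 0 := by
    intro q hq
    have hqf : q ∈ Proj.basicOpen 𝒜 f := (Proj.mem_basicOpen 𝒜 f q).2 hq
    have h2 : GrModQC.val 𝒜 ℳ (dM 𝒜 hf ℳ n x) ⟨q, hqf⟩ = 0 := by rw [hx]; rfl
    rw [hval ⟨q, hqf⟩] at h2
    exact GrSectComap.mk_one_eq_zero_of_mk 𝒜 q z _ h2
  obtain ⟨N, hN⟩ := GrSect.pow_smul_eq_zero 𝒜 ℳ Nat.one_pos hf z hz hzero
  -- conclusion
  have h3 : Λ x = Λ (f ^ N • z) := by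
    rw [hsum, map_sum, Finset.smul_sum, map_sum]
    refine Finset.sum_congr rfl fun i _ => ?_
    rw [hΛ', hΛ']
  rw [h3, hN, map_zero]

end mod2

end Groth.Agent.Lib.Helper28.Dehom
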