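import Groth.Agent.Lib.Helper28.TwistBC3

/-!
# Base change of the twisting sheaves, in base-change-presentation form
-/

set_option autoImplicit false
universe u
open CategoryTheory AlgebraicGeometry Opposite TopologicalSpace DirectSum TensorProduct
open scoped HomogeneousIdeal
noncomputable section

namespace Groth.Agent.Lib.Helper28.TwistBC

open Groth.Agent.Lib.Helper28 Groth.Agent.Lib.Helper28.QCohLoc Groth.Agent.Lib.Helper28.GrTwistQC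
open Groth.Agent.Lib.Helper17.PullbackBC

section isbc

variable {R' R A B : Type u} [CommRing R'] [CommRing R] [CommRing A] [CommRing B]
  [Algebra R' R] [Algebra R' A] [Algebra R' B] [Algebra R B] [Algebra A B]
  [IsScalarTower R' R B] [IsScalarTower R' A B] [Algebra.IsPushout R' R A B]
  {σ τ : Type u} [SetLike σ A] [AddSubgroupClass σ A] {𝒜 : ℕ → σ} [GradedRing 𝒜]
  [SetLike τ B] [AddSubgroupClass τ B] {ℬ : ℕ → τ} [GradedRing ℬ]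
  (hα : ∀ r' : R', algebraMap R' A r' ∈ 𝒜 0) (hβ : ∀ r : R, algebraMap R B r ∈ ℬ 0)
  (ψ : 𝒜 →+*ᵍ ℬ) (hψA : ∀ a, ψ a = algebraMap A B a) (hψ : ℬ₊ ≤ (𝒜₊).map ψ)

omit [Algebra.IsPushout R' R A B] [IsScalarTower R' R B] [IsScalarTower R' A B] [Algebra R' R] [Algebra R' A]
  [Algebra R' B] [Algebra R B] [Algebra A B] in
theorem c2_smul {f : A} (n : ℤ) (r : Γ(Proj 𝒜, Proj.basicOpen 𝒜 f))
    (m : Γ(GrTwist.twist 𝒜 n, Proj.basicOpen 𝒜 f)) :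
    c2 ψ hψ f n (r • m) = phi0 ψ hψ f r • c2 ψ hψ f n m := by
  show (GrTwist.comap ψ hψ n).app (Proj.basicOpen 𝒜 f) (r • m) = _
  rw [Scheme.Modules.Hom.app_smul]
  rfl

include hα hβ hψA in
/-- sections of `O(n)` over `D₊(ψ f)` are the base change of the sections over `D₊(f)` -/
theorem isBC_c2 {d : ℕ} {f : A} (hf : f ∈ 𝒜 d) (hd : 0 < d) (n : ℤ) :
    IsBC (phi0 ψ hψ f) (c2 ψ hψ f n) := by
  letI : Algebra Γ(Proj 𝒜, Proj.basicOpen 𝒜 f) Γ(Proj ℬ, Proj.basicOpen ℬ (ψ f)) := (phi0 ψ hψ f).toAlgebra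
  have halg : ∀ r, algebraMap Γ(Proj 𝒜, Proj.basicOpen 𝒜 f) Γ(Proj ℬ, Proj.basicOpen ℬ (ψ f)) r =
      phi0 ψ hψ f r := fun r => rfl
  letI : Module Γ(Proj 𝒜, Proj.basicOpen 𝒜 f) Γ(GrTwist.twist ℬ n, Proj.basicOpen ℬ (ψ f)) :=
    Module.compHom _ (phi0 ψ hψ f)
  haveI : IsScalarTower Γ(Proj 𝒜, Proj.basicOpen 𝒜 f) Γ(Proj ℬ, Proj.basicOpen ℬ (ψ f))
      Γ(GrTwist.twist ℬ n, Proj.basicOpen ℬ (ψ f)) := ⟨fun r s t => by
    show (phi0 ψ hψ f r * s) • t = phi0 ψ hψ f r • (s • t)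
    rw [mul_smul]⟩
  let l : Γ(GrTwist.twist 𝒜 n, Proj.basicOpen 𝒜 f) →ₗ[Γ(Proj 𝒜, Proj.basicOpen 𝒜 f)]
      Γ(GrTwist.twist ℬ n, Proj.basicOpen ℬ (ψ f)) :=
    { toFun := c2 ψ hψ f n
      map_add' := map_add _
      map_smul' := fun r m => c2_smul ψ hψ n r m }
  let Θ := LinearMap.liftBaseChange Γ(Proj ℬ, Proj.basicOpen ℬ (ψ f)) l
  have hΘ : ∀ (s : Γ(Proj ℬ, Proj.basicOpen ℬ (ψ f))) (p : Γ(GrTwist.twist 𝒜 n, Proj.basicOpen 𝒜 f)),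
      Θ.toAddMonoidHom (s ⊗ₜ[Γ(Proj 𝒜, Proj.basicOpen 𝒜 f)] p) = s • c2 ψ hψ f n p := fun s p =>
    LinearMap.liftBaseChange_tmul _ l s p
  have hbij : Function.Bijective Θ := Theta_bijective hα hβ ψ hψA hψ hf hd n halg Θ.toAddMonoidHom hΘ
  refine (isBC_iff (phi0 ψ hψ f) (c2 ψ hψ f n)).mpr ⟨(LinearEquiv.ofBijective Θ hbij).symm, fun p => ?_⟩
  rw [LinearEquiv.symm_apply_eq]
  show c2 ψ hψ f n p = Θ ((1 : Γ(Proj ℬ, Proj.basicOpen ℬ (ψ f))) ⊗ₜ[Γ(Proj 𝒜, Proj.basicOpen 𝒜 f)] p)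
  rw [LinearMap.liftBaseChange_tmul, one_smul]
  rfl

include hα hβ hψA in
/-- the same over opens equal to the basic opens -/
theorem isBC_comap_of_eq {d : ℕ} {f : A} (hf : f ∈ 𝒜 d) (hd : 0 < d) (n : ℤ) (V : (Proj 𝒜).Opens)
    (V' : (Proj ℬ).Opens) (hV : V = Proj.basicOpen 𝒜 f) (hV' : V' = Proj.basicOpen ℬ (ψ f))
    (e : V' ≤ Proj.map ψ hψ ⁻¹ᵁ V) :
    IsBC ((Proj.map ψ hψ).appLE V V' e).hom
      (fun m : Γ(GrTwist.twist 𝒜 n, V) => res (GrTwist.twist ℬ n) e ((GrTwist.comap ψ hψ n).app V m)) := by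
  subst hV hV'
  have h := isBC_c2 hα hβ ψ hψA hψ hf hd n
  have e1 : ((Proj.map ψ hψ).appLE (Proj.basicOpen 𝒜 f) (Proj.basicOpen ℬ (ψ f)) e).hom = phi0 ψ hψ f := by
    show _ = ((Proj.map ψ hψ).app (Proj.basicOpen 𝒜 f)).hom
    rw [Scheme.Hom.app_eq_appLE]
    rfl
  rw [e1]
  have e2 : (fun m : Γ(GrTwist.twist 𝒜 n, Proj.basicOpen 𝒜 f) =>
      res (GrTwist.twist ℬ n) e ((GrTwist.comap ψ hψ n).app (Proj.basicOpen 𝒜 f) m)) = ⇑(c2 ψ hψ f n) := by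
    funext m
    exact res_self (GrTwist.twist ℬ n) _
  rw [e2]
  exact h

end isbc

end Groth.Agent.Lib.Helper28.TwistBC
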