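import Groth.Agent.Lib.Helper28.Dehom1
import Groth.Agent.Lib.Helper28.TwistBC4
import Groth.Agent.Lib.Helper28.BCTransport

/-!
# Base change of `M(n)~` along a graded homomorphism, for a source generated in degree one
-/

set_option autoImplicit false
universe u
open CategoryTheory AlgebraicGeometry Opposite TopologicalSpace DirectSum TensorProduct
open scoped HomogeneousIdeal
noncomputable section

namespace Groth.Agent.Lib.Helper28.Dehom

open Groth.Agent.Lib.Helper28 Groth.Agent.Lib.Helper28.QCohLoc Groth.Agent.Lib.Helper28.TwistBC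
open Groth.Agent.Lib.Helper17.PullbackBC Groth.Agent.Lib.Helper28.PullbackInv

section abstract

/-- **abstract base change through dehomogenization**: if `N` is the base change of `M` along `ψ` and everything
in sight is a compatible quotient, the quotient of `N` is the base change of the quotient of `M` -/
theorem isBC_of_dehom {A B R₀ S₀ : Type u} [CommRing A] [CommRing B] [CommRing R₀] [CommRing S₀]
    (ψ : A →+* B) (φ₀ : R₀ →+* S₀) (dA : A →+* R₀) (dB : B →+* S₀) (hdB : Function.Surjective dB)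
    (hsq : ∀ a, φ₀ (dA a) = dB (ψ a))
    {M N P₀ T₀ : Type u} [AddCommGroup M] [Module A M] [AddCommGroup N] [Module B N]
    [AddCommGroup P₀] [Module R₀ P₀] [AddCommGroup T₀] [Module S₀ T₀]
    (v : M →ₛₗ[ψ] N)
    (hbc : ∀ (Q : Type u) [AddCommGroup Q] [Module B Q] (w : M →ₛₗ[ψ] Q),
      ∃! g : N →ₗ[B] Q, ∀ m, g (v m) = w m)
    (dM : M →+ P₀) (hdM : Function.Surjective dM) (hdMs : ∀ a m, dM (a • m) = dA a • dM m)
    (dN : N →+ T₀) (hdN : Function.Surjective dN) (hdNs : ∀ b x, dN (b • x) = dB b • dN x)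
    (c : P₀ →+ T₀) (hcs : ∀ r p, c (r • p) = φ₀ r • c p) (hc : ∀ m, c (dM m) = dN (v m))
    (g : B) (hg : dB g = 1)
    (hker : ∀ x : N, dN x = 0 → ∀ (Q : Type u) [AddCommGroup Q] (Λ : N →+ Q),
      (∀ y, Λ (g • y) = Λ y) → Λ x = 0) :
    IsBC φ₀ c := by
  classical
  letI : Algebra R₀ S₀ := φ₀.toAlgebra
  letI : Module R₀ T₀ := Module.compHom T₀ φ₀
  haveI : IsScalarTower R₀ S₀ T₀ := ⟨fun r s t => by
    show (φ₀ r * s) • t = φ₀ r • (s • t)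
    rw [mul_smul]⟩
  let l : P₀ →ₗ[R₀] T₀ := { toFun := c, map_add' := map_add c, map_smul' := fun r p => hcs r p }
  let Θ : S₀ ⊗[R₀] P₀ →ₗ[S₀] T₀ := LinearMap.liftBaseChange S₀ l
  have hΘ : ∀ (s : S₀) (p : P₀), Θ (s ⊗ₜ[R₀] p) = s • c p := fun s p => LinearMap.liftBaseChange_tmul _ l s p
  -- the `B`-module structures
  letI modQ : Module B (S₀ ⊗[R₀] P₀) := Module.compHom _ dB
  letI modT : Module B T₀ := Module.compHom T₀ dB
  have hsmQ : ∀ (b : B) (ξ : S₀ ⊗[R₀] P₀), b • ξ = dB b • ξ := fun b ξ => rfl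
  have hsmT : ∀ (b : B) (t : T₀), b • t = dB b • t := fun b t => rfl
  let w : M →ₛₗ[ψ] (S₀ ⊗[R₀] P₀) :=
    { toFun := fun m => (1 : S₀) ⊗ₜ[R₀] dM m
      map_add' := fun a b => by rw [map_add, TensorProduct.tmul_add]
      map_smul' := fun a m => by
        show (1 : S₀) ⊗ₜ[R₀] dM (a • m) = dB (ψ a) • ((1 : S₀) ⊗ₜ[R₀] dM m)
        rw [hdMs, ← hsq, ← TensorProduct.smul_tmul, TensorProduct.smul_tmul', Algebra.smul_def, smul_eq_mul]
        rfl }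
  obtain ⟨Λ, hΛ, -⟩ := hbc (S₀ ⊗[R₀] P₀) w
  have hΛ' : ∀ m, Λ (v m) = (1 : S₀) ⊗ₜ[R₀] dM m := hΛ
  -- `Θ ∘ Λ` is the dehomogenization of `N`
  let dN' : N →ₗ[B] T₀ := { toFun := dN, map_add' := map_add dN, map_smul' := fun b x => hdNs b x }
  let ΘΛ : N →ₗ[B] T₀ :=
    { toFun := fun x => Θ (Λ x)
      map_add' := fun a b => by rw [map_add, map_add]
      map_smul' := fun b x => by
        show Θ (Λ (b • x)) = dB b • Θ (Λ x)
        rw [map_smul, hsmQ, map_smul] }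
  let w' : M →ₛₗ[ψ] T₀ :=
    { toFun := fun m => dN (v m)
      map_add' := fun a b => by rw [map_add, map_add]
      map_smul' := fun a m => by
        show dN (v (a • m)) = dB (ψ a) • dN (v m)
        rw [LinearMap.map_smulₛₗ, hdNs] }
  obtain ⟨g', -, huniq⟩ := hbc T₀ w'
  have h1 : dN' = g' := huniq dN' (fun m => rfl)
  have h2 : ΘΛ = g' := huniq ΘΛ (fun m => by
    show Θ (Λ (v m)) = dN (v m)
    rw [hΛ', hΘ, one_smul, hc])
  have hΘΛ : ∀ x, Θ (Λ x) = dN x := fun x => by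
    have := congrArg (fun F : N →ₗ[B] T₀ => F x) (h2.trans h1.symm)
    exact this
  -- every tensor comes from `N`
  have hex : ∀ ξ : S₀ ⊗[R₀] P₀, ∃ x, Λ x = ξ := by
    intro ξ
    induction ξ using TensorProduct.induction_on with
    | zero => exact ⟨0, map_zero _⟩
    | add a b ha hb =>
      obtain ⟨x, rfl⟩ := ha
      obtain ⟨y, rfl⟩ := hb
      exact ⟨x + y, map_add _ _ _⟩
    | tmul s p =>
      obtain ⟨b, rfl⟩ := hdB s
      obtain ⟨m, rfl⟩ := hdM p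
      refine ⟨b • v m, ?_⟩
      rw [map_smul, hΛ', hsmQ, TensorProduct.smul_tmul', smul_eq_mul, mul_one]
  have hinj : Function.Injective Θ := by
    rw [injective_iff_map_eq_zero]
    intro ξ hξ
    obtain ⟨x, rfl⟩ := hex ξ
    rw [hΘΛ] at hξ
    exact hker x hξ _ Λ.toAddMonoidHom (fun y => by
      show Λ (g • y) = Λ y
      rw [map_smul, hsmQ, hg, one_smul])
  have hsurj : Function.Surjective Θ := fun t => by
    obtain ⟨x, rfl⟩ := hdN t
    exact ⟨Λ x, hΘΛ x⟩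
  refine (isBC_iff φ₀ c).mpr ⟨(LinearEquiv.ofBijective Θ ⟨hinj, hsurj⟩).symm, fun p => ?_⟩
  rw [LinearEquiv.symm_apply_eq]
  show c p = Θ ((1 : S₀) ⊗ₜ[R₀] p)
  rw [hΘ, one_smul]

end abstract

variable {A σ : Type u} [CommRing A] [SetLike σ A] [AddSubgroupClass σ A] {𝒜 : ℕ → σ} [GradedRing 𝒜]
variable {M τ : Type u} [AddCommGroup M] [Module A M] [SetLike τ M] [AddSubgroupClass τ M] {ℳ : ℕ → τ}
  [SetLike.GradedSMul 𝒜 ℳ] [DirectSum.Decomposition ℳ]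
variable {B σ' : Type u} [CommRing B] [SetLike σ' B] [AddSubgroupClass σ' B] {ℬ : ℕ → σ'} [GradedRing ℬ]
variable {N τ' : Type u} [AddCommGroup N] [Module B N] [SetLike τ' N] [AddSubgroupClass τ' N] {𝒩 : ℕ → τ'}
  [SetLike.GradedSMul ℬ 𝒩] [DirectSum.Decomposition 𝒩]
variable (ψ : 𝒜 →+*ᵍ ℬ) (hψ : ℬ₊ ≤ (𝒜₊).map ψ) (v : M →ₛₗ[ψ.toRingHom] N)
  (hv : ∀ (i : ℕ) (m : M), m ∈ ℳ i → v m ∈ 𝒩 i) {f : A} (hf : f ∈ 𝒜 1) (n : ℤ)

variable (f) in
/-- the comap of sections of `M(n)~` over `D₊(f)` -/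
def c2M : Γ(GrMod.tilde 𝒜 ℳ n, Proj.basicOpen 𝒜 f) →+ Γ(GrMod.tilde ℬ 𝒩 n, Proj.basicOpen ℬ (ψ f)) :=
  AddMonoidHom.mk' (fun m => (GrMod.comap ψ hψ v hv n).app (Proj.basicOpen 𝒜 f) m) (fun a b => map_add _ a b)

theorem val_c2M (m : Γ(GrMod.tilde 𝒜 ℳ n, Proj.basicOpen 𝒜 f)) (y : Proj.basicOpen ℬ (ψ f)) :
    GrModQC.val ℬ 𝒩 (c2M ψ hψ v hv f n m) y =
      GrMod.locModMap ψ hψ v y.1 (GrModQC.val 𝒜 ℳ m ⟨ProjectiveSpectrum.comap ψ hψ y.1, y.2⟩) := rfl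

theorem c2M_smul (r : Γ(Proj 𝒜, Proj.basicOpen 𝒜 f)) (m : Γ(GrMod.tilde 𝒜 ℳ n, Proj.basicOpen 𝒜 f)) :
    c2M ψ hψ v hv f n (r • m) = phi0 ψ hψ f r • c2M ψ hψ v hv f n m := by
  show (GrMod.comap ψ hψ v hv n).app (Proj.basicOpen 𝒜 f) (r • m) = _
  rw [Scheme.Modules.Hom.app_smul]
  rfl

theorem phi0_dO (a : A) : phi0 ψ hψ f (dO 𝒜 hf a) = dO ℬ (psi_mem ψ hf) (ψ a) := by
  classical
  induction a using DirectSum.Decomposition.inductionOn 𝒜 with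
  | zero => rw [map_zero, map_zero, map_zero, map_zero]
  | @homogeneous j a =>
    rw [dO_of_mem 𝒜 hf a.2, phi0_numO]
    exact (dO_of_mem ℬ (psi_mem ψ hf) (psi_mem ψ a.2)).symm
  | add a a' ha ha' => rw [map_add, map_add, map_add, map_add, ha, ha']

theorem c2M_dM (m : M) :
    c2M ψ hψ v hv f n (dM 𝒜 hf ℳ n m) = dM ℬ (psi_mem ψ hf) 𝒩 n (v m) := by
  classical
  induction m using DirectSum.Decomposition.inductionOn ℳ with
  | zero => rw [map_zero, map_zero, map_zero, map_zero]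
  | @homogeneous i m =>
    apply GrModQC.ext_val
    intro y
    rw [val_c2M, dM_of_mem 𝒜 hf ℳ n m.2, dM_of_mem ℬ (psi_mem ψ hf) 𝒩 n (hv i m m.2), GrMod.locModMap_mk,
      LinearMap.map_smulₛₗ]
    congr 1
    · show ψ (f ^ eIdx n i) • v (m : M) = ψ f ^ eIdx n i • v (m : M)
      rw [map_pow]
    · exact Subtype.ext (map_pow ψ f (kIdx n i))
  | add m m' hm hm' => rw [map_add, map_add, map_add, map_add, hm, hm']

include hf in
/-- **the sections of `N(n)~` over `D₊(ψ f)` are the base change of those of `M(n)~` over `D₊(f)`** -/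
theorem isBC_c2M
    (hbc : ∀ (Q : Type u) [AddCommGroup Q] [Module B Q] (w : M →ₛₗ[ψ.toRingHom] Q),
      ∃! g : N →ₗ[B] Q, ∀ m, g (v m) = w m) :
    IsBC (phi0 ψ hψ f) (c2M ψ hψ v hv f n) :=
  isBC_of_dehom ψ.toRingHom (phi0 ψ hψ f) (dO 𝒜 hf) (dO ℬ (psi_mem ψ hf)) (dO_surjective ℬ (psi_mem ψ hf))
    (fun a => phi0_dO ψ hψ hf a) v hbc (dM 𝒜 hf ℳ n) (dM_surjective 𝒜 hf ℳ n) (dM_smul 𝒜 hf ℳ n)
    (dM ℬ (psi_mem ψ hf) 𝒩 n) (dM_surjective ℬ (psi_mem ψ hf) 𝒩 n) (dM_smul ℬ (psi_mem ψ hf) 𝒩 n)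
    (c2M ψ hψ v hv f n) (c2M_smul ψ hψ v hv n) (c2M_dM ψ hψ v hv hf n) (ψ f) (dO_self ℬ (psi_mem ψ hf))
    (fun x hx Q _ Λ hΛ => map_eq_zero_of_dM_eq_zero ℬ (psi_mem ψ hf) 𝒩 n x hx Λ hΛ)

include hf in
/-- over `D₊(ψ f)`, the adjoint of `GrMod.comap` is bijective on sections -/
theorem bijective_app_M
    (hbc : ∀ (Q : Type u) [AddCommGroup Q] [Module B Q] (w : M →ₛₗ[ψ.toRingHom] Q),
      ∃! g : N →ₗ[B] Q, ∀ m, g (v m) = w m) :
    Function.Bijective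
      ((pbLift (Proj.map ψ hψ) (GrMod.comap ψ hψ v hv n)).app (Proj.basicOpen ℬ (ψ f))) := by
  let g := Proj.map ψ hψ
  let W : (Proj 𝒜).Opens := Proj.basicOpen 𝒜 f
  let W' : (Proj ℬ).Opens := Proj.basicOpen ℬ (ψ f)
  have hW : IsAffineOpen W := Proj.isAffineOpen_basicOpen 𝒜 f hf Nat.one_pos
  have hW' : IsAffineOpen W' := Proj.isAffineOpen_basicOpen ℬ (ψ f) (psi_mem ψ hf) Nat.one_pos
  have e : W' ≤ g ⁻¹ᵁ W := le_rfl
  haveI : (GrMod.tilde 𝒜 ℳ n).IsQuasicoherent := GrModQC.isQuasicoherent_tilde 𝒜 ℳ n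
  have h₁ := isBC_pullback g hW hW' e (GrMod.tilde 𝒜 ℳ n)
  have e1 : (g.appLE W W' e).hom = phi0 ψ hψ f := by
    show _ = (g.app W).hom
    rw [Scheme.Hom.app_eq_appLE]
    rfl
  rw [e1] at h₁
  have h₂ := isBC_c2M ψ hψ v hv hf n hbc
  let Φ := pbLift g (GrMod.comap ψ hψ v hv n)
  let u : Γ((Scheme.Modules.pullback g).obj (GrMod.tilde 𝒜 ℳ n), W') →+ Γ(GrMod.tilde ℬ 𝒩 n, W') :=
    AddMonoidHom.mk' (fun t => Φ.app W' t) (fun a b => map_add _ a b)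
  exact BCTransport.bijective_of_isBC_isBC (phi0 ψ hψ f) _ _ h₁ h₂ u
    (fun s t => by
      show Φ.app W' (s • t) = s • Φ.app W' t
      rw [Scheme.Modules.Hom.app_smul]) (fun p => by
      show Φ.app W' (res _ e (pbs g _ W p)) = _
      rw [app_res, pbLift_pbs]
      exact res_self _ _)

omit [AddSubgroupClass σ A] in
/-- if the irrelevant ideal is generated in degree one, every point of `Proj` lies in some `D₊(f)` with
`f` of degree one -/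
theorem exists_deg_one [AddSubgroupClass σ A] [GradedRing 𝒜] (hgen : (𝒜₊).toIdeal = Ideal.span (𝒜 1 : Set A))
    (x : ProjectiveSpectrum 𝒜) : ∃ f ∈ 𝒜 1, f ∉ x.asHomogeneousIdeal := by
  by_contra hcon
  push Not at hcon
  apply x.not_irrelevant_le
  intro a ha
  have ha' : a ∈ (𝒜₊).toIdeal := ha
  rw [hgen] at ha'
  have hle : Ideal.span (𝒜 1 : Set A) ≤ x.asHomogeneousIdeal.toIdeal := Ideal.span_le.mpr fun f hf => hcon f hf
  exact hle ha'

/-- **base change of `M(n)~`**: for a source generated in degree one and `N = M ⊗_A B`, the adjoint of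
`GrMod.comap` is an isomorphism -/
theorem isIso_pbLift_comapM (hgen : (𝒜₊).toIdeal = Ideal.span (𝒜 1 : Set A))
    (hbc : ∀ (Q : Type u) [AddCommGroup Q] [Module B Q] (w : M →ₛₗ[ψ.toRingHom] Q),
      ∃! g : N →ₗ[B] Q, ∀ m, g (v m) = w m) :
    IsIso (pbLift (Proj.map ψ hψ) (GrMod.comap ψ hψ v hv n)) := by
  haveI : (GrMod.tilde 𝒜 ℳ n).IsQuasicoherent := GrModQC.isQuasicoherent_tilde 𝒜 ℳ n
  haveI : (GrMod.tilde ℬ 𝒩 n).IsQuasicoherent := GrModQC.isQuasicoherent_tilde ℬ 𝒩 n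
  haveI : ((Scheme.Modules.pullback (Proj.map ψ hψ)).obj (GrMod.tilde 𝒜 ℳ n)).IsQuasicoherent := inferInstance
  let ι := {f : A // f ∈ 𝒜 1}
  refine isIso_of_affine_cover _ (fun i : ι => Proj.basicOpen ℬ (ψ i.1))
    (fun i => Proj.isAffineOpen_basicOpen ℬ (ψ i.1) (psi_mem ψ i.2) Nat.one_pos) ?cov
    (fun i => isLocOn_of_isQuasicoherent _ (Proj.isAffineOpen_basicOpen ℬ (ψ i.1) (psi_mem ψ i.2) Nat.one_pos))
    (fun i => isLocOn_of_isQuasicoherent _ (Proj.isAffineOpen_basicOpen ℬ (ψ i.1) (psi_mem ψ i.2) Nat.one_pos))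
    (fun i => bijective_app_M ψ hψ v hv i.2 n hbc)
  intro y
  obtain ⟨f, hf, hfx⟩ := exists_deg_one hgen (ProjectiveSpectrum.comap ψ hψ y)
  exact ⟨⟨f, hf⟩, (Proj.mem_basicOpen ℬ (ψ f) y).2 hfx⟩

end Groth.Agent.Lib.Helper28.Dehom
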