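import Mathlib
import Groth.Agent.Lib.Helper28.FinQuotDesc

/-!
# Descending a morphism along a surjection injective on sections (helper28)

Abstract form of `FinQuot.existsUnique_desc`: if `p : X ⟶ Y` is surjective and injective on
sections, and `h : X ⟶ Z` is such that preimages of affine opens of `Z` descend to opens of `Y` and
pulled back sections lie in the range of `p^*`, then `h` factors uniquely through `p`.
-/

set_option autoImplicit false
universe u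
open CategoryTheory CategoryTheory.Limits AlgebraicGeometry Opposite TopologicalSpace

namespace Groth.Agent.Lib.Helper28.DescGeneral

open Groth.Agent.Lib.Helper28.FinQuot

variable {X Y Z : Scheme.{u}} (p : X ⟶ Y)

set_option backward.isDefEq.respectTransparency false in
/-- local descent over an affine open of the target -/
theorem exists_local_desc (hinj : ∀ U : Y.Opens, Function.Injective (p.app U).hom)
    (h : X ⟶ Z) (T₀ : Z.Opens) (hT₀ : IsAffineOpen T₀) (V : Y.Opens) (e : p ⁻¹ᵁ V = h ⁻¹ᵁ T₀)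
    (hrange : ∀ c : Γ(Z, T₀), (h.appLE T₀ (p ⁻¹ᵁ V) e.le).hom c ∈ Set.range (p.app V).hom) :
    ∃ k : (V : Scheme.{u}) ⟶ Z, (p ∣_ V) ≫ k = (p ⁻¹ᵁ V).ι ≫ h := by
  obtain ⟨θ, hθ⟩ := exists_ringHom_lift (p.app V).hom (hinj V)
    (h.appLE T₀ (p ⁻¹ᵁ V) e.le).hom hrange
  have hθ' : CommRingCat.ofHom θ ≫ p.app V = h.appLE T₀ (p ⁻¹ᵁ V) e.le := by
    ext c; exact congr($hθ c)
  refine ⟨V.toSpecΓ ≫ Spec.map (CommRingCat.ofHom θ) ≫ hT₀.fromSpec, ?_⟩
  rw [← Scheme.Opens.toSpecΓ_naturality_assoc, ← Spec.map_comp_assoc, hθ',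
    Scheme.Opens.toSpecΓ_SpecMap_appLE_assoc, IsAffineOpen.toSpecΓ_fromSpec,
    Scheme.Hom.resLE_comp_ι]

set_option backward.isDefEq.respectTransparency false in
theorem existsUnique_desc (hsurj : Function.Surjective p)
    (hinj : ∀ U : Y.Opens, Function.Injective (p.app U).hom) (h : X ⟶ Z)
    (hopen : ∀ T : Z.affineOpens, ∃ V : Y.Opens, p ⁻¹ᵁ V = h ⁻¹ᵁ T.1)
    (hrange : ∀ (T : Z.affineOpens) (V : Y.Opens) (e : p ⁻¹ᵁ V = h ⁻¹ᵁ T.1) (c : Γ(Z, T.1)),
      (h.appLE T.1 (p ⁻¹ᵁ V) e.le).hom c ∈ Set.range (p.app V).hom) :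
    ∃! h' : Y ⟶ Z, p ≫ h' = h := by
  have hepi := epi_of_surjective_of_app_injective p hsurj hinj
  have hepir : ∀ U : Y.Opens, Epi (p ∣_ U) := fun U =>
    epi_of_surjective_of_app_injective _ (restrict_surjective p hsurj U)
      (restrict_app_injective p hinj U)
  choose V hVe using hopen
  have hk : ∀ T : Z.affineOpens, ∃ k : ((V T : Y.Opens) : Scheme.{u}) ⟶ Z,
      (p ∣_ (V T)) ≫ k = (p ⁻¹ᵁ (V T)).ι ≫ h := fun T =>
    exists_local_desc p hinj h T.1 T.2 (V T) (hVe T) (hrange T (V T) (hVe T))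
  choose k hk using hk
  have hcov : ∀ y : Y, ∃ T : Z.affineOpens, y ∈ Set.range (V T).ι := by
    intro y
    obtain ⟨x, rfl⟩ := hsurj y
    obtain ⟨T, hT, hxT⟩ := exists_affine_mem (h x)
    refine ⟨⟨T, hT⟩, ?_⟩
    rw [Scheme.Opens.range_ι]
    have : x ∈ p ⁻¹ᵁ (V ⟨T, hT⟩) := by rw [hVe]; exact hxT
    exact this
  obtain ⟨h', hh', -⟩ := GlueLocal.existsUnique_glue
    (fun T : Z.affineOpens => ((V T : Y.Opens) : Scheme.{u}))
    (fun T => (V T).ι) hcov k (by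
      intro t s x y hxy
      have hx : (V t).ι x ∈ V t ⊓ V s := ⟨x.2, by rw [hxy]; exact y.2⟩
      refine ⟨((V t ⊓ V s : Y.Opens) : Scheme.{u}), Y.homOfLE inf_le_left, Y.homOfLE inf_le_right,
        ?_, ?_, ?_, ?_⟩
      · rw [Scheme.homOfLE_ι, Scheme.homOfLE_ι]
      · rw [Scheme.homOfLE_ι]; infer_instance
      · rw [Scheme.homOfLE_ι, Scheme.Opens.range_ι]; exact hx
      · haveI := hepir (V t ⊓ V s)
        rw [← cancel_epi (p ∣_ (V t ⊓ V s)), ← Category.assoc, ← Category.assoc,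
          restrict_homOfLE, restrict_homOfLE, Category.assoc, Category.assoc, hk, hk,
          Scheme.homOfLE_ι_assoc, Scheme.homOfLE_ι_assoc])
  refine ⟨h', ?_, fun h'' hh'' => ?_⟩
  · refine NormalSection.hom_ext_of_local _ _ fun x => ?_
    obtain ⟨T, hT, hxT⟩ := exists_affine_mem (h x)
    have hx : x ∈ p ⁻¹ᵁ (V ⟨T, hT⟩) := by rw [hVe]; exact hxT
    refine ⟨_, (p ⁻¹ᵁ (V ⟨T, hT⟩)).ι, inferInstance, ?_, ?_⟩
    · rw [Scheme.Opens.range_ι]; exact hx
    · rw [← hk ⟨T, hT⟩, ← hh' ⟨T, hT⟩, ← morphismRestrict_ι_assoc]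
  · rw [← cancel_epi p, hh'']
    refine NormalSection.hom_ext_of_local _ _ fun x => ?_
    obtain ⟨T, hT, hxT⟩ := exists_affine_mem (h x)
    have hx : x ∈ p ⁻¹ᵁ (V ⟨T, hT⟩) := by rw [hVe]; exact hxT
    refine ⟨_, (p ⁻¹ᵁ (V ⟨T, hT⟩)).ι, inferInstance, ?_, ?_⟩
    · rw [Scheme.Opens.range_ι]; exact hx
    · rw [← hk ⟨T, hT⟩, ← hh' ⟨T, hT⟩, ← morphismRestrict_ι_assoc]

end Groth.Agent.Lib.Helper28.DescGeneral
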