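import Groth.Agent.Lib.Helper28.GrModExact

/-!
# Exactness for modules on a relative Proj given chartwise
-/

set_option autoImplicit false
universe u
open CategoryTheory CategoryTheory.Limits AlgebraicGeometry Opposite TopologicalSpace

namespace Groth.Agent.Lib.Helper28.RelProjQC

open Groth.Agent.Lib.Helper28 Groth.Agent.Lib.Helper28.QCohLoc

variable {Y P : Scheme.{u}} {𝒮 : RelProj.QCGrAlg Y} (p : P ⟶ Y)
    (chart : ∀ (U : Y.Opens) (hU : IsAffineOpen U), (((p ⁻¹ᵁ U : P.Opens) : Scheme.{u}) ≅ Proj (𝒮.deg U hU)))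
    (F₁ F₂ F₃ : P.Modules)
    (N₁ N₂ N₃ : ∀ (U : Y.Opens) (hU : IsAffineOpen U), (Proj (𝒮.deg U hU)).Modules)
    (lam₁ : ∀ (U : Y.Opens) (hU : IsAffineOpen U),
      F₁ ⟶ (Scheme.Modules.pushforward (RelProj.emb p chart U hU)).obj (N₁ U hU))
    (lam₂ : ∀ (U : Y.Opens) (hU : IsAffineOpen U),
      F₂ ⟶ (Scheme.Modules.pushforward (RelProj.emb p chart U hU)).obj (N₂ U hU))
    (lam₃ : ∀ (U : Y.Opens) (hU : IsAffineOpen U),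
      F₃ ⟶ (Scheme.Modules.pushforward (RelProj.emb p chart U hU)).obj (N₃ U hU))
    (ψu : ∀ (U : Y.Opens) (hU : IsAffineOpen U), N₁ U hU ⟶ N₂ U hU)
    (ψv : ∀ (U : Y.Opens) (hU : IsAffineOpen U), N₂ U hU ⟶ N₃ U hU)
    (ut : F₁ ⟶ F₂) (vt : F₂ ⟶ F₃)
    (hut : ∀ (U : Y.Opens) (hU : IsAffineOpen U),
      ut ≫ lam₂ U hU = lam₁ U hU ≫ (Scheme.Modules.pushforward (RelProj.emb p chart U hU)).map (ψu U hU))
    (hvt : ∀ (U : Y.Opens) (hU : IsAffineOpen U),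
      vt ≫ lam₃ U hU = lam₂ U hU ≫ (Scheme.Modules.pushforward (RelProj.emb p chart U hU)).map (ψv U hU))

include hut hvt in
/-- chartwise local exactness gives exactness -/
theorem exact_of_charts (w : ut ≫ vt = 0)
    (hlam₁ : ∀ (U : Y.Opens) (hU : IsAffineOpen U) (W : P.Opens), W ≤ p ⁻¹ᵁ U →
      Function.Surjective ((lam₁ U hU).app W))
    (hlam₂ : ∀ (U : Y.Opens) (hU : IsAffineOpen U) (W : P.Opens), W ≤ p ⁻¹ᵁ U →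
      Function.Injective ((lam₂ U hU).app W))
    (hψ : ∀ (U : Y.Opens) (hU : IsAffineOpen U) (V : (Proj (𝒮.deg U hU)).Opens) (t₂ : Γ(N₂ U hU, V)),
      (ψv U hU).app V t₂ = 0 → ∀ (q : Proj (𝒮.deg U hU)), q ∈ V →
        ∃ (W₂ : (Proj (𝒮.deg U hU)).Opens) (hW₂ : W₂ ≤ V), q ∈ W₂ ∧
          ∃ t : Γ(N₁ U hU, W₂), (ψu U hU).app W₂ t = res (N₂ U hU) hW₂ t₂) :
    (ShortComplex.mk ut vt w).Exact := by
  refine exact_of_locally ut vt w fun W x hx pt hpt => ?_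
  obtain ⟨i, hi⟩ := exists_affine_mem (p.base pt)
  obtain ⟨U, hU⟩ := i
  have hptU : pt ∈ (RelProj.emb p chart U hU).opensRange := by rw [opensRange_emb]; exact hi
  obtain ⟨q, rfl⟩ := hptU
  have hW1 : W ⊓ p ⁻¹ᵁ U ≤ W := inf_le_left
  have ht₂ : (ψv U hU).app _ ((lam₂ U hU).app (W ⊓ p ⁻¹ᵁ U) (res F₂ hW1 x)) = 0 := by
    rw [← hut_app p chart F₂ F₃ N₂ N₃ lam₂ lam₃ ψv vt hvt, app_res, hx, res_zero]
    exact map_zero _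
  obtain ⟨W₂, hW₂, hqW₂, t, ht⟩ := hψ U hU ((RelProj.emb p chart U hU) ⁻¹ᵁ (W ⊓ p ⁻¹ᵁ U))
    ((lam₂ U hU).app (W ⊓ p ⁻¹ᵁ U) (res F₂ hW1 x)) ht₂ q ⟨hpt, hi⟩
  have hVle : (RelProj.emb p chart U hU) ''ᵁ W₂ ≤ W ⊓ p ⁻¹ᵁ U := by
    rintro _ ⟨z, hz, rfl⟩
    exact hW₂ hz
  have hpre : (RelProj.emb p chart U hU) ⁻¹ᵁ ((RelProj.emb p chart U hU) ''ᵁ W₂) ≤ W₂ :=
    (Scheme.Hom.preimage_image_eq _ _).le
  obtain ⟨y, hy⟩ := hlam₁ U hU _ (hVle.trans inf_le_right) (res (N₁ U hU) hpre t)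
  refine ⟨(RelProj.emb p chart U hU) ''ᵁ W₂, hVle.trans hW1, ⟨q, hqW₂, rfl⟩, y, ?_⟩
  apply hlam₂ U hU _ (hVle.trans inf_le_right)
  have e1 : (lam₂ U hU).app _ (res F₂ (hVle.trans hW1) x) =
      res (N₂ U hU) (hpre.trans hW₂) ((lam₂ U hU).app (W ⊓ p ⁻¹ᵁ U) (res F₂ hW1 x)) := by
    rw [← res_res F₂ hW1 hVle x]
    exact app_res (lam₂ U hU) hVle (res F₂ hW1 x)
  rw [e1, hut_app p chart F₁ F₂ N₁ N₂ lam₁ lam₂ ψu ut hut, hy, app_res, ht, res_res]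

end Groth.Agent.Lib.Helper28.RelProjQC
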