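import Groth.Agent.Lib.Helper28.ModGlueHom
import Groth.Agent.Lib.Helper28.RelTildeExact

/-!
# Morphisms of modules on a scheme over `Y`, given chartwise over the affine opens of `Y`
-/

set_option autoImplicit false
universe u
open CategoryTheory CategoryTheory.Limits AlgebraicGeometry Opposite TopologicalSpace

namespace Groth.Agent.Lib.Helper28.RelProjQC

open Groth.Agent.Lib.Helper28 Groth.Agent.Lib.Helper28.QCohLoc

variable {Y P : Scheme.{u}} (p : P ⟶ Y) (F F' : P.Modules)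

/-- maps on sections over the opens lying over affine opens of the base, compatible with passage to basic opens -/
structure ChartHomData where
  φ : ∀ (U : Y.Opens) (_ : IsAffineOpen U) (W : P.Opens), W ≤ p ⁻¹ᵁ U → Γ(F, W) → Γ(F', W)
  add : ∀ (U : Y.Opens) (hU : IsAffineOpen U) (W : P.Opens) (hW : W ≤ p ⁻¹ᵁ U) (x y : Γ(F, W)),
    φ U hU W hW (x + y) = φ U hU W hW x + φ U hU W hW y
  smul : ∀ (U : Y.Opens) (hU : IsAffineOpen U) (W : P.Opens) (hW : W ≤ p ⁻¹ᵁ U) (a : Γ(P, W)) (x : Γ(F, W)),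
    φ U hU W hW (a • x) = a • φ U hU W hW x
  nat : ∀ (U : Y.Opens) (hU : IsAffineOpen U) (W : P.Opens) (hW : W ≤ p ⁻¹ᵁ U) (W' : P.Opens) (h : W' ≤ W)
    (x : Γ(F, W)), φ U hU W' (h.trans hW) (res F h x) = res F' h (φ U hU W hW x)
  basic : ∀ (U : Y.Opens) (hU : IsAffineOpen U) (r : Γ(Y, U)) (W : P.Opens)
    (hW : W ≤ p ⁻¹ᵁ (Y.basicOpen r)) (x : Γ(F, W)),
    φ (Y.basicOpen r) (hU.basicOpen r) W hW x =
      φ U hU W (hW.trans (p.preimage_mono (Y.basicOpen_le r))) x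

namespace ChartHomData

variable {p F F'} (D : ChartHomData p F F')

theorem congr_open (V V' : Y.Opens) (h : V = V') (hV : IsAffineOpen V) (hV' : IsAffineOpen V') (W : P.Opens)
    (hW : W ≤ p ⁻¹ᵁ V) (hW' : W ≤ p ⁻¹ᵁ V') (x : Γ(F, W)) : D.φ V hV W hW x = D.φ V' hV' W hW' x := by
  subst h
  rfl

/-- the maps do not depend on the affine open of the base -/
theorem indep (U : Y.Opens) (hU : IsAffineOpen U) (U' : Y.Opens) (hU' : IsAffineOpen U') (W : P.Opens)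
    (hW : W ≤ p ⁻¹ᵁ U) (hW' : W ≤ p ⁻¹ᵁ U') (x : Γ(F, W)) : D.φ U hU W hW x = D.φ U' hU' W hW' x := by
  have hpt : ∀ q : W, ∃ (V : P.Opens) (hV : V ≤ W), q.1 ∈ V ∧
      res F' hV (D.φ U hU W hW x) = res F' hV (D.φ U' hU' W hW' x) := by
    intro q
    obtain ⟨f, g, hfg, hq⟩ := exists_basicOpen_le_affine_inter hU hU' (p.base q.1) ⟨hW q.2, hW' q.2⟩
    have hV1 : W ⊓ p ⁻¹ᵁ (Y.basicOpen f) ≤ p ⁻¹ᵁ (Y.basicOpen f) := inf_le_right
    have hV2 : W ⊓ p ⁻¹ᵁ (Y.basicOpen f) ≤ p ⁻¹ᵁ (Y.basicOpen g) := by rw [← hfg]; exact inf_le_right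
    refine ⟨W ⊓ p ⁻¹ᵁ (Y.basicOpen f), inf_le_left, ⟨q.2, hq⟩, ?_⟩
    rw [← D.nat U hU W hW _ inf_le_left x, ← D.nat U' hU' W hW' _ inf_le_left x,
      ← D.basic U hU f _ hV1, ← D.basic U' hU' g _ hV2]
    exact D.congr_open _ _ hfg _ _ _ _ _ _
  choose V hV hqV hres using hpt
  refine eq_of_locally_eq F' V W hV ?_ _ _ hres
  intro q hq
  exact Opens.mem_iSup.mpr ⟨⟨q, hq⟩, hqV ⟨q, hq⟩⟩

/-- the local data over all opens lying over some affine open of the base -/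
noncomputable def toLocal : LocalHomData F F' where
  B W := ∃ (U : Y.Opens) (_ : IsAffineOpen U), W ≤ p ⁻¹ᵁ U
  down V V' h := fun ⟨U, hU, hV⟩ => ⟨U, hU, h.trans hV⟩
  cov x := by
    obtain ⟨i, hi⟩ := exists_affine_mem (p.base x)
    exact ⟨p ⁻¹ᵁ i.1, ⟨i.1, i.2, le_rfl⟩, hi⟩
  φ V hV := D.φ hV.choose hV.choose_spec.choose V hV.choose_spec.choose_spec
  add V hV x y := D.add _ _ _ _ x y
  smul V hV a x := D.smul _ _ _ _ a x
  nat V hV V' h x := by
    rw [← D.nat _ _ V hV.choose_spec.choose_spec V' h x]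
    exact D.indep _ _ _ _ _ _ _ _

/-- the glued morphism -/
noncomputable def hom : F ⟶ F' := D.toLocal.hom

theorem hom_app (U : Y.Opens) (hU : IsAffineOpen U) (W : P.Opens) (hW : W ≤ p ⁻¹ᵁ U) (x : Γ(F, W)) :
    D.hom.app W x = D.φ U hU W hW x :=
  (D.toLocal.hom_app W ⟨U, hU, hW⟩ x).trans (D.indep _ _ _ _ _ _ _ _)

end ChartHomData

/-- two morphisms agreeing on the opens lying over affine opens of the base are equal -/
theorem hom_ext_of_charts (ψ ψ' : F ⟶ F')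
    (h : ∀ (U : Y.Opens) (_ : IsAffineOpen U) (W : P.Opens), W ≤ p ⁻¹ᵁ U → ∀ x : Γ(F, W),
      ψ.app W x = ψ'.app W x) : ψ = ψ' := by
  refine hom_ext_of_local ψ ψ' (fun W => ∃ (U : Y.Opens) (_ : IsAffineOpen U), W ≤ p ⁻¹ᵁ U)
    (fun V V' hle => fun ⟨U, hU, hV⟩ => ⟨U, hU, hle.trans hV⟩) ?_ ?_
  · intro x
    obtain ⟨i, hi⟩ := exists_affine_mem (p.base x)
    exact ⟨p ⁻¹ᵁ i.1, ⟨i.1, i.2, le_rfl⟩, hi⟩
  · rintro V ⟨U, hU, hV⟩ x
    exact h U hU V hV x

end Groth.Agent.Lib.Helper28.RelProjQC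

namespace Groth.Agent.Lib.Helper28.RelProjQC

open Groth.Agent.Lib.Helper28 Groth.Agent.Lib.Helper28.QCohLoc

section general

variable {Y P : Scheme.{u}} (p : P ⟶ Y) (F F' : P.Modules)
  (Q : ∀ (U : Y.Opens) (_ : IsAffineOpen U), P.Modules)
  (μ : ∀ (U : Y.Opens) (hU : IsAffineOpen U), F ⟶ Q U hU)
  (lam' : ∀ (U : Y.Opens) (hU : IsAffineOpen U), F' ⟶ Q U hU)
  (hlam' : ∀ (U : Y.Opens) (hU : IsAffineOpen U) (W : P.Opens), W ≤ p ⁻¹ᵁ U →
    Function.Bijective ((lam' U hU).app W))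
  (hbasic : ∀ (U : Y.Opens) (hU : IsAffineOpen U) (r : Γ(Y, U)) (W : P.Opens)
    (_ : W ≤ p ⁻¹ᵁ (Y.basicOpen r)) (s : Γ(F, W)) (s' : Γ(F', W)),
    (μ U hU).app W s = (lam' U hU).app W s' →
      (μ (Y.basicOpen r) (hU.basicOpen r)).app W s = (lam' (Y.basicOpen r) (hU.basicOpen r)).app W s')

/-- the inverse of `lam'` on sections over `W ≤ p⁻¹U` -/
noncomputable def cinv (U : Y.Opens) (hU : IsAffineOpen U) (W : P.Opens) (hW : W ≤ p ⁻¹ᵁ U)
    (t : Γ(Q U hU, W)) : Γ(F', W) := Function.surjInv (hlam' U hU W hW).surjective t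

theorem lam'_cinv (U : Y.Opens) (hU : IsAffineOpen U) (W : P.Opens) (hW : W ≤ p ⁻¹ᵁ U) (t : Γ(Q U hU, W)) :
    (lam' U hU).app W (cinv p F' Q lam' hlam' U hU W hW t) = t :=
  Function.surjInv_eq (hlam' U hU W hW).surjective t

/-- the chartwise maps `lam'⁻¹ ∘ μ` -/
noncomputable def chartHomData : ChartHomData p F F' where
  φ U hU W hW x := cinv p F' Q lam' hlam' U hU W hW ((μ U hU).app W x)
  add U hU W hW x y := by
    apply (hlam' U hU W hW).injective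
    rw [lam'_cinv, map_add, map_add, lam'_cinv, lam'_cinv]
  smul U hU W hW a x := by
    apply (hlam' U hU W hW).injective
    rw [lam'_cinv, Scheme.Modules.Hom.app_smul, Scheme.Modules.Hom.app_smul, lam'_cinv]
  nat U hU W hW W' h x := by
    apply (hlam' U hU W' (h.trans hW)).injective
    rw [lam'_cinv, app_res, app_res, lam'_cinv]
  basic U hU r W hW x := by
    apply (hlam' (Y.basicOpen r) (hU.basicOpen r) W hW).injective
    rw [lam'_cinv]
    refine hbasic U hU r W hW x _ ?_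
    rw [lam'_cinv]

theorem lam'_chartHom_app (U : Y.Opens) (hU : IsAffineOpen U) (W : P.Opens) (hW : W ≤ p ⁻¹ᵁ U) (x : Γ(F, W)) :
    (lam' U hU).app W ((chartHomData p F F' Q μ lam' hlam' hbasic).hom.app W x) = (μ U hU).app W x := by
  rw [ChartHomData.hom_app _ U hU W hW x]
  exact lam'_cinv p F' Q lam' hlam' U hU W hW _

include hlam' in
theorem chartHom_unique (ψ ψ' : F ⟶ F')
    (h : ∀ (U : Y.Opens) (hU : IsAffineOpen U) (W : P.Opens), W ≤ p ⁻¹ᵁ U → ∀ x : Γ(F, W),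
      (lam' U hU).app W (ψ.app W x) = (μ U hU).app W x)
    (h' : ∀ (U : Y.Opens) (hU : IsAffineOpen U) (W : P.Opens), W ≤ p ⁻¹ᵁ U → ∀ x : Γ(F, W),
      (lam' U hU).app W (ψ'.app W x) = (μ U hU).app W x) : ψ = ψ' := by
  refine hom_ext_of_charts p F F' ψ ψ' fun U hU W hW x => ?_
  apply (hlam' U hU W hW).injective
  rw [h U hU W hW, h' U hU W hW]

end general

/-- morphisms into a direct image along `e` agreeing over the opens inside an open containing the range of `e`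
are equal -/
theorem hom_ext_pushforward {P Q₀ : Scheme.{u}} (e : Q₀ ⟶ P) [IsOpenImmersion e] (R : P.Opens) (hR : e.opensRange ≤ R)
    {F : P.Modules} {N : Q₀.Modules} (a b : F ⟶ (Scheme.Modules.pushforward e).obj N)
    (h : ∀ (W : P.Opens), W ≤ R → ∀ x : Γ(F, W), a.app W x = b.app W x) : a = b := by
  apply Scheme.Modules.hom_ext
  intro W
  ext x
  have h₁ : e ⁻¹ᵁ (W ⊓ R) ≤ e ⁻¹ᵁ W := e.preimage_mono inf_le_left
  have h₂ : e ⁻¹ᵁ W ≤ e ⁻¹ᵁ (W ⊓ R) := fun z hz => ⟨hz, hR ⟨z, rfl⟩⟩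
  have key : ∀ t : Γ(N, e ⁻¹ᵁ W), t = res N h₂ (res N h₁ t) := fun t => by rw [res_res, res_self]
  have ha : res N h₁ (a.app W x) = res N h₁ (b.app W x) := by
    have e1 := app_res a (inf_le_left : W ⊓ R ≤ W) x
    have e2 := app_res b (inf_le_left : W ⊓ R ≤ W) x
    exact e1.symm.trans ((h (W ⊓ R) inf_le_right _).trans e2)
  exact (key (a.app W x)).trans ((congrArg (res N h₂) ha).trans (key (b.app W x)).symm)

end Groth.Agent.Lib.Helper28.RelProjQC
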