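import Groth.Agent.Lib.Helper28.ModAffineExt
import Groth.Agent.Lib.Helper28.RelChartHom
import Groth.Prelude.Def_RelSpec2

/-!
# Homomorphisms between direct images under an affine morphism

For an affine morphism `f : X ⟶ S` and `F` quasi-coherent, the homomorphisms `f_* F ⟶ f_* G` of modules over `f_* O_X`
are the direct images of the homomorphisms `F ⟶ G`.
-/

set_option autoImplicit false
universe u
open CategoryTheory CategoryTheory.Limits AlgebraicGeometry Opposite TopologicalSpace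

namespace Groth.Agent.Lib.Helper28.DirImg

open Groth.Agent.Lib.Helper28 Groth.Agent.Lib.Helper28.QCohLoc Groth.Agent.Lib.Helper28.RelProjQC

variable {X S : Scheme.{u}} (f : X ⟶ S) [QuasiCompact f] [QuasiSeparated f] {F G : X.Modules}
  (ρ : (AMod.dirImg f).obj F ⟶ (AMod.dirImg f).obj G)

/-- the map on the sections over the preimage of `V` -/
noncomputable def rapp (V : S.Opens) : Γ(F, f ⁻¹ᵁ V) →+ Γ(G, f ⁻¹ᵁ V) :=
  (ρ.val.app (op V)).hom.toAddMonoidHom

theorem rapp_smul (V : S.Opens) (a : Γ(X, f ⁻¹ᵁ V)) (x : Γ(F, f ⁻¹ᵁ V)) :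
    rapp f ρ V (a • x) = a • rapp f ρ V x :=
  (ρ.val.app (op V)).hom.map_smul a x

theorem rapp_res (V V' : S.Opens) (h : V' ≤ V) (x : Γ(F, f ⁻¹ᵁ V)) :
    rapp f ρ V' (res F (f.preimage_mono h) x) = res G (f.preimage_mono h) (rapp f ρ V x) :=
  PresheafOfModules.naturality_apply ρ.val (homOfLE h).op x

theorem rapp_map (φ : F ⟶ G) (V : S.Opens) (x : Γ(F, f ⁻¹ᵁ V)) :
    rapp f ((AMod.dirImg f).map φ) V x = φ.app (f ⁻¹ᵁ V) x := rfl

theorem hom_ext_rapp (ρ ρ' : (AMod.dirImg f).obj F ⟶ (AMod.dirImg f).obj G)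
    (h : ∀ (V : S.Opens) (x : Γ(F, f ⁻¹ᵁ V)), rapp f ρ V x = rapp f ρ' V x) : ρ = ρ' := by
  apply SheafOfModules.hom_ext
  apply PresheafOfModules.hom_ext
  intro V
  apply ModuleCat.hom_ext
  apply LinearMap.ext
  intro x
  exact h V.unop x

end Groth.Agent.Lib.Helper28.DirImg

namespace Groth.Agent.Lib.Helper28.DirImg

open Groth.Agent.Lib.Helper28 Groth.Agent.Lib.Helper28.QCohLoc Groth.Agent.Lib.Helper28.RelProjQC

variable {X S : Scheme.{u}} (f : X ⟶ S) [IsAffineHom f] {F G : X.Modules} [F.IsQuasicoherent]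

/-- a morphism of modules on `X` is determined on the opens over an affine open `V` by its sections over `f⁻¹V` -/
theorem app_eq_ext (φ : F ⟶ G) (V : S.Opens) (hV : IsAffineOpen V) (ψ : Γ(F, f ⁻¹ᵁ V) →+ Γ(G, f ⁻¹ᵁ V))
    (hsmul : ∀ (a : Γ(X, f ⁻¹ᵁ V)) (x : Γ(F, f ⁻¹ᵁ V)), ψ (a • x) = a • ψ x)
    (hψ : ∀ x : Γ(F, f ⁻¹ᵁ V), φ.app (f ⁻¹ᵁ V) x = ψ x)
    (W : X.Opens) (hW : W ≤ f ⁻¹ᵁ V) (x : Γ(F, W)) :
    ext (isLocOn_of_isQuasicoherent F (hV.preimage f)) ψ hsmul (hV.preimage f) hW x = φ.app W x := by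
  refine ext_eq_of_family (isLocOn_of_isQuasicoherent F (hV.preimage f)) ψ hsmul (hV.preimage f) le_rfl
    (fun W _ => φ.app W) ?_ ?_ ?_ W hW x
  · intro W _ a x
    exact Scheme.Modules.Hom.app_smul φ a x
  · intro W _ W' h x
    exact app_res φ h x
  · intro m
    rw [res_self, res_self]
    exact hψ m

/-- the chartwise data of the morphism with given direct image -/
noncomputable def chartData (ρ : (AMod.dirImg f).obj F ⟶ (AMod.dirImg f).obj G) : ChartHomData f F G where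
  φ V hV W hW := ext (isLocOn_of_isQuasicoherent F (hV.preimage f)) (rapp f ρ V) (rapp_smul f ρ V) (hV.preimage f) hW
  add V hV W hW x y := ext_add _ _ _ _ hW x y
  smul V hV W hW a x := ext_smul _ _ _ _ hW a x
  nat V hV W hW W' h x := ext_res _ _ _ _ hW h x
  basic V hV r W hW x := by
    symm
    refine ext_eq_of_family (isLocOn_of_isQuasicoherent F (hV.preimage f)) (rapp f ρ V) (rapp_smul f ρ V)
      (hV.preimage f) (f.preimage_mono (S.basicOpen_le r))
      (fun W hW => ext (isLocOn_of_isQuasicoherent F ((hV.basicOpen r).preimage f)) (rapp f ρ (S.basicOpen r))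
        (rapp_smul f ρ (S.basicOpen r)) ((hV.basicOpen r).preimage f) hW) ?_ ?_ ?_ W hW x
    · intro W hW a x
      exact ext_smul _ _ _ _ hW a x
    · intro W hW W' h x
      exact ext_res _ _ _ _ hW h x
    · intro m
      rw [ext_top]
      exact rapp_res f ρ V (S.basicOpen r) (S.basicOpen_le r) m

theorem chartData_hom_app (ρ : (AMod.dirImg f).obj F ⟶ (AMod.dirImg f).obj G) (V : S.Opens) (hV : IsAffineOpen V)
    (x : Γ(F, f ⁻¹ᵁ V)) : (chartData f ρ).hom.app (f ⁻¹ᵁ V) x = rapp f ρ V x := by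
  rw [(chartData f ρ).hom_app V hV (f ⁻¹ᵁ V) le_rfl x]
  exact ext_top (isLocOn_of_isQuasicoherent F (hV.preimage f)) (rapp f ρ V) (rapp_smul f ρ V) (hV.preimage f) x

theorem dirImg_map_chartData_hom (ρ : (AMod.dirImg f).obj F ⟶ (AMod.dirImg f).obj G) :
    (AMod.dirImg f).map (chartData f ρ).hom = ρ := by
  apply hom_ext_rapp
  intro V x
  rw [rapp_map]
  -- equality is local on the preimages of the affine opens inside `V`
  let ι := {V' : S.Opens // IsAffineOpen V' ∧ V' ≤ V}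
  refine eq_of_locally_eq G (fun i : ι => f ⁻¹ᵁ i.1) (f ⁻¹ᵁ V) (fun i => f.preimage_mono i.2.2) ?_ _ _ ?_
  · intro q hq
    obtain ⟨_, ⟨V', hV', rfl⟩, hqV', hle⟩ :=
      S.isBasis_affineOpens.exists_subset_of_mem_open (show f.base q ∈ (V : Set S) from hq) V.2
    exact Opens.mem_iSup.mpr ⟨⟨V', hV', hle⟩, hqV'⟩
  · intro i
    rw [← app_res, chartData_hom_app f ρ i.1 i.2.1, rapp_res f ρ V i.1 i.2.2]

theorem dirImg_map_bijective :
    Function.Bijective
      ((AMod.dirImg f).map : (F ⟶ G) → ((AMod.dirImg f).obj F ⟶ (AMod.dirImg f).obj G)) := by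
  constructor
  · intro φ φ' h
    refine hom_ext_of_charts f F G φ φ' ?_
    intro V hV W hW x
    have h1 := app_eq_ext f φ V hV (rapp f ((AMod.dirImg f).map φ) V) (rapp_smul f _ V) (fun _ => rfl) W hW x
    have h2 := app_eq_ext f φ' V hV (rapp f ((AMod.dirImg f).map φ) V) (rapp_smul f _ V)
      (fun y => by rw [h]; rfl) W hW x
    exact h1.symm.trans h2
  · intro ρ
    exact ⟨(chartData f ρ).hom, dirImg_map_chartData_hom f ρ⟩

end Groth.Agent.Lib.Helper28.DirImg
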