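import Groth.Agent.Lib.Helper17.CounitStalk
import Groth.Agent.Lib.Helper28.AmpleCompose

/-!
# An epimorphism `f^* M → L` onto an invertible module: near every point some section of `M` generates `L`
-/

set_option autoImplicit false
set_option backward.isDefEq.respectTransparency.types false
universe w u
open CategoryTheory CategoryTheory.Limits AlgebraicGeometry Opposite TopologicalSpace
noncomputable section
namespace Groth.Agent.Lib.Helper28.EpiGen

open Groth.Agent.Lib.Helper16.Stk Groth.Agent.Lib.Helper28 Groth.Agent.Lib.Helper28.QCohLoc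
  Groth.Agent.Lib.Helper28.GenLocus Groth.Agent.Lib.Helper28.PullbackInv Groth.Agent.Lib.Helper17.GGStalk
  Groth.Agent.Lib.Helper17.CounitStalk Groth.Agent.Lib.Helper28.AmpleCompose

variable {X Y : Scheme.{u}}

/-- **the germs at `x` of the images of the inverse images of sections of `M` span the stalk of the target of an
epimorphism `f^* M ⟶ N`** -/
theorem span_germs_eq_top_of_epi (f : X ⟶ Y) (M : Y.Modules) (N : X.Modules)
    (φ : (Scheme.Modules.pullback f).obj M ⟶ N) (hepi : Epi φ) (x : X) :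
    Submodule.span (X.presheaf.stalk x)
      {b : (stk x).obj N | ∃ (V' : Y.Opens) (hx : x ∈ f ⁻¹ᵁ V') (e : Γ(M, V')),
        germAt N x (f ⁻¹ᵁ V') hx (φ.app (f ⁻¹ᵁ V') (pbs f M V' e)) = b} = ⊤ := by
  set S : Submodule (X.presheaf.stalk x) ((stk x).obj N) := Submodule.span (X.presheaf.stalk x)
      {b : (stk x).obj N | ∃ (V' : Y.Opens) (hx : x ∈ f ⁻¹ᵁ V') (e : Γ(M, V')),
        germAt N x (f ⁻¹ᵁ V') hx (φ.app (f ⁻¹ᵁ V') (pbs f M V' e)) = b} with hS
  let Q : ModuleCat.{u} (X.presheaf.stalk x) := ModuleCat.of (X.presheaf.stalk x) (((stk x).obj N) ⧸ S)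
  let π : (stk x).obj N ⟶ Q := ModuleCat.ofHom S.mkQ
  have hzero : φ ≫ toSky N x Q π = 0 := by
    refine pb_hom_ext f _ _ ?_
    intro V' e
    show (toSky N x Q π).app (f ⁻¹ᵁ V') (φ.app (f ⁻¹ᵁ V') (pbs f M V' e)) = 0
    show (show PLift (x ∈ f ⁻¹ᵁ V') → Q from (toSky N x Q π).app (f ⁻¹ᵁ V') (φ.app (f ⁻¹ᵁ V') (pbs f M V' e))) = 0
    funext h
    refine (toSky_app_apply N x Q π (f ⁻¹ᵁ V') (φ.app (f ⁻¹ᵁ V') (pbs f M V' e)) h).trans ?_
    show S.mkQ _ = 0
    rw [Submodule.mkQ_apply, Submodule.Quotient.mk_eq_zero]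
    exact Submodule.subset_span ⟨V', h.down, e, rfl⟩
  have ha : toSky N x Q π = 0 := by
    have h1 : φ ≫ toSky N x Q π = φ ≫ 0 := by rw [hzero, comp_zero]
    exact (cancel_epi _).1 h1
  rw [eq_top_iff]
  intro b _
  obtain ⟨W, hxW, t, rfl⟩ := exists_germAt N x b
  have h2 := toSky_app_apply N x Q π W t ⟨hxW⟩
  rw [ha] at h2
  have h3 : S.mkQ (germAt N x W hxW t) = 0 := h2.symm
  exact (Submodule.Quotient.mk_eq_zero S).1 h3

/-- **near every point, the image of some section of `M` generates the invertible target of an epimorphism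
`f^* M ⟶ L`** -/
theorem exists_secGenAt_of_epi (f : X ⟶ Y) (M : Y.Modules) (L : X.Modules) (hL : PicF.IsInvertible L)
    (φ : (Scheme.Modules.pullback f).obj M ⟶ L) (hepi : Epi φ) (x : X) :
    ∃ (V' : Y.Opens) (_ : x ∈ f ⁻¹ᵁ V') (e : Γ(M, V')),
      SecGenAt L (f ⁻¹ᵁ V') (φ.app (f ⁻¹ᵁ V') (pbs f M V' e)) x := by
  by_contra hcon
  obtain ⟨U, g, hxU, hg⟩ := exists_isGen L hL x
  set γ := germAt L x U hxU g with hγ
  let 𝔪N : Submodule (X.presheaf.stalk x) ((stk x).obj L) :=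
    Submodule.map (LinearMap.toSpanSingleton (X.presheaf.stalk x) ((stk x).obj L) γ)
      (IsLocalRing.maximalIdeal (X.presheaf.stalk x))
  have hle : Submodule.span (X.presheaf.stalk x)
      {b : (stk x).obj L | ∃ (V' : Y.Opens) (hx : x ∈ f ⁻¹ᵁ V') (e : Γ(M, V')),
        germAt L x (f ⁻¹ᵁ V') hx (φ.app (f ⁻¹ᵁ V') (pbs f M V' e)) = b} ≤ 𝔪N := by
    refine Submodule.span_le.2 ?_
    rintro _ ⟨V', hxV', e, rfl⟩
    set s := φ.app (f ⁻¹ᵁ V') (pbs f M V' e) with hs
    have hW : U ⊓ f ⁻¹ᵁ V' ≤ f ⁻¹ᵁ V' := inf_le_right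
    have hxW : x ∈ U ⊓ f ⁻¹ᵁ V' := ⟨hxU, hxV'⟩
    have hgW : IsGen L (U ⊓ f ⁻¹ᵁ V') (res L inf_le_left g) := hg.res inf_le_left
    let r : Γ(X, U ⊓ f ⁻¹ᵁ V') := hgW.coef le_rfl (res L hW s)
    have hr : res L hW s = (r • res L inf_le_left g : Γ(L, U ⊓ f ⁻¹ᵁ V')) := by
      have := hgW.coef_smul le_rfl (res L hW s)
      rw [res_self] at this
      exact this.symm
    have hnu : ¬ IsUnit ((X.presheaf.germ (U ⊓ f ⁻¹ᵁ V') x hxW).hom r) := by
      intro hu
      apply hcon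
      refine ⟨V', hxV', e, ?_⟩
      rw [secGenAt_iff_of_chart s hW hgW r hr x hxW]
      exact (Scheme.mem_basicOpen _ _ _ hxW).2 hu
    have h1 := congrArg (germAt L x (U ⊓ f ⁻¹ᵁ V') hxW) hr
    rw [germAt_res, germAt_smul, germAt_res] at h1
    rw [h1]
    exact ⟨_, (IsLocalRing.mem_maximalIdeal _).2 hnu, rfl⟩
  rw [span_germs_eq_top_of_epi f M L φ hepi x] at hle
  obtain ⟨c, hc, hcγ⟩ := hle (show γ ∈ (⊤ : Submodule _ _) from trivial)
  have hcγ' : (c • γ : (stk x).obj L) = γ := hcγ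
  have hu : IsUnit (1 - c) := by
    by_contra h
    have h1 : 1 - c ∈ IsLocalRing.maximalIdeal (X.presheaf.stalk x) := (IsLocalRing.mem_maximalIdeal _).2 h
    have h2 : (1 : X.presheaf.stalk x) ∈ IsLocalRing.maximalIdeal (X.presheaf.stalk x) := by
      have := Ideal.add_mem _ h1 hc
      rwa [sub_add_cancel] at this
    exact (IsLocalRing.maximalIdeal.isMaximal _).ne_top ((Ideal.eq_top_iff_one _).2 h2)
  have hγ0 : γ = 0 := by
    have h1 : ((1 - c) • γ : (stk x).obj L) = 0 := by rw [sub_smul, one_smul, hcγ', sub_self]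
    obtain ⟨v, hv⟩ := hu
    have h2 := congrArg (fun z => ((↑v⁻¹ : X.presheaf.stalk x) • z : (stk x).obj L)) h1
    simp only [smul_zero] at h2
    rw [← hv, smul_smul, Units.inv_mul, one_smul] at h2
    exact h2
  -- the germ of the generator vanishes: impossible
  have h0 : germAt L x U hxU g = germAt L x U hxU (0 : Γ(L, U)) := by
    rw [← hγ, hγ0]
    exact (map_zero _).symm
  obtain ⟨W, hWU, hWU', hxW, hres⟩ := germAt_eq L x hxU hxU g 0 h0
  rw [res_zero] at hres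
  have h10 : (1 : Γ(X, W)) = 0 := by
    apply (hg W hWU).1
    show ((1 : Γ(X, W)) • res L hWU g : Γ(L, W)) = ((0 : Γ(X, W)) • res L hWU g : Γ(L, W))
    rw [hres, smul_zero, smul_zero]
  have h11 := congrArg (X.presheaf.germ W x hxW).hom h10
  rw [map_one, map_zero] at h11
  exact one_ne_zero h11

end Groth.Agent.Lib.Helper28.EpiGen
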