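import Mathlib

set_option autoImplicit false
universe u
open CategoryTheory CategoryTheory.Limits AlgebraicGeometry

namespace Groth.Agent.Lib.Helper28.Rigidity

set_option backward.isDefEq.respectTransparency false in
theorem isOpenImmersion_equalizer_ι_left {S : Scheme.{u}} {X Y : Over S} [FormallyUnramified Y.hom]
    [LocallyOfFiniteType Y.hom] (f g : X ⟶ Y) : IsOpenImmersion (equalizer.ι f g).left := by
  refine MorphismProperty.of_isPullback
    ((Limits.isPullback_equalizer_prod f g).map (Over.forget _)).flip ?_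
  rw [← MorphismProperty.cancel_right_of_respectsIso @IsOpenImmersion _
    (Over.prodLeftIsoPullback Y Y).hom]
  convert! (inferInstance : IsOpenImmersion (pullback.diagonal Y.hom))
  ext1 <;> simp [← Over.comp_left]

/-- **Rigidity** (SGA1 I 5.3): two morphisms from a connected scheme to a scheme unramified and
separated over a base, agreeing over the base and at one field-valued point, are equal. -/
theorem eq_of_comp_eq {Z Y B : Scheme.{u}} [ConnectedSpace Z] (s : Y ⟶ B) [FormallyUnramified s]
    [LocallyOfFiniteType s] [IsSeparated s] (f g : Z ⟶ Y) (h : f ≫ s = g ≫ s)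
    {T : Scheme.{u}} [Nonempty T] (ξ : T ⟶ Z) (hξ : ξ ≫ f = ξ ≫ g) : f = g := by
  let Z' : Over B := Over.mk (f ≫ s)
  let Y' : Over B := Over.mk s
  let T' : Over B := Over.mk (ξ ≫ f ≫ s)
  let f' : Z' ⟶ Y' := Over.homMk f
  let g' : Z' ⟶ Y' := Over.homMk g h.symm
  let ξ' : T' ⟶ Z' := Over.homMk ξ
  haveI : IsSeparated Y'.hom := ‹_›
  haveI : FormallyUnramified Y'.hom := ‹_›
  haveI : LocallyOfFiniteType Y'.hom := ‹_›
  have hξ' : ξ' ≫ f' = ξ' ≫ g' := by ext1; exact hξ
  set ι : (equalizer f' g').left ⟶ Z := (equalizer.ι f' g').left with hι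
  haveI : IsOpenImmersion ι := isOpenImmersion_equalizer_ι_left f' g'
  haveI : IsClosedImmersion ι := isClosedImmersion_equalizer_ι_left f' g'
  have hclopen : IsClopen (Set.range ι) :=
    ⟨ι.isClosedEmbedding.isClosed_range, ι.isOpenEmbedding.isOpen_range⟩
  have hne : (Set.range ι).Nonempty := by
    obtain ⟨t⟩ := ‹Nonempty T›
    refine ⟨ξ t, ?_⟩
    have h1 : (equalizer.lift ξ' hξ').left ≫ ι = ξ := by
      rw [hι, ← Over.comp_left, equalizer.lift_ι]; rfl
    exact ⟨(equalizer.lift ξ' hξ').left t, by rw [← Scheme.Hom.comp_apply, h1]⟩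
  have huniv : Set.range ι = Set.univ := by
    rcases isClopen_iff.1 hclopen with h0 | h1
    · exact absurd h0 hne.ne_empty
    · exact h1
  haveI : Epi ι.base := (TopCat.epi_iff_surjective _).2 (Set.range_eq_univ.1 huniv)
  haveI : IsIso ι := IsOpenImmersion.isIso ι
  rw [← cancel_epi ι]
  exact congr($(equalizer.condition f' g').left)

end Groth.Agent.Lib.Helper28.Rigidity
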