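import Mathlib
import Groth.Prelude.Def_SGA1

set_option autoImplicit false
universe u
open CategoryTheory CategoryTheory.Limits AlgebraicGeometry MorphismProperty

namespace Groth.Agent.Lib.Helper28.SubmDescent

theorem isQuotientMap_of_univSubmersive {A B : Scheme.{u}} {g : A ⟶ B} (hg : SGA1.UnivSubmersive g) :
    Topology.IsQuotientMap g :=
  hg (𝟙 _) (𝟙 _) g IsPullback.of_id_snd

instance : SGA1.UnivSubmersive.{u}.IsStableUnderBaseChange := by
  unfold SGA1.UnivSubmersive
  infer_instance

instance : SGA1.UnivSubmersive.{u}.RespectsIso := by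
  unfold SGA1.UnivSubmersive
  infer_instance

/-- openness descends along a topological quotient map -/
theorem isOpenMap_of_isPullback {P X Y Z : Scheme.{u}} {fst : P ⟶ X} {snd : P ⟶ Y}
    {f : X ⟶ Z} {g : Y ⟶ Z} (h : IsPullback fst snd f g) (hq : Topology.IsQuotientMap g)
    (hsnd : IsOpenMap snd) : IsOpenMap f := by
  intro s hs
  rw [← hq.isOpen_preimage, ← Scheme.image_preimage_eq_of_isPullback h]
  exact hsnd _ (hs.preimage fst.continuous)

theorem isClosedMap_of_isPullback {P X Y Z : Scheme.{u}} {fst : P ⟶ X} {snd : P ⟶ Y}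
    {f : X ⟶ Z} {g : Y ⟶ Z} (h : IsPullback fst snd f g) (hq : Topology.IsQuotientMap g)
    (hsnd : IsClosedMap snd) : IsClosedMap f := by
  intro s hs
  rw [← hq.isClosed_preimage, ← Scheme.image_preimage_eq_of_isPullback h]
  exact hsnd _ (hs.preimage fst.continuous)

instance : DescendsAlong (topologically @IsClosedMap) SGA1.UnivSubmersive.{u} where
  of_isPullback h hf hfst :=
    isClosedMap_of_isPullback h.flip (isQuotientMap_of_univSubmersive hf) hfst

instance : DescendsAlong (topologically @IsOpenMap) SGA1.UnivSubmersive.{u} where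
  of_isPullback h hf hfst :=
    isOpenMap_of_isPullback h.flip (isQuotientMap_of_univSubmersive hf) hfst

instance : DescendsAlong @UniversallyClosed SGA1.UnivSubmersive.{u} := by
  haveI := universallyClosed_respectsIso
  apply DescendsAlong.mk'
  intro X Y Z f g _ hf hfst
  refine ⟨universally_mk' _ _ fun {T} t _ => ?_⟩
  haveI : UniversallyClosed (pullback.fst f g) := hfst
  have hp : IsClosedMap (pullback.fst (pullback.fst f t) (pullback.fst f g)) :=
    Scheme.Hom.isClosedMap _
  exact isClosedMap_of_isPullback (isPullback_map_snd_snd f t g)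
    (isQuotientMap_of_univSubmersive (MorphismProperty.pullback_snd _ _ hf)) hp

instance : DescendsAlong @UniversallyOpen SGA1.UnivSubmersive.{u} := by
  apply DescendsAlong.mk'
  intro X Y Z f g _ hf hfst
  refine ⟨universally_mk' _ _ fun {T} t _ => ?_⟩
  haveI : UniversallyOpen (pullback.fst f g) := hfst
  have hp : IsOpenMap (pullback.fst (pullback.fst f t) (pullback.fst f g)) :=
    Scheme.Hom.isOpenMap _
  exact isOpenMap_of_isPullback (isPullback_map_snd_snd f t g)
    (isQuotientMap_of_univSubmersive (MorphismProperty.pullback_snd _ _ hf)) hp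

theorem isSeparated_iff_isClosedMap_diagonal {X Y : Scheme.{u}} (f : X ⟶ Y) :
    IsSeparated f ↔ (topologically @IsClosedMap).diagonal f := by
  constructor
  · intro h
    exact (pullback.diagonal f).isClosedMap
  · intro h
    exact ⟨IsClosedImmersion.of_isPreimmersion _ (IsClosedMap.isClosed_range h)⟩

instance : DescendsAlong @IsSeparated SGA1.UnivSubmersive.{u} where
  of_isPullback h hf hfst := by
    rw [isSeparated_iff_isClosedMap_diagonal] at hfst ⊢
    exact DescendsAlong.of_isPullback (P := (topologically @IsClosedMap).diagonal) h hf hfst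

end Groth.Agent.Lib.Helper28.SubmDescent
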