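import Mathlib
import Groth.Agent.Lib.Helper28.Rigidity
import Groth.Agent.Lib.Helper28.SubmDescent

set_option autoImplicit false
set_option linter.style.haveILetI false
universe u
open CategoryTheory CategoryTheory.Limits AlgebraicGeometry MorphismProperty

namespace Groth.Agent.Lib.Helper28.EtDescent

/-- a section of an unramified morphism is an open immersion -/
theorem isOpenImmersion_of_section {X Z : Scheme.{u}} (h : Z ⟶ X) [FormallyUnramified h]
    [LocallyOfFiniteType h] (s : X ⟶ Z) (hs : s ≫ h = 𝟙 X) : IsOpenImmersion s := by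
  have h1 : IsOpenImmersion (pullback.lift (𝟙 X) s (by rw [Category.id_comp]) :
      X ⟶ pullback (s ≫ h) h) :=
    MorphismProperty.of_isPullback (P := @IsOpenImmersion) (pullback_lift_diagonal_isPullback s h)
      (inferInstance : IsOpenImmersion (pullback.diagonal h))
  have h2 : IsIso (pullback.snd (s ≫ h) h) := by
    rw [hs]; infer_instance
  have h3 : s = pullback.lift (𝟙 X) s (by rw [Category.id_comp]) ≫ pullback.snd (s ≫ h) h := by
    rw [pullback.lift_snd]
  rw [h3]
  infer_instance

instance : DescendsAlong @Surjective.{u} @Surjective.{u} where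
  of_isPullback {A X Y Z fst snd f g} h hf hfst := by
    haveI : Surjective fst := hfst
    haveI : Surjective f := hf
    haveI : Surjective (snd ≫ g) := by rw [← h.w]; infer_instance
    exact Surjective.of_comp snd g

instance : DescendsAlong @UniversallyInjective.{u} @Surjective.{u} := by
  rw [universallyInjective_eq_diagonal]
  exact CategoryTheory.MorphismProperty.instDescendsAlongDiagonalOfRespectsIsoOfIsStableUnderBaseChange _ _

/-- étale + universally injective ⇒ monomorphism -/
theorem mono_of_universallyInjective {X Y : Scheme.{u}} (f : X ⟶ Y) [FormallyUnramified f]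
    [LocallyOfFiniteType f] [UniversallyInjective f] : Mono f := by
  rw [← pullback.isIso_diagonal_iff]
  haveI : Surjective (pullback.diagonal f) :=
    ((tfae_universallyInjective f).out 0 3).mp (inferInstance : UniversallyInjective f)
  haveI : Epi (pullback.diagonal f).base :=
    (TopCat.epi_iff_surjective _).2 (pullback.diagonal f).surjective
  exact IsOpenImmersion.isIso _

/-- étale + universally injective + surjective ⇒ isomorphism -/
theorem isIso_of_etale {X Y : Scheme.{u}} (f : X ⟶ Y) [Etale f] [UniversallyInjective f]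
    [Surjective f] : IsIso f := by
  haveI := mono_of_universallyInjective f
  haveI : IsOpenImmersion f := IsOpenImmersion.of_flat_of_mono f
  haveI : Epi f.base := (TopCat.epi_iff_surjective _).2 f.surjective
  exact IsOpenImmersion.isIso f

/-- two sections-like morphisms into an unramified scheme agreeing after a surjection are equal -/
theorem eq_of_surjective_comp_eq {T X Z B : Scheme.{u}} (h : Z ⟶ B) [FormallyUnramified h]
    [LocallyOfFiniteType h] (π : T ⟶ X) [Surjective π] (a b : X ⟶ Z) (hab : a ≫ h = b ≫ h)
    (hπ : π ≫ a = π ≫ b) : a = b := by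
  let X' : Over B := Over.mk (a ≫ h)
  let Z' : Over B := Over.mk h
  let T' : Over B := Over.mk (π ≫ a ≫ h)
  let a' : X' ⟶ Z' := Over.homMk a
  let b' : X' ⟶ Z' := Over.homMk b hab.symm
  let π' : T' ⟶ X' := Over.homMk π
  haveI : FormallyUnramified Z'.hom := ‹_›
  haveI : LocallyOfFiniteType Z'.hom := ‹_›
  have hπ' : π' ≫ a' = π' ≫ b' := by ext1; exact hπ
  set ι : (equalizer a' b').left ⟶ X := (equalizer.ι a' b').left with hι
  haveI : IsOpenImmersion ι := Rigidity.isOpenImmersion_equalizer_ι_left a' b'
  have h1 : (equalizer.lift π' hπ').left ≫ ι = π := by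
    rw [hι, ← Over.comp_left, equalizer.lift_ι]; rfl
  haveI : Surjective ((equalizer.lift π' hπ').left ≫ ι) := by rw [h1]; infer_instance
  haveI : Surjective ι := Surjective.of_comp (equalizer.lift π' hπ').left ι
  haveI : Epi ι.base := (TopCat.epi_iff_surjective _).2 ι.surjective
  haveI : IsIso ι := IsOpenImmersion.isIso ι
  rw [← cancel_epi ι]
  exact congr($(equalizer.condition a' b').left)

section
variable {X' X Z : Scheme.{u}} (π : X' ⟶ X) (h : Z ⟶ X) (φ : X' ⟶ Z) (hφ : φ ≫ h = π)
  (hcoc : pullback.fst π π ≫ φ = pullback.snd π π ≫ φ)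

include hφ hcoc in
/-- Lemma A: the cocycle condition on `W = (X' ×_X Z) ×_Z X'` -/
theorem cocycle_aux :
    pullback.fst (pullback.snd π h) φ ≫ pullback.fst π h ≫ φ =
      pullback.fst (pullback.snd π h) φ ≫ pullback.snd π h := by
  have hc : (pullback.fst (pullback.snd π h) φ ≫ pullback.fst π h) ≫ π =
      pullback.snd (pullback.snd π h) φ ≫ π := by
    rw [Category.assoc, pullback.condition, ← Category.assoc, pullback.condition, Category.assoc, hφ]
  have := congr(pullback.lift _ _ hc ≫ $hcoc)
  simp only [pullback.lift_fst_assoc, pullback.lift_snd_assoc] at this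
  rw [Category.assoc] at this
  rw [this, pullback.condition]

include hφ hcoc in
/-- Lemma B -/
theorem fst_comp_eq_snd [FormallyUnramified h] [LocallyOfFiniteType h] [Surjective φ] :
    pullback.fst π h ≫ φ = pullback.snd π h := by
  refine eq_of_surjective_comp_eq h (pullback.fst (pullback.snd π h) φ) _ _ ?_ ?_
  · rw [Category.assoc, hφ, pullback.condition]
  · exact cocycle_aux π h φ hφ hcoc

include hφ hcoc in
theorem isIso_fst [FormallyUnramified h] [LocallyOfFiniteType h] [Surjective φ] :
    IsIso (pullback.fst π h) := by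
  refine ⟨pullback.lift (𝟙 _) φ (by rw [Category.id_comp, hφ]), ?_, by rw [pullback.lift_fst]⟩
  apply pullback.hom_ext
  · rw [Category.assoc, pullback.lift_fst, Category.comp_id, Category.id_comp]
  · rw [Category.assoc, pullback.lift_snd, Category.id_comp, fst_comp_eq_snd π h φ hφ hcoc]

include hφ hcoc in
/-- the range of `φ` is open -/
theorem isOpen_range (hπ : SGA1.UnivSubmersive π) [FormallyUnramified h] [LocallyOfFiniteType h] :
    IsOpen (Set.range φ) := by
  have hq : Topology.IsQuotientMap (pullback.snd π h) :=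
    SubmDescent.isQuotientMap_of_univSubmersive (MorphismProperty.pullback_snd _ _ hπ)
  rw [← hq.isOpen_preimage]
  let γ : X' ⟶ pullback π h := pullback.lift (𝟙 _) φ (by rw [Category.id_comp, hφ])
  haveI : FormallyUnramified (pullback.fst π h) :=
    MorphismProperty.of_isPullback (P := @FormallyUnramified.{u})
      (IsPullback.of_hasPullback π h).flip ‹_›
  haveI : IsOpenImmersion γ := isOpenImmersion_of_section (pullback.fst π h) γ
    (by simp only [γ, pullback.lift_fst])
  have : (pullback.snd π h) ⁻¹' (Set.range φ) = Set.range γ := by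
    ext w
    constructor
    · rintro ⟨x, hx⟩
      obtain ⟨t, ht1, ht2⟩ := Scheme.Pullback.exists_preimage_pullback (f := pullback.snd π h)
        (g := φ) w x hx.symm
      refine ⟨pullback.fst π h w, ?_⟩
      have h1 : pullback.fst (pullback.snd π h) φ ≫ pullback.fst π h ≫ γ =
          pullback.fst (pullback.snd π h) φ := by
        apply pullback.hom_ext
        · simp only [γ, Category.assoc, pullback.lift_fst, Category.comp_id]
        · simp only [Category.assoc, γ, pullback.lift_snd]
          exact cocycle_aux π h φ hφ hcoc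
      have h2 := congr($h1 t)
      simp only [Scheme.Hom.comp_apply] at h2
      rw [ht1] at h2
      exact h2
    · rintro ⟨x, rfl⟩
      refine ⟨x, ?_⟩
      rw [← Scheme.Hom.comp_apply]
      simp only [γ, pullback.lift_snd]
  rw [this]
  exact γ.isOpenEmbedding.isOpen_range

include hφ hcoc in
/-- Lemma E': effective descent of a section of an étale morphism along a universally submersive
morphism. -/
theorem exists_section (hπ : SGA1.UnivSubmersive π) [Etale h] :
    ∃ σ : X ⟶ Z, σ ≫ h = 𝟙 X ∧ π ≫ σ = φ := by
  haveI : Surjective π := ⟨(SubmDescent.isQuotientMap_of_univSubmersive hπ).surjective⟩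
  let Γ : Z.Opens := ⟨Set.range φ, isOpen_range π h φ hφ hcoc hπ⟩
  let φΓ : X' ⟶ Γ.toScheme := IsOpenImmersion.lift Γ.ι φ (by
    rw [Scheme.Opens.range_ι]; rfl)
  have hφΓ : φΓ ≫ Γ.ι = φ := IsOpenImmersion.lift_fac _ _ _
  haveI : Surjective φΓ := by
    refine ⟨fun z => ?_⟩
    obtain ⟨x, hx⟩ : (Γ.ι z) ∈ Set.range φ := z.2
    refine ⟨x, ?_⟩
    apply Γ.ι.isOpenEmbedding.injective
    rw [← Scheme.Hom.comp_apply, hφΓ, hx]
  let hΓ : Γ.toScheme ⟶ X := Γ.ι ≫ h
  have hφΓ' : φΓ ≫ hΓ = π := by rw [← Category.assoc, hφΓ, hφ]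
  have hcocΓ : pullback.fst π π ≫ φΓ = pullback.snd π π ≫ φΓ := by
    rw [← cancel_mono Γ.ι, Category.assoc, Category.assoc, hφΓ, hcoc]
  haveI : Etale hΓ := inferInstance
  haveI : IsIso (pullback.fst π hΓ) := isIso_fst π hΓ φΓ hφΓ' hcocΓ
  haveI : Surjective (φΓ ≫ hΓ) := by rw [hφΓ']; infer_instance
  haveI : Surjective hΓ := Surjective.of_comp φΓ hΓ
  haveI : UniversallyInjective hΓ :=
    DescendsAlong.of_isPullback (P := @UniversallyInjective) (Q := @Surjective)
      (IsPullback.of_hasPullback π hΓ) (inferInstance : Surjective π)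
      (inferInstance : UniversallyInjective (pullback.fst π hΓ))
  haveI : IsIso hΓ := isIso_of_etale hΓ
  refine ⟨inv hΓ ≫ Γ.ι, ?_, ?_⟩
  · rw [Category.assoc]; exact IsIso.inv_hom_id hΓ
  · rw [← hφΓ', Category.assoc, IsIso.hom_inv_id_assoc, hφΓ]

end

end Groth.Agent.Lib.Helper28.EtDescent
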