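import Mathlib
import Groth.Agent.Lib.Helper12.FlatDescent

/-!
# Étaleness descends along an étale surjective affine morphism of the source (helper28)
-/

set_option autoImplicit false
universe u
open CategoryTheory CategoryTheory.Limits AlgebraicGeometry Opposite TopologicalSpace TensorProduct

namespace Groth.Agent.Lib.Helper28.EtSrcDescent

theorem ringHom_formallyUnramified_of_comp {B A' A : Type u} [CommRing B] [CommRing A'] [CommRing A]
    (φ : B →+* A') (ψ : A' →+* A) (hψe : ψ.Etale) (hψf : ψ.FaithfullyFlat)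
    (h : (ψ.comp φ).FormallyUnramified) : φ.FormallyUnramified := by
  letI := φ.toAlgebra
  letI := ψ.toAlgebra
  letI := (ψ.comp φ).toAlgebra
  haveI : IsScalarTower B A' A := IsScalarTower.of_algebraMap_eq' rfl
  haveI : Algebra.Etale A' A := hψe
  haveI : Module.FaithfullyFlat A' A := hψf
  haveI : Algebra.FormallyUnramified B A := h
  have e := KaehlerDifferential.tensorKaehlerEquivOfFormallyEtale B A' A
  haveI : Subsingleton (A ⊗[A'] Ω[A'⁄B]) := e.toEquiv.subsingleton
  haveI : Subsingleton Ω[A'⁄B] := Module.FaithfullyFlat.lTensor_reflects_triviality A' A _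
  exact ⟨inferInstance⟩

variable {X X' Y : Scheme.{u}} (p : X ⟶ X') (q : X' ⟶ Y)

theorem flat_of_comp [Flat p] [Surjective p] [Flat (p ≫ q)] : Flat q := by
  rw [Flat.iff_flat_stalkMap]
  intro x'
  obtain ⟨x, rfl⟩ := p.surjective x'
  have h1 : ((p ≫ q).stalkMap x).hom.Flat := Flat.stalkMap (p ≫ q) x
  rw [Scheme.Hom.stalkMap_comp] at h1
  have h2 : (p.stalkMap x).hom.Flat := Flat.stalkMap p x
  have h3 : (p.stalkMap x).hom.FaithfullyFlat := by
    letI := (p.stalkMap x).hom.toAlgebra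
    haveI : Module.Flat (X'.presheaf.stalk (p x)) (X.presheaf.stalk x) := h2
    haveI : IsLocalHom (algebraMap (X'.presheaf.stalk (p x)) (X.presheaf.stalk x)) :=
      inferInstanceAs (IsLocalHom (p.stalkMap x).hom)
    exact Module.FaithfullyFlat.of_flat_of_isLocalHom
  exact Groth.Agent.Lib.Helper12.ringHom_flat_of_comp_faithfullyFlat _ _ h3 h1

theorem formallyUnramified_of_comp [IsAffineHom p] [Etale p] [Surjective p]
    [FormallyUnramified (p ≫ q)] : FormallyUnramified q := by
  rw [HasRingHomProperty.iff_appLE (P := @FormallyUnramified)]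
  intro U V e
  have hW : IsAffineOpen (p ⁻¹ᵁ V.1) := V.2.preimage p
  have h1 : ((p ≫ q).appLE U.1 (p ⁻¹ᵁ V.1) (by
      rw [Scheme.Hom.comp_preimage]; exact p.preimage_mono e)).hom.FormallyUnramified :=
    HasRingHomProperty.appLE (P := @FormallyUnramified) (p ≫ q) inferInstance U ⟨_, hW⟩ _
  rw [← Scheme.Hom.appLE_comp_appLE p q U.1 V.1 (p ⁻¹ᵁ V.1) e le_rfl] at h1
  have h2 : (p.appLE V.1 (p ⁻¹ᵁ V.1) le_rfl).hom.Etale :=
    HasRingHomProperty.appLE (P := @Etale) p inferInstance V ⟨_, hW⟩ _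
  have h3 : (p.appLE V.1 (p ⁻¹ᵁ V.1) le_rfl).hom.FaithfullyFlat := by
    rw [RingHom.FaithfullyFlat.iff_flat_and_comap_surjective]
    refine ⟨HasRingHomProperty.appLE (P := @Flat) p inferInstance V ⟨_, hW⟩ _, ?_⟩
    intro P
    have hx' : V.2.fromSpec P ∈ V.1 := by
      have : V.2.fromSpec P ∈ Set.range V.2.fromSpec := ⟨P, rfl⟩
      rw [V.2.range_fromSpec] at this
      exact this
    obtain ⟨x, hx⟩ := p.surjective (V.2.fromSpec P)
    have hxW : x ∈ p ⁻¹ᵁ V.1 := by
      change p x ∈ V.1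
      rw [hx]; exact hx'
    refine ⟨hW.primeIdealOf ⟨x, hxW⟩, ?_⟩
    have h4 := IsAffineOpen.comap_primeIdealOf_appLE (f := p) V.1 V.2 (p ⁻¹ᵁ V.1) hW le_rfl hxW
    refine Eq.trans h4 ?_
    apply V.2.fromSpec.isOpenEmbedding.injective
    rw [V.2.fromSpec_primeIdealOf]
    exact hx
  exact ringHom_formallyUnramified_of_comp _ _ h2 h3 h1

end Groth.Agent.Lib.Helper28.EtSrcDescent
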