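import Groth.Agent.Lib.Helper28.SecVAF
import Groth.Agent.Lib.Helper28.AmpleH1A
import Groth.Agent.Lib.Helper17.TensorQC

/-!
# Immersions into `P(F ⊗ F')` attached to a pair `F → q_* N`, `F' → q_* N'` (Segre-type criterion)
-/

set_option autoImplicit false
universe u
open CategoryTheory CategoryTheory.Limits AlgebraicGeometry TopologicalSpace Opposite
open scoped HomogeneousIdeal
noncomputable section

namespace Groth.Agent.Lib.Helper28.ExtTensorVA

open Groth.Agent.Lib.Helper28 Groth.Agent.Lib.Helper28.QCohLoc Groth.Agent.Lib.Helper28.TraceAlg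
open Groth.Agent.Lib.Helper28.GenLocus Groth.Agent.Lib.Helper28.AmpleCompose
open Groth.Agent.Lib.Helper28.TensorGen Groth.Agent.Lib.Helper28.InvTensor
open Groth.Agent.Lib.Helper28.AmpleLocal Groth.Agent.Lib.Helper28.PullbackInv

section gen

variable {X : Scheme.{u}}

/-- a tensor product of two sections generates exactly where both factors do -/
theorem secGenAt_tmulSec_both_iff {N N' : X.Modules} (hN : PicF.IsInvertible N) (hN' : PicF.IsInvertible N')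
    {U : X.Opens} (ξ : Γ(N, U)) (ξ' : Γ(N', U)) (y : X) (hy : y ∈ U) :
    SecGenAt (CohB1.tensorMod N N') U (tmulSec N N' ξ ξ') y ↔ SecGenAt N U ξ y ∧ SecGenAt N' U ξ' y := by
  obtain ⟨W₀, g₀, hyW₀, hg₀⟩ := exists_isGen N hN y
  obtain ⟨W₁, g₁, hyW₁, hg₁⟩ := exists_isGen N' hN' y
  have hW : W₀ ⊓ W₁ ⊓ U ≤ U := inf_le_right
  have hyW : y ∈ W₀ ⊓ W₁ ⊓ U := ⟨⟨hyW₀, hyW₁⟩, hy⟩
  let g : Γ(N, W₀ ⊓ W₁ ⊓ U) := res N (inf_le_left.trans inf_le_left) g₀
  have hg : IsGen N (W₀ ⊓ W₁ ⊓ U) g := hg₀.res _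
  let g' : Γ(N', W₀ ⊓ W₁ ⊓ U) := res N' (inf_le_left.trans inf_le_right) g₁
  have hg' : IsGen N' (W₀ ⊓ W₁ ⊓ U) g' := hg₁.res _
  let r : Γ(X, W₀ ⊓ W₁ ⊓ U) := hg.coef le_rfl (res N hW ξ)
  have hr : res N hW ξ = (r • g : Γ(N, W₀ ⊓ W₁ ⊓ U)) := by
    have := hg.coef_smul le_rfl (res N hW ξ)
    rw [res_self] at this
    exact this.symm
  let r' : Γ(X, W₀ ⊓ W₁ ⊓ U) := hg'.coef le_rfl (res N' hW ξ')
  have hr' : res N' hW ξ' = (r' • g' : Γ(N', W₀ ⊓ W₁ ⊓ U)) := by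
    have := hg'.coef_smul le_rfl (res N' hW ξ')
    rw [res_self] at this
    exact this.symm
  have hgt : IsGen (CohB1.tensorMod N N') (W₀ ⊓ W₁ ⊓ U) (tmulSec N N' g g') := isGen_tmulSec N N' hg hg'
  have hrt : res (CohB1.tensorMod N N') hW (tmulSec N N' ξ ξ') =
      ((r * r') • tmulSec N N' g g' : Γ(CohB1.tensorMod N N', W₀ ⊓ W₁ ⊓ U)) := by
    rw [tmulSec_res, hr, hr', tmulSec_smul_smul]
  rw [secGenAt_iff_of_chart (tmulSec N N' ξ ξ') hW hgt (r * r') hrt y hyW, secGenAt_iff_of_chart ξ hW hg r hr y hyW,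
    secGenAt_iff_of_chart ξ' hW hg' r' hr' y hyW, X.basicOpen_mul]
  rfl

end gen

section push

variable {Y X : Scheme.{u}} (q : X ⟶ Y) {N N' : X.Modules} {F F' : Y.Modules}
  (ψ : F ⟶ (Scheme.Modules.pushforward q).obj N) (ψ' : F' ⟶ (Scheme.Modules.pushforward q).obj N')

/-- the section of `N` over `q⁻¹ U` attached to a section of `F` over `U` -/
abbrev sec (U : Y.Opens) (x : Γ(F, U)) : Γ(N, q ⁻¹ᵁ U) := SecVAF.sec q ψ U x

theorem sec_add (U : Y.Opens) (x y : Γ(F, U)) : sec q ψ U (x + y) = sec q ψ U x + sec q ψ U y :=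
  map_add (ψ.app U).hom x y

theorem sec_smul (U : Y.Opens) (a : Γ(Y, U)) (x : Γ(F, U)) :
    sec q ψ U (a • x) = ((q.app U a) • sec q ψ U x : Γ(N, q ⁻¹ᵁ U)) := by
  show ψ.app U (a • x) = _
  rw [Scheme.Modules.Hom.app_smul]
  rfl

theorem sec_res {U U' : Y.Opens} (h : U' ≤ U) (x : Γ(F, U)) :
    sec q ψ U' (res F h x) = res N (q.preimage_mono h) (sec q ψ U x) := by
  show ψ.app U' (res F h x) = _
  rw [app_res]
  rfl

/-- `ψ ⊗ ψ' : F ⊗ F' → q_*(N ⊗ N')` -/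
def tensorPush : CohB1.tensorMod F F' ⟶ (Scheme.Modules.pushforward q).obj (CohB1.tensorMod N N') :=
  TensorIso.lift _ _ (TensorIso.tensorDesc F F' ((Scheme.Modules.pushforward q).obj (CohB1.tensorMod N N'))
    (fun W a b => (show Γ((Scheme.Modules.pushforward q).obj (CohB1.tensorMod N N'), W) from
      tmulSec N N' (sec q ψ W a) (sec q ψ' W b)))
    (fun W m m' n => by
      show tmulSec N N' (sec q ψ W (m + m')) (sec q ψ' W n) = _
      rw [sec_add, tmulSec_add_left]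
      rfl)
    (fun W m n n' => by
      show tmulSec N N' (sec q ψ W m) (sec q ψ' W (n + n')) = _
      rw [sec_add, tmulSec_add_right]
      rfl)
    (fun W a m n => by
      show tmulSec N N' (sec q ψ W (a • m)) (sec q ψ' W n) = _
      rw [sec_smul, tmulSec_smul_left]
      rfl)
    (fun W a m n => by
      show tmulSec N N' (sec q ψ W m) (sec q ψ' W (a • n)) = _
      rw [sec_smul, tmulSec_smul_right]
      rfl)
    (fun W W' h m n => by
      show tmulSec N N' (sec q ψ W' (res F h m)) (sec q ψ' W' (res F' h n)) = _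
      rw [sec_res, sec_res, ← tmulSec_res]
      rfl))

theorem tensorPush_tmulSec (W : Y.Opens) (a : Γ(F, W)) (b : Γ(F', W)) :
    sec q (tensorPush q ψ ψ') W (tmulSec F F' a b) = tmulSec N N' (sec q ψ W a) (sec q ψ' W b) := by
  unfold tensorPush tmulSec ηT
  exact AmpleH1.lift_app_unit _ _ _ W (ptmul F F' a b)

end push

section cast

variable {Y X : Scheme.{u}} {q q' : X ⟶ Y} {N : X.Modules} {F : Y.Modules}

/-- transport of a homomorphism into a direct image along an equality of morphisms -/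
def castPush (h : q' = q) (ψ : F ⟶ (Scheme.Modules.pushforward q').obj N) :
    F ⟶ (Scheme.Modules.pushforward q).obj N := h ▸ ψ

theorem preimage_le_of_eq (h : q' = q) (U : Y.Opens) : q ⁻¹ᵁ U ≤ q' ⁻¹ᵁ U := by
  subst h
  exact le_rfl

theorem castPush_sec (h : q' = q) (ψ : F ⟶ (Scheme.Modules.pushforward q').obj N) (U : Y.Opens) (x : Γ(F, U)) :
    sec q (castPush h ψ) U x = res N (preimage_le_of_eq h U) (sec q' ψ U x) := by
  subst h
  rw [res_self]
  rfl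

end cast

section main

variable {Y X P : Scheme.{u}} {q : X ⟶ Y} {N N' : X.Modules} {F F' : Y.Modules}
  [F.IsQuasicoherent] [F'.IsQuasicoherent]
  (ψ : F ⟶ (Scheme.Modules.pushforward q).obj N) (ψ' : F' ⟶ (Scheme.Modules.pushforward q).obj N')
  {𝒜 : RelProj.QCGrAlg Y} {jA : CohB1.tensorMod F F' ⟶ 𝒜.toModule}
  (h𝒜 : RelProj.IsGrSymAlg (CohB1.tensorMod F F') 𝒜 jA)
  (p : P ⟶ Y) (chart : ∀ (U : Y.Opens) (hU : IsAffineOpen U), (((p ⁻¹ᵁ U : P.Opens) : Scheme.{u}) ≅ Proj (𝒜.deg U hU)))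
  (hP : RelProj.IsRelProj 𝒜 p chart)
  {O1 : P.Modules}
  {lam : ∀ (U : Y.Opens) (hU : IsAffineOpen U),
    O1 ⟶ (Scheme.Modules.pushforward (RelProj.emb p chart U hU)).obj (GrTwist.twist (𝒜.deg U hU) 1)}
  (hO : RelProj.IsRelTwist 𝒜 p chart 1 O1 lam)

include h𝒜 hP hO in
/-- **Segre-type criterion**: pairs of sections `e_a`, `e'_a` of `F`, `F'` over affine opens `V_a` whose images generate
`N`, `N'` exactly on affine opens `D_a` covering `X`, the functions on `D_a` being generated over `Γ(V_a)` by ratios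
`ψ(t)/ψ(e_a)` and `ψ'(t')/ψ'(e'_a)`, give an immersion `X → P(F ⊗ F')` with `N ⊗ N' ≅ i^* O(1)`. -/
theorem exists_immersion_of_pair (hN : PicF.IsInvertible N) (hN' : PicF.IsInvertible N')
    {A : Type u} (V : A → Y.Opens) (hV : ∀ a, IsAffineOpen (V a)) (D : A → X.Opens) (hD : ∀ a, IsAffineOpen (D a))
    (hDV : ∀ a, D a ≤ q ⁻¹ᵁ V a) (hcov : ∀ x : X, ∃ a, x ∈ D a)
    (e : ∀ a, Γ(F, V a)) (e' : ∀ a, Γ(F', V a))
    (hgen : ∀ a, IsGen N (D a) (res N (hDV a) (sec q ψ (V a) (e a))))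
    (hgen' : ∀ a, IsGen N' (D a) (res N' (hDV a) (sec q ψ' (V a) (e' a))))
    (hmax : ∀ a (x : X), x ∈ q ⁻¹ᵁ V a → SecGenAt N (q ⁻¹ᵁ V a) (sec q ψ (V a) (e a)) x →
      SecGenAt N' (q ⁻¹ᵁ V a) (sec q ψ' (V a) (e' a)) x → x ∈ D a)
    (G : ∀ a, Set Γ(X, D a))
    (hG : ∀ a, @Algebra.adjoin Γ(Y, V a) Γ(X, D a) _ _ (q.appLE (V a) (D a) (hDV a)).hom.toAlgebra (G a) = ⊤)
    (hrat : ∀ a, ∀ g ∈ G a,
      (∃ t : Γ(F, V a), res N (hDV a) (sec q ψ (V a) t) = (g • res N (hDV a) (sec q ψ (V a) (e a)) : Γ(N, D a))) ∨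
      (∃ t' : Γ(F', V a),
        res N' (hDV a) (sec q ψ' (V a) t') = (g • res N' (hDV a) (sec q ψ' (V a) (e' a)) : Γ(N', D a)))) :
    ∃ i : X ⟶ P, IsImmersion i ∧ i ≫ p = q ∧
      Nonempty (CohB1.tensorMod N N' ≅ (Scheme.Modules.pullback i).obj O1) := by
  have hT : ∀ (W : Y.Opens) (a : Γ(F, W)) (b : Γ(F', W)),
      SecVAF.sec q (tensorPush q ψ ψ') W (tmulSec F F' a b) = tmulSec N N' (sec q ψ W a) (sec q ψ' W b) :=
    fun W a b => tensorPush_tmulSec q ψ ψ' W a b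
  refine SecVAF.exists_immersion_of_sections q (tensorPush q ψ ψ') h𝒜 p chart hP hO
    (isInvertible_tensorMod hN hN') V hV D hD hDV hcov (fun a => tmulSec F F' (e a) (e' a))
    (fun a => ?_) (fun a x hx hgx => ?_) G hG (fun a g hg => ?_)
  · rw [hT, tmulSec_res]
    exact isGen_tmulSec N N' (hgen a) (hgen' a)
  · rw [hT] at hgx
    obtain ⟨h1, h2⟩ := (secGenAt_tmulSec_both_iff hN hN' _ _ x hx).1 hgx
    exact hmax a x hx h1 h2
  · rcases hrat a g hg with ⟨t, ht⟩ | ⟨t', ht'⟩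
    · refine ⟨tmulSec F F' t (e' a), ?_⟩
      rw [hT, hT, tmulSec_res, tmulSec_res, ht, tmulSec_smul_left]
    · refine ⟨tmulSec F F' (e a) t', ?_⟩
      rw [hT, hT, tmulSec_res, tmulSec_res, ht', tmulSec_smul_right]

end main

end Groth.Agent.Lib.Helper28.ExtTensorVA
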