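import Groth.Agent.Lib.Helper28.SymAlgQHom
import Groth.Agent.Lib.Helper28.SymAlgGraded
import Groth.Agent.Lib.Helper28.RelProjQ

set_option autoImplicit false
universe u
open CategoryTheory CategoryTheory.Limits AlgebraicGeometry Opposite TopologicalSpace
noncomputable section

namespace Groth.Agent.Lib.Helper28.SymAlg

open Groth.Agent.Lib.Helper28 Groth.Agent.Lib.Helper28.QCohLoc Groth.Agent.Lib.Helper28.TraceAlg
open Groth.Agent.Lib.Helper28.PullbackInv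

attribute [local instance] algAt

variable {Y Y' : Scheme.{u}} (ψ : Y' ⟶ Y) {E : Y.Modules} [E.IsQuasicoherent]
  {𝒮 : RelProj.QCGrAlg Y} {j : E ⟶ 𝒮.toModule} (hj : RelProj.IsGrSymAlg E 𝒮 j)
  {𝒮' : RelProj.QCGrAlg Y'} {j' : (Scheme.Modules.pullback ψ).obj E ⟶ 𝒮'.toModule}
  (hj' : RelProj.IsGrSymAlg ((Scheme.Modules.pullback ψ).obj E) 𝒮' j')

/-- the map `E ⟶ ψ_* Sym(ψ^* E)` adjoint to `j'` -/
def phiAdj (j' : (Scheme.Modules.pullback ψ).obj E ⟶ 𝒮'.toModule) :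
    E ⟶ (Scheme.Modules.pushforward ψ).obj 𝒮'.toModule :=
  (Scheme.Modules.pullbackPushforwardAdjunction ψ).unit.app E ≫ (Scheme.Modules.pushforward ψ).map j'

omit [E.IsQuasicoherent] in
theorem phiR_adj (U : Y.Opens) (m : Γ(E, U)) :
    phiR ψ 𝒮'.toQCAlg (phiAdj ψ j') U m = asR 𝒮'.toQCAlg (j'.app (ψ ⁻¹ᵁ U) (pbs ψ E U m)) := rfl

/-- the graded `ψ`-morphism `Sym(E) → Sym(ψ^* E)` -/
def grQHom : RelProj.QGrHom ψ 𝒮 𝒮' where
  toQHom := symQHom ψ hj.1 𝒮'.toQCAlg (phiAdj ψ j')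
  map_mem U hU U' hU' hle d x hx := by
    refine map_mem_of_gens hj U hU (𝒮'.deg U' hU')
      ((𝒮'.presheaf.map (homOfLE hle).op).hom.comp ((symQHom ψ hj.1 𝒮'.toQCAlg (phiAdj ψ j')).app U).hom)
      (fun a => ?_) (fun m => ?_) hx
    · show (𝒮'.presheaf.map (homOfLE hle).op).hom
        (((symQHom ψ hj.1 𝒮'.toQCAlg (phiAdj ψ j')).app U).hom ((𝒮.str.app (op U)).hom a)) ∈ _
      have h1 := congrArg (fun χ => χ.hom a) ((symQHom ψ hj.1 𝒮'.toQCAlg (phiAdj ψ j')).str_app U)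
      have h2 : ((symQHom ψ hj.1 𝒮'.toQCAlg (phiAdj ψ j')).app U).hom ((𝒮.str.app (op U)).hom a) =
          (𝒮'.str.app (op (ψ ⁻¹ᵁ U))).hom ((ψ.app U).hom a) := h1
      rw [h2, ← str_res 𝒮'.toQCAlg hle]
      exact 𝒮'.str_mem U' hU' _
    · show (𝒮'.presheaf.map (homOfLE hle).op).hom
        (((symQHom ψ hj.1 𝒮'.toQCAlg (phiAdj ψ j')).app U).hom (asR 𝒮.toQCAlg (j.app U m))) ∈ _
      rw [symQHom_j ψ hj.1 𝒮'.toQCAlg (phiAdj ψ j') U hU m, phiR_adj]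
      have h3 : (𝒮'.presheaf.map (homOfLE hle).op).hom (asR 𝒮'.toQCAlg (j'.app (ψ ⁻¹ᵁ U) (pbs ψ E U m))) =
          asR 𝒮'.toQCAlg (j'.app U' (res _ hle (pbs ψ E U m))) := by
        rw [app_res]
        rfl
      rw [h3]
      exact hj'.2 U' hU' _

theorem isQBaseChange_grQHom : RelSpec.IsQBaseChange (grQHom ψ hj hj').toQHom :=
  isQBaseChange_sym_aff ψ hj.1 hj'.1 _ (fun U hU x =>
    (symQHom_j ψ hj.1 𝒮'.toQCAlg (phiAdj ψ j') U hU x).trans (phiR_adj ψ U x))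

include hj hj' in
/-- **`P(ψ^* E) = P(E) ×_Y Y'`** -/
theorem exists_isPullback_projBundle {P P' : Scheme.{u}} (p : P ⟶ Y)
    (chart : ∀ (U : Y.Opens) (hU : IsAffineOpen U), ((p ⁻¹ᵁ U : P.Opens) : Scheme.{u}) ≅ Proj (𝒮.deg U hU))
    (hP : RelProj.IsRelProj 𝒮 p chart) (p' : P' ⟶ Y')
    (chart' : ∀ (U' : Y'.Opens) (hU' : IsAffineOpen U'), ((p' ⁻¹ᵁ U' : P'.Opens) : Scheme.{u}) ≅ Proj (𝒮'.deg U' hU'))
    (hP' : RelProj.IsRelProj 𝒮' p' chart') :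
    ∃ g : P' ⟶ P, IsPullback g p' p ψ := by
  obtain ⟨h, hh⟩ := Groth.Agent.Lib.Helper28.RelProjQ.exists_isProjQMap (grQHom ψ hj hj') p chart hP p' chart' hP'
    (isQBaseChange_grQHom ψ hj hj')
  exact ⟨h, Groth.Agent.Lib.Helper28.RelProjQ.isPullback_of_isProjQMap (grQHom ψ hj hj') p chart hP p' chart' hP'
    (isQBaseChange_grQHom ψ hj hj') h hh⟩

end Groth.Agent.Lib.Helper28.SymAlg
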