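import Groth.Agent.Lib.Helper28.RLPsiU5
import Groth.Agent.Lib.Helper28.VAGenDegOne
import Groth.Agent.Lib.Helper28.SymAlgProjBC

/-!
# Finite type approximation of `r_{L,ψ}`: morphisms of symmetric algebras (part 1)
-/

set_option autoImplicit false
universe u
open CategoryTheory CategoryTheory.Limits AlgebraicGeometry Opposite TopologicalSpace
noncomputable section

namespace Groth.Agent.Lib.Helper28.FTApprox

open Groth.Agent.Lib.Helper28 Groth.Agent.Lib.Helper28.QCohLoc Groth.Agent.Lib.Helper28.TraceAlg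
open Groth.Agent.Lib.Helper28.SymAlg

section qhomext

variable {S S' : Scheme.{u}} {g : S' ⟶ S} {A : RelSpec.QCAlg S} {B : RelSpec.QCAlg S'}

/-- the value of a `g`-morphism on a section is determined over the affine opens -/
theorem qhom_app_eq_of_affine (v : RelSpec.QHom g A B) (U : S.Opens) (x : A.presheaf.obj (op U))
    (y : B.presheaf.obj (op (g ⁻¹ᵁ U)))
    (h : ∀ (V : S.Opens) (_ : IsAffineOpen V) (hVU : V ≤ U),
      (v.app V).hom ((A.presheaf.map (homOfLE hVU).op).hom x) =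
        (B.presheaf.map (homOfLE (g.preimage_mono hVU)).op).hom y) :
    (v.app U).hom x = y := by
  refine TopCat.Sheaf.eq_of_locally_eq' (⟨B.presheaf, B.isSheaf⟩ : TopCat.Sheaf CommRingCat S')
    (fun i : {V : S.Opens // IsAffineOpen V ∧ V ≤ U} => g ⁻¹ᵁ i.1) (g ⁻¹ᵁ U)
    (fun i => homOfLE (g.preimage_mono i.2.2)) ?_ _ _ (fun i => ?_)
  · intro z hz
    have hz' : g z ∈ U := hz
    obtain ⟨_, ⟨V, hV, rfl⟩, hzV, hVU⟩ := S.isBasis_affineOpens.exists_subset_of_mem_open hz' U.isOpen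
    exact Opens.mem_iSup.2 ⟨⟨V, hV, hVU⟩, hzV⟩
  · have n1 := congrArg (fun k => k.hom x) (v.naturality i.2.2)
    exact n1.trans (h i.1 i.2.1 i.2.2)

theorem qhom_app_eq_of_affine' (v₁ v₂ : RelSpec.QHom g A B)
    (h : ∀ (V : S.Opens), IsAffineOpen V → v₁.app V = v₂.app V) (U : S.Opens) :
    v₁.app U = v₂.app U := by
  apply CommRingCat.hom_ext
  refine RingHom.ext fun x => ?_
  refine qhom_app_eq_of_affine v₁ U x _ (fun V hV hVU => ?_)
  rw [h V hV]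
  exact (congrArg (fun k => k.hom x) (v₂.naturality hVU)).symm

end qhomext

section precomp

variable {Y X : Scheme.{u}} {q : X ⟶ Y} {𝒮 𝒮' : RelProj.QCGrAlg Y} {𝒮L : RelProj.QCGrAlg X}

/-- a graded `q`-morphism composed with a graded homomorphism on the base -/
def precomp (v : RelProj.QGrHom q 𝒮 𝒮L) (φ : 𝒮'.toQCAlg ⟶ 𝒮.toQCAlg) (hφ : RelProj.IsGradedHom φ) :
    RelProj.QGrHom q 𝒮' 𝒮L where
  app U := φ.hom.app (op U) ≫ v.app U
  naturality {U V} i := by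
    rw [Category.assoc, v.naturality i, ← Category.assoc, ← Category.assoc]
    congr 1
    exact (φ.hom.naturality (homOfLE i).op).symm
  str_app U := by
    have h1 : 𝒮'.str.app (op U) ≫ φ.hom.app (op U) = 𝒮.str.app (op U) := NatTrans.congr_app φ.comm (op U)
    rw [← Category.assoc, h1]
    exact v.str_app U
  map_mem U hU U' hU' hle _ _ hx := v.map_mem U hU U' hU' hle (hφ U hU _ _ hx)

theorem precomp_app (v : RelProj.QGrHom q 𝒮 𝒮L) (φ : 𝒮'.toQCAlg ⟶ 𝒮.toQCAlg) (hφ : RelProj.IsGradedHom φ)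
    (U : Y.Opens) : (precomp v φ hφ).app U = φ.hom.app (op U) ≫ v.app U := rfl

end precomp

section symhom

variable {Y : Scheme.{u}} {E F : Y.Modules} [E.IsQuasicoherent]
  {𝒯' : RelProj.QCGrAlg Y} {jE : E ⟶ 𝒯'.toModule} (hE : RelProj.IsGrSymAlg E 𝒯' jE)
  {𝒯 : RelProj.QCGrAlg Y} {jF : F ⟶ 𝒯.toModule} (hF : RelProj.IsGrSymAlg F 𝒯 jF)
  (ι : E ⟶ F)

include hE hF in
/-- `Sym(ι) : Sym(E) → Sym(F)` -/
theorem exists_symHom : ∃ φ : 𝒯'.toQCAlg ⟶ 𝒯.toQCAlg, RelProj.IsGradedHom φ ∧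
    ∀ (U : Y.Opens) (x : Γ(E, U)), (φ.hom.app (op U)).hom ((jE.app U) x) = (jF.app U) ((ι.app U) x) := by
  obtain ⟨φ, hφ, -⟩ := hE.1 𝒯.toQCAlg (ι ≫ jF)
  refine ⟨φ, VAGenDegOne.isGradedHom_ubar 𝒯 (ι ≫ jF) (fun U hU x => hF.2 U hU _) hE φ hφ, fun U x => ?_⟩
  exact Groth.Agent.S8292.hju_app 𝒯 𝒯' E (ι ≫ jF) jE φ hφ U x

variable {X : Scheme.{u}} {q : X ⟶ Y} {𝒮L : RelProj.QCGrAlg X}

include hE in
/-- a `q`-morphism out of `Sym(E)` is determined by its values on `E` -/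
theorem qgrhom_app_eq (v₁ v₂ : RelProj.QGrHom q 𝒯' 𝒮L)
    (h : ∀ (U : Y.Opens) (x : Γ(E, U)), (v₁.app U).hom ((jE.app U) x) = (v₂.app U).hom ((jE.app U) x))
    (U : Y.Opens) : v₁.app U = v₂.app U := by
  refine qhom_app_eq_of_affine' v₁.toQHom v₂.toQHom (fun V hV => ?_) U
  apply CommRingCat.hom_ext
  refine ringHom_ext_sec hE.1 V hV _ _ (fun a => ?_) (fun m => h V m)
  have h1 := congrArg (fun k => k.hom a) (v₁.str_app V)
  have h2 := congrArg (fun k => k.hom a) (v₂.str_app V)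
  exact h1.trans h2.symm

end symhom

section symqgr

variable {Y X : Scheme.{u}} (q : X ⟶ Y) {E : Y.Modules} [E.IsQuasicoherent]
  {𝒯 : RelProj.QCGrAlg Y} {jE : E ⟶ 𝒯.toModule} (hE : RelProj.IsGrSymAlg E 𝒯 jE)
  (𝒮L : RelProj.QCGrAlg X) (φ : E ⟶ (Scheme.Modules.pushforward q).obj 𝒮L.toModule)
  (hφ1 : ∀ (U : Y.Opens) (m : Γ(E, U)) (U' : X.Opens) (hU' : IsAffineOpen U') (hle : U' ≤ q ⁻¹ᵁ U),
    (𝒮L.presheaf.map (homOfLE hle).op).hom (phiR q 𝒮L.toQCAlg φ U m) ∈ 𝒮L.deg U' hU' 1)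

/-- the graded `q`-morphism `Sym(E) → q_* 𝒮L` extending `φ : E → q_* 𝒮L` with values in degree one -/
def symQGr : RelProj.QGrHom q 𝒯 𝒮L where
  toQHom := symQHom q hE.1 𝒮L.toQCAlg φ
  map_mem U hU U' hU' hle d x hx := by
    refine map_mem_of_gens hE U hU (𝒮L.deg U' hU')
      ((𝒮L.presheaf.map (homOfLE hle).op).hom.comp ((symQHom q hE.1 𝒮L.toQCAlg φ).app U).hom)
      (fun a => ?_) (fun m => ?_) hx
    · show (𝒮L.presheaf.map (homOfLE hle).op).hom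
        (((symQHom q hE.1 𝒮L.toQCAlg φ).app U).hom ((𝒯.str.app (op U)).hom a)) ∈ _
      have h1 := congrArg (fun χ => χ.hom a) ((symQHom q hE.1 𝒮L.toQCAlg φ).str_app U)
      have h2 : ((symQHom q hE.1 𝒮L.toQCAlg φ).app U).hom ((𝒯.str.app (op U)).hom a) =
          (𝒮L.str.app (op (q ⁻¹ᵁ U))).hom ((q.app U).hom a) := h1
      rw [h2, ← str_res 𝒮L.toQCAlg hle]
      exact 𝒮L.str_mem U' hU' _
    · show (𝒮L.presheaf.map (homOfLE hle).op).hom
        (((symQHom q hE.1 𝒮L.toQCAlg φ).app U).hom (asR 𝒯.toQCAlg (jE.app U m))) ∈ _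
      rw [symQHom_j q hE.1 𝒮L.toQCAlg φ U hU m]
      exact hφ1 U m U' hU' hle

/-- on the sections of `E` over any open, `symQGr` is `φ` -/
theorem symQGr_j (U : Y.Opens) (m : Γ(E, U)) :
    ((symQGr q hE 𝒮L φ hφ1).app U).hom ((jE.app U) m) = phiR q 𝒮L.toQCAlg φ U m := by
  refine qhom_app_eq_of_affine (symQGr q hE 𝒮L φ hφ1).toQHom U _ _ (fun V hV hVU => ?_)
  have h1 : (𝒯.presheaf.map (homOfLE hVU).op).hom ((jE.app U) m) = asR 𝒯.toQCAlg (jE.app V (res E hVU m)) := by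
    rw [app_res]
    rfl
  rw [h1]
  have h2 := symQHom_j q hE.1 𝒮L.toQCAlg φ V hV (res E hVU m)
  exact h2.trans (phiR_res q 𝒮L.toQCAlg φ hVU m)

end symqgr

end Groth.Agent.Lib.Helper28.FTApprox
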