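import Groth.Agent.Lib.Helper28.FTApprox1

/-!
# Finite type approximation of `r_{L,ψ}`: finite witnesses for good families (part 2)
-/

set_option autoImplicit false
universe u
open CategoryTheory CategoryTheory.Limits AlgebraicGeometry Opposite TopologicalSpace
noncomputable section

namespace Groth.Agent.Lib.Helper28.FTApprox

open Groth.Agent.Lib.Helper28
open Groth.Agent.Lib.Helper28.RLPsi Groth.Agent.Lib.Helper28.RLPsiU

section witness

variable {Y X : Scheme.{u}} {q : X ⟶ Y} {𝒮 : RelProj.QCGrAlg Y} {𝒮L : RelProj.QCGrAlg X}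
  (u : RelProj.QGrHom q 𝒮 𝒮L)

/-- finitely many homogeneous sections witness condition (iii), for `q` locally of finite type -/
theorem exists_cond3_witness [LocallyOfFiniteType q] {U : Y.Opens} (hU : IsAffineOpen U) {n : ℕ}
    (s : 𝒮.presheaf.obj (op U)) (hs : s ∈ 𝒮.deg U hU n) (hV : IsAffineOpen (XTU u U n s))
    (h3 : Cond3U u hU n s) :
    ∃ (K : Type u) (_ : Finite K) (d : K → ℕ) (f : K → 𝒮.presheaf.obj (op U)),
      (∀ k, f k ∈ 𝒮.deg U hU (d k)) ∧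
      ∀ (𝒮' : RelProj.QCGrAlg Y) (φ : 𝒮'.toQCAlg ⟶ 𝒮.toQCAlg) (u' : RelProj.QGrHom q 𝒮' 𝒮L)
        (_ : ∀ U : Y.Opens, u'.app U = φ.hom.app (op U) ≫ u.app U),
        (∀ k, ∃ y : 𝒮'.presheaf.obj (op U), y ∈ 𝒮'.deg U hU (d k) ∧ (φ.hom.app (op U)).hom y = f k) →
        ∃ y : 𝒮'.presheaf.obj (op U), y ∈ 𝒮'.deg U hU n ∧ (φ.hom.app (op U)).hom y = s ∧
          Cond3W u' hU n y (XTU u U n s) (XTU_le u n s) := by
  classical
  have hft : (q.appLE U (XTU u U n s) (XTU_le u n s)).hom.FiniteType :=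
    HasRingHomProperty.appLE @LocallyOfFiniteType q inferInstance ⟨U, hU⟩ ⟨XTU u U n s, hV⟩ (XTU_le u n s)
  obtain ⟨G, hG⟩ := @Algebra.FiniteType.out _ _ _ _ (q.appLE U (XTU u U n s) (XTU_le u n s)).hom.toAlgebra hft
  have hg : ∀ g : G, Good u hU n s (XTU u U n s) (XTU_le u n s) g.1 := fun g => h3 g.1
  choose m hm s' hs' heq using hg
  let d : Option G → ℕ := fun k => k.elim n (fun g => m g * n)
  let f : Option G → 𝒮.presheaf.obj (op U) := fun k => k.elim s (fun g => s' g)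
  have hf : ∀ k, f k ∈ 𝒮.deg U hU (d k) := by
    intro k
    cases k with
    | none => exact hs
    | some g => exact hs' g
  refine ⟨Option G, inferInstance, d, f, hf, ?_⟩
  intro 𝒮' φ u' hu H
  obtain ⟨y, hy, hys⟩ := H none
  have hys' : (φ.hom.app (op U)).hom y = s := hys
  refine ⟨y, hy, hys', ?_⟩
  refine cond3W_of_adjoin u' hU hy (XTU_le u n s) (G : Set _) hG ?_
  intro g hgG
  obtain ⟨y', hy', hy's⟩ := H (some ⟨g, hgG⟩)
  have hy's' : (φ.hom.app (op U)).hom y' = s' ⟨g, hgG⟩ := hy's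
  refine ⟨m ⟨g, hgG⟩, hm ⟨g, hgG⟩, y', hy', ?_⟩
  rw [tauU_push u u' φ hu, tauU_push u u' φ hu, hys', hy's']
  exact heq ⟨g, hgG⟩

/-- **a good family for `u` descends to `u ∘ φ` as soon as finitely many homogeneous sections lift along `φ`** -/
theorem exists_goodFamily_witness [LocallyOfFiniteType q] [CompactSpace X] {ι : Type u} (U : ι → Y.Opens)
    (hU : ∀ a, IsAffineOpen (U a)) (n : ι → ℕ) (s : ∀ a, 𝒮.presheaf.obj (op (U a)))
    (h : IsGoodFamily u U hU n s) :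
    ∃ (K : Type u) (_ : Finite K) (V : K → Y.Opens) (hV : ∀ k, IsAffineOpen (V k)) (d : K → ℕ)
      (f : ∀ k, 𝒮.presheaf.obj (op (V k))), (∀ k, f k ∈ 𝒮.deg (V k) (hV k) (d k)) ∧
      ∀ (𝒮' : RelProj.QCGrAlg Y) (φ : 𝒮'.toQCAlg ⟶ 𝒮.toQCAlg) (u' : RelProj.QGrHom q 𝒮' 𝒮L)
        (_ : ∀ U : Y.Opens, u'.app U = φ.hom.app (op U) ≫ u.app U),
        (∀ k, ∃ y : 𝒮'.presheaf.obj (op (V k)), y ∈ 𝒮'.deg (V k) (hV k) (d k) ∧
          (φ.hom.app (op (V k))).hom y = f k) →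
        ∃ (ι' : Type u) (U' : ι' → Y.Opens) (hU' : ∀ a, IsAffineOpen (U' a)) (n' : ι' → ℕ)
          (s' : ∀ a, 𝒮'.presheaf.obj (op (U' a))), IsGoodFamily u' U' hU' n' s' := by
  classical
  obtain ⟨hns, hcov, haff, h3⟩ := h
  obtain ⟨F, hF⟩ := isCompact_univ.elim_finite_subcover (fun a => ((XTU u (U a) (n a) (s a) : X.Opens) : Set X))
    (fun a => (XTU u (U a) (n a) (s a)).isOpen) (fun x _ => by
      have hx : x ∈ (⨆ a, XTU u (U a) (n a) (s a)) := by rw [hcov]; trivial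
      obtain ⟨a, ha⟩ := Opens.mem_iSup.1 hx
      exact Set.mem_iUnion.2 ⟨a, ha⟩)
  have h1 := fun a : F => exists_cond3_witness u (hU a.1) (s a.1) (hns a.1).2 (haff a.1) (h3 a.1)
  choose K hK d f hf hlift using h1
  have : ∀ a, Finite (K a) := hK
  refine ⟨Σ a : F, K a, inferInstance, fun k => U k.1.1, fun k => hU k.1.1, fun k => d k.1 k.2,
    fun k => f k.1 k.2, fun k => hf k.1 k.2, ?_⟩
  intro 𝒮' φ u' hu H
  have h2 := fun a : F => hlift a 𝒮' φ u' hu (fun k => H ⟨a, k⟩)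
  choose y hy hys hy3 using h2
  have hX : ∀ a : F, XTU u' (U a.1) (n a.1) (y a) = XTU u (U a.1) (n a.1) (s a.1) := by
    intro a
    rw [XTU_push u u' φ hu, hys a]
  refine ⟨F, fun a => U a.1, fun a => hU a.1, fun a => n a.1, y,
    fun a => ⟨(hns a.1).1, hy a⟩, ?_, fun a => ?_, fun a => ?_⟩
  · refine top_le_iff.1 fun x _ => ?_
    obtain ⟨a, haF, hxa⟩ : ∃ a, a ∈ F ∧ x ∈ XTU u (U a) (n a) (s a) := by
      have := hF (Set.mem_univ x)
      simp only [Set.mem_iUnion] at this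
      obtain ⟨a, haF, hxa⟩ := this
      exact ⟨a, haF, hxa⟩
    refine Opens.mem_iSup.2 ⟨⟨a, haF⟩, ?_⟩
    rw [hX ⟨a, haF⟩]
    exact hxa
  · rw [hX a]
    exact haff a.1
  · exact cond3W_congr u' (hU a.1) (n a.1) (y a) (hX a).symm _ _ (hy3 a)

end witness

end Groth.Agent.Lib.Helper28.FTApprox
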