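import Groth.Agent.Lib.Helper28.FTApprox2
import Groth.Agent.Lib.Helper17.QCAlgGen
import Groth.Agent.Lib.Helper28.ModExact

/-!
# Finite type approximation of `r_{L,ψ}`: lifting sections of `Sym(F)` to `Sym(E)`, `E ⊆ F` of finite type (part 3)
-/

set_option autoImplicit false
universe u
open CategoryTheory CategoryTheory.Limits AlgebraicGeometry Opposite TopologicalSpace
noncomputable section

namespace Groth.Agent.Lib.Helper28.FTApprox

open Groth.Agent.Lib.Helper28 Groth.Agent.Lib.Helper28.QCohLoc Groth.Agent.Lib.Helper28.TraceAlg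
open Groth.Agent.Lib.Helper28.SymAlg

section symlift

variable {Y : Scheme.{u}} {F : Y.Modules} [F.IsQuasicoherent]
  {𝒯 : RelProj.QCGrAlg Y} {jF : F ⟶ 𝒯.toModule} (hF : RelProj.IsGrSymAlg F 𝒯 jF)
  {U : Y.Opens} (hU : IsAffineOpen U)

/-- the monomials of degree `d` in the sections of a finite set -/
def monoSetOn (𝒯 : RelProj.QCGrAlg Y) (jF : F ⟶ 𝒯.toModule) (U : Y.Opens) (M : Finset Γ(F, U)) (d : ℕ) :
    Set (𝒯.presheaf.obj (op U)) :=
  {x | ∃ (a : Γ(Y, U)) (l : List Γ(F, U)), l.length = d ∧ (∀ m ∈ l, m ∈ M) ∧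
    x = (𝒯.str.app (op U)).hom a * (l.map (fun m => asR 𝒯.toQCAlg (jF.app U m))).prod}

omit [F.IsQuasicoherent] in
theorem monoSetOn_mono {M M' : Finset Γ(F, U)} (h : M ⊆ M') (d : ℕ) :
    monoSetOn 𝒯 jF U M d ⊆ monoSetOn 𝒯 jF U M' d := by
  rintro x ⟨a, l, hl, hlM, rfl⟩
  exact ⟨a, l, hl, fun m hm => h (hlM m hm), rfl⟩

include hF hU in
/-- a homogeneous section of `Sym(F)` over an affine open involves finitely many sections of `F` -/
theorem exists_finset_of_mem_deg {d : ℕ} {f : 𝒯.presheaf.obj (op U)} (hf : f ∈ 𝒯.deg U hU d) :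
    ∃ M : Finset Γ(F, U), f ∈ AddSubgroup.closure (monoSetOn 𝒯 jF U M d) := by
  classical
  have hf' := deg_le_monoGrp hF U hU d hf
  refine AddSubgroup.closure_induction
    (p := fun x _ => ∃ M : Finset Γ(F, U), x ∈ AddSubgroup.closure (monoSetOn 𝒯 jF U M d))
    (fun x hx => ?_) ?_ (fun x x' _ _ hx hx' => ?_) (fun x _ hx => ?_) hf'
  · obtain ⟨a, l, hl, rfl⟩ := hx
    exact ⟨l.toFinset, AddSubgroup.subset_closure ⟨a, l, hl, fun m hm => List.mem_toFinset.2 hm, rfl⟩⟩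
  · exact ⟨∅, AddSubgroup.zero_mem _⟩
  · obtain ⟨M, hM⟩ := hx
    obtain ⟨M', hM'⟩ := hx'
    refine ⟨M ∪ M', AddSubgroup.add_mem _ ?_ ?_⟩
    · exact AddSubgroup.closure_mono (monoSetOn_mono Finset.subset_union_left d) hM
    · exact AddSubgroup.closure_mono (monoSetOn_mono Finset.subset_union_right d) hM'
  · obtain ⟨M, hM⟩ := hx
    exact ⟨M, AddSubgroup.neg_mem _ hM⟩

variable {E : Y.Modules} {𝒯' : RelProj.QCGrAlg Y} {jE : E ⟶ 𝒯'.toModule} (hE : RelProj.IsGrSymAlg E 𝒯' jE)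
  (ι : E ⟶ F) (φ : 𝒯'.toQCAlg ⟶ 𝒯.toQCAlg)
  (hφj : ∀ x : Γ(E, U), (φ.hom.app (op U)).hom ((jE.app U) x) = (jF.app U) ((ι.app U) x))

omit [F.IsQuasicoherent] in
include hE hφj hU in
/-- monomials in sections coming from `E` lift to `Sym(E)`, in the same degree -/
theorem exists_lift_of_mem_closure (M : Finset Γ(F, U)) (hM : ∀ m ∈ M, ∃ e : Γ(E, U), (ι.app U) e = m)
    {d : ℕ} {f : 𝒯.presheaf.obj (op U)} (hf : f ∈ AddSubgroup.closure (monoSetOn 𝒯 jF U M d)) :
    ∃ y : 𝒯'.presheaf.obj (op U), y ∈ 𝒯'.deg U hU d ∧ (φ.hom.app (op U)).hom y = f := by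
  classical
  refine AddSubgroup.closure_induction
    (p := fun x _ => ∃ y : 𝒯'.presheaf.obj (op U), y ∈ 𝒯'.deg U hU d ∧ (φ.hom.app (op U)).hom y = x)
    (fun x hx => ?_) ?_ (fun x x' _ _ hx hx' => ?_) (fun x _ hx => ?_) hf
  · obtain ⟨a, l, hl, hlM, rfl⟩ := hx
    have hl' : ∃ l' : List Γ(E, U), l'.map (fun e => (ι.app U) e) = l := by
      clear hl
      induction l with
      | nil => exact ⟨[], rfl⟩
      | cons m l ih =>
        obtain ⟨l', hl'⟩ := ih (fun m' hm' => hlM m' (List.mem_cons_of_mem _ hm'))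
        obtain ⟨e, he⟩ := hM m (hlM m List.mem_cons_self)
        exact ⟨e :: l', by rw [List.map_cons, he, hl']⟩
    obtain ⟨l', rfl⟩ := hl'
    refine ⟨(𝒯'.str.app (op U)).hom a * (l'.map (fun m => asR 𝒯'.toQCAlg (jE.app U m))).prod, ?_, ?_⟩
    · have h := SetLike.mul_mem_graded (𝒯'.str_mem U hU a) (list_prod_mem hE U hU l')
      rw [zero_add] at h
      rw [← hl, List.length_map]
      exact h
    · have h1 : (φ.hom.app (op U)).hom ((𝒯'.str.app (op U)).hom a) = (𝒯.str.app (op U)).hom a :=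
        congrArg (fun k => k.hom a) (NatTrans.congr_app φ.comm (op U))
      rw [map_mul, h1, map_list_prod, List.map_map, List.map_map]
      congr 2
      refine List.map_congr_left (fun e _ => ?_)
      exact hφj e
  · exact ⟨0, AddSubgroup.zero_mem _, map_zero _⟩
  · obtain ⟨y, hy, rfl⟩ := hx
    obtain ⟨y', hy', rfl⟩ := hx'
    exact ⟨y + y', AddSubgroup.add_mem _ hy hy', map_add _ _ _⟩
  · obtain ⟨y, hy, rfl⟩ := hx
    exact ⟨-y, AddSubgroup.neg_mem _ hy, map_neg _ _⟩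

end symlift

section ftsub

open Groth.Agent.Lib.Helper17.QCAlgGen

variable {Y : Scheme.{u}}

/-- on a quasi-compact quasi-separated scheme: a quasi-coherent submodule of finite type through finitely many
finite families of sections over affine opens -/
theorem exists_ft_sub_family [CompactSpace Y] [QuasiSeparatedSpace Y] (F : Y.Modules) [F.IsQuasicoherent]
    {K : Type u} [Finite K] (V : K → Y.Opens) (hV : ∀ k, IsAffineOpen (V k)) (M : ∀ k, Finset Γ(F, V k)) :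
    ∃ (E : Y.Modules) (ι : E ⟶ F), Mono ι ∧ E.IsQuasicoherent ∧
      SheafOfModules.IsFiniteType.{u} (R := Y.ringCatSheaf) E ∧
      ∀ k, ∀ m ∈ M k, ∃ e : Γ(E, V k), (ι.app (V k)) e = m := by
  classical
  have := Fintype.ofFinite K
  suffices H : ∀ T : Finset K, ∃ (E : Y.Modules) (ι : E ⟶ F), Mono ι ∧ E.IsQuasicoherent ∧
      SheafOfModules.IsFiniteType.{u} (R := Y.ringCatSheaf) E ∧
      ∀ k ∈ T, ∀ m ∈ M k, ∃ e : Γ(E, V k), (ι.app (V k)) e = m by
    obtain ⟨E, ι, h1, h2, h3, h4⟩ := H Finset.univ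
    exact ⟨E, ι, h1, h2, h3, fun k => h4 k (Finset.mem_univ k)⟩
  intro T
  induction T using Finset.induction_on with
  | empty =>
    obtain ⟨E, ι, h1, h2, h3, -⟩ := exists_sub_through F (isAffineOpen_bot Y) PEmpty.{u+1} (fun k => k.elim)
    exact ⟨E, ι, h1, h2, h3, fun k hk => absurd hk (Finset.notMem_empty k)⟩
  | insert k T hk ih =>
    obtain ⟨E₁, ι₁, h1, h2, h3, h4⟩ := ih
    obtain ⟨E₂, ι₂, g1, g2, g3, g4⟩ := exists_sub_through F (hV k) (↥(M k)) (fun m => m.1)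
    have := h2
    have := h3
    have := g2
    have := g3
    obtain ⟨E, ι, f1, f2, f3, f4, f5⟩ := exists_sum F ι₁ ι₂
    refine ⟨E, ι, f1, f2, f3, fun k' hk' m hm => ?_⟩
    rcases Finset.mem_insert.1 hk' with rfl | hk'
    · obtain ⟨e, he⟩ := g4 ⟨m, hm⟩
      obtain ⟨e', he'⟩ := f5 _ e
      exact ⟨e', he'.trans he⟩
    · obtain ⟨e, he⟩ := h4 k' hk' m hm
      obtain ⟨e', he'⟩ := f4 _ e
      exact ⟨e', he'.trans he⟩

end ftsub

end Groth.Agent.Lib.Helper28.FTApprox
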