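import Groth.Agent.Lib.Helper28.FTApprox3
import Groth.Agent.Lib.Helper28.ProjSymLine

/-!
# Finite type approximation of `r_{L,ψ}` for projective bundles (part 4)
-/

set_option autoImplicit false
universe u
open CategoryTheory CategoryTheory.Limits AlgebraicGeometry Opposite TopologicalSpace
open scoped HomogeneousIdeal
noncomputable section

namespace Groth.Agent.Lib.Helper28.FTApprox

open Groth.Agent.Lib.Helper28 Groth.Agent.Lib.Helper28.QCohLoc Groth.Agent.Lib.Helper28.TraceAlg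
open Groth.Agent.Lib.Helper28.SymAlg
open Groth.Agent.Lib.Helper28.RLPsi Groth.Agent.Lib.Helper28.RLPsiU
open Groth.Agent.Lib.Helper28.RelProjQ (mem_range_emb)

section degone

variable {Y X PL : Scheme.{u}} {q : X ⟶ Y} {L : X.Modules} [L.IsQuasicoherent]
  {𝒮L : RelProj.QCGrAlg X} {jL : L ⟶ 𝒮L.toModule} (hjL : RelProj.IsGrSymAlg L 𝒮L jL)
  {F : Y.Modules} [F.IsQuasicoherent]
  {𝒯 : RelProj.QCGrAlg Y} {jF : F ⟶ 𝒯.toModule} (hF : RelProj.IsGrSymAlg F 𝒯 jF)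
  (u : RelProj.QGrHom q 𝒯 𝒮L)
  (pL : PL ⟶ X)
  (chartL : ∀ (U : X.Opens) (hU : IsAffineOpen U), (((pL ⁻¹ᵁ U : PL.Opens) : Scheme.{u}) ≅ Proj (𝒮L.deg U hU)))
  (hPL : RelProj.IsRelProj 𝒮L pL chartL)
  {U : Y.Opens} (hU : IsAffineOpen U)

include hjL hF hPL hU in
/-- where a homogeneous section of positive degree of `Sym(F)` does not vanish, some section of `F` does not -/
theorem exists_deg_one_NVU (hL : PicF.IsInvertible L) {n : ℕ} (hn : 0 < n) (s : 𝒯.presheaf.obj (op U))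
    (hs : s ∈ 𝒯.deg U hU n) (x : X) (hx : NVU u U n s x) :
    ∃ e : Γ(F, U), NVU u U 1 (asR 𝒯.toQCAlg (jF.app U e)) x := by
  have hiso : IsIso pL := isIso_proj_symLine hL hjL pL chartL hPL
  have hxU : x ∈ q ⁻¹ᵁ U := by
    obtain ⟨V', hV', hVU, hxV', -⟩ := hx
    exact hVU hxV'
  obtain ⟨V, g, hxV, hV, hg, hVU⟩ := exists_isGen_affine_le hL x _ hxU
  obtain ⟨z, hz⟩ : ∃ z : PL, pL z = x := ⟨(inv pL) x, by
    have := congrArg (fun k : X ⟶ X => k x) (IsIso.inv_hom_id pL)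
    exact this⟩
  have hzV : pL z ∈ V := by rw [hz]; exact hxV
  obtain ⟨y, hy⟩ := (mem_range_emb pL chartL V hV z).2 hzV
  have hy2 : RelProj.emb pL chartL V hV y = z := hy
  have h2 := mem_basicOpen_tauU_iff hjL u pL chartL hPL hU hn s hs hV hVU hg y
  rw [hy2, hz] at h2
  have hys : tauU u U s V hVU ∉ y.asHomogeneousIdeal := (Proj.mem_basicOpen _ _ y).1 (h2.2 hx)
  suffices hex : ∃ e : Γ(F, U), tauU u U (asR 𝒯.toQCAlg (jF.app U e)) V hVU ∉ y.asHomogeneousIdeal by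
    obtain ⟨e, he⟩ := hex
    refine ⟨e, ?_⟩
    have h3 := mem_basicOpen_tauU_iff hjL u pL chartL hPL hU Nat.one_pos (asR 𝒯.toQCAlg (jF.app U e))
      (hF.2 U hU e) hV hVU hg y
    rw [hy2, hz] at h3
    exact h3.1 ((Proj.mem_basicOpen _ _ y).2 he)
  by_contra hcon
  push Not at hcon
  have hs' := deg_le_monoGrp hF U hU n hs
  apply hys
  show (u.appLE U V hVU).hom s ∈ y.asHomogeneousIdeal.toIdeal
  refine AddSubgroup.closure_induction (p := fun w _ => (u.appLE U V hVU).hom w ∈ y.asHomogeneousIdeal.toIdeal)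
    (fun w hw => ?_) ?_ (fun w w' _ _ hw hw' => ?_) (fun w _ hw => ?_) hs'
  · obtain ⟨a, l, hl, rfl⟩ := hw
    rw [map_mul]
    apply Ideal.mul_mem_left
    cases l with
    | nil => exact absurd hl (by simpa using hn.ne)
    | cons m l =>
      rw [List.map_cons, List.prod_cons, map_mul]
      exact Ideal.mul_mem_right _ _ (hcon m)
  · rw [map_zero]
    exact Ideal.zero_mem _
  · rw [map_add]
    exact Ideal.add_mem _ hw hw'
  · rw [map_neg]
    exact neg_mem hw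

end degone

section main

variable {Y X P PL : Scheme.{u}} {q : X ⟶ Y} {L : X.Modules} [L.IsQuasicoherent]
  {𝒮L : RelProj.QCGrAlg X} {jL : L ⟶ 𝒮L.toModule} (hjL : RelProj.IsGrSymAlg L 𝒮L jL)
  {F : Y.Modules} [F.IsQuasicoherent]
  {𝒯 : RelProj.QCGrAlg Y} {jF : F ⟶ 𝒯.toModule} (hF : RelProj.IsGrSymAlg F 𝒯 jF)
  (u : RelProj.QGrHom q 𝒯 𝒮L)
  (p : P ⟶ Y) (chart : ∀ (U : Y.Opens) (hU : IsAffineOpen U), (((p ⁻¹ᵁ U : P.Opens) : Scheme.{u}) ≅ Proj (𝒯.deg U hU)))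
  (hP : RelProj.IsRelProj 𝒯 p chart)
  (pL : PL ⟶ X)
  (chartL : ∀ (U : X.Opens) (hU : IsAffineOpen U), (((pL ⁻¹ᵁ U : PL.Opens) : Scheme.{u}) ≅ Proj (𝒮L.deg U hU)))
  (hPL : RelProj.IsRelProj 𝒮L pL chartL)
  (r : ((RelProj.domQ u pL chartL : PL.Opens) : Scheme.{u}) ⟶ P)
  (hr : RelProj.IsProjQMapOn u p chart pL chartL (RelProj.domQ u pL chartL) r)

omit [F.IsQuasicoherent] in
include hF in
/-- a `q`-morphism out of `Sym(E)` which is `u ∘ Sym(ι)` on `E` is `u ∘ Sym(ι)` -/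
theorem exists_symHom_factor {E : Y.Modules} [E.IsQuasicoherent] (ι : E ⟶ F)
    {𝒯' : RelProj.QCGrAlg Y} {jE : E ⟶ 𝒯'.toModule} (hE : RelProj.IsGrSymAlg E 𝒯' jE)
    (u' : RelProj.QGrHom q 𝒯' 𝒮L)
    (hu' : ∀ (U : Y.Opens) (x : Γ(E, U)),
      (u'.app U).hom ((jE.app U) x) = (u.app U).hom ((jF.app U) ((ι.app U) x))) :
    ∃ φ : 𝒯'.toQCAlg ⟶ 𝒯.toQCAlg, RelProj.IsGradedHom φ ∧
      (∀ (U : Y.Opens) (x : Γ(E, U)), (φ.hom.app (op U)).hom ((jE.app U) x) = (jF.app U) ((ι.app U) x)) ∧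
      ∀ U : Y.Opens, u'.app U = φ.hom.app (op U) ≫ u.app U := by
  obtain ⟨φ, hφ, hφj⟩ := exists_symHom hE hF ι
  refine ⟨φ, hφ, hφj, fun U => ?_⟩
  refine qgrhom_app_eq hE u' (precomp u φ hφ) (fun U x => ?_) U
  rw [hu' U x]
  show _ = (u.app U).hom ((φ.hom.app (op U)).hom ((jE.app U) x))
  rw [hφj U x]

include hjL hF hP hPL hr in
/-- **finite type approximation**: if `r_{L,ψ} : X → P(F)` is everywhere defined and an immersion, with `q` of
finite type over a quasi-compact quasi-separated base, there is a quasi-coherent submodule of finite type `E ⊆ F`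
such that `u ∘ Sym(E ⊆ F)` has a good family (hence `r` for `E` is everywhere defined and an immersion). -/
theorem exists_ft_approx [CompactSpace Y] [QuasiSeparatedSpace Y] [QuasiCompact q] [LocallyOfFiniteType q]
    (hL : PicF.IsInvertible L) (htop : RelProj.domQ u pL chartL = ⊤) (himm : IsImmersion r) :
    ∃ (E : Y.Modules) (ι : E ⟶ F), Mono ι ∧ E.IsQuasicoherent ∧
      SheafOfModules.IsFiniteType.{u} (R := Y.ringCatSheaf) E ∧
      ∀ (𝒯' : RelProj.QCGrAlg Y) (jE : E ⟶ 𝒯'.toModule) (_ : RelProj.IsGrSymAlg E 𝒯' jE)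
        (u' : RelProj.QGrHom q 𝒯' 𝒮L)
        (_ : ∀ (U : Y.Opens) (x : Γ(E, U)),
          (u'.app U).hom ((jE.app U) x) = (u.app U).hom ((jF.app U) ((ι.app U) x))),
        ∃ (ι' : Type u) (U' : ι' → Y.Opens) (hU' : ∀ a, IsAffineOpen (U' a)) (n' : ι' → ℕ)
          (s' : ∀ a, 𝒯'.presheaf.obj (op (U' a))), IsGoodFamily u' U' hU' n' s' := by
  classical
  have : CompactSpace X := QuasiCompact.compactSpace_of_compactSpace q
  obtain ⟨ι₀, U, hU, n, s, hfam⟩ := exists_family_of_immersion hjL u p chart hP pL chartL hPL r hr hL htop himm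
  obtain ⟨K, hK, V, hV, d, f, hf, hlift⟩ := exists_goodFamily_witness u U hU n s hfam
  have := hK
  have h4 := fun k => exists_finset_of_mem_deg hF (hV k) (hf k)
  choose M hM using h4
  obtain ⟨E, ι, hmono, hq, hft, hE4⟩ := exists_ft_sub_family F V hV M
  refine ⟨E, ι, hmono, hq, hft, ?_⟩
  intro 𝒯' jE hE u' hu'
  have := hq
  obtain ⟨φ, -, hφj, hu⟩ := exists_symHom_factor hF u ι hE u' hu'
  exact hlift 𝒯' φ u' hu
    (fun k => exists_lift_of_mem_closure (hV k) hE ι φ (hφj (V k)) (M k) (hE4 k) (hM k))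

end main

end Groth.Agent.Lib.Helper28.FTApprox
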