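import Groth.Agent.Lib.Helper28.FTApprox4
import Groth.Agent.Lib.Helper28.RelProjExists
import Groth.Agent.Lib.Helper28.SymGrAlg

/-!
# Finite type approximation of `r_{L,φ}` (EGA II 3.8.5 for projective bundles, 4.4.6, 4.4.7) (part 5)
-/

set_option autoImplicit false
universe u
open CategoryTheory CategoryTheory.Limits AlgebraicGeometry Opposite TopologicalSpace
open scoped HomogeneousIdeal
noncomputable section

namespace Groth.Agent.Lib.Helper28.FTApprox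

open Groth.Agent.Lib.Helper28 Groth.Agent.Lib.Helper28.QCohLoc Groth.Agent.Lib.Helper28.TraceAlg
open Groth.Agent.Lib.Helper28.SymAlg
open Groth.Agent.Lib.Helper28.RLPsi Groth.Agent.Lib.Helper28.RLPsiU

theorem qcqs_of_base {Y : Scheme.{u}} (hYs : (CompactSpace Y ∧ Y.IsSeparated) ∨ NoetherianSpace Y) :
    CompactSpace Y ∧ QuasiSeparatedSpace Y := by
  rcases hYs with ⟨h1, h2⟩ | h
  · exact ⟨h1, inferInstance⟩
  · exact ⟨inferInstance, ⟨fun U V _ _ _ _ => NoetherianSpace.isCompact _⟩⟩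

section five

variable {Y X P PL : Scheme.{u}} {q : X ⟶ Y} {L : X.Modules} [L.IsQuasicoherent]
  {𝒮L : RelProj.QCGrAlg X} {jL : L ⟶ 𝒮L.toModule} (hjL : RelProj.IsGrSymAlg L 𝒮L jL)
  {F : Y.Modules} [F.IsQuasicoherent]
  {𝒯 : RelProj.QCGrAlg Y} {jF : F ⟶ 𝒯.toModule} (hF : RelProj.IsGrSymAlg F 𝒯 jF)
  (u : RelProj.QGrHom q 𝒯 𝒮L)
  (p : P ⟶ Y) (chart : ∀ (U : Y.Opens) (hU : IsAffineOpen U), (((p ⁻¹ᵁ U : P.Opens) : Scheme.{u}) ≅ Proj (𝒯.deg U hU)))
  (hP : RelProj.IsRelProj 𝒯 p chart)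
  (pL : PL ⟶ X)
  (chartL : ∀ (U : X.Opens) (hU : IsAffineOpen U), (((pL ⁻¹ᵁ U : PL.Opens) : Scheme.{u}) ≅ Proj (𝒮L.deg U hU)))
  (hPL : RelProj.IsRelProj 𝒮L pL chartL)
  (r : ((RelProj.domQ u pL chartL : PL.Opens) : Scheme.{u}) ⟶ P)
  (hr : RelProj.IsProjQMapOn u p chart pL chartL (RelProj.domQ u pL chartL) r)

/-- the surjectivity condition on `φ : q^* F → L`, in stalkwise form -/
def SurjCond (jF : F ⟶ 𝒯.toModule) (u : RelProj.QGrHom q 𝒯 𝒮L) : Prop :=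
  ∀ x : X, ∃ (U : Y.Opens) (_ : IsAffineOpen U) (e : Γ(F, U)) (V : X.Opens) (hV : IsAffineOpen V)
    (hVU : V ≤ q ⁻¹ᵁ U), x ∈ V ∧
      ((𝒮L.deg V hV 1 : AddSubgroup (𝒮L.presheaf.obj (op V))) : Set (𝒮L.presheaf.obj (op V))) ⊆
        (Ideal.span {(u.appLE U V hVU).hom ((jF.app U) e)} : Set (𝒮L.presheaf.obj (op V)))

include hjL hF hPL in
/-- the surjectivity condition follows from a good family -/
theorem surjCond_of_goodFamily (hL : PicF.IsInvertible L) {ι : Type u} (U : ι → Y.Opens)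
    (hU : ∀ a, IsAffineOpen (U a)) (n : ι → ℕ) (s : ∀ a, 𝒯.presheaf.obj (op (U a)))
    (h : IsGoodFamily u U hU n s) : SurjCond jF u := by
  intro x
  obtain ⟨hns, hcov, -, -⟩ := h
  have hx : x ∈ (⨆ a, XTU u (U a) (n a) (s a)) := by rw [hcov]; trivial
  obtain ⟨a, ha⟩ := Opens.mem_iSup.1 hx
  have hNV := (mem_XTU_iff u (n a) (s a) x).1 ha
  obtain ⟨e, V, hV, hVU, hxV, hsub⟩ := exists_deg_one_NVU hjL hF u pL chartL hPL (hU a) hL (hns a).1 (s a)
    (hns a).2 x hNV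
  exact ⟨U a, hU a, e, V, hV, hVU, hxV, hsub⟩

omit [F.IsQuasicoherent] in
include hjL hF hPL in
/-- the surjectivity condition makes `r_{L,φ}` everywhere defined -/
theorem domQ_eq_top_of_surjCond (hL : PicF.IsInvertible L) (hsurj : SurjCond jF u) :
    RelProj.domQ u pL chartL = ⊤ := by
  choose U hU e V hV hVU hxV hsub using hsurj
  refine domQ_eq_top_of_iSup hjL u pL chartL hPL U hU (fun _ => 1) (fun x => asR 𝒯.toQCAlg (jF.app (U x) (e x)))
    (fun x => ⟨Nat.one_pos, hF.2 (U x) (hU x) (e x)⟩) hL ?_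
  refine top_le_iff.1 fun x _ => Opens.mem_iSup.2 ⟨x, ?_⟩
  exact (mem_XTU_iff u 1 _ x).2 ⟨V x, hV x, hVU x, hxV x, hsub x⟩

include hjL hF hP hPL hr in
/-- **(EGA II 3.8.5 / 4.4.7, direct part)**: an immersion `r_{L,φ} : X → P(F)` comes from a quasi-coherent submodule of
finite type `E ⊆ F`. -/
theorem exists_ft_sub_of_immersion [CompactSpace Y] [QuasiSeparatedSpace Y] [QuasiCompact q]
    [LocallyOfFiniteType q] (hL : PicF.IsInvertible L) (htop : RelProj.domQ u pL chartL = ⊤)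
    (himm : IsImmersion r) :
    ∃ (E : Y.Modules) (_ : Coh.IsQCoh E) (_ : CohB1.IsFT E) (ι : E ⟶ F)
      (_ : ∀ U : Y.Opens, Function.Injective (ι.app U))
      (𝒯' : RelProj.QCGrAlg Y) (jE : E ⟶ 𝒯'.toModule) (_ : RelProj.IsGrSymAlg E 𝒯' jE)
      (u' : RelProj.QGrHom q 𝒯' 𝒮L)
      (_ : ∀ (U : Y.Opens) (x : Γ(E, U)),
        (u'.app U).hom ((jE.app U) x) = (u.app U).hom ((jF.app U) ((ι.app U) x))),
      SurjCond jE u' ∧
      ∀ (P' : Scheme.{u}) (p' : P' ⟶ Y)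
          (chart' : ∀ (U : Y.Opens) (hU : IsAffineOpen U), (((p' ⁻¹ᵁ U : P'.Opens) : Scheme.{u}) ≅ Proj (𝒯'.deg U hU)))
          (_ : RelProj.IsRelProj 𝒯' p' chart')
          (r' : ((RelProj.domQ u' pL chartL : PL.Opens) : Scheme.{u}) ⟶ P')
          (_ : RelProj.IsProjQMapOn u' p' chart' pL chartL (RelProj.domQ u' pL chartL) r'),
        RelProj.domQ u' pL chartL = ⊤ ∧ IsImmersion r' := by
  obtain ⟨E, ι, hmono, hq, hft, happ⟩ := exists_ft_approx hjL hF u p chart hP pL chartL hPL r hr hL htop himm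
  have := hq
  have hQC := isQC_symPre_of_isQuasicoherent E
  have hE := isGrSymAlg E hQC
  obtain ⟨φ, hφ, hφj⟩ := exists_symHom hE hF ι
  have hu' : ∀ (U : Y.Opens) (x : Γ(E, U)),
      ((precomp u φ hφ).app U).hom (((grJ E hQC).app U) x) = (u.app U).hom ((jF.app U) ((ι.app U) x)) := by
    intro U x
    show (u.app U).hom ((φ.hom.app (op U)).hom (((grJ E hQC).app U) x)) = _
    rw [hφj U x]
  obtain ⟨ι', U', hU', n', s', hfam⟩ := happ (grSymAlg E hQC) (grJ E hQC) hE (precomp u φ hφ) hu'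
  refine ⟨E, hq, hft, ι, injective_of_mono ι hmono, grSymAlg E hQC, grJ E hQC, hE, precomp u φ hφ, hu', ?_, ?_⟩
  · exact surjCond_of_goodFamily hjL hE (precomp u φ hφ) pL chartL hPL hL U' hU' n' s' hfam
  · intro P' p' chart' hP' r' hr'
    exact immersion_of_family hjL (precomp u φ hφ) p' chart' hP' pL chartL hPL r' hr' hL U' hU' n' s' hfam

omit [F.IsQuasicoherent] in
include hjL hF hP hPL hr in
/-- **(EGA II 3.8.5 / 4.4.7, converse part)**: if `r` for a submodule `E ⊆ F` is everywhere defined and an immersion,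
so is `r` for `F`. -/
theorem immersion_of_ft_sub (hL : PicF.IsInvertible L)
    {E : Y.Modules} [E.IsQuasicoherent] (ι : E ⟶ F)
    {𝒯' : RelProj.QCGrAlg Y} {jE : E ⟶ 𝒯'.toModule} (hE : RelProj.IsGrSymAlg E 𝒯' jE)
    (u' : RelProj.QGrHom q 𝒯' 𝒮L)
    (hu' : ∀ (U : Y.Opens) (x : Γ(E, U)),
      (u'.app U).hom ((jE.app U) x) = (u.app U).hom ((jF.app U) ((ι.app U) x)))
    (H : ∀ (P' : Scheme.{u}) (p' : P' ⟶ Y)
          (chart' : ∀ (U : Y.Opens) (hU : IsAffineOpen U), (((p' ⁻¹ᵁ U : P'.Opens) : Scheme.{u}) ≅ Proj (𝒯'.deg U hU)))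
          (_ : RelProj.IsRelProj 𝒯' p' chart')
          (r' : ((RelProj.domQ u' pL chartL : PL.Opens) : Scheme.{u}) ⟶ P')
          (_ : RelProj.IsProjQMapOn u' p' chart' pL chartL (RelProj.domQ u' pL chartL) r'),
        RelProj.domQ u' pL chartL = ⊤ ∧ IsImmersion r') :
    RelProj.domQ u pL chartL = ⊤ ∧ IsImmersion r := by
  have hP' := RelProjExists.isRelProj 𝒯'
  obtain ⟨r', hr', -⟩ := ProjQRel.existsUnique_glueW u' (RelProjExists.p 𝒯') (RelProjExists.chart 𝒯') hP' pL chartL hPL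
  have hr'On := ProjQRel.isProjQMapOn_of_glue u' (RelProjExists.p 𝒯') (RelProjExists.chart 𝒯') pL chartL r' hr'
  obtain ⟨htop', himm'⟩ := H _ _ _ hP' r' hr'On
  obtain ⟨ι₀, U, hU, n, s, hfam⟩ := exists_family_of_immersion hjL u' _ _ hP' pL chartL hPL r' hr'On hL htop' himm'
  obtain ⟨φ, hφ, -, hu⟩ := exists_symHom_factor hF u ι hE u' hu'
  exact immersion_of_family hjL u p chart hP pL chartL hPL r hr hL U hU n _
    (isGoodFamily_push u u' φ hφ hu U hU n s hfam)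

end five

end Groth.Agent.Lib.Helper28.FTApprox
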