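import Groth.Agent.Lib.Helper28.RLPsiV9
import Groth.Agent.Lib.Helper28.GenIso

/-!
# `O_{P(L)}(1) ≅ p^*L` for an invertible module `L`
-/

set_option autoImplicit false
universe u
open CategoryTheory CategoryTheory.Limits AlgebraicGeometry Opposite TopologicalSpace
open HomogeneousLocalization
open scoped HomogeneousIdeal
noncomputable section

namespace Groth.Agent.Lib.Helper28.RLPsiV

open Groth.Agent.Lib.Helper28 Groth.Agent.Lib.Helper28.QCohLoc Groth.Agent.Lib.Helper28.TraceAlg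
open Groth.Agent.Lib.Helper28.GenLocus Groth.Agent.Lib.Helper28.SymAlg
open Groth.Agent.Lib.Helper28.RLPsi Groth.Agent.Lib.Helper28.RelTwistVal Groth.Agent.Lib.Helper28.RLPsiU
open Groth.Agent.Lib.Helper28.PullbackInv Groth.Agent.Lib.Helper28.TensorGen

section sigbasic

variable {Y P : Scheme.{u}} {𝒮 : RelProj.QCGrAlg Y} {p : P ⟶ Y}
  {chart : ∀ (U : Y.Opens) (hU : IsAffineOpen U), (((p ⁻¹ᵁ U : P.Opens) : Scheme.{u}) ≅ Proj (𝒮.deg U hU))}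
  (hP : RelProj.IsRelProj 𝒮 p chart)
  {O1 : P.Modules}
  {lam : ∀ (U : Y.Opens) (hU : IsAffineOpen U),
    O1 ⟶ (Scheme.Modules.pushforward (RelProj.emb p chart U hU)).obj (GrTwist.twist (𝒮.deg U hU) ((1 : ℕ) : ℤ))}
  (hO : RelProj.IsRelTwist 𝒮 p chart ((1 : ℕ) : ℤ) O1 lam)

include hP in
/-- the value of `σ_a` on the chart over a basic open -/
theorem cv_sig_basic {V W : Y.Opens} (hV : IsAffineOpen V) (hW : IsAffineOpen W) (r : Γ(Y, V))
    (e : W = Y.basicOpen r) (hle : W ≤ V) (a : 𝒮.presheaf.obj (op V)) (ha : a ∈ 𝒮.deg V hV 1)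
    (y : Proj (𝒮.deg W hW)) (hy : (RelProj.emb p chart W hW).base y ∈ p ⁻¹ᵁ V) :
    cv lam hW (sig hO hV a ha) y hy = Localization.mk (𝒮.res hV hW hle a) 1 := by
  have hy' : (RelProj.emb p chart V hV).base (ProjectiveSpectrum.comap (𝒮.res hV hW hle)
      (irrelevant_le_map_of_eq 𝒮 hV hW r e hle) y) ∈ p ⁻¹ᵁ V := by
    rw [← emb_eq_of_eq hP hV hW r e hle y]; exact hy
  have h1 := val_basic hO hV hW r e hle (p ⁻¹ᵁ V) (sig hO hV a ha) y hy hy'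
  have h2 := cv_sig hO hV a ha _ hy'
  unfold cv at h2 ⊢
  rw [h1, h2, GrTwist.locMap_mk, Localization.mk_eq_mk_iff, Localization.r_iff_exists]
  refine ⟨1, ?_⟩
  simp

include hP in
/-- the value of a function pulled back from the base, on the chart over a smaller affine open -/
theorem cvO_app_base {V W : Y.Opens} (hW : IsAffineOpen W) (hle : W ≤ V) (c : Γ(Y, V))
    (y : Proj (𝒮.deg W hW)) (hy : (RelProj.emb p chart W hW).base y ∈ p ⁻¹ᵁ V) :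
    cvO p chart hW (p.app V c) y hy = Localization.mk ((𝒮.str.app (op W)).hom (resO hle c)) 1 := by
  have hyW : (RelProj.emb p chart W hW).base y ∈ p ⁻¹ᵁ W :=
    (RelProjQ.mem_range_emb p chart W hW _).1 ⟨y, rfl⟩
  have h1 : cvO p chart hW (p.app V c) y hy =
      cvO p chart hW (QCohLoc.resO (p.preimage_mono hle) (p.app V c)) y hyW :=
    (cvO_resO hW (p.preimage_mono hle) (p.app V c) y hyW).symm
  have h2 : QCohLoc.resO (p.preimage_mono hle) (p.app V c) = p.appLE W (p ⁻¹ᵁ W) le_rfl (resO hle c) := by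
    rw [Scheme.Hom.appLE_eq_app]
    exact (QCohLoc.app_resO p hle c).symm
  rw [h1, h2, cvO_base hP hW le_rfl _ y hyW]

end sigbasic

section line

variable {Y PL : Scheme.{u}} {L : Y.Modules} [L.IsQuasicoherent]
    {𝒮 : RelProj.QCGrAlg Y} {j : L ⟶ 𝒮.toModule} (hS : RelProj.IsGrSymAlg L 𝒮 j)
    {pL : PL ⟶ Y}
    {chartL : ∀ (U : Y.Opens) (hU : IsAffineOpen U), (((pL ⁻¹ᵁ U : PL.Opens) : Scheme.{u}) ≅ Proj (𝒮.deg U hU))}
    (hPL : RelProj.IsRelProj 𝒮 pL chartL)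
    {O1 : PL.Modules}
    {lam : ∀ (U : Y.Opens) (hU : IsAffineOpen U),
      O1 ⟶ (Scheme.Modules.pushforward (RelProj.emb pL chartL U hU)).obj (GrTwist.twist (𝒮.deg U hU) ((1 : ℕ) : ℤ))}
    (hO : RelProj.IsRelTwist 𝒮 pL chartL ((1 : ℕ) : ℤ) O1 lam)

include hS hPL in
/-- over a trivializing affine open, `D₊(j g)` is everything -/
theorem preimage_le_WPU_line {U : Y.Opens} (hU : IsAffineOpen U) {g : Γ(L, U)} (hg : IsGen L U g) :
    pL ⁻¹ᵁ U ≤ WPU pL chartL hU (asR 𝒮.toQCAlg (j.app U g)) := by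
  intro z hz
  obtain ⟨y, hy⟩ := (RelProjQ.mem_range_emb pL chartL U hU z).2 hz
  have hy' : (RelProj.emb pL chartL U hU).base y = z := hy
  rw [← hy']
  refine (mem_WPU_iff hU _ y).2 ?_
  have h1 := (mem_basicOpen_line_iff hS hU hg pL chartL hPL 1 one_pos y).2 (by
    rw [Scheme.basicOpen_of_isUnit _ isUnit_one]
    show pL (RelProj.emb pL chartL U hU y) ∈ U
    rw [hy]
    exact hz)
  rw [map_one, one_mul, pow_one] at h1
  exact (Proj.mem_basicOpen _ _ y).1 h1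

include hS hPL hO in
/-- **`p^*L ≅ O_{P(L)}(1)`** for an invertible module `L` -/
theorem nonempty_pullback_iso_O1 (hL : PicF.IsInvertible L) :
    Nonempty ((Scheme.Modules.pullback pL).obj L ≅ O1) := by
  classical
  let ι := {t : Σ U : Y.affineOpens, Γ(L, U.1) // IsGen L t.1.1 t.2}
  have hF : ∀ i : ι, asR 𝒮.toQCAlg (j.app i.1.1.1 i.1.2) ∈ 𝒮.deg i.1.1.1 i.1.1.2 1 := fun i =>
    hS.2 i.1.1.1 i.1.1.2 i.1.2
  have hcov : ∀ z : PL, ∃ i : ι, z ∈ pL ⁻¹ᵁ i.1.1.1 := by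
    intro z
    obtain ⟨V, g, hxV, hV, hg, -⟩ := exists_isGen_affine_le hL (pL z) ⊤ trivial
    exact ⟨⟨⟨⟨V, hV⟩, g⟩, hg⟩, hxV⟩
  have hgenO : ∀ i : ι, IsGen O1 (pL ⁻¹ᵁ i.1.1.1) (sig hO i.1.1.2 _ (hF i)) := by
    intro i
    have h1 := (isGen_sig hO i.1.1.2 _ (hF i)).res (preimage_le_WPU_line hS hPL i.1.1.2 i.2)
    rw [res_res, res_self] at h1
    exact h1
  suffices hcoc : ∀ i k : ι, ∃ u : Γ(PL, pL ⁻¹ᵁ i.1.1.1 ⊓ pL ⁻¹ᵁ k.1.1.1),
      res ((Scheme.Modules.pullback pL).obj L) inf_le_left (pbs pL L i.1.1.1 i.1.2) =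
        (u • res ((Scheme.Modules.pullback pL).obj L) inf_le_right (pbs pL L k.1.1.1 k.1.2) :
          Γ((Scheme.Modules.pullback pL).obj L, pL ⁻¹ᵁ i.1.1.1 ⊓ pL ⁻¹ᵁ k.1.1.1)) ∧
      res O1 inf_le_left (sig hO i.1.1.2 _ (hF i)) =
        (u • res O1 inf_le_right (sig hO k.1.1.2 _ (hF k)) : Γ(O1, pL ⁻¹ᵁ i.1.1.1 ⊓ pL ⁻¹ᵁ k.1.1.1)) by
    obtain ⟨ψ, -⟩ := exists_iso_of_cocycle_gen (fun i : ι => pL ⁻¹ᵁ i.1.1.1)
      (fun i => pbs pL L i.1.1.1 i.1.2) (fun i => sig hO i.1.1.2 _ (hF i))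
      (fun i => isGen_pbs i.2) hgenO hcov hcoc
    exact ⟨ψ⟩
  intro i k
  obtain ⟨c, hc⟩ := (k.2 (i.1.1.1 ⊓ k.1.1.1) inf_le_right).2 (res L inf_le_left i.1.2)
  have hc' : (c • res L inf_le_right k.1.2 : Γ(L, i.1.1.1 ⊓ k.1.1.1)) = res L inf_le_left i.1.2 := hc
  refine ⟨pL.app (i.1.1.1 ⊓ k.1.1.1) c, ?_, ?_⟩
  · have h1 := pbs_res pL L (inf_le_left : i.1.1.1 ⊓ k.1.1.1 ≤ i.1.1.1) i.1.2
    have h2 := pbs_res pL L (inf_le_right : i.1.1.1 ⊓ k.1.1.1 ≤ k.1.1.1) k.1.2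
    have h3 := pbs_smul pL L (i.1.1.1 ⊓ k.1.1.1) c (res L inf_le_right k.1.2)
    rw [h2] at h3
    rw [hc', h1] at h3
    exact h3
  · refine eq_of_basic_cover hO i.1.1.2 k.1.1.2 inf_le_left inf_le_right _ _ ?_
    intro W hW r r' e e' y hy
    have hle : W ≤ i.1.1.1 := e ▸ Y.basicOpen_le r
    have hle' : W ≤ k.1.1.1 := e' ▸ Y.basicOpen_le r'
    have hleV : W ≤ i.1.1.1 ⊓ k.1.1.1 := le_inf hle hle'
    have h5 : cvO pL chartL hW (W₁ := pL ⁻¹ᵁ i.1.1.1 ⊓ pL ⁻¹ᵁ k.1.1.1) (pL.app (i.1.1.1 ⊓ k.1.1.1) c) y hy =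
        Localization.mk ((𝒮.str.app (op W)).hom (resO hleV c)) 1 := cvO_app_base hPL hW hleV c y hy
    rw [cv_res, cv_smul, cv_res, cv_sig_basic hPL hO i.1.1.2 hW r e hle _ (hF i) y hy.1,
      cv_sig_basic hPL hO k.1.1.2 hW r' e' hle' _ (hF k) y hy.2, h5, Localization.mk_mul, one_mul]
    congr 1
    -- `j(g_i)|_W = str(c|_W) * j(g_k)|_W`
    have e1 : 𝒮.res i.1.1.2 hW hle (asR 𝒮.toQCAlg (j.app i.1.1.1 i.1.2)) =
        asR 𝒮.toQCAlg (j.app W (res L hle i.1.2)) := by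
      rw [app_res]
      rfl
    have e2 : 𝒮.res k.1.1.2 hW hle' (asR 𝒮.toQCAlg (j.app k.1.1.1 k.1.2)) =
        asR 𝒮.toQCAlg (j.app W (res L hle' k.1.2)) := by
      rw [app_res]
      rfl
    have e3 : res L hle i.1.2 = (resO hleV c • res L hle' k.1.2 : Γ(L, W)) := by
      have := congrArg (res L hleV) hc'
      rw [res_smul, res_res, res_res] at this
      exact this.symm
    rw [e1, e2, e3, Scheme.Modules.Hom.app_smul]
    rfl

end line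

end Groth.Agent.Lib.Helper28.RLPsiV
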