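import Groth.Agent.Lib.Helper28.VAGenDegOne
import Groth.Agent.Lib.Helper28.RLPsiU3
import Groth.Agent.Lib.Helper28.PEInv
import Groth.Agent.Lib.Helper28.ProjSymLine

/-!
# Very ampleness from an immersion `r_{L,ψ}` into `Proj` of an algebra generated in degree one
-/

set_option autoImplicit false
universe u
open CategoryTheory CategoryTheory.Limits AlgebraicGeometry TopologicalSpace Opposite
open scoped HomogeneousIdeal

namespace Groth.Agent.Lib.Helper28.VAIntro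

open Groth.Agent.Lib.Helper28 Groth.Agent.Lib.Helper28.QCohLoc Groth.Agent.Lib.Helper28.TraceAlg
open Groth.Agent.Lib.Helper28.GenLocus Groth.Agent.Lib.Helper28.SymAlg
open Groth.Agent.Lib.Helper28.RLPsi Groth.Agent.Lib.Helper28.RLPsiU
open Groth.Agent.Lib.Helper28.RelProjBC (AffPair)
open Groth.Agent.Lib.Helper28.RelProjQ (φQ mem_range_emb)

section total

variable {Y X P PL : Scheme.{u}} {q : X ⟶ Y}
  {𝒮 : RelProj.QCGrAlg Y} {𝒮L : RelProj.QCGrAlg X} (u : RelProj.QGrHom q 𝒮 𝒮L)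
  (p : P ⟶ Y) (chart : ∀ (U : Y.Opens) (hU : IsAffineOpen U), (((p ⁻¹ᵁ U : P.Opens) : Scheme.{u}) ≅ Proj (𝒮.deg U hU)))
  (pL : PL ⟶ X)
  (chartL : ∀ (U : X.Opens) (hU : IsAffineOpen U), (((pL ⁻¹ᵁ U : PL.Opens) : Scheme.{u}) ≅ Proj (𝒮L.deg U hU)))
  (r : ((RelProj.domQ u pL chartL : PL.Opens) : Scheme.{u}) ⟶ P)
  (hr : RelProj.IsProjQMapOn u p chart pL chartL (RelProj.domQ u pL chartL) r)

include hr in
/-- a partial `Proj(u)` whose open of definition is everything is an everywhere defined `Proj(u)` -/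
theorem isProjQMap_of_isProjQMapOn (htop : RelProj.domQ u pL chartL = ⊤)
    [IsIso (RelProj.domQ u pL chartL).ι] :
    RelProj.IsProjQMap u p chart pL chartL (inv (RelProj.domQ u pL chartL).ι ≫ r) := by
  refine ⟨htop, ?_⟩
  intro U hU U' hU' hle d hd f hf
  have hW := RelProj.range_awayEmb_subset_domQ u pL chartL U hU U' hU' hle hd f hf
  rw [← hr U hU U' hU' hle d hd f hf hW, ← Category.assoc]
  congr 1
  rw [IsIso.comp_inv_eq, IsOpenImmersion.lift_fac]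

end total

section main

variable {Y X P PL : Scheme.{u}} {q : X ⟶ Y} {L : X.Modules} [L.IsQuasicoherent]
  {𝒮 : RelProj.QCGrAlg Y} {𝒮L : RelProj.QCGrAlg X} {j : L ⟶ 𝒮L.toModule} (hj : RelProj.IsGrSymAlg L 𝒮L j)
  (u : RelProj.QGrHom q 𝒮 𝒮L)
  (p : P ⟶ Y) (chart : ∀ (U : Y.Opens) (hU : IsAffineOpen U), (((p ⁻¹ᵁ U : P.Opens) : Scheme.{u}) ≅ Proj (𝒮.deg U hU)))
  (hP : RelProj.IsRelProj 𝒮 p chart)
  (pL : PL ⟶ X)
  (chartL : ∀ (U : X.Opens) (hU : IsAffineOpen U), (((pL ⁻¹ᵁ U : PL.Opens) : Scheme.{u}) ≅ Proj (𝒮L.deg U hU)))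
  (hPL : RelProj.IsRelProj 𝒮L pL chartL)
  (r : ((RelProj.domQ u pL chartL : PL.Opens) : Scheme.{u}) ⟶ P)
  (hr : RelProj.IsProjQMapOn u p chart pL chartL (RelProj.domQ u pL chartL) r)

include hj hP hPL hr in
/-- **If `𝒮` is generated in degree one, the degree-one part of `ψ` is surjective and `r_{L,ψ}` is an immersion,
then `L` is very ample.** -/
theorem isRelVeryAmple_of_immersion (hL : PicF.IsInvertible L) (h1 : 𝒮.IsGenDegOne)
    (hsurj : ∀ x : X, ∃ (U : Y.Opens) (hU : IsAffineOpen U) (e : 𝒮.presheaf.obj (op U)) (_ : e ∈ 𝒮.deg U hU 1)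
        (V : X.Opens) (hV : IsAffineOpen V) (hVU : V ≤ q ⁻¹ᵁ U), x ∈ V ∧
          ((𝒮L.deg V hV 1 : AddSubgroup (𝒮L.presheaf.obj (op V))) : Set (𝒮L.presheaf.obj (op V))) ⊆
            (Ideal.span {(u.appLE U V hVU).hom e} : Set (𝒮L.presheaf.obj (op V))))
    (himm : IsImmersion r) : RelProj.IsRelVeryAmple q L := by
  classical
  choose U hU e he V hV hVU hxV hspan using hsurj
  have hNV : ∀ x : X, NVU u (U x) 1 (e x) x := fun x => ⟨V x, hV x, hVU x, hxV x, hspan x⟩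
  have hcovX : (⨆ x : X, XTU u (U x) 1 (e x)) = ⊤ := by
    rw [eq_top_iff]
    intro x _
    exact Opens.mem_iSup.2 ⟨x, (mem_XTU_iff u 1 (e x) x).2 (hNV x)⟩
  have htop : RelProj.domQ u pL chartL = ⊤ :=
    domQ_eq_top_of_iSup hj u pL chartL hPL U hU (fun _ => 1) e (fun x => ⟨one_pos, he x⟩) hL hcovX
  have : IsIso (RelProj.domQ u pL chartL).ι := ProjQRel.isIso_ι_of_eq_top htop
  have hh := isProjQMap_of_isProjQMapOn u p chart pL chartL r hr htop
  -- the twisting sheaves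
  have hO := RelTwistEx.isRelTwist hP 1
  have hO' : RelProj.IsRelTwist 𝒮 p chart ((1 : ℕ) : ℤ) _ _ := hO
  have hOL := RelTwistEx.isRelTwist hPL 1
  have hOL' : RelProj.IsRelTwist 𝒮L pL chartL ((1 : ℕ) : ℤ) _ _ := hOL
  -- the covering hypothesis
  have hcov : ∀ z' : PL, ∃ (t : AffPair q) (F : 𝒮.presheaf.obj (op t.U)) (_ : F ∈ 𝒮.deg t.U t.hU 1),
      z' ∈ WPU pL chartL t.hU' (φQ u t F) := by
    intro z
    have hxU : pL z ∈ q ⁻¹ᵁ U (pL z) := hVU (pL z) (hxV (pL z))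
    obtain ⟨V', g, hxV', hV', hg, hV'U⟩ := exists_isGen_affine_le hL (pL z) _ hxU
    obtain ⟨y, hy⟩ := (mem_range_emb pL chartL V' hV' z).2 hxV'
    have hy2 : RelProj.emb pL chartL V' hV' y = z := hy
    have hy' : y ∈ Proj.basicOpen (𝒮L.deg V' hV') (tauU u (U (pL z)) (e (pL z)) V' hV'U) :=
      (mem_basicOpen_tauU_iff hj u pL chartL hPL (hU (pL z)) one_pos (e (pL z)) (he (pL z)) hV' hV'U hg y).2
        (by rw [hy2]; exact hNV (pL z))
    refine ⟨⟨U (pL z), hU (pL z), V', hV', hV'U⟩, e (pL z), he (pL z), ?_⟩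
    exact ⟨y, hy', hy⟩
  obtain ⟨τ₁⟩ := RLPsiV.nonempty_pullback_iso_of_isProjQMap u hP hPL hO' hOL' _ hh hcov
  obtain ⟨τ₂⟩ := RLPsiV.nonempty_pullback_iso_O1 hj hPL hOL' hL
  have hiso : IsIso pL := isIso_proj_symLine hL hj pL chartL hPL
  have hcomp := ProjQRel.comp_p_of_isProjQMap u p chart hP pL chartL hPL _ hh
  have : IsImmersion r := himm
  refine VAGenDegOne.isRelVeryAmple_of_genDegOne 𝒮 h1 p chart hP _ _ hO q L
    (inv pL ≫ inv (RelProj.domQ u pL chartL).ι ≫ r) ?_ ?_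
  · rw [Category.assoc, hcomp, IsIso.inv_hom_id_assoc]
  · exact ((Scheme.Modules.pullbackId X).app L).symm ≪≫
      ((Scheme.Modules.pullbackCongr (IsIso.inv_hom_id pL).symm).app L) ≪≫
      ((Scheme.Modules.pullbackComp _ _).app L).symm ≪≫
      (Scheme.Modules.pullback _).mapIso (τ₂ ≪≫ τ₁.symm) ≪≫
      ((Scheme.Modules.pullbackComp _ _).app _)

end main

end Groth.Agent.Lib.Helper28.VAIntro
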