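import Groth.Agent.Lib.Helper28.FTApprox6
import Groth.Agent.Lib.Helper28.VAIntro

/-!
# The immersion into `P(E)` attached to an everywhere defined immersion `r_{L,φ}` (part 7)
-/

set_option autoImplicit false
universe u
open CategoryTheory CategoryTheory.Limits AlgebraicGeometry TopologicalSpace Opposite
open scoped HomogeneousIdeal
noncomputable section

namespace Groth.Agent.Lib.Helper28.FTApprox

open Groth.Agent.Lib.Helper28 Groth.Agent.Lib.Helper28.QCohLoc Groth.Agent.Lib.Helper28.TraceAlg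
open Groth.Agent.Lib.Helper28.GenLocus Groth.Agent.Lib.Helper28.SymAlg
open Groth.Agent.Lib.Helper28.RLPsi Groth.Agent.Lib.Helper28.RLPsiU
open Groth.Agent.Lib.Helper28.RelProjBC (AffPair)
open Groth.Agent.Lib.Helper28.RelProjQ (φQ mem_range_emb)

section seven

variable {Y X P PL : Scheme.{u}} {q : X ⟶ Y} {L : X.Modules} [L.IsQuasicoherent]
  {𝒮L : RelProj.QCGrAlg X} {jL : L ⟶ 𝒮L.toModule} (hjL : RelProj.IsGrSymAlg L 𝒮L jL)
  {E : Y.Modules} [E.IsQuasicoherent]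
  {𝒯 : RelProj.QCGrAlg Y} {jE : E ⟶ 𝒯.toModule} (hE : RelProj.IsGrSymAlg E 𝒯 jE)
  (u : RelProj.QGrHom q 𝒯 𝒮L)
  (p : P ⟶ Y) (chart : ∀ (U : Y.Opens) (hU : IsAffineOpen U), (((p ⁻¹ᵁ U : P.Opens) : Scheme.{u}) ≅ Proj (𝒯.deg U hU)))
  (hP : RelProj.IsRelProj 𝒯 p chart)
  (pL : PL ⟶ X)
  (chartL : ∀ (U : X.Opens) (hU : IsAffineOpen U), (((pL ⁻¹ᵁ U : PL.Opens) : Scheme.{u}) ≅ Proj (𝒮L.deg U hU)))
  (hPL : RelProj.IsRelProj 𝒮L pL chartL)
  (r : ((RelProj.domQ u pL chartL : PL.Opens) : Scheme.{u}) ⟶ P)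
  (hr : RelProj.IsProjQMapOn u p chart pL chartL (RelProj.domQ u pL chartL) r)
  {O1 : P.Modules}
  {lam : ∀ (U : Y.Opens) (hU : IsAffineOpen U),
    O1 ⟶ (Scheme.Modules.pushforward (RelProj.emb p chart U hU)).obj (GrTwist.twist (𝒯.deg U hU) 1)}
  (hO : RelProj.IsRelTwist 𝒯 p chart 1 O1 lam)

omit [E.IsQuasicoherent] in
include hjL hE hP hPL hr hO in
/-- an everywhere defined immersion `r_{L,φ} : X → P(E)` gives an immersion `i : X → P(E)` over `Y` with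
`L ≅ i^* O(1)` -/
theorem exists_immersion_of_surjCond (hL : PicF.IsInvertible L) (hsurj : SurjCond jE u) (himm : IsImmersion r) :
    ∃ i : X ⟶ P, IsImmersion i ∧ i ≫ p = q ∧ Nonempty (L ≅ (Scheme.Modules.pullback i).obj O1) := by
  classical
  choose U hU e V hV hVU hxV hspan using hsurj
  have hNV : ∀ x : X, NVU u (U x) 1 (asR 𝒯.toQCAlg (jE.app (U x) (e x))) x :=
    fun x => ⟨V x, hV x, hVU x, hxV x, hspan x⟩
  have he : ∀ x : X, asR 𝒯.toQCAlg (jE.app (U x) (e x)) ∈ 𝒯.deg (U x) (hU x) 1 := fun x => hE.2 (U x) (hU x) (e x)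
  have hcovX : (⨆ x : X, XTU u (U x) 1 (asR 𝒯.toQCAlg (jE.app (U x) (e x)))) = ⊤ := by
    rw [eq_top_iff]
    intro x _
    exact Opens.mem_iSup.2 ⟨x, (mem_XTU_iff u 1 _ x).2 (hNV x)⟩
  have htop : RelProj.domQ u pL chartL = ⊤ :=
    domQ_eq_top_of_iSup hjL u pL chartL hPL U hU (fun _ => 1) _ (fun x => ⟨one_pos, he x⟩) hL hcovX
  have : IsIso (RelProj.domQ u pL chartL).ι := ProjQRel.isIso_ι_of_eq_top htop
  have hh := VAIntro.isProjQMap_of_isProjQMapOn u p chart pL chartL r hr htop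
  have hO' : RelProj.IsRelTwist 𝒯 p chart ((1 : ℕ) : ℤ) O1 lam := hO
  have hOL := RelTwistEx.isRelTwist hPL 1
  have hOL' : RelProj.IsRelTwist 𝒮L pL chartL ((1 : ℕ) : ℤ) _ _ := hOL
  have hcov : ∀ z' : PL, ∃ (t : AffPair q) (F : 𝒯.presheaf.obj (op t.U)) (_ : F ∈ 𝒯.deg t.U t.hU 1),
      z' ∈ WPU pL chartL t.hU' (φQ u t F) := by
    intro z
    have hxU : pL z ∈ q ⁻¹ᵁ U (pL z) := hVU (pL z) (hxV (pL z))
    obtain ⟨V', g, hxV', hV', hg, hV'U⟩ := exists_isGen_affine_le hL (pL z) _ hxU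
    obtain ⟨y, hy⟩ := (mem_range_emb pL chartL V' hV' z).2 hxV'
    have hy2 : RelProj.emb pL chartL V' hV' y = z := hy
    have hy' : y ∈ Proj.basicOpen (𝒮L.deg V' hV')
        (tauU u (U (pL z)) (asR 𝒯.toQCAlg (jE.app (U (pL z)) (e (pL z)))) V' hV'U) :=
      (mem_basicOpen_tauU_iff hjL u pL chartL hPL (hU (pL z)) one_pos _ (he (pL z)) hV' hV'U hg y).2
        (by rw [hy2]; exact hNV (pL z))
    refine ⟨⟨U (pL z), hU (pL z), V', hV', hV'U⟩, _, he (pL z), ?_⟩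
    exact ⟨y, hy', hy⟩
  obtain ⟨τ₁⟩ := RLPsiV.nonempty_pullback_iso_of_isProjQMap u hP hPL hO' hOL' _ hh hcov
  obtain ⟨τ₂⟩ := RLPsiV.nonempty_pullback_iso_O1 hjL hPL hOL' hL
  have hiso : IsIso pL := isIso_proj_symLine hL hjL pL chartL hPL
  have hcomp := ProjQRel.comp_p_of_isProjQMap u p chart hP pL chartL hPL _ hh
  have : IsImmersion r := himm
  refine ⟨inv pL ≫ inv (RelProj.domQ u pL chartL).ι ≫ r, inferInstance, ?_, ⟨?_⟩⟩
  · rw [Category.assoc, hcomp, IsIso.inv_hom_id_assoc]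
  · exact ((Scheme.Modules.pullbackId X).app L).symm ≪≫
      ((Scheme.Modules.pullbackCongr (IsIso.inv_hom_id pL).symm).app L) ≪≫
      ((Scheme.Modules.pullbackComp _ _).app L).symm ≪≫
      (Scheme.Modules.pullback _).mapIso (τ₂ ≪≫ τ₁.symm) ≪≫
      ((Scheme.Modules.pullbackComp _ _).app _)

end seven

end Groth.Agent.Lib.Helper28.FTApprox
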