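import Groth.Agent.Lib.Helper28.HomSubring
import Groth.Agent.Lib.Helper17.QCAlgSub
import Groth.Agent.Lib.Helper28.DegMod

/-!
# The graded sub-algebra of a quasi-coherent graded algebra generated by a quasi-coherent module in one degree
-/

set_option autoImplicit false
universe u
open CategoryTheory CategoryTheory.Limits AlgebraicGeometry Opposite TopologicalSpace
open DirectSum
noncomputable section

namespace Groth.Agent.Lib.Helper28.GrSubAlg

open Groth.Agent.Lib.Helper28 Groth.Agent.Lib.Helper28.QCohLoc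
open Groth.Agent.Lib.Helper17.QCAlgGen Groth.Agent.Lib.Helper17.QCAlgSub

variable {Y : Scheme.{u}} (𝒮 : RelProj.QCGrAlg Y) {E : Y.Modules} [E.IsQuasicoherent] (j : E ⟶ 𝒮.toModule)
  {N : ℕ} (hN : 0 < N)
  (hj : ∀ (U : Y.Opens) (hU : IsAffineOpen U) (e : Γ(E, U)), jB j U e ∈ 𝒮.deg U hU N)

include hj in
theorem genSet_homogeneous (U : Y.Opens) (hU : IsAffineOpen U) :
    ∀ x ∈ genSet j U, ∃ i, x ∈ 𝒮.deg U hU i := by
  rintro x (⟨r, rfl⟩ | ⟨e, rfl⟩)
  · exact ⟨0, 𝒮.str_mem U hU r⟩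
  · exact ⟨N, hj U hU e⟩

include hj in
theorem decompose_mem_subB (U : Y.Opens) (hU : IsAffineOpen U) (x : 𝒮.presheaf.obj (op U)) (hx : x ∈ subB j U)
    (i : ℕ) : (decompose (𝒮.deg U hU) x i : 𝒮.presheaf.obj (op U)) ∈ subB j U := by
  rw [mem_subB_iff_of_isAffineOpen j hU] at hx ⊢
  exact HomSubring.decompose_mem_closure (𝒮.deg U hU) (genSet_homogeneous 𝒮 j hj U hU) hx i

/-- the graded sub-algebra generated by the image of `E` in degree `N` -/
def subGrAlg : RelProj.QCGrAlg Y where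
  toQCAlg := subAlg j
  deg U hU k := HomSubring.degR (𝒮.deg U hU) (subB j U) k
  graded U hU := HomSubring.gradedRing (𝒮.deg U hU) (subB j U) (decompose_mem_subB 𝒮 j hj U hU)
  map_mem := fun hU hV i _ _ hx => 𝒮.map_mem hU hV i hx
  str_mem U hU r := 𝒮.str_mem U hU r

theorem mem_deg_iff (U : Y.Opens) (hU : IsAffineOpen U) (k : ℕ) (x : subB j U) :
    x ∈ (subGrAlg 𝒮 j hj).deg U hU k ↔ (x : 𝒮.presheaf.obj (op U)) ∈ 𝒮.deg U hU k := Iff.rfl

/-- the inclusion of the graded sub-algebra -/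
def incl : (subGrAlg 𝒮 j hj).toQCAlg ⟶ 𝒮.toQCAlg := subAlgι j

theorem incl_apply (U : Y.Opens) (x : subB j U) :
    ((incl 𝒮 j hj).hom.app (op U)).hom x = (x : 𝒮.presheaf.obj (op U)) := rfl

theorem isGradedHom_incl : RelProj.IsGradedHom (incl 𝒮 j hj) := fun _ _ _ _ hx => hx

theorem incl_injective (U : Y.Opens) : Function.Injective ((incl 𝒮 j hj).hom.app (op U)).hom :=
  Subtype.val_injective

/-- the image of `E(U)` in `𝒮(U)`, as an additive subgroup -/
def imgE (U : Y.Opens) : AddSubgroup (𝒮.presheaf.obj (op U)) where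
  carrier := Set.range (jB j U)
  zero_mem' := ⟨0, map_zero _⟩
  add_mem' := by
    rintro _ _ ⟨a, rfl⟩ ⟨b, rfl⟩
    exact ⟨a + b, map_add _ _ _⟩
  neg_mem' := by
    rintro _ ⟨a, rfl⟩
    exact ⟨-a, map_neg _ _⟩

theorem genSet_eq (U : Y.Opens) :
    genSet j U = Set.range (strB 𝒮.toQCAlg U) ∪ ((imgE 𝒮 j U : AddSubgroup _) : Set (𝒮.presheaf.obj (op U))) := rfl

include hN hj in
/-- the degree-zero part of the sub-algebra is the image of the structure sheaf -/
theorem deg_zero_eq (U : Y.Opens) (hU : IsAffineOpen U) :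
    (((subGrAlg 𝒮 j hj).deg U hU 0 : AddSubgroup ((subGrAlg 𝒮 j hj).presheaf.obj (op U))) :
        Set ((subGrAlg 𝒮 j hj).presheaf.obj (op U))) =
      Set.range ((subGrAlg 𝒮 j hj).str.app (op U)).hom := by
  refine Set.ext fun (x : subB j U) => ⟨fun hx => ?_, ?_⟩
  · have hx1 : (x : 𝒮.presheaf.obj (op U)) ∈ Subring.closure (genSet j U) :=
      (mem_subB_iff_of_isAffineOpen j hU _).1 x.2
    rw [genSet_eq] at hx1
    obtain ⟨r, hr⟩ := HomSubring.mem_range_of_deg_zero (𝒮.deg U hU) (strB 𝒮.toQCAlg U) (𝒮.str_mem U hU) hN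
      (imgE 𝒮 j U) (by rintro _ ⟨e, rfl⟩; exact hj U hU e)
      (by rintro r _ ⟨e, rfl⟩; exact ⟨r • e, jB_smul j U r e⟩) hx1 hx
    exact ⟨r, Subtype.ext hr⟩
  · rintro ⟨r, rfl⟩
    exact (subGrAlg 𝒮 j hj).str_mem U hU r

include hN hj in
/-- the degree-`N` part of the sub-algebra is the image of `E` -/
theorem exists_of_mem_deg (U : Y.Opens) (hU : IsAffineOpen U) (x : subB j U)
    (hx : x ∈ (subGrAlg 𝒮 j hj).deg U hU N) : ∃ e : Γ(E, U), genOf j hU e = x := by
  have hx1 : (x : 𝒮.presheaf.obj (op U)) ∈ Subring.closure (genSet j U) :=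
    (mem_subB_iff_of_isAffineOpen j hU _).1 x.2
  rw [genSet_eq] at hx1
  obtain ⟨e, he⟩ := HomSubring.mem_of_deg (𝒮.deg U hU) (strB 𝒮.toQCAlg U) (𝒮.str_mem U hU) hN
    (imgE 𝒮 j U) (by rintro _ ⟨e, rfl⟩; exact hj U hU e)
    (by rintro r _ ⟨e, rfl⟩; exact ⟨r • e, jB_smul j U r e⟩) hx1 hx
  exact ⟨e, Subtype.ext he⟩

theorem genOf_mem_deg (U : Y.Opens) (hU : IsAffineOpen U) (e : Γ(E, U)) :
    genOf j hU e ∈ (subGrAlg 𝒮 j hj).deg U hU N := hj U hU e

/-- the sub-algebra is generated by its parts of degree `0` and `N` -/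
theorem closure_eq_top (U : Y.Opens) (hU : IsAffineOpen U) :
    Subring.closure ((((subGrAlg 𝒮 j hj).deg U hU 0 : AddSubgroup ((subGrAlg 𝒮 j hj).presheaf.obj (op U))) :
        Set ((subGrAlg 𝒮 j hj).presheaf.obj (op U))) ∪
      (((subGrAlg 𝒮 j hj).deg U hU N : AddSubgroup ((subGrAlg 𝒮 j hj).presheaf.obj (op U))) :
        Set ((subGrAlg 𝒮 j hj).presheaf.obj (op U)))) = ⊤ := by
  set T : Subring (subB j U) := Subring.closure ((((subGrAlg 𝒮 j hj).deg U hU 0 :
      AddSubgroup ((subGrAlg 𝒮 j hj).presheaf.obj (op U))) : Set ((subGrAlg 𝒮 j hj).presheaf.obj (op U))) ∪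
      (((subGrAlg 𝒮 j hj).deg U hU N : AddSubgroup ((subGrAlg 𝒮 j hj).presheaf.obj (op U))) :
        Set ((subGrAlg 𝒮 j hj).presheaf.obj (op U)))) with hT
  have key : ∀ b : 𝒮.presheaf.obj (op U), b ∈ Subring.closure (genSet j U) →
      ∀ hb : b ∈ subB j U, (⟨b, hb⟩ : subB j U) ∈ T := by
    intro b hb'
    induction hb' using Subring.closure_induction with
    | mem x hx =>
      intro hb
      rcases hx with ⟨r, rfl⟩ | ⟨e, rfl⟩
      · exact Subring.subset_closure (Or.inl (𝒮.str_mem U hU r))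
      · exact Subring.subset_closure (Or.inr (hj U hU e))
    | zero => intro hb; exact T.zero_mem
    | one => intro hb; exact T.one_mem
    | add x y hx hy ihx ihy =>
      intro hb
      have hxm := (mem_subB_iff_of_isAffineOpen j hU x).2 hx
      have hym := (mem_subB_iff_of_isAffineOpen j hU y).2 hy
      exact T.add_mem (ihx hxm) (ihy hym)
    | neg x hx ihx =>
      intro hb
      have hxm := (mem_subB_iff_of_isAffineOpen j hU x).2 hx
      exact T.neg_mem (ihx hxm)
    | mul x y hx hy ihx ihy =>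
      intro hb
      have hxm := (mem_subB_iff_of_isAffineOpen j hU x).2 hx
      have hym := (mem_subB_iff_of_isAffineOpen j hU y).2 hy
      exact T.mul_mem (ihx hxm) (ihy hym)
  rw [eq_top_iff]
  rintro ⟨b, hb⟩ -
  exact key b ((mem_subB_iff_of_isAffineOpen j hU b).1 hb) hb

include hN in
/-- the degree-`N` part of the sub-algebra is of finite type -/
theorem isFTDeg [SheafOfModules.IsFiniteType.{u} (R := Y.ringCatSheaf) E] : (subGrAlg 𝒮 j hj).IsFTDeg N := by
  classical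
  intro U hU
  have := FinType.finite_of_isAffineOpen E hU
  obtain ⟨t, ht⟩ := (Module.Finite.fg_top : (⊤ : Submodule Γ(Y, U) Γ(E, U)).FG)
  obtain ⟨T, hT1, hT2⟩ : ∃ T : Finset (subB j U), (∀ x ∈ T, ∃ e ∈ t, genOf j hU e = x) ∧
      (∀ e ∈ t, genOf j hU e ∈ T) :=
    ⟨t.image (genOf j hU), fun x hx => Finset.mem_image.1 hx, fun e he => Finset.mem_image_of_mem _ he⟩
  have key : ∀ e : Γ(E, U), e ∈ Submodule.span Γ(Y, U) (t : Set Γ(E, U)) →
      ∃ c : subB j U → Γ(Y, U), (genOf j hU e : subB j U) =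
        ∑ t' ∈ T, (⟨strB 𝒮.toQCAlg U (c t'), strB_locMem j U (c t')⟩ : subB j U) * t' := by
    intro e he
    induction he using Submodule.span_induction with
    | mem e he =>
      refine ⟨fun t' => if t' = genOf j hU e then 1 else 0, ?_⟩
      rw [Finset.sum_eq_single (genOf j hU e)]
      · apply Subtype.ext
        show _ = strB 𝒮.toQCAlg U (if genOf j hU e = genOf j hU e then 1 else 0) * jB j U e
        rw [if_pos rfl, map_one, one_mul]
        rfl
      · intro b _ hb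
        apply Subtype.ext
        show strB 𝒮.toQCAlg U (if b = genOf j hU e then 1 else 0) * (b : 𝒮.presheaf.obj (op U)) = 0
        rw [if_neg hb, map_zero, zero_mul]
      · intro h
        exact absurd (hT2 e (Finset.mem_coe.1 he)) h
    | zero =>
      refine ⟨fun _ => 0, ?_⟩
      have h0 : genOf j hU (0 : Γ(E, U)) = 0 := Subtype.ext (map_zero _)
      rw [h0]
      symm
      refine Finset.sum_eq_zero fun t' _ => ?_
      apply Subtype.ext
      show strB 𝒮.toQCAlg U 0 * (t' : 𝒮.presheaf.obj (op U)) = 0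
      rw [map_zero, zero_mul]
    | add x y _ _ hx hy =>
      obtain ⟨c, hc⟩ := hx
      obtain ⟨c', hc'⟩ := hy
      refine ⟨fun t' => c t' + c' t', ?_⟩
      have h0 : genOf j hU (x + y) = genOf j hU x + genOf j hU y := Subtype.ext (map_add _ _ _)
      rw [h0, hc, hc', ← Finset.sum_add_distrib]
      refine Finset.sum_congr rfl fun t' _ => ?_
      apply Subtype.ext
      show strB 𝒮.toQCAlg U (c t') * (t' : 𝒮.presheaf.obj (op U)) + strB 𝒮.toQCAlg U (c' t') * t' =
        strB 𝒮.toQCAlg U (c t' + c' t') * t'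
      rw [map_add, add_mul]
    | smul r x _ hx =>
      obtain ⟨c, hc⟩ := hx
      refine ⟨fun t' => r * c t', ?_⟩
      have h0 : genOf j hU (r • x) = (⟨strB 𝒮.toQCAlg U r, strB_locMem j U r⟩ : subB j U) * genOf j hU x :=
        Subtype.ext (jB_smul j U r x)
      rw [h0, hc, Finset.mul_sum]
      refine Finset.sum_congr rfl fun t' _ => ?_
      apply Subtype.ext
      show strB 𝒮.toQCAlg U r * (strB 𝒮.toQCAlg U (c t') * (t' : 𝒮.presheaf.obj (op U))) =
        strB 𝒮.toQCAlg U (r * c t') * t'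
      rw [map_mul, mul_assoc]
  refine ⟨T, ?_, ?_⟩
  · intro x hx
    obtain ⟨e, -, rfl⟩ := hT1 x (Finset.mem_coe.1 hx)
    exact hj U hU e
  · intro x hx
    obtain ⟨e, rfl⟩ := exists_of_mem_deg 𝒮 j hN hj U hU x hx
    exact key e (by rw [ht]; trivial)

end Groth.Agent.Lib.Helper28.GrSubAlg
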