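import Groth.Agent.Lib.Helper28.FTApprox5
import Groth.Agent.Lib.Helper28.GrSubAlg

/-!
# Finite type approximation of `r_{L,ψ}` for a general graded algebra (EGA II 3.8.5) (part 8)
-/

set_option autoImplicit false
universe u
open CategoryTheory CategoryTheory.Limits AlgebraicGeometry Opposite TopologicalSpace
open scoped HomogeneousIdeal
noncomputable section

namespace Groth.Agent.Lib.Helper28.FTApprox

open Groth.Agent.Lib.Helper28 Groth.Agent.Lib.Helper28.QCohLoc Groth.Agent.Lib.Helper28.TraceAlg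
open Groth.Agent.Lib.Helper28.SymAlg
open Groth.Agent.Lib.Helper28.RLPsi Groth.Agent.Lib.Helper28.RLPsiU
open Groth.Agent.Lib.Helper28.RelProjQ (mem_range_emb)

/-- arithmetic: a common multiple with large cofactors -/
theorem exists_common_mul {F : Type*} [Fintype F] (n : F → ℕ) (hn : ∀ a, 0 < n a) (M : ℕ) :
    ∃ (N : ℕ) (_ : 0 < N) (M' : F → ℕ), ∀ a, M ≤ M' a ∧ 0 < M' a ∧ M' a * n a = N := by
  classical
  refine ⟨(M + 1) * ∏ a, n a, Nat.mul_pos (Nat.succ_pos _) (Finset.prod_pos fun a _ => hn a),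
    fun a => (M + 1) * ∏ b ∈ Finset.univ.erase a, n b, fun a => ⟨?_, ?_, ?_⟩⟩
  · have h : 0 < ∏ b ∈ Finset.univ.erase a, n b := Finset.prod_pos fun b _ => hn b
    nlinarith
  · exact Nat.mul_pos (Nat.succ_pos _) (Finset.prod_pos fun b _ => hn b)
  · rw [mul_assoc, Finset.prod_erase_mul _ _ (Finset.mem_univ a)]

section pow

variable {Y X PL : Scheme.{u}} {q : X ⟶ Y} {L : X.Modules} [L.IsQuasicoherent]
  {𝒮L : RelProj.QCGrAlg X} {jL : L ⟶ 𝒮L.toModule} (hjL : RelProj.IsGrSymAlg L 𝒮L jL)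
  {𝒮 : RelProj.QCGrAlg Y} (u : RelProj.QGrHom q 𝒮 𝒮L)
  (pL : PL ⟶ X)
  (chartL : ∀ (U : X.Opens) (hU : IsAffineOpen U), (((pL ⁻¹ᵁ U : PL.Opens) : Scheme.{u}) ≅ Proj (𝒮L.deg U hU)))
  (hPL : RelProj.IsRelProj 𝒮L pL chartL)
  {U : Y.Opens} (hU : IsAffineOpen U)

omit [L.IsQuasicoherent] in
theorem pow_mem_deg {n : ℕ} {s : 𝒮.presheaf.obj (op U)} (hs : s ∈ 𝒮.deg U hU n) (M : ℕ) :
    s ^ M ∈ 𝒮.deg U hU (M * n) := by
  have := SetLike.pow_mem_graded M hs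
  rw [smul_eq_mul] at this
  exact this

include hjL hPL hU in
/-- the nonvanishing locus of a power -/
theorem NVU_pow (hL : PicF.IsInvertible L) {n : ℕ} (hn : 0 < n) (s : 𝒮.presheaf.obj (op U))
    (hs : s ∈ 𝒮.deg U hU n) {M : ℕ} (hM : 0 < M) (x : X) :
    NVU u U (M * n) (s ^ M) x ↔ NVU u U n s x := by
  have hiso : IsIso pL := isIso_proj_symLine hL hjL pL chartL hPL
  have hsM : s ^ M ∈ 𝒮.deg U hU (M * n) := pow_mem_deg hU hs M
  have key : x ∈ q ⁻¹ᵁ U → (NVU u U (M * n) (s ^ M) x ↔ NVU u U n s x) := by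
    intro hxU
    obtain ⟨V, g, hxV, hV, hg, hVU⟩ := exists_isGen_affine_le hL x _ hxU
    obtain ⟨z, hz⟩ : ∃ z : PL, pL z = x := ⟨(inv pL) x, by
      have := congrArg (fun k : X ⟶ X => k x) (IsIso.inv_hom_id pL)
      exact this⟩
    have hzV : pL z ∈ V := by rw [hz]; exact hxV
    obtain ⟨y, hy⟩ := (mem_range_emb pL chartL V hV z).2 hzV
    have hy2 : RelProj.emb pL chartL V hV y = z := hy
    have h1 := mem_basicOpen_tauU_iff hjL u pL chartL hPL hU hn s hs hV hVU hg y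
    have h2 := mem_basicOpen_tauU_iff hjL u pL chartL hPL hU (Nat.mul_pos hM hn) (s ^ M) hsM hV hVU hg y
    rw [hy2, hz] at h1 h2
    rw [← h1, ← h2, tauU_pow, Proj.basicOpen_pow _ _ _ hM]
  constructor
  · intro h
    have hxU : x ∈ q ⁻¹ᵁ U := by
      obtain ⟨V', hV', hVU, hxV', -⟩ := h
      exact hVU hxV'
    exact (key hxU).1 h
  · intro h
    have hxU : x ∈ q ⁻¹ᵁ U := by
      obtain ⟨V', hV', hVU, hxV', -⟩ := h
      exact hVU hxV'
    exact (key hxU).2 h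

include hjL hPL hU in
theorem XTU_pow (hL : PicF.IsInvertible L) {n : ℕ} (hn : 0 < n) (s : 𝒮.presheaf.obj (op U))
    (hs : s ∈ 𝒮.deg U hU n) {M : ℕ} (hM : 0 < M) :
    XTU u U (M * n) (s ^ M) = XTU u U n s := by
  ext x
  exact (mem_XTU_iff u _ _ x).trans ((NVU_pow hjL u pL chartL hPL hU hL hn s hs hM x).trans
    (mem_XTU_iff u n s x).symm)

include hjL hPL in
/-- finitely many sections of one degree witness condition (iii), for `q` locally of finite type -/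
theorem exists_cond3_witness_deg [LocallyOfFiniteType q] (hL : PicF.IsInvertible L) {n : ℕ} (hn : 0 < n)
    (s : 𝒮.presheaf.obj (op U)) (hs : s ∈ 𝒮.deg U hU n) (hV : IsAffineOpen (XTU u U n s))
    (h3 : Cond3U u hU n s) :
    ∃ M : ℕ, ∀ (M' N : ℕ), M ≤ M' → 0 < M' → M' * n = N →
      ∃ (K : Type u) (_ : Finite K) (f : K → 𝒮.presheaf.obj (op U)),
        (∀ k, f k ∈ 𝒮.deg U hU N) ∧
        ∀ (𝒮' : RelProj.QCGrAlg Y) (φ : 𝒮'.toQCAlg ⟶ 𝒮.toQCAlg) (u' : RelProj.QGrHom q 𝒮' 𝒮L)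
          (_ : ∀ U : Y.Opens, u'.app U = φ.hom.app (op U) ≫ u.app U),
          (∀ k, ∃ y : 𝒮'.presheaf.obj (op U), y ∈ 𝒮'.deg U hU N ∧ (φ.hom.app (op U)).hom y = f k) →
          ∃ y : 𝒮'.presheaf.obj (op U), y ∈ 𝒮'.deg U hU N ∧ XTU u' U N y = XTU u U n s ∧
            Cond3W u' hU N y (XTU u U n s) (XTU_le u n s) := by
  classical
  have hft : (q.appLE U (XTU u U n s) (XTU_le u n s)).hom.FiniteType :=
    HasRingHomProperty.appLE @LocallyOfFiniteType q inferInstance ⟨U, hU⟩ ⟨XTU u U n s, hV⟩ (XTU_le u n s)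
  obtain ⟨G, hG⟩ := @Algebra.FiniteType.out _ _ _ _ (q.appLE U (XTU u U n s) (XTU_le u n s)).hom.toAlgebra hft
  have hg : ∀ g : G, Good u hU n s (XTU u U n s) (XTU_le u n s) g.1 := fun g => h3 g.1
  choose m hm s' hs' heq using hg
  refine ⟨∑ g : G, m g, ?_⟩
  intro M' N hMM' hM' hN
  have hmle : ∀ g : G, m g ≤ M' := fun g =>
    (Finset.single_le_sum (f := m) (fun _ _ => Nat.zero_le _) (Finset.mem_univ g)).trans hMM'
  let f : Option G → 𝒮.presheaf.obj (op U) := fun k => k.elim (s ^ M') (fun g => s' g * s ^ (M' - m g))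
  have hf : ∀ k, f k ∈ 𝒮.deg U hU N := by
    intro k
    cases k with
    | none =>
      rw [← hN]
      exact pow_mem_deg hU hs M'
    | some g =>
      have h := SetLike.mul_mem_graded (hs' g) (pow_mem_deg hU hs (M' - m g))
      have e : m g * n + (M' - m g) * n = N := by
        rw [← add_mul, Nat.add_sub_cancel' (hmle g), hN]
      rw [e] at h
      exact h
  refine ⟨Option G, inferInstance, f, hf, ?_⟩
  intro 𝒮' φ u' hu H
  obtain ⟨y, hy, hys⟩ := H none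
  have hys' : (φ.hom.app (op U)).hom y = s ^ M' := hys
  have hX : XTU u' U N y = XTU u U n s := by
    rw [XTU_push u u' φ hu, hys', ← hN]
    exact XTU_pow hjL u pL chartL hPL hU hL hn s hs hM'
  refine ⟨y, hy, hX, ?_⟩
  refine cond3W_of_adjoin u' hU hy (XTU_le u n s) (G : Set _) hG ?_
  intro g hgG
  obtain ⟨y', hy', hy's⟩ := H (some ⟨g, hgG⟩)
  have hy's' : (φ.hom.app (op U)).hom y' = s' ⟨g, hgG⟩ * s ^ (M' - m ⟨g, hgG⟩) := hy's
  refine ⟨1, Nat.one_pos, y', by rw [one_mul]; exact hy', ?_⟩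
  rw [tauU_push u u' φ hu, tauU_push u u' φ hu, hys', hy's', pow_one, tauU_mul, tauU_pow, tauU_pow,
    ← heq ⟨g, hgG⟩, mul_assoc, ← pow_add, Nat.add_sub_cancel' (hmle ⟨g, hgG⟩)]

end pow

section familyN

variable {Y X PL : Scheme.{u}} {q : X ⟶ Y} {L : X.Modules} [L.IsQuasicoherent]
  {𝒮L : RelProj.QCGrAlg X} {jL : L ⟶ 𝒮L.toModule} (hjL : RelProj.IsGrSymAlg L 𝒮L jL)
  {𝒮 : RelProj.QCGrAlg Y} (u : RelProj.QGrHom q 𝒮 𝒮L)
  (pL : PL ⟶ X)
  (chartL : ∀ (U : X.Opens) (hU : IsAffineOpen U), (((pL ⁻¹ᵁ U : PL.Opens) : Scheme.{u}) ≅ Proj (𝒮L.deg U hU)))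
  (hPL : RelProj.IsRelProj 𝒮L pL chartL)

include hjL hPL in
/-- **a good family for `u` descends to `u ∘ φ` as soon as finitely many sections of one degree `N` lift along `φ`;
the new family has all its degrees equal to `N`** -/
theorem exists_goodFamily_witness_deg [LocallyOfFiniteType q] [CompactSpace X] (hL : PicF.IsInvertible L)
    {ι : Type u} (U : ι → Y.Opens)
    (hU : ∀ a, IsAffineOpen (U a)) (n : ι → ℕ) (s : ∀ a, 𝒮.presheaf.obj (op (U a)))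
    (h : IsGoodFamily u U hU n s) :
    ∃ (N : ℕ) (_ : 0 < N) (K : Type u) (_ : Finite K) (V : K → Y.Opens) (hV : ∀ k, IsAffineOpen (V k))
      (f : ∀ k, 𝒮.presheaf.obj (op (V k))), (∀ k, f k ∈ 𝒮.deg (V k) (hV k) N) ∧
      ∀ (𝒮' : RelProj.QCGrAlg Y) (φ : 𝒮'.toQCAlg ⟶ 𝒮.toQCAlg) (u' : RelProj.QGrHom q 𝒮' 𝒮L)
        (_ : ∀ U : Y.Opens, u'.app U = φ.hom.app (op U) ≫ u.app U),
        (∀ k, ∃ y : 𝒮'.presheaf.obj (op (V k)), y ∈ 𝒮'.deg (V k) (hV k) N ∧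
          (φ.hom.app (op (V k))).hom y = f k) →
        ∃ (ι' : Type u) (U' : ι' → Y.Opens) (hU' : ∀ a, IsAffineOpen (U' a))
          (s' : ∀ a, 𝒮'.presheaf.obj (op (U' a))), IsGoodFamily u' U' hU' (fun _ => N) s' := by
  classical
  obtain ⟨hns, hcov, haff, h3⟩ := h
  obtain ⟨F, hF⟩ := isCompact_univ.elim_finite_subcover (fun a => ((XTU u (U a) (n a) (s a) : X.Opens) : Set X))
    (fun a => (XTU u (U a) (n a) (s a)).isOpen) (fun x _ => by
      have hx : x ∈ (⨆ a, XTU u (U a) (n a) (s a)) := by rw [hcov]; trivial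
      obtain ⟨a, ha⟩ := Opens.mem_iSup.1 hx
      exact Set.mem_iUnion.2 ⟨a, ha⟩)
  have h1 := fun a : F => exists_cond3_witness_deg hjL u pL chartL hPL (hU a.1) hL (hns a.1).1 (s a.1)
    (hns a.1).2 (haff a.1) (h3 a.1)
  choose M₀ hM₀ using h1
  obtain ⟨N, hN, M', hM'⟩ := exists_common_mul (fun a : F => n a.1) (fun a => (hns a.1).1) (∑ a : F, M₀ a)
  have hle : ∀ a : F, M₀ a ≤ M' a := fun a =>
    (Finset.single_le_sum (f := M₀) (fun _ _ => Nat.zero_le _) (Finset.mem_univ a)).trans (hM' a).1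
  have h2 := fun a : F => hM₀ a (M' a) N (hle a) (hM' a).2.1 (hM' a).2.2
  choose K hK f hf hlift using h2
  have : ∀ a, Finite (K a) := hK
  refine ⟨N, hN, Σ a : F, K a, inferInstance, fun k => U k.1.1, fun k => hU k.1.1,
    fun k => f k.1 k.2, fun k => hf k.1 k.2, ?_⟩
  intro 𝒮' φ u' hu H
  have h4 := fun a : F => hlift a 𝒮' φ u' hu (fun k => H ⟨a, k⟩)
  choose y hy hX hy3 using h4
  refine ⟨F, fun a => U a.1, fun a => hU a.1, y, fun a => ⟨hN, hy a⟩, ?_, fun a => ?_, fun a => ?_⟩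
  · refine top_le_iff.1 fun x _ => ?_
    obtain ⟨a, haF, hxa⟩ : ∃ a, a ∈ F ∧ x ∈ XTU u (U a) (n a) (s a) := by
      have := hF (Set.mem_univ x)
      simp only [Set.mem_iUnion] at this
      obtain ⟨a, haF, hxa⟩ := this
      exact ⟨a, haF, hxa⟩
    refine Opens.mem_iSup.2 ⟨⟨a, haF⟩, ?_⟩
    rw [hX ⟨a, haF⟩]
    exact hxa
  · rw [hX a]
    exact haff a.1
  · exact cond3W_congr u' (hU a.1) N (y a) (hX a).symm _ _ (hy3 a)

end familyN

section mainN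

open Groth.Agent.Lib.Helper17.QCAlgGen Groth.Agent.Lib.Helper17.QCAlgSub

variable {Y X P PL : Scheme.{u}} {q : X ⟶ Y} {L : X.Modules} [L.IsQuasicoherent]
  {𝒮L : RelProj.QCGrAlg X} {jL : L ⟶ 𝒮L.toModule} (hjL : RelProj.IsGrSymAlg L 𝒮L jL)
  {𝒮 : RelProj.QCGrAlg Y} (u : RelProj.QGrHom q 𝒮 𝒮L)
  (p : P ⟶ Y) (chart : ∀ (U : Y.Opens) (hU : IsAffineOpen U), (((p ⁻¹ᵁ U : P.Opens) : Scheme.{u}) ≅ Proj (𝒮.deg U hU)))
  (hP : RelProj.IsRelProj 𝒮 p chart)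
  (pL : PL ⟶ X)
  (chartL : ∀ (U : X.Opens) (hU : IsAffineOpen U), (((pL ⁻¹ᵁ U : PL.Opens) : Scheme.{u}) ≅ Proj (𝒮L.deg U hU)))
  (hPL : RelProj.IsRelProj 𝒮L pL chartL)
  (r : ((RelProj.domQ u pL chartL : PL.Opens) : Scheme.{u}) ⟶ P)
  (hr : RelProj.IsProjQMapOn u p chart pL chartL (RelProj.domQ u pL chartL) r)

include hjL hP hPL hr in
/-- **(EGA II 3.8.5, direct part)** -/
theorem exists_ft_subalgebra_of_immersion [CompactSpace Y] [QuasiSeparatedSpace Y] [QuasiCompact q]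
    [LocallyOfFiniteType q] (hL : PicF.IsInvertible L) (htop : RelProj.domQ u pL chartL = ⊤)
    (himm : IsImmersion r) :
    ∃ (n : ℕ) (_ : 0 < n) (𝒮' : RelProj.QCGrAlg Y) (j' : 𝒮'.toQCAlg ⟶ 𝒮.toQCAlg) (_ : RelProj.IsGradedHom j')
      (_ : ∀ (U : Y.Opens), IsAffineOpen U → Function.Injective (j'.hom.app (op U)).hom)
      (_ : ∀ (U : Y.Opens) (hU : IsAffineOpen U),
        ((𝒮'.deg U hU 0 : AddSubgroup (𝒮'.presheaf.obj (op U))) : Set (𝒮'.presheaf.obj (op U))) =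
          Set.range (𝒮'.str.app (op U)).hom)
      (_ : ∀ (U : Y.Opens) (hU : IsAffineOpen U),
        Subring.closure (((𝒮'.deg U hU 0 : AddSubgroup (𝒮'.presheaf.obj (op U))) : Set (𝒮'.presheaf.obj (op U))) ∪
          ((𝒮'.deg U hU n : AddSubgroup (𝒮'.presheaf.obj (op U))) : Set (𝒮'.presheaf.obj (op U)))) = ⊤)
      (_ : 𝒮'.IsFTDeg n)
      (u' : RelProj.QGrHom q 𝒮' 𝒮L) (_ : ∀ U : Y.Opens, u'.app U = j'.hom.app (op U) ≫ u.app U),
      (∀ x : X, ∃ (U : Y.Opens) (hU : IsAffineOpen U) (e : 𝒮'.presheaf.obj (op U)) (_ : e ∈ 𝒮'.deg U hU n)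
          (V : X.Opens) (hV : IsAffineOpen V) (hVU : V ≤ q ⁻¹ᵁ U), x ∈ V ∧
            ((𝒮L.deg V hV n : AddSubgroup (𝒮L.presheaf.obj (op V))) : Set (𝒮L.presheaf.obj (op V))) ⊆
              (Ideal.span {(u'.appLE U V hVU).hom e} : Set (𝒮L.presheaf.obj (op V)))) ∧
      (∀ (P' : Scheme.{u}) (p' : P' ⟶ Y)
          (chart' : ∀ (U : Y.Opens) (hU : IsAffineOpen U), (((p' ⁻¹ᵁ U : P'.Opens) : Scheme.{u}) ≅ Proj (𝒮'.deg U hU)))
          (_ : RelProj.IsRelProj 𝒮' p' chart')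
          (r' : ((RelProj.domQ u' pL chartL : PL.Opens) : Scheme.{u}) ⟶ P')
          (_ : RelProj.IsProjQMapOn u' p' chart' pL chartL (RelProj.domQ u' pL chartL) r'),
        RelProj.domQ u' pL chartL = ⊤ ∧ IsImmersion r') := by
  classical
  have : CompactSpace X := QuasiCompact.compactSpace_of_compactSpace q
  obtain ⟨ι₀, U, hU, n, s, hfam⟩ := exists_family_of_immersion hjL u p chart hP pL chartL hPL r hr hL htop himm
  obtain ⟨N, hN, K, hK, V, hV, f, hf, hlift⟩ := exists_goodFamily_witness_deg hjL u pL chartL hPL hL U hU n s hfam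
  have := hK
  have h4 := fun k => DegMod.exists_incl 𝒮 N (hV k) (f k) (hf k)
  choose m hm using h4
  obtain ⟨E, ι, hmono, hq, hft, hE4⟩ := exists_ft_sub_family (DegMod.degMod 𝒮 N) V hV (fun k => {m k})
  have := hq
  have := hft
  have hj : ∀ (U : Y.Opens) (hU : IsAffineOpen U) (e : Γ(E, U)),
      jB (ι ≫ DegMod.incl 𝒮 N) U e ∈ 𝒮.deg U hU N := fun U hU e => DegMod.incl_mem 𝒮 N hU (ι.app U e)
  have hu' : ∀ U : Y.Opens, (precomp u (GrSubAlg.incl 𝒮 _ hj) (GrSubAlg.isGradedHom_incl 𝒮 _ hj)).app U =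
      (GrSubAlg.incl 𝒮 _ hj).hom.app (op U) ≫ u.app U := fun U => rfl
  obtain ⟨ι', U', hU', s', hfam'⟩ := hlift (GrSubAlg.subGrAlg 𝒮 _ hj) (GrSubAlg.incl 𝒮 _ hj)
    (precomp u (GrSubAlg.incl 𝒮 _ hj) (GrSubAlg.isGradedHom_incl 𝒮 _ hj)) hu' (fun k => by
      obtain ⟨e, he⟩ := hE4 k (m k) (Finset.mem_singleton_self _)
      refine ⟨genOf (ι ≫ DegMod.incl 𝒮 N) (hV k) e, GrSubAlg.genOf_mem_deg 𝒮 _ hj (V k) (hV k) e, ?_⟩
      show (DegMod.incl 𝒮 N).app (V k) (ι.app (V k) e) = f k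
      rw [he]
      exact hm k)
  refine ⟨N, hN, GrSubAlg.subGrAlg 𝒮 _ hj, GrSubAlg.incl 𝒮 _ hj, GrSubAlg.isGradedHom_incl 𝒮 _ hj,
    fun U _ => GrSubAlg.incl_injective 𝒮 _ hj U, GrSubAlg.deg_zero_eq 𝒮 _ hN hj,
    GrSubAlg.closure_eq_top 𝒮 _ hj, GrSubAlg.isFTDeg 𝒮 _ hN hj,
    precomp u (GrSubAlg.incl 𝒮 _ hj) (GrSubAlg.isGradedHom_incl 𝒮 _ hj), hu', ?_, ?_⟩
  · intro x
    obtain ⟨hns, hcov, -, -⟩ := hfam'
    have hx : x ∈ (⨆ a, XTU (precomp u (GrSubAlg.incl 𝒮 _ hj) (GrSubAlg.isGradedHom_incl 𝒮 _ hj))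
        (U' a) N (s' a)) := by rw [hcov]; trivial
    obtain ⟨a, ha⟩ := Opens.mem_iSup.1 hx
    obtain ⟨V', hV', hVU, hxV', hsub⟩ := (mem_XTU_iff _ N (s' a) x).1 ha
    exact ⟨U' a, hU' a, s' a, (hns a).2, V', hV', hVU, hxV', hsub⟩
  · intro P' p' chart' hP' r' hr'
    exact immersion_of_family hjL _ p' chart' hP' pL chartL hPL r' hr' hL U' hU' (fun _ => N) s' hfam'

include hjL hP hPL hr in
/-- **(EGA II 3.8.5, converse part)** -/
theorem immersion_of_subalgebra (hL : PicF.IsInvertible L)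
    {𝒮' : RelProj.QCGrAlg Y} (j' : 𝒮'.toQCAlg ⟶ 𝒮.toQCAlg) (hj' : RelProj.IsGradedHom j')
    (u' : RelProj.QGrHom q 𝒮' 𝒮L) (hu' : ∀ U : Y.Opens, u'.app U = j'.hom.app (op U) ≫ u.app U)
    (H : ∀ (P' : Scheme.{u}) (p' : P' ⟶ Y)
          (chart' : ∀ (U : Y.Opens) (hU : IsAffineOpen U), (((p' ⁻¹ᵁ U : P'.Opens) : Scheme.{u}) ≅ Proj (𝒮'.deg U hU)))
          (_ : RelProj.IsRelProj 𝒮' p' chart')
          (r' : ((RelProj.domQ u' pL chartL : PL.Opens) : Scheme.{u}) ⟶ P')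
          (_ : RelProj.IsProjQMapOn u' p' chart' pL chartL (RelProj.domQ u' pL chartL) r'),
        RelProj.domQ u' pL chartL = ⊤ ∧ IsImmersion r') :
    RelProj.domQ u pL chartL = ⊤ ∧ IsImmersion r := by
  have hP' := RelProjExists.isRelProj 𝒮'
  obtain ⟨r', hr', -⟩ := ProjQRel.existsUnique_glueW u' (RelProjExists.p 𝒮') (RelProjExists.chart 𝒮') hP' pL chartL hPL
  have hr'On := ProjQRel.isProjQMapOn_of_glue u' (RelProjExists.p 𝒮') (RelProjExists.chart 𝒮') pL chartL r' hr'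
  obtain ⟨htop', himm'⟩ := H _ _ _ hP' r' hr'On
  obtain ⟨ι₀, U, hU, n, s, hfam⟩ := exists_family_of_immersion hjL u' _ _ hP' pL chartL hPL r' hr'On hL htop' himm'
  exact immersion_of_family hjL u p chart hP pL chartL hPL r hr hL U hU n _
    (isGoodFamily_push u u' j' hj' hu' U hU n s hfam)

end mainN

end Groth.Agent.Lib.Helper28.FTApprox
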