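import Groth.Agent.Lib.Helper28.TwistGG

/-!
# Finite generation by global sections

A quasi-coherent module of finite type on a quasi-compact scheme which is generated by its global sections is
generated by finitely many of them.
-/

set_option autoImplicit false
universe u
open CategoryTheory CategoryTheory.Limits AlgebraicGeometry Opposite TopologicalSpace
noncomputable section

namespace Groth.Agent.Lib.Helper28.GenLocus

open Groth.Agent.Lib.Helper28 Groth.Agent.Lib.Helper28.QCohLoc Groth.Agent.Lib.Helper28.TensorGen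
  Groth.Agent.Lib.Helper28.InvTensor Groth.Agent.Lib.Helper28.AmpleUnit Groth.Agent.Lib.Helper28.TwistAmple
  Groth.Agent.Lib.Helper28.FinType

variable {X : Scheme.{u}}

/-- the morphism from a free module defined by a family of global sections -/
def fromFam (N : X.Modules) {I : Type u} (t : I → Γ(N, ⊤)) : (SheafOfModules.free I : X.Modules) ⟶ N :=
  (SheafOfModules.freeHomEquiv _).symm (fun i => QCohLoc.globalSection N (t i))

theorem fromFam_app (N : X.Modules) {I : Type u} (t : I → Γ(N, ⊤)) (V : X.Opens) (i : I) :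
    Scheme.Modules.Hom.app (M := (SheafOfModules.free I : X.Modules)) (N := N) (fromFam N t) V
      ((SheafOfModules.freeSection (R := X.ringCatSheaf) i).1 (op V)) = res N (le_top : V ≤ ⊤) (t i) := by
  have h := SheafOfModules.sectionsMap_freeHomEquiv_symm_freeSection
    (fun i => QCohLoc.globalSection N (t i)) i
  exact congr_arg (fun s : N.sections => s.1 (op V)) h

/-- `N` is generated at `x` by the family `t` of global sections -/
def FamGenAt (N : X.Modules) {I : Type*} (t : I → Γ(N, ⊤)) (x : X) : Prop :=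
  ∀ (U : X.Opens) (y : Γ(N, U)), x ∈ U → ∃ (V : X.Opens) (hV : V ≤ U), x ∈ V ∧
    res N hV y ∈ Submodule.span Γ(X, V) (Set.range fun i => res N (le_top : V ≤ ⊤) (t i))

theorem epi_fromFam (N : X.Modules) {I : Type u} (t : I → Γ(N, ⊤)) (h : ∀ x : X, FamGenAt N t x) :
    Epi (fromFam N t) := by
  apply epi_of_locally_in_range (G := (SheafOfModules.free I : X.Modules)) (F := N)
  intro U y pt hpt
  obtain ⟨V, hV, hptV, hmem⟩ := h pt U y hpt
  refine ⟨V, hV, hptV, ?_⟩
  refine Submodule.span_induction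
    (p := fun z _ => ∃ y' : Γ((SheafOfModules.free I : X.Modules), V),
      Scheme.Modules.Hom.app (M := (SheafOfModules.free I : X.Modules)) (N := N)
        (fromFam N t) V y' = z) ?_ ?_ ?_ ?_ hmem
  · rintro _ ⟨i, rfl⟩
    exact ⟨(SheafOfModules.freeSection (R := X.ringCatSheaf) i).1 (op V), fromFam_app N t V i⟩
  · exact ⟨0, map_zero _⟩
  · rintro z z' _ _ ⟨a, rfl⟩ ⟨a', rfl⟩
    exact ⟨a + a', map_add _ _ _⟩
  · rintro c z _ ⟨a, rfl⟩
    exact ⟨(c • a : Γ((SheafOfModules.free I : X.Modules), V)), Scheme.Modules.Hom.app_smul _ _ _⟩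

theorem res_mem_span_fam (N : X.Modules) {I : Type*} (t : I → Γ(N, ⊤)) {V V' : X.Opens} (h : V' ≤ V) {z : Γ(N, V)}
    (hz : z ∈ Submodule.span Γ(X, V) (Set.range fun i => res N (le_top : V ≤ ⊤) (t i))) :
    res N h z ∈ Submodule.span Γ(X, V') (Set.range fun i => res N (le_top : V' ≤ ⊤) (t i)) := by
  refine Submodule.span_induction
    (p := fun z _ => res N h z ∈ Submodule.span Γ(X, V') (Set.range fun i => res N (le_top : V' ≤ ⊤) (t i)))
    ?_ ?_ ?_ ?_ hz
  · rintro _ ⟨i, rfl⟩
    rw [res_res]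
    exact Submodule.subset_span ⟨i, rfl⟩
  · rw [res_zero]
    exact Submodule.zero_mem _
  · intro a b _ _ ha hb
    rw [res_add]
    exact Submodule.add_mem _ ha hb
  · intro c a _ ha
    rw [res_smul]
    exact Submodule.smul_mem _ _ ha

theorem span_fam_mono (N : X.Modules) {S S' : Finset Γ(N, ⊤)} (hSS' : S ⊆ S') (V : X.Opens) :
    Submodule.span Γ(X, V) (Set.range fun T : S => res N (le_top : V ≤ ⊤) T.1) ≤
      Submodule.span Γ(X, V) (Set.range fun T : S' => res N (le_top : V ≤ ⊤) T.1) := by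
  refine Submodule.span_mono ?_
  rintro _ ⟨T, rfl⟩
  exact ⟨⟨T.1, hSS' T.2⟩, rfl⟩

/-- membership in the span of the global sections involves finitely many of them -/
theorem exists_finset_of_mem_span_global (N : X.Modules) {V : X.Opens} {z : Γ(N, V)}
    (hz : z ∈ Submodule.span Γ(X, V) (Set.range fun T : Γ(N, ⊤) => res N (le_top : V ≤ ⊤) T)) :
    ∃ S : Finset Γ(N, ⊤), z ∈ Submodule.span Γ(X, V) (Set.range fun T : S => res N (le_top : V ≤ ⊤) T.1) := by
  classical
  refine Submodule.span_induction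
    (p := fun z _ => ∃ S : Finset Γ(N, ⊤),
      z ∈ Submodule.span Γ(X, V) (Set.range fun T : S => res N (le_top : V ≤ ⊤) T.1)) ?_ ?_ ?_ ?_ hz
  · rintro _ ⟨T, rfl⟩
    exact ⟨{T}, Submodule.subset_span ⟨⟨T, Finset.mem_singleton_self T⟩, rfl⟩⟩
  · exact ⟨∅, Submodule.zero_mem _⟩
  · rintro a b _ _ ⟨S, ha⟩ ⟨S', hb⟩
    exact ⟨S ∪ S', Submodule.add_mem _ (span_fam_mono N Finset.subset_union_left V ha)
      (span_fam_mono N Finset.subset_union_right V hb)⟩
  · rintro c a _ ⟨S, ha⟩
    exact ⟨S, Submodule.smul_mem _ _ ha⟩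

/-- local finite generation by global sections around a point of generation -/
theorem exists_nhd_finset_famGenAt (N : X.Modules) [N.IsQuasicoherent]
    [SheafOfModules.IsFiniteType.{u} (R := X.ringCatSheaf) N] (x : X) (h : GGAt N x) :
    ∃ (V : X.Opens) (S : Finset Γ(N, ⊤)), x ∈ V ∧ ∀ pt ∈ V, FamGenAt N (fun T : S => T.1) pt := by
  classical
  obtain ⟨_, ⟨W, hW, rfl⟩, hxW, -⟩ := X.isBasis_affineOpens.exists_subset_of_mem_open
    (show x ∈ ((⊤ : X.Opens) : Set X) from trivial) (⊤ : X.Opens).isOpen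
  have hxW' : x ∈ (W : X.Opens) := hxW
  have hfin : Module.Finite Γ(X, W) Γ(N, W) := finite_of_isAffineOpen (M := N) hW
  obtain ⟨G, hG⟩ := hfin.fg_top
  have key : ∀ ν : Γ(N, W), ∃ (V : X.Opens) (hV : V ≤ W) (S : Finset Γ(N, ⊤)), x ∈ V ∧
      res N hV ν ∈ Submodule.span Γ(X, V) (Set.range fun T : S => res N (le_top : V ≤ ⊤) T.1) := by
    intro ν
    obtain ⟨V, hV, hxV, hmem⟩ := h W ν hxW'
    obtain ⟨S, hS⟩ := exists_finset_of_mem_span_global N hmem
    exact ⟨V, hV, S, hxV, hS⟩
  have hall : ∀ G' : Finset Γ(N, W), ∃ (V : X.Opens) (hV : V ≤ W) (S : Finset Γ(N, ⊤)), x ∈ V ∧ ∀ ν ∈ G',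
      res N hV ν ∈ Submodule.span Γ(X, V) (Set.range fun T : S => res N (le_top : V ≤ ⊤) T.1) := by
    intro G'
    induction G' using Finset.induction_on with
    | empty => exact ⟨W, le_rfl, ∅, hxW', fun ν hν => absurd hν (Finset.notMem_empty ν)⟩
    | insert ν G' _ ih =>
      obtain ⟨V, hV, S, hxV, hS⟩ := ih
      obtain ⟨V', hV', S', hxV', hS'⟩ := key ν
      refine ⟨V ⊓ V', inf_le_left.trans hV, S ∪ S', ⟨hxV, hxV'⟩, fun μ hμ => ?_⟩
      rcases Finset.mem_insert.1 hμ with rfl | hμ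
      · have h1 := res_mem_span_fam N (fun T : S' => T.1) (inf_le_right : V ⊓ V' ≤ V') hS'
        rw [res_res] at h1
        exact span_fam_mono N Finset.subset_union_right _ h1
      · have h1 := res_mem_span_fam N (fun T : S => T.1) (inf_le_left : V ⊓ V' ≤ V) (hS μ hμ)
        rw [res_res] at h1
        exact span_fam_mono N Finset.subset_union_left _ h1
  obtain ⟨V₀, hV₀, S₀, hxV₀, hS₀⟩ := hall G
  have hb : ∀ b : Γ(N, W),
      res N hV₀ b ∈ Submodule.span Γ(X, V₀) (Set.range fun T : S₀ => res N (le_top : V₀ ≤ ⊤) T.1) := by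
    intro b
    have hbG : b ∈ Submodule.span Γ(X, W) (G : Set Γ(N, W)) := by rw [hG]; trivial
    refine Submodule.span_induction
      (p := fun b _ => res N hV₀ b ∈
        Submodule.span Γ(X, V₀) (Set.range fun T : S₀ => res N (le_top : V₀ ≤ ⊤) T.1)) ?_ ?_ ?_ ?_ hbG
    · intro ν hν
      exact hS₀ ν hν
    · rw [res_zero]
      exact Submodule.zero_mem _
    · intro a a' _ _ ha ha'
      rw [res_add]
      exact Submodule.add_mem _ ha ha'
    · intro c a _ ha
      rw [res_smul]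
      exact Submodule.smul_mem _ _ ha
  refine ⟨V₀, S₀, hxV₀, fun pt hpt U y hptU => ?_⟩
  have hptW : pt ∈ (W : X.Opens) := hV₀ hpt
  obtain ⟨r, hrW, hxr⟩ := hW.exists_basicOpen_le (V := U ⊓ W) ⟨pt, ⟨hptU, hptW⟩⟩ hptW
  obtain ⟨n, b, hnb⟩ := (isLocOn_of_isQuasicoherent N hW).surj r (res N (hrW.trans inf_le_left) y)
  have hunit : IsUnit (resO (X.basicOpen_le r) r) := RingedSpace.isUnit_res_basicOpen _ r
  obtain ⟨u, hu⟩ := hunit.pow n
  have e2 : res N (hrW.trans inf_le_left) y =
      ((↑u⁻¹ : Γ(X, X.basicOpen r)) • res N (X.basicOpen_le r) b : Γ(N, X.basicOpen r)) := by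
    rw [← hnb, ← hu, ← mul_smul, Units.inv_mul, one_smul]
  refine ⟨X.basicOpen r ⊓ V₀, inf_le_left.trans (hrW.trans inf_le_left), ⟨hxr, hpt⟩, ?_⟩
  have e3 : res N (inf_le_left.trans (hrW.trans inf_le_left) : X.basicOpen r ⊓ V₀ ≤ U) y =
      (resO (inf_le_left : X.basicOpen r ⊓ V₀ ≤ X.basicOpen r) (↑u⁻¹ : Γ(X, X.basicOpen r)) •
        res N (inf_le_right : X.basicOpen r ⊓ V₀ ≤ V₀) (res N hV₀ b) : Γ(N, X.basicOpen r ⊓ V₀)) := by
    have := congrArg (res N (inf_le_left : X.basicOpen r ⊓ V₀ ≤ X.basicOpen r)) e2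
    rw [res_res, res_smul, res_res] at this
    rw [this, res_res]
  rw [e3]
  exact Submodule.smul_mem _ _ (res_mem_span_fam N (fun T : S₀ => T.1) inf_le_right (hb b))

/-- **finite generation by global sections** on a quasi-compact scheme -/
theorem exists_finset_famGenAt [CompactSpace X] (N : X.Modules) [N.IsQuasicoherent]
    [SheafOfModules.IsFiniteType.{u} (R := X.ringCatSheaf) N] (h : ∀ x : X, GGAt N x) :
    ∃ S : Finset Γ(N, ⊤), ∀ x : X, FamGenAt N (fun T : S => T.1) x := by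
  classical
  choose V S hxV hV using fun x => exists_nhd_finset_famGenAt N x (h x)
  obtain ⟨t, ht⟩ := finite_cover_nhds (U := fun x => ((V x : X.Opens) : Set X))
    (fun x => (V x).isOpen.mem_nhds (hxV x))
  refine ⟨t.biUnion S, fun x => ?_⟩
  obtain ⟨p, hpt, hxp⟩ : ∃ p ∈ t, x ∈ V p := by
    have : x ∈ ⋃ y ∈ t, ((V y : X.Opens) : Set X) := by rw [ht]; trivial
    simp only [Set.mem_iUnion] at this
    obtain ⟨y, hy, hxy⟩ := this
    exact ⟨y, hy, hxy⟩
  intro U y hxU
  obtain ⟨V', hV', hxV', hmem⟩ := hV p x hxp U y hxU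
  exact ⟨V', hV', hxV', span_fam_mono N (Finset.subset_biUnion_of_mem S hpt) _ hmem⟩

/-- a quotient of a free module of finite rank -/
theorem exists_epi_free_finite [CompactSpace X] (N : X.Modules) [N.IsQuasicoherent]
    [SheafOfModules.IsFiniteType.{u} (R := X.ringCatSheaf) N] (h : ∀ x : X, GGAt N x) :
    ∃ (I : Type u) (_ : Finite I) (π : (SheafOfModules.free I : X.Modules) ⟶ N), Epi π := by
  obtain ⟨S, hS⟩ := exists_finset_famGenAt N h
  exact ⟨S, inferInstance, fromFam N (fun T : S => T.1), epi_fromFam N _ hS⟩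

/-- **Serre's theorem, pointwise form**: `F ⊗ L^n` is generated by its global sections at every point, for all
large `n` -/
theorem exists_forall_ggAt [QuasiSeparatedSpace X] {L : X.Modules}
    (hL : CohB1.IsAmple L) (F : X.Modules) (hF : Coh.IsCoh F) :
    ∃ n₀ : ℕ, ∀ n : ℕ, n₀ ≤ n → ∀ x : X, GGAt (CohB1.tensorMod F (CohB1.tensorPow L n)) x := by
  classical
  haveI : F.IsQuasicoherent := hF.1
  haveI : SheafOfModules.IsFiniteType.{u} (R := X.ringCatSheaf) F := hF.2
  obtain ⟨hinv, hcomp, hpts⟩ := hL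
  haveI := hcomp
  choose m s hxs haff using hpts
  obtain ⟨T, hT⟩ := finite_cover_nhds (U := fun x => (CohB1.genLocus _ (s x) : Set X))
    (fun x => (CohB1.genLocus _ (s x)).isOpen.mem_nhds (hxs x))
  have h2 : ∀ (p : X) (r : ℕ), ∃ k₀ : ℕ, ∀ K : ℕ, k₀ ≤ K → ∀ x : X, x ∈ CohB1.genLocus _ (s p) →
      GGAt (CohB1.tensorMod (CohB1.tensorMod F (CohB1.tensorPow L r))
        (CohB1.tensorPow (CohB1.tensorPow L (m p + 1)) K)) x := by
    intro p r
    have htw := (IsTwist.refl F L).tensorPow r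
    haveI := htw.isQuasicoherent hinv
    haveI := htw.isFiniteType hinv
    exact exists_ggAt_of_affine (isInvertible_tensorPow hinv (m p + 1)) (s p) (haff p) _
      (finite_of_isAffineOpen (CohB1.tensorMod F (CohB1.tensorPow L r)) (haff p))
  choose k₀ hk₀ using h2
  refine ⟨T.sup (fun p => (m p + 1) * ((Finset.range (m p + 1)).sup (k₀ p) + 1)), fun n hn x => ?_⟩
  obtain ⟨p, hpT, hxp⟩ : ∃ p ∈ T, x ∈ CohB1.genLocus _ (s p) := by
    have : x ∈ ⋃ y ∈ T, (CohB1.genLocus _ (s y) : Set X) := by rw [hT]; trivial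
    simp only [Set.mem_iUnion] at this
    obtain ⟨y, hy, hxy⟩ := this
    exact ⟨y, hy, hxy⟩
  have hn1 : (m p + 1) * ((Finset.range (m p + 1)).sup (k₀ p) + 1) ≤ n :=
    (Finset.le_sup (f := fun p => (m p + 1) * ((Finset.range (m p + 1)).sup (k₀ p) + 1)) hpT).trans hn
  have hK : k₀ p (n % (m p + 1)) ≤ n / (m p + 1) := by
    have h3 : k₀ p (n % (m p + 1)) ≤ (Finset.range (m p + 1)).sup (k₀ p) :=
      Finset.le_sup (f := k₀ p) (Finset.mem_range.2 (Nat.mod_lt _ (Nat.succ_pos _)))
    have h4 : (Finset.range (m p + 1)).sup (k₀ p) + 1 ≤ n / (m p + 1) := by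
      rw [Nat.le_div_iff_mul_le (Nat.succ_pos _), mul_comm]
      exact hn1
    omega
  have hgg := hk₀ p (n % (m p + 1)) (n / (m p + 1)) hK x hxp
  have tw1 := ((IsTwist.refl F L).tensorPow (n % (m p + 1))).tensorPowPow (m p + 1) (n / (m p + 1))
  have tw2 := (IsTwist.refl F L).tensorPow n
  have hdeg : 0 + n % (m p + 1) + (m p + 1) * (n / (m p + 1)) = 0 + n := by
    rw [zero_add, zero_add]
    exact Nat.mod_add_div n (m p + 1)
  obtain ⟨ψ, -⟩ := (tw1.congr_deg hdeg).exists_iso tw2 hinv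
  exact hgg.of_iso ψ

/-- a quotient of a free module of finite rank is of finite type -/
theorem isFiniteType_of_epi_free (N : X.Modules) (I : Type u) [Finite I]
    (π : (SheafOfModules.free I : X.Modules) ⟶ N) (hπ : Epi π) :
    SheafOfModules.IsFiniteType.{u} (R := X.ringCatSheaf) N := by
  let G : SheafOfModules.GeneratingSections (R := X.ringCatSheaf) N :=
    { I := I
      s := SheafOfModules.freeHomEquiv N π
      epi := by rw [Equiv.symm_apply_apply]; exact hπ }
  have hG : G.IsFiniteType := ⟨‹Finite I›⟩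
  have h2 : G.localGeneratorsData.IsFiniteType :=
    { isFiniteType := fun i => by
        exact { finite := (inferInstance : Finite I) } }
  constructor
  exact ⟨G.localGeneratorsData, h2⟩

/-- a free module of finite rank is of finite type -/
theorem isFiniteType_free (X : Scheme.{u}) (I : Type u) [Finite I] :
    SheafOfModules.IsFiniteType.{u} (R := X.ringCatSheaf) (SheafOfModules.free I : X.Modules) :=
  isFiniteType_of_epi_free _ I (𝟙 _) inferInstance

end Groth.Agent.Lib.Helper28.GenLocus
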