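import Mathlib
import Groth.Agent.Lib.Helper28.FinQuotSect
import Groth.Agent.Lib.Helper28.FinQuotExistB

/-!
# Coset decomposition: `Y/H ≅ X/G` when `X = ⊔_{G/H} gY` (helper28)
-/

set_option autoImplicit false
universe u
open CategoryTheory CategoryTheory.Limits AlgebraicGeometry Opposite TopologicalSpace

namespace Groth.Agent.Lib.Helper28.FinQuotCoset

open Groth.Agent.Lib.Helper28 Groth.Agent.Lib.Helper28.FinQuot
open Groth.Agent.Lib.Helper28.FinQuotSect (ρ_mul_apply ρ_one_apply ρ_inv_apply exists_extension)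

section Sheaf

variable {X : Scheme.{u}} (Y Yc : X.Opens) (hdisjY : Y ⊓ Yc = ⊥) (hcovY : Y ⊔ Yc = ⊤)

include hdisjY hcovY in
theorem exists_extension' (W W' : X.Opens) (hW' : W' = Y ⊓ W) (c : Γ(X, W')) :
    ∃ b : Γ(X, W), (X.presheaf.map (homOfLE (hW' ▸ inf_le_right : W' ≤ W)).op).hom b = c ∧
      (X.presheaf.map (homOfLE (inf_le_right : Yc ⊓ W ≤ W)).op).hom b = 0 := by
  subst hW'
  exact exists_extension Y Yc hdisjY hcovY W c

include hcovY in
theorem eq_zero_of_res (W W' : X.Opens) (hW' : W' = Y ⊓ W) (b : Γ(X, W))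
    (h1 : (X.presheaf.map (homOfLE (hW' ▸ inf_le_right : W' ≤ W)).op).hom b = 0)
    (h2 : (X.presheaf.map (homOfLE (inf_le_right : Yc ⊓ W ≤ W)).op).hom b = 0) : b = 0 := by
  subst hW'
  refine X.sheaf.eq_of_locally_eq₂ (homOfLE (inf_le_right : Y ⊓ W ≤ W))
    (homOfLE (inf_le_right : Yc ⊓ W ≤ W)) ?_ b 0 ?_ ?_
  · intro x hx
    have hx' : x ∈ Y ⊔ Yc := by rw [hcovY]; trivial
    rcases Opens.mem_sup.mp hx' with h | h
    · exact Opens.mem_sup.mpr (Or.inl ⟨h, hx⟩)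
    · exact Opens.mem_sup.mpr (Or.inr ⟨h, hx⟩)
  · exact h1.trans (map_zero _).symm
  · exact h2.trans (map_zero _).symm

end Sheaf

variable {X XG : Scheme.{u}} {G : Type u} [Group G] [Finite G] (ρ : G →* Aut X) (p : X ⟶ XG)
  (hP : SGA1.IsQuot ρ p) (H : Subgroup G) (Y : X.Opens)
  (hcov : ∀ x : X, ∃ g : G, x ∈ (ρ g).hom.base '' (Y : Set X))
  (hdisj : ∀ g : G, g ∉ H → Disjoint ((ρ g).hom.base '' (Y : Set X)) (Y : Set X))
  (ρY : H →* Aut (Y : Scheme.{u})) (hρY : ∀ h : H, (ρY h).hom ≫ Y.ι = Y.ι ≫ (ρ (h : G)).hom)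

include hP hcov hdisj hρY in
set_option backward.isDefEq.respectTransparency false in
theorem isQuot_of_cosets : SGA1.IsQuot ρY (Y.ι ≫ p) := by
  classical
  haveI := hP.affine
  have hHY : ∀ h : G, h ∈ H → ∀ y : X, y ∈ Y → (ρ h).hom y ∈ Y := by
    intro h hh y hy
    have h1 := congr($(hρY ⟨h, hh⟩) ⟨y, hy⟩)
    rw [Scheme.Hom.comp_apply, Scheme.Hom.comp_apply] at h1
    change _ = (ρ h).hom y at h1
    rw [← h1]
    exact ((ρY ⟨h, hh⟩).hom ⟨y, hy⟩).2
  have hmove : ∀ g : G, g ∉ H → ∀ y : X, y ∈ Y → (ρ g).hom y ∉ Y := by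
    intro g hg y hy hy'
    exact Set.disjoint_left.mp (hdisj g hg) ⟨y, hy, rfl⟩ hy'
  let Yc : X.Opens := ⨆ g : {g : G // g ∉ H}, (ρ g.1).hom ⁻¹ᵁ Y
  have hmemYc : ∀ x : X, x ∈ Yc ↔ ∃ g : G, g ∉ H ∧ (ρ g).hom x ∈ Y := by
    intro x
    constructor
    · intro hx
      obtain ⟨g, hg⟩ := Opens.mem_iSup.mp hx
      exact ⟨g.1, g.2, hg⟩
    · rintro ⟨g, hg, hx⟩
      exact Opens.mem_iSup.mpr ⟨⟨g, hg⟩, hx⟩
  have hdisjY : Y ⊓ Yc = ⊥ := by
    apply le_bot_iff.mp
    rintro x ⟨hxY, hxc⟩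
    obtain ⟨g, hg, hx⟩ := (hmemYc x).mp hxc
    exact (hmove g hg x hxY hx).elim
  have hcovY : Y ⊔ Yc = ⊤ := by
    apply top_le_iff.mp
    intro x _
    obtain ⟨g, y, hy, hyx⟩ := hcov x
    change (ρ g).hom y = x at hyx
    have h1 : (ρ g⁻¹).hom x = y := by rw [← hyx, ρ_inv_apply]
    by_cases hg : g ∈ H
    · exact Opens.mem_sup.mpr (Or.inl (hyx ▸ hHY g hg y hy))
    · refine Opens.mem_sup.mpr (Or.inr ((hmemYc x).mpr ⟨g⁻¹, fun h => hg (inv_mem_iff.mp h), ?_⟩))
      rw [h1]; exact hy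
  have hF3 : ∀ g : G, g ∉ H → Y ≤ (ρ g).hom ⁻¹ᵁ Yc := by
    intro g hg y hy
    refine (hmemYc _).mpr ⟨g⁻¹, fun h => hg (inv_mem_iff.mp h), ?_⟩
    rw [ρ_inv_apply]; exact hy
  have hF4 : ∀ h : G, h ∈ H → Yc ≤ (ρ h).hom ⁻¹ᵁ Yc := by
    intro h hh z hz
    obtain ⟨g, hg, hgz⟩ := (hmemYc z).mp hz
    refine (hmemYc _).mpr ⟨g * h⁻¹, fun hc => hg ?_, ?_⟩
    · have := H.mul_mem hc hh
      rwa [inv_mul_cancel_right] at this
    · rw [← ρ_mul_apply, inv_mul_cancel_right]; exact hgz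
  have hclosed : IsClosed (Y : Set X) := by
    have : (Y : Set X) = (Yc : Set X)ᶜ := by
      ext x
      constructor
      · intro hx hxc
        have : x ∈ Y ⊓ Yc := ⟨hx, hxc⟩
        rw [hdisjY] at this
        exact this
      · intro hx
        have hx' : x ∈ Y ⊔ Yc := by rw [hcovY]; trivial
        rcases Opens.mem_sup.mp hx' with h | h
        · exact h
        · exact (hx h).elim
    rw [this]
    exact Yc.isOpen.isClosed_compl
  haveI : IsClosedImmersion Y.ι :=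
    IsClosedImmersion.of_isPreimmersion _ (by rw [Scheme.Opens.range_ι]; exact hclosed)
  have hinvY : ∀ h : H, (ρY h).hom ≫ Y.ι ≫ p = Y.ι ≫ p := by
    intro h
    rw [reassoc_of% hρY h, hP.inv]
  -- sections over `U`
  have hkey : ∀ U : XG.Opens,
      (∀ s : Γ(X, p ⁻¹ᵁ U), (∀ g : G, σ ρ p hP.inv U g s = s) →
        (Y.ι.app (p ⁻¹ᵁ U)).hom s = 0 → s = 0) ∧
      (∀ sY : Γ((Y : Scheme.{u}), (Y.ι ≫ p) ⁻¹ᵁ U),
        (∀ h : H, ((ρY h).hom.appLE ((Y.ι ≫ p) ⁻¹ᵁ U) ((Y.ι ≫ p) ⁻¹ᵁ U)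
          (SGA1.preimage_le_of_inv ρY (Y.ι ≫ p) hinvY h U)).hom sY = sY) →
        ∃ t : Γ(X, p ⁻¹ᵁ U), (∀ g : G, σ ρ p hP.inv U g t = t) ∧
          (Y.ι.app (p ⁻¹ᵁ U)).hom t = sY) := by
    intro U
    set W : X.Opens := p ⁻¹ᵁ U with hW
    obtain ⟨W', hW'def⟩ : ∃ W' : X.Opens, W' = Y.ι ''ᵁ (Y.ι ⁻¹ᵁ W) := ⟨_, rfl⟩
    have hW' : W' = Y ⊓ W := by
      rw [hW'def, Scheme.Hom.image_preimage_eq_opensRange_inf, Scheme.Opens.opensRange_ι]
    have hW'W : W' ≤ W := hW' ▸ inf_le_right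
    have hWst : ∀ g : G, W ≤ (ρ g).hom ⁻¹ᵁ W := fun g => SGA1.preimage_le_of_inv ρ p hP.inv g U
    -- restriction to `W'`
    let r : Γ(X, W) →+* Γ(X, W') := (X.presheaf.map (homOfLE hW'W).op).hom
    let rc : Γ(X, W) →+* Γ(X, Yc ⊓ W) :=
      (X.presheaf.map (homOfLE (inf_le_right : Yc ⊓ W ≤ W)).op).hom
    -- (B)
    have hB : ∀ g : G, g ∉ H → ∀ b : Γ(X, W), rc b = 0 → r (σ ρ p hP.inv U g b) = 0 := by
      intro g hg b hb
      have e' : W' ≤ (ρ g).hom ⁻¹ᵁ (Yc ⊓ W) := by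
        intro x hx
        rw [hW'] at hx
        exact ⟨hF3 g hg hx.1, hWst g hx.2⟩
      have h1 := Scheme.Hom.appLE_map (ρ g).hom (hWst g) (homOfLE hW'W).op
      have h2 := Scheme.Hom.map_appLE (ρ g).hom e'
        (homOfLE (inf_le_right : Yc ⊓ W ≤ W)).op
      have h3 := congrArg (fun φ => φ.hom b) (h1.trans h2.symm)
      simp only [CommRingCat.hom_comp, RingHom.comp_apply] at h3
      change (X.presheaf.map (homOfLE hW'W).op).hom
        (((ρ g).hom.appLE W W (hWst g)).hom b) = 0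
      rw [h3]
      change ((ρ g).hom.appLE (Yc ⊓ W) W' e').hom (rc b) = 0
      rw [hb, map_zero]
    -- (D)
    have hD : ∀ h : G, h ∈ H → ∀ b : Γ(X, W), rc b = 0 → rc (σ ρ p hP.inv U h b) = 0 := by
      intro h hh b hb
      have e' : Yc ⊓ W ≤ (ρ h).hom ⁻¹ᵁ (Yc ⊓ W) := by
        intro x hx
        exact ⟨hF4 h hh hx.1, hWst h hx.2⟩
      have h1 := Scheme.Hom.appLE_map (ρ h).hom (hWst h)
        (homOfLE (inf_le_right : Yc ⊓ W ≤ W)).op
      have h2 := Scheme.Hom.map_appLE (ρ h).hom e'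
        (homOfLE (inf_le_right : Yc ⊓ W ≤ W)).op
      have h3 := congrArg (fun φ => φ.hom b) (h1.trans h2.symm)
      simp only [CommRingCat.hom_comp, RingHom.comp_apply] at h3
      change (X.presheaf.map (homOfLE (inf_le_right : Yc ⊓ W ≤ W)).op).hom
        (((ρ h).hom.appLE W W (hWst h)).hom b) = 0
      rw [h3]
      change ((ρ h).hom.appLE (Yc ⊓ W) (Yc ⊓ W) e').hom (rc b) = 0
      rw [hb, map_zero]
    refine ⟨?_, ?_⟩
    · -- injectivity
      intro s hs hs0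
      have hs0' : r s = 0 := by subst hW'def; exact hs0
      let Wg : G → X.Opens := fun g => W ⊓ (ρ g).hom ⁻¹ᵁ Y
      refine X.sheaf.eq_of_locally_eq' Wg W (fun g => homOfLE inf_le_left) ?_ s 0 ?_
      · intro x hx
        obtain ⟨g, y, hy, hyx⟩ := hcov x
        change (ρ g).hom y = x at hyx
        refine Opens.mem_iSup.mpr ⟨g⁻¹, hx, ?_⟩
        change (ρ g⁻¹).hom x ∈ Y
        rw [← hyx, ρ_inv_apply]; exact hy
      · intro g
        have e' : Wg g ≤ (ρ g).hom ⁻¹ᵁ W' := by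
          intro x hx
          rw [hW']
          exact ⟨hx.2, hWst g hx.1⟩
        have h1 := Scheme.Hom.appLE_map (ρ g).hom (hWst g)
          (homOfLE (inf_le_left : Wg g ≤ W)).op
        have h2 := Scheme.Hom.map_appLE (ρ g).hom e' (homOfLE hW'W).op
        have h3 := congrArg (fun φ => φ.hom s) (h1.trans h2.symm)
        simp only [CommRingCat.hom_comp, RingHom.comp_apply] at h3
        have h4 : ((ρ g).hom.appLE W W (hWst g)).hom s = s := hs g
        rw [h4] at h3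
        refine Eq.trans h3 ?_
        change ((ρ g).hom.appLE W' (Wg g) e').hom (r s) = _
        rw [hs0', map_zero]
        exact (map_zero _).symm
    · -- range
      intro sY hsY
      subst hW'def
      -- (C) equivariance of restriction
      have hC : ∀ (h : H) (b : Γ(X, W)),
          r (σ ρ p hP.inv U (h : G) b) =
            ((ρY h).hom.appLE ((Y.ι ≫ p) ⁻¹ᵁ U) ((Y.ι ≫ p) ⁻¹ᵁ U)
              (SGA1.preimage_le_of_inv ρY (Y.ι ≫ p) hinvY h U)).hom (r b) := by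
        intro h b
        have h1 : (ρ (h : G)).hom.appLE W W (hWst h) ≫ Y.ι.app W =
            Y.ι.app W ≫ (ρY h).hom.appLE (Y.ι ⁻¹ᵁ W) (Y.ι ⁻¹ᵁ W)
              (SGA1.preimage_le_of_inv ρY (Y.ι ≫ p) hinvY h U) := by
          rw [← Scheme.Hom.appLE_eq_app (f := Y.ι) (U := W), Scheme.Hom.appLE_comp_appLE,
            Scheme.Hom.appLE_comp_appLE]
          exact (appLE_congr (hρY h) _ _ _).symm
        exact congr($h1 b)
      obtain ⟨b, hb1, hb0⟩ := exists_extension' Y Yc hdisjY hcovY W _ hW' sY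
      have hb1' : r b = sY := hb1
      have hb0' : rc b = 0 := hb0
      -- `b` is `H`-invariant
      have hbH : ∀ h : G, h ∈ H → σ ρ p hP.inv U h b = b := by
        intro h hh
        have h0 : σ ρ p hP.inv U h b - b = 0 := by
          refine eq_zero_of_res Y Yc hcovY W _ hW' _ ?_ ?_
          · change r (σ ρ p hP.inv U h b - b) = 0
            rw [map_sub, hC ⟨h, hh⟩ b, hb1', hsY ⟨h, hh⟩, sub_self]
          · change rc (σ ρ p hP.inv U h b - b) = 0
            rw [map_sub, hD h hh b hb0', hb0', sub_self]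
        exact sub_eq_zero.mp h0
      haveI : Fintype (G ⧸ H) := Fintype.ofFinite _
      have hφ : ∀ a c : G, (QuotientGroup.leftRel H) a c →
          σ ρ p hP.inv U a⁻¹ b = σ ρ p hP.inv U c⁻¹ b := by
        intro a c hac
        rw [QuotientGroup.leftRel_apply] at hac
        have h1 : c⁻¹ * a ∈ H := by
          have := H.inv_mem hac
          rwa [mul_inv_rev, inv_inv] at this
        have h2 := σ_mul ρ p hP.inv U a⁻¹ (c⁻¹ * a) b
        rw [mul_inv_cancel_right, hbH _ h1] at h2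
        exact h2
      let T : G ⧸ H → Γ(X, W) := fun c =>
        Quotient.liftOn' c (fun g => σ ρ p hP.inv U g⁻¹ b) hφ
      have hT : ∀ g : G, T (QuotientGroup.mk g) = σ ρ p hP.inv U g⁻¹ b := fun g => rfl
      let t : Γ(X, W) := ∑ c : G ⧸ H, T c
      have htinv : ∀ k : G, σ ρ p hP.inv U k t = t := by
        intro k
        simp only [t, map_sum]
        have h1 : ∀ c : G ⧸ H, σ ρ p hP.inv U k (T c) = T (k⁻¹ • c) := by
          intro c
          induction c using Quotient.inductionOn' with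
          | h g =>
            change σ ρ p hP.inv U k (T (QuotientGroup.mk g)) = T (k⁻¹ • (QuotientGroup.mk g : G ⧸ H))
            rw [MulAction.Quotient.smul_mk, hT, hT, σ_mul, smul_eq_mul, mul_inv_rev, inv_inv]
        rw [Finset.sum_congr rfl (fun c _ => h1 c)]
        exact Fintype.sum_equiv (MulAction.toPerm k⁻¹) _ _ (fun c => rfl)
      refine ⟨t, htinv, ?_⟩
      change r t = sY
      simp only [t, map_sum]
      rw [Finset.sum_eq_single (QuotientGroup.mk 1 : G ⧸ H)]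
      · rw [hT, inv_one, σ_one]; exact hb1'
      · intro c _ hc
        induction c using Quotient.inductionOn' with
        | h g =>
          change r (T (QuotientGroup.mk g)) = 0
          rw [hT]
          refine hB g⁻¹ (fun hg => hc ?_) b hb0'
          change (QuotientGroup.mk g : G ⧸ H) = QuotientGroup.mk 1
          rw [QuotientGroup.eq, mul_one]
          exact hg
      · intro h; exact absurd (Finset.mem_univ _) h
  have happ : ∀ (U : XG.Opens) (a : Γ(XG, U)),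
      ((Y.ι ≫ p).app U).hom a = (Y.ι.app (p ⁻¹ᵁ U)).hom ((p.app U).hom a) := fun U a => rfl
  refine ⟨inferInstance, hinvY, fun U => ?_, fun U sY => ⟨?_, ?_⟩⟩
  · rw [injective_iff_map_eq_zero]
    intro a ha
    rw [happ] at ha
    have h1 := (hkey U).1 _ (fun g => σ_app ρ p hP U g a) ha
    exact (injective_iff_map_eq_zero _).mp (hP.injective U) a h1
  · rintro ⟨a, rfl⟩
    exact QuotGlue.isInv_app ρY _ hinvY U a
  · intro hs
    obtain ⟨t, ht, hts⟩ := (hkey U).2 sY hs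
    obtain ⟨a, rfl⟩ := (mem_range_iff ρ p hP U t).mpr ht
    exact ⟨a, (happ U a).trans hts⟩

end Groth.Agent.Lib.Helper28.FinQuotCoset
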