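import Mathlib
import Groth.Agent.Lib.Helper28.FinQuot

/-!
# Residue fields of a finite quotient (helper28)

`ring_core`: abstract version of "κ(x)/κ(y) is normal and the decomposition group surjects onto
its automorphism group", via Mathlib's `Ideal.IsFractionRing.normal` and
`IsFractionRing.stabilizerHom_surjective`.
-/

set_option autoImplicit false
set_option linter.style.haveILetI false
universe u
open CategoryTheory AlgebraicGeometry
open scoped Pointwise

namespace Groth.Agent.Lib.Helper28.FinQuotGal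

section Ring

variable {A B K L : Type*} [CommRing A] [CommRing B] [Field K] [Field L] [Algebra A B]
  (G : Type*) [Group G] [Finite G] [MulSemiringAction G B] [SMulCommClass G A B]
  [Algebra.IsInvariant A B G]
  (evA : A →+* K) (evB : B →+* L) (φ : K →+* L)
  (hcomm : φ.comp evA = evB.comp (algebraMap A B))
  (hK : ∀ z : K, ∃ a s : A, z = evA a / evA s)
  (hL : ∀ z : L, ∃ b s : B, z = evB b / evB s)

include hcomm hK hL in
theorem ring_core :
    (letI := φ.toAlgebra
     Normal K L) ∧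
    ∀ τ : L ≃+* L, (∀ k : K, τ (φ k) = φ k) →
      ∃ g : G, g • RingHom.ker evB = RingHom.ker evB ∧ ∀ b : B, τ (evB b) = evB (g • b) := by
  letI := φ.toAlgebra
  set P : Ideal A := RingHom.ker evA with hP
  set Q : Ideal B := RingHom.ker evB with hQ
  haveI : P.IsPrime := RingHom.ker_isPrime evA
  haveI : Q.IsPrime := RingHom.ker_isPrime evB
  haveI : Q.LiesOver P := by
    refine ⟨?_⟩
    ext a
    rw [Ideal.under_def, Ideal.mem_comap, hP, hQ, RingHom.mem_ker, RingHom.mem_ker]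
    have h1 : φ (evA a) = evB (algebraMap A B a) := congrArg (fun f => f a) hcomm
    rw [← h1]
    exact (map_eq_zero_iff φ φ.injective).symm
  letI algAK : Algebra (A ⧸ P) K := (RingHom.kerLift evA).toAlgebra
  letI algBL : Algebra (B ⧸ Q) L := (RingHom.kerLift evB).toAlgebra
  letI algAL : Algebra (A ⧸ P) L := (φ.comp (RingHom.kerLift evA)).toAlgebra
  haveI : IsScalarTower (A ⧸ P) K L := IsScalarTower.of_algebraMap_eq (fun x => rfl)
  haveI : IsScalarTower (A ⧸ P) (B ⧸ Q) L := by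
    refine IsScalarTower.of_algebraMap_eq (fun x => ?_)
    obtain ⟨a, rfl⟩ := Ideal.Quotient.mk_surjective x
    change φ (evA a) = evB (algebraMap A B a)
    exact congrArg (fun f => f a) hcomm
  haveI : FaithfulSMul (A ⧸ P) K :=
    (faithfulSMul_iff_algebraMap_injective _ _).2 (RingHom.kerLift_injective evA)
  haveI : FaithfulSMul (B ⧸ Q) L :=
    (faithfulSMul_iff_algebraMap_injective _ _).2 (RingHom.kerLift_injective evB)
  haveI : IsFractionRing (A ⧸ P) K := by
    refine IsFractionRing.of_field _ _ (fun z => ?_)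
    obtain ⟨a, s, rfl⟩ := hK z
    exact ⟨Ideal.Quotient.mk P a, Ideal.Quotient.mk P s, rfl⟩
  haveI : IsFractionRing (B ⧸ Q) L := by
    refine IsFractionRing.of_field _ _ (fun z => ?_)
    obtain ⟨a, s, rfl⟩ := hL z
    exact ⟨Ideal.Quotient.mk Q a, Ideal.Quotient.mk Q s, rfl⟩
  refine ⟨Ideal.IsFractionRing.normal G P Q K L, fun τ hτ => ?_⟩
  let τ' : L ≃ₐ[K] L := AlgEquiv.ofRingEquiv (f := τ) hτ
  obtain ⟨g, hg⟩ := IsFractionRing.stabilizerHom_surjective G P Q K L τ'
  refine ⟨g.1, g.2, fun b => ?_⟩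
  have h1 := IsFractionRing.stabilizerHom_apply_apply_mk G P Q K L g b
  rw [hg] at h1
  exact h1

end Ring

theorem evaluation_congr {X : Scheme.{u}} (W : X.Opens) {x₁ x₂ : X} (h : x₁ = x₂) (hx : x₁ ∈ W) :
    X.evaluation W x₁ hx ≫ (X.residueFieldCongr h).hom = X.evaluation W x₂ (h ▸ hx) := by
  subst h; simp

/-- kernel of evaluation at `x` is the prime ideal of `x`. -/
theorem ker_evaluation {X : Scheme.{u}} {W : X.Opens} (hW : IsAffineOpen W) (x : X) (hx : x ∈ W) :
    RingHom.ker (X.evaluation W x hx).hom = (hW.primeIdealOf ⟨x, hx⟩).asIdeal := by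
  rw [hW.primeIdealOf_eq_map_closedPoint ⟨x, hx⟩]
  ext b
  rw [RingHom.mem_ker]
  change _ ↔ b ∈ Ideal.comap _ _
  rw [Ideal.mem_comap]
  change _ ↔ _ ∈ IsLocalRing.maximalIdeal _
  rw [← IsLocalRing.residue_eq_zero_iff]
  rfl

/-- every element of the residue field at a point of an affine open is a quotient of values of
sections. -/
theorem exists_evaluation_div {X : Scheme.{u}} {W : X.Opens} (hW : IsAffineOpen W) (x : X)
    (hx : x ∈ W) (z : X.residueField x) :
    ∃ b s : Γ(X, W), z = (X.evaluation W x hx).hom b / (X.evaluation W x hx).hom s := by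
  obtain ⟨t, rfl⟩ := X.residue_surjective x z
  letI := X.presheaf.algebra_section_stalk ⟨x, hx⟩
  haveI := hW.isLocalization_stalk ⟨x, hx⟩
  obtain ⟨⟨b, s⟩, hbs⟩ := IsLocalization.surj (hW.primeIdealOf ⟨x, hx⟩).asIdeal.primeCompl t
  refine ⟨b, s.1, ?_⟩
  have hu : IsUnit (algebraMap Γ(X, W) (X.presheaf.stalk x) s.1) :=
    IsLocalization.map_units (M := (hW.primeIdealOf ⟨x, hx⟩).asIdeal.primeCompl) _ s
  have hu' : IsUnit ((X.residue x).hom (algebraMap Γ(X, W) (X.presheaf.stalk x) s.1)) :=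
    hu.map _
  have h1 : (X.residue x).hom t * (X.residue x).hom (algebraMap Γ(X, W) (X.presheaf.stalk x) s.1)
      = (X.residue x).hom (algebraMap Γ(X, W) (X.presheaf.stalk x) b) := by
    rw [← map_mul]; exact congrArg _ hbs
  have hne : (X.evaluation W x hx).hom s.1 ≠ 0 := hu'.ne_zero
  exact (eq_div_iff hne).2 h1

open Groth.Agent.Lib.Helper28.FinQuot in
/-- SGA1 V 1.1 residue-field part (= S13597). -/
theorem normal_and_stabilizer {X Y : Scheme.{u}} {G : Type u}
    [Group G] [Finite G] (ρ : G →* Aut X) (p : X ⟶ Y) (hp : SGA1.IsQuot ρ p) (x : X) :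
    (letI := (p.residueFieldMap x).hom.toAlgebra
     Normal (Y.residueField (p.base x)) (X.residueField x)) ∧
    ∀ τ : X.residueField x ≅ X.residueField x,
      p.residueFieldMap x ≫ τ.hom = p.residueFieldMap x →
      ∃ (g : G) (e : (ρ g).hom.base x = x),
        τ.hom = (X.residueFieldCongr e).inv ≫ (ρ g).hom.residueFieldMap x := by
  haveI := hp.affine
  obtain ⟨V, hV, hy⟩ := exists_affine_mem (p x)
  have hW : IsAffineOpen (p ⁻¹ᵁ V) := hV.preimage p
  have hx : x ∈ p ⁻¹ᵁ V := hy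
  letI := action ρ p hp.inv V
  letI := (p.app V).hom.toAlgebra
  haveI := isInvariant ρ p hp V
  haveI := smulCommClass ρ p hp V
  have hcomm : (p.residueFieldMap x).hom.comp (Y.evaluation V (p x) hy).hom =
      (X.evaluation (p ⁻¹ᵁ V) x hx).hom.comp (algebraMap Γ(Y, V) Γ(X, p ⁻¹ᵁ V)) := by
    have := Scheme.evaluation_naturality p x hy
    exact congrArg CommRingCat.Hom.hom this
  obtain ⟨hN, hS⟩ := ring_core G (Y.evaluation V (p x) hy).hom (X.evaluation (p ⁻¹ᵁ V) x hx).hom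
    (p.residueFieldMap x).hom hcomm (exists_evaluation_div hV (p x) hy)
    (exists_evaluation_div hW x hx)
  refine ⟨hN, fun τ hτ => ?_⟩
  obtain ⟨g₀, hg₀, hg₀'⟩ := hS τ.commRingCatIsoToRingEquiv (fun k => by
    have := congrArg (fun f => f.hom k) hτ
    exact this)
  set g : G := g₀⁻¹ with hgdef
  have hle : p ⁻¹ᵁ V ≤ (ρ g).hom ⁻¹ᵁ (p ⁻¹ᵁ V) := SGA1.preimage_le_of_inv ρ p hp.inv g V
  have hgQ : g • RingHom.ker (X.evaluation (p ⁻¹ᵁ V) x hx).hom =
      RingHom.ker (X.evaluation (p ⁻¹ᵁ V) x hx).hom := by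
    conv_lhs => rw [← hg₀]
    rw [hgdef, inv_smul_smul]
  have hc := IsAffineOpen.comap_primeIdealOf_appLE (f := (ρ g).hom) (x := x) (p ⁻¹ᵁ V) hW
    (p ⁻¹ᵁ V) hW hle hx
  have hfix : (hW.primeIdealOf ⟨x, hx⟩).comap ((ρ g).hom.appLE (p ⁻¹ᵁ V) (p ⁻¹ᵁ V) hle).hom =
      hW.primeIdealOf ⟨x, hx⟩ := by
    apply PrimeSpectrum.ext
    change Ideal.comap (σ ρ p hp.inv V g) (hW.primeIdealOf ⟨x, hx⟩).asIdeal = _
    rw [← ker_evaluation hW x hx, ← smul_ideal ρ p hp V g, hgQ]
  have e : (ρ g).hom x = x := by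
    have h1 := hW.fromSpec_primeIdealOf ⟨(ρ g).hom x, hle hx⟩
    rw [← hc, hfix, hW.fromSpec_primeIdealOf] at h1
    exact h1.symm
  refine ⟨g, e, ?_⟩
  have key : (ρ g).hom.appLE (p ⁻¹ᵁ V) (p ⁻¹ᵁ V) hle ≫ X.evaluation (p ⁻¹ᵁ V) x hx =
      X.evaluation (p ⁻¹ᵁ V) x hx ≫ (X.residueFieldCongr e).inv ≫
        (ρ g).hom.residueFieldMap x := by
    rw [Scheme.residueFieldCongr_inv, ← Category.assoc, evaluation_congr (p ⁻¹ᵁ V) e.symm hx,
      Scheme.evaluation_naturality, Scheme.Hom.appLE, Category.assoc]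
    congr 1
    rw [← Scheme.germ_residue, ← Category.assoc, TopCat.Presheaf.germ_res]
    rfl
  ext z
  obtain ⟨b, s, rfl⟩ := exists_evaluation_div hW x hx z
  have hb : ∀ b : Γ(X, p ⁻¹ᵁ V), τ.hom.hom ((X.evaluation (p ⁻¹ᵁ V) x hx).hom b) =
      ((X.residueFieldCongr e).inv ≫ (ρ g).hom.residueFieldMap x).hom
        ((X.evaluation (p ⁻¹ᵁ V) x hx).hom b) := by
    intro b
    have h1 := hg₀' b
    have h2 := congrArg (fun f => f.hom b) key
    change (X.evaluation (p ⁻¹ᵁ V) x hx).hom (σ ρ p hp.inv V g b) = _ at h2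
    rw [smul_def] at h1
    exact h1.trans h2
  rw [map_div₀, map_div₀, hb, hb]

end Groth.Agent.Lib.Helper28.FinQuotGal
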