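import Mathlib
import Groth.Agent.Lib.Helper28.FinQuot
import Groth.Agent.Lib.Helper28.FinQuotGal

set_option autoImplicit false
set_option linter.style.haveILetI false
universe u
open CategoryTheory AlgebraicGeometry
open scoped Pointwise
open Groth.Agent.Lib.Helper28.FinQuot Groth.Agent.Lib.Helper28.FinQuotGal

/-!
# Geometric points of finite quotients (helper28)

* `exists_comp_eq`: `G` acts transitively on the geometric fibres of a finite quotient.
* `exists_lift_point`: geometric points (algebraically closed) lift along a finite quotient.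
* `universallyInjective_of_isAlgClosed`: test universal injectivity on alg. closed points.
* `universallyInjective_of_quot`: the radicial-ness criterion used for SGA1 V 1.9-type statements.
-/

namespace Groth.Agent.Lib.Helper28.FinQuotGeom

/-- two embeddings of a normal extension agreeing on the base differ by an automorphism -/
theorem exists_algEquiv_of_normal {K L Ω : Type*} [Field K] [Field L] [Field Ω] [Algebra K L]
    [Normal K L] (j₁ j₂ : L →+* Ω)
    (h : j₁.comp (algebraMap K L) = j₂.comp (algebraMap K L)) :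
    ∃ τ : L ≃ₐ[K] L, ∀ l, j₁ (τ l) = j₂ l := by
  letI : Algebra L Ω := j₁.toAlgebra
  letI : Algebra K Ω := (j₁.comp (algebraMap K L)).toAlgebra
  haveI : IsScalarTower K L Ω := IsScalarTower.of_algebraMap_eq (fun x => rfl)
  let ϕ : L →ₐ[K] Ω := { j₂ with commutes' := fun k => (congrArg (fun f => f k) h).symm }
  refine ⟨ϕ.restrictNormal' L, fun l => ?_⟩
  exact ϕ.restrictNormal_commutes L l

variable {X Y : Scheme.{u}} {G : Type u} [Group G] [Finite G] (ρ : G →* Aut X) (p : X ⟶ Y)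
  (hp : SGA1.IsQuot ρ p)

include hp in
theorem exists_of_residueFieldMap_comp_eq (Ω : Type u) [Field Ω] (x : X)
    (j₁ j₂ : X.residueField x ⟶ .of Ω)
    (h : p.residueFieldMap x ≫ j₁ = p.residueFieldMap x ≫ j₂) :
    ∃ (g : G) (e : (ρ g).hom x = x),
      j₂ = (X.residueFieldCongr e).inv ≫ (ρ g).hom.residueFieldMap x ≫ j₁ := by
  obtain ⟨hN, hS⟩ := normal_and_stabilizer ρ p hp x
  letI := (p.residueFieldMap x).hom.toAlgebra
  obtain ⟨τ, hτ⟩ := exists_algEquiv_of_normal (K := Y.residueField (p x))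
    (L := X.residueField x) j₁.hom j₂.hom (congrArg CommRingCat.Hom.hom h)
  obtain ⟨g, e, hg⟩ := hS τ.toRingEquiv.toCommRingCatIso (by
    ext k
    exact τ.commutes k)
  refine ⟨g, e, ?_⟩
  rw [← Category.assoc, ← hg]
  ext l
  exact (hτ l).symm

/-- every `Ω`-point factors through the residue field of its image point -/
theorem exists_eq_SpecMap_comp (Ω : Type u) [Field Ω] (ξ : Spec (.of Ω) ⟶ X) :
    ∃ (x : X) (j : X.residueField x ⟶ .of Ω), ξ = Spec.map j ≫ X.fromSpecResidueField x :=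
  ⟨_, _, (Scheme.descResidueField_stalkClosedPointTo_fromSpecResidueField Ω X ξ).symm⟩

theorem SpecMap_comp_apply (Ω : Type u) [Field Ω] (x : X) (j : X.residueField x ⟶ .of Ω)
    (s : Spec (.of Ω)) : (Spec.map j ≫ X.fromSpecResidueField x) s = x := by
  rw [Scheme.Hom.comp_apply, Scheme.fromSpecResidueField_apply]

include hp in
/-- same point case -/
theorem exists_comp_eq_aux (Ω : Type u) [Field Ω] (x : X) (j₁ j₂ : X.residueField x ⟶ .of Ω)
    (h : (Spec.map j₁ ≫ X.fromSpecResidueField x) ≫ p =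
      (Spec.map j₂ ≫ X.fromSpecResidueField x) ≫ p) :
    ∃ g : G, Spec.map j₂ ≫ X.fromSpecResidueField x =
      (Spec.map j₁ ≫ X.fromSpecResidueField x) ≫ (ρ g).hom := by
  have h1 : p.residueFieldMap x ≫ j₁ = p.residueFieldMap x ≫ j₂ := by
    rw [Category.assoc, Category.assoc, ← Scheme.Hom.SpecMap_residueFieldMap_fromSpecResidueField,
      ← Category.assoc, ← Category.assoc, cancel_mono, ← Spec.map_comp, ← Spec.map_comp] at h
    exact Spec.map_injective h
  obtain ⟨g, e, hg⟩ := exists_of_residueFieldMap_comp_eq ρ p hp Ω x j₁ j₂ h1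
  refine ⟨g, ?_⟩
  rw [hg, Spec.map_comp, Spec.map_comp, Category.assoc, Category.assoc, Category.assoc,
    ← Scheme.Hom.SpecMap_residueFieldMap_fromSpecResidueField]
  congr 2
  rw [Scheme.residueFieldCongr_inv, Scheme.residueFieldCongr_fromSpecResidueField]

include hp in
/-- **Transitivity on geometric fibres**: two `Ω`-points of `X` with the same image in the
quotient differ by an element of `G`. -/
theorem exists_comp_eq (Ω : Type u) [Field Ω] (ξ₁ ξ₂ : Spec (.of Ω) ⟶ X)
    (h : ξ₁ ≫ p = ξ₂ ≫ p) : ∃ g : G, ξ₂ = ξ₁ ≫ (ρ g).hom := by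
  obtain ⟨x₁, j₁, rfl⟩ := exists_eq_SpecMap_comp Ω ξ₁
  obtain ⟨x₂, j₂, rfl⟩ := exists_eq_SpecMap_comp Ω ξ₂
  have hpt : p x₁ = p x₂ := by
    let pt : ↥(Spec (CommRingCat.of Ω)) := IsLocalRing.closedPoint Ω
    have h3 := Scheme.Hom.comp_apply (Spec.map j₁ ≫ X.fromSpecResidueField x₁) p pt
    have h4 := Scheme.Hom.comp_apply (Spec.map j₂ ≫ X.fromSpecResidueField x₂) p pt
    rw [SpecMap_comp_apply] at h3 h4
    rw [← h3, ← h4, h]
  obtain ⟨g₁, hg₁⟩ := exists_of_apply_eq ρ p hp x₁ x₂ hpt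
  -- move `ξ₁` to the point `x₂`
  obtain ⟨x₁', j₁', h1'⟩ := exists_eq_SpecMap_comp Ω
    ((Spec.map j₁ ≫ X.fromSpecResidueField x₁) ≫ (ρ g₁).hom)
  have hx' : x₁' = x₂ := by
    let pt : ↥(Spec (CommRingCat.of Ω)) := IsLocalRing.closedPoint Ω
    have h3 := Scheme.Hom.comp_apply (Spec.map j₁ ≫ X.fromSpecResidueField x₁) (ρ g₁).hom pt
    have h4 := SpecMap_comp_apply Ω x₁' j₁' pt
    rw [SpecMap_comp_apply] at h3
    rw [← h4, ← h1', h3, hg₁]
  subst hx'
  have h2 : (Spec.map j₁' ≫ X.fromSpecResidueField x₁') ≫ p =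
      (Spec.map j₂ ≫ X.fromSpecResidueField x₁') ≫ p := by
    rw [← h1', Category.assoc, hp.inv g₁, h]
  obtain ⟨g₂, hg₂⟩ := exists_comp_eq_aux ρ p hp Ω x₁' j₁' j₂ h2
  refine ⟨g₂ * g₁, ?_⟩
  rw [hg₂, ← h1', Category.assoc, map_mul]
  rfl

include hp in
/-- geometric points lift along a finite quotient -/
theorem exists_lift_point (Ω : Type u) [Field Ω] [IsAlgClosed Ω] (a : Spec (.of Ω) ⟶ Y) :
    ∃ ξ : Spec (.of Ω) ⟶ X, ξ ≫ p = a := by
  obtain ⟨y, i, rfl⟩ := exists_eq_SpecMap_comp Ω a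
  obtain ⟨x, rfl⟩ := surjective ρ p hp y
  obtain ⟨hN, -⟩ := normal_and_stabilizer ρ p hp x
  letI := (p.residueFieldMap x).hom.toAlgebra
  letI : Algebra (Y.residueField (p x)) Ω := i.hom.toAlgebra
  haveI : Algebra.IsAlgebraic (Y.residueField (p x)) (X.residueField x) := ⟨hN.isAlgebraic⟩
  let j : X.residueField x →ₐ[Y.residueField (p x)] Ω := IsAlgClosed.lift
  refine ⟨Spec.map (CommRingCat.ofHom j.toRingHom) ≫ X.fromSpecResidueField x, ?_⟩
  rw [Category.assoc, ← Scheme.Hom.SpecMap_residueFieldMap_fromSpecResidueField,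
    ← Category.assoc, ← Spec.map_comp]
  congr 2
  ext k
  exact j.commutes k

/-- universal injectivity can be tested on points with values in algebraically closed fields -/
theorem universallyInjective_of_isAlgClosed {W T : Scheme.{u}} (m : W ⟶ T)
    (H : ∀ (Ω : Type u) [Field Ω] [IsAlgClosed Ω] (a₁ a₂ : Spec (.of Ω) ⟶ W),
      a₁ ≫ m = a₂ ≫ m → a₁ = a₂) : UniversallyInjective m := by
  refine ((tfae_universallyInjective m).out 0 1).mpr (fun K hK a₁ a₂ h => ?_)
  letI : Field K := hK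
  let ι : CommRingCat.of K ⟶ CommRingCat.of (AlgebraicClosure K) :=
    CommRingCat.ofHom (algebraMap K (AlgebraicClosure K))
  haveI : Flat (Spec.map ι) := by
    rw [HasRingHomProperty.Spec_iff (P := @Flat)]
    change (algebraMap K (AlgebraicClosure K)).Flat
    rw [RingHom.flat_algebraMap_iff]
    infer_instance
  haveI : Surjective (Spec.map ι) := ⟨fun x => ⟨default, Subsingleton.elim _ _⟩⟩
  haveI : Epi (Spec.map ι) := Flat.epi_of_flat_of_surjective _
  have h1 : Spec.map ι ≫ a₁ = Spec.map ι ≫ a₂ :=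
    H (AlgebraicClosure K) _ _ (by simp only [Category.assoc]; exact congrArg _ h)
  exact (cancel_epi _).1 h1

include hp in
/-- If `p : X ⟶ Y` is a finite quotient and `m : Y ⟶ T` is such that geometric points of `X`
with the same image in `T` have the same image in `Y`, then `m` is universally injective. -/
theorem universallyInjective_of_quot {T : Scheme.{u}} (m : Y ⟶ T)
    (H : ∀ (Ω : Type u) [Field Ω] [IsAlgClosed Ω] (ξ₁ ξ₂ : Spec (.of Ω) ⟶ X),
      ξ₁ ≫ p ≫ m = ξ₂ ≫ p ≫ m → ξ₁ ≫ p = ξ₂ ≫ p) : UniversallyInjective m := by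
  refine universallyInjective_of_isAlgClosed m (fun Ω _ _ a₁ a₂ h => ?_)
  obtain ⟨ξ₁, rfl⟩ := exists_lift_point ρ p hp Ω a₁
  obtain ⟨ξ₂, rfl⟩ := exists_lift_point ρ p hp Ω a₂
  exact H Ω ξ₁ ξ₂ (by simpa only [Category.assoc] using h)

end Groth.Agent.Lib.Helper28.FinQuotGeom
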