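import Mathlib

set_option autoImplicit false
set_option linter.style.haveILetI false
open scoped TensorProduct Classical

/-!
# Galois extensions of rings (Chase–Harrison–Rosenberg), elementary part (helper28)
-/

namespace Groth.Agent.Lib.Helper28.GaloisRing

section Part1

variable {B : Type*} [CommRing B] {G : Type*} [Group G] [Finite G] [MulSemiringAction G B]

/-- evaluation of the orbit map -/
def ev (y : B) : G → B := fun g => g • y

theorem ev_mul (y y' : B) : (ev (G := G) y) * ev y' = ev (y * y') := by
  ext g; simp [ev, smul_mul']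

theorem exists_finsupp
    (h : ∀ g : G, g ≠ 1 → Ideal.span (Set.range fun b : B => g • b - b) = ⊤) :
    ∃ c : B →₀ B, ∀ g : G, (c.sum fun y x => x * g • y) = if g = 1 then 1 else 0 := by
  classical
  haveI : Fintype G := Fintype.ofFinite G
  let M : Submodule B (G → B) := Submodule.span B (Set.range (ev (G := G)))
  have h1 : (1 : G → B) ∈ M := by
    refine Submodule.subset_span ⟨1, ?_⟩
    ext g; simp [ev]
  have hmul : ∀ f₁ f₂ : G → B, f₁ ∈ M → f₂ ∈ M → f₁ * f₂ ∈ M := by
    intro f₁ f₂ hf₁ hf₂
    have hle : M * M ≤ M := by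
      rw [Submodule.span_mul_span]
      apply Submodule.span_mono
      rintro _ ⟨_, ⟨y, rfl⟩, _, ⟨y', rfl⟩, rfl⟩
      exact ⟨y * y', (ev_mul y y').symm⟩
    exact hle (Submodule.mul_mem_mul hf₁ hf₂)
  have hφ : ∀ σ : G, σ ≠ 1 → ∃ φ : G → B, φ ∈ M ∧ φ 1 = 1 ∧ φ σ = 0 := by
    intro σ hσ
    have h2 : (1 : B) ∈ Submodule.span B (Set.range fun b : B => σ • b - b) := by
      have := h σ hσ
      rw [Ideal.span] at this
      rw [this]; trivial
    obtain ⟨c, hc⟩ := Finsupp.mem_span_range_iff_exists_finsupp.mp h2
    refine ⟨fun g => c.sum fun b a => a * (σ • b - g • b), ?_, ?_, ?_⟩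
    · have : (fun g : G => c.sum fun b a => a * (σ • b - g • b)) =
          (c.sum fun b a => a * σ • b) • (1 : G → B) - c.sum (fun b a => a • ev (G := G) b) := by
        ext g
        simp only [Finsupp.sum, Pi.sub_apply, Pi.smul_apply, Pi.one_apply, smul_eq_mul, mul_one,
          Finset.sum_apply, ev, mul_sub, Finset.sum_sub_distrib]
      rw [this]
      refine M.sub_mem (M.smul_mem _ h1) ?_
      exact Finsupp.mem_span_range_iff_exists_finsupp.mpr ⟨c, rfl⟩
    · simp only [one_smul]
      simpa [smul_eq_mul] using hc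
    · simp [Finsupp.sum]
  choose! φ hφM hφ1 hφσ using hφ
  let δ : G → B := ∏ σ ∈ Finset.univ.erase (1 : G), φ σ
  have hδM : δ ∈ M := by
    apply Finset.prod_induction _ (· ∈ M) hmul h1
    intro σ hσ
    exact hφM σ (Finset.ne_of_mem_erase hσ)
  have hδ : ∀ g : G, δ g = if g = 1 then 1 else 0 := by
    intro g
    simp only [δ, Finset.prod_apply]
    split_ifs with hg
    · subst hg
      exact Finset.prod_eq_one (fun σ hσ => hφ1 σ (Finset.ne_of_mem_erase hσ))
    · exact Finset.prod_eq_zero (Finset.mem_erase.mpr ⟨hg, Finset.mem_univ g⟩) (hφσ g hg)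
  obtain ⟨c, hc⟩ := Finsupp.mem_span_range_iff_exists_finsupp.mp hδM
  refine ⟨c, fun g => ?_⟩
  rw [← hδ g, ← hc]
  simp [Finsupp.sum, ev]

end Part1

section Part2

variable {B : Type*} [CommRing B] {G : Type*} [Group G] [Fintype G] [MulSemiringAction G B]
  (c : B →₀ B) (hc : ∀ g : G, (c.sum fun y x => x * g • y) = if g = 1 then 1 else 0)

/-- the trace (norm-sum) -/
def T (b : B) : B := ∑ g : G, g • b

theorem T_smul (h : G) (b : B) : h • T (G := G) b = T (G := G) b := by
  simp only [T, Finset.smul_sum, smul_smul]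
  exact Fintype.sum_equiv (Equiv.mulLeft h) _ _ (fun g => rfl)

theorem T_add (b b' : B) : T (G := G) (b + b') = T (G := G) b + T (G := G) b' := by
  simp only [T, smul_add, Finset.sum_add_distrib]

include hc in
theorem alpha (b : B) : (c.sum fun y x => x * T (G := G) (y * b)) = b := by
  simp only [Finsupp.sum, T, Finset.mul_sum, smul_mul']
  rw [Finset.sum_comm]
  have h1 : ∀ g : G, (∑ y ∈ c.support, c y * (g • y * g • b)) =
      (if g = 1 then 1 else 0) * g • b := by
    intro g
    rw [← hc g, Finsupp.sum, Finset.sum_mul]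
    exact Finset.sum_congr rfl (fun y _ => by ring)
  rw [Finset.sum_congr rfl (fun g _ => h1 g)]
  simp

include hc in
theorem hc' (g : G) : (c.sum fun y x => g • x * y) = if g = 1 then 1 else 0 := by
  have h1 := congrArg (fun z => g • z) (hc g⁻¹)
  simp only [Finsupp.sum, Finset.smul_sum, smul_mul', smul_smul, mul_inv_cancel, one_smul] at h1
  simp only [Finsupp.sum]
  rw [h1]
  by_cases hg : g = 1
  · simp [hg]
  · have : ¬ g⁻¹ = 1 := fun h => hg (inv_eq_one.mp h)
    simp [hg, this]

include hc in
theorem beta (b : B) : (c.sum fun y x => T (G := G) (b * x) * y) = b := by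
  simp only [Finsupp.sum, T, Finset.sum_mul, smul_mul']
  rw [Finset.sum_comm]
  have h1 : ∀ g : G, (∑ y ∈ c.support, g • b * g • c y * y) =
      g • b * (if g = 1 then 1 else 0) := by
    intro g
    rw [← hc' c hc g, Finsupp.sum, Finset.mul_sum]
    exact Finset.sum_congr rfl (fun y _ => by ring)
  rw [Finset.sum_congr rfl (fun g _ => h1 g)]
  simp

variable {A : Type*} [CommRing A] [Algebra A B] [Algebra.IsInvariant A B G]

theorem exists_algebraMap_eq_T (b : B) : ∃ a : A, algebraMap A B a = T (G := G) b :=
  Algebra.IsInvariant.isInvariant _ (fun g => T_smul g b)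

theorem tmul_T (x y' b : B) : x ⊗ₜ[A] (T (G := G) b * y') = (x * T (G := G) b) ⊗ₜ[A] y' := by
  obtain ⟨a, ha⟩ := exists_algebraMap_eq_T (A := A) (G := G) b
  rw [← ha, ← Algebra.smul_def, TensorProduct.tmul_smul, TensorProduct.smul_tmul',
    Algebra.smul_def, mul_comm]

include hc in
theorem sep_mul (s : B) :
    (c.sum fun y x => x ⊗ₜ[A] (s * y)) = c.sum fun y x => (s * x) ⊗ₜ[A] y := by
  simp only [Finsupp.sum]
  have h1 : ∀ y : B, c y ⊗ₜ[A] (s * y) =
      ∑ y' ∈ c.support, (c y * T (G := G) (y * (s * c y'))) ⊗ₜ[A] y' := by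
    intro y
    conv_lhs => rw [← beta c hc (s * y)]
    rw [Finsupp.sum, TensorProduct.tmul_sum]
    refine Finset.sum_congr rfl (fun y' _ => ?_)
    rw [tmul_T]
    congr 2
    ring_nf
  rw [Finset.sum_congr rfl (fun y _ => h1 y), Finset.sum_comm]
  refine Finset.sum_congr rfl (fun y' _ => ?_)
  rw [← TensorProduct.sum_tmul]
  congr 1
  exact alpha c hc (s * c y')

include hc in
theorem formallyUnramified [Algebra.EssFiniteType A B] : Algebra.FormallyUnramified A B := by
  rw [Algebra.FormallyUnramified.iff_exists_tensorProduct]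
  refine ⟨c.sum fun y x => x ⊗ₜ[A] y, fun s => ?_, ?_⟩
  · rw [sub_mul, sub_eq_zero]
    simp only [Finsupp.sum, Finset.mul_sum, Algebra.TensorProduct.tmul_mul_tmul, one_mul]
    exact sep_mul c hc s
  · have := hc 1
    simp only [Finsupp.sum, one_smul, if_true] at this
    simp only [Finsupp.sum, map_sum, Algebra.TensorProduct.lmul'_apply_tmul]
    exact this

variable [SMulCommClass G A B] (hinj : Function.Injective (algebraMap A B))

theorem T_smul' (r : A) (b : B) : T (G := G) (r • b) = algebraMap A B r * T (G := G) b := by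
  simp only [T]
  rw [Finset.mul_sum]
  refine Finset.sum_congr rfl (fun g _ => ?_)
  rw [smul_comm, Algebra.smul_def]

/-- the trace as an `A`-linear form -/
noncomputable def tr : B →ₗ[A] A where
  toFun b := Classical.choose (exists_algebraMap_eq_T (A := A) (G := G) b)
  map_add' b b' := hinj (by
    rw [map_add, Classical.choose_spec (exists_algebraMap_eq_T (A := A) (G := G) b),
      Classical.choose_spec (exists_algebraMap_eq_T (A := A) (G := G) b'),
      Classical.choose_spec (exists_algebraMap_eq_T (A := A) (G := G) (b + b')), T_add])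
  map_smul' r b := hinj (by
    rw [RingHom.id_apply, smul_eq_mul, map_mul,
      Classical.choose_spec (exists_algebraMap_eq_T (A := A) (G := G) b),
      Classical.choose_spec (exists_algebraMap_eq_T (A := A) (G := G) (r • b)), T_smul'])

theorem algebraMap_tr (b : B) : algebraMap A B (tr (G := G) hinj b) = T (G := G) b :=
  Classical.choose_spec (exists_algebraMap_eq_T (A := A) (G := G) b)

include hc hinj in
theorem flat : Module.Flat A B := by
  let i : B →ₗ[A] (c.support → A) :=
    LinearMap.pi (fun y => (tr (G := G) hinj) ∘ₗ (LinearMap.mulLeft A (y : B)))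
  let r : (c.support → A) →ₗ[A] B :=
    ∑ y : c.support, (LinearMap.proj (R := A) (φ := fun _ : c.support => A) y).smulRight (c y)
  have h : r.comp i = LinearMap.id := by
    ext b
    simp only [r, i, LinearMap.comp_apply, LinearMap.sum_apply, LinearMap.smulRight_apply,
      LinearMap.proj_apply, LinearMap.pi_apply, LinearMap.mulLeft_apply, LinearMap.id_apply,
      Algebra.smul_def, algebraMap_tr]
    rw [Finset.sum_coe_sort c.support (fun y => T (G := G) (y * b) * c y)]
    have := alpha c hc b
    simp only [Finsupp.sum] at this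
    refine Eq.trans ?_ this
    exact Finset.sum_congr rfl (fun y _ => mul_comm _ _)
  exact Module.Flat.of_retract i r h

end Part2

end Groth.Agent.Lib.Helper28.GaloisRing
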