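import Mathlib
import Groth.Agent.Lib.Helper28.FinQuot
import Groth.Agent.Lib.Helper28.FinQuotGeom
import Groth.Agent.Lib.Helper28.FinQuotSect
import Groth.Agent.Lib.Helper28.GaloisRing
import Groth.Agent.Lib.Helper28.EtDescent

set_option autoImplicit false
set_option linter.style.haveILetI false
universe u
open CategoryTheory AlgebraicGeometry TopologicalSpace Limits
open Groth.Agent.Lib.Helper28.FinQuot

namespace Groth.Agent.Lib.Helper28.FinQuotFree

variable {X Y : Scheme.{u}} {G : Type u} [Group G] [Finite G] (ρ : G →* Aut X) (p : X ⟶ Y)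
  (hp : SGA1.IsQuot ρ p)
  (hfree : ∀ (K : Type u) [Field K] [IsAlgClosed K] (ξ : Spec (CommRingCat.of K) ⟶ X) (g : G),
      ξ ≫ (ρ g).hom = ξ → g = 1)

include hfree in
theorem span_eq_top (V : Y.Opens) (hV : IsAffineOpen V) (g : G) (hg : g ≠ 1) :
    letI := action ρ p hp.inv V
    Ideal.span (Set.range fun b : Γ(X, p ⁻¹ᵁ V) => g • b - b) = ⊤ := by
  letI := action ρ p hp.inv V
  haveI := hp.affine
  have hW : IsAffineOpen (p ⁻¹ᵁ V) := hV.preimage p
  by_contra hne
  obtain ⟨m, hm, hle⟩ := Ideal.exists_le_maximal _ hne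
  haveI := hm
  letI : Field (Γ(X, p ⁻¹ᵁ V) ⧸ m) := Ideal.Quotient.field m
  let K := AlgebraicClosure (Γ(X, p ⁻¹ᵁ V) ⧸ m)
  let φ : Γ(X, p ⁻¹ᵁ V) →+* K :=
    (algebraMap (Γ(X, p ⁻¹ᵁ V) ⧸ m) K).comp (Ideal.Quotient.mk m)
  let ξ : Spec (.of K) ⟶ X := Spec.map (CommRingCat.ofHom φ) ≫ hW.fromSpec
  have hφ : ∀ b, φ (σ ρ p hp.inv V g⁻¹ b) = φ b := by
    intro b
    have h1 : g • b - b ∈ m := hle (Ideal.subset_span ⟨b, rfl⟩)
    have h2 : φ (g • b - b) = 0 := by
      simp only [φ, RingHom.comp_apply]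
      rw [Ideal.Quotient.eq_zero_iff_mem.mpr h1, map_zero]
    rw [map_sub, sub_eq_zero] at h2
    exact h2
  have hξ : ξ ≫ (ρ g⁻¹).hom = ξ := by
    simp only [ξ]
    rw [Category.assoc, ← IsAffineOpen.SpecMap_appLE_fromSpec (ρ g⁻¹).hom hW hW
      (SGA1.preimage_le_of_inv ρ p hp.inv g⁻¹ V), ← Spec.map_comp_assoc]
    congr 2
    ext b
    exact hφ b
  have := hfree K ξ g⁻¹ hξ
  exact hg (inv_eq_one.mp this)

omit [Finite G] in
theorem prop_of_app {P : MorphismProperty Scheme.{u}}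
    {Q : ∀ {R S : Type u} [CommRing R] [CommRing S], (R →+* S) → Prop}
    [HasRingHomProperty P Q] (p : X ⟶ Y) [IsAffineHom p]
    (h : ∀ V : Y.Opens, IsAffineOpen V → Q (p.app V).hom) : P p := by
  rw [IsZariskiLocalAtTarget.iff_of_iSup_eq_top (P := P) _ (iSup_affineOpens_eq_top Y)]
  intro V
  haveI : IsAffine (V.1 : Scheme) := V.2
  haveI : IsAffine ((p ⁻¹ᵁ V.1 : X.Opens) : Scheme) := (V.2.preimage p)
  rw [HasRingHomProperty.iff_of_isAffine (P := P)]
  rw [Scheme.Hom.appTop, morphismRestrict_app']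
  have aux : ∀ (U U' : Y.Opens) (W W' : X.Opens) (hU : U = U') (hW : W = W') (e : W ≤ p ⁻¹ᵁ U),
      Q (p.appLE U' W' (hU ▸ hW ▸ e)).hom → Q (p.appLE U W e).hom := by
    intro U U' W W' hU hW e
    subst hU hW
    exact id
  refine aux _ V.1 _ (p ⁻¹ᵁ V.1) (Scheme.Opens.ι_image_top _) ?_ _ ?_
  · rw [Scheme.Hom.preimage_top, Scheme.Opens.ι_image_top]
  · rw [Scheme.Hom.appLE_eq_app]
    exact h V.1 V.2

include hfree hp in
theorem flat : Flat p := by
  haveI := hp.affine
  apply prop_of_app (P := @Flat) p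
  intro V hV
  classical
  haveI : Fintype G := Fintype.ofFinite G
  letI := action ρ p hp.inv V
  letI := (p.app V).hom.toAlgebra
  haveI := isInvariant ρ p hp V
  haveI := smulCommClass ρ p hp V
  obtain ⟨c, hc⟩ := GaloisRing.exists_finsupp (G := G) (span_eq_top ρ p hp hfree V hV)
  exact GaloisRing.flat c hc (hp.injective V)

include hfree hp in
theorem formallyUnramified [IsFinite p] : FormallyUnramified p := by
  haveI := hp.affine
  apply prop_of_app (P := @FormallyUnramified) p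
  intro V hV
  classical
  haveI : Fintype G := Fintype.ofFinite G
  letI := action ρ p hp.inv V
  letI := (p.app V).hom.toAlgebra
  haveI := isInvariant ρ p hp V
  obtain ⟨c, hc⟩ := GaloisRing.exists_finsupp (G := G) (span_eq_top ρ p hp hfree V hV)
  haveI : Module.Finite Γ(Y, V) Γ(X, p ⁻¹ᵁ V) := IsFinite.finite_app p V hV
  exact GaloisRing.formallyUnramified c hc

omit [Finite G] in
theorem exists_geometric_point {Z : Scheme.{u}} (z : Z) :
    ∃ (K : Type u) (_ : Field K) (_ : IsAlgClosed K) (ζ : Spec (.of K) ⟶ Z), ∀ t, ζ t = z := by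
  let K := AlgebraicClosure (Z.residueField z)
  let j : Z.residueField z ⟶ .of K := CommRingCat.ofHom (algebraMap (Z.residueField z) K)
  refine ⟨K, inferInstance, inferInstance, Spec.map j ≫ Z.fromSpecResidueField z, fun t => ?_⟩
  rw [Scheme.Hom.comp_apply, Scheme.fromSpecResidueField_apply]

include hp hfree in
theorem isIso_sigmaDesc [IsFinite p] :
    IsIso (Sigma.desc (fun g : G => pullback.lift (𝟙 X) (ρ g).hom
      ((Category.id_comp p).trans (hp.inv g).symm)) : (∐ fun _ : G => X) ⟶ pullback p p) := by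
  haveI := hp.affine
  haveI := formallyUnramified ρ p hp hfree
  let ψ : G → (X ⟶ pullback p p) := fun g => pullback.lift (𝟙 X) (ρ g).hom
    ((Category.id_comp p).trans (hp.inv g).symm)
  have hψ1 : ∀ g, ψ g ≫ pullback.fst p p = 𝟙 X := fun g => pullback.lift_fst _ _ _
  have hψ2 : ∀ g, ψ g ≫ pullback.snd p p = (ρ g).hom := fun g => pullback.lift_snd _ _ _
  haveI : FormallyUnramified (pullback.fst p p) :=
    MorphismProperty.of_isPullback (P := @FormallyUnramified.{u}) (IsPullback.of_hasPullback p p).flip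
      ‹FormallyUnramified p›
  haveI : ∀ g, IsOpenImmersion (ψ g) := fun g =>
    EtDescent.isOpenImmersion_of_section (pullback.fst p p) (ψ g) (hψ1 g)
  have hdisj : ∀ (g g' : G) (x x' : X), ψ g x = ψ g' x' → g = g' := by
    intro g g' x x' hxx
    obtain ⟨K, _, _, ζ, hζ⟩ := exists_geometric_point (ψ g x)
    have e1 := FinQuotSect.eq_comp_of_range (pullback.fst p p) (ψ g) (hψ1 g) K ζ
      (fun t => ⟨x, (hζ t).symm⟩)
    have e2 := FinQuotSect.eq_comp_of_range (pullback.fst p p) (ψ g') (hψ1 g') K ζ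
      (fun t => ⟨x', by rw [hζ t, hxx]⟩)
    have e3 : (ζ ≫ pullback.fst p p) ≫ (ρ g).hom = (ζ ≫ pullback.fst p p) ≫ (ρ g').hom := by
      rw [← hψ2 g, ← hψ2 g', ← Category.assoc, ← Category.assoc, ← e1, ← e2]
    have e4 : (ζ ≫ pullback.fst p p) ≫ (ρ (g'⁻¹ * g)).hom = ζ ≫ pullback.fst p p := by
      have h2 : (ρ g).hom ≫ (ρ g'⁻¹).hom = (ρ (g'⁻¹ * g)).hom := by rw [map_mul]; rfl
      have h3 : (ρ g').hom ≫ (ρ g'⁻¹).hom = 𝟙 X := by
        have : (ρ g').hom ≫ (ρ g'⁻¹).hom = (ρ (g'⁻¹ * g')).hom := by rw [map_mul]; rfl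
        rw [this, inv_mul_cancel, map_one]; rfl
      rw [← h2, ← Category.assoc, e3, Category.assoc, h3, Category.comp_id]
    have := hfree K _ _ e4
    exact (inv_mul_eq_one.mp this).symm
  have hsurj : ∀ z : ↑(pullback p p), ∃ (g : G) (x : X), ψ g x = z := by
    intro z
    obtain ⟨K, _, _, ζ, hζ⟩ := exists_geometric_point z
    obtain ⟨g, hg⟩ := FinQuotGeom.exists_comp_eq ρ p hp K (ζ ≫ pullback.fst p p)
      (ζ ≫ pullback.snd p p) (by rw [Category.assoc, Category.assoc, pullback.condition])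
    have e : ζ = (ζ ≫ pullback.fst p p) ≫ ψ g := by
      apply pullback.hom_ext
      · rw [Category.assoc, hψ1, Category.comp_id]
      · rw [Category.assoc, hψ2, ← hg]
    let t : Spec (.of K) := IsLocalRing.closedPoint K
    refine ⟨g, (ζ ≫ pullback.fst p p) t, ?_⟩
    rw [← Scheme.Hom.comp_apply, ← e, hζ]
  haveI : IsOpenImmersion (Sigma.desc ψ) := by
    refine isOpenImmersion_sigmaDesc _ _ (fun g g' hgg' => ?_)
    rw [Function.onFun, Set.disjoint_iff]
    rintro z ⟨⟨x, hx⟩, ⟨x', hx'⟩⟩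
    exact hgg' (hdisj g g' x x' (hx.trans hx'.symm))
  change IsIso (Sigma.desc ψ)
  apply isIso_of_isOpenImmersion_of_opensRange_eq_top
  rw [eq_top_iff]
  intro z _
  obtain ⟨g, x, rfl⟩ := hsurj z
  refine ⟨Sigma.ι (fun _ : G => X) g x, ?_⟩
  rw [← Scheme.Hom.comp_apply, Sigma.ι_desc]

end Groth.Agent.Lib.Helper28.FinQuotFree
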