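import Mathlib
import Groth.Agent.Lib.Helper28.FinQuotSect

/-!
# Fixed loci of automorphisms of unramified separated schemes (helper28)
-/

set_option autoImplicit false
universe u
open CategoryTheory CategoryTheory.Limits AlgebraicGeometry Opposite TopologicalSpace

namespace Groth.Agent.Lib.Helper28.FinQuotInertia

section Fix

variable {X Y : Scheme.{u}} (f : X ⟶ Y) (a : X ⟶ X) (ha : a ≫ f = f)

/-- the graph of `a` -/
noncomputable def graph : X ⟶ pullback f f :=
  pullback.lift (𝟙 X) a (by rw [Category.id_comp, ha])

variable [FormallyUnramified f] [LocallyOfFiniteType f]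

/-- the fixed locus of `a` -/
noncomputable def fixLocus : X.Opens := (graph f a ha) ⁻¹ᵁ (pullback.diagonal f).opensRange

theorem fixLocus_ι_comp : (fixLocus f a ha).ι ≫ a = (fixLocus f a ha).ι := by
  have hle : Set.range ((fixLocus f a ha).ι ≫ graph f a ha) ⊆ Set.range (pullback.diagonal f) := by
    rintro _ ⟨z, rfl⟩
    rw [Scheme.Hom.comp_apply]
    exact z.2
  let k := IsOpenImmersion.lift (pullback.diagonal f) ((fixLocus f a ha).ι ≫ graph f a ha) hle
  have hk : k ≫ pullback.diagonal f = (fixLocus f a ha).ι ≫ graph f a ha :=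
    IsOpenImmersion.lift_fac _ _ _
  have h1 := congrArg (· ≫ pullback.fst f f) hk
  have h2 := congrArg (· ≫ pullback.snd f f) hk
  simp only [Category.assoc, pullback.diagonal_fst, pullback.diagonal_snd, Category.comp_id,
    graph, pullback.lift_fst, pullback.lift_snd] at h1 h2
  rw [← h2, h1]

theorem mem_fixLocus_of_comp_eq {T : Scheme.{u}} (t : T ⟶ X) (ht : t ≫ a = t) (z : T) :
    t z ∈ fixLocus f a ha := by
  have h1 : t ≫ graph f a ha = t ≫ pullback.diagonal f := by
    apply pullback.hom_ext
    · simp only [Category.assoc, graph, pullback.lift_fst, pullback.diagonal_fst]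
    · simp only [Category.assoc, graph, pullback.lift_snd, pullback.diagonal_snd, Category.comp_id,
        ht]
  change graph f a ha (t z) ∈ Set.range (pullback.diagonal f)
  rw [← Scheme.Hom.comp_apply, h1, Scheme.Hom.comp_apply]
  exact ⟨_, rfl⟩

theorem isClosed_fixLocus [IsSeparated f] : IsClosed (fixLocus f a ha : Set X) := by
  have h1 : IsClosed (Set.range (pullback.diagonal f)) :=
    (pullback.diagonal f).isClosedEmbedding.isClosed_range
  exact h1.preimage (graph f a ha).continuous

end Fix

end Groth.Agent.Lib.Helper28.FinQuotInertia
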