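import Mathlib
import Groth.Agent.Lib.Helper28.FinQuotInertiaA

/-!
# Inertia strata for a finite group acting on an unramified separated scheme (helper28)
-/

set_option autoImplicit false
universe u
open CategoryTheory CategoryTheory.Limits AlgebraicGeometry Opposite TopologicalSpace

namespace Groth.Agent.Lib.Helper28.FinQuotInertia

open Groth.Agent.Lib.Helper28.FinQuotSect (ρ_mul_apply ρ_one_apply ρ_inv_apply)

variable {X Y : Scheme.{u}} (f : X ⟶ Y) [FormallyUnramified f] [LocallyOfFiniteType f]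
  {G : Type u} [Group G] (ρ : G →* Aut X) (hρ : ∀ g : G, (ρ g).hom ≫ f = f)

/-- the fixed locus of `g` -/
noncomputable def E (g : G) : X.Opens := fixLocus f (ρ g).hom (hρ g)

omit [FormallyUnramified f] [LocallyOfFiniteType f] in
theorem hom_mul (a b : G) : (ρ (a * b)).hom = (ρ b).hom ≫ (ρ a).hom := by
  rw [map_mul]; rfl

omit [FormallyUnramified f] [LocallyOfFiniteType f] in
theorem hom_one : (ρ 1).hom = 𝟙 X := by
  rw [map_one]; rfl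

theorem E_ι_comp (g : G) : (E f ρ hρ g).ι ≫ (ρ g).hom = (E f ρ hρ g).ι :=
  fixLocus_ι_comp f _ (hρ g)

theorem mem_E_of_comp_eq (g : G) {T : Scheme.{u}} (t : T ⟶ X) (ht : t ≫ (ρ g).hom = t) (z : T) :
    t z ∈ E f ρ hρ g :=
  mem_fixLocus_of_comp_eq f _ (hρ g) t ht z

theorem mem_E_of_le (g : G) (O : X.Opens) (hO : O.ι ≫ (ρ g).hom = O.ι) {x : X} (hx : x ∈ O) :
    x ∈ E f ρ hρ g :=
  mem_E_of_comp_eq f ρ hρ g O.ι hO ⟨x, hx⟩

theorem E_one : E f ρ hρ 1 = ⊤ := by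
  apply top_le_iff.mp
  intro x _
  refine mem_E_of_le f ρ hρ 1 ⊤ ?_ (x := x) trivial
  rw [hom_one, Category.comp_id]

theorem mem_E_conj (g h : G) {x : X} (hx : x ∈ E f ρ hρ g) :
    (ρ h).hom x ∈ E f ρ hρ (h * g * h⁻¹) := by
  have ht : ((E f ρ hρ g).ι ≫ (ρ h).hom) ≫ (ρ (h * g * h⁻¹)).hom =
      (E f ρ hρ g).ι ≫ (ρ h).hom := by
    rw [Category.assoc, ← hom_mul, inv_mul_cancel_right, hom_mul, ← Category.assoc, E_ι_comp]
  exact mem_E_of_comp_eq f ρ hρ _ _ ht ⟨x, hx⟩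

theorem mem_E_conj_iff (g h : G) (x : X) :
    (ρ h).hom x ∈ E f ρ hρ (h * g * h⁻¹) ↔ x ∈ E f ρ hρ g := by
  refine ⟨fun hx => ?_, mem_E_conj f ρ hρ g h⟩
  have := mem_E_conj f ρ hρ (h * g * h⁻¹) h⁻¹ hx
  rw [ρ_inv_apply] at this
  convert this using 2
  group

theorem mem_E_mul (g g' : G) {x : X} (hx : x ∈ E f ρ hρ g) (hx' : x ∈ E f ρ hρ g') :
    x ∈ E f ρ hρ (g * g') := by
  refine mem_E_of_le f ρ hρ (g * g') (E f ρ hρ g ⊓ E f ρ hρ g') ?_ ⟨hx, hx'⟩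
  have h1 : (E f ρ hρ g ⊓ E f ρ hρ g').ι = X.homOfLE inf_le_left ≫ (E f ρ hρ g).ι :=
    (X.homOfLE_ι _).symm
  have h2 : (E f ρ hρ g ⊓ E f ρ hρ g').ι = X.homOfLE inf_le_right ≫ (E f ρ hρ g').ι :=
    (X.homOfLE_ι _).symm
  rw [hom_mul]
  calc (E f ρ hρ g ⊓ E f ρ hρ g').ι ≫ (ρ g').hom ≫ (ρ g).hom
      = X.homOfLE inf_le_right ≫ ((E f ρ hρ g').ι ≫ (ρ g').hom) ≫ (ρ g).hom := by
        rw [h2]; simp only [Category.assoc]
    _ = (E f ρ hρ g ⊓ E f ρ hρ g').ι ≫ (ρ g).hom := by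
        rw [E_ι_comp, ← Category.assoc, ← h2]
    _ = X.homOfLE inf_le_left ≫ ((E f ρ hρ g).ι ≫ (ρ g).hom) := by
        rw [h1]; simp only [Category.assoc]
    _ = (E f ρ hρ g ⊓ E f ρ hρ g').ι := by
        rw [E_ι_comp, ← h1]

theorem mem_E_inv (g : G) {x : X} (hx : x ∈ E f ρ hρ g) : x ∈ E f ρ hρ g⁻¹ := by
  refine mem_E_of_le f ρ hρ g⁻¹ (E f ρ hρ g) ?_ hx
  have h1 : (ρ g).hom ≫ (ρ g⁻¹).hom = 𝟙 X := by
    rw [← hom_mul, inv_mul_cancel, hom_one]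
  conv_lhs => rw [← E_ι_comp f ρ hρ g, Category.assoc, h1, Category.comp_id]

/-- the inertia group at a point -/
def inertia (x₀ : X) : Subgroup G where
  carrier := {g | x₀ ∈ E f ρ hρ g}
  mul_mem' ha hb := mem_E_mul f ρ hρ _ _ ha hb
  one_mem' := by
    change x₀ ∈ E f ρ hρ 1
    rw [E_one]; trivial
  inv_mem' ha := mem_E_inv f ρ hρ _ ha

theorem mem_inertia (x₀ : X) (g : G) : g ∈ inertia f ρ hρ x₀ ↔ x₀ ∈ E f ρ hρ g := Iff.rfl

variable [IsSeparated f] [Finite G]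

/-- the stratum of points with the same inertia as `x₀` -/
noncomputable def stratum (x₀ : X) : X.Opens := by
  classical
  exact ⨅ g : G, if x₀ ∈ E f ρ hρ g then E f ρ hρ g else
    ⟨(E f ρ hρ g : Set X)ᶜ, (isClosed_fixLocus f _ (hρ g)).isOpen_compl⟩

theorem mem_stratum (x₀ x : X) :
    x ∈ stratum f ρ hρ x₀ ↔ ∀ g : G, x ∈ E f ρ hρ g ↔ x₀ ∈ E f ρ hρ g := by
  classical
  unfold stratum
  change x ∈ ((⨅ g : G, if x₀ ∈ E f ρ hρ g then E f ρ hρ g else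
    ⟨(E f ρ hρ g : Set X)ᶜ, (isClosed_fixLocus f _ (hρ g)).isOpen_compl⟩ : X.Opens) : Set X) ↔ _
  rw [Opens.coe_iInf]
  simp only [Set.mem_iInter, SetLike.mem_coe]
  refine forall_congr' fun g => ?_
  by_cases hg : x₀ ∈ E f ρ hρ g
  · rw [if_pos hg]
    exact ⟨fun h => ⟨fun _ => hg, fun _ => h⟩, fun h => h.mpr hg⟩
  · rw [if_neg hg]
    exact ⟨fun h => ⟨fun h' => (h h').elim, fun h' => (hg h').elim⟩, fun h h' => hg (h.mp h')⟩

theorem self_mem_stratum (x₀ : X) : x₀ ∈ stratum f ρ hρ x₀ :=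
  (mem_stratum f ρ hρ x₀ x₀).mpr fun _ => Iff.rfl

theorem mem_stratum_smul_iff (x₀ x : X) (h : G) :
    (ρ h).hom x ∈ stratum f ρ hρ x₀ ↔
      ∀ g : G, x ∈ E f ρ hρ g ↔ x₀ ∈ E f ρ hρ (h * g * h⁻¹) := by
  rw [mem_stratum]
  constructor
  · intro H g
    rw [← H (h * g * h⁻¹), mem_E_conj_iff]
  · intro H g
    have := H (h⁻¹ * g * h)
    have e : h * (h⁻¹ * g * h) * h⁻¹ = g := by group
    rw [e] at this
    rw [← this, ← mem_E_conj_iff f ρ hρ (h⁻¹ * g * h) h x, e]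

theorem smul_mem_stratum_of_mem_normalizer (x₀ x : X) (h : G)
    (hh : h ∈ Subgroup.normalizer (inertia f ρ hρ x₀ : Set G)) (hx : x ∈ stratum f ρ hρ x₀) :
    (ρ h).hom x ∈ stratum f ρ hρ x₀ := by
  rw [mem_stratum_smul_iff]
  intro g
  rw [(mem_stratum f ρ hρ x₀ x).mp hx g]
  exact (Subgroup.mem_normalizer_iff.mp hh g)

theorem mem_normalizer_of_smul_mem_stratum (x₀ x : X) (h : G) (hx : x ∈ stratum f ρ hρ x₀)
    (hx' : (ρ h).hom x ∈ stratum f ρ hρ x₀) : h ∈ Subgroup.normalizer (inertia f ρ hρ x₀ : Set G) := by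
  rw [Subgroup.mem_normalizer_iff]
  intro g
  rw [mem_inertia, mem_inertia, ← (mem_stratum f ρ hρ x₀ x).mp hx g]
  exact (mem_stratum_smul_iff f ρ hρ x₀ x h).mp hx' g

end Groth.Agent.Lib.Helper28.FinQuotInertia
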