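import Mathlib
import Groth.Agent.Lib.Helper28.FinQuotInertiaB
import Groth.Agent.Lib.Helper28.FinQuotCoset
import Groth.Agent.Lib.Helper28.FinQuotFree
import Groth.Agent.Lib.Helper27.NoethLfp

/-!
# Quotients of étale separated schemes by finite groups are étale (helper28)
-/

set_option autoImplicit false
universe u
open CategoryTheory CategoryTheory.Limits AlgebraicGeometry Opposite TopologicalSpace

namespace Groth.Agent.Lib.Helper28.FinQuotInertia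

open Groth.Agent.Lib.Helper28 Groth.Agent.Lib.Helper28.FinQuot
open Groth.Agent.Lib.Helper28.FinQuotSect (ρ_mul_apply ρ_one_apply ρ_inv_apply)

/-- a quotient by `N` on which a normal subgroup `K` acts trivially is a quotient by `N ⧸ K` -/
theorem isQuot_quotientGroup {Z Z' : Scheme.{u}} {N : Type u} [Group N] (K : Subgroup N) [K.Normal]
    (ρ : N →* Aut Z) (hK : K ≤ ρ.ker) (π : Z ⟶ Z') (hπ : SGA1.IsQuot ρ π) :
    SGA1.IsQuot (QuotientGroup.lift K ρ hK) π := by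
  have hinv : ∀ nb : N ⧸ K, ((QuotientGroup.lift K ρ hK) nb).hom ≫ π = π := by
    intro nb
    induction nb using QuotientGroup.induction_on with
    | H n => rw [QuotientGroup.lift_mk]; exact hπ.inv n
  refine ⟨hπ.affine, hinv, hπ.injective, fun U s => ⟨?_, ?_⟩⟩
  · rintro ⟨t, rfl⟩
    exact QuotGlue.isInv_app _ π hinv U t
  · intro hs
    rw [hπ.range_iff]
    intro n
    have h1 := hs (QuotientGroup.mk n)
    have h2 : ((QuotientGroup.lift K ρ hK) (QuotientGroup.mk n)).hom = (ρ n).hom := rfl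
    rw [appLE_congr h2] at h1
    exact h1

section Main

variable {X X' Y : Scheme.{u}} {G : Type u} [Group G] [Finite G] (ρ : G →* Aut X)
  [IsLocallyNoetherian X'] (f : X ⟶ Y) [Etale f] [IsSeparated f]
  (hρ : ∀ g : G, (ρ g).hom ≫ f = f)
  (p : X ⟶ X') (hp : SGA1.IsQuot ρ p) (q : X' ⟶ Y) (hq : p ≫ q = f) [LocallyOfFiniteType p]

include hp hq in
set_option backward.isDefEq.respectTransparency false in
theorem etale_stratum (x₀ : X) : Etale ((stratum f ρ hρ x₀).ι ≫ p) := by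
  classical
  set U := stratum f ρ hρ x₀ with hU
  set I := inertia f ρ hρ x₀ with hI
  set N := Subgroup.normalizer (I : Set G) with hN
  let V : X.Opens := ⨆ h : G, (ρ h).hom ⁻¹ᵁ U
  have hmemV : ∀ x : X, x ∈ V ↔ ∃ h : G, (ρ h).hom x ∈ U := fun x => Opens.mem_iSup
  have hVst : ∀ g : G, (ρ g).hom ⁻¹ᵁ V = V := by
    intro g
    ext x
    change (ρ g).hom x ∈ V ↔ x ∈ V
    rw [hmemV, hmemV]
    constructor
    · rintro ⟨h, hh⟩
      exact ⟨h * g, by rw [ρ_mul_apply]; exact hh⟩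
    · rintro ⟨h, hh⟩
      exact ⟨h * g⁻¹, by rw [← ρ_mul_apply, inv_mul_cancel_right]; exact hh⟩
  have hUV : U ≤ V := fun x hx => (hmemV x).mpr ⟨1, by rw [ρ_one_apply]; exact hx⟩
  obtain ⟨V', hV'⟩ := exists_open_preimage_eq ρ p hp V hVst
  let ρV := restrictAction ρ (p ⁻¹ᵁ V') (fun g => SGA1.preimage_le_of_inv ρ p hp.inv g V')
  have hρV : ∀ g : G, (ρV g).hom ≫ (p ⁻¹ᵁ V').ι = (p ⁻¹ᵁ V').ι ≫ (ρ g).hom := fun g =>
    restrictAction_hom_ι ρ _ _ g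
  have hpV : SGA1.IsQuot ρV (p ∣_ V') := isQuot_restrict ρ p hp V' ρV hρV
  have hρV_apply : ∀ (g : G) (z : ((p ⁻¹ᵁ V' : X.Opens) : Scheme.{u})),
      (p ⁻¹ᵁ V').ι ((ρV g).hom z) = (ρ g).hom ((p ⁻¹ᵁ V').ι z) := by
    intro g z
    rw [← Scheme.Hom.comp_apply, hρV, Scheme.Hom.comp_apply]
  let U₁ : ((p ⁻¹ᵁ V' : X.Opens) : Scheme.{u}).Opens := (p ⁻¹ᵁ V').ι ⁻¹ᵁ U
  have hcov : ∀ x : ((p ⁻¹ᵁ V' : X.Opens) : Scheme.{u}),
      ∃ g : G, x ∈ (ρV g).hom.base '' (U₁ : Set ((p ⁻¹ᵁ V' : X.Opens) : Scheme.{u})) := by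
    intro x
    have hx : (p ⁻¹ᵁ V').ι x ∈ V := hV' ▸ x.2
    obtain ⟨h, hh⟩ := (hmemV _).mp hx
    refine ⟨h⁻¹, (ρV h).hom x, ?_, ρ_inv_apply ρV h x⟩
    change (p ⁻¹ᵁ V').ι ((ρV h).hom x) ∈ U
    rw [hρV_apply]
    exact hh
  have hdisj : ∀ g : G, g ∉ N →
      Disjoint ((ρV g).hom.base '' (U₁ : Set ((p ⁻¹ᵁ V' : X.Opens) : Scheme.{u})))
        (U₁ : Set ((p ⁻¹ᵁ V' : X.Opens) : Scheme.{u})) := by
    intro g hg
    rw [Set.disjoint_left]
    rintro _ ⟨y, hy, rfl⟩ hy'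
    apply hg
    have h1 : (p ⁻¹ᵁ V').ι y ∈ U := hy
    have h2 : (p ⁻¹ᵁ V').ι ((ρV g).hom y) ∈ U := hy'
    rw [hρV_apply] at h2
    exact mem_normalizer_of_smul_mem_stratum f ρ hρ x₀ _ g h1 h2
  let ρN : N →* Aut ((p ⁻¹ᵁ V' : X.Opens) : Scheme.{u}) := ρV.comp N.subtype
  have hU₁st : ∀ n : N, U₁ ≤ (ρN n).hom ⁻¹ᵁ U₁ := by
    intro n x hx
    change (p ⁻¹ᵁ V').ι ((ρV (n : G)).hom x) ∈ U
    rw [hρV_apply]
    exact smul_mem_stratum_of_mem_normalizer f ρ hρ x₀ _ n n.2 hx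
  let ρY : N →* Aut (U₁ : Scheme.{u}) := restrictAction ρN U₁ hU₁st
  have hρY : ∀ n : N, (ρY n).hom ≫ U₁.ι = U₁.ι ≫ (ρV (n : G)).hom := fun n =>
    restrictAction_hom_ι ρN U₁ hU₁st n
  have hπ := FinQuotCoset.isQuot_of_cosets ρV (p ∣_ V') hpV N U₁ hcov hdisj ρY hρY
  -- the quotient group
  let K : Subgroup N := I.subgroupOf N
  haveI : K.Normal := Subgroup.normal_in_normalizer
  have hUE : ∀ k : G, k ∈ I → ∀ x : X, x ∈ U → x ∈ E f ρ hρ k := by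
    intro k hk x hx
    exact ((mem_stratum f ρ hρ x₀ x).mp hx k).mpr hk
  have hK : K ≤ ρY.ker := by
    intro k hk
    have hkI : (k : G) ∈ I := hk
    rw [MonoidHom.mem_ker]
    apply Iso.ext
    change (ρY k).hom = 𝟙 _
    rw [← cancel_mono U₁.ι, ← cancel_mono (p ⁻¹ᵁ V').ι, Category.id_comp, hρY,
      Category.assoc, hρV]
    have hle : Set.range (U₁.ι ≫ (p ⁻¹ᵁ V').ι) ⊆ Set.range (E f ρ hρ (k : G)).ι := by
      rintro _ ⟨z, rfl⟩
      rw [Scheme.Opens.range_ι, Scheme.Hom.comp_apply]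
      exact hUE k hkI _ z.2
    let j := IsOpenImmersion.lift (E f ρ hρ (k : G)).ι (U₁.ι ≫ (p ⁻¹ᵁ V').ι) hle
    have hj : j ≫ (E f ρ hρ (k : G)).ι = U₁.ι ≫ (p ⁻¹ᵁ V').ι := IsOpenImmersion.lift_fac _ _ _
    rw [← Category.assoc, ← hj, Category.assoc, E_ι_comp]
  have hπ' := isQuot_quotientGroup K ρY hK _ hπ
  have hfree : ∀ (Ω : Type u) [Field Ω] [IsAlgClosed Ω]
      (ξ : Spec (CommRingCat.of Ω) ⟶ (U₁ : Scheme.{u})) (nb : N ⧸ K),
      ξ ≫ ((QuotientGroup.lift K ρY hK) nb).hom = ξ → nb = 1 := by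
    intro Ω _ _ ξ nb h
    induction nb using QuotientGroup.induction_on with
    | H n =>
      have h' : ξ ≫ (ρY n).hom = ξ := h
      have hξX : (ξ ≫ U₁.ι ≫ (p ⁻¹ᵁ V').ι) ≫ (ρ (n : G)).hom = ξ ≫ U₁.ι ≫ (p ⁻¹ᵁ V').ι := by
        rw [Category.assoc, Category.assoc, ← hρV, ← Category.assoc U₁.ι, ← hρY, Category.assoc,
          ← Category.assoc ξ, h']
      let z : Spec (CommRingCat.of Ω) := IsLocalRing.closedPoint Ω
      have h1 := mem_E_of_comp_eq f ρ hρ (n : G) _ hξX z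
      have h2 : (ξ ≫ U₁.ι ≫ (p ⁻¹ᵁ V').ι) z ∈ U := by
        rw [Scheme.Hom.comp_apply, Scheme.Hom.comp_apply]
        exact (ξ z).2
      have h3 : (n : G) ∈ I := ((mem_stratum f ρ hρ x₀ _).mp h2 (n : G)).mp h1
      exact (QuotientGroup.eq_one_iff n).mpr h3
  have hflat : Flat (U₁.ι ≫ p ∣_ V') := FinQuotFree.flat _ _ hπ' hfree
  have hcomp : (U₁.ι ≫ p ∣_ V') ≫ V'.ι ≫ q = (U₁.ι ≫ (p ⁻¹ᵁ V').ι) ≫ f := by
    rw [Category.assoc, ← Category.assoc (p ∣_ V'), morphismRestrict_ι, Category.assoc, hq,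
      Category.assoc]
  have hunr : FormallyUnramified (U₁.ι ≫ p ∣_ V') := by
    have : FormallyUnramified ((U₁.ι ≫ p ∣_ V') ≫ V'.ι ≫ q) := by
      rw [hcomp]; infer_instance
    exact FormallyUnramified.of_comp _ (V'.ι ≫ q)
  have hlft : LocallyOfFiniteType (U₁.ι ≫ p ∣_ V') := inferInstance
  have hlfp : LocallyOfFinitePresentation (U₁.ι ≫ p ∣_ V') :=
    Groth.Agent.Lib.Helper27.NoethLfp.locallyOfFinitePresentation_of_isLocallyNoetherian _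
  have hetale : Etale (U₁.ι ≫ p ∣_ V') := Etale.of_formallyUnramified_of_flat _
  -- transfer to `U`
  have hrange : Set.range U.ι = Set.range (U₁.ι ≫ (p ⁻¹ᵁ V').ι) := by
    rw [Scheme.Opens.range_ι]
    ext x
    constructor
    · intro hx
      have hxV : x ∈ p ⁻¹ᵁ V' := hV' ▸ hUV hx
      exact ⟨⟨⟨x, hxV⟩, hx⟩, rfl⟩
    · rintro ⟨z, rfl⟩
      rw [Scheme.Hom.comp_apply]
      exact z.2
  let e := IsOpenImmersion.isoOfRangeEq U.ι (U₁.ι ≫ (p ⁻¹ᵁ V').ι) hrange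
  have he : e.hom ≫ U₁.ι ≫ (p ⁻¹ᵁ V').ι = U.ι := IsOpenImmersion.isoOfRangeEq_hom_fac _ _ _
  have hfinal : U.ι ≫ p = e.hom ≫ (U₁.ι ≫ p ∣_ V') ≫ V'.ι := by
    rw [Category.assoc, morphismRestrict_ι, ← he]
    simp only [Category.assoc]
  rw [hfinal]
  infer_instance

end Main

end Groth.Agent.Lib.Helper28.FinQuotInertia
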