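import Mathlib
import Groth.Agent.Lib.Helper1.RestrExact

/-!
# Sheaves of modules of finite type over an arbitrary sheaf of rings on a space

For a sheaf of rings `R` on a topological space `T` and a sheaf of `R`-modules `N`:
`N` is of finite type (Mathlib's `SheafOfModules.IsFiniteType`) iff there are an open cover `U i` and finite families
of sections over the `U i` which generate `N` locally (`exists_local_gens_of_isFiniteType`,
`isFiniteType_of_local_gens`).

The key algebraic input: a morphism from a free module on a *finite* type is, on sections, a combination of the images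
of the free generators (`freeHom_app_mem_span`), by the decomposition `𝟙 = ∑ proj i ≫ ιFree i` of a finite coproduct.
-/

set_option autoImplicit false
universe u
open CategoryTheory CategoryTheory.Limits Opposite TopologicalSpace

namespace Groth.Agent.Lib.Helper28.FinTypeGen

open SheafOfModules

section general

variable {C : Type u} [SmallCategory C] {J : GrothendieckTopology C} {R : Sheaf J RingCat.{u}}

theorem sum_val_app {M N : SheafOfModules.{u} R} {ι : Type*} (s : Finset ι) (φ : ι → (M ⟶ N)) (X : Cᵒᵖ)
    (a : M.val.obj X) :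
    ((∑ i ∈ s, φ i).val.app X).hom a = ∑ i ∈ s, ((φ i).val.app X).hom a := by
  classical
  induction s using Finset.induction_on with
  | empty => rfl
  | insert i s hi ih =>
    rw [Finset.sum_insert hi, Finset.sum_insert hi, ← ih]
    rfl

section free

variable {I : Type u}

/-- the `i`-th coordinate projection of a free module -/
noncomputable def proj [DecidableEq I] (i : I) : free (R := R) I ⟶ unit R :=
  Cofan.IsColimit.desc (isColimitFreeCofan I) (fun j => if j = i then 𝟙 (unit R) else 0)

theorem ιFree_proj [DecidableEq I] (i j : I) :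
    ιFree (R := R) j ≫ proj i = if j = i then 𝟙 (unit R) else 0 := by
  exact Cofan.IsColimit.fac (isColimitFreeCofan I) _ j

theorem sum_proj_ιFree [Fintype I] [DecidableEq I] :
    ∑ i : I, proj (R := R) i ≫ ιFree i = 𝟙 (free (R := R) I) := by
  refine Cofan.IsColimit.hom_ext (isColimitFreeCofan I) _ _ (fun j => ?_)
  change ιFree j ≫ (∑ i : I, proj (R := R) i ≫ ιFree i) = ιFree j ≫ 𝟙 (free (R := R) I)
  rw [Preadditive.comp_sum, Category.comp_id]
  have : ∀ i : I, ιFree (R := R) j ≫ proj i ≫ ιFree i = if i = j then ιFree j else 0 := by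
    intro i
    rw [← Category.assoc, ιFree_proj]
    split_ifs with h1 h2 h2
    · subst h1; rw [Category.id_comp]
    · exact absurd h1.symm h2
    · exact absurd h2.symm h1
    · rw [zero_comp]
  rw [Finset.sum_congr rfl (fun i _ => this i), Finset.sum_ite_eq' Finset.univ j]
  simp

/-- a morphism out of the unit is multiplication by the image of `1` -/
theorem unit_hom_app {M : SheafOfModules.{u} R} (φ : unit R ⟶ M) (X : Cᵒᵖ) (r : R.obj.obj X) :
    (φ.val.app X).hom r = r • (show M.val.obj X from (M.unitHomEquiv φ).val X) := by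
  have h := (φ.val.app X).hom.map_smul r (1 : R.obj.obj X)
  have h' : (r • (1 : R.obj.obj X) : R.obj.obj X) = r := by rw [smul_eq_mul, mul_one]
  have h'' : (φ.val.app X).hom (r • (1 : R.obj.obj X) : R.obj.obj X) = (φ.val.app X).hom r := congrArg _ h'
  exact h''.symm.trans h

/-- **the image of a morphism from a finite free module consists of combinations of the images of the free
generators** -/
theorem freeHom_app_mem_span [Finite I] {M : SheafOfModules.{u} R} (π : free (R := R) I ⟶ M) (X : Cᵒᵖ)
    (a : (free (R := R) I).val.obj X) :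
    (π.val.app X).hom a ∈ Submodule.span (R.obj.obj X)
      (Set.range fun i : I => (show M.val.obj X from (M.freeHomEquiv π i).val X)) := by
  classical
  haveI : Fintype I := Fintype.ofFinite I
  have h1 : a = ∑ i : I, ((ιFree (R := R) i).val.app X).hom (((proj (R := R) i).val.app X).hom a) := by
    have := sum_val_app (Finset.univ : Finset I) (fun i => proj (R := R) i ≫ ιFree i) X a
    rw [sum_proj_ιFree] at this
    exact this
  rw [h1, map_sum]
  refine Submodule.sum_mem _ (fun i _ => ?_)
  have h2 : (π.val.app X).hom (((ιFree (R := R) i).val.app X).hom (((proj (R := R) i).val.app X).hom a)) =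
      (((ιFree (R := R) i ≫ π).val.app X).hom (((proj (R := R) i).val.app X).hom a)) := rfl
  rw [h2, unit_hom_app]
  refine Submodule.smul_mem _ _ (Submodule.subset_span ⟨i, rfl⟩)

end free

/-- an epimorphism of sheaves of modules is locally surjective -/
theorem imageSieve_mem_of_epi {M N : SheafOfModules.{u} R} (π : M ⟶ N) [Epi π] {X : C} (t : N.val.obj (op X)) :
    ∃ S : Sieve X, S ∈ J X ∧ ∀ {Y : C} (f : Y ⟶ X), S f →
      ∃ a : M.val.obj (op Y), (π.val.app (op Y)).hom a = (show N.val.obj (op Y) from N.val.map f.op t) := by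
  have : Epi ((SheafOfModules.toSheaf.{u} R).map π) := inferInstance
  have hls : Sheaf.IsLocallySurjective ((SheafOfModules.toSheaf.{u} R).map π) :=
    (Sheaf.isLocallySurjective_iff_epi' _ _).2 inferInstance
  refine ⟨_, hls.imageSieve_mem t, ?_⟩
  intro Y f hf
  obtain ⟨a, ha⟩ := hf
  exact ⟨a, ha⟩

end general

variable {T : TopCat.{u}} {R : TopCat.Sheaf RingCat.{u} T} (N : SheafOfModules.{u} R)

/-- restriction of sections of a sheaf of modules on a space -/
noncomputable def rs {W W' : Opens T} (h : W' ≤ W) (t : N.val.obj (op W)) : N.val.obj (op W') :=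
  N.val.map (homOfLE h).op t

theorem rs_rs {W W' W'' : Opens T} (h : W' ≤ W) (h' : W'' ≤ W') (t : N.val.obj (op W)) :
    rs N h' (rs N h t) = rs N (h'.trans h) t := by
  have := ConcreteCategory.congr_hom (N.val.presheaf.map_comp (homOfLE h).op (homOfLE h').op) t
  exact this.symm

/-- **a sheaf of modules of finite type is locally generated by finitely many sections** -/
theorem exists_local_gens_of_isFiniteType [SheafOfModules.IsFiniteType.{u} N] :
    ∃ (ι : Type u) (U : ι → Opens T) (G : ∀ i, Finset (N.val.obj (op (U i)))), (⨆ i, U i = ⊤) ∧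
      ∀ (i : ι) (W : Opens T) (hW : W ≤ U i) (t : N.val.obj (op W)) (y : T), y ∈ W →
        ∃ (W' : Opens T) (hW' : W' ≤ W), y ∈ W' ∧
          rs N hW' t ∈ Submodule.span (R.obj.obj (op W')) ((fun g => rs N (hW'.trans hW) g) '' (G i : Set _)) := by
  classical
  obtain ⟨σ, hσ⟩ := SheafOfModules.IsFiniteType.exists_localGeneratorsData N
  have hfin : ∀ i, Finite (σ.generators i).I := fun i => (hσ.isFiniteType i).finite
  let ft : ∀ i, Fintype (σ.generators i).I := fun i => Fintype.ofFinite _
  refine ⟨σ.I, σ.X, fun i => (Finset.univ : Finset (σ.generators i).I).image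
    (fun j => (show N.val.obj (op (σ.X i)) from ((σ.generators i).s j).val (op (Over.mk (𝟙 (σ.X i)))))), ?_, ?_⟩
  · have := σ.coversTop
    rw [Opens.coversTop_iff] at this
    exact this.iSup_eq_top
  · intro i W hW t y hy
    let X : Over (σ.X i) := Over.mk (homOfLE hW)
    let t' : (N.over (σ.X i)).val.obj (op X) := t
    obtain ⟨S, hS, hSf⟩ := imageSieve_mem_of_epi (σ.generators i).π t'
    rw [GrothendieckTopology.mem_over_iff] at hS
    obtain ⟨W', f, hf, hyW'⟩ := hS y hy
    rw [Sieve.overEquiv_iff] at hf
    obtain ⟨a, ha⟩ := hSf _ hf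
    refine ⟨W', leOfHom f, hyW', ?_⟩
    have h1 := freeHom_app_mem_span (σ.generators i).π (op (Over.mk (f ≫ X.hom))) a
    rw [ha] at h1
    refine Submodule.span_mono ?_ h1
    rintro _ ⟨j, rfl⟩
    refine ⟨_, Finset.mem_coe.2 (Finset.mem_image_of_mem _ (Finset.mem_univ j)), ?_⟩
    have e1 : (N.over (σ.X i)).freeHomEquiv (σ.generators i).π = (σ.generators i).s :=
      Equiv.apply_symm_apply _ _
    have e2 := PresheafOfModules.sections_property ((σ.generators i).s j)
      (X := op (Over.mk (𝟙 (σ.X i)))) (Y := op (Over.mk (f ≫ X.hom))) (Over.homMk (f ≫ X.hom)).op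
    beta_reduce
    rw [e1]
    exact e2

/-- the section of `N.over U` defined by an element of `N(U)` -/
noncomputable def secOver (U : Opens T) (g : N.val.obj (op U)) : (N.over U).sections :=
  PresheafOfModules.sectionsMk (M := (N.over U).val)
    (fun W => (show (N.over U).val.obj W from rs N (leOfHom W.unop.hom) g))
    (fun W W' f => by
      exact rs_rs N (leOfHom W.unop.hom) (leOfHom f.unop.left) g)

/-- finitely many sections over `U` which generate locally give generating sections of `N.over U` -/
noncomputable def genOver (U : Opens T) (G : Finset (N.val.obj (op U)))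
    (h : ∀ (W : Opens T) (hW : W ≤ U) (t : N.val.obj (op W)) (y : T), y ∈ W →
        ∃ (W' : Opens T) (hW' : W' ≤ W), y ∈ W' ∧
          rs N hW' t ∈ Submodule.span (R.obj.obj (op W')) ((fun g => rs N (hW'.trans hW) g) '' (G : Set _))) :
    (N.over U).GeneratingSections where
  I := ↥G
  s g := secOver N U g.1
  epi := by
    apply (SheafOfModules.toSheaf.{u} (R.over U)).epi_of_epi_map
    apply (config := { allowSynthFailures := true }) Sheaf.epi_of_isLocallySurjective
    refine ⟨fun {V} t => ?_⟩
    rw [GrothendieckTopology.mem_over_iff]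
    intro y hy
    let t0 : N.val.obj (op V.left) := t
    obtain ⟨W', hW', hyW', hmem⟩ := h V.left (leOfHom V.hom) t0 y hy
    refine ⟨W', homOfLE hW', ?_, hyW'⟩
    rw [Sieve.overEquiv_iff]
    let Z : Over U := Over.mk (homOfLE hW' ≫ V.hom)
    let π := (N.over U).freeHomEquiv.symm (fun g : ↥G => secOver N U g.1)
    have hle : Submodule.span (R.obj.obj (op W')) ((fun g => rs N (hW'.trans (leOfHom V.hom)) g) '' (G : Set _))
        ≤ LinearMap.range (π.val.app (op Z)).hom := by
      rw [Submodule.span_le]
      rintro _ ⟨g, hg, rfl⟩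
      refine ⟨(freeSection (R := R.over U) (⟨g, hg⟩ : ↥G)).val (op Z), ?_⟩
      have := sectionsMap_freeHomEquiv_symm_freeSection (M := N.over U) (fun g : ↥G => secOver N U g.1) ⟨g, hg⟩
      exact congrArg (fun s => s.val (op Z)) this
    obtain ⟨a, ha⟩ := hle hmem
    exact ⟨a, ha⟩

instance genOver_isFiniteType (U : Opens T) (G : Finset (N.val.obj (op U))) (h) :
    (genOver N U G h).IsFiniteType where
  finite := inferInstanceAs (Finite ↥G)

/-- **a sheaf of modules locally generated by finitely many sections is of finite type** -/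
theorem isFiniteType_of_local_gens (ι : Type u) (U : ι → Opens T) (G : ∀ i, Finset (N.val.obj (op (U i))))
    (hcov : ⨆ i, U i = ⊤)
    (h : ∀ (i : ι) (W : Opens T) (hW : W ≤ U i) (t : N.val.obj (op W)) (y : T), y ∈ W →
        ∃ (W' : Opens T) (hW' : W' ≤ W), y ∈ W' ∧
          rs N hW' t ∈ Submodule.span (R.obj.obj (op W')) ((fun g => rs N (hW'.trans hW) g) '' (G i : Set _))) :
    SheafOfModules.IsFiniteType.{u} N := by
  have hc : (Opens.grothendieckTopology T).CoversTop U := by
    rw [Opens.coversTop_iff]
    exact hcov
  let σ : SheafOfModules.LocalGeneratorsData.{u} N :=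
    { I := ι, X := U, coversTop := hc, generators := fun i => genOver N (U i) (G i) (h i) }
  have hσ : σ.IsFiniteType := { isFiniteType := fun i => genOver_isFiniteType N (U i) (G i) (h i) }
  exact { exists_localGeneratorsData := ⟨σ, hσ⟩ }

end Groth.Agent.Lib.Helper28.FinTypeGen
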