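import Groth.Agent.Lib.Helper28.FinType
import Groth.Agent.Lib.Helper28.FinTypeConv

/-!
# Generation of the sections of a quasi-coherent module over an affine open: local criteria

* `FinType.span_res_basicOpen_eq_top`: generators over an affine open `U` restrict to generators over `D(ρ)`.
* `FinType.mem_span_of_locally`: a section over an affine open `U` which is, locally on `U`, a combination of
  (restrictions of) elements of `G` is a combination of elements of `G`.
-/

set_option autoImplicit false
universe u
open CategoryTheory CategoryTheory.Limits AlgebraicGeometry Opposite TopologicalSpace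
open AlgebraicGeometry.Scheme.Modules

namespace Groth.Agent.Lib.Helper28.FinType

open Groth.Agent.Lib.Helper28.QCohLoc

variable {X : Scheme.{u}} {M : X.Modules}

/-- generators over `U` restrict to generators over an open which is a basic open of `U` -/
theorem span_res_basicOpen_eq_top {U O : X.Opens} (h : IsLocOn M U) (ρ : Γ(X, U)) (e : O = X.basicOpen ρ)
    (hO : O ≤ U) (G : Set Γ(M, U)) (hG : Submodule.span Γ(X, U) G = ⊤) :
    Submodule.span Γ(X, O) ((fun g => res M hO g) '' G) = ⊤ := by
  subst e
  rw [eq_top_iff]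
  intro τ _
  obtain ⟨k, m, hkm⟩ := h.surj ρ τ
  have hm : res M (X.basicOpen_le ρ) m ∈
      Submodule.span Γ(X, X.basicOpen ρ) ((fun g => res M (X.basicOpen_le ρ) g) '' G) :=
    res_mem_span _ _ m (by rw [hG]; trivial)
  have hτ : τ = ((((isUnit_ur ρ).pow k).unit⁻¹ : (Γ(X, X.basicOpen ρ))ˣ) : Γ(X, X.basicOpen ρ)) •
      res M (X.basicOpen_le ρ) m := by
    rw [← hkm, smul_smul, IsUnit.val_inv_mul, one_smul]
  rw [hτ]
  exact Submodule.smul_mem _ _ hm

/-- **a section over an affine open which is locally a combination of elements of `G` is a combination of elements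
of `G`** -/
theorem mem_span_of_locally {U : X.Opens} (hU : IsAffineOpen U) (h : IsLocOn M U) (G : Set Γ(M, U)) (t : Γ(M, U))
    (hloc : ∀ x : X, x ∈ U → ∃ (O : X.Opens) (hO : O ≤ U), x ∈ O ∧
      res M hO t ∈ Submodule.span Γ(X, O) ((fun g => res M hO g) '' G)) :
    t ∈ Submodule.span Γ(X, U) G := by
  classical
  let S : Set Γ(X, U) := {r | ∃ n : ℕ, (r ^ n • t : Γ(M, U)) ∈ Submodule.span Γ(X, U) G}
  have hS : Ideal.span S = ⊤ := by
    rw [← hU.self_le_iSup_basicOpen_iff]
    intro x hx
    obtain ⟨O, hO, hxO, hmem⟩ := hloc x hx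
    obtain ⟨r, hrO, hxr⟩ := hU.exists_basicOpen_le (V := O) ⟨x, hxO⟩ hx
    have h1 : res M (X.basicOpen_le r) t ∈
        Submodule.span Γ(X, X.basicOpen r) ((fun g => res M (X.basicOpen_le r) g) '' G) := by
      have h2 := res_mem_span hrO _ _ hmem
      rw [res_res, Set.image_image] at h2
      have h3 : (fun g => res M hrO (res M hO g)) = (fun g => res M (X.basicOpen_le r) g) := by
        funext g; rw [res_res]
      rw [h3] at h2
      exact h2
    obtain ⟨n, m, hm, e⟩ := exists_pow_smul_eq_res_mem hU r G _ h1
    have h0 : res M (X.basicOpen_le r) (r ^ n • t - m) = 0 := by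
      rw [res_sub, res_smul, resO_pow, e, sub_self]
    obtain ⟨N, hN⟩ := h.inj r _ h0
    rw [smul_sub, sub_eq_zero, smul_smul, ← pow_add] at hN
    refine Opens.mem_iSup.mpr ⟨⟨r, N + n, ?_⟩, hxr⟩
    rw [hN]
    exact Submodule.smul_mem _ _ hm
  refine Submodule.mem_of_span_eq_top_of_smul_pow_mem _ S hS t ?_
  intro r
  exact r.2

end Groth.Agent.Lib.Helper28.FinType
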