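import Groth.Prelude.Def_RelSpec2
import Groth.Agent.Lib.Helper28.FinTypeGen
import Groth.Agent.Lib.Helper28.FinTypeLoc

/-!
# Finite type for direct images along an affine morphism, over the direct-image algebra

For an affine morphism `f : X ⟶ S` and a quasi-coherent `F` on `X`: `F` is of finite type iff `f_* F` is of finite
type over the sheaf of rings `f_* O_X` (`isFiniteType_dirImg`, `isFiniteType_of_dirImg`).
-/

set_option autoImplicit false
universe u
open CategoryTheory CategoryTheory.Limits AlgebraicGeometry Opposite TopologicalSpace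
open AlgebraicGeometry.Scheme.Modules

namespace Groth.Agent.Lib.Helper28.FinTypeDirImg

open Groth.Agent.Lib.Helper28.QCohLoc Groth.Agent.Lib.Helper28.FinType Groth.Agent.Lib.Helper28.FinTypeGen

variable {X S : Scheme.{u}} (f : X ⟶ S) [IsAffineHom f] (F : X.Modules)

/-- the sections of the direct image are those over the preimage -/
theorem rs_dirImg {W W' : S.Opens} (h : W' ≤ W) (t : Γ(F, f ⁻¹ᵁ W)) :
    rs ((AMod.dirImg f).obj F) h t = res F (f.preimage_mono h) t := rfl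

theorem isFiniteType_dirImg [F.IsQuasicoherent] [SheafOfModules.IsFiniteType.{u} (R := X.ringCatSheaf) F] :
    SheafOfModules.IsFiniteType.{u} (R := AMod.ringSheaf (RelSpec.QCAlg.directImage f))
      ((AMod.dirImg f).obj F) := by
  classical
  have hfin : ∀ V : S.affineOpens, ∃ G : Finset Γ(F, f ⁻¹ᵁ V.1),
      Submodule.span Γ(X, f ⁻¹ᵁ V.1) (G : Set Γ(F, f ⁻¹ᵁ V.1)) = ⊤ := fun V =>
    (finite_of_isAffineOpen F (V.2.preimage f)).fg_top
  choose G hG using hfin
  refine isFiniteType_of_local_gens ((AMod.dirImg f).obj F) S.affineOpens (fun V => V.1) (fun V => G V) ?_ ?_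
  · exact iSup_affineOpens_eq_top S
  · intro V W hW t y hy
    obtain ⟨r, hrW, hyr⟩ := V.2.exists_basicOpen_le (V := W) ⟨y, hy⟩ (hW hy)
    refine ⟨S.basicOpen r, hrW, hyr, ?_⟩
    have e : f ⁻¹ᵁ (S.basicOpen r) = X.basicOpen (f.app V.1 r) := Scheme.preimage_basicOpen f r
    have htop := span_res_basicOpen_eq_top (isLocOn_of_isQuasicoherent F (V.2.preimage f)) (f.app V.1 r) e
      (f.preimage_mono (hrW.trans hW)) (G V : Set Γ(F, f ⁻¹ᵁ V.1)) (hG V)
    have : (show Γ(F, f ⁻¹ᵁ (S.basicOpen r)) from rs ((AMod.dirImg f).obj F) hrW t) ∈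
        Submodule.span Γ(X, f ⁻¹ᵁ (S.basicOpen r))
          ((fun g => res F (f.preimage_mono (hrW.trans hW)) g) '' (G V : Set Γ(F, f ⁻¹ᵁ V.1))) := by
      rw [htop]; trivial
    exact this

theorem isFiniteType_of_dirImg [F.IsQuasicoherent]
    [SheafOfModules.IsFiniteType.{u} (R := AMod.ringSheaf (RelSpec.QCAlg.directImage f)) ((AMod.dirImg f).obj F)] :
    SheafOfModules.IsFiniteType.{u} (R := X.ringCatSheaf) F := by
  classical
  obtain ⟨ι, U, G, hcov, h⟩ := exists_local_gens_of_isFiniteType ((AMod.dirImg f).obj F)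
  let κ : Type u := {V : S.affineOpens // ∃ i, V.1 ≤ U i}
  have hcovX : IsOpenCover (fun V : κ => f ⁻¹ᵁ V.1.1) := by
    rw [IsOpenCover, eq_top_iff]
    intro x _
    have hy : f.base x ∈ (⨆ i, U i : S.Opens) := by rw [hcov]; trivial
    obtain ⟨i, hi⟩ := Opens.mem_iSup.mp hy
    obtain ⟨_, ⟨V, (hV : IsAffineOpen V), rfl⟩, hyV, hVU⟩ :=
      S.isBasis_affineOpens.exists_subset_of_mem_open hi (U i).2
    exact Opens.mem_iSup.mpr ⟨⟨⟨V, hV⟩, i, hVU⟩, hyV⟩
  refine isFiniteType_of_finite_cover F (fun V : κ => f ⁻¹ᵁ V.1.1) hcovX (fun V => V.1.2.preimage f) ?_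
  intro V
  obtain ⟨i, hVi⟩ := V.2
  let Gi : Finset Γ(F, f ⁻¹ᵁ (U i)) := G i
  let G' : Finset Γ(F, f ⁻¹ᵁ V.1.1) := Gi.image (fun g => res F (f.preimage_mono hVi) g)
  refine ⟨G', ?_⟩
  rw [eq_top_iff]
  intro t _
  refine mem_span_of_locally (V.1.2.preimage f) (isLocOn_of_isQuasicoherent F (V.1.2.preimage f)) _ t ?_
  intro x hx
  obtain ⟨W', hW', hyW', hmem⟩ := h i V.1.1 hVi t (f.base x) hx
  refine ⟨f ⁻¹ᵁ W', f.preimage_mono hW', hyW', ?_⟩
  have hmem' : res F (f.preimage_mono hW') t ∈ Submodule.span Γ(X, f ⁻¹ᵁ W')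
      ((fun g => res F (f.preimage_mono (hW'.trans hVi)) g) '' (Gi : Set Γ(F, f ⁻¹ᵁ (U i)))) := hmem
  rw [Finset.coe_image, Set.image_image]
  have h3 : (fun g => res F (f.preimage_mono hW') (res F (f.preimage_mono hVi) g)) =
      (fun g => res F (f.preimage_mono (hW'.trans hVi)) g) := by
    funext g; rw [res_res]
  rw [h3]
  exact hmem'

end Groth.Agent.Lib.Helper28.FinTypeDirImg
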