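import Mathlib.RingTheory.Flat.EquationalCriterion
import Mathlib.RingTheory.RingHom.Flat
import Mathlib.RingTheory.GradedAlgebra.HomogeneousLocalization

/-!
# Flatness of the homogeneous localizations of a graded algebra whose graded pieces are eventually flat
-/

set_option autoImplicit false
universe u
open HomogeneousLocalization
noncomputable section

namespace Groth.Agent.Lib.Helper28.FlatGr

/-- a module which is a "directed union of images" of flat modules is flat (equational criterion) -/
theorem flat_of_cover {R M : Type*} [CommRing R] [AddCommGroup M] [Module R M]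
    {κ : Type*} (N : κ → Type*) [∀ k, AddCommGroup (N k)] [∀ k, Module R (N k)]
    (good : κ → Prop) (hflat : ∀ k, good k → Module.Flat R (N k))
    (φ : ∀ k, N k →ₗ[R] M)
    (hsurj : ∀ (l : ℕ) (x : Fin l → M), ∃ k, good k ∧ ∃ z : Fin l → N k, ∀ i, φ k (z i) = x i)
    (hker : ∀ k, good k → ∀ z : N k, φ k z = 0 →
      ∃ k', good k' ∧ ∃ τ : N k →ₗ[R] N k', (∀ w, φ k' (τ w) = φ k w) ∧ τ z = 0) :
    Module.Flat R M := by
  refine Module.Flat.of_forall_isTrivialRelation ?_
  intro l c x hx
  obtain ⟨k, hk, z, hz⟩ := hsurj l x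
  have h0 : φ k (∑ i, c i • z i) = 0 := by
    rw [map_sum]
    simp only [map_smul, hz]
    exact hx
  obtain ⟨k', hk', τ, hτ, hτ0⟩ := hker k hk _ h0
  have := hflat k' hk'
  have hrel : ∑ i, c i • τ (z i) = 0 := by
    rw [← hτ0, map_sum]
    simp only [map_smul]
  obtain ⟨m, a, y, hy, ha⟩ := Module.Flat.isTrivialRelation_of_sum_smul_eq_zero hrel
  refine ⟨m, a, fun j => φ k' (y j), fun i => ?_, ha⟩
  have hyi : τ (z i) = ∑ j, a i j • y j := hy i
  rw [← hz i, ← hτ (z i), hyi, map_sum]
  simp only [map_smul]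

section graded

variable {R A : Type u} [CommRing R] [CommRing A] [Algebra R A] (𝒜 : ℕ → AddSubgroup A) [GradedRing 𝒜]
  (hρ : ∀ r : R, algebraMap R A r ∈ 𝒜 0)

include hρ in
theorem mem_span_iff (d : ℕ) (x : A) : x ∈ Submodule.span R (𝒜 d : Set A) ↔ x ∈ 𝒜 d := by
  constructor
  · intro h
    induction h using Submodule.span_induction with
    | mem x hx => exact hx
    | zero => exact zero_mem _
    | add x y _ _ hx hy => exact add_mem hx hy
    | smul r x _ hx =>
      rw [Algebra.smul_def]
      have := SetLike.mul_mem_graded (hρ r) hx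
      rwa [zero_add] at this
  · intro h
    exact Submodule.subset_span h

end graded

section away

variable {R A : Type u} [CommRing R] [CommRing A] [Algebra R A] (𝒜 : ℕ → AddSubgroup A) [GradedRing 𝒜]
  (hρ : ∀ r : R, algebraMap R A r ∈ 𝒜 0)
  (d₀ : ℕ) (hflat : ∀ d, d₀ ≤ d → Module.Flat R ↥(Submodule.span R (𝒜 d : Set A)))
  {f : A} {e : ℕ} (hf : f ∈ 𝒜 e) (he : 0 < e)

include hf in
theorem pow_mul_mem {k j i : ℕ} {a : A} (ha : a ∈ 𝒜 i) (hji : j • e + i = k) : f ^ j * a ∈ 𝒜 k := by
  have := SetLike.mul_mem_graded (SetLike.pow_mem_graded j hf) ha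
  rwa [hji] at this

theorem mk_pow_mul (k j : ℕ) (a : A) (ha : a ∈ 𝒜 (k • e)) (hb : f ^ j * a ∈ 𝒜 ((k + j) • e)) :
    Away.mk 𝒜 hf (k + j) (f ^ j * a) hb = Away.mk 𝒜 hf k a ha := by
  apply HomogeneousLocalization.val_injective
  rw [Away.val_mk, Away.val_mk, Localization.mk_eq_mk_iff, Localization.r_iff_exists]
  refine ⟨1, ?_⟩
  simp only [OneMemClass.coe_one, one_mul]
  rw [pow_add]
  ring

include hρ hflat he hf in
/-- **the degree-zero localization `A_(f)` is flat over `R` when the graded pieces of `A` are eventually flat** -/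
theorem flat_away (θ : R →+* Away 𝒜 f) (hθ : ∀ r, (θ r).val = Localization.mk (algebraMap R A r) 1) :
    θ.Flat := by
  classical
  let _ := θ.toAlgebra
  show Module.Flat R (Away 𝒜 f)
  have hsm : ∀ (r : R) (z : Away 𝒜 f), r • z = θ r * z := fun r z => Algebra.smul_def r z
  let N : ℕ → Type u := fun k => ↥(Submodule.span R (𝒜 (k • e) : Set A))
  have hmem : ∀ k (z : N k), (z : A) ∈ 𝒜 (k • e) := fun k z => (mem_span_iff 𝒜 hρ _ _).1 z.2
  let φ : ∀ k, N k →ₗ[R] Away 𝒜 f := fun k =>
    { toFun := fun z => Away.mk 𝒜 hf k z.1 (hmem k z)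
      map_add' := by
        intro a b
        apply HomogeneousLocalization.val_injective
        rw [HomogeneousLocalization.val_add, Away.val_mk, Away.val_mk, Away.val_mk, Localization.add_mk_self]
        rfl
      map_smul' := by
        intro r a
        apply HomogeneousLocalization.val_injective
        rw [RingHom.id_apply, hsm, HomogeneousLocalization.val_mul, hθ, Away.val_mk, Away.val_mk,
          Localization.mk_mul, one_mul]
        congr 1
        exact Algebra.smul_def r (a : A) }
  have hφ : ∀ k (z : N k), φ k z = Away.mk 𝒜 hf k z.1 (hmem k z) := fun k z => rfl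
  refine flat_of_cover N (fun k => d₀ ≤ k • e) (fun k hk => hflat _ hk) φ ?_ ?_
  · intro l x
    have hx : ∀ i, ∃ n a ha, Away.mk 𝒜 hf n a ha = x i := fun i => Away.mk_surjective 𝒜 hf (x i)
    choose n a ha hxa using hx
    set K := Finset.univ.sup n + d₀ with hK
    have hnK : ∀ i, n i ≤ K := fun i => (Finset.le_sup (Finset.mem_univ i)).trans (Nat.le_add_right _ _)
    have hgood : d₀ ≤ K • e := by
      have h1 : K ≤ K • e := by
        rw [smul_eq_mul]
        exact Nat.le_mul_of_pos_right _ he
      omega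
    have hb : ∀ i, f ^ (K - n i) * a i ∈ 𝒜 (K • e) := fun i => by
      refine pow_mul_mem 𝒜 hf (ha i) ?_
      rw [← add_smul, Nat.sub_add_cancel (hnK i)]
    refine ⟨K, hgood, fun i => ⟨f ^ (K - n i) * a i, Submodule.subset_span (hb i)⟩, fun i => ?_⟩
    rw [hφ, ← hxa i]
    have h2 : n i + (K - n i) = K := by have := hnK i; omega
    have hb' : f ^ (K - n i) * a i ∈ 𝒜 ((n i + (K - n i)) • e) := by rw [h2]; exact hb i
    rw [← mk_pow_mul 𝒜 hf (n i) (K - n i) (a i) (ha i) hb']
    congr 1
    exact h2.symm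
  · intro k hk z hz
    rw [hφ] at hz
    have hz' := congrArg HomogeneousLocalization.val hz
    rw [Away.val_mk, HomogeneousLocalization.val_zero, Localization.mk_eq_mk'_apply,
      IsLocalization.mk'_eq_zero_iff] at hz'
    obtain ⟨⟨c, j, rfl⟩, hc⟩ := hz'
    have hc' : f ^ j * (z : A) = 0 := hc
    have hτmem : ∀ w : N k, f ^ j * (w : A) ∈ 𝒜 ((k + j) • e) := fun w => by
      refine pow_mul_mem 𝒜 hf (hmem k w) ?_
      rw [add_smul, add_comm]
    refine ⟨k + j, ?_, ?_⟩
    · have : k • e ≤ (k + j) • e := by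
        rw [add_smul]; exact Nat.le_add_right _ _
      omega
    · refine ⟨{ toFun := fun w => ⟨f ^ j * (w : A), Submodule.subset_span (hτmem w)⟩
                map_add' := fun a b => Subtype.ext (mul_add _ _ _)
                map_smul' := fun r a => Subtype.ext (mul_smul_comm _ _ _) }, fun w => ?_, ?_⟩
      · rw [hφ, hφ]
        exact mk_pow_mul 𝒜 hf k j w.1 (hmem k w) (hτmem w)
      · exact Subtype.ext hc'

end away

end Groth.Agent.Lib.Helper28.FlatGr
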