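import Groth.Agent.Lib.Helper28.GenIso
import Groth.Agent.Lib.Helper28.RelTwistVal

/-!
# The cocycle condition for two families of generators can be checked locally (helper28)
-/

set_option autoImplicit false
universe u
open CategoryTheory CategoryTheory.Limits AlgebraicGeometry Opposite TopologicalSpace
noncomputable section

namespace Groth.Agent.Lib.Helper28.GenLocus

open Groth.Agent.Lib.Helper28 Groth.Agent.Lib.Helper28.QCohLoc

variable {X : Scheme.{u}} {M N : X.Modules}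

theorem exists_coef_of_local {Wi Wk : X.Opens} (gi : Γ(M, Wi)) (gk : Γ(M, Wk)) (hi : Γ(N, Wi)) (hk : Γ(N, Wk))
    (hgk : IsGen M Wk gk) (hhk : IsGen N Wk hk)
    (hloc : ∀ z : X, z ∈ Wi ⊓ Wk → ∃ (T : X.Opens) (hTi : T ≤ Wi) (hTk : T ≤ Wk), z ∈ T ∧ ∃ w : Γ(X, T),
       res M hTi gi = (w • res M hTk gk : Γ(M, T)) ∧ res N hTi hi = (w • res N hTk hk : Γ(N, T))) :
    ∃ c : Γ(X, Wi ⊓ Wk), res M inf_le_left gi = (c • res M inf_le_right gk : Γ(M, Wi ⊓ Wk)) ∧
      res N inf_le_left hi = (c • res N inf_le_right hk : Γ(N, Wi ⊓ Wk)) := by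
  have h1 := hgk.coef_smul inf_le_right (res M (inf_le_left : Wi ⊓ Wk ≤ Wi) gi)
  have h2 := hhk.coef_smul inf_le_right (res N (inf_le_left : Wi ⊓ Wk ≤ Wi) hi)
  have hcc : hgk.coef inf_le_right (res M (inf_le_left : Wi ⊓ Wk ≤ Wi) gi) =
      hhk.coef inf_le_right (res N (inf_le_left : Wi ⊓ Wk ≤ Wi) hi) := by
    have hpt : ∀ z : (Wi ⊓ Wk : X.Opens), ∃ (T : X.Opens) (hT : T ≤ Wi ⊓ Wk), z.1 ∈ T ∧
        resO hT (hgk.coef inf_le_right (res M (inf_le_left : Wi ⊓ Wk ≤ Wi) gi)) =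
          resO hT (hhk.coef inf_le_right (res N (inf_le_left : Wi ⊓ Wk ≤ Wi) hi)) := by
      rintro ⟨z, hz⟩
      obtain ⟨T, hTi, hTk, hzT, w, hw1, hw2⟩ := hloc z hz
      have hT : T ≤ Wi ⊓ Wk := le_inf hTi hTk
      refine ⟨T, hT, hzT, ?_⟩
      rw [← hgk.coef_res inf_le_right hT, ← hhk.coef_res inf_le_right hT]
      have e1 : hgk.coef (hT.trans inf_le_right) (res M hT (res M (inf_le_left : Wi ⊓ Wk ≤ Wi) gi)) = w := by
        apply hgk.coef_eq
        rw [res_res]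
        exact hw1.symm
      have e2 : hhk.coef (hT.trans inf_le_right) (res N hT (res N (inf_le_left : Wi ⊓ Wk ≤ Wi) hi)) = w := by
        apply hhk.coef_eq
        rw [res_res]
        exact hw2.symm
      rw [e1, e2]
    choose T hT hzT hres using hpt
    refine eq_of_locally_eq (Coh.structureModule X) T (Wi ⊓ Wk) hT ?_ _ _ hres
    intro z hz
    exact Opens.mem_iSup.mpr ⟨⟨z, hz⟩, hzT ⟨z, hz⟩⟩
  refine ⟨hgk.coef inf_le_right (res M (inf_le_left : Wi ⊓ Wk ≤ Wi) gi), h1.symm, ?_⟩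
  rw [hcc]
  exact h2.symm

end Groth.Agent.Lib.Helper28.GenLocus
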