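import Mathlib
import Groth.Agent.Lib.Helper28.EtDescent

set_option autoImplicit false
set_option linter.style.haveILetI false
universe u
open CategoryTheory CategoryTheory.Limits AlgebraicGeometry MorphismProperty

namespace Groth.Agent.Lib.Helper28.GeomConn

theorem locallyQuasiFinite_of_unramified {X Y : Scheme.{u}} (f : X ⟶ Y) [FormallyUnramified f]
    [LocallyOfFiniteType f] : LocallyQuasiFinite f := by
  refine ⟨fun {U} hU {V} hV e => ?_⟩
  have h1 : (f.appLE U V e).hom.FormallyUnramified :=
    HasRingHomProperty.appLE @FormallyUnramified f ‹_› ⟨U, hU⟩ ⟨V, hV⟩ e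
  have h2 : (f.appLE U V e).hom.FiniteType :=
    HasRingHomProperty.appLE @LocallyOfFiniteType f ‹_› ⟨U, hU⟩ ⟨V, hV⟩ e
  algebraize [(f.appLE U V e).hom]
  exact inferInstanceAs (Algebra.QuasiFinite _ _)

/-- unramified, locally of finite type over a field ⇒ discrete -/
theorem discreteTopology_of_unramified (K : Type u) [Field K] {W : Scheme.{u}}
    (s : W ⟶ Spec (CommRingCat.of K)) [FormallyUnramified s] [LocallyOfFiniteType s] :
    DiscreteTopology W := by
  haveI := locallyQuasiFinite_of_unramified s
  haveI : IsLocallyArtinian (Spec (CommRingCat.of K)) :=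
    Scheme.isLocallyArtinianScheme_Spec.mpr (inferInstanceAs (IsArtinianRing K))
  haveI : IsLocallyArtinian W := IsLocallyArtinian.of_locallyQuasiFinite s
  infer_instance

/-- unramified, locally of finite type over a field ⇒ separated -/
theorem isSeparated_of_unramified (K : Type u) [Field K] {W : Scheme.{u}}
    (s : W ⟶ Spec (CommRingCat.of K)) [FormallyUnramified s] [LocallyOfFiniteType s] :
    IsSeparated s := by
  haveI : FormallyUnramified (pullback.fst s s) :=
    MorphismProperty.of_isPullback (P := @FormallyUnramified.{u})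
      (IsPullback.of_hasPullback s s).flip ‹_›
  haveI : FormallyUnramified (pullback.fst s s ≫ s) :=
    MorphismProperty.comp_mem (W := @FormallyUnramified.{u}) _ _ ‹_› ‹_›
  haveI : DiscreteTopology ↥(pullback s s) :=
    discreteTopology_of_unramified K (pullback.fst s s ≫ s)
  exact ⟨IsClosedImmersion.of_isPreimmersion _ (isClosed_discrete _)⟩

/-- two morphisms into an unramified scheme agreeing "pointwise after some cover" are equal -/
theorem eq_of_forall_exists {T Z B : Scheme.{u}} (h : Z ⟶ B) [FormallyUnramified h]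
    [LocallyOfFiniteType h] (a b : T ⟶ Z) (hab : a ≫ h = b ≫ h)
    (H : ∀ t : T, ∃ (P : Scheme.{u}) (ρ : P ⟶ T), t ∈ Set.range ρ ∧ ρ ≫ a = ρ ≫ b) : a = b := by
  let X' : Over B := Over.mk (a ≫ h)
  let Z' : Over B := Over.mk h
  let a' : X' ⟶ Z' := Over.homMk a
  let b' : X' ⟶ Z' := Over.homMk b hab.symm
  haveI : FormallyUnramified Z'.hom := ‹_›
  haveI : LocallyOfFiniteType Z'.hom := ‹_›
  set ι : (equalizer a' b').left ⟶ T := (equalizer.ι a' b').left with hι
  haveI : IsOpenImmersion ι := Rigidity.isOpenImmersion_equalizer_ι_left a' b'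
  haveI : Surjective ι := by
    refine ⟨fun t => ?_⟩
    obtain ⟨P, ρ, ⟨p, hp⟩, hρ⟩ := H t
    let P' : Over B := Over.mk (ρ ≫ a ≫ h)
    let ρ' : P' ⟶ X' := Over.homMk ρ
    have hρ' : ρ' ≫ a' = ρ' ≫ b' := by ext1; exact hρ
    have h1 : (equalizer.lift ρ' hρ').left ≫ ι = ρ := by
      rw [hι, ← Over.comp_left, equalizer.lift_ι]; rfl
    exact ⟨(equalizer.lift ρ' hρ').left p, by rw [← Scheme.Hom.comp_apply, h1, hp]⟩
  haveI : Epi ι.base := (TopCat.epi_iff_surjective _).2 ι.surjective
  haveI : IsIso ι := IsOpenImmersion.isIso ι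
  rw [← cancel_epi ι]
  exact congr($(equalizer.condition a' b').left)

/-- every point of a scheme is the image of a geometric point -/
theorem exists_geometric_point {T : Scheme.{u}} (t : T) :
    ∃ (K : Type u) (_ : Field K) (_ : IsAlgClosed K) (ξ : Spec (CommRingCat.of K) ⟶ T),
      t ∈ Set.range ξ := by
  refine ⟨AlgebraicClosure (T.residueField t), inferInstance, inferInstance,
    Spec.map (CommRingCat.ofHom (algebraMap (T.residueField t)
      (AlgebraicClosure (T.residueField t)))) ≫ T.fromSpecResidueField t, ?_⟩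
  let pt : ↥(Spec (CommRingCat.of (AlgebraicClosure (T.residueField t)))) :=
    IsLocalRing.closedPoint (AlgebraicClosure (T.residueField t))
  refine ⟨pt, ?_⟩
  rw [Scheme.Hom.comp_apply]
  exact Scheme.fromSpecResidueField_apply _ _

section
variable {X' X Z : Scheme.{u}} (π : X' ⟶ X) (h : Z ⟶ X) (φ : X' ⟶ Z) (hφ : φ ≫ h = π)

include hφ in
/-- Lemma K: geometric connectedness of the fibres gives the cocycle condition -/
theorem cocycle_of_geomConn [FormallyUnramified h] [LocallyOfFiniteType h]
    (hconn : ∀ (K : Type u) [Field K] [IsAlgClosed K] (ξ : Spec (CommRingCat.of K) ⟶ X),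
      ConnectedSpace ↑(pullback π ξ)) :
    pullback.fst π π ≫ φ = pullback.snd π π ≫ φ := by
  refine eq_of_forall_exists h _ _ ?_ ?_
  · rw [Category.assoc, Category.assoc, hφ, pullback.condition]
  intro t
  obtain ⟨K, _, _, tb, ht⟩ := exists_geometric_point t
  refine ⟨_, tb, ht, ?_⟩
  -- the geometric points
  set x1 : Spec (CommRingCat.of K) ⟶ X' := tb ≫ pullback.fst π π with hx1
  set x2 : Spec (CommRingCat.of K) ⟶ X' := tb ≫ pullback.snd π π with hx2
  have hx12 : x1 ≫ π = x2 ≫ π := by
    rw [hx1, hx2, Category.assoc, Category.assoc, pullback.condition]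
  set xb : Spec (CommRingCat.of K) ⟶ X := x1 ≫ π with hxb
  haveI : ConnectedSpace ↑(pullback π xb) := hconn K xb
  let s : pullback h xb ⟶ Spec (CommRingCat.of K) := pullback.snd h xb
  haveI : FormallyUnramified s :=
    MorphismProperty.of_isPullback (P := @FormallyUnramified.{u})
      (IsPullback.of_hasPullback h xb) ‹_›
  haveI : LocallyOfFiniteType s := inferInstance
  haveI : IsSeparated s := isSeparated_of_unramified K s
  have hc : (pullback.fst π xb ≫ φ) ≫ h = pullback.snd π xb ≫ xb := by
    rw [Category.assoc, hφ, pullback.condition]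
  let φF : pullback π xb ⟶ pullback h xb := pullback.lift _ _ hc
  have hφF1 : φF ≫ pullback.fst h xb = pullback.fst π xb ≫ φ := pullback.lift_fst _ _ _
  have hφF2 : φF ≫ s = pullback.snd π xb := pullback.lift_snd _ _ _
  let c1 : Spec (CommRingCat.of K) ⟶ pullback π xb :=
    pullback.lift x1 (𝟙 _) (by rw [Category.id_comp])
  let c2 : Spec (CommRingCat.of K) ⟶ pullback π xb :=
    pullback.lift x2 (𝟙 _) (by rw [Category.id_comp, ← hx12])
  have hc1 : c1 ≫ pullback.snd π xb = 𝟙 _ := pullback.lift_snd _ _ _
  have hc2 : c2 ≫ pullback.snd π xb = 𝟙 _ := pullback.lift_snd _ _ _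
  have hc1' : c1 ≫ pullback.fst π xb = x1 := pullback.lift_fst _ _ _
  have hc2' : c2 ≫ pullback.fst π xb = x2 := pullback.lift_fst _ _ _
  have key : φF = pullback.snd π xb ≫ c1 ≫ φF := by
    refine Rigidity.eq_of_comp_eq s _ _ ?_ c1 ?_
    · rw [hφF2, Category.assoc, Category.assoc, hφF2, hc1, Category.comp_id]
    · rw [← Category.assoc c1, hc1, Category.id_comp]
  have h2 : c2 ≫ φF = c1 ≫ φF := by
    conv_lhs => rw [key]
    rw [← Category.assoc, hc2, Category.id_comp]
  have h3 := congr($h2 ≫ pullback.fst h xb)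
  rw [Category.assoc, Category.assoc, hφF1, ← Category.assoc, ← Category.assoc, hc1', hc2'] at h3
  rw [← Category.assoc, ← Category.assoc, ← hx1, ← hx2, h3]

end

/-- the topological fibres of a morphism with geometrically connected fibres are connected -/
theorem isConnected_fiber {S' S : Scheme.{u}} (g : S' ⟶ S)
    (hconn : ∀ (K : Type u) [Field K] [IsAlgClosed K] (ξ : Spec (CommRingCat.of K) ⟶ S),
      ConnectedSpace ↑(pullback g ξ)) (s : S) : _root_.IsConnected (g ⁻¹' {s}) := by
  let K := AlgebraicClosure (S.residueField s)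
  let ξ : Spec (CommRingCat.of K) ⟶ S :=
    Spec.map (CommRingCat.ofHom (algebraMap (S.residueField s) K)) ≫ S.fromSpecResidueField s
  have hξ : ∀ z, ξ z = s := by
    intro z
    rw [Scheme.Hom.comp_apply]
    exact Scheme.fromSpecResidueField_apply _ _
  haveI := hconn K ξ
  have : g ⁻¹' {s} = Set.range (pullback.fst g ξ) := by
    ext s'
    constructor
    · intro hs'
      let pt : ↥(Spec (CommRingCat.of K)) := IsLocalRing.closedPoint K
      obtain ⟨z, hz1, -⟩ := Scheme.Pullback.exists_preimage_pullback (f := g) (g := ξ) s' pt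
        (by rw [hξ]; exact hs')
      exact ⟨z, hz1⟩
    · rintro ⟨z, rfl⟩
      change g (pullback.fst g ξ z) = s
      rw [← Scheme.Hom.comp_apply, pullback.condition, Scheme.Hom.comp_apply, hξ]
  rw [this]
  exact isConnected_range (pullback.fst g ξ).continuous

theorem connectedSpace_of_geomConn {S' S : Scheme.{u}} (g : S' ⟶ S)
    (hq : Topology.IsQuotientMap g)
    (hconn : ∀ (K : Type u) [Field K] [IsAlgClosed K] (ξ : Spec (CommRingCat.of K) ⟶ S),
      ConnectedSpace ↑(pullback g ξ)) [ConnectedSpace S] : ConnectedSpace S' := by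
  have := hq.isCoinducing.isConnected_preimage_of_isClosed (isConnected_fiber g hconn)
    isClosed_univ isConnected_univ
  rw [Set.preimage_univ] at this
  exact connectedSpace_iff_univ.2 this

end Groth.Agent.Lib.Helper28.GeomConn
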