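import Mathlib

/-!
# Graded algebras of finite type which agree with a graded subring on every `D₊(f)`, `f` of degree one

Let `B = ⊕ ℬ n` be a graded algebra of finite type over `ℬ 0` and `B' ⊆ B` a homogeneous subring containing `ℬ 0` and
`ℬ 1`.  If every homogeneous element of positive degree has a power in the ideal generated by `ℬ 1`, and for every
`f ∈ ℬ 1` every homogeneous `b` has `f ^ N * b ∈ B'` for some `N`, then `ℬ n ⊆ B'` for all large `n`.
-/

set_option autoImplicit false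
open DirectSum

namespace Groth.Agent.Lib.Helper28.GrFinSub

variable {R B : Type*} [CommRing R] [CommRing B] [Algebra R B] (ℬ : ℕ → Submodule R B) [GradedAlgebra ℬ]

/-- products of at most `k` elements of `G` -/
noncomputable def F (G : Finset B) : ℕ → Finset B
  | 0 => {1}
  | k + 1 => by
    classical
    exact F G k ∪ Finset.image₂ (· * ·) G (F G k)

theorem F_zero (G : Finset B) : F G 0 = {1} := rfl

theorem F_succ (G : Finset B) (k : ℕ) : F G (k + 1) = by
    classical
    exact F G k ∪ Finset.image₂ (· * ·) G (F G k) := rfl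

theorem one_mem_F (G : Finset B) (k : ℕ) : (1 : B) ∈ F G k := by
  classical
  induction k with
  | zero => rw [F_zero]; exact Finset.mem_singleton_self 1
  | succ k ih => rw [F_succ]; exact Finset.mem_union_left _ ih

theorem mul_mem_F (G : Finset B) (k : ℕ) {g μ : B} (hg : g ∈ G) (hμ : μ ∈ F G k) : g * μ ∈ F G (k + 1) := by
  classical
  rw [F_succ]
  exact Finset.mem_union_right _ (Finset.mem_image₂_of_mem hg hμ)

theorem F_mono (G : Finset B) (k : ℕ) {μ : B} (hμ : μ ∈ F G k) : μ ∈ F G (k + 1) := by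
  classical
  rw [F_succ]
  exact Finset.mem_union_left _ hμ

/-- the elements of `F G k` are homogeneous -/
theorem F_homogeneous (G : Finset B) (hG : ∀ t ∈ G, ∃ n, t ∈ ℬ n) (k : ℕ) : ∀ μ ∈ F G k, ∃ e, μ ∈ ℬ e := by
  classical
  induction k with
  | zero =>
    intro μ hμ
    rw [F_zero, Finset.mem_singleton] at hμ
    exact ⟨0, hμ ▸ SetLike.GradedOne.one_mem⟩
  | succ k ih =>
    intro μ hμ
    rw [F_succ, Finset.mem_union] at hμ
    rcases hμ with hμ | hμ
    · exact ih μ hμ
    · obtain ⟨g, hg, ν, hν, rfl⟩ := Finset.mem_image₂.1 hμ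
      obtain ⟨n, hn⟩ := hG g hg
      obtain ⟨e, he⟩ := ih ν hν
      exact ⟨n + e, SetLike.mul_mem_graded hn he⟩

/-- a monomial in `G` is a product of at most `k` elements of `G`, or lies in the `(k+1)`-st power of the ideal
generated by `G` -/
theorem mem_F_or_mem_pow (G : Finset B) {μ : B} (hμ : μ ∈ Submonoid.closure (G : Set B)) :
    ∀ k, μ ∈ F G k ∨ μ ∈ Ideal.span (G : Set B) ^ (k + 1) := by
  induction hμ using Submonoid.closure_induction_left with
  | one => exact fun k => Or.inl (one_mem_F G k)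
  | mul_left g hg ν _ ih =>
    intro k
    cases k with
    | zero =>
      right
      rw [zero_add, pow_one]
      exact Ideal.mul_mem_right _ _ (Ideal.subset_span hg)
    | succ k =>
      rcases ih k with h | h
      · exact Or.inl (mul_mem_F G k hg h)
      · right
        rw [pow_succ']
        exact Ideal.mul_mem_mul (Ideal.subset_span hg) h

section span

variable (G : Finset B) (hGdeg : ∀ t ∈ G, ∃ n, n ≠ 0 ∧ t ∈ ℬ n)
  (hgen : Algebra.adjoin (ℬ 0) (G : Set B) = ⊤)

include hgen in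
theorem mem_span_closure (x : B) : x ∈ Submodule.span (ℬ 0) (Submonoid.closure (G : Set B) : Set B) := by
  rw [← Algebra.adjoin_eq_span, hgen]
  trivial

include hgen in
/-- every element is a combination of products of at most `k` generators, modulo the `(k+1)`-st power of the ideal
generated by the generators -/
theorem exists_add_of_gen (k : ℕ) (x : B) :
    ∃ y z : B, y ∈ Submodule.span (ℬ 0) (F G k : Set B) ∧ z ∈ Ideal.span (G : Set B) ^ (k + 1) ∧ x = y + z := by
  have hx := mem_span_closure ℬ G hgen x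
  induction hx using Submodule.span_induction with
  | mem μ hμ =>
    rcases mem_F_or_mem_pow G hμ k with h | h
    · exact ⟨μ, 0, Submodule.subset_span h, Ideal.zero_mem _, (add_zero μ).symm⟩
    · exact ⟨0, μ, Submodule.zero_mem _, h, (zero_add μ).symm⟩
  | zero => exact ⟨0, 0, Submodule.zero_mem _, Ideal.zero_mem _, (add_zero 0).symm⟩
  | add x x' _ _ hx hx' =>
    obtain ⟨y, z, hy, hz, rfl⟩ := hx
    obtain ⟨y', z', hy', hz', rfl⟩ := hx'
    exact ⟨y + y', z + z', Submodule.add_mem _ hy hy', Ideal.add_mem _ hz hz', by ring⟩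
  | smul c x _ hx =>
    obtain ⟨y, z, hy, hz, rfl⟩ := hx
    refine ⟨c • y, c • z, Submodule.smul_mem _ c hy, ?_, smul_add c y z⟩
    rw [Algebra.smul_def]
    exact Ideal.mul_mem_left _ _ hz

/-- the formal degree of a monomial in generators of positive degree -/
theorem closure_deg {μ : B} (hμ : μ ∈ Submonoid.closure (G : Set B)) (hGdeg : ∀ t ∈ G, ∃ n, n ≠ 0 ∧ t ∈ ℬ n) :
    ∃ e, μ ∈ ℬ e ∧ (e = 1 → μ ∈ G) ∧ (e = 0 → μ = 1) := by
  induction hμ using Submonoid.closure_induction_left with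
  | one => exact ⟨0, SetLike.GradedOne.one_mem, fun h => absurd h (by omega), fun _ => rfl⟩
  | mul_left g hg ν _ ih =>
    obtain ⟨e, he, h1, h0⟩ := ih
    obtain ⟨n, hn0, hn⟩ := hGdeg g hg
    refine ⟨n + e, SetLike.mul_mem_graded hn he, fun h => ?_, fun h => absurd h (by omega)⟩
    have he0 : e = 0 := by omega
    rw [h0 he0, mul_one]
    exact hg

include hgen hGdeg in
/-- the degree-one part is spanned over the degree-zero part by the generators of degree one -/
theorem deg_one_mem_span {x : B} (hx : x ∈ ℬ 1) :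
    x ∈ Submodule.span (ℬ 0) {t : B | t ∈ G ∧ t ∈ ℬ 1} := by
  have key : ∀ y : B, (decompose ℬ y 1 : B) ∈ Submodule.span (ℬ 0) {t : B | t ∈ G ∧ t ∈ ℬ 1} := by
    intro y
    have hy := mem_span_closure ℬ G hgen y
    induction hy using Submodule.span_induction with
    | mem μ hμ =>
      obtain ⟨e, he, h1, -⟩ := closure_deg ℬ G hμ hGdeg
      by_cases h : e = 1
      · subst h
        rw [decompose_of_mem_same ℬ he]
        exact Submodule.subset_span ⟨h1 rfl, he⟩
      · rw [decompose_of_mem_ne ℬ he h]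
        exact Submodule.zero_mem _
    | zero =>
      rw [decompose_zero]
      exact Submodule.zero_mem _
    | add y y' _ _ hy hy' =>
      rw [decompose_add, DirectSum.add_apply, Submodule.coe_add]
      exact Submodule.add_mem _ hy hy'
    | smul c y _ hy =>
      rw [Algebra.smul_def]
      have h1 : (decompose ℬ (algebraMap (ℬ 0) B c * y) 1 : B) = algebraMap (ℬ 0) B c * (decompose ℬ y (1 - 0) : B) :=
        DirectSum.coe_decompose_mul_of_left_mem_of_le ℬ c.2 (Nat.zero_le 1)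
      rw [h1, Nat.sub_zero, ← Algebra.smul_def]
      exact Submodule.smul_mem _ c hy
  have := key x
  rwa [decompose_of_mem_same ℬ hx] at this

end span

section sub

variable (G : Finset B) (hGdeg : ∀ t ∈ G, ∃ n, n ≠ 0 ∧ t ∈ ℬ n)
  (hgen : Algebra.adjoin (ℬ 0) (G : Set B) = ⊤)
  (B' : Subring B) (p0 : ∀ x ∈ ℬ 0, x ∈ B') (p1 : ∀ x ∈ ℬ 1, x ∈ B')
  (phom : ∀ x ∈ B', ∀ i, (decompose ℬ x i : B) ∈ B')

/-- the conductor-like ideal of `B'` attached to an element of `B` -/
def cond (μ : B) : Ideal B' where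
  carrier := {y | (y : B) * μ ∈ B'}
  zero_mem' := by
    show ((0 : B') : B) * μ ∈ B'
    rw [Subring.coe_zero, zero_mul]
    exact B'.zero_mem
  add_mem' := by
    intro a b ha hb
    show ((a + b : B') : B) * μ ∈ B'
    rw [Subring.coe_add, add_mul]
    exact B'.add_mem ha hb
  smul_mem' := by
    intro c y hy
    show ((c * y : B') : B) * μ ∈ B'
    rw [Subring.coe_mul, mul_assoc]
    exact B'.mul_mem c.2 hy

theorem mem_cond_iff (μ : B) (y : B') : y ∈ cond B' μ ↔ (y : B) * μ ∈ B' := Iff.rfl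

/-- the ideal of `B'` generated by the generators of degree one -/
def I₁ : Ideal B' := Ideal.span {y : B' | (y : B) ∈ G ∧ (y : B) ∈ ℬ 1}

theorem I₁_fg : (I₁ ℬ G B').FG := by
  refine Submodule.fg_span ?_
  refine Set.Finite.subset (G.finite_toSet.preimage (Subtype.val_injective.injOn)) ?_
  intro y hy
  exact hy.1

include p0 p1 in
theorem span_le_sub {z : B} (hz : z ∈ Submodule.span (ℬ 0) {t : B | t ∈ G ∧ t ∈ ℬ 1}) : z ∈ B' := by
  induction hz using Submodule.span_induction with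
  | mem t ht => exact p1 t ht.2
  | zero => exact B'.zero_mem
  | add z z' _ _ hz hz' => exact B'.add_mem hz hz'
  | smul c z _ hz =>
    rw [Algebra.smul_def]
    exact B'.mul_mem (p0 _ c.2) hz

include p0 p1 in
theorem mem_I₁_of_mem_span {z : B} (hz : z ∈ Submodule.span (ℬ 0) {t : B | t ∈ G ∧ t ∈ ℬ 1}) :
    ∀ h : z ∈ B', (⟨z, h⟩ : B') ∈ I₁ ℬ G B' := by
  induction hz using Submodule.span_induction with
  | mem t ht => exact fun h => Ideal.subset_span ht
  | zero => exact fun h => (I₁ ℬ G B').zero_mem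
  | add z z' hz1 hz1' hz hz' =>
    intro h
    have h1 := span_le_sub ℬ G B' p0 p1 hz1
    have h2 := span_le_sub ℬ G B' p0 p1 hz1'
    have : (⟨z + z', h⟩ : B') = ⟨z, h1⟩ + ⟨z', h2⟩ := rfl
    rw [this]
    exact (I₁ ℬ G B').add_mem (hz h1) (hz' h2)
  | smul c z hz1 hz =>
    intro h
    have h1 := span_le_sub ℬ G B' p0 p1 hz1
    have : (⟨c • z, h⟩ : B') = ⟨(c : B), p0 _ c.2⟩ * ⟨z, h1⟩ := by
      apply Subtype.ext
      show c • z = (c : B) * z
      rw [Algebra.smul_def]
      rfl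
    rw [this]
    exact Ideal.mul_mem_left _ _ (hz h1)

include hGdeg hgen p0 p1 in
/-- the elements of `B'` of degree one lie in `I₁` -/
theorem mem_I₁_of_deg_one (y : B') (hy : (y : B) ∈ ℬ 1) : y ∈ I₁ ℬ G B' :=
  mem_I₁_of_mem_span ℬ G B' p0 p1 (deg_one_mem_span ℬ G hGdeg hgen hy) y.2

variable (loc : ∀ f ∈ ℬ 1, ∀ k, ∀ b ∈ ℬ k, ∃ N : ℕ, f ^ N * b ∈ B')

include loc in
/-- a power of `I₁` multiplies a given homogeneous element into `B'` -/
theorem exists_pow_le_cond {μ : B} {e : ℕ} (hμ : μ ∈ ℬ e) : ∃ K : ℕ, I₁ ℬ G B' ^ K ≤ cond B' μ := by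
  refine Ideal.exists_pow_le_of_le_radical_of_fg ?_ (I₁_fg ℬ G B')
  refine Ideal.span_le.2 ?_
  intro y hy
  obtain ⟨N, hN⟩ := loc (y : B) hy.2 e μ hμ
  refine ⟨N, ?_⟩
  show ((y ^ N : B') : B) * μ ∈ B'
  rw [Subring.coe_pow]
  exact hN

include p0 in
/-- the homogeneous components of a combination of elements of `F G K` lie in the `B'`-span -/
theorem comp_mem_span (K : ℕ) (hG : ∀ t ∈ G, ∃ n, t ∈ ℬ n) {y : B}
    (hy : y ∈ Submodule.span (ℬ 0) (F G K : Set B)) (n : ℕ) :
    (decompose ℬ y n : B) ∈ Submodule.span B' (F G K : Set B) := by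
  induction hy using Submodule.span_induction with
  | mem μ hμ =>
    obtain ⟨e, he⟩ := F_homogeneous ℬ G hG K μ hμ
    by_cases h : e = n
    · subst h
      rw [decompose_of_mem_same ℬ he]
      exact Submodule.subset_span hμ
    · rw [decompose_of_mem_ne ℬ he h]
      exact Submodule.zero_mem _
  | zero =>
    rw [decompose_zero]
    exact Submodule.zero_mem _
  | add y y' _ _ hy hy' =>
    rw [decompose_add, DirectSum.add_apply, Submodule.coe_add]
    exact Submodule.add_mem _ hy hy'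
  | smul c y _ hy =>
    rw [Algebra.smul_def]
    have h1 : (decompose ℬ (algebraMap (ℬ 0) B c * y) n : B) = algebraMap (ℬ 0) B c * (decompose ℬ y (n - 0) : B) :=
      DirectSum.coe_decompose_mul_of_left_mem_of_le ℬ c.2 (Nat.zero_le n)
    rw [h1, Nat.sub_zero]
    have : algebraMap (ℬ 0) B c * (decompose ℬ y n : B) = (⟨(c : B), p0 _ c.2⟩ : B') • (decompose ℬ y n : B) := rfl
    rw [this]
    exact Submodule.smul_mem _ _ hy

include hgen p0 p1 in
/-- **graded Nakayama**: `B` is spanned over `B'` by the products of at most `K` generators -/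
theorem deg_le_span (K : ℕ) (hG : ∀ t ∈ G, ∃ n, t ∈ ℬ n)
    (hK : Ideal.span (G : Set B) ^ (K + 1) ≤ Ideal.span ((ℬ 1 : Submodule R B) : Set B)) :
    ∀ n, ∀ x ∈ ℬ n, x ∈ Submodule.span B' (F G K : Set B) := by
  classical
  intro n
  induction n using Nat.strong_induction_on with
  | _ n ih =>
    intro x hx
    rcases Nat.eq_zero_or_pos n with hn | hn
    · subst hn
      have : x = (⟨x, p0 x hx⟩ : B') • (1 : B) := by
        show x = x * 1
        rw [mul_one]
      rw [this]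
      exact Submodule.smul_mem _ _ (Submodule.subset_span (one_mem_F G K))
    · obtain ⟨y, z, hy, hz, hxyz⟩ := exists_add_of_gen ℬ G hgen K x
      have hz' := hK hz
      have hxn : x = (decompose ℬ y n : B) + (decompose ℬ z n : B) := by
        conv_lhs => rw [← decompose_of_mem_same ℬ hx, hxyz, decompose_add, DirectSum.add_apply, Submodule.coe_add]
      rw [hxn]
      refine Submodule.add_mem _ (comp_mem_span ℬ G B' p0 K hG hy n) ?_
      obtain ⟨f, t, ht, -, hsum⟩ := Submodule.mem_span_iff_exists_finset_subset.1 hz'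
      rw [← hsum, decompose_sum, DFinsupp.finsetSum_apply, AddSubmonoidClass.coe_finsetSum]
      refine Submodule.sum_mem _ fun g hg => ?_
      have hg1 : g ∈ ℬ 1 := ht hg
      have h1 : (decompose ℬ (f g • g) n : B) = (decompose ℬ (f g) (n - 1) : B) * g :=
        DirectSum.coe_decompose_mul_of_right_mem_of_le ℬ hg1 hn
      rw [h1, mul_comm]
      have : g * (decompose ℬ (f g) (n - 1) : B) = (⟨g, p1 g hg1⟩ : B') • (decompose ℬ (f g) (n - 1) : B) := rfl
      rw [this]
      exact Submodule.smul_mem _ _ (ih (n - 1) (by omega) _ (SetLike.coe_mem _))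

end sub

section final

variable [Algebra.FiniteType (ℬ 0) B]
  (B' : Subring B) (p0 : ∀ x ∈ ℬ 0, x ∈ B') (p1 : ∀ x ∈ ℬ 1, x ∈ B')
  (phom : ∀ x ∈ B', ∀ i, (decompose ℬ x i : B) ∈ B')
  (loc : ∀ f ∈ ℬ 1, ∀ k, ∀ b ∈ ℬ k, ∃ N : ℕ, f ^ N * b ∈ B')
  (dom : ∀ d, 0 < d → ∀ t ∈ ℬ d, ∃ M : ℕ, t ^ M ∈ Ideal.span ((ℬ 1 : Submodule R B) : Set B))
  (ppow : ∀ I : Ideal B', (∀ y : B', (y : B) ∈ ℬ 1 → y ∈ I) → ∀ (k : ℕ) (x : B'), (x : B) ∈ ℬ k → x ∈ I ^ k)

include p0 p1 phom loc dom ppow in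
/-- **the graded subring contains all homogeneous elements of large degree** -/
theorem eventually_le : ∃ n₀ : ℕ, ∀ n, n₀ ≤ n → ∀ x ∈ ℬ n, x ∈ B' := by
  classical
  obtain ⟨G, hgen, hGdeg⟩ := GradedAlgebra.exists_finset_adjoin_eq_top_and_homogeneous_ne_zero ℬ
  have hG : ∀ t ∈ G, ∃ n, t ∈ ℬ n := fun t ht => let ⟨n, _, hn⟩ := hGdeg t ht; ⟨n, hn⟩
  have hrad : Ideal.span (G : Set B) ≤ (Ideal.span ((ℬ 1 : Submodule R B) : Set B)).radical := by
    refine Ideal.span_le.2 fun t ht => ?_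
    obtain ⟨n, hn0, hn⟩ := hGdeg t ht
    obtain ⟨M, hM⟩ := dom n (Nat.pos_of_ne_zero hn0) t hn
    exact ⟨M, hM⟩
  obtain ⟨K, hK⟩ := Ideal.exists_pow_le_of_le_radical_of_fg hrad ⟨G, rfl⟩
  have hK' : Ideal.span (G : Set B) ^ (K + 1) ≤ Ideal.span ((ℬ 1 : Submodule R B) : Set B) :=
    (Ideal.pow_le_pow_right (Nat.le_succ K)).trans hK
  have hspan := deg_le_span ℬ G hgen B' p0 p1 K hG hK'
  have h1 : ∀ μ : B, ∃ e : ℕ, μ ∈ F G K → μ ∈ ℬ e := fun μ => by
    by_cases h : μ ∈ F G K
    · obtain ⟨e, he⟩ := F_homogeneous ℬ G hG K μ h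
      exact ⟨e, fun _ => he⟩
    · exact ⟨0, fun h' => absurd h' h⟩
  choose e he using h1
  have h2 : ∀ μ : B, ∃ Kμ : ℕ, μ ∈ F G K → I₁ ℬ G B' ^ Kμ ≤ cond B' μ := fun μ => by
    by_cases h : μ ∈ F G K
    · obtain ⟨Kμ, hKμ⟩ := exists_pow_le_cond ℬ G B' loc (he μ h)
      exact ⟨Kμ, fun _ => hKμ⟩
    · exact ⟨0, fun h' => absurd h' h⟩
  choose Kc hKc using h2
  refine ⟨(F G K).sup e + (F G K).sup Kc, ?_⟩
  intro n hn x hx
  obtain ⟨f, -, hsum⟩ := Submodule.mem_span_finset.1 (hspan n x hx)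
  have hxn : x = ∑ μ ∈ F G K, (decompose ℬ ((f μ : B') : B) (n - e μ) : B) * μ := by
    conv_lhs => rw [← decompose_of_mem_same ℬ hx, ← hsum, decompose_sum, DFinsupp.finsetSum_apply,
      AddSubmonoidClass.coe_finsetSum]
    refine Finset.sum_congr rfl fun μ hμ => ?_
    have hle : e μ ≤ n := (Finset.le_sup (f := e) hμ).trans ((Nat.le_add_right _ _).trans hn)
    exact DirectSum.coe_decompose_mul_of_right_mem_of_le ℬ (he μ hμ) hle
  rw [hxn]
  refine B'.sum_mem fun μ hμ => ?_
  have hu : (decompose ℬ ((f μ : B') : B) (n - e μ) : B) ∈ B' := phom _ (f μ).2 _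
  have hmem : (⟨_, hu⟩ : B') ∈ I₁ ℬ G B' ^ (n - e μ) :=
    ppow (I₁ ℬ G B') (mem_I₁_of_deg_one ℬ G hGdeg hgen B' p0 p1) (n - e μ) ⟨_, hu⟩ (SetLike.coe_mem _)
  have hle2 : Kc μ ≤ n - e μ := by
    have h3 := Finset.le_sup (f := e) hμ
    have h4 := Finset.le_sup (f := Kc) hμ
    omega
  exact hKc μ hμ (Ideal.pow_le_pow_right hle2 hmem)

end final

end Groth.Agent.Lib.Helper28.GrFinSub
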