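import Groth.Agent.Lib.Helper28.GrTN
import Mathlib.RingTheory.IntegralClosure.IsIntegralClosure.Basic
import Mathlib.RingTheory.IntegralClosure.Algebra.Basic

/-!
# Graded rings with finitely generated irrelevant ideal: pure algebra

* homogeneous generators of positive degree;
* the ring is generated by `𝒜 0` and these generators;
* the ring is a finitely generated module over the subring generated by `𝒜 0` and the `d`-th powers of the
  generators, with homogeneous module generators;
* graded pieces of `a • m` for homogeneous `a`.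
-/

set_option autoImplicit false
universe u
open DirectSum

namespace Groth.Agent.Lib.Helper28.GrIrrGen

variable {A σ : Type u} [CommRing A] [SetLike σ A] [AddSubgroupClass σ A] (𝒜 : ℕ → σ) [GradedRing 𝒜]
variable {M τ : Type u} [AddCommGroup M] [Module A M] [SetLike τ M] [AddSubgroupClass τ M] (ℳ : ℕ → τ)
  [DirectSum.Decomposition ℳ] [SetLike.GradedSMul 𝒜 ℳ]

theorem decompose_smul_of_mem_add {c : ℕ} {a : A} (ha : a ∈ 𝒜 c) (m : M) (l : ℕ) :
    (decompose ℳ (a • m) (c + l) : M) = a • (decompose ℳ m l : M) := by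
  classical
  have hsum : a • m = ∑ j ∈ (decompose ℳ m).support, a • ((decompose ℳ m j : M)) := by
    conv_lhs => rw [← DirectSum.sum_support_decompose ℳ m]
    rw [Finset.smul_sum]
  have hmem : ∀ j, a • ((decompose ℳ m j : M)) ∈ ℳ (c + j) := fun j =>
    SetLike.GradedSMul.smul_mem ha (decompose ℳ m j).2
  rw [hsum, decompose_sum, DFinsupp.finsetSum_apply, AddSubmonoidClass.coe_finsetSum]
  rw [Finset.sum_eq_single l]
  · rw [decompose_of_mem_same ℳ (hmem l)]
  · intro j _ hjl
    rw [decompose_of_mem_ne ℳ (hmem j) (by omega)]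
  · intro hl
    rw [DFinsupp.notMem_support_iff] at hl
    rw [hl]
    simp

theorem decompose_smul_of_mem_lt {c : ℕ} {a : A} (ha : a ∈ 𝒜 c) (m : M) {l : ℕ} (hl : l < c) :
    (decompose ℳ (a • m) l : M) = 0 := by
  classical
  have hsum : a • m = ∑ j ∈ (decompose ℳ m).support, a • ((decompose ℳ m j : M)) := by
    conv_lhs => rw [← DirectSum.sum_support_decompose ℳ m]
    rw [Finset.smul_sum]
  have hmem : ∀ j, a • ((decompose ℳ m j : M)) ∈ ℳ (c + j) := fun j =>
    SetLike.GradedSMul.smul_mem ha (decompose ℳ m j).2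
  rw [hsum, decompose_sum, DFinsupp.finsetSum_apply, AddSubmonoidClass.coe_finsetSum]
  refine Finset.sum_eq_zero fun j _ => ?_
  rw [decompose_of_mem_ne ℳ (hmem j) (by omega)]

/-- homogeneous generators of positive degree of a finitely generated irrelevant ideal -/
theorem exists_homogeneous_generators (hfg : (HomogeneousIdeal.irrelevant 𝒜).toIdeal.FG) :
    ∃ G : Finset A, (∀ g ∈ G, ∃ j, 0 < j ∧ g ∈ 𝒜 j) ∧
      Ideal.span (G : Set A) = (HomogeneousIdeal.irrelevant 𝒜).toIdeal := by
  classical
  obtain ⟨G₀, hG₀⟩ := hfg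
  let G : Finset A := G₀.biUnion
    (fun g => (decompose 𝒜 g).support.image (fun j => (decompose 𝒜 g j : A)))
  have hG₀mem : ∀ g ∈ G₀, g ∈ (HomogeneousIdeal.irrelevant 𝒜).toIdeal := fun g hg => by
    rw [← hG₀]; exact Ideal.subset_span hg
  have hGhom : ∀ g' ∈ G, ∃ j, 0 < j ∧ g' ∈ 𝒜 j := by
    intro g' hg'
    simp only [G, Finset.mem_biUnion, Finset.mem_image] at hg'
    obtain ⟨g, hg, j, hj, rfl⟩ := hg'
    refine ⟨j, Nat.pos_of_ne_zero ?_, SetLike.coe_mem _⟩
    rintro rfl
    have h0' : (decompose 𝒜 g 0 : A) = 0 :=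
      (HomogeneousIdeal.mem_irrelevant_iff 𝒜 g).1 (hG₀mem g hg)
    rw [DFinsupp.mem_support_toFun] at hj
    exact hj (Subtype.ext h0')
  refine ⟨G, hGhom, ?_⟩
  apply le_antisymm
  · rw [Ideal.span_le]
    intro g hg
    obtain ⟨j, hj, hgj⟩ := hGhom g hg
    exact HomogeneousIdeal.mem_irrelevant_of_mem 𝒜 hj hgj
  · rw [← hG₀, Ideal.span_le]
    intro g hg
    rw [← DirectSum.sum_support_decompose 𝒜 g]
    refine Ideal.sum_mem _ fun j hj => Ideal.subset_span ?_
    simp only [G, Finset.coe_biUnion, Set.mem_iUnion, Finset.coe_image]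
    exact ⟨g, hg, j, hj, rfl⟩

/-- the ring is generated by `𝒜 0` and homogeneous generators of the irrelevant ideal -/
theorem closure_eq_top (G : Finset A) (hGhom : ∀ g ∈ G, ∃ j, 0 < j ∧ g ∈ 𝒜 j)
    (hspan : Ideal.span (G : Set A) = (HomogeneousIdeal.irrelevant 𝒜).toIdeal) :
    Subring.closure (((𝒜 0 : σ) : Set A) ∪ (G : Set A)) = ⊤ := by
  classical
  have key : ∀ n, ∀ x ∈ 𝒜 n, x ∈ Subring.closure (((𝒜 0 : σ) : Set A) ∪ (G : Set A)) := by
    intro n
    induction n using Nat.strong_induction_on with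
    | _ n ih =>
      intro x hx
      rcases Nat.eq_zero_or_pos n with rfl | hn
      · exact Subring.subset_closure (Or.inl hx)
      · have hxS : x ∈ Ideal.span (G : Set A) := by
          rw [hspan]; exact HomogeneousIdeal.mem_irrelevant_of_mem 𝒜 hn hx
        obtain ⟨c, -, hc⟩ := Submodule.mem_span_finset.mp hxS
        have hxn : x = (decompose 𝒜 x n : A) := (DirectSum.decompose_of_mem_same 𝒜 hx).symm
        rw [hxn, ← hc, DirectSum.decompose_sum, DFinsupp.finsetSum_apply,
          AddSubmonoidClass.coe_finsetSum]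
        refine Subring.sum_mem _ fun g hg => ?_
        obtain ⟨l, hl0, hgl⟩ := hGhom g hg
        by_cases hln : l ≤ n
        · rw [smul_eq_mul, DirectSum.coe_decompose_mul_of_right_mem_of_le 𝒜 hgl hln]
          exact Subring.mul_mem _ (ih (n - l) (by omega) _ (SetLike.coe_mem _))
            (Subring.subset_closure (Or.inr hg))
        · rw [smul_eq_mul, DirectSum.coe_decompose_mul_of_right_mem_of_not_le 𝒜 hgl hln]
          exact Subring.zero_mem _
  rw [eq_top_iff]
  intro x _
  rw [← DirectSum.sum_support_decompose 𝒜 x]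
  exact Subring.sum_mem _ fun i _ => key i _ (SetLike.coe_mem _)

/-- the subring generated by `𝒜 0` and the `d`-th powers of the elements of `G` -/
def powSubring (G : Finset A) (d : ℕ) : Subring A :=
  Subring.closure (((𝒜 0 : σ) : Set A) ∪ ((fun g => g ^ d) '' (G : Set A)))

/-- `A` is generated as a module over `powSubring` by finitely many homogeneous elements -/
theorem exists_finite_span_powSubring (G : Finset A)
    (hG : Subring.closure (((𝒜 0 : σ) : Set A) ∪ (G : Set A)) = ⊤) {d : ℕ} (hd : 0 < d) :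
    ∃ P : Finset A, (∀ π ∈ P, ∃ j, π ∈ 𝒜 j) ∧
      Submodule.span (powSubring 𝒜 G d) (P : Set A) = ⊤ := by
  classical
  have his : ∀ x ∈ (G : Set A), IsIntegral (powSubring 𝒜 G d) x := by
    intro x hx
    refine IsIntegral.of_pow hd ?_
    have hmem : x ^ d ∈ powSubring 𝒜 G d := Subring.subset_closure (Or.inr ⟨x, hx, rfl⟩)
    exact (isIntegral_algebraMap (R := powSubring 𝒜 G d) (A := A) (x := ⟨x ^ d, hmem⟩))
  obtain ⟨P₀, hP₀⟩ := fg_adjoin_of_finite G.finite_toSet his
  have htop : Algebra.adjoin (powSubring 𝒜 G d) (G : Set A) = ⊤ := by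
    rw [eq_top_iff]
    intro x hxtop
    clear hxtop
    have hx : x ∈ Subring.closure (((𝒜 0 : σ) : Set A) ∪ (G : Set A)) := by rw [hG]; trivial
    induction hx using Subring.closure_induction with
    | mem x hx =>
      rcases hx with hx | hx
      · have hmem : x ∈ powSubring 𝒜 G d := Subring.subset_closure (Or.inl hx)
        exact Subalgebra.algebraMap_mem _ (⟨x, hmem⟩ : powSubring 𝒜 G d)
      · exact Algebra.subset_adjoin hx
    | zero => exact Subalgebra.zero_mem _
    | one => exact Subalgebra.one_mem _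
    | add x y _ _ hx hy => exact Subalgebra.add_mem _ hx hy
    | neg x _ hx => exact Subalgebra.neg_mem _ hx
    | mul x y _ _ hx hy => exact Subalgebra.mul_mem _ hx hy
  rw [htop, Algebra.top_toSubmodule] at hP₀
  refine ⟨P₀.biUnion (fun g => (decompose 𝒜 g).support.image (fun j => (decompose 𝒜 g j : A))), ?_, ?_⟩
  · intro π hπ
    simp only [Finset.mem_biUnion, Finset.mem_image] at hπ
    obtain ⟨g, -, j, -, rfl⟩ := hπ
    exact ⟨j, SetLike.coe_mem _⟩
  · rw [eq_top_iff, ← hP₀, Submodule.span_le]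
    intro g hg
    rw [SetLike.mem_coe, ← DirectSum.sum_support_decompose 𝒜 g]
    refine Submodule.sum_mem _ fun j hj => Submodule.subset_span ?_
    simp only [Finset.coe_biUnion, Set.mem_iUnion, Finset.coe_image]
    exact ⟨g, hg, j, hj, rfl⟩

end Groth.Agent.Lib.Helper28.GrIrrGen
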