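import Groth.Agent.Lib.Helper28.GrModMap
import Groth.Agent.Lib.Helper28.ModExact

/-!
# Exactness of `M ↦ M(n)~` (local form on sections), gradings by additive subgroups
-/

set_option autoImplicit false
universe u
open CategoryTheory CategoryTheory.Limits AlgebraicGeometry Opposite TopologicalSpace DirectSum

namespace Groth.Agent.Lib.Helper28.GrModQC

open Groth.Agent.Lib.Helper28

variable {A σ : Type u} [CommRing A] [SetLike σ A] [AddSubgroupClass σ A] (𝒜 : ℕ → σ) [GradedRing 𝒜]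
variable {M τ : Type u} [AddCommGroup M] [Module A M] [SetLike τ M] [AddSubgroupClass τ M] {ℳ : ℕ → τ}
  [DirectSum.Decomposition ℳ] [SetLike.GradedSMul 𝒜 ℳ]
variable {N τ' : Type u} [AddCommGroup N] [Module A N] [SetLike τ' N] [AddSubgroupClass τ' N] {𝒩 : ℕ → τ'}
  [DirectSum.Decomposition 𝒩] [SetLike.GradedSMul 𝒜 𝒩]
variable {L τ'' : Type u} [AddCommGroup L] [Module A L] [SetLike τ'' L] [AddSubgroupClass τ'' L] {ℒ : ℕ → τ''}
  [DirectSum.Decomposition ℒ] [SetLike.GradedSMul 𝒜 ℒ]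

omit [SetLike.GradedSMul 𝒜 ℳ] [SetLike.GradedSMul 𝒜 𝒩] in
/-- a degree-preserving additive map commutes with taking homogeneous components -/
theorem decompose_map (u : M →ₗ[A] N) (hu : ∀ (i : ℕ) (m : M), m ∈ ℳ i → u m ∈ 𝒩 i) (x : M) (k : ℕ) :
    (decompose 𝒩 (u x) k : N) = u (decompose ℳ x k : M) := by
  classical
  have hmem : ∀ d, u (decompose ℳ x d : M) ∈ 𝒩 d := fun d => hu d _ (SetLike.coe_mem _)
  have hsum : u x = ∑ d ∈ (decompose ℳ x).support, u (decompose ℳ x d : M) := by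
    conv_lhs => rw [← DirectSum.sum_support_decompose ℳ x, map_sum]
  rw [hsum, decompose_sum, DFinsupp.finsetSum_apply, AddSubmonoidClass.coe_finsetSum]
  by_cases hk : k ∈ (decompose ℳ x).support
  · rw [Finset.sum_eq_single k]
    · rw [decompose_of_mem_same _ (hmem k)]
    · intro j _ hjk
      rw [decompose_of_mem_ne _ (hmem j) hjk]
    · intro h'
      exact absurd hk h'
  · rw [Finset.sum_eq_zero]
    · rw [DFinsupp.notMem_support_iff] at hk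
      rw [hk]
      exact (map_zero _).symm
    · intro j hj
      have hjk : j ≠ k := fun h' => hk (h' ▸ hj)
      rw [decompose_of_mem_ne _ (hmem j) hjk]

variable (u : M →ₗ[A] N) (hu : ∀ (i : ℕ) (m : M), m ∈ ℳ i → u m ∈ 𝒩 i)
  (v : N →ₗ[A] L) (hv : ∀ (i : ℕ) (m : N), m ∈ 𝒩 i → v m ∈ ℒ i) (n : ℤ)

/-- local exactness on sections of `M(n)~ → N(n)~ → L(n)~` for an exact sequence of graded modules -/
theorem map_locally_exact (hex : Function.Exact u v)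
    (V : (Proj 𝒜).Opens) (t₂ : Γ(GrMod.tilde 𝒜 𝒩 n, V)) (ht₂ : (GrMod.map 𝒜 v hv n).app V t₂ = 0)
    (y : Proj 𝒜) (hy : y ∈ V) :
    ∃ (W : (Proj 𝒜).Opens) (hW : W ≤ V), y ∈ W ∧
      ∃ t : Γ(GrMod.tilde 𝒜 ℳ n, W),
        (GrMod.map 𝒜 u hu n).app W t = QCohLoc.res (GrMod.tilde 𝒜 𝒩 n) hW t₂ := by
  obtain ⟨V', hyV', iV, i, j, m₂, s, nin, c, w⟩ := (t₂ : GrMod.sect 𝒜 𝒩 n (op V)).2 ⟨y, hy⟩
  have hV'V : (V' : (Proj 𝒜).Opens) ≤ V := fun x hx => iV.le hx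
  have hw : ∀ (x : Proj 𝒜) (hx : x ∈ (V' : (Proj 𝒜).Opens)),
      val 𝒜 𝒩 t₂ ⟨x, hV'V hx⟩ = LocalizedModule.mk m₂.1 ⟨s.1, nin ⟨x, hx⟩⟩ := fun x hx => w ⟨x, hx⟩
  rcases c with c | c
  · have h1 : GrMod.locMap v y (val 𝒜 𝒩 t₂ ⟨y, hy⟩) = 0 :=
      (val_map 𝒜 v hv n t₂ ⟨y, hy⟩).symm.trans (by rw [ht₂]; rfl)
    rw [hw y hyV', GrMod.locMap_mk] at h1
    rw [← LocalizedModule.zero_mk (1 : y.asHomogeneousIdeal.toIdeal.primeCompl), LocalizedModule.mk_eq] at h1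
    obtain ⟨g, hg⟩ := h1
    simp only [one_smul, smul_zero] at hg
    obtain ⟨d, a, -, had, hay, ha⟩ :=
      exists_homogeneous_ann 𝒜 ℒ y (v m₂.1) (hv i m₂.1 m₂.2) g.1 g.2 hg 0
    have hva : v (a • m₂.1) = 0 := by rw [map_smul, ha]
    obtain ⟨m₁', hm₁'⟩ := (hex (a • m₂.1)).1 hva
    have ham₂ : a • m₂.1 ∈ 𝒩 (d + i) := SetLike.GradedSMul.smul_mem had m₂.2
    have hum₁ : u (decompose ℳ m₁' (d + i) : M) = a • m₂.1 := by
      rw [← decompose_map u hu, hm₁', decompose_of_mem_same _ ham₂]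
    have hs' : a * s.1 ∈ 𝒜 (d + j) := SetLike.mul_mem_graded had s.2
    have hi : ((d + i : ℕ) : ℤ) = ((1 : ℕ) : ℤ) * ((d + j : ℕ) : ℤ) + n := by
      push_cast; rw [c]; ring
    have hWle : (V' : (Proj 𝒜).Opens) ⊓ Proj.basicOpen 𝒜 a ≤ Proj.basicOpen 𝒜 (a * s.1) := by
      rintro x ⟨hx1, hx2⟩
      refine (Proj.mem_basicOpen 𝒜 (a * s.1) x).2 ?_
      intro hmem
      rcases x.isPrime.mem_or_mem hmem with h' | h'
      · exact (Proj.mem_basicOpen 𝒜 a x).1 hx2 h'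
      · exact nin ⟨x, hx1⟩ h'
    refine ⟨(V' : (Proj 𝒜).Opens) ⊓ Proj.basicOpen 𝒜 a, inf_le_left.trans hV'V,
      ⟨hyV', (Proj.mem_basicOpen 𝒜 a y).2 hay⟩,
      QCohLoc.res (GrMod.tilde 𝒜 ℳ n) hWle
        (mkSect 𝒜 ℳ hs' n 1 (d + i) (decompose ℳ m₁' (d + i) : M) (SetLike.coe_mem _) hi), ?_⟩
    apply ext_val
    intro x
    rw [val_map, val_res, val_mkSect, GrMod.locMap_mk, hum₁]
    have h2 : val 𝒜 𝒩 (QCohLoc.res (GrMod.tilde 𝒜 𝒩 n) (inf_le_left.trans hV'V) t₂) x =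
        LocalizedModule.mk m₂.1 ⟨s.1, nin ⟨x.1, x.2.1⟩⟩ := hw x.1 x.2.1
    rw [h2, LocalizedModule.mk_eq]
    refine ⟨1, ?_⟩
    simp only [one_smul, Submonoid.smul_def, pow_one, smul_smul]
    congr 1
    ring
  · refine ⟨(V' : (Proj 𝒜).Opens), hV'V, hyV', 0, ?_⟩
    rw [map_zero]
    apply ext_val
    intro x
    have h2 : val 𝒜 𝒩 (QCohLoc.res (GrMod.tilde 𝒜 𝒩 n) hV'V t₂) x =
        LocalizedModule.mk m₂.1 ⟨s.1, nin ⟨x.1, x.2⟩⟩ := hw x.1 x.2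
    rw [h2, c, LocalizedModule.zero_mk]
    rfl

end Groth.Agent.Lib.Helper28.GrModQC
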