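import Groth.Agent.Lib.Helper28.RelTildeTN

/-!
# The morphism `M(n)~ ⟶ N(n)~` of a (TN)-injective / (TN)-surjective homomorphism of graded modules
-/

set_option autoImplicit false
universe u
open CategoryTheory CategoryTheory.Limits AlgebraicGeometry Opposite TopologicalSpace DirectSum

namespace Groth.Agent.Lib.Helper28.GrModQC

open Groth.Agent.Lib.Helper28

variable {A σ : Type u} [CommRing A] [SetLike σ A] [AddSubgroupClass σ A] (𝒜 : ℕ → σ) [GradedRing 𝒜]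
variable {M τ : Type u} [AddCommGroup M] [Module A M] [SetLike τ M] [AddSubgroupClass τ M] (ℳ : ℕ → τ)
  [DirectSum.Decomposition ℳ] [SetLike.GradedSMul 𝒜 ℳ]
variable {N τ' : Type u} [AddCommGroup N] [Module A N] [SetLike τ' N] [AddSubgroupClass τ' N] (𝒩 : ℕ → τ')
  [DirectSum.Decomposition 𝒩] [SetLike.GradedSMul 𝒜 𝒩]

/-- an element outside a homogeneous prime has a homogeneous component outside it -/
theorem exists_component_nin (y : ProjectiveSpectrum 𝒜) (g : A) (hg : g ∉ y.asHomogeneousIdeal) :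
    ∃ d : ℕ, (decompose 𝒜 g d : A) ∉ y.asHomogeneousIdeal := by
  classical
  by_contra hcon
  push_neg at hcon
  apply hg
  rw [← DirectSum.sum_support_decompose 𝒜 g]
  exact sum_mem fun d _ => hcon d

/-- a homogeneous element killed by something outside `y` is killed by a homogeneous element outside `y` of
arbitrarily high degree -/
theorem exists_homogeneous_ann (y : ProjectiveSpectrum 𝒜) {i : ℕ} (m : M) (hm : m ∈ ℳ i) (g : A)
    (hg : g ∉ y.asHomogeneousIdeal) (h : g • m = 0) (B : ℕ) :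
    ∃ (d : ℕ) (a : A), B ≤ d ∧ a ∈ 𝒜 d ∧ a ∉ y.asHomogeneousIdeal ∧ a • m = 0 := by
  obtain ⟨d, hd⟩ := exists_component_nin 𝒜 y g hg
  have hann : (decompose 𝒜 g d : A) • m = 0 := by
    have h1 := GrSect.ann_homogeneous 𝒜 ℳ m hm d (show g ∈ LinearMap.ker (LinearMap.toSpanSingleton A M m) by
      rw [LinearMap.mem_ker, LinearMap.toSpanSingleton_apply]; exact h)
    rw [LinearMap.mem_ker, LinearMap.toSpanSingleton_apply] at h1
    exact h1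
  obtain ⟨e, f, he, hf, hfy, -⟩ := GrSectComap.exists_pos_basicOpen 𝒜 ⊤ y trivial
  refine ⟨B • e + d, f ^ B * (decompose 𝒜 g d : A), ?_, ?_, ?_, ?_⟩
  · have : B ≤ B • e := by rw [smul_eq_mul]; exact Nat.le_mul_of_pos_right B he
    omega
  · exact SetLike.mul_mem_graded (SetLike.pow_mem_graded B hf) (SetLike.coe_mem _)
  · intro hmem
    rcases y.isPrime.mem_or_mem hmem with h' | h'
    · exact hfy (y.isPrime.mem_of_pow_mem B h')
    · exact hd h'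
  · rw [mul_smul, hann, smul_zero]

variable {ℳ 𝒩}
variable (u : M →ₗ[A] N) (hu : ∀ (i : ℕ) (m : M), m ∈ ℳ i → u m ∈ 𝒩 i) (n : ℤ)

theorem val_map {V : (Proj 𝒜).Opens} (t : Γ(GrMod.tilde 𝒜 ℳ n, V)) (y : V) :
    val 𝒜 𝒩 ((GrMod.map 𝒜 u hu n).app V t) y = GrMod.locMap u y.1 (val 𝒜 ℳ t y) := rfl

/-- a (TN)-injective homomorphism induces an injective map on sections -/
theorem map_app_injective
    (hinj : ∃ n₀ : ℕ, ∀ k : ℕ, n₀ ≤ k → ∀ m : M, m ∈ ℳ k → u m = 0 → m = 0) (V : (Proj 𝒜).Opens) :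
    Function.Injective ((GrMod.map 𝒜 u hu n).app V) := by
  obtain ⟨n₀, hn₀⟩ := hinj
  rw [injective_iff_map_eq_zero]
  intro t ht
  apply ext_val
  intro y
  obtain ⟨V', hyV', iV, i, j, m, s, nin, c, w⟩ := (t : GrMod.sect 𝒜 ℳ n (op V)).2 y
  have hval : val 𝒜 ℳ t y = LocalizedModule.mk m.1 ⟨s.1, nin ⟨y.1, hyV'⟩⟩ := w ⟨y.1, hyV'⟩
  have h1 : GrMod.locMap u y.1 (val 𝒜 ℳ t y) = 0 :=
    (val_map 𝒜 u hu n t y).symm.trans (by rw [ht]; rfl)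
  rw [hval, GrMod.locMap_mk] at h1
  rw [val_zero, hval]
  rw [← LocalizedModule.zero_mk (1 : y.1.asHomogeneousIdeal.toIdeal.primeCompl), LocalizedModule.mk_eq] at h1
  obtain ⟨g, hg⟩ := h1
  simp only [one_smul, smul_zero] at hg
  obtain ⟨d, a, hd, had, hay, ha⟩ := exists_homogeneous_ann 𝒜 𝒩 y.1 (u m.1) (hu i m.1 m.2) g.1 g.2 hg n₀
  refine GrSectComap.mk_eq_zero_of_smul 𝒜 y.1 _ _ a hay ?_
  refine hn₀ (d + i) (by omega) _ (SetLike.GradedSMul.smul_mem had m.2) ?_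
  rw [map_smul, ha]

/-- a (TN)-surjective homomorphism induces a locally surjective map on sections -/
theorem map_locally_surjective
    (hsurj : ∃ n₀ : ℕ, ∀ k : ℕ, n₀ ≤ k → ∀ m' : N, m' ∈ 𝒩 k → ∃ m : M, m ∈ ℳ k ∧ u m = m')
    (V : (Proj 𝒜).Opens) (t' : Γ(GrMod.tilde 𝒜 𝒩 n, V)) (y : Proj 𝒜) (hy : y ∈ V) :
    ∃ (W : (Proj 𝒜).Opens) (hW : W ≤ V), y ∈ W ∧
      ∃ t : Γ(GrMod.tilde 𝒜 ℳ n, W),
        (GrMod.map 𝒜 u hu n).app W t = QCohLoc.res (GrMod.tilde 𝒜 𝒩 n) hW t' := by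
  obtain ⟨n₀, hn₀⟩ := hsurj
  obtain ⟨V', hyV', iV, i, j, m', s, nin, c, w⟩ := (t' : GrMod.sect 𝒜 𝒩 n (op V)).2 ⟨y, hy⟩
  have hV'V : (V' : (Proj 𝒜).Opens) ≤ V := fun x hx => iV.le hx
  have hw : ∀ (x : Proj 𝒜) (hx : x ∈ (V' : (Proj 𝒜).Opens)),
      val 𝒜 𝒩 t' ⟨x, hV'V hx⟩ = LocalizedModule.mk m'.1 ⟨s.1, nin ⟨x, hx⟩⟩ := fun x hx => w ⟨x, hx⟩
  rcases c with c | c
  · obtain ⟨e, f, he, hf, hfy, -⟩ := GrSectComap.exists_pos_basicOpen 𝒜 ⊤ y trivial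
    have hm'' : f ^ n₀ • m'.1 ∈ 𝒩 (n₀ • e + i) :=
      SetLike.GradedSMul.smul_mem (SetLike.pow_mem_graded n₀ hf) m'.2
    have hle : n₀ ≤ n₀ • e + i := by
      have : n₀ ≤ n₀ • e := by rw [smul_eq_mul]; exact Nat.le_mul_of_pos_right n₀ he
      omega
    obtain ⟨m, hm, hum⟩ := hn₀ _ hle _ hm''
    have hs' : f ^ n₀ * s.1 ∈ 𝒜 (n₀ • e + j) := SetLike.mul_mem_graded (SetLike.pow_mem_graded n₀ hf) s.2
    have hi : ((n₀ • e + i : ℕ) : ℤ) = ((1 : ℕ) : ℤ) * ((n₀ • e + j : ℕ) : ℤ) + n := by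
      push_cast; rw [c]; ring
    have hWle : (V' : (Proj 𝒜).Opens) ⊓ Proj.basicOpen 𝒜 f ≤ Proj.basicOpen 𝒜 (f ^ n₀ * s.1) := by
      rintro x ⟨hx1, hx2⟩
      refine (Proj.mem_basicOpen 𝒜 (f ^ n₀ * s.1) x).2 ?_
      intro hmem
      rcases x.isPrime.mem_or_mem hmem with h' | h'
      · exact (Proj.mem_basicOpen 𝒜 f x).1 hx2 (x.isPrime.mem_of_pow_mem n₀ h')
      · exact nin ⟨x, hx1⟩ h'
    refine ⟨(V' : (Proj 𝒜).Opens) ⊓ Proj.basicOpen 𝒜 f, inf_le_left.trans hV'V,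
      ⟨hyV', (Proj.mem_basicOpen 𝒜 f y).2 hfy⟩,
      QCohLoc.res (GrMod.tilde 𝒜 ℳ n) hWle (mkSect 𝒜 ℳ hs' n 1 (n₀ • e + i) m hm hi), ?_⟩
    apply ext_val
    intro x
    rw [val_map, val_res, val_mkSect, GrMod.locMap_mk, hum]
    have h2 : val 𝒜 𝒩 (QCohLoc.res (GrMod.tilde 𝒜 𝒩 n) (inf_le_left.trans hV'V) t') x =
        LocalizedModule.mk m'.1 ⟨s.1, nin ⟨x.1, x.2.1⟩⟩ := hw x.1 x.2.1
    rw [h2, LocalizedModule.mk_eq]
    refine ⟨1, ?_⟩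
    simp only [one_smul, Submonoid.smul_def, pow_one, smul_smul]
    congr 1
    ring
  · refine ⟨(V' : (Proj 𝒜).Opens), hV'V, hyV', 0, ?_⟩
    rw [map_zero]
    apply ext_val
    intro x
    have h2 : val 𝒜 𝒩 (QCohLoc.res (GrMod.tilde 𝒜 𝒩 n) hV'V t') x =
        LocalizedModule.mk m'.1 ⟨s.1, nin ⟨x.1, x.2⟩⟩ := hw x.1 x.2
    rw [h2, c, LocalizedModule.zero_mk]
    rfl

end Groth.Agent.Lib.Helper28.GrModQC
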