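import Groth.Agent.Lib.Helper28.GrTwistQC
import Groth.Agent.Lib.Helper28.GrIrrGen

/-!
# Sections of `O(n)` over `D₊(f)` are a finite module over the functions, for a finitely generated graded ring
-/

set_option autoImplicit false
universe u
open CategoryTheory AlgebraicGeometry Opposite TopologicalSpace DirectSum
noncomputable section

namespace Groth.Agent.Lib.Helper28.GrTwistFin

open Groth.Agent.Lib.Helper28 Groth.Agent.Lib.Helper28.GrTwistQC

variable {A σ : Type u} [CommRing A] [SetLike σ A] [AddSubgroupClass σ A] (𝒜 : ℕ → σ) [GradedRing 𝒜]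

theorem val_add {n : ℤ} {V : (Proj 𝒜).Opens} (s t : Γ(GrTwist.twist 𝒜 n, V)) (x : V) :
    val 𝒜 (s + t) x = val 𝒜 s x + val 𝒜 t x := rfl

variable {f : A} {d : ℕ} (hf : f ∈ 𝒜 d) (n : ℤ)

/-- the numerator of the section `f^{-k} w_{kd+n}` -/
def num (f : A) (d : ℕ) (k : ℤ) (w : A) : A := f ^ (-k).toNat * (decompose 𝒜 w (k * d + n).toNat : A)

include hf in
theorem num_mem (k : ℤ) (w : A) : num 𝒜 n f d k w ∈ 𝒜 ((-k).toNat • d + (k * d + n).toNat) :=
  SetLike.mul_mem_graded (SetLike.pow_mem_graded _ hf) (SetLike.coe_mem _)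

theorem num_deg (k : ℤ) (h : 0 ≤ k * d + n) :
    ((((-k).toNat • d + (k * d + n).toNat : ℕ)) : ℤ) = (k.toNat : ℤ) * d + n := by
  have h1 := Int.toNat_sub_toNat_neg k
  have h2 : ((k * d + n).toNat : ℤ) = k * d + n := Int.toNat_of_nonneg h
  rw [smul_eq_mul]
  push_cast
  rw [h2]
  linear_combination (-(d : ℤ)) * h1

theorem num_zero (k : ℤ) : num 𝒜 n f d k 0 = 0 := by
  unfold num
  rw [decompose_zero, DirectSum.zero_apply, ZeroMemClass.coe_zero, mul_zero]

theorem num_add (k : ℤ) (w w' : A) : num 𝒜 n f d k (w + w') = num 𝒜 n f d k w + num 𝒜 n f d k w' := by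
  unfold num
  rw [decompose_add, DirectSum.add_apply, AddMemClass.coe_add, mul_add]

/-- the section `f^{-k} w_{kd+n}` of `O(n)` over `D₊(f)`, `k ∈ ℤ`, additive in `w` -/
def sec (k : ℤ) : A →+ Γ(GrTwist.twist 𝒜 n, Proj.basicOpen 𝒜 f) :=
  if h : 0 ≤ k * d + n then
    { toFun := fun w => mkSect 𝒜 hf n k.toNat _ (num 𝒜 n f d k w) (num_mem 𝒜 hf n k w) (num_deg n k h)
      map_zero' := by
        refine ext_val 𝒜 _ _ fun x => ?_
        rw [val_mkSect, GrTwistQC.val_zero, num_zero]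
        exact Localization.mk_zero _
      map_add' := fun w w' => by
        refine ext_val 𝒜 _ _ fun x => ?_
        rw [val_add, val_mkSect, val_mkSect, val_mkSect, num_add]
        exact (Localization.add_mk_self _ _ _).symm }
  else 0

theorem val_sec_of_nonneg (k : ℤ) (h : 0 ≤ k * d + n) (w : A) (x : Proj.basicOpen 𝒜 f) :
    val 𝒜 (sec 𝒜 hf n k w) x =
      Localization.mk (num 𝒜 n f d k w) ⟨f ^ k.toNat, GrSectMod.pow_nin 𝒜 k.toNat x⟩ := by
  unfold sec
  rw [dif_pos h]
  rfl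

theorem sec_of_neg (k : ℤ) (h : ¬ 0 ≤ k * d + n) (w : A) : sec 𝒜 hf n k w = 0 := by
  unfold sec
  rw [dif_neg h]
  rfl


theorem eq_sec (t : Γ(GrTwist.twist 𝒜 n, Proj.basicOpen 𝒜 f)) (k i : ℕ) (m : A) (hm : m ∈ 𝒜 i)
    (hi : (i : ℤ) = k * d + n)
    (hval : ∀ x : Proj.basicOpen 𝒜 f,
      val 𝒜 t x = Localization.mk m ⟨f ^ k, GrSectMod.pow_nin 𝒜 k x⟩) :
    t = sec 𝒜 hf n (k : ℤ) m := by
  have h0 : 0 ≤ ((k : ℕ) : ℤ) * d + n := by rw [← hi]; exact Int.natCast_nonneg i
  refine ext_val 𝒜 _ _ fun x => ?_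
  rw [hval x, val_sec_of_nonneg 𝒜 hf n _ h0]
  have h1 : (-((k : ℕ) : ℤ)).toNat = 0 := by simp
  have h2 : (((k : ℕ) : ℤ) * d + n).toNat = i := by rw [← hi]; exact Int.toNat_natCast i
  have h3 : num 𝒜 n f d (k : ℤ) m = m := by
    unfold num
    rw [h1, h2, pow_zero, one_mul, decompose_of_mem_same 𝒜 hm]
  rw [h3]
  congr 1

theorem sec_of_mem_ne {e : ℕ} {w : A} (hw : w ∈ 𝒜 e) (k : ℤ) (hne : (e : ℤ) ≠ k * d + n) :
    sec 𝒜 hf n k w = 0 := by
  by_cases h : 0 ≤ k * d + n
  · refine ext_val 𝒜 _ _ fun x => ?_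
    rw [val_sec_of_nonneg 𝒜 hf n k h, GrTwistQC.val_zero]
    have h1 : (k * d + n).toNat ≠ e := by
      intro h2
      apply hne
      rw [← h2]
      exact Int.toNat_of_nonneg h
    have h3 : num 𝒜 n f d k w = 0 := by
      unfold num
      rw [decompose_of_mem_ne 𝒜 hw (Ne.symm h1), mul_zero]
    rw [h3]
    exact Localization.mk_zero _
  · exact sec_of_neg 𝒜 hf n k h w

theorem sec_mul_of_mem {j : ℕ} {a : A} (ha : a ∈ 𝒜 (j • d)) (k : ℤ) (w : A) :
    sec 𝒜 hf n k (a * w) =
      Proj.awayToSection 𝒜 f (HomogeneousLocalization.Away.mk 𝒜 hf j a ha) • sec 𝒜 hf n (k - j) w := by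
  by_cases h : 0 ≤ k * d + n
  · by_cases h' : 0 ≤ (k - j) * d + n
    · refine ext_val 𝒜 _ _ fun x => ?_
      rw [GrTwistQC.val_smul, val_sec_of_nonneg 𝒜 hf n k h, val_sec_of_nonneg 𝒜 hf n _ h',
        GrModQC.val_valO_awayToSection, Localization.mk_mul]
      have hdeg : (k * d + n).toNat = j • d + ((k - j) * d + n).toNat := by
        have e1 : ((k * d + n).toNat : ℤ) = k * d + n := Int.toNat_of_nonneg h
        have e2 : (((k - j) * d + n).toNat : ℤ) = (k - j) * d + n := Int.toNat_of_nonneg h'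
        have : ((k * d + n).toNat : ℤ) = ((j • d + ((k - j) * d + n).toNat : ℕ) : ℤ) := by
          rw [smul_eq_mul]
          push_cast
          rw [e1, e2]
          ring
        exact_mod_cast this
      have hdec : (decompose 𝒜 (a * w) (k * d + n).toNat : A) =
          a * (decompose 𝒜 w ((k - j) * d + n).toNat : A) := by
        rw [hdeg]
        exact DirectSum.coe_decompose_mul_add_of_left_mem 𝒜 ha
      rw [Localization.mk_eq_mk_iff, Localization.r_iff_exists]
      refine ⟨1, ?_⟩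
      simp only [OneMemClass.coe_one, one_mul, Submonoid.coe_mul]
      unfold num
      rw [hdec]
      have hp : (-k).toNat + (j + (k - j).toNat) = (-(k - j)).toNat + k.toNat := by
        have e1 := Int.toNat_sub_toNat_neg k
        have e2 := Int.toNat_sub_toNat_neg (k - j)
        zify
        linarith
      calc f ^ j * f ^ (k - ↑j).toNat * (f ^ (-k).toNat * (a * ↑(decompose 𝒜 w ((k - ↑j) * ↑d + n).toNat)))
          = f ^ ((-k).toNat + (j + (k - j).toNat)) * (a * ↑(decompose 𝒜 w ((k - ↑j) * ↑d + n).toNat)) := by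
            rw [pow_add, pow_add]; ring
        _ = f ^ k.toNat * (a * (f ^ (-(k - ↑j)).toNat * ↑(decompose 𝒜 w ((k - ↑j) * ↑d + n).toNat))) := by
            rw [hp, pow_add]; ring
    · rw [sec_of_neg 𝒜 hf n _ h', smul_zero]
      refine ext_val 𝒜 _ _ fun x => ?_
      rw [val_sec_of_nonneg 𝒜 hf n k h, GrTwistQC.val_zero]
      have hlt : (k * d + n).toNat < j • d := by
        have e1 : ((k * d + n).toNat : ℤ) = k * d + n := Int.toNat_of_nonneg h
        have : ((k * d + n).toNat : ℤ) < ((j • d : ℕ) : ℤ) := by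
          rw [smul_eq_mul]
          push_cast
          rw [e1]
          push Not at h'
          linarith
        exact_mod_cast this
      have h3 : num 𝒜 n f d k (a * w) = 0 := by
        unfold num
        rw [DirectSum.coe_decompose_mul_of_left_mem_of_not_le 𝒜 ha (not_le.2 hlt), mul_zero]
      rw [h3]
      exact Localization.mk_zero _
  · have h' : ¬ 0 ≤ (k - j) * d + n := by
      intro h'
      apply h
      have : (0 : ℤ) ≤ (j : ℤ) * d := by positivity
      linarith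
    rw [sec_of_neg 𝒜 hf n k h, sec_of_neg 𝒜 hf n _ h', smul_zero]


include hf in
/-- **the sections of `O(n)` over `D₊(f)` are a finite module over the functions**, when the ring is generated by
`𝒜 0` and finitely many homogeneous elements of positive degrees -/
theorem finite_basicOpen_twist (hd : 0 < d)
    (G : Finset A) (hGhom : ∀ g ∈ G, ∃ j, 0 < j ∧ g ∈ 𝒜 j)
    (hG : Subring.closure (((𝒜 0 : σ) : Set A) ∪ (G : Set A)) = ⊤) :
    Module.Finite Γ(Proj 𝒜, Proj.basicOpen 𝒜 f) Γ(GrTwist.twist 𝒜 n, Proj.basicOpen 𝒜 f) := by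
  classical
  obtain ⟨P, hPhom, hPspan⟩ := GrIrrGen.exists_finite_span_powSubring 𝒜 G hG hd
  have hj : ∀ π : A, ∃ j : ℕ, π ∈ P → π ∈ 𝒜 j := by
    intro π
    by_cases hπ : π ∈ P
    · obtain ⟨j, hj⟩ := hPhom π hπ
      exact ⟨j, fun _ => hj⟩
    · exact ⟨0, fun h => absurd h hπ⟩
  choose jj hjj using hj
  let gen : A → Γ(GrTwist.twist 𝒜 n, Proj.basicOpen 𝒜 f) := fun π =>
    sec 𝒜 hf n (((jj π : ℤ) - n) / d) π
  refine ⟨⟨P.image gen, ?_⟩⟩
  set N : Submodule Γ(Proj 𝒜, Proj.basicOpen 𝒜 f) Γ(GrTwist.twist 𝒜 n, Proj.basicOpen 𝒜 f) :=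
    Submodule.span Γ(Proj 𝒜, Proj.basicOpen 𝒜 f)
      ((P.image gen : Finset Γ(GrTwist.twist 𝒜 n, Proj.basicOpen 𝒜 f)) :
        Set Γ(GrTwist.twist 𝒜 n, Proj.basicOpen 𝒜 f)) with hN
  rw [eq_top_iff]
  intro t _
  have hstar : ∀ π ∈ P, ∀ k : ℤ, sec 𝒜 hf n k π ∈ N := by
    intro π hπ k
    by_cases hk : (jj π : ℤ) = k * d + n
    · have hk' : k = ((jj π : ℤ) - n) / d := by
        rw [hk, add_sub_cancel_right]
        exact (Int.mul_ediv_cancel k (by exact_mod_cast hd.ne')).symm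
      rw [hk']
      exact Submodule.subset_span (Finset.mem_coe.2 (Finset.mem_image.2 ⟨π, hπ, rfl⟩))
    · rw [sec_of_mem_ne 𝒜 hf n (hjj π hπ) k hk]; exact zero_mem _
  have hC : ∀ c ∈ GrIrrGen.powSubring 𝒜 G d, ∀ w : A, (∀ k, sec 𝒜 hf n k w ∈ N) →
      ∀ k, sec 𝒜 hf n k (c * w) ∈ N := by
    intro c hc
    induction hc using Subring.closure_induction with
    | mem c hc =>
      rcases hc with hc | ⟨g, hg, rfl⟩
      · intro w hw k
        have hc' : c ∈ 𝒜 (0 • d) := by rw [zero_smul]; exact hc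
        rw [sec_mul_of_mem 𝒜 hf n hc' k w]
        exact Submodule.smul_mem _ _ (hw _)
      · intro w hw k
        obtain ⟨j, hj0, hgj⟩ := hGhom g hg
        have hc' : g ^ d ∈ 𝒜 (j • d) := by
          have h1 : g ^ d ∈ 𝒜 (d • j) := SetLike.pow_mem_graded d hgj
          rw [smul_eq_mul, mul_comm] at h1
          exact h1
        show sec 𝒜 hf n k (g ^ d * w) ∈ N
        rw [sec_mul_of_mem 𝒜 hf n hc' k w]
        exact Submodule.smul_mem _ _ (hw _)
    | zero => intro w hw k; rw [zero_mul, map_zero]; exact zero_mem _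
    | one => intro w hw k; rw [one_mul]; exact hw k
    | add x y _ _ hx hy => intro w hw k; rw [add_mul, map_add]; exact add_mem (hx w hw k) (hy w hw k)
    | neg x _ hx => intro w hw k; rw [neg_mul, map_neg]; exact neg_mem (hx w hw k)
    | mul x y _ _ hx hy => intro w hw k; rw [mul_assoc]; exact hx _ (hy w hw) k
  have hA : ∀ a : A, ∀ k, sec 𝒜 hf n k a ∈ N := by
    intro a
    have ha : a ∈ Submodule.span (GrIrrGen.powSubring 𝒜 G d) (P : Set A) := by rw [hPspan]; trivial
    induction ha using Submodule.span_induction with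
    | mem π hπ => exact hstar π hπ
    | zero => intro k; rw [map_zero]; exact zero_mem _
    | add x y _ _ hx hy => intro k; rw [map_add]; exact add_mem (hx k) (hy k)
    | smul c x _ hx =>
      intro k
      have : c • x = (c : A) * x := rfl
      rw [this]
      exact hC c.1 c.2 _ hx k
  obtain ⟨k, i, m, hm, hi, hval⟩ := exists_frac 𝒜 hf hd n t
  rw [eq_sec 𝒜 hf n t k i m hm hi hval]
  exact hA m _

end Groth.Agent.Lib.Helper28.GrTwistFin
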