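import Groth.Agent.Lib.Helper28.GrModQC
import Groth.Agent.Lib.Helper28.GrTwistQC
import Groth.Agent.Lib.Helper28.GrTwistFin
import Groth.Agent.Lib.Helper28.RelTildeFin
import Groth.Agent.Lib.Helper28.GrTwistGenVal

/-!
# The multiplication `M(m)~ × O(n) → M(m + n)~` on `Proj` (gradings by additive subgroups)
-/

set_option autoImplicit false
universe u
open CategoryTheory AlgebraicGeometry Opposite TopologicalSpace
noncomputable section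

namespace Groth.Agent.Lib.Helper28.GrModMul

open Groth.Agent.Lib.Helper28 Groth.Agent.Lib.Helper28.QCohLoc

variable {A σ : Type u} [CommRing A] [SetLike σ A] [AddSubgroupClass σ A] (𝒜 : ℕ → σ) [GradedRing 𝒜]
variable {M τ : Type u} [AddCommGroup M] [Module A M] [SetLike τ M] [AddSubgroupClass τ M] (ℳ : ℕ → τ)
  [DirectSum.Decomposition ℳ] [SetLike.GradedSMul 𝒜 ℳ]

omit [DirectSum.Decomposition ℳ] in
/-- a degree-`n` fraction of the ring times a degree-`m` fraction of the module is a degree-`m + n` fraction -/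
theorem smul_mem_tildeAt (m n : ℤ) (x : ProjectiveSpectrum 𝒜) {q : GrTwist.Loc 𝒜 x}
    {r : GrMod.LocMod 𝒜 (M := M) x} (hq : q ∈ GrTwist.twistAt 𝒜 n x) (hr : r ∈ GrMod.tildeAt 𝒜 ℳ m x) :
    q • r ∈ GrMod.tildeAt 𝒜 ℳ (m + n) x := by
  induction hq using Submodule.span_induction with
  | mem q hq =>
    obtain ⟨i, j, a, s, hs, hdeg, rfl⟩ := hq
    induction hr using Submodule.span_induction with
    | mem r hr =>
      obtain ⟨i', j', m', s', hs', hdeg', rfl⟩ := hr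
      rw [LocalizedModule.mk_smul_mk]
      refine Submodule.subset_span ⟨i + i', j + j', ⟨(a : A) • (m' : M), SetLike.GradedSMul.smul_mem a.2 m'.2⟩,
        ⟨(s : A) * (s' : A), SetLike.mul_mem_graded s.2 s'.2⟩,
        fun h => (x.isPrime.mem_or_mem h).elim hs hs', by push_cast; omega, rfl⟩
    | zero => rw [smul_zero]; exact zero_mem _
    | add r r' _ _ hr hr' => rw [smul_add]; exact add_mem hr hr'
    | smul c r _ hr =>
      rw [GrMod.a0_smul_def, smul_comm]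
      exact Submodule.smul_mem _ c hr
  | zero => rw [zero_smul]; exact zero_mem _
  | add q q' _ _ hq hq' => rw [add_smul]; exact add_mem hq hq'
  | smul c q _ hq =>
    have : (c • q) • r = c • (q • r) := by
      have h1 : (c • q : GrTwist.Loc 𝒜 x) = c.val * q := by
        rw [Algebra.smul_def]; rfl
      rw [h1, mul_smul, GrMod.a0_smul_def]
    rw [this]
    exact Submodule.smul_mem _ c hq

variable {𝒜 ℳ}

/-- the pointwise product of dependent functions -/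
def mulFn (m n k : ℤ) (hk : k = m + n) (U : (Opens (ProjectiveSpectrum.top 𝒜))ᵒᵖ)
    (f : ∀ x : U.unop, GrMod.tildeAt 𝒜 ℳ m x.1) (g : ∀ x : U.unop, GrTwist.twistAt 𝒜 n x.1) (x : U.unop) :
    GrMod.tildeAt 𝒜 ℳ k x.1 :=
  ⟨(g x).1 • (f x).1, hk ▸ smul_mem_tildeAt 𝒜 ℳ m n x.1 (g x).2 (f x).2⟩

omit [DirectSum.Decomposition ℳ] in
theorem mulFn_coe (m n k : ℤ) (hk : k = m + n) (U : (Opens (ProjectiveSpectrum.top 𝒜))ᵒᵖ)
    (f : ∀ x : U.unop, GrMod.tildeAt 𝒜 ℳ m x.1) (g : ∀ x : U.unop, GrTwist.twistAt 𝒜 n x.1) (x : U.unop) :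
    ((mulFn m n k hk U f g x : GrMod.tildeAt 𝒜 ℳ k x.1) : GrMod.LocMod 𝒜 (M := M) x.1) = (g x).1 • (f x).1 := rfl

omit [DirectSum.Decomposition ℳ] in
theorem isLocFrac_mulFn (m n k : ℤ) (hk : k = m + n) (U : (Opens (ProjectiveSpectrum.top 𝒜))ᵒᵖ)
    (f : ∀ x : U.unop, GrMod.tildeAt 𝒜 ℳ m x.1) (g : ∀ x : U.unop, GrTwist.twistAt 𝒜 n x.1)
    (hf : (GrMod.isLocFrac 𝒜 ℳ m).pred f) (hg : (GrTwist.isLocFracN 𝒜 n).pred g) :
    (GrMod.isLocFrac 𝒜 ℳ k).pred (mulFn m n k hk U f g) := fun x => by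
  rcases hf x with ⟨Va, ma, ia, i, j, ⟨a, a_mem⟩, ⟨s, s_mem⟩, nina, ca, wa⟩
  rcases hg x with ⟨Vb, mb, ib, i', j', ⟨b, b_mem⟩, ⟨s', s'_mem⟩, ninb, cb, wb⟩
  replace ca : (i : ℤ) = j + m ∨ a = 0 := ca
  replace cb : (i' : ℤ) = j' + n ∨ b = 0 := cb
  have nin : ∀ y : (Va ⊓ Vb : Opens _), s' * s ∉ y.1.asHomogeneousIdeal := fun y h =>
    ((y.1.isPrime.mem_or_mem h).elim (ninb ⟨y.1, y.2.2⟩)) (nina ⟨y.1, y.2.1⟩)
  refine ⟨Va ⊓ Vb, ⟨ma, mb⟩, Opens.infLELeft _ _ ≫ ia, i' + i, j' + j,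
    ⟨b • a, SetLike.GradedSMul.smul_mem b_mem a_mem⟩, ⟨s' * s, SetLike.mul_mem_graded s'_mem s_mem⟩, nin, ?_,
    fun y => ?_⟩
  · rcases ca with ha | ha
    · rcases cb with hb | hb
      · exact Or.inl (by push_cast; omega)
      · exact Or.inr (show b • a = 0 by rw [hb, zero_smul])
    · exact Or.inr (show b • a = 0 by rw [ha, smul_zero])
  · have e1 := wa ⟨y.1, y.2.1⟩
    have e2 := wb ⟨y.1, y.2.2⟩
    dsimp only at e1 e2 ⊢
    rw [mulFn_coe]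
    erw [e1, e2]
    rw [LocalizedModule.mk_smul_mk]
    rfl

variable (𝒜 ℳ)

/-- the product of a section of `M(m)~` and a section of `O(n)` -/
def mulTw (m n k : ℤ) (hk : k = m + n) {V : (Proj 𝒜).Opens} (s : Γ(GrMod.tilde 𝒜 ℳ m, V))
    (t : Γ(GrTwist.twist 𝒜 n, V)) : Γ(GrMod.tilde 𝒜 ℳ k, V) :=
  (⟨mulFn m n k hk (op V) (s : GrMod.sect 𝒜 ℳ m (op V)).1 (t : GrTwist.sectN (𝒜 := 𝒜) n (op V)).1,
    isLocFrac_mulFn m n k hk (op V) _ _ (s : GrMod.sect 𝒜 ℳ m (op V)).2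
      (t : GrTwist.sectN (𝒜 := 𝒜) n (op V)).2⟩ : GrMod.sect 𝒜 ℳ k (op V))

theorem val_mulTw (m n k : ℤ) (hk : k = m + n) {V : (Proj 𝒜).Opens} (s : Γ(GrMod.tilde 𝒜 ℳ m, V))
    (t : Γ(GrTwist.twist 𝒜 n, V)) (x : V) :
    GrModQC.val 𝒜 ℳ (mulTw 𝒜 ℳ m n k hk s t) x = GrTwistQC.val 𝒜 t x • GrModQC.val 𝒜 ℳ s x := rfl

theorem mulTw_add_left (m n k : ℤ) (hk : k = m + n) {V : (Proj 𝒜).Opens} (s s' : Γ(GrMod.tilde 𝒜 ℳ m, V))
    (t : Γ(GrTwist.twist 𝒜 n, V)) :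
    mulTw 𝒜 ℳ m n k hk (s + s') t = mulTw 𝒜 ℳ m n k hk s t + mulTw 𝒜 ℳ m n k hk s' t := by
  apply GrModQC.ext_val; intro x
  rw [GrModFin.val_add, val_mulTw, val_mulTw, val_mulTw, GrModFin.val_add, smul_add]

theorem mulTw_add_right (m n k : ℤ) (hk : k = m + n) {V : (Proj 𝒜).Opens} (s : Γ(GrMod.tilde 𝒜 ℳ m, V))
    (t t' : Γ(GrTwist.twist 𝒜 n, V)) :
    mulTw 𝒜 ℳ m n k hk s (t + t') = mulTw 𝒜 ℳ m n k hk s t + mulTw 𝒜 ℳ m n k hk s t' := by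
  apply GrModQC.ext_val; intro x
  rw [GrModFin.val_add, val_mulTw, val_mulTw, val_mulTw, GrTwistFin.val_add, add_smul]

theorem mulTw_smul_left (m n k : ℤ) (hk : k = m + n) {V : (Proj 𝒜).Opens} (a : Γ(Proj 𝒜, V))
    (s : Γ(GrMod.tilde 𝒜 ℳ m, V)) (t : Γ(GrTwist.twist 𝒜 n, V)) :
    mulTw 𝒜 ℳ m n k hk (a • s) t = (a • mulTw 𝒜 ℳ m n k hk s t : Γ(GrMod.tilde 𝒜 ℳ k, V)) := by
  apply GrModQC.ext_val; intro x
  rw [GrModQC.val_smul, val_mulTw, val_mulTw, GrModQC.val_smul, smul_comm]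

theorem mulTw_smul_right (m n k : ℤ) (hk : k = m + n) {V : (Proj 𝒜).Opens} (a : Γ(Proj 𝒜, V))
    (s : Γ(GrMod.tilde 𝒜 ℳ m, V)) (t : Γ(GrTwist.twist 𝒜 n, V)) :
    mulTw 𝒜 ℳ m n k hk s (a • t) = (a • mulTw 𝒜 ℳ m n k hk s t : Γ(GrMod.tilde 𝒜 ℳ k, V)) := by
  apply GrModQC.ext_val; intro x
  rw [GrModQC.val_smul, val_mulTw, val_mulTw, GrTwistQC.val_smul, mul_smul]

theorem mulTw_res (m n k : ℤ) (hk : k = m + n) {V V' : (Proj 𝒜).Opens} (h : V' ≤ V)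
    (s : Γ(GrMod.tilde 𝒜 ℳ m, V)) (t : Γ(GrTwist.twist 𝒜 n, V)) :
    mulTw 𝒜 ℳ m n k hk (res (GrMod.tilde 𝒜 ℳ m) h s) (res (GrTwist.twist 𝒜 n) h t) =
      res (GrMod.tilde 𝒜 ℳ k) h (mulTw 𝒜 ℳ m n k hk s t) := rfl

end Groth.Agent.Lib.Helper28.GrModMul
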