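import Mathlib.RingTheory.GradedAlgebra.RingHom
import Mathlib.RingTheory.GradedAlgebra.Homogeneous.Ideal
import Mathlib.RingTheory.Ideal.Quotient.Operations

/-!
# The quotient of a graded algebra by a homogeneous ideal, as a graded algebra
-/

set_option autoImplicit false
universe u
open DirectSum

namespace Groth.Agent.Lib.Helper28.GrQuotRing

variable {R A : Type u} [CommRing R] [CommRing A] [Algebra R A] (𝒜 : ℕ → Submodule R A)
  (I : Ideal A)

/-- the quotient map as an `R`-linear map -/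
def π : A →ₗ[R] A ⧸ I := (Ideal.Quotient.mkₐ R I).toLinearMap

theorem π_apply (a : A) : π (R := R) I a = Ideal.Quotient.mk I a := rfl

/-- the graded pieces of the quotient -/
def piece (n : ℕ) : Submodule R (A ⧸ I) := (𝒜 n).map (π I)

theorem mem_piece {n : ℕ} {y : A ⧸ I} :
    y ∈ piece 𝒜 I n ↔ ∃ a ∈ 𝒜 n, Ideal.Quotient.mk I a = y := Iff.rfl

theorem mk_mem_piece {n : ℕ} {a : A} (ha : a ∈ 𝒜 n) : Ideal.Quotient.mk I a ∈ piece 𝒜 I n :=
  ⟨a, ha, rfl⟩

/-- restriction of the quotient map to graded pieces -/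
def r (n : ℕ) : 𝒜 n →+ piece 𝒜 I n where
  toFun x := ⟨Ideal.Quotient.mk I x.1, mk_mem_piece 𝒜 I x.2⟩
  map_zero' := Subtype.ext (map_zero _)
  map_add' x y := Subtype.ext (map_add (Ideal.Quotient.mk I) x.1 y.1)

theorem coe_map (z : ⨁ i, 𝒜 i) :
    DirectSum.coeAddMonoidHom (piece 𝒜 I) (DirectSum.map (r 𝒜 I) z) =
      Ideal.Quotient.mk I (DirectSum.coeAddMonoidHom 𝒜 z) := by
  induction z using DirectSum.induction_on with
  | zero => simp
  | of i x =>
    rw [DirectSum.map_of, DirectSum.coeAddMonoidHom_of, DirectSum.coeAddMonoidHom_of]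
    rfl
  | add x y hx hy => rw [map_add, map_add, hx, hy, map_add, map_add]

variable [GradedAlgebra 𝒜]

/-- decomposition upstairs followed by the piecewise quotient maps -/
def D : A →+ ⨁ i, piece 𝒜 I i :=
  (DirectSum.map (r 𝒜 I)).comp (DirectSum.decomposeAddEquiv 𝒜).toAddMonoidHom

theorem D_apply (a : A) : D 𝒜 I a = DirectSum.map (r 𝒜 I) (DirectSum.decompose 𝒜 a) := rfl

variable {I}

theorem D_eq_zero (hI : I.IsHomogeneous 𝒜) {a : A} (ha : a ∈ I) : D 𝒜 I a = 0 := by
  rw [D_apply]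
  ext i
  rw [DirectSum.map_apply]
  change Ideal.Quotient.mk I (DirectSum.decompose 𝒜 a i : A) = 0
  exact Ideal.Quotient.eq_zero_iff_mem.mpr (hI i ha)

/-- the decomposition map of the quotient -/
def dec (hI : I.IsHomogeneous 𝒜) : A ⧸ I →+ ⨁ i, piece 𝒜 I i :=
  QuotientAddGroup.lift I.toAddSubgroup (D 𝒜 I) fun _ ha => D_eq_zero 𝒜 hI ha

theorem dec_mk (hI : I.IsHomogeneous 𝒜) (a : A) : dec 𝒜 hI (Ideal.Quotient.mk I a) = D 𝒜 I a := rfl

theorem coe_D (a : A) : DirectSum.coeAddMonoidHom (piece 𝒜 I) (D 𝒜 I a) = Ideal.Quotient.mk I a := by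
  have e2 : DirectSum.coeAddMonoidHom 𝒜 (DirectSum.decompose 𝒜 a) = a :=
    DirectSum.Decomposition.left_inv (ℳ := 𝒜) a
  rw [D_apply, coe_map, e2]

/-- the graded algebra structure on the quotient by a homogeneous ideal -/
@[instance_reducible]
def gradedAlgebra (hI : I.IsHomogeneous 𝒜) : GradedAlgebra (piece 𝒜 I) where
  one_mem := ⟨1, SetLike.GradedOne.one_mem, map_one (Ideal.Quotient.mk I)⟩
  mul_mem := by
    rintro i j _ _ ⟨a, ha, rfl⟩ ⟨b, hb, rfl⟩
    exact ⟨a * b, SetLike.GradedMul.mul_mem ha hb, map_mul (Ideal.Quotient.mk I) _ _⟩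
  decompose' := dec 𝒜 hI
  left_inv := by
    intro y
    obtain ⟨a, rfl⟩ := Ideal.Quotient.mk_surjective y
    rw [dec_mk]
    exact coe_D 𝒜 a
  right_inv := by
    intro z
    induction z using DirectSum.induction_on with
    | zero => simp
    | of i b =>
      obtain ⟨b, a, ha, rfl⟩ := b
      rw [DirectSum.coeAddMonoidHom_of]
      change dec 𝒜 hI (Ideal.Quotient.mk I a) = _
      rw [dec_mk, D_apply, DirectSum.decompose_of_mem 𝒜 ha, DirectSum.map_of]
      rfl
    | add x y hx hy =>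
      rw [map_add, map_add, hx, hy]

omit [GradedAlgebra 𝒜]

/-- the quotient map as a graded ring homomorphism -/
def quotHom : 𝒜 →+*ᵍ piece 𝒜 I where
  __ := Ideal.Quotient.mk I
  map_mem := fun hx => mk_mem_piece 𝒜 I hx

@[simp] theorem quotHom_apply (a : A) : (quotHom 𝒜 (I := I)) a = Ideal.Quotient.mk I a := rfl

theorem quotHom_surjective : Function.Surjective (quotHom 𝒜 (I := I)) :=
  Ideal.Quotient.mk_surjective

end Groth.Agent.Lib.Helper28.GrQuotRing
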