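import Groth.Prelude.Def_GrMod3
import Groth.Prelude.Def_GrMod2
import Mathlib.RingTheory.GradedAlgebra.Radical

set_option autoImplicit false
universe u
open CategoryTheory AlgebraicGeometry Opposite TopologicalSpace
noncomputable section

namespace Groth.Agent.Lib.Helper28.GrSect

variable {A σ : Type u} [CommRing A] [SetLike σ A] [AddSubgroupClass σ A] (𝒜 : ℕ → σ) [GradedRing 𝒜]
variable {M τ : Type u} [AddCommGroup M] [Module A M] [SetLike τ M] [AddSubgroupClass τ M] (ℳ : ℕ → τ)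

section ann
variable [DirectSum.Decomposition ℳ] [SetLike.GradedSMul 𝒜 ℳ]

open DirectSum in
/-- The annihilator of a homogeneous element of a graded module is a homogeneous ideal. -/
theorem ann_homogeneous {i : ℕ} (m : M) (hm : m ∈ ℳ i) :
    Ideal.IsHomogeneous 𝒜 (LinearMap.ker (LinearMap.toSpanSingleton A M m)) := by
  classical
  intro k a ha
  rw [LinearMap.mem_ker, LinearMap.toSpanSingleton_apply] at ha ⊢
  have hsum : a • m = ∑ j ∈ (decompose 𝒜 a).support, ((decompose 𝒜 a j : A)) • m := by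
    conv_lhs => rw [← DirectSum.sum_support_decompose 𝒜 a]
    rw [Finset.sum_smul]
  have hmem : ∀ j, ((decompose 𝒜 a j : A)) • m ∈ ℳ (j + i) := fun j =>
    SetLike.GradedSMul.smul_mem (decompose 𝒜 a j).2 hm
  have h2 : (decompose ℳ (a • m) (k + i) : M) = (decompose 𝒜 a k : A) • m := by
    rw [hsum, decompose_sum]
    rw [DFinsupp.finsetSum_apply, AddSubmonoidClass.coe_finsetSum]
    rw [Finset.sum_eq_single k]
    · rw [decompose_of_mem_same ℳ (hmem k)]
    · intro j _ hjk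
      rw [decompose_of_mem_ne ℳ (hmem j) (by omega)]
    · intro hk
      rw [DFinsupp.notMem_support_iff] at hk
      rw [hk]
      simp
  rw [← h2, ha]
  simp

/-- a homogeneous prime not containing the homogeneous element `g` of positive degree is a point of `D₊(g)` -/
def ptOf {e : ℕ} (he : 0 < e) {g : A} (hg : g ∈ 𝒜 e) (q : Ideal A) (hqhom : q.IsHomogeneous 𝒜)
    (hqprime : q.IsPrime) (hgq : g ∉ q) : ProjectiveSpectrum 𝒜 :=
  ⟨⟨q, hqhom⟩, hqprime, fun hle => hgq (hle (HomogeneousIdeal.mem_irrelevant_of_mem 𝒜 he hg))⟩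

/-- **Injectivity**: a homogeneous element vanishing in all the `M_x`, `x ∈ D₊(g)`, is killed by a power of `g`. -/
theorem pow_smul_eq_zero {e : ℕ} (he : 0 < e) {g : A} (hg : g ∈ 𝒜 e) {i : ℕ} (m : M) (hm : m ∈ ℳ i)
    (h : ∀ x : ProjectiveSpectrum 𝒜, g ∉ x.asHomogeneousIdeal →
      (LocalizedModule.mk m 1 : LocalizedModule x.asHomogeneousIdeal.toIdeal.primeCompl M) = 0) :
    ∃ N : ℕ, g ^ N • m = 0 := by
  set I : Ideal A := LinearMap.ker (LinearMap.toSpanSingleton A M m) with hI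
  have hIhom : I.IsHomogeneous 𝒜 := ann_homogeneous 𝒜 ℳ m hm
  suffices hrad : g ∈ I.radical by
    obtain ⟨N, hN⟩ := hrad
    exact ⟨N, by simpa [hI, LinearMap.toSpanSingleton_apply] using hN⟩
  rw [hIhom.radical_eq, Ideal.mem_sInf]
  rintro q ⟨hqhom, hIq, hqprime⟩
  by_contra hgq
  have h0 := h (ptOf 𝒜 he hg q hqhom hqprime hgq) hgq
  rw [← LocalizedModule.zero_mk (1 : (ptOf 𝒜 he hg q hqhom hqprime hgq).asHomogeneousIdeal.toIdeal.primeCompl),
    LocalizedModule.mk_eq] at h0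
  obtain ⟨u, hu⟩ := h0
  simp only [smul_zero, one_smul] at hu
  have : (u : A) ∈ I := by
    rw [hI, LinearMap.mem_ker, LinearMap.toSpanSingleton_apply]
    exact hu
  exact u.2 (hIq this)

end ann

section partition

/-- **Partition of unity**: if the `D₊(g l)` cover `D₊(f)` then a power of `f` is a combination of finitely many `g l`
with homogeneous coefficients. -/
theorem exists_partition {d : ℕ} (hd : 0 < d) {f : A} (hf : f ∈ 𝒜 d) {ι : Type*} (g : ι → A) (e : ι → ℕ)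
    (hg : ∀ l, g l ∈ 𝒜 (e l))
    (hcov : ∀ x : ProjectiveSpectrum 𝒜, f ∉ x.asHomogeneousIdeal → ∃ l, g l ∉ x.asHomogeneousIdeal) :
    ∃ (N : ℕ) (T : Finset ι) (c : ι → A),
      (∀ l ∈ T, c l = 0 ∨ ∃ a, c l ∈ 𝒜 a ∧ a + e l = N * d) ∧ f ^ N = ∑ l ∈ T, c l * g l := by
  classical
  set I : Ideal A := Ideal.span (Set.range g) with hI
  have hIhom : I.IsHomogeneous 𝒜 := by
    apply Ideal.homogeneous_span
    rintro _ ⟨l, rfl⟩
    exact ⟨e l, hg l⟩
  have hrad : f ∈ I.radical := by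
    rw [hIhom.radical_eq, Ideal.mem_sInf]
    rintro q ⟨hqhom, hIq, hqprime⟩
    by_contra hfq
    obtain ⟨l, hl⟩ := hcov (ptOf 𝒜 hd hf q hqhom hqprime hfq) hfq
    exact hl (hIq (Ideal.subset_span ⟨l, rfl⟩))
  obtain ⟨N, hN⟩ := hrad
  rw [hI, Ideal.span, ← Set.image_univ, Finsupp.mem_span_image_iff_linearCombination] at hN
  obtain ⟨c, -, hc⟩ := hN
  rw [Finsupp.linearCombination_apply, Finsupp.sum] at hc
  refine ⟨N, c.support, fun l => if e l ≤ N * d then (DirectSum.decompose 𝒜 (c l) (N * d - e l) : A) else 0,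
    fun l _ => ?_, ?_⟩
  · by_cases h : e l ≤ N * d
    · right
      refine ⟨N * d - e l, ?_, by omega⟩
      dsimp only
      rw [if_pos h]
      exact SetLike.coe_mem _
    · left
      dsimp only
      rw [if_neg h]
  · have h1 : (f ^ N : A) = (DirectSum.decompose 𝒜 (f ^ N) (N * d) : A) := by
      rw [DirectSum.decompose_of_mem_same]
      exact SetLike.pow_mem_graded N hf
    rw [h1, ← hc, DirectSum.decompose_sum, DFinsupp.finsetSum_apply, AddSubmonoidClass.coe_finsetSum]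
    refine Finset.sum_congr rfl fun l _ => ?_
    rw [smul_eq_mul]
    dsimp only
    by_cases h : e l ≤ N * d
    · rw [if_pos h, DirectSum.coe_decompose_mul_of_right_mem_of_le 𝒜 (hg l) h]
    · rw [if_neg h, DirectSum.coe_decompose_mul_of_right_mem_of_not_le 𝒜 (hg l) h, zero_mul]

end partition


abbrev LocM (x : ProjectiveSpectrum 𝒜) : Type u := LocalizedModule x.asHomogeneousIdeal.toIdeal.primeCompl M

section basic

/-- homogeneous basic opens form a basis of the projective spectrum -/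
theorem exists_homogeneous_basicOpen (V : Opens (ProjectiveSpectrum.top 𝒜)) (x : ProjectiveSpectrum 𝒜) (hx : x ∈ V) :
    ∃ (k : ℕ) (g : A), g ∈ 𝒜 k ∧ g ∉ x.asHomogeneousIdeal ∧
      ∀ y : ProjectiveSpectrum 𝒜, g ∉ y.asHomogeneousIdeal → y ∈ V := by
  classical
  obtain ⟨T, hT⟩ := (ProjectiveSpectrum.isOpen_iff 𝒜 V.1).1 V.2
  have hx' : x ∉ ProjectiveSpectrum.zeroLocus 𝒜 T := by
    rw [← hT]
    exact fun h => h hx
  rw [ProjectiveSpectrum.mem_zeroLocus, Set.not_subset] at hx'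
  obtain ⟨t, htT, htx⟩ := hx'
  have hex : ∃ k, (DirectSum.decompose 𝒜 t k : A) ∉ x.asHomogeneousIdeal := by
    by_contra hcon
    push Not at hcon
    apply htx
    change t ∈ x.asHomogeneousIdeal.toIdeal
    rw [← DirectSum.sum_support_decompose 𝒜 t]
    exact Ideal.sum_mem _ fun k _ => hcon k
  obtain ⟨k, hk⟩ := hex
  refine ⟨k, (DirectSum.decompose 𝒜 t k : A), SetLike.coe_mem _, hk, fun y hy => ?_⟩
  by_contra hyV
  have hy' : y ∈ ProjectiveSpectrum.zeroLocus 𝒜 T := by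
    rw [← hT]
    exact hyV
  rw [ProjectiveSpectrum.mem_zeroLocus] at hy'
  exact hy (y.asHomogeneousIdeal.2 k (hy' htT))

end basic


section local_rep
variable [SetLike.GradedSMul 𝒜 ℳ]

/-- the local-fraction hypothesis on a family of elements of the `M_x`, `x ∈ D₊(f)` -/
def IsLocFracOn (f : A) (n : ℤ)
    (F : ∀ x : ProjectiveSpectrum.basicOpen 𝒜 f, LocM 𝒜 (M := M) x.1) : Prop :=
  ∀ x : ProjectiveSpectrum.basicOpen 𝒜 f, ∃ (V : Opens (ProjectiveSpectrum.top 𝒜)) (_ : x.1 ∈ V)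
    (hV : ∀ y : ProjectiveSpectrum 𝒜, y ∈ V → y ∈ ProjectiveSpectrum.basicOpen 𝒜 f)
    (i j : ℕ) (m : M) (_ : m ∈ ℳ i) (s : A) (_ : s ∈ 𝒜 j)
    (s_nin : ∀ y : ProjectiveSpectrum 𝒜, y ∈ V → s ∉ y.asHomogeneousIdeal),
    ((i : ℤ) = j + n ∨ m = 0) ∧
      ∀ (y : ProjectiveSpectrum 𝒜) (hy : y ∈ V), F ⟨y, hV y hy⟩ = LocalizedModule.mk m ⟨s, s_nin y hy⟩

variable {𝒜 ℳ}

/-- **Step B**: local representation with the denominator defining the neighbourhood -/
theorem exists_local {d : ℕ} {f : A} (hf : f ∈ 𝒜 d) (hd : 0 < d) (n : ℤ)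
    (F : ∀ x : ProjectiveSpectrum.basicOpen 𝒜 f, LocM 𝒜 (M := M) x.1)
    (hF : IsLocFracOn 𝒜 ℳ f n F) (x : ProjectiveSpectrum.basicOpen 𝒜 f) :
    ∃ (e : ℕ) (g : A) (_ : 0 < e) (_ : g ∈ 𝒜 e) (i : ℕ) (m : M) (_ : m ∈ ℳ i), (i : ℤ) = e + n ∧
      g ∉ x.1.asHomogeneousIdeal ∧
      ∀ (y : ProjectiveSpectrum 𝒜) (hy : g ∉ y.asHomogeneousIdeal),
        ∃ hyU : y ∈ ProjectiveSpectrum.basicOpen 𝒜 f, F ⟨y, hyU⟩ = LocalizedModule.mk m ⟨g, hy⟩ := by
  obtain ⟨V, hxV, hV, i, j, m, hm, s, hs, s_nin, hdeg, hFV⟩ := hF x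
  obtain ⟨k, g₀, hg₀, hg₀x, hg₀V⟩ := exists_homogeneous_basicOpen 𝒜 V x.1 hxV
  have hfx : f ∉ x.1.asHomogeneousIdeal := (ProjectiveSpectrum.mem_basicOpen 𝒜 f x.1).1 x.2
  set K : ℕ := n.natAbs with hK
  set a : A := g₀ * f ^ (K + 1) with ha
  have ha_mem : a ∈ 𝒜 (k + (K + 1) * d) :=
    SetLike.mul_mem_graded hg₀ (SetLike.pow_mem_graded (K + 1) hf)
  have hg_mem : a * s ∈ 𝒜 (k + (K + 1) * d + j) := SetLike.mul_mem_graded ha_mem hs
  have hK1 : (K : ℤ) + n ≥ 0 := by
    omega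
  have hd1 : (K + 1) * d ≥ K + 1 := Nat.le_mul_of_pos_right _ hd
  have hpos : (0 : ℤ) ≤ ((k + (K + 1) * d + j : ℕ) : ℤ) + n := by
    push_cast
    have : ((K + 1 : ℕ) : ℤ) ≤ (((K + 1) * d : ℕ) : ℤ) := by exact_mod_cast hd1
    push_cast at this
    nlinarith [Int.natCast_nonneg k, Int.natCast_nonneg j]
  have hax : a ∉ x.1.asHomogeneousIdeal := by
    intro h
    rcases x.1.isPrime.mem_or_mem h with h1 | h1
    · exact hg₀x h1
    · exact hfx (x.1.isPrime.mem_of_pow_mem _ h1)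
  refine ⟨k + (K + 1) * d + j, a * s, by omega, hg_mem,
    (((k + (K + 1) * d + j : ℕ) : ℤ) + n).toNat, a • m, ?_, ?_, ?_, ?_⟩
  · rcases hdeg with hdeg | hdeg
    · have e1 : (((k + (K + 1) * d + j : ℕ) : ℤ) + n).toNat = k + (K + 1) * d + i := by
        have : (((k + (K + 1) * d + j : ℕ) : ℤ) + n) = ((k + (K + 1) * d + i : ℕ) : ℤ) := by
          push_cast
          omega
        rw [this, Int.toNat_natCast]
      rw [e1]
      exact SetLike.GradedSMul.smul_mem ha_mem hm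
    · rw [hdeg, smul_zero]
      exact zero_mem _
  · rw [Int.toNat_of_nonneg hpos]
  · intro h
    rcases x.1.isPrime.mem_or_mem h with h1 | h1
    · exact hax h1
    · exact s_nin x.1 hxV h1
  · intro y hy
    have hay : a ∉ y.asHomogeneousIdeal := fun h => hy (Ideal.mul_mem_right _ _ h)
    have hg₀y : g₀ ∉ y.asHomogeneousIdeal := fun h => hay (Ideal.mul_mem_right _ _ h)
    have hfy : f ∉ y.asHomogeneousIdeal := fun h =>
      hay (Ideal.mul_mem_left _ _ (Ideal.pow_mem_of_mem _ h _ (Nat.succ_pos K)))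
    have hyV : y ∈ V := hg₀V y hg₀y
    refine ⟨(ProjectiveSpectrum.mem_basicOpen 𝒜 f y).2 hfy, ?_⟩
    have h1 := hFV y hyV
    rw [h1]
    exact (LocalizedModule.mk_cancel_common_left
      (⟨a, hay⟩ : y.asHomogeneousIdeal.toIdeal.primeCompl) ⟨s, s_nin y hyV⟩ m).symm


/-- **Sections over `D₊(f)`**: a family that is locally a fraction of degree `n` is globally one fraction `m / f^k`. -/
theorem exists_frac [DirectSum.Decomposition ℳ] {d : ℕ} {f : A} (hf : f ∈ 𝒜 d) (hd : 0 < d) (n : ℤ)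
    (F : ∀ x : ProjectiveSpectrum.basicOpen 𝒜 f, LocM 𝒜 (M := M) x.1)
    (hF : IsLocFracOn 𝒜 ℳ f n F) :
    ∃ (k i : ℕ) (m : M) (_ : m ∈ ℳ i), (i : ℤ) = k * d + n ∧
      ∀ (x : ProjectiveSpectrum.basicOpen 𝒜 f) (hx : f ^ k ∉ x.1.asHomogeneousIdeal),
        F x = LocalizedModule.mk m ⟨f ^ k, hx⟩ := by
  classical
  choose e g he hg i m hm hi hgx hFg using exists_local hf hd n F hF
  -- first partition: finite subcover
  obtain ⟨N₁, T, c₁, -, hsum₁⟩ := exists_partition 𝒜 hd hf g e hg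
    (fun x hx => ⟨⟨x, (ProjectiveSpectrum.mem_basicOpen 𝒜 f x).2 hx⟩,
      hgx ⟨x, (ProjectiveSpectrum.mem_basicOpen 𝒜 f x).2 hx⟩⟩)
  have hcovT : ∀ y : ProjectiveSpectrum 𝒜, f ∉ y.asHomogeneousIdeal →
      ∃ l ∈ T, g l ∉ y.asHomogeneousIdeal := by
    intro y hy
    by_contra hcon
    push Not at hcon
    apply hy
    apply y.isPrime.mem_of_pow_mem N₁
    rw [hsum₁]
    exact Ideal.sum_mem _ fun l hl => Ideal.mul_mem_left _ _ (hcon l hl)
  -- overlaps
  have hov : ∀ l l' : ProjectiveSpectrum.basicOpen 𝒜 f,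
      ∃ N, (g l * g l') ^ N • (g l' • m l - g l • m l') = 0 := by
    intro l l'
    have hmem : g l' • m l - g l • m l' ∈ ℳ (e l' + i l) := by
      refine sub_mem (SetLike.GradedSMul.smul_mem (hg l') (hm l)) ?_
      have : e l' + i l = e l + i l' := by
        have h1 := hi l
        have h2 := hi l'
        omega
      rw [this]
      exact SetLike.GradedSMul.smul_mem (hg l) (hm l')
    refine pow_smul_eq_zero 𝒜 ℳ (e := e l + e l') (by have := he l; omega)
      (SetLike.mul_mem_graded (hg l) (hg l')) _ hmem ?_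
    intro y hy
    have hyl : g l ∉ y.asHomogeneousIdeal := fun h => hy (Ideal.mul_mem_right _ _ h)
    have hyl' : g l' ∉ y.asHomogeneousIdeal := fun h => hy (Ideal.mul_mem_left _ _ h)
    obtain ⟨hyU, h1⟩ := hFg l y hyl
    obtain ⟨hyU', h2⟩ := hFg l' y hyl'
    have h3 : (LocalizedModule.mk (m l) ⟨g l, hyl⟩ : LocM 𝒜 (M := M) y) =
        LocalizedModule.mk (m l') ⟨g l', hyl'⟩ := h1.symm.trans h2
    rw [LocalizedModule.mk_eq] at h3
    obtain ⟨u, hu⟩ := h3
    rw [← LocalizedModule.zero_mk (1 : y.asHomogeneousIdeal.toIdeal.primeCompl), LocalizedModule.mk_eq]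
    refine ⟨u, ?_⟩
    simp only [one_smul, smul_zero]
    rw [smul_sub, sub_eq_zero]
    exact hu
  choose Nf hNf using hov
  set N' := (T ×ˢ T).sup (fun p => Nf p.1 p.2) with hN'def
  have hN' : ∀ l ∈ T, ∀ l' ∈ T, (g l * g l') ^ N' • (g l' • m l - g l • m l') = 0 := by
    intro l hl l' hl'
    have hle : Nf l l' ≤ N' :=
      Finset.le_sup (f := fun p : _ × _ => Nf p.1 p.2) (Finset.mk_mem_product hl hl')
    obtain ⟨r, hr⟩ := Nat.exists_eq_add_of_le hle
    rw [hr, pow_add, mul_comm, mul_smul, hNf, smul_zero]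
  have hcompat : ∀ l ∈ T, ∀ l' ∈ T,
      g l' ^ (N' + 1) • (g l ^ N' • m l) = g l ^ (N' + 1) • (g l' ^ N' • m l') := by
    intro l hl l' hl'
    have h := hN' l hl l' hl'
    rw [smul_sub, sub_eq_zero] at h
    calc g l' ^ (N' + 1) • (g l ^ N' • m l) = (g l * g l') ^ N' • (g l' • m l) := by
          simp only [smul_smul]
          congr 1
          ring
      _ = (g l * g l') ^ N' • (g l • m l') := h
      _ = _ := by
          simp only [smul_smul]
          congr 1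
          ring
  -- second partition
  obtain ⟨N₂, T₂, c, hc, hsum₂⟩ := exists_partition 𝒜 hd hf (fun l : T => g l ^ (N' + 1))
    (fun l => (N' + 1) * e l) (fun l => SetLike.pow_mem_graded _ (hg l)) (by
      intro y hy
      obtain ⟨l, hl, hgl⟩ := hcovT y hy
      exact ⟨⟨l, hl⟩, fun h => hgl (y.isPrime.mem_of_pow_mem _ h)⟩)
  set K : ℕ := N₂ + n.natAbs with hK
  have hpos : (0 : ℤ) ≤ ((K * d : ℕ) : ℤ) + n := by
    have h1 : K ≤ K * d := Nat.le_mul_of_pos_right _ hd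
    have h2 : ((K : ℕ) : ℤ) ≤ ((K * d : ℕ) : ℤ) := by exact_mod_cast h1
    have h3 : ((K : ℕ) : ℤ) = N₂ + n.natAbs := by rw [hK]; push_cast; rfl
    omega
  refine ⟨K, (((K * d : ℕ) : ℤ) + n).toNat,
    ∑ l ∈ T₂, (f ^ n.natAbs * c l) • (g l ^ N' • m l), ?_, ?_, ?_⟩
  · refine sum_mem fun l hl => ?_
    rcases hc l hl with h0 | ⟨a, ha, hae⟩
    · rw [h0, mul_zero, zero_smul]
      exact zero_mem _
    · have h1 : f ^ n.natAbs * c l ∈ 𝒜 (n.natAbs * d + a) :=
        SetLike.mul_mem_graded (SetLike.pow_mem_graded _ hf) ha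
      have h2 : g l ^ N' • m l ∈ ℳ (N' * e l + i l) :=
        SetLike.GradedSMul.smul_mem (SetLike.pow_mem_graded _ (hg l)) (hm l)
      have h3 := SetLike.GradedSMul.smul_mem h1 h2
      have e1 : (((K * d : ℕ) : ℤ) + n).toNat = n.natAbs * d + a + (N' * e l + i l) := by
        have h4 := hi l
        have h5 : (N' + 1) * e l = N' * e l + e l := by ring
        have h6 : K * d = N₂ * d + n.natAbs * d := by rw [hK]; ring
        have : (((K * d : ℕ) : ℤ) + n) = ((n.natAbs * d + a + (N' * e l + i l) : ℕ) : ℤ) := by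
          push_cast
          rw [h5] at hae
          have h7 : ((K * d : ℕ) : ℤ) = ((N₂ * d : ℕ) : ℤ) + ((n.natAbs * d : ℕ) : ℤ) := by
            rw [h6]; push_cast; rfl
          push_cast at h7
          have h8 : ((a + (N' * e l + e l) : ℕ) : ℤ) = ((N₂ * d : ℕ) : ℤ) := by rw [hae]
          push_cast at h8
          linarith
        rw [this, Int.toNat_natCast]
      rw [e1]
      exact h3
  · rw [Int.toNat_of_nonneg hpos]
    push_cast
    rfl
  · intro x hx
    have hfx : f ∉ x.1.asHomogeneousIdeal := (ProjectiveSpectrum.mem_basicOpen 𝒜 f x.1).1 x.2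
    obtain ⟨l, hl, hgl⟩ := hcovT x.1 hfx
    obtain ⟨hyU, h1⟩ := hFg l x.1 hgl
    have h2 : F x = LocalizedModule.mk (m l) ⟨g l, hgl⟩ := h1
    rw [h2, LocalizedModule.mk_eq]
    have hu : g l ^ N' ∉ x.1.asHomogeneousIdeal := fun h => hgl (x.1.isPrime.mem_of_pow_mem _ h)
    refine ⟨⟨g l ^ N', hu⟩, ?_⟩
    change g l ^ N' • f ^ K • m l = g l ^ N' • g l • ∑ l' ∈ T₂, (f ^ n.natAbs * c l') • (g l' ^ N' • m l')
    have h3 : g l ^ N' • g l • ∑ l' ∈ T₂, (f ^ n.natAbs * c l') • (g l' ^ N' • m l') =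
        ∑ l' ∈ T₂, (f ^ n.natAbs * (c l' * g l' ^ (N' + 1))) • (g l ^ N' • m l) := by
      rw [Finset.smul_sum, Finset.smul_sum]
      refine Finset.sum_congr rfl fun l' _ => ?_
      have h4 := hcompat l hl l'.1 l'.2
      calc g l ^ N' • g l • (f ^ n.natAbs * c l') • (g l'.1 ^ N' • m l'.1)
          = (f ^ n.natAbs * c l') • (g l ^ (N' + 1) • (g l'.1 ^ N' • m l'.1)) := by
            simp only [smul_smul]
            congr 1
            ring
        _ = (f ^ n.natAbs * c l') • (g l'.1 ^ (N' + 1) • (g l ^ N' • m l)) := by rw [h4]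
        _ = _ := by
            simp only [smul_smul]
            congr 1
            ring
    rw [h3, ← Finset.sum_smul, ← Finset.mul_sum, ← hsum₂, ← pow_add, smul_smul, smul_smul]
    congr 1
    rw [hK]
    ring


end local_rep

end Groth.Agent.Lib.Helper28.GrSect
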