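import Groth.Agent.Lib.Helper28.GrSectMod
import Groth.Prelude.Def_RelProj3

set_option autoImplicit false
universe u
open CategoryTheory AlgebraicGeometry Opposite TopologicalSpace
open scoped HomogeneousIdeal
noncomputable section

namespace Groth.Agent.Lib.Helper28.GrSectComap

open Groth.Agent.Lib.Helper28.GrSect

section one
variable {A σ : Type u} [CommRing A] [SetLike σ A] [AddSubgroupClass σ A] (𝒜 : ℕ → σ) [GradedRing 𝒜]
variable {M τ : Type u} [AddCommGroup M] [Module A M] [SetLike τ M] [AddSubgroupClass τ M] (ℳ : ℕ → τ)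

/-- homogeneous basic opens of positive degree form a basis -/
theorem exists_pos_basicOpen (V : Opens (ProjectiveSpectrum.top 𝒜)) (x : ProjectiveSpectrum 𝒜) (hx : x ∈ V) :
    ∃ (e : ℕ) (g : A), 0 < e ∧ g ∈ 𝒜 e ∧ g ∉ x.asHomogeneousIdeal ∧
      ∀ y : ProjectiveSpectrum 𝒜, g ∉ y.asHomogeneousIdeal → y ∈ V := by
  classical
  obtain ⟨k, g₀, hg₀, hg₀x, hg₀V⟩ := exists_homogeneous_basicOpen 𝒜 V x hx
  have hx' := x.not_irrelevant_le
  rw [SetLike.not_le_iff_exists] at hx'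
  obtain ⟨r, hr, hrx⟩ := hx'
  have hex : ∃ j, 0 < j ∧ (DirectSum.decompose 𝒜 r j : A) ∉ x.asHomogeneousIdeal := by
    by_contra hcon
    push Not at hcon
    apply hrx
    change r ∈ x.asHomogeneousIdeal.toIdeal
    rw [← DirectSum.sum_support_decompose 𝒜 r]
    refine Ideal.sum_mem _ fun j _ => ?_
    by_cases hj : j = 0
    · subst hj
      have : (DirectSum.decompose 𝒜 r 0 : A) = 0 := by
        have := (HomogeneousIdeal.mem_irrelevant_iff 𝒜 r).1 hr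
        rwa [GradedRing.proj_apply] at this
      rw [this]
      exact zero_mem _
    · exact hcon j (Nat.pos_of_ne_zero hj)
  obtain ⟨j, hj, hjx⟩ := hex
  refine ⟨k + j, g₀ * (DirectSum.decompose 𝒜 r j : A), by omega,
    SetLike.mul_mem_graded hg₀ (SetLike.coe_mem _), ?_, fun y hy => ?_⟩
  · intro h
    rcases x.isPrime.mem_or_mem h with h1 | h1
    · exact hg₀x h1
    · exact hjx h1
  · exact hg₀V y fun h => hy (Ideal.mul_mem_right _ _ h)

theorem mk_eq_zero_of_smul (y : ProjectiveSpectrum 𝒜) (m : M)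
    (s : y.asHomogeneousIdeal.toIdeal.primeCompl) (r : A) (hr : r ∉ y.asHomogeneousIdeal) (h : r • m = 0) :
    (LocalizedModule.mk m s : LocalizedModule y.asHomogeneousIdeal.toIdeal.primeCompl M) = 0 := by
  rw [← LocalizedModule.zero_mk (1 : y.asHomogeneousIdeal.toIdeal.primeCompl), LocalizedModule.mk_eq]
  refine ⟨⟨r, hr⟩, ?_⟩
  simp only [one_smul, smul_zero]
  exact h

theorem mk_one_eq_zero_of_mk (y : ProjectiveSpectrum 𝒜) (m : M)
    (s : y.asHomogeneousIdeal.toIdeal.primeCompl)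
    (h : (LocalizedModule.mk m s : LocalizedModule y.asHomogeneousIdeal.toIdeal.primeCompl M) = 0) :
    (LocalizedModule.mk m 1 : LocalizedModule y.asHomogeneousIdeal.toIdeal.primeCompl M) = 0 := by
  rw [← LocalizedModule.zero_mk (1 : y.asHomogeneousIdeal.toIdeal.primeCompl), LocalizedModule.mk_eq] at h ⊢
  obtain ⟨w, hw⟩ := h
  refine ⟨w, ?_⟩
  simp only [one_smul, smul_zero] at hw ⊢
  exact hw

variable [SetLike.GradedSMul 𝒜 ℳ]

/-- a section over `V ⊇ D₊(f)` is one fraction `m / f^k` on `D₊(f)` -/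
theorem exists_frac_of_le [DirectSum.Decomposition ℳ] {d : ℕ} {f : A} (hf : f ∈ 𝒜 d) (hd : 0 < d) (n : ℤ)
    (V : Opens (ProjectiveSpectrum.top 𝒜)) (t : GrMod.sect 𝒜 ℳ n (op V))
    (hle : ∀ y : ProjectiveSpectrum 𝒜, f ∉ y.asHomogeneousIdeal → y ∈ V) :
    ∃ (k i : ℕ) (m : M) (_ : m ∈ ℳ i), (i : ℤ) = k * d + n ∧
      ∀ (y : ProjectiveSpectrum 𝒜) (hy : f ∉ y.asHomogeneousIdeal) (hk : f ^ k ∉ y.asHomogeneousIdeal),
        ((t.1 ⟨y, hle y hy⟩ : GrMod.tildeAt 𝒜 ℳ n y) : GrMod.LocMod 𝒜 (M := M) y) =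
          LocalizedModule.mk m ⟨f ^ k, hk⟩ := by
  have hF : IsLocFracOn 𝒜 ℳ f n (fun x =>
      ((t.1 ⟨x.1, hle x.1 ((ProjectiveSpectrum.mem_basicOpen 𝒜 f x.1).1 x.2)⟩ :
        GrMod.tildeAt 𝒜 ℳ n x.1) : GrMod.LocMod 𝒜 (M := M) x.1)) := by
    intro x
    obtain ⟨W, hxW, iW, i, j, m, s, s_nin, hdeg, hw⟩ :=
      t.2 ⟨x.1, hle x.1 ((ProjectiveSpectrum.mem_basicOpen 𝒜 f x.1).1 x.2)⟩
    refine ⟨W ⊓ ProjectiveSpectrum.basicOpen 𝒜 f, ⟨hxW, x.2⟩, fun y hy => hy.2, i, j, m.1, m.2, s.1, s.2,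
      fun y hy => s_nin ⟨y, hy.1⟩, hdeg, fun y hy => hw ⟨y, hy.1⟩⟩
  obtain ⟨k, i, m, hm, hi, h⟩ := GrSect.exists_frac hf hd n _ hF
  exact ⟨k, i, m, hm, hi, fun y hy hk => h ⟨y, (ProjectiveSpectrum.mem_basicOpen 𝒜 f y).2 hy⟩ hk⟩

end one


section two
variable {A σ : Type u} [CommRing A] [SetLike σ A] [AddSubgroupClass σ A] {𝒜 : ℕ → σ} [GradedRing 𝒜]
variable {M τ : Type u} [AddCommGroup M] [Module A M] [SetLike τ M] [AddSubgroupClass τ M] {ℳ : ℕ → τ}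
  [SetLike.GradedSMul 𝒜 ℳ] [DirectSum.Decomposition ℳ]
variable {B σ' : Type u} [CommRing B] [SetLike σ' B] [AddSubgroupClass σ' B] {ℬ : ℕ → σ'} [GradedRing ℬ]
variable {N τ' : Type u} [AddCommGroup N] [Module B N] [SetLike τ' N] [AddSubgroupClass τ' N] {𝒩 : ℕ → τ'}
  [SetLike.GradedSMul ℬ 𝒩] [DirectSum.Decomposition 𝒩]
variable (ψ : 𝒜 →+*ᵍ ℬ) (hψ : ℬ₊ ≤ (𝒜₊).map ψ) (v : M →ₛₗ[ψ.toRingHom] N)
  (hv : ∀ (i : ℕ) (m : M), m ∈ ℳ i → v m ∈ 𝒩 i)

omit [SetLike.GradedSMul 𝒜 ℳ] [SetLike.GradedSMul ℬ 𝒩] in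
include hv in
open DirectSum in
/-- the inverse of a bijective degree-preserving map preserves degrees -/
theorem mem_of_map_mem (hinj : Function.Injective v) {i : ℕ} (m : M) (h : v m ∈ 𝒩 i) : m ∈ ℳ i := by
  classical
  have hsum : v m = ∑ j ∈ (decompose ℳ m).support, v (decompose ℳ m j : M) := by
    conv_lhs => rw [← DirectSum.sum_support_decompose ℳ m, map_sum]
  have hj : ∀ j, j ≠ i → (decompose ℳ m j : M) = 0 := by
    intro j hji
    apply hinj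
    rw [map_zero]
    have h1 : (decompose 𝒩 (v m) j : N) = v (decompose ℳ m j : M) := by
      rw [hsum, decompose_sum, DFinsupp.finsetSum_apply, AddSubmonoidClass.coe_finsetSum]
      by_cases hjs : j ∈ (decompose ℳ m).support
      · rw [Finset.sum_eq_single j]
        · rw [decompose_of_mem_same 𝒩 (hv j _ (SetLike.coe_mem _))]
        · intro k _ hkj
          rw [decompose_of_mem_ne 𝒩 (hv k _ (SetLike.coe_mem _)) hkj]
        · intro h'
          exact absurd hjs h'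
      · rw [Finset.sum_eq_zero]
        · rw [DFinsupp.notMem_support_iff] at hjs
          rw [hjs]
          simp
        · intro k hk
          have hkj : k ≠ j := fun h' => hjs (h' ▸ hk)
          rw [decompose_of_mem_ne 𝒩 (hv k _ (SetLike.coe_mem _)) hkj]
    rw [← h1, decompose_of_mem_ne 𝒩 h hji.symm]
  have : m = (decompose ℳ m i : M) := by
    conv_lhs => rw [← DirectSum.sum_support_decompose ℳ m]
    by_cases his : i ∈ (decompose ℳ m).support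
    · rw [Finset.sum_eq_single i]
      · intro k _ hki
        exact hj k hki
      · intro h'
        exact absurd his h'
    · rw [Finset.sum_eq_zero]
      · rw [DFinsupp.notMem_support_iff] at his
        rw [his]
        simp
      · intro k hk
        exact hj k fun h' => his (h' ▸ hk)
  rw [this]
  exact SetLike.coe_mem _

variable (n : ℤ) (U : Opens (ProjectiveSpectrum.top 𝒜)) (V : Opens (ProjectiveSpectrum.top ℬ))
  (hUV : V.1 ⊆ ProjectiveSpectrum.comap ψ hψ ⁻¹' U.1)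

/-- injectivity of the comap on sections, for injective `v` -/
theorem comapApp_injective (hinj : Function.Injective v)
    (hVU : ∀ y : ProjectiveSpectrum ℬ, ProjectiveSpectrum.comap ψ hψ y ∈ U → y ∈ V) :
    Function.Injective (GrMod.comapApp ψ hψ v hv n U V hUV) := by
  rw [injective_iff_map_eq_zero]
  intro s hs
  refine Subtype.ext (funext fun x => Subtype.ext ?_)
  change ((s.1 x : GrMod.tildeAt 𝒜 ℳ n x.1) : GrMod.LocMod 𝒜 (M := M) x.1) = 0
  obtain ⟨e, f, he, hf, hfx, hfU⟩ := exists_pos_basicOpen 𝒜 U x.1 x.2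
  obtain ⟨k, i, m, hm, hi, hval⟩ := exists_frac_of_le 𝒜 ℳ hf he n U s hfU
  have hkx : f ^ k ∉ x.1.asHomogeneousIdeal := fun h => hfx (x.1.isPrime.mem_of_pow_mem k h)
  have h1 := hval x.1 hfx hkx
  have h2 : ((s.1 x : GrMod.tildeAt 𝒜 ℳ n x.1) : GrMod.LocMod 𝒜 (M := M) x.1) =
      LocalizedModule.mk m ⟨f ^ k, hkx⟩ := h1
  rw [h2]
  -- `v m` vanishes at all points of `D₊(ψ f)`
  have h0 : ∀ z : ProjectiveSpectrum ℬ, ψ f ∉ z.asHomogeneousIdeal →
      (LocalizedModule.mk (v m) 1 : LocalizedModule z.asHomogeneousIdeal.toIdeal.primeCompl N) = 0 := by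
    intro z hz
    have hzU : ProjectiveSpectrum.comap ψ hψ z ∈ U := hfU _ hz
    have hzV : z ∈ V := hVU z hzU
    have h3 : (((GrMod.comapApp ψ hψ v hv n U V hUV s : GrMod.sect ℬ 𝒩 n (op V)).1 ⟨z, hzV⟩ :
        GrMod.tildeAt ℬ 𝒩 n z) : GrMod.LocMod ℬ (M := N) z) = 0 := by
      rw [hs]
      rfl
    rw [GrMod.comapApp_apply_coe] at h3
    have hkz : f ^ k ∉ (ProjectiveSpectrum.comap ψ hψ z).asHomogeneousIdeal := fun h =>
      hz ((ProjectiveSpectrum.comap ψ hψ z).isPrime.mem_of_pow_mem k h)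
    have h4 := hval (ProjectiveSpectrum.comap ψ hψ z) hz hkz
    have h5 : GrMod.locModMap ψ hψ v z (LocalizedModule.mk m ⟨f ^ k, hkz⟩) = 0 := by
      rw [← h4]
      exact h3
    rw [GrMod.locModMap_mk] at h5
    exact mk_one_eq_zero_of_mk ℬ z (v m) _ h5
  obtain ⟨K, hK⟩ := pow_smul_eq_zero ℬ 𝒩 he (ψ.map_mem hf) (v m) (hv i m hm) h0
  have hK' : v (f ^ K • m) = 0 := by
    rw [LinearMap.map_smulₛₗ, map_pow]
    exact hK
  have hK'' : f ^ K • m = 0 := hinj (hK'.trans (map_zero v).symm)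
  exact mk_eq_zero_of_smul 𝒜 x.1 m _ (f ^ K) (fun h => hfx (x.1.isPrime.mem_of_pow_mem K h)) hK''

include hv in
/-- compatibility of two local representations of a section of `N(n)~`, transported to `M` -/
theorem compat_of_val (hinj : Function.Injective v) (t : GrMod.sect ℬ 𝒩 n (op V))
    {e e' : ℕ} {f f' : A} (he : 0 < e) (hf : f ∈ 𝒜 e) (hf' : f' ∈ 𝒜 e')
    {k k' i i' : ℕ} {m m' : M} (hm : m ∈ ℳ i) (hm' : m' ∈ ℳ i')
    (hi : (i : ℤ) = k * e + n) (hi' : (i' : ℤ) = k' * e' + n)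
    (hV : ∀ z : ProjectiveSpectrum ℬ, ψ f ∉ z.asHomogeneousIdeal → z ∈ V)
    (hval : ∀ (z : ProjectiveSpectrum ℬ) (hz : ψ f ∉ z.asHomogeneousIdeal) (hzV : z ∈ V)
      (hk : ψ f ^ k ∉ z.asHomogeneousIdeal),
      ((t.1 ⟨z, hzV⟩ : GrMod.tildeAt ℬ 𝒩 n z) : GrMod.LocMod ℬ (M := N) z) =
        LocalizedModule.mk (v m) ⟨ψ f ^ k, hk⟩)
    (hval' : ∀ (z : ProjectiveSpectrum ℬ) (hz : ψ f' ∉ z.asHomogeneousIdeal) (hzV : z ∈ V)
      (hk : ψ f' ^ k' ∉ z.asHomogeneousIdeal),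
      ((t.1 ⟨z, hzV⟩ : GrMod.tildeAt ℬ 𝒩 n z) : GrMod.LocMod ℬ (M := N) z) =
        LocalizedModule.mk (v m') ⟨ψ f' ^ k', hk⟩)
    (y : ProjectiveSpectrum 𝒜) (hfy : f ∉ y.asHomogeneousIdeal) (hfy' : f' ∉ y.asHomogeneousIdeal)
    (hy : f ^ k ∉ y.asHomogeneousIdeal) (hy' : f' ^ k' ∉ y.asHomogeneousIdeal) :
    (LocalizedModule.mk m ⟨f ^ k, hy⟩ : GrMod.LocMod 𝒜 (M := M) y) = LocalizedModule.mk m' ⟨f' ^ k', hy'⟩ := by
  have hw : f' ^ k' • m - f ^ k • m' ∈ ℳ (k' * e' + i) := by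
    refine sub_mem (SetLike.GradedSMul.smul_mem (SetLike.pow_mem_graded k' hf') hm) ?_
    have : k' * e' + i = k * e + i' := by omega
    rw [this]
    exact SetLike.GradedSMul.smul_mem (SetLike.pow_mem_graded k hf) hm'
  have hvw : v (f' ^ k' • m - f ^ k • m') = ψ f' ^ k' • v m - ψ f ^ k • v m' := by
    rw [map_sub, LinearMap.map_smulₛₗ, LinearMap.map_smulₛₗ, map_pow, map_pow]
    rfl
  have h0 : ∀ z : ProjectiveSpectrum ℬ, ψ (f * f') ∉ z.asHomogeneousIdeal →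
      (LocalizedModule.mk (v (f' ^ k' • m - f ^ k • m')) 1 :
        LocalizedModule z.asHomogeneousIdeal.toIdeal.primeCompl N) = 0 := by
    intro z hz
    rw [map_mul] at hz
    have hz1 : ψ f ∉ z.asHomogeneousIdeal := fun h => hz (Ideal.mul_mem_right _ _ h)
    have hz2 : ψ f' ∉ z.asHomogeneousIdeal := fun h => hz (Ideal.mul_mem_left _ _ h)
    have hk1 : ψ f ^ k ∉ z.asHomogeneousIdeal := fun h => hz1 (z.isPrime.mem_of_pow_mem k h)
    have hk2 : ψ f' ^ k' ∉ z.asHomogeneousIdeal := fun h => hz2 (z.isPrime.mem_of_pow_mem k' h)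
    have h1 := hval z hz1 (hV z hz1) hk1
    have h2 := hval' z hz2 (hV z hz1) hk2
    have h3 : (LocalizedModule.mk (v m) ⟨ψ f ^ k, hk1⟩ : GrMod.LocMod ℬ (M := N) z) =
        LocalizedModule.mk (v m') ⟨ψ f' ^ k', hk2⟩ := h1.symm.trans h2
    rw [LocalizedModule.mk_eq] at h3
    obtain ⟨u, hu⟩ := h3
    rw [← LocalizedModule.zero_mk (1 : z.asHomogeneousIdeal.toIdeal.primeCompl), LocalizedModule.mk_eq]
    refine ⟨u, ?_⟩
    simp only [one_smul, smul_zero]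
    rw [hvw, smul_sub, sub_eq_zero]
    exact hu
  obtain ⟨K, hK⟩ := pow_smul_eq_zero ℬ 𝒩 (e := e + e') (by omega)
    (ψ.map_mem (SetLike.mul_mem_graded hf hf')) _ (hv _ _ hw) h0
  have hK' : v ((f * f') ^ K • (f' ^ k' • m - f ^ k • m')) = 0 := by
    rw [LinearMap.map_smulₛₗ, map_pow]
    exact hK
  have hK'' : (f * f') ^ K • (f' ^ k' • m - f ^ k • m') = 0 := hinj (hK'.trans (map_zero v).symm)
  rw [LocalizedModule.mk_eq]
  have hu : (f * f') ^ K ∉ y.asHomogeneousIdeal := by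
    intro h
    rcases y.isPrime.mem_or_mem (y.isPrime.mem_of_pow_mem K h) with h1 | h1
    · exact hfy h1
    · exact hfy' h1
  refine ⟨⟨(f * f') ^ K, hu⟩, ?_⟩
  rw [smul_sub, sub_eq_zero] at hK''
  exact hK''

include hv in
/-- surjectivity of the comap on sections, for bijective `v` -/
theorem comapApp_surjective (hbij : Function.Bijective v)
    (hVU : ∀ y : ProjectiveSpectrum ℬ, ProjectiveSpectrum.comap ψ hψ y ∈ U → y ∈ V) :
    Function.Surjective (GrMod.comapApp ψ hψ v hv n U V hUV) := by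
  intro t
  have hloc : ∀ x : U, ∃ (e : ℕ) (f : A) (_ : 0 < e) (_ : f ∈ 𝒜 e) (_ : f ∉ x.1.asHomogeneousIdeal)
      (_ : ∀ y : ProjectiveSpectrum 𝒜, f ∉ y.asHomogeneousIdeal → y ∈ U) (k i : ℕ) (m : M) (_ : m ∈ ℳ i),
      (i : ℤ) = k * e + n ∧
      ∀ (z : ProjectiveSpectrum ℬ) (_ : ψ f ∉ z.asHomogeneousIdeal) (hzV : z ∈ V)
        (hk : ψ f ^ k ∉ z.asHomogeneousIdeal),
        ((t.1 ⟨z, hzV⟩ : GrMod.tildeAt ℬ 𝒩 n z) : GrMod.LocMod ℬ (M := N) z) =
          LocalizedModule.mk (v m) ⟨ψ f ^ k, hk⟩ := by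
    intro x
    obtain ⟨e, f, he, hf, hfx, hfU⟩ := exists_pos_basicOpen 𝒜 U x.1 x.2
    have hle : ∀ z : ProjectiveSpectrum ℬ, ψ f ∉ z.asHomogeneousIdeal → z ∈ V := fun z hz =>
      hVU z (hfU (ProjectiveSpectrum.comap ψ hψ z) hz)
    obtain ⟨k, i, m', hm', hi, hval⟩ := exists_frac_of_le ℬ 𝒩 (ψ.map_mem hf) he n V t hle
    obtain ⟨m, rfl⟩ := hbij.2 m'
    exact ⟨e, f, he, hf, hfx, hfU, k, i, m, mem_of_map_mem ψ v hv hbij.1 m hm', hi,
      fun z hz hzV hk => hval z hz hk⟩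
  choose e f he hf hfx hfU k i m hm hi hval using hloc
  have hpow : ∀ (x : U) (y : ProjectiveSpectrum 𝒜), f x ∉ y.asHomogeneousIdeal →
      f x ^ k x ∉ y.asHomogeneousIdeal := fun x y hy h => hy (y.isPrime.mem_of_pow_mem _ h)
  have hV : ∀ (x : U) (z : ProjectiveSpectrum ℬ), ψ (f x) ∉ z.asHomogeneousIdeal → z ∈ V := fun x z hz =>
    hVU z (hfU x (ProjectiveSpectrum.comap ψ hψ z) hz)
  have hcompat : ∀ (x x' : U) (y : ProjectiveSpectrum 𝒜) (hy : f x ∉ y.asHomogeneousIdeal)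
      (hy' : f x' ∉ y.asHomogeneousIdeal),
      (LocalizedModule.mk (m x) ⟨f x ^ k x, hpow x y hy⟩ : GrMod.LocMod 𝒜 (M := M) y) =
        LocalizedModule.mk (m x') ⟨f x' ^ k x', hpow x' y hy'⟩ := fun x x' y hy hy' =>
    compat_of_val ψ v hv n V hbij.1 t (he x) (hf x) (hf x') (hm x) (hm x') (hi x) (hi x')
      (hV x) (hval x) (hval x') y hy hy' _ _
  let s : GrMod.sect 𝒜 ℳ n (op U) :=
    ⟨fun x => ⟨LocalizedModule.mk (m x) ⟨f x ^ k x, hpow x x.1 (hfx x)⟩,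
        GrSectMod.mem_tildeAt_mk 𝒜 ℳ (hf x) n (k x) (i x) (m x) (hm x) (hi x) x.1 _⟩,
      fun x => ⟨ProjectiveSpectrum.basicOpen 𝒜 (f x) ⊓ U, ⟨hfx x, x.2⟩, Opens.infLERight _ _,
        i x, k x * e x, ⟨m x, hm x⟩, ⟨f x ^ k x, SetLike.pow_mem_graded _ (hf x)⟩,
        fun y => hpow x y.1 y.2.1, Or.inl (by push_cast; exact hi x),
        fun y => hcompat ⟨y.1, y.2.2⟩ x y.1 (hfx ⟨y.1, y.2.2⟩) y.2.1⟩⟩
  refine ⟨s, Subtype.ext (funext fun z => Subtype.ext ?_)⟩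
  rw [GrMod.comapApp_apply_coe]
  have hz : ψ (f ⟨ProjectiveSpectrum.comap ψ hψ z.1, hUV z.2⟩) ∉ z.1.asHomogeneousIdeal :=
    hfx ⟨ProjectiveSpectrum.comap ψ hψ z.1, hUV z.2⟩
  have h1 := hval ⟨ProjectiveSpectrum.comap ψ hψ z.1, hUV z.2⟩ z.1 hz z.2
    (fun h => hz (z.1.isPrime.mem_of_pow_mem _ h))
  refine Eq.trans ?_ h1.symm
  refine (GrMod.locModMap_mk ψ hψ v z.1 _ _).trans ?_
  congr 1
  exact Subtype.ext (map_pow ψ _ _)

end two

end Groth.Agent.Lib.Helper28.GrSectComap
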