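import Groth.Agent.Lib.Helper28.GrSect

set_option autoImplicit false
universe u
open CategoryTheory AlgebraicGeometry Opposite TopologicalSpace
noncomputable section

namespace Groth.Agent.Lib.Helper28.GrSectMod

open Groth.Agent.Lib.Helper28.GrSect

variable {A σ : Type u} [CommRing A] [SetLike σ A] [AddSubgroupClass σ A] (𝒜 : ℕ → σ) [GradedRing 𝒜]
variable {M τ : Type u} [AddCommGroup M] [Module A M] [SetLike τ M] [AddSubgroupClass τ M] (ℳ : ℕ → τ)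
  [SetLike.GradedSMul 𝒜 ℳ]

theorem pow_nin {f : A} (k : ℕ) (x : Proj.basicOpen 𝒜 f) : f ^ k ∉ x.1.asHomogeneousIdeal :=
  fun h => (ProjectiveSpectrum.mem_basicOpen 𝒜 f x.1).mp x.2 (x.1.isPrime.mem_of_pow_mem k h)

/-- sections of `M(n)~` over `D₊(f)` are one fraction `m / f^k` -/
theorem exists_frac [DirectSum.Decomposition ℳ] {d : ℕ} {f : A} (hf : f ∈ 𝒜 d) (hd : 0 < d) (n : ℤ)
    (t : Γ(GrMod.tilde 𝒜 ℳ n, Proj.basicOpen 𝒜 f)) :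
    ∃ (k i : ℕ) (m : M) (_ : m ∈ ℳ i), (i : ℤ) = k * d + n ∧
      ∀ x : Proj.basicOpen 𝒜 f, GrMod.val t x = LocalizedModule.mk m ⟨f ^ k, pow_nin 𝒜 k x⟩ := by
  have hF : IsLocFracOn 𝒜 ℳ f n (fun x => GrMod.val t x) := by
    intro x
    obtain ⟨V, hxV, iV, i, j, m, s, s_nin, hdeg, hw⟩ := (t : GrMod.sect 𝒜 ℳ n (op (Proj.basicOpen 𝒜 f))).2 x
    exact ⟨V, hxV, fun y hy => iV.le hy, i, j, m.1, m.2, s.1, s.2, fun y hy => s_nin ⟨y, hy⟩, hdeg,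
      fun y hy => hw ⟨y, hy⟩⟩
  obtain ⟨k, i, m, hm, hi, h⟩ := GrSect.exists_frac hf hd n _ hF
  exact ⟨k, i, m, hm, hi, fun x => h x _⟩

/-- the section `m / f^k` of `M(n)~` over `D₊(f)` -/
theorem mem_tildeAt_mk {f : A} {d : ℕ} (hf : f ∈ 𝒜 d) (n : ℤ) (k i : ℕ) (m : M) (hm : m ∈ ℳ i)
    (hi : (i : ℤ) = k * d + n) (x : ProjectiveSpectrum 𝒜) (hx : f ^ k ∉ x.asHomogeneousIdeal) :
    (LocalizedModule.mk m ⟨f ^ k, hx⟩ : GrMod.LocMod 𝒜 (M := M) x) ∈ GrMod.tildeAt 𝒜 ℳ n x :=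
  Submodule.subset_span ⟨i, k * d, ⟨m, hm⟩, ⟨f ^ k, SetLike.pow_mem_graded k hf⟩, hx,
    by push_cast; exact hi, rfl⟩

def mkSect' {f : A} {d : ℕ} (hf : f ∈ 𝒜 d) (n : ℤ) (k i : ℕ) (m : M) (hm : m ∈ ℳ i) (hi : (i : ℤ) = k * d + n) :
    GrMod.sect 𝒜 ℳ n (op (ProjectiveSpectrum.basicOpen 𝒜 f)) :=
  ⟨fun x => ⟨LocalizedModule.mk m ⟨f ^ k, fun h => (ProjectiveSpectrum.mem_basicOpen 𝒜 f x.1).mp x.2
        (x.1.isPrime.mem_of_pow_mem k h)⟩, mem_tildeAt_mk 𝒜 ℳ hf n k i m hm hi x.1 _⟩,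
    fun x => ⟨ProjectiveSpectrum.basicOpen 𝒜 f, x.2, 𝟙 _, i, k * d, ⟨m, hm⟩,
      ⟨f ^ k, SetLike.pow_mem_graded k hf⟩,
      fun y => fun h => (ProjectiveSpectrum.mem_basicOpen 𝒜 f y.1).mp y.2
        (y.1.isPrime.mem_of_pow_mem k h), Or.inl (by push_cast; exact hi), fun _ => rfl⟩⟩

def mkSect {f : A} {d : ℕ} (hf : f ∈ 𝒜 d) (n : ℤ) (k i : ℕ) (m : M) (hm : m ∈ ℳ i) (hi : (i : ℤ) = k * d + n) :
    Γ(GrMod.tilde 𝒜 ℳ n, Proj.basicOpen 𝒜 f) :=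
  mkSect' 𝒜 ℳ hf n k i m hm hi

theorem val_mkSect {f : A} {d : ℕ} (hf : f ∈ 𝒜 d) (n : ℤ) (k i : ℕ) (m : M) (hm : m ∈ ℳ i)
    (hi : (i : ℤ) = k * d + n) (x : Proj.basicOpen 𝒜 f) :
    GrMod.val (mkSect 𝒜 ℳ hf n k i m hm hi) x = LocalizedModule.mk m ⟨f ^ k, pow_nin 𝒜 k x⟩ := rfl

/-- sections are determined by their values -/
theorem ext_val {n : ℤ} {V : (Proj 𝒜).Opens} (s t : Γ(GrMod.tilde 𝒜 ℳ n, V))
    (h : ∀ x : V, GrMod.val s x = GrMod.val t x) : s = t := by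
  have : (s : GrMod.sect 𝒜 ℳ n (op V)) = (t : GrMod.sect 𝒜 ℳ n (op V)) :=
    Subtype.ext (funext fun x => Subtype.ext (h x))
  exact this

theorem val_zero {n : ℤ} {V : (Proj 𝒜).Opens} (x : V) :
    GrMod.val (0 : Γ(GrMod.tilde 𝒜 ℳ n, V)) x = 0 := rfl

end Groth.Agent.Lib.Helper28.GrSectMod
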