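import Mathlib.RingTheory.GradedAlgebra.RingHom
import Mathlib.RingTheory.GradedAlgebra.Homogeneous.Ideal
import Mathlib.Algebra.Group.Subgroup.Basic

/-!
# The grading induced on the target of a surjective ring homomorphism with homogeneous kernel
-/

set_option autoImplicit false
universe u
open DirectSum
noncomputable section

namespace Groth.Agent.Lib.Helper28.GrSurj

variable {A A' : Type u} [CommRing A] [CommRing A'] (𝒜 : ℕ → AddSubgroup A) (π : A →+* A')

/-- the images of the graded pieces -/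
def piece (n : ℕ) : AddSubgroup A' := (𝒜 n).map π.toAddMonoidHom

theorem mem_piece {n : ℕ} {y : A'} : y ∈ piece 𝒜 π n ↔ ∃ a ∈ 𝒜 n, π a = y := Iff.rfl

theorem map_mem_piece {n : ℕ} {a : A} (ha : a ∈ 𝒜 n) : π a ∈ piece 𝒜 π n := ⟨a, ha, rfl⟩

/-- restriction of `π` to graded pieces -/
def r (n : ℕ) : 𝒜 n →+ piece 𝒜 π n where
  toFun x := ⟨π x.1, map_mem_piece 𝒜 π x.2⟩
  map_zero' := Subtype.ext (map_zero _)
  map_add' x y := Subtype.ext (map_add π x.1 y.1)

theorem coe_map (z : ⨁ i, 𝒜 i) :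
    DirectSum.coeAddMonoidHom (piece 𝒜 π) (DirectSum.map (r 𝒜 π) z) = π (DirectSum.coeAddMonoidHom 𝒜 z) := by
  induction z using DirectSum.induction_on with
  | zero => simp
  | of i x =>
    rw [DirectSum.map_of, DirectSum.coeAddMonoidHom_of, DirectSum.coeAddMonoidHom_of]
    rfl
  | add x y hx hy => rw [map_add, map_add, hx, hy, map_add, map_add]

variable [GradedRing 𝒜]

/-- decomposition upstairs followed by the piecewise maps -/
def D : A →+ ⨁ i, piece 𝒜 π i :=
  (DirectSum.map (r 𝒜 π)).comp (DirectSum.decomposeAddEquiv 𝒜).toAddMonoidHom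

theorem D_apply (a : A) : D 𝒜 π a = DirectSum.map (r 𝒜 π) (DirectSum.decompose 𝒜 a) := rfl

variable {π}
variable (hker : ∀ a : A, π a = 0 → ∀ d : ℕ, π (DirectSum.decompose 𝒜 a d : A) = 0)

include hker in
theorem D_eq_zero {a : A} (ha : π a = 0) : D 𝒜 π a = 0 := by
  rw [D_apply]
  ext i
  rw [DirectSum.map_apply]
  change π (DirectSum.decompose 𝒜 a i : A) = 0
  exact hker a ha i

variable (hπ : Function.Surjective π)

/-- the decomposition map of the target -/
def dec : A' →+ ⨁ i, piece 𝒜 π i :=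
  AddMonoidHom.liftOfSurjective π.toAddMonoidHom hπ
    ⟨D 𝒜 π, fun a ha => D_eq_zero 𝒜 hker ((AddMonoidHom.mem_ker).1 ha)⟩

theorem dec_map (a : A) : dec 𝒜 hker hπ (π a) = D 𝒜 π a :=
  AddMonoidHom.liftOfRightInverse_comp_apply π.toAddMonoidHom _ _ _ a

omit [GradedRing 𝒜] in
theorem coe_D [GradedRing 𝒜] (a : A) : DirectSum.coeAddMonoidHom (piece 𝒜 π) (D 𝒜 π a) = π a := by
  have e2 : DirectSum.coeAddMonoidHom 𝒜 (DirectSum.decompose 𝒜 a) = a :=
    DirectSum.Decomposition.left_inv (ℳ := 𝒜) a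
  rw [D_apply, coe_map, e2]

/-- the graded ring structure on the target of a surjection with homogeneous kernel -/
@[instance_reducible]
def gradedRing : GradedRing (piece 𝒜 π) where
  one_mem := ⟨1, SetLike.GradedOne.one_mem, map_one π⟩
  mul_mem := by
    rintro i j _ _ ⟨a, ha, rfl⟩ ⟨b, hb, rfl⟩
    exact ⟨a * b, SetLike.GradedMul.mul_mem ha hb, map_mul π _ _⟩
  decompose' := dec 𝒜 hker hπ
  left_inv := by
    intro y
    obtain ⟨a, rfl⟩ := hπ y
    rw [dec_map]
    exact coe_D 𝒜 a
  right_inv := by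
    intro z
    induction z using DirectSum.induction_on with
    | zero => simp
    | of i b =>
      obtain ⟨b, a, ha, rfl⟩ := b
      rw [DirectSum.coeAddMonoidHom_of]
      change dec 𝒜 hker hπ (π a) = _
      rw [dec_map, D_apply, DirectSum.decompose_of_mem 𝒜 ha, DirectSum.map_of]
      rfl
    | add x y hx hy =>
      rw [map_add, map_add, hx, hy]

end Groth.Agent.Lib.Helper28.GrSurj
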