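import Mathlib

/-!
# Truncations of homogeneous primes in an `ℕ`-graded ring (helper28)

For a homogeneous prime `P` of an `ℕ`-graded ring `R` and `k : ℕ`, the set `P + R_{>k}` of the elements whose
components of degree `≤ k` lie in `P` is an ideal, and multiplication by an element whose degree-zero component is
not in `P` is injective modulo it.
-/

set_option autoImplicit false
open DirectSum

namespace Groth.Agent.Lib.Helper28.GrTaylorAlg

variable {R : Type*} [CommRing R] (𝒜 : ℕ → AddSubgroup R) [GradedRing 𝒜]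

/-- the degree-`n` component -/
def pr (n : ℕ) (a : R) : R := (DirectSum.decompose 𝒜 a n : R)

theorem pr_add (n : ℕ) (a b : R) : pr 𝒜 n (a + b) = pr 𝒜 n a + pr 𝒜 n b := by
  unfold pr
  rw [DirectSum.decompose_add, DirectSum.add_apply, AddSubgroup.coe_add]

theorem pr_zero (n : ℕ) : pr 𝒜 n (0 : R) = 0 := by
  unfold pr
  rw [DirectSum.decompose_zero, DirectSum.zero_apply, ZeroMemClass.coe_zero]

theorem pr_sub (n : ℕ) (a b : R) : pr 𝒜 n (a - b) = pr 𝒜 n a - pr 𝒜 n b := by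
  unfold pr
  rw [DirectSum.decompose_sub, DirectSum.sub_apply, AddSubgroup.coe_sub]

theorem pr_mem (n : ℕ) (a : R) : pr 𝒜 n a ∈ 𝒜 n := (DirectSum.decompose 𝒜 a n).2

theorem pr_mul (n : ℕ) (a b : R) :
    pr 𝒜 n (a * b) = ∑ ij ∈ Finset.HasAntidiagonal.antidiagonal n, pr 𝒜 ij.1 a * pr 𝒜 ij.2 b := by
  classical
  unfold pr
  rw [DirectSum.decompose_mul, DirectSum.coe_mul_apply_eq_sum_antidiagonal]

theorem pr_of_mem {n : ℕ} {a : R} (ha : a ∈ 𝒜 n) : pr 𝒜 n a = a := by
  unfold pr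
  rw [DirectSum.decompose_of_mem_same 𝒜 ha]

theorem pr_of_mem_ne {n m : ℕ} {a : R} (ha : a ∈ 𝒜 n) (h : n ≠ m) : pr 𝒜 m a = 0 := by
  unfold pr
  rw [DirectSum.decompose_of_mem_ne 𝒜 ha h]

open Classical in
theorem eq_sum_pr (a : R) : a = ∑ i ∈ (DirectSum.decompose 𝒜 a).support, pr 𝒜 i a :=
  (DirectSum.sum_support_decompose 𝒜 a).symm

theorem pr_zero_mul (a b : R) : pr 𝒜 0 (a * b) = pr 𝒜 0 a * pr 𝒜 0 b := by
  rw [pr_mul]
  simp

theorem pr_zero_one : pr 𝒜 0 (1 : R) = 1 := pr_of_mem 𝒜 (SetLike.GradedOne.one_mem)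

theorem pr_zero_pow (a : R) (m : ℕ) : pr 𝒜 0 (a ^ m) = pr 𝒜 0 a ^ m := by
  induction m with
  | zero => rw [pow_zero, pow_zero, pr_zero_one]
  | succ m ih => rw [pow_succ, pow_succ, pr_zero_mul, ih]

theorem mem_irrelevant_iff (a : R) :
    a ∈ (HomogeneousIdeal.irrelevant 𝒜).toIdeal ↔ pr 𝒜 0 a = 0 := by
  show a ∈ HomogeneousIdeal.irrelevant 𝒜 ↔ _
  rw [HomogeneousIdeal.mem_irrelevant_iff, GradedRing.proj_apply]
  rfl

theorem sub_pr_zero_mem_irrelevant (a : R) : a - pr 𝒜 0 a ∈ (HomogeneousIdeal.irrelevant 𝒜).toIdeal := by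
  rw [mem_irrelevant_iff, pr_sub, pr_of_mem 𝒜 (pr_mem 𝒜 0 a), sub_self]

/-- elements of the `(k+1)`-st power of the irrelevant ideal have no components of degree `≤ k` -/
theorem pr_eq_zero_of_mem_pow (k : ℕ) (a : R)
    (ha : a ∈ (HomogeneousIdeal.irrelevant 𝒜).toIdeal ^ (k + 1)) : ∀ n ≤ k, pr 𝒜 n a = 0 := by
  induction k generalizing a with
  | zero =>
    intro n hn
    obtain rfl : n = 0 := Nat.le_zero.1 hn
    rw [zero_add, pow_one] at ha
    exact (mem_irrelevant_iff 𝒜 a).1 ha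
  | succ k ih =>
    rw [pow_succ] at ha
    intro n hn
    refine Submodule.mul_induction_on ha (fun x hx y hy => ?_) (fun x y hx hy => ?_)
    · rw [pr_mul]
      refine Finset.sum_eq_zero fun ij hij => ?_
      have hsum : ij.1 + ij.2 = n := Finset.HasAntidiagonal.mem_antidiagonal.1 hij
      by_cases h2 : ij.2 = 0
      · rw [h2, (mem_irrelevant_iff 𝒜 y).1 hy, mul_zero]
      · have h1 : ij.1 ≤ k := by omega
        rw [ih x hx ij.1 h1, zero_mul]
    · rw [pr_add, hx, hy, add_zero]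

variable (P : Ideal R)

/-- `P + R_{>k}`: the elements whose components of degree `≤ k` lie in `P` -/
def trunc (k : ℕ) : Ideal R where
  carrier := {c | ∀ j ≤ k, pr 𝒜 j c ∈ P}
  add_mem' := by
    intro a b ha hb j hj
    rw [pr_add]
    exact P.add_mem (ha j hj) (hb j hj)
  zero_mem' := by
    intro j _
    rw [pr_zero]
    exact P.zero_mem
  smul_mem' := by
    intro g c hc j hj
    rw [smul_eq_mul, pr_mul]
    refine P.sum_mem fun ij hij => ?_
    have hsum : ij.1 + ij.2 = j := Finset.HasAntidiagonal.mem_antidiagonal.1 hij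
    exact P.mul_mem_left _ (hc ij.2 (by omega))

theorem mem_trunc (k : ℕ) (c : R) : c ∈ trunc 𝒜 P k ↔ ∀ j ≤ k, pr 𝒜 j c ∈ P := Iff.rfl

theorem le_trunc (hP : P.IsHomogeneous 𝒜) (k : ℕ) : P ≤ trunc 𝒜 P k :=
  fun c hc j _ => hP j hc

theorem pow_le_trunc (k : ℕ) : (HomogeneousIdeal.irrelevant 𝒜).toIdeal ^ (k + 1) ≤ trunc 𝒜 P k := by
  intro c hc j hj
  rw [pr_eq_zero_of_mem_pow 𝒜 k c hc j hj]
  exact P.zero_mem

/-- multiplication by an element whose degree-zero component is not in the prime `P` is injective modulo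
`P + R_{>k}` -/
theorem mem_trunc_of_mul_mem [P.IsPrime] (k : ℕ) (f b : R) (hf : pr 𝒜 0 f ∉ P)
    (h : f * b ∈ trunc 𝒜 P k) : b ∈ trunc 𝒜 P k := by
  intro n
  induction n using Nat.strong_induction_on with
  | _ n ih =>
    intro hn
    have h1 := h n hn
    rw [pr_mul] at h1
    have hmem : ((0, n) : ℕ × ℕ) ∈ Finset.HasAntidiagonal.antidiagonal n :=
      Finset.HasAntidiagonal.mem_antidiagonal.2 (zero_add n)
    rw [← Finset.add_sum_erase _ _ hmem] at h1
    have h2 : ∑ ij ∈ (Finset.HasAntidiagonal.antidiagonal n).erase ((0, n) : ℕ × ℕ),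
        pr 𝒜 ij.1 f * pr 𝒜 ij.2 b ∈ P := by
      refine P.sum_mem fun ij hij => ?_
      obtain ⟨hne, hm⟩ := Finset.mem_erase.1 hij
      have hsum : ij.1 + ij.2 = n := Finset.HasAntidiagonal.mem_antidiagonal.1 hm
      have hlt : ij.2 < n := by
        rcases Nat.lt_or_ge ij.2 n with h' | h'
        · exact h'
        · exfalso
          apply hne
          ext
          · show ij.1 = 0
            omega
          · show ij.2 = n
            omega
      exact P.mul_mem_left _ (ih ij.2 hlt (by omega))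
    have h3 : pr 𝒜 0 f * pr 𝒜 n b ∈ P := (Ideal.add_mem_iff_left P h2).1 h1
    exact ((Ideal.IsPrime.mem_or_mem inferInstance h3).resolve_left hf)

end Groth.Agent.Lib.Helper28.GrTaylorAlg
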