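import Mathlib
import Groth.Agent.Lib.Helper28.GrTaylorAlg

/-!
# Jets of functions defined near a closed subset of an affine scheme (helper28)

For an ideal `J` of `R` and an open `T ⊆ Spec R` containing `V(J)`, a function `φ` on `T` has an image in `R ⧸ J`
(pull back along `Spec (R ⧸ J) ⟶ T`).  We prove naturality and the local comparison with fractions `a / f ^ m`.
-/

set_option autoImplicit false
universe u
open CategoryTheory AlgebraicGeometry Opposite TopologicalSpace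

noncomputable section

namespace Groth.Agent.Lib.Helper28.GrTaylorSpec

theorem appLE_congr_hom {X Y : Scheme.{u}} {f g : X ⟶ Y} (e : f = g) (V : Y.Opens) (U : X.Opens)
    (h1 : U ≤ f ⁻¹ᵁ V) (h2 : U ≤ g ⁻¹ᵁ V) : f.appLE V U h1 = g.appLE V U h2 := by
  subst e; rfl

section jet

variable {R : CommRingCat.{u}} (J : Ideal R)

/-- the closed subscheme `Spec (R ⧸ J) ⟶ Spec R` -/
def iJ : Spec (CommRingCat.of (R ⧸ J)) ⟶ Spec R :=
  Spec.map (CommRingCat.ofHom (Ideal.Quotient.mk J))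

theorem iJ_apply_mem (z : Spec (CommRingCat.of (R ⧸ J))) :
    (iJ J) z ∈ PrimeSpectrum.zeroLocus (J : Set R) := by
  intro a ha
  show Ideal.Quotient.mk J a ∈ z.asIdeal
  rw [Ideal.Quotient.eq_zero_iff_mem.2 ha]
  exact z.asIdeal.zero_mem

variable (T : (Spec R).Opens) (hT : PrimeSpectrum.zeroLocus (J : Set R) ⊆ (T : Set (Spec R)))

include hT in
theorem top_le_preimage : (⊤ : (Spec (CommRingCat.of (R ⧸ J))).Opens) ≤ iJ J ⁻¹ᵁ T :=
  fun z _ => hT (iJ_apply_mem J z)

/-- the image in `R ⧸ J` of a function defined on an open containing `V(J)` -/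
def jet (φ : Γ(Spec R, T)) : R ⧸ J :=
  (Scheme.ΓSpecIso (CommRingCat.of (R ⧸ J))).hom ((iJ J).appLE T ⊤ (top_le_preimage J T hT) φ)

end jet

section natural

variable {R R' : CommRingCat.{u}} (ρ : R ⟶ R') (J : Ideal R) (J' : Ideal R') (hJ : J ≤ J'.comap ρ.hom)
  (T : (Spec R).Opens) (hT : PrimeSpectrum.zeroLocus (J : Set R) ⊆ (T : Set (Spec R)))
  (T' : (Spec R').Opens) (hT' : PrimeSpectrum.zeroLocus (J' : Set R') ⊆ (T' : Set (Spec R')))
  (hle : T' ≤ Spec.map ρ ⁻¹ᵁ T)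

theorem iJ_comp :
    iJ J' ≫ Spec.map ρ = Spec.map (CommRingCat.ofHom (Ideal.quotientMap J' ρ.hom hJ)) ≫ iJ J := by
  unfold iJ
  rw [← Spec.map_comp, ← Spec.map_comp]
  congr 1

/-- **naturality of jets** -/
theorem jet_map (φ : Γ(Spec R, T)) :
    jet J' T' hT' ((Spec.map ρ).appLE T T' hle φ) = Ideal.quotientMap J' ρ.hom hJ (jet J T hT φ) := by
  unfold jet
  have e1 : (Spec.map ρ).appLE T T' hle ≫ (iJ J').appLE T' ⊤ (top_le_preimage J' T' hT') =
      (iJ J' ≫ Spec.map ρ).appLE T ⊤ ((top_le_preimage J' T' hT').trans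
        ((Opens.map (iJ J').base).map (homOfLE hle)).le) :=
    Scheme.Hom.appLE_comp_appLE _ _ _ _ _ _ _
  have e2 : (iJ J).appLE T ⊤ (top_le_preimage J T hT) ≫
      (Spec.map (CommRingCat.ofHom (Ideal.quotientMap J' ρ.hom hJ))).appLE ⊤ ⊤ le_top =
      (Spec.map (CommRingCat.ofHom (Ideal.quotientMap J' ρ.hom hJ)) ≫ iJ J).appLE T ⊤
        (le_top.trans ((Opens.map (Spec.map (CommRingCat.ofHom (Ideal.quotientMap J' ρ.hom hJ))).base).map
          (homOfLE (top_le_preimage J T hT))).le) :=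
    Scheme.Hom.appLE_comp_appLE _ _ _ _ _ _ _
  have e3 : (Spec.map (CommRingCat.ofHom (Ideal.quotientMap J' ρ.hom hJ))).appLE ⊤ ⊤ le_top =
      (Spec.map (CommRingCat.ofHom (Ideal.quotientMap J' ρ.hom hJ))).appTop := by
    simp [Scheme.Hom.appLE, Scheme.Hom.appTop]
  have e4 := Scheme.ΓSpecIso_naturality (CommRingCat.ofHom (Ideal.quotientMap J' ρ.hom hJ))
  have h1 : (iJ J').appLE T' ⊤ (top_le_preimage J' T' hT') ((Spec.map ρ).appLE T T' hle φ) =
      ((Spec.map ρ).appLE T T' hle ≫ (iJ J').appLE T' ⊤ (top_le_preimage J' T' hT')) φ := rfl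
  rw [h1, e1]
  have h2 : (iJ J' ≫ Spec.map ρ).appLE T ⊤ ((top_le_preimage J' T' hT').trans
        ((Opens.map (iJ J').base).map (homOfLE hle)).le) =
      (iJ J).appLE T ⊤ (top_le_preimage J T hT) ≫
        (Spec.map (CommRingCat.ofHom (Ideal.quotientMap J' ρ.hom hJ))).appTop := by
    rw [← e3, e2]
    exact appLE_congr_hom (iJ_comp ρ J J' hJ) _ _ _ _
  rw [h2]
  have h3 := congr($(e4).hom ((iJ J).appLE T ⊤ (top_le_preimage J T hT) φ))
  exact h3

end natural

end Groth.Agent.Lib.Helper28.GrTaylorSpec
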