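import Mathlib
import Groth.Agent.Lib.Helper28.GrTaylorSpec

/-!
# Taylor coefficients along the vertex of an affine cone (helper28)
-/

set_option autoImplicit false
universe u
open CategoryTheory AlgebraicGeometry Opposite TopologicalSpace

noncomputable section

namespace Groth.Agent.Lib.Helper28.GrTaylorSpec

section loc

variable {R : CommRingCat.{u}} (T : (Spec R).Opens) (φ : Γ(Spec R, T))

set_option backward.isDefEq.respectTransparency false in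
/-- **local representation as a fraction**, compatible with all jets -/
theorem exists_frac (P₀ : Spec R) (hP₀ : P₀ ∈ T) :
    ∃ (f a : R) (m : ℕ), f ∉ P₀.asIdeal ∧
      (∀ Q : Spec R, f ∉ Q.asIdeal → (Q ∈ (Spec R).basicOpen φ ↔ a ∉ Q.asIdeal)) ∧
      ∀ (J : Ideal R) (hT : PrimeSpectrum.zeroLocus (J : Set R) ⊆ (T : Set (Spec R))),
        ∃ M : ℕ, Ideal.Quotient.mk J f ^ M *
          (jet J T hT φ * Ideal.Quotient.mk J f ^ m - Ideal.Quotient.mk J a) = 0 := by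
  obtain ⟨_, ⟨f, rfl⟩, hfP, hfT⟩ :=
    PrimeSpectrum.isTopologicalBasis_basic_opens.exists_subset_of_mem_open hP₀ T.isOpen
  let f' : Γ(Spec R, ⊤) := (Scheme.ΓSpecIso R).inv f
  have hD : (Spec R).basicOpen f' = PrimeSpectrum.basicOpen f := basicOpen_eq_of_affine f
  have hDT : (Spec R).basicOpen f' ≤ T := by
    rw [hD]; exact hfT
  haveI hloc := (isAffineOpen_top (Spec R)).isLocalization_basicOpen f'
  let φD : Γ(Spec R, (Spec R).basicOpen f') := ((Spec R).presheaf.map (homOfLE hDT).op).hom φ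
  obtain ⟨⟨a', ⟨_, m, rfl⟩⟩, ha'⟩ := IsLocalization.surj (Submonoid.powers f') φD
  simp only at ha'
  -- ha' : φD * algebraMap (f' ^ m) = algebraMap a'
  let a : R := (Scheme.ΓSpecIso R).hom a'
  have haa' : (Scheme.ΓSpecIso R).inv a = a' := by
    show (Scheme.ΓSpecIso R).inv ((Scheme.ΓSpecIso R).hom a') = a'
    rw [← CommRingCat.comp_apply, Iso.hom_inv_id]; rfl
  refine ⟨f, a, m, hfP, ?_, ?_⟩
  · intro Q hQ
    have hQD : Q ∈ (Spec R).basicOpen f' := by rw [hD]; exact hQ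
    have h1 : (Spec R).basicOpen φD = (Spec R).basicOpen f' ⊓ (Spec R).basicOpen φ :=
      Scheme.basicOpen_res _ _ _
    have hu : IsUnit (algebraMap Γ(Spec R, ⊤) Γ(Spec R, (Spec R).basicOpen f') (f' ^ m)) := by
      rw [map_pow]
      exact (IsLocalization.Away.algebraMap_isUnit f').pow m
    have h2 : (Spec R).basicOpen (φD * algebraMap Γ(Spec R, ⊤) Γ(Spec R, (Spec R).basicOpen f') (f' ^ m)) =
        (Spec R).basicOpen φD := by
      rw [Scheme.basicOpen_mul, Scheme.basicOpen_of_isUnit _ hu, h1]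
      exact inf_eq_left.2 inf_le_left
    have h3 : (Spec R).basicOpen (algebraMap Γ(Spec R, ⊤) Γ(Spec R, (Spec R).basicOpen f') a') =
        (Spec R).basicOpen f' ⊓ (Spec R).basicOpen a' :=
      Scheme.basicOpen_res _ _ _
    have h4 : (Spec R).basicOpen a' = PrimeSpectrum.basicOpen a := basicOpen_eq_of_affine' a'
    have h5 : (Spec R).basicOpen f' ⊓ (Spec R).basicOpen φ = (Spec R).basicOpen f' ⊓ (Spec R).basicOpen a' := by
      rw [← h1, ← h2, ha', h3]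
    constructor
    · intro hQφ
      have : Q ∈ (Spec R).basicOpen f' ⊓ (Spec R).basicOpen a' := by
        rw [← h5]; exact ⟨hQD, hQφ⟩
      have h6 := this.2
      rw [h4] at h6
      exact h6
    · intro hQa
      have : Q ∈ (Spec R).basicOpen f' ⊓ (Spec R).basicOpen φ := by
        rw [h5]
        refine ⟨hQD, ?_⟩
        rw [h4]
        exact hQa
      exact this.2
  · intro J hT
    let Z : Scheme.{u} := Spec (CommRingCat.of (R ⧸ J))
    let i : Z ⟶ Spec R := iJ J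
    let F : Γ(Z, ⊤) := i.appTop f'
    let A : Γ(Z, ⊤) := i.appTop a'
    let ψφ : Γ(Z, ⊤) := i.appLE T ⊤ (top_le_preimage J T hT) φ
    have hB : i ⁻¹ᵁ (Spec R).basicOpen f' = Z.basicOpen F := Scheme.preimage_basicOpen i f'
    have hle : Z.basicOpen F ≤ i ⁻¹ᵁ (Spec R).basicOpen f' := hB.ge
    let Ψ : Γ(Spec R, (Spec R).basicOpen f') ⟶ Γ(Z, Z.basicOpen F) :=
      i.appLE ((Spec R).basicOpen f') (Z.basicOpen F) hle
    have r1 : (Z.presheaf.map (homOfLE (Z.basicOpen_le F)).op).hom ψφ = Ψ.hom φD := by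
      have e1 : i.appLE T ⊤ (top_le_preimage J T hT) ≫ Z.presheaf.map (homOfLE (Z.basicOpen_le F)).op =
          i.appLE T (Z.basicOpen F) (hle.trans (i.preimage_mono hDT)) := Scheme.Hom.appLE_map _ _ _
      have e2 : (Spec R).presheaf.map (homOfLE hDT).op ≫ Ψ =
          i.appLE T (Z.basicOpen F) (hle.trans (i.preimage_mono hDT)) := Scheme.Hom.map_appLE _ _ _
      have e3 := congr($(e1).hom φ)
      have e4 := congr($(e2).hom φ)
      exact e3.trans e4.symm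
    have r2 : ∀ c : Γ(Spec R, ⊤), (Z.presheaf.map (homOfLE (Z.basicOpen_le F)).op).hom (i.appTop c) =
        Ψ.hom (algebraMap Γ(Spec R, ⊤) Γ(Spec R, (Spec R).basicOpen f') c) := by
      intro c
      have e1 : i.appLE ⊤ ⊤ le_top ≫ Z.presheaf.map (homOfLE (Z.basicOpen_le F)).op =
          i.appLE ⊤ (Z.basicOpen F) le_top := Scheme.Hom.appLE_map _ _ _
      have e2 : (Spec R).presheaf.map (homOfLE ((Spec R).basicOpen_le f')).op ≫ Ψ =
          i.appLE ⊤ (Z.basicOpen F) le_top := Scheme.Hom.map_appLE _ _ _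
      have e0 : i.appLE ⊤ ⊤ le_top = i.appTop := by
        simp [Scheme.Hom.appLE, Scheme.Hom.appTop]
      have e3 := congr($(e1).hom c)
      have e4 := congr($(e2).hom c)
      rw [e0] at e3
      exact e3.trans e4.symm
    have hres : (ψφ * F ^ m - A) |_ (Z.basicOpen F) = 0 := by
      show (Z.presheaf.map (homOfLE (Z.basicOpen_le F)).op).hom (ψφ * F ^ m - A) = 0
      rw [map_sub, map_mul, map_pow, r1, r2 f', r2 a', ← map_pow, ← map_mul, ← map_sub]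
      rw [show φD * algebraMap Γ(Spec R, ⊤) Γ(Spec R, (Spec R).basicOpen f') f' ^ m -
          algebraMap Γ(Spec R, ⊤) Γ(Spec R, (Spec R).basicOpen f') a' = 0 from by
        rw [← map_pow, ha', sub_self]]
      exact map_zero _
    obtain ⟨M, hM⟩ := exists_pow_mul_eq_zero_of_res_basicOpen_eq_zero_of_isAffineOpen Z
      (isAffineOpen_top Z) (ψφ * F ^ m - A) F hres
    refine ⟨M, ?_⟩
    let γ := (Scheme.ΓSpecIso (CommRingCat.of (R ⧸ J))).hom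
    have hγ : ∀ c : Γ(Spec R, ⊤), γ.hom (i.appTop c) = Ideal.Quotient.mk J ((Scheme.ΓSpecIso R).hom c) := by
      intro c
      have e := Scheme.ΓSpecIso_naturality (CommRingCat.ofHom (Ideal.Quotient.mk J))
      exact congr($(e).hom c)
    have hF : γ.hom F = Ideal.Quotient.mk J f := by
      rw [hγ f']
      show Ideal.Quotient.mk J ((Scheme.ΓSpecIso R).hom ((Scheme.ΓSpecIso R).inv f)) = _
      rw [← CommRingCat.comp_apply, Iso.inv_hom_id]; rfl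
    have hA : γ.hom A = Ideal.Quotient.mk J a := hγ a'
    have hj : γ.hom ψφ = jet J T hT φ := rfl
    have h7 := congrArg γ.hom hM
    rw [map_mul, map_pow, map_sub, map_mul, map_pow, hF, hA, hj, map_zero] at h7
    exact h7

end loc

section coef

open Groth.Agent.Lib.Helper28.GrTaylorAlg

variable {R : CommRingCat.{u}} (𝒜 : ℕ → AddSubgroup R) [GradedRing 𝒜]
  (T : (Spec R).Opens)
  (hT : PrimeSpectrum.zeroLocus ((HomogeneousIdeal.irrelevant 𝒜).toIdeal : Set R) ⊆ (T : Set (Spec R)))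

/-- the `(k+1)`-st power of the irrelevant ideal -/
abbrev Ik (k : ℕ) : Ideal R := (HomogeneousIdeal.irrelevant 𝒜).toIdeal ^ (k + 1)

include hT in
theorem hTk (k : ℕ) : PrimeSpectrum.zeroLocus (Ik 𝒜 k : Set R) ⊆ (T : Set (Spec R)) := by
  show PrimeSpectrum.zeroLocus (((HomogeneousIdeal.irrelevant 𝒜).toIdeal ^ (k + 1) : Ideal R) : Set R) ⊆ _
  rw [PrimeSpectrum.zeroLocus_pow _ (Nat.succ_ne_zero k)]
  exact hT

/-- a lift of the `k`-jet -/
def lift (k : ℕ) (φ : Γ(Spec R, T)) : R :=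
  (Ideal.Quotient.mk_surjective (jet (Ik 𝒜 k) T (hTk 𝒜 T hT k) φ)).choose

theorem mk_lift (k : ℕ) (φ : Γ(Spec R, T)) :
    Ideal.Quotient.mk (Ik 𝒜 k) (lift 𝒜 T hT k φ) = jet (Ik 𝒜 k) T (hTk 𝒜 T hT k) φ :=
  (Ideal.Quotient.mk_surjective (jet (Ik 𝒜 k) T (hTk 𝒜 T hT k) φ)).choose_spec

/-- the `k`-th Taylor coefficient along the vertex -/
def coef (k : ℕ) (φ : Γ(Spec R, T)) : R := pr 𝒜 k (lift 𝒜 T hT k φ)

theorem coef_mem (k : ℕ) (φ : Γ(Spec R, T)) : coef 𝒜 T hT k φ ∈ 𝒜 k := pr_mem 𝒜 k _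

theorem jet_factor {n k : ℕ} (hnk : n ≤ k) (φ : Γ(Spec R, T)) :
    jet (Ik 𝒜 n) T (hTk 𝒜 T hT n) φ =
      Ideal.Quotient.factor (Ideal.pow_le_pow_right (Nat.succ_le_succ hnk))
        (jet (Ik 𝒜 k) T (hTk 𝒜 T hT k) φ) := by
  have hJ : Ik 𝒜 k ≤ (Ik 𝒜 n).comap (𝟙 R : R ⟶ R).hom := by
    intro x hx
    exact Ideal.pow_le_pow_right (Nat.succ_le_succ hnk) hx
  have hle : T ≤ Spec.map (𝟙 R) ⁻¹ᵁ T := by
    rw [Spec.map_id]; exact le_rfl
  have h1 := jet_map (𝟙 R) (Ik 𝒜 k) (Ik 𝒜 n) hJ T (hTk 𝒜 T hT k) T (hTk 𝒜 T hT n) hle φ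
  have h2 : (Spec.map (𝟙 R)).appLE T T hle φ = φ := by
    have e : (Spec.map (𝟙 R)).appLE T T hle = (𝟙 (Spec R) : Spec R ⟶ Spec R).appLE T T le_rfl :=
      appLE_congr_hom (Spec.map_id R) _ _ _ _
    rw [e]
    simp only [Scheme.Hom.appLE, Scheme.Hom.id_app, Category.id_comp]
    have : (homOfLE (le_refl T : T ≤ T)).op = 𝟙 (op T) := rfl
    show ((Spec R).presheaf.map (homOfLE (le_refl T : T ≤ T)).op).hom φ = φ
    rw [this, (Spec R).presheaf.map_id]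
    rfl
  rw [h2] at h1
  rw [h1]
  obtain ⟨c, hc⟩ := Ideal.Quotient.mk_surjective (jet (Ik 𝒜 k) T (hTk 𝒜 T hT k) φ)
  rw [← hc]
  rfl

theorem pr_eq_coef {n k : ℕ} (hnk : n ≤ k) (φ : Γ(Spec R, T)) (c : R)
    (hc : Ideal.Quotient.mk (Ik 𝒜 k) c = jet (Ik 𝒜 k) T (hTk 𝒜 T hT k) φ) :
    pr 𝒜 n c = coef 𝒜 T hT n φ := by
  have h1 : Ideal.Quotient.mk (Ik 𝒜 n) c = Ideal.Quotient.mk (Ik 𝒜 n) (lift 𝒜 T hT n φ) := by
    rw [mk_lift, jet_factor 𝒜 T hT hnk, ← hc]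
    rfl
  have h2 : c - lift 𝒜 T hT n φ ∈ Ik 𝒜 n := (Ideal.Quotient.eq).1 h1
  have h3 := pr_eq_zero_of_mem_pow 𝒜 n _ h2 n le_rfl
  rw [pr_sub, sub_eq_zero] at h3
  exact h3

include hT in
theorem mem_of_le (P₀ P : Spec R) (hle : P.asIdeal ≤ P₀.asIdeal)
    (hI : (HomogeneousIdeal.irrelevant 𝒜).toIdeal ≤ P₀.asIdeal) : P ∈ T := by
  have hP₀ : P₀ ∈ T := hT (fun a ha => hI ha)
  have hs : P ⤳ P₀ := (PrimeSpectrum.le_iff_specializes P P₀).1 hle
  exact hs.mem_open T.isOpen hP₀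

/-- **the value at a homogeneous generization of a vertex point is detected by the Taylor coefficients** -/
theorem mem_basicOpen_iff (P₀ P : Spec R) (hle : P.asIdeal ≤ P₀.asIdeal)
    (hI : (HomogeneousIdeal.irrelevant 𝒜).toIdeal ≤ P₀.asIdeal) (hPh : P.asIdeal.IsHomogeneous 𝒜)
    (φ : Γ(Spec R, T)) :
    P ∈ (Spec R).basicOpen φ ↔ ∃ k, coef 𝒜 T hT k φ ∉ P.asIdeal := by
  classical
  have hP₀ : P₀ ∈ T := hT (fun a ha => hI ha)
  obtain ⟨f, a, m, hfP₀, hQ, hjet⟩ := exists_frac T φ P₀ hP₀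
  have hfP : f ∉ P.asIdeal := fun h => hfP₀ (hle h)
  have hf0 : pr 𝒜 0 f ∉ P.asIdeal := by
    intro h
    apply hfP₀
    have h1 : f - pr 𝒜 0 f ∈ P₀.asIdeal := hI (sub_pr_zero_mem_irrelevant 𝒜 f)
    have h2 := P₀.asIdeal.add_mem h1 (hle h)
    rwa [sub_add_cancel] at h2
  have hfM : ∀ M : ℕ, pr 𝒜 0 (f ^ M) ∉ P.asIdeal := by
    intro M
    rw [pr_zero_pow]
    exact fun h => hf0 (P.isPrime.mem_of_pow_mem M h)
  rw [hQ P hfP]
  have key : ∀ k, ∃ M : ℕ, f ^ M * (lift 𝒜 T hT k φ * f ^ m - a) ∈ trunc 𝒜 P.asIdeal k := by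
    intro k
    obtain ⟨M, hM⟩ := hjet (Ik 𝒜 k) (hTk 𝒜 T hT k)
    refine ⟨M, pow_le_trunc 𝒜 P.asIdeal k ?_⟩
    rw [← mk_lift 𝒜 T hT k φ] at hM
    rw [← Ideal.Quotient.eq_zero_iff_mem, map_mul, map_pow, map_sub, map_mul, map_pow]
    exact hM
  constructor
  · intro ha
    by_contra hall
    push Not at hall
    have hex : ∃ n0, pr 𝒜 n0 a ∉ P.asIdeal := by
      by_contra hno
      push Not at hno
      apply ha
      rw [eq_sum_pr 𝒜 a]
      exact P.asIdeal.sum_mem fun i _ => hno i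
    obtain ⟨n0, hn0⟩ := hex
    obtain ⟨M, hM⟩ := key n0
    have hc : lift 𝒜 T hT n0 φ ∈ trunc 𝒜 P.asIdeal n0 := by
      intro j hj
      rw [pr_eq_coef 𝒜 T hT hj φ _ (mk_lift 𝒜 T hT n0 φ)]
      exact hall j
    have h1 : f ^ M * (lift 𝒜 T hT n0 φ * f ^ m) ∈ trunc 𝒜 P.asIdeal n0 :=
      Ideal.mul_mem_left _ _ (Ideal.mul_mem_right _ _ hc)
    have h2 : f ^ M * a ∈ trunc 𝒜 P.asIdeal n0 := by
      have := Ideal.sub_mem _ h1 hM
      rwa [← mul_sub, sub_sub_cancel] at this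
    have h3 := mem_trunc_of_mul_mem 𝒜 P.asIdeal n0 (f ^ M) a (hfM M) h2
    exact hn0 (h3 n0 le_rfl)
  · rintro ⟨k, hk⟩ ha
    obtain ⟨M, hM⟩ := key k
    have h1 : f ^ M * a ∈ trunc 𝒜 P.asIdeal k := Ideal.mul_mem_left _ _ (le_trunc 𝒜 P.asIdeal hPh k ha)
    have h2 : f ^ (M + m) * lift 𝒜 T hT k φ ∈ trunc 𝒜 P.asIdeal k := by
      have := Ideal.add_mem _ hM h1
      rw [← mul_add, sub_add_cancel] at this
      rw [pow_add, mul_assoc, mul_comm (f ^ m)]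
      exact this
    have h3 := mem_trunc_of_mul_mem 𝒜 P.asIdeal k (f ^ (M + m)) _ (hfM (M + m)) h2
    exact hk (h3 k le_rfl)

/-- a vertex point at which the constant Taylor coefficient does not vanish lies in the nonvanishing locus -/
theorem mem_basicOpen_of_coef_zero (P₀ : Spec R)
    (hI : (HomogeneousIdeal.irrelevant 𝒜).toIdeal ≤ P₀.asIdeal) (φ : Γ(Spec R, T))
    (h : coef 𝒜 T hT 0 φ ∉ P₀.asIdeal) : P₀ ∈ (Spec R).basicOpen φ := by
  have hP₀ : P₀ ∈ T := hT (fun a ha => hI ha)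
  obtain ⟨f, a, m, hfP₀, hQ, hjet⟩ := exists_frac T φ P₀ hP₀
  rw [hQ P₀ hfP₀]
  intro ha
  obtain ⟨M, hM⟩ := hjet (Ik 𝒜 0) (hTk 𝒜 T hT 0)
  rw [← mk_lift 𝒜 T hT 0 φ, ← map_pow, ← map_pow, ← map_mul, ← map_sub, ← map_mul,
    Ideal.Quotient.eq_zero_iff_mem] at hM
  have hM' : f ^ M * (lift 𝒜 T hT 0 φ * f ^ m - a) ∈ P₀.asIdeal := by
    have h0 : Ik 𝒜 0 ≤ P₀.asIdeal := by
      show (HomogeneousIdeal.irrelevant 𝒜).toIdeal ^ (0 + 1) ≤ _
      rw [zero_add, pow_one]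
      exact hI
    exact h0 hM
  have h1 : lift 𝒜 T hT 0 φ * f ^ m - a ∈ P₀.asIdeal :=
    (P₀.isPrime.mem_or_mem hM').resolve_left (fun h' => hfP₀ (P₀.isPrime.mem_of_pow_mem M h'))
  have h2 : lift 𝒜 T hT 0 φ * f ^ m ∈ P₀.asIdeal := by
    have := P₀.asIdeal.add_mem h1 ha
    rwa [sub_add_cancel] at this
  have h3 : lift 𝒜 T hT 0 φ ∈ P₀.asIdeal :=
    (P₀.isPrime.mem_or_mem h2).resolve_right (fun h' => hfP₀ (P₀.isPrime.mem_of_pow_mem m h'))
  apply h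
  have h4 : lift 𝒜 T hT 0 φ - pr 𝒜 0 (lift 𝒜 T hT 0 φ) ∈ P₀.asIdeal :=
    hI (sub_pr_zero_mem_irrelevant 𝒜 _)
  have h5 := P₀.asIdeal.sub_mem h3 h4
  rwa [sub_sub_cancel] at h5

end coef

section coefmap

open Groth.Agent.Lib.Helper28.GrTaylorAlg

variable {R R' : CommRingCat.{u}} (𝒜 : ℕ → AddSubgroup R) [GradedRing 𝒜]
  (𝒜' : ℕ → AddSubgroup R') [GradedRing 𝒜'] (ρ : R ⟶ R')
  (hρ : ∀ (n : ℕ) (a : R), a ∈ 𝒜 n → ρ.hom a ∈ 𝒜' n)

include hρ in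
theorem pr_map (n : ℕ) (a : R) : pr 𝒜' n (ρ.hom a) = ρ.hom (pr 𝒜 n a) := by
  let ρg : 𝒜 →+*ᵍ 𝒜' := { ρ.hom with map_mem := fun {i x} hx => hρ i x hx }
  exact (ρg.map_directSumDecompose (x := a) (i := n)).symm

include hρ in
theorem irrelevant_le_comap :
    (HomogeneousIdeal.irrelevant 𝒜).toIdeal ≤ ((HomogeneousIdeal.irrelevant 𝒜').toIdeal).comap ρ.hom := by
  intro a ha
  rw [Ideal.mem_comap, mem_irrelevant_iff, pr_map 𝒜 𝒜' ρ hρ, (mem_irrelevant_iff 𝒜 a).1 ha, map_zero]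

include hρ in
theorem Ik_le_comap (k : ℕ) : Ik 𝒜 k ≤ (Ik 𝒜' k).comap ρ.hom := by
  show (HomogeneousIdeal.irrelevant 𝒜).toIdeal ^ (k + 1) ≤
    ((HomogeneousIdeal.irrelevant 𝒜').toIdeal ^ (k + 1)).comap ρ.hom
  rw [← Ideal.map_le_iff_le_comap, Ideal.map_pow]
  exact Ideal.pow_right_mono (Ideal.map_le_iff_le_comap.2 (irrelevant_le_comap 𝒜 𝒜' ρ hρ)) _

variable (T : (Spec R).Opens)
  (hT : PrimeSpectrum.zeroLocus ((HomogeneousIdeal.irrelevant 𝒜).toIdeal : Set R) ⊆ (T : Set (Spec R)))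
  (T' : (Spec R').Opens)
  (hT' : PrimeSpectrum.zeroLocus ((HomogeneousIdeal.irrelevant 𝒜').toIdeal : Set R') ⊆ (T' : Set (Spec R')))
  (hle : T' ≤ Spec.map ρ ⁻¹ᵁ T)

include hρ in
/-- **naturality of the Taylor coefficients** -/
theorem coef_map (k : ℕ) (φ : Γ(Spec R, T)) :
    coef 𝒜' T' hT' k ((Spec.map ρ).appLE T T' hle φ) = ρ.hom (coef 𝒜 T hT k φ) := by
  have h1 := jet_map ρ (Ik 𝒜 k) (Ik 𝒜' k) (Ik_le_comap 𝒜 𝒜' ρ hρ k) T (hTk 𝒜 T hT k) T' (hTk 𝒜' T' hT' k) hle φ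
  rw [← mk_lift 𝒜 T hT k φ] at h1
  have h2 : Ideal.Quotient.mk (Ik 𝒜' k) (ρ.hom (lift 𝒜 T hT k φ)) =
      jet (Ik 𝒜' k) T' (hTk 𝒜' T' hT' k) ((Spec.map ρ).appLE T T' hle φ) := by
    rw [h1]
    rfl
  rw [← pr_eq_coef 𝒜' T' hT' le_rfl _ _ h2, pr_map 𝒜 𝒜' ρ hρ]
  rfl

end coefmap

end Groth.Agent.Lib.Helper28.GrTaylorSpec
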