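import Groth.Agent.Lib.Helper28.GrTildeQC
import Groth.Agent.Lib.Helper28.GrIrrGen
import Groth.Agent.Lib.Helper28.RelTildeFin

/-!
# `M~` on `Proj` is of finite type under (TF), when the irrelevant ideal is finitely generated
-/

set_option autoImplicit false
universe u
open CategoryTheory AlgebraicGeometry Opposite TopologicalSpace DirectSum
noncomputable section

namespace Groth.Agent.Lib.Helper28.GrTildeFin

open Groth.Agent.Lib.Helper28 Groth.Agent.Lib.Helper28.GrTildeQC Groth.Agent.Lib.Helper28.GrSect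

variable {R A : Type u} [CommRing R] [CommRing A] [Algebra R A] (𝒜 : ℕ → Submodule R A) [GradedAlgebra 𝒜]
variable {M : Type u} [AddCommGroup M] [Module R M] [Module A M] [IsScalarTower R A M] (ℳ : ℕ → Submodule R M)
  [DirectSum.Decomposition ℳ] [SetLike.GradedSMul 𝒜 ℳ]

theorem val_add {n : ℤ} {V : (Proj 𝒜).Opens} (s t : Γ(GrTilde.tilde 𝒜 ℳ n, V)) (x : V) :
    val 𝒜 ℳ (s + t) x = val 𝒜 ℳ s x + val 𝒜 ℳ t x := rfl

variable {f : A} {d : ℕ} (hf : f ∈ 𝒜 d)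

/-- the section `m_{kd} / f^k` of `M~` over `D₊(f)`, additive in `m` -/
def sec (k : ℕ) : M →+ Γ(GrTilde.tilde 𝒜 ℳ 0, Proj.basicOpen 𝒜 f) where
  toFun m := mkSect 𝒜 ℳ hf 0 k (k * d) (decompose ℳ m (k * d) : M) (SetLike.coe_mem _) (by simp)
  map_zero' := by
    refine ext_val 𝒜 ℳ _ _ fun x => ?_
    rw [val_mkSect, GrTildeQC.val_zero, decompose_zero]
    exact LocalizedModule.zero_mk _
  map_add' m m' := by
    refine ext_val 𝒜 ℳ _ _ fun x => ?_
    rw [val_add, val_mkSect, val_mkSect, val_mkSect, decompose_add]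
    exact GrModFin.mk_add_same _ _ _

theorem val_sec (k : ℕ) (m : M) (x : Proj.basicOpen 𝒜 f) :
    val 𝒜 ℳ (sec 𝒜 ℳ hf k m) x =
      LocalizedModule.mk (decompose ℳ m (k * d) : M) ⟨f ^ k, GrSectMod.pow_nin 𝒜 k x⟩ := rfl

theorem sec_of_mem_ne {e k : ℕ} {w : M} (hw : w ∈ ℳ e) (hne : k * d ≠ e) : sec 𝒜 ℳ hf k w = 0 := by
  refine ext_val 𝒜 ℳ _ _ fun x => ?_
  rw [val_sec, GrTildeQC.val_zero, decompose_of_mem_ne ℳ hw (Ne.symm hne)]
  exact LocalizedModule.zero_mk _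

theorem sec_smul_of_mem {j : ℕ} {a : A} (ha : a ∈ 𝒜 (j • d)) (k : ℕ) (m : M) (hjk : j ≤ k) :
    sec 𝒜 ℳ hf k (a • m) =
      Proj.awayToSection 𝒜 f (HomogeneousLocalization.Away.mk 𝒜 hf j a ha) • sec 𝒜 ℳ hf (k - j) m := by
  refine ext_val 𝒜 ℳ _ _ fun x => ?_
  rw [GrTildeQC.val_smul, val_sec, val_sec, val_valO_awayToSection, LocalizedModule.mk_smul_mk]
  have h1 : k * d = j • d + (k - j) * d := by
    rw [smul_eq_mul, ← add_mul]; congr 1; omega
  have h2 : (decompose ℳ (a • m) (k * d) : M) = a • (decompose ℳ m ((k - j) * d) : M) := by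
    rw [h1]
    exact GrIrrGen.decompose_smul_of_mem_add 𝒜 ℳ ha m _
  rw [h2]
  congr 1
  apply Subtype.ext
  change f ^ k = f ^ j * f ^ (k - j)
  rw [← pow_add]
  congr 1
  omega

theorem sec_smul_of_mem_lt (hd : 0 < d) {j : ℕ} {a : A} (ha : a ∈ 𝒜 (j • d)) (k : ℕ) (m : M) (hkj : k < j) :
    sec 𝒜 ℳ hf k (a • m) = 0 := by
  refine ext_val 𝒜 ℳ _ _ fun x => ?_
  rw [val_sec, GrTildeQC.val_zero,
    GrIrrGen.decompose_smul_of_mem_lt 𝒜 ℳ ha m (by rw [smul_eq_mul]; exact Nat.mul_lt_mul_of_pos_right hkj hd)]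
  exact LocalizedModule.zero_mk _

theorem eq_sec (t : Γ(GrTilde.tilde 𝒜 ℳ 0, Proj.basicOpen 𝒜 f)) (k : ℕ) (m : M) (hm : m ∈ ℳ (k * d))
    (hval : ∀ x : Proj.basicOpen 𝒜 f,
      val 𝒜 ℳ t x = LocalizedModule.mk m ⟨f ^ k, GrSectMod.pow_nin 𝒜 k x⟩) :
    t = sec 𝒜 ℳ hf k m := by
  refine ext_val 𝒜 ℳ _ _ fun x => ?_
  rw [hval x, val_sec, decompose_of_mem_same ℳ hm]

include hf in
/-- **(TF) gives finite generation of the sections over `D₊(f)`**, `f` homogeneous of positive degree, when the ring is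
generated by `𝒜 0` and finitely many homogeneous elements of positive degree. -/
theorem finite_basicOpen_of_fg (hd : 0 < d)
    (G : Finset A) (hGhom : ∀ g ∈ G, ∃ j, 0 < j ∧ g ∈ 𝒜 j)
    (hG : Subring.closure (((𝒜 0 : Submodule R A) : Set A) ∪ (G : Set A)) = ⊤)
    (n : ℕ) (hfg : (Submodule.span A (⋃ k ∈ Set.Ici n, ((ℳ k : Submodule R M) : Set M))).FG) :
    Module.Finite Γ(Proj 𝒜, Proj.basicOpen 𝒜 f) Γ(GrTilde.tilde 𝒜 ℳ 0, Proj.basicOpen 𝒜 f) := by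
  classical
  obtain ⟨T, hTsub, hTspan⟩ := (Submodule.fg_span_iff_fg_span_finset_subset _).1 hfg
  obtain ⟨P, hPhom, hPspan⟩ := GrIrrGen.exists_finite_span_powSubring 𝒜 G hG hd
  have hk : ∀ μ : M, ∃ k : ℕ, μ ∈ T → μ ∈ ℳ k := by
    intro μ
    by_cases hμ : μ ∈ T
    · obtain ⟨k, -, hk⟩ := Set.mem_iUnion₂.1 (hTsub (Finset.mem_coe.2 hμ))
      exact ⟨k, fun _ => hk⟩
    · exact ⟨0, fun h => absurd h hμ⟩
  choose kk hkk using hk
  have hj : ∀ π : A, ∃ j : ℕ, π ∈ P → π ∈ 𝒜 j := by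
    intro π
    by_cases hπ : π ∈ P
    · obtain ⟨j, hj⟩ := hPhom π hπ
      exact ⟨j, fun _ => hj⟩
    · exact ⟨0, fun h => absurd h hπ⟩
  choose jj hjj using hj
  let gen : A × M → Γ(GrTilde.tilde 𝒜 ℳ 0, Proj.basicOpen 𝒜 f) := fun q =>
    sec 𝒜 ℳ hf ((jj q.1 + kk q.2) / d) (q.1 • q.2)
  refine ⟨⟨(P ×ˢ T).image gen, ?_⟩⟩
  set N : Submodule Γ(Proj 𝒜, Proj.basicOpen 𝒜 f) Γ(GrTilde.tilde 𝒜 ℳ 0, Proj.basicOpen 𝒜 f) :=
    Submodule.span Γ(Proj 𝒜, Proj.basicOpen 𝒜 f)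
      (((P ×ˢ T).image gen : Finset Γ(GrTilde.tilde 𝒜 ℳ 0, Proj.basicOpen 𝒜 f)) :
        Set Γ(GrTilde.tilde 𝒜 ℳ 0, Proj.basicOpen 𝒜 f)) with hN
  rw [eq_top_iff]
  intro t _
  have hstar : ∀ π ∈ P, ∀ μ ∈ T, ∀ k, sec 𝒜 ℳ hf k (π • μ) ∈ N := by
    intro π hπ μ hμ k
    have hw : π • μ ∈ ℳ (jj π + kk μ) := SetLike.GradedSMul.smul_mem (hjj π hπ) (hkk μ hμ)
    by_cases hk : k * d = jj π + kk μ
    · have hk' : k = (jj π + kk μ) / d := by rw [← hk, Nat.mul_div_cancel _ hd]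
      rw [hk']
      exact Submodule.subset_span (Finset.mem_coe.2
        (Finset.mem_image.2 ⟨(π, μ), Finset.mem_product.2 ⟨hπ, hμ⟩, rfl⟩))
    · rw [sec_of_mem_ne 𝒜 ℳ hf hw hk]; exact zero_mem _
  have hC : ∀ c ∈ GrIrrGen.powSubring 𝒜 G d, ∀ w : M, (∀ k, sec 𝒜 ℳ hf k w ∈ N) →
      ∀ k, sec 𝒜 ℳ hf k (c • w) ∈ N := by
    intro c hc
    induction hc using Subring.closure_induction with
    | mem c hc =>
      rcases hc with hc | ⟨g, hg, rfl⟩
      · intro w hw k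
        have hc' : c ∈ 𝒜 (0 • d) := by rw [zero_smul]; exact hc
        rw [sec_smul_of_mem 𝒜 ℳ hf hc' k w (Nat.zero_le _)]
        exact Submodule.smul_mem _ _ (hw _)
      · intro w hw k
        obtain ⟨j, hj0, hgj⟩ := hGhom g hg
        have hc' : g ^ d ∈ 𝒜 (j • d) := by
          have h1 : g ^ d ∈ 𝒜 (d • j) := SetLike.pow_mem_graded d hgj
          rw [smul_eq_mul, mul_comm] at h1
          exact h1
        by_cases hjk : j ≤ k
        · rw [sec_smul_of_mem 𝒜 ℳ hf hc' k w hjk]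
          exact Submodule.smul_mem _ _ (hw _)
        · rw [sec_smul_of_mem_lt 𝒜 ℳ hf hd hc' k w (by omega)]
          exact zero_mem _
    | zero => intro w hw k; rw [zero_smul, map_zero]; exact zero_mem _
    | one => intro w hw k; rw [one_smul]; exact hw k
    | add x y _ _ hx hy => intro w hw k; rw [add_smul, map_add]; exact add_mem (hx w hw k) (hy w hw k)
    | neg x _ hx => intro w hw k; rw [neg_smul, map_neg]; exact neg_mem (hx w hw k)
    | mul x y _ _ hx hy => intro w hw k; rw [mul_smul]; exact hx _ (hy w hw) k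
  have hA : ∀ μ ∈ T, ∀ a : A, ∀ k, sec 𝒜 ℳ hf k (a • μ) ∈ N := by
    intro μ hμ a
    have ha : a ∈ Submodule.span (GrIrrGen.powSubring 𝒜 G d) (P : Set A) := by rw [hPspan]; trivial
    induction ha using Submodule.span_induction with
    | mem π hπ => exact hstar π hπ μ hμ
    | zero => intro k; rw [zero_smul, map_zero]; exact zero_mem _
    | add x y _ _ hx hy => intro k; rw [add_smul, map_add]; exact add_mem (hx k) (hy k)
    | smul c x _ hx =>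
      intro k
      have : (c • x) • μ = (c : A) • (x • μ) := by
        rw [← smul_assoc]; rfl
      rw [this]
      exact hC c.1 c.2 _ hx k
  obtain ⟨k, i, m, hm, hi, hval⟩ := exists_frac 𝒜 ℳ hf hd 0 t
  have hik : i = k * d := by
    have : (i : ℤ) = ((k * d : ℕ) : ℤ) := by push_cast; rw [hi, add_zero]
    exact_mod_cast this
  subst hik
  have hfm : f ^ n • m ∈ ℳ ((n + k) * d) := by
    have h1 : f ^ n • m ∈ ℳ (n • d + k * d) := SetLike.GradedSMul.smul_mem (SetLike.pow_mem_graded n hf) hm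
    rw [smul_eq_mul, ← add_mul] at h1
    exact h1
  have ht : t = sec 𝒜 ℳ hf (n + k) (f ^ n • m) := by
    refine eq_sec 𝒜 ℳ hf t (n + k) _ hfm fun x => ?_
    rw [hval x]
    have h3 : (⟨f ^ (n + k), GrSectMod.pow_nin 𝒜 (n + k) x⟩ : x.1.asHomogeneousIdeal.toIdeal.primeCompl) =
        ⟨f ^ n, GrSectMod.pow_nin 𝒜 n x⟩ * ⟨f ^ k, GrSectMod.pow_nin 𝒜 k x⟩ := Subtype.ext (pow_add f n k)
    rw [h3]
    exact (LocalizedModule.mk_cancel_common_left (⟨f ^ n, GrSectMod.pow_nin 𝒜 n x⟩ :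
      x.1.asHomogeneousIdeal.toIdeal.primeCompl) ⟨f ^ k, GrSectMod.pow_nin 𝒜 k x⟩ m).symm
  have hmem : f ^ n • m ∈ Submodule.span A (T : Set M) := by
    rw [← hTspan]
    refine Submodule.subset_span (Set.mem_iUnion₂.2 ⟨(n + k) * d, ?_, hfm⟩)
    simp only [Set.mem_Ici]
    calc n ≤ n + k := Nat.le_add_right _ _
      _ = (n + k) * 1 := (mul_one _).symm
      _ ≤ (n + k) * d := Nat.mul_le_mul_left _ hd
  obtain ⟨a, -, ha⟩ := Submodule.mem_span_finset.1 hmem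
  rw [ht, ← ha, map_sum]
  exact Submodule.sum_mem _ fun μ hμ => hA μ hμ (a μ) _

end Groth.Agent.Lib.Helper28.GrTildeFin
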