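import Groth.Agent.Lib.Helper28.GrTwistGenVal

/-!
# Generators of `GrTwist.twist 𝒜 κ` over `D₊(f)` given by an invertible fraction `b / f^k` (helper28)

If `b ∈ 𝒜_{κ + k d}`, `b' ∈ 𝒜_{k' d - κ}` and `b b' = f^(k + k')`, then the section `b / f^k` of `O(κ)` over `D₊(f)`
is a generator.
-/

set_option autoImplicit false
universe u
open CategoryTheory CategoryTheory.Limits AlgebraicGeometry Opposite TopologicalSpace
noncomputable section

namespace Groth.Agent.Lib.Helper28.GrTwistFrac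

open Groth.Agent.Lib.Helper28 Groth.Agent.Lib.Helper28.QCohLoc Groth.Agent.Lib.Helper28.GenLocus

variable {A σ : Type u} [CommRing A] [SetLike σ A] [AddSubgroupClass σ A] (𝒜 : ℕ → σ) [GradedRing 𝒜]

variable {f : A} {d : ℕ} (hf : f ∈ 𝒜 d) (κ : ℤ) (k i : ℕ) (b : A) (hb : b ∈ 𝒜 i) (hi : (i : ℤ) = k * d + κ)

/-- the section `b / f^k` restricted to `D₊(f h)` -/
def secW (h : A) : Γ(GrTwist.twist 𝒜 κ, Proj.basicOpen 𝒜 (f * h)) :=
  res (GrTwist.twist 𝒜 κ) (GrTwistGenD.basicOpen_mul_le 𝒜 f h) (GrTwistQC.mkSect 𝒜 hf κ k i b hb hi)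

theorem val_secW (h : A) (x : Proj.basicOpen 𝒜 (f * h)) :
    GrTwistQC.val 𝒜 (secW 𝒜 hf κ k i b hb hi h) x =
      Localization.mk b ⟨f ^ k,
        GrSectMod.pow_nin 𝒜 k (⟨x.1, GrTwistGenD.basicOpen_mul_le 𝒜 f h x.2⟩ : Proj.basicOpen 𝒜 f)⟩ := rfl

variable (k' i' : ℕ) (b' : A) (hb' : b' ∈ 𝒜 i') (hi' : (i' : ℤ) = k' * d - κ) (hbb : b * b' = f ^ (k + k'))

include hbb in
theorem isUnit_val_secW (h : A) (x : Proj.basicOpen 𝒜 (f * h)) :
    IsUnit (GrTwistQC.val 𝒜 (secW 𝒜 hf κ k i b hb hi h) x) := by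
  rw [val_secW]
  have hx : (⟨x.1, GrTwistGenD.basicOpen_mul_le 𝒜 f h x.2⟩ : Proj.basicOpen 𝒜 f).1 = x.1 := rfl
  refine IsUnit.of_mul_eq_one (Localization.mk b' ⟨f ^ k',
    GrSectMod.pow_nin 𝒜 k' (⟨x.1, GrTwistGenD.basicOpen_mul_le 𝒜 f h x.2⟩ : Proj.basicOpen 𝒜 f)⟩) ?_
  rw [Localization.mk_mul, hbb, ← Localization.mk_one, Localization.mk_eq_mk_iff, Localization.r_iff_exists]
  refine ⟨1, ?_⟩
  simp only [OneMemClass.coe_one, one_mul, Submonoid.coe_mul, mul_one]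
  rw [pow_add]

include hb' hi' hbb in
/-- every section of `O(κ)` over `D₊(f h)` is a multiple of `b / f^k` -/
theorem exists_smul_secW_eq (hd : 0 < d) {h : A} {e : ℕ} (hh : h ∈ 𝒜 e)
    (t : Γ(GrTwist.twist 𝒜 κ, Proj.basicOpen 𝒜 (f * h))) :
    ∃ c : Γ(Proj 𝒜, Proj.basicOpen 𝒜 (f * h)),
      t = (c • secW 𝒜 hf κ k i b hb hi h : Γ(GrTwist.twist 𝒜 κ, Proj.basicOpen 𝒜 (f * h))) := by
  have hg : f * h ∈ 𝒜 (d + e) := SetLike.mul_mem_graded hf hh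
  obtain ⟨m, j, a, ha, hj, hval⟩ := GrTwistQC.exists_frac 𝒜 hg (by omega) κ t
  have hdeg : a * b' * h ^ k' ∈ 𝒜 ((m + k') • (d + e)) := by
    have h2 : h ^ k' ∈ 𝒜 (k' * e) := by simpa using SetLike.pow_mem_graded k' hh
    have h1 := SetLike.mul_mem_graded (SetLike.mul_mem_graded ha hb') h2
    have e2 : j + i' + k' * e = (m + k') • (d + e) := by
      rw [smul_eq_mul]
      zify
      push_cast at hj
      rw [hj, hi']
      ring
    rwa [e2] at h1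
  refine ⟨Proj.awayToSection 𝒜 (f * h) (HomogeneousLocalization.Away.mk 𝒜 hg (m + k')
    (a * b' * h ^ k') hdeg), ?_⟩
  apply GrTwistQC.ext_val
  intro x
  rw [hval x, GrTwistQC.val_smul, GrModQC.val_valO_awayToSection 𝒜 hg _ _ hdeg x, val_secW,
    Localization.mk_mul, Localization.mk_eq_mk_iff, Localization.r_iff_exists]
  refine ⟨1, ?_⟩
  simp only [OneMemClass.coe_one, one_mul, Submonoid.coe_mul]
  have e1 : a * b' * h ^ k' * b = a * h ^ k' * (b * b') := by ring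
  rw [e1, hbb]
  ring

include hb' hi' hbb in
theorem smul_secW_bijective (hd : 0 < d) {h : A} {e : ℕ} (hh : h ∈ 𝒜 e) :
    Function.Bijective (fun c : Γ(Proj 𝒜, Proj.basicOpen 𝒜 (f * h)) =>
      (c • secW 𝒜 hf κ k i b hb hi h : Γ(GrTwist.twist 𝒜 κ, Proj.basicOpen 𝒜 (f * h)))) := by
  constructor
  · intro c c' hcc
    apply GrTwistGenD.valO_ext
    intro x
    have h1 : GrTwistQC.val 𝒜 (c • secW 𝒜 hf κ k i b hb hi h :
          Γ(GrTwist.twist 𝒜 κ, Proj.basicOpen 𝒜 (f * h))) x =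
        GrTwistQC.val 𝒜 (c' • secW 𝒜 hf κ k i b hb hi h :
          Γ(GrTwist.twist 𝒜 κ, Proj.basicOpen 𝒜 (f * h))) x :=
      congrArg (fun t => GrTwistQC.val 𝒜 t x) hcc
    rw [GrTwistQC.val_smul, GrTwistQC.val_smul] at h1
    exact (isUnit_val_secW 𝒜 hf κ k i b hb hi k' b' hbb h x).mul_left_injective h1
  · intro t
    obtain ⟨c, hc⟩ := exists_smul_secW_eq 𝒜 hf κ k i b hb hi k' i' b' hb' hi' hbb hd hh t
    exact ⟨c, hc.symm⟩

include hf hb hi hb' hi' hbb in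
/-- **the fraction `b / f^k` with `b b' = f^(k+k')` generates `O(κ)` over `D₊(f)`** -/
theorem exists_generator_frac (hd : 0 < d) :
    ∃ γ : Γ(GrTwist.twist 𝒜 κ, Proj.basicOpen 𝒜 f),
      (∀ x : Proj.basicOpen 𝒜 f, GrTwistQC.val 𝒜 γ x =
        Localization.mk b ⟨f ^ k, GrSectMod.pow_nin 𝒜 k x⟩) ∧
      IsGen (GrTwist.twist 𝒜 κ) (Proj.basicOpen 𝒜 f) γ := by
  refine ⟨GrTwistQC.mkSect 𝒜 hf κ k i b hb hi, fun x => GrTwistQC.val_mkSect 𝒜 hf κ k i b hb hi x, ?_⟩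
  refine GrTwistGenVal.isGen_of_bijective_on_basis _ _ _
    (fun W => ∃ (h : A) (e : ℕ), h ∈ 𝒜 e ∧ W = Proj.basicOpen 𝒜 (f * h)) ?_ ?_
  · intro V x hxV hVU
    obtain ⟨e, h, he, hh, hhx, hhV⟩ := GrSectComap.exists_pos_basicOpen 𝒜 V x hxV
    refine ⟨Proj.basicOpen 𝒜 (f * h), ⟨h, e, hh, rfl⟩, ?_, ?_⟩
    · rw [Proj.basicOpen_mul]
      exact ⟨hVU hxV, (Proj.mem_basicOpen 𝒜 h x).2 hhx⟩
    · intro y hy
      rw [Proj.basicOpen_mul] at hy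
      exact hhV y ((Proj.mem_basicOpen 𝒜 h y).1 hy.2)
  · rintro W hW ⟨h, e, hh, rfl⟩
    exact smul_secW_bijective 𝒜 hf κ k i b hb hi k' i' b' hb' hi' hbb hd hh

end Groth.Agent.Lib.Helper28.GrTwistFrac
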