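import Groth.Agent.Lib.Helper28.QCohPush
import Groth.Agent.Lib.Helper28.QCAlgOfQCoh
import Groth.Prelude.Def_RelProj4

/-!
# The image of a `q`-morphism of quasi-coherent algebras (part 1: the sheaf of rings)

For `v : A → q_* B` (a `RelSpec.QHom q A B`), the subsheaf of rings of `q_* B` of the sections which are locally
(on the base) in the image of `v`.
-/

set_option autoImplicit false
universe u
open CategoryTheory CategoryTheory.Limits AlgebraicGeometry Opposite TopologicalSpace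
noncomputable section

namespace Groth.Agent.Lib.Helper28.ImgAlg

open Groth.Agent.Lib.Helper28

section basic

variable {Y X : Scheme.{u}} {q : X ⟶ Y} {A : RelSpec.QCAlg Y} {B : RelSpec.QCAlg X} (v : RelSpec.QHom q A B)

/-- restriction of sections of a quasi-coherent algebra -/
abbrev rQ {Z : Scheme.{u}} (C : RelSpec.QCAlg Z) {V W : Z.Opens} (h : W ≤ V) :
    C.presheaf.obj (op V) →+* C.presheaf.obj (op W) :=
  (C.presheaf.map (homOfLE h).op).hom

theorem rQ_rQ {Z : Scheme.{u}} (C : RelSpec.QCAlg Z) {V V' V'' : Z.Opens} (h : V' ≤ V) (h' : V'' ≤ V')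
    (c : C.presheaf.obj (op V)) : rQ C h' (rQ C h c) = rQ C (h'.trans h) c := by
  have e : C.presheaf.map (homOfLE (h'.trans h)).op =
      C.presheaf.map (homOfLE h).op ≫ C.presheaf.map (homOfLE h').op := by
    rw [← C.presheaf.map_comp]
    rfl
  exact (congrArg (fun k => k.hom c) e).symm

theorem rQ_self {Z : Scheme.{u}} (C : RelSpec.QCAlg Z) {V : Z.Opens} (c : C.presheaf.obj (op V)) :
    rQ C (le_refl V) c = c := by
  have e : C.presheaf.map (homOfLE (le_refl V)).op = 𝟙 _ := C.presheaf.map_id _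
  exact congrArg (fun k => k.hom c) e

theorem v_res {U V : Y.Opens} (i : V ≤ U) (a : A.presheaf.obj (op U)) :
    (v.app V).hom (rQ A i a) = rQ B (q.preimage_mono i) ((v.app U).hom a) :=
  (congrArg (fun k => k.hom a) (v.naturality i)).symm

/-- `b` is locally on `W` in the image of `v` -/
def LocIm (W : Y.Opens) (b : B.presheaf.obj (op (q ⁻¹ᵁ W))) : Prop :=
  ∀ y ∈ W, ∃ (W' : Y.Opens) (h : W' ≤ W), y ∈ W' ∧ ∃ a : A.presheaf.obj (op W'),
    (v.app W').hom a = rQ B (q.preimage_mono h) b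

theorem locIm_app (W : Y.Opens) (a : A.presheaf.obj (op W)) : LocIm v W ((v.app W).hom a) :=
  fun y hy => ⟨W, le_rfl, hy, a, (rQ_self B _).symm⟩

theorem locIm_res {W₁ W₂ : Y.Opens} (h : W₂ ≤ W₁) {b : B.presheaf.obj (op (q ⁻¹ᵁ W₁))} (hb : LocIm v W₁ b) :
    LocIm v W₂ (rQ B (q.preimage_mono h) b) := by
  intro y hy
  obtain ⟨W', hW', hyW', a, ha⟩ := hb y (h hy)
  refine ⟨W' ⊓ W₂, inf_le_right, ⟨hyW', hy⟩, rQ A inf_le_left a, ?_⟩
  rw [v_res, ha, rQ_rQ, rQ_rQ]

theorem locIm_of_cover {W : Y.Opens} {b : B.presheaf.obj (op (q ⁻¹ᵁ W))}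
    (h : ∀ y ∈ W, ∃ (W' : Y.Opens) (h : W' ≤ W), y ∈ W' ∧ LocIm v W' (rQ B (q.preimage_mono h) b)) :
    LocIm v W b := by
  intro y hy
  obtain ⟨W', hW', hyW', hb⟩ := h y hy
  obtain ⟨W'', hW'', hyW'', a, ha⟩ := hb y hyW'
  refine ⟨W'', hW''.trans hW', hyW'', a, ?_⟩
  rw [ha, rQ_rQ]

/-- two sections locally in the image are, near a point, simultaneously in the image -/
theorem locIm_pair {W : Y.Opens} {b b' : B.presheaf.obj (op (q ⁻¹ᵁ W))} (hb : LocIm v W b) (hb' : LocIm v W b')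
    (y : Y) (hy : y ∈ W) :
    ∃ (W' : Y.Opens) (h : W' ≤ W), y ∈ W' ∧ ∃ a a' : A.presheaf.obj (op W'),
      (v.app W').hom a = rQ B (q.preimage_mono h) b ∧ (v.app W').hom a' = rQ B (q.preimage_mono h) b' := by
  obtain ⟨W₁, h₁, hy₁, a₁, ha₁⟩ := hb y hy
  obtain ⟨W₂, h₂, hy₂, a₂, ha₂⟩ := hb' y hy
  refine ⟨W₁ ⊓ W₂, inf_le_left.trans h₁, ⟨hy₁, hy₂⟩, rQ A inf_le_left a₁, rQ A inf_le_right a₂, ?_, ?_⟩
  · rw [v_res, ha₁, rQ_rQ]
  · rw [v_res, ha₂, rQ_rQ]

/-- the subring of the sections locally in the image -/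
def imgSub (W : Y.Opens) : Subring (B.presheaf.obj (op (q ⁻¹ᵁ W))) where
  carrier := {b | LocIm v W b}
  mul_mem' {b b'} hb hb' := by
    intro y hy
    obtain ⟨W', h, hyW', a, a', ha, ha'⟩ := locIm_pair v hb hb' y hy
    exact ⟨W', h, hyW', a * a', by rw [map_mul, map_mul, ha, ha']⟩
  one_mem' := by
    have := locIm_app v W 1
    rwa [map_one] at this
  add_mem' {b b'} hb hb' := by
    intro y hy
    obtain ⟨W', h, hyW', a, a', ha, ha'⟩ := locIm_pair v hb hb' y hy
    exact ⟨W', h, hyW', a + a', by rw [map_add, map_add, ha, ha']⟩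
  zero_mem' := by
    have := locIm_app v W 0
    rwa [map_zero] at this
  neg_mem' {b} hb := by
    intro y hy
    obtain ⟨W', h, hyW', a, ha⟩ := hb y hy
    exact ⟨W', h, hyW', -a, by rw [map_neg, map_neg, ha]⟩

theorem mem_imgSub (W : Y.Opens) (b : B.presheaf.obj (op (q ⁻¹ᵁ W))) : b ∈ imgSub v W ↔ LocIm v W b := Iff.rfl

/-- restriction on the image -/
def resI {W₁ W₂ : Y.Opens} (h : W₂ ≤ W₁) : imgSub v W₁ →+* imgSub v W₂ where
  toFun b := ⟨rQ B (q.preimage_mono h) b.1, locIm_res v h b.2⟩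
  map_one' := Subtype.ext (map_one _)
  map_mul' b b' := Subtype.ext (map_mul _ _ _)
  map_zero' := Subtype.ext (map_zero _)
  map_add' b b' := Subtype.ext (map_add _ _ _)

theorem resI_val {W₁ W₂ : Y.Opens} (h : W₂ ≤ W₁) (b : imgSub v W₁) :
    (resI v h b).1 = rQ B (q.preimage_mono h) b.1 := rfl

/-- the presheaf of rings `Im(v)` -/
def imgPre : TopCat.Presheaf CommRingCat.{u} Y.carrier where
  obj W := CommRingCat.of (imgSub v W.unop)
  map {W₁ W₂} i := CommRingCat.ofHom (resI v (leOfHom i.unop))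
  map_id W := by
    apply CommRingCat.hom_ext
    refine RingHom.ext fun b => Subtype.ext ?_
    exact rQ_self B b.1
  map_comp {W₁ W₂ W₃} i k := by
    apply CommRingCat.hom_ext
    refine RingHom.ext fun b => Subtype.ext ?_
    exact (rQ_rQ B _ _ b.1).symm

theorem imgPre_map_val {W₁ W₂ : Y.Opens} (h : W₂ ≤ W₁) (b : imgSub v W₁) :
    (((imgPre v).map (homOfLE h).op).hom b).1 = rQ B (q.preimage_mono h) b.1 := rfl

theorem isSheaf_imgPre : (imgPre v).IsSheaf := by
  rw [TopCat.Presheaf.isSheaf_iff_isSheafUniqueGluing]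
  intro ι U sf hsf
  have hle : ∀ i, U i ≤ iSup U := fun i => le_iSup U i
  have hsf' : ∀ i j, resI v (inf_le_left : U i ⊓ U j ≤ U i) (sf i) =
      resI v (inf_le_right : U i ⊓ U j ≤ U j) (sf j) := hsf
  have hcov : q ⁻¹ᵁ (iSup U) ≤ ⨆ i, q ⁻¹ᵁ (U i) := by
    intro x hx
    obtain ⟨i, hi⟩ := Opens.mem_iSup.1 (show q x ∈ iSup U from hx)
    exact Opens.mem_iSup.2 ⟨i, hi⟩
  obtain ⟨b, hb, hbu⟩ := TopCat.Sheaf.existsUnique_gluing' (⟨B.presheaf, B.isSheaf⟩ : TopCat.Sheaf CommRingCat X)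
    (fun i => q ⁻¹ᵁ (U i)) (q ⁻¹ᵁ (iSup U)) (fun i => homOfLE (q.preimage_mono (hle i))) hcov
    (fun i => (sf i : imgSub v (U i)).1) (fun i j => congrArg Subtype.val (hsf' i j))
  have hb' : ∀ i, rQ B (q.preimage_mono (hle i)) b = (sf i : imgSub v (U i)).1 := hb
  have hbI : LocIm v (iSup U) b := by
    refine locIm_of_cover v (fun y hy => ?_)
    obtain ⟨i, hi⟩ := Opens.mem_iSup.1 hy
    refine ⟨U i, hle i, hi, ?_⟩
    rw [hb' i]
    exact (sf i : imgSub v (U i)).2
  refine ⟨⟨b, hbI⟩, fun i => Subtype.ext (hb' i), fun y hy => Subtype.ext ?_⟩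
  refine hbu _ (fun i => ?_)
  exact congrArg Subtype.val (hy i)

/-- the corestriction of `v` to its image, over any open -/
def corI (W : Y.Opens) : A.presheaf.obj (op W) →+* imgSub v W :=
  (v.app W).hom.codRestrict (imgSub v W) (fun a => locIm_app v W a)

theorem corI_val (W : Y.Opens) (a : A.presheaf.obj (op W)) : (corI v W a).1 = (v.app W).hom a := rfl

theorem corI_res {W₁ W₂ : Y.Opens} (h : W₂ ≤ W₁) (a : A.presheaf.obj (op W₁)) :
    corI v W₂ (rQ A h a) = resI v h (corI v W₁ a) :=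
  Subtype.ext (v_res v h a)

/-- the structure map of `Im(v)` -/
def imgStr : Y.presheaf ⟶ imgPre v where
  app W := CommRingCat.ofHom ((corI v W.unop).comp (A.str.app W).hom)
  naturality W₁ W₂ i := by
    apply CommRingCat.hom_ext
    refine RingHom.ext fun r => ?_
    show corI v W₂.unop ((A.str.app W₂).hom ((Y.presheaf.map i).hom r)) =
      resI v (leOfHom i.unop) (corI v W₁.unop ((A.str.app W₁).hom r))
    rw [← corI_res]
    congr 1
    exact congrArg (fun k => k.hom r) (A.str.naturality i)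

theorem imgStr_val (W : Y.Opens) (r : Γ(Y, W)) :
    (((imgStr v).app (op W)).hom r).1 = (v.app W).hom ((A.str.app (op W)).hom r) := rfl

end basic

end Groth.Agent.Lib.Helper28.ImgAlg
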