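import Groth.Agent.Lib.Helper28.GrauertEta
import Groth.Agent.Lib.Helper28.GrTaylorCoef
import Groth.Agent.Lib.Helper28.ConeImm
import Groth.Agent.Lib.Helper28.ImgAlg1

/-!
# Taylor coefficients of a function defined near the zero section of a line bundle (helper28)
-/

set_option autoImplicit false
universe u
open CategoryTheory CategoryTheory.Limits AlgebraicGeometry Opposite TopologicalSpace
noncomputable section

namespace Groth.Agent.Lib.Helper28.Grauert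

open Groth.Agent.Lib.Helper28 Groth.Agent.Lib.Helper28.QCohLoc Groth.Agent.Lib.Helper28.TraceAlg
open Groth.Agent.Lib.Helper28.GenLocus Groth.Agent.Lib.Helper28.SymAlg Groth.Agent.Lib.Helper28.AmpleUnit
open Groth.Agent.Lib.Helper28.RLPsi Groth.Agent.Lib.Helper28.SymPow Groth.Agent.Lib.Helper28.ImgAlg
open Groth.Agent.Lib.Helper28.GrTaylorSpec
open Groth.Agent.Lib.Helper28.RelProjQ (mkSite le_of_site)

attribute [local instance] algAt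

section glue

variable {X : Scheme.{u}} (A : RelSpec.QCAlg X) (X₁ : X.Opens)

/-- gluing sections of a quasi-coherent algebra given on the affine opens, compatibly with basic opens -/
theorem exists_glue_affine
    (c : ∀ (U : X.Opens), IsAffineOpen U → U ≤ X₁ → A.presheaf.obj (op U))
    (hc : ∀ (U : X.Opens) (hU : IsAffineOpen U) (hUX : U ≤ X₁) (f : Γ(X, U)),
      c (X.basicOpen f) (hU.basicOpen f) ((X.basicOpen_le f).trans hUX) = rQ A (X.basicOpen_le f) (c U hU hUX)) :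
    ∃ τ : A.presheaf.obj (op X₁), ∀ (U : X.Opens) (hU : IsAffineOpen U) (hUX : U ≤ X₁),
      rQ A hUX τ = c U hU hUX := by
  let I := {U : X.affineOpens // (U.1 : X.Opens) ≤ X₁}
  let Uf : I → X.Opens := fun i => i.1.1
  have hcov : X₁ ≤ iSup Uf := by
    intro x hx
    obtain ⟨_, ⟨W, hW, rfl⟩, hxW, hWle⟩ := X.isBasis_affineOpens.exists_subset_of_mem_open hx X₁.isOpen
    exact Opens.mem_iSup.2 ⟨⟨⟨W, hW⟩, hWle⟩, hxW⟩
  have hcongr : ∀ (W W' : X.Opens) (e : W = W') (hW : IsAffineOpen W) (hW' : IsAffineOpen W') (h : W ≤ X₁)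
      (h' : W' ≤ X₁) (V : X.Opens) (hV : V ≤ W) (hV' : V ≤ W'),
      rQ A hV (c W hW h) = rQ A hV' (c W' hW' h') := by
    intro W W' e hW hW' h h' V hV hV'
    subst e
    rfl
  have hcompat : TopCat.Presheaf.IsCompatible A.presheaf Uf (fun i => c i.1.1 i.1.2 i.2) := by
    intro i k
    let J := {W : X.affineOpens // ∃ (f : Γ(X, Uf i)) (g : Γ(X, Uf k)), (W.1 : X.Opens) = X.basicOpen f ∧
      (W.1 : X.Opens) = X.basicOpen g}
    have hJle : ∀ W : J, (W.1.1 : X.Opens) ≤ Uf i ⊓ Uf k := by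
      rintro ⟨W, f, g, hf, hg⟩
      have hf' : W.1 = X.basicOpen f := hf
      have hg' : W.1 = X.basicOpen g := hg
      exact le_inf (hf'.le.trans (X.basicOpen_le f)) (hg'.le.trans (X.basicOpen_le g))
    refine TopCat.Sheaf.eq_of_locally_eq' (⟨A.presheaf, A.isSheaf⟩ : TopCat.Sheaf CommRingCat X)
      (fun W : J => (W.1.1 : X.Opens)) (Uf i ⊓ Uf k) (fun W => homOfLE (hJle W)) ?_ _ _ ?_
    · intro x hx
      obtain ⟨f, g, hfg, hxf⟩ := exists_basicOpen_le_affine_inter i.1.2 k.1.2 x hx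
      exact Opens.mem_iSup.2 ⟨⟨⟨X.basicOpen f, i.1.2.basicOpen f⟩, f, g, rfl, hfg⟩, hxf⟩
    · rintro ⟨⟨W, hW⟩, f, g, hf, hg⟩
      have hf' : W = X.basicOpen f := hf
      have hg' : W = X.basicOpen g := hg
      show rQ A (hJle ⟨⟨W, hW⟩, f, g, hf, hg⟩) (rQ A inf_le_left (c i.1.1 i.1.2 i.2)) =
        rQ A (hJle ⟨⟨W, hW⟩, f, g, hf, hg⟩) (rQ A inf_le_right (c k.1.1 k.1.2 k.2))
      rw [rQ_rQ, rQ_rQ]
      have h1 : rQ A ((hJle ⟨⟨W, hW⟩, f, g, hf, hg⟩).trans inf_le_left) (c i.1.1 i.1.2 i.2) =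
          c W hW (((hJle ⟨⟨W, hW⟩, f, g, hf, hg⟩).trans inf_le_left).trans i.2) := by
        have h2 := hc i.1.1 i.1.2 i.2 f
        have h3 := hcongr W (X.basicOpen f) hf' hW (i.1.2.basicOpen f)
          (((hJle ⟨⟨W, hW⟩, f, g, hf, hg⟩).trans inf_le_left).trans i.2) ((X.basicOpen_le f).trans i.2) W le_rfl hf'.le
        rw [rQ_self, h2, rQ_rQ] at h3
        exact h3.symm
      have h1' : rQ A ((hJle ⟨⟨W, hW⟩, f, g, hf, hg⟩).trans inf_le_right) (c k.1.1 k.1.2 k.2) =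
          c W hW (((hJle ⟨⟨W, hW⟩, f, g, hf, hg⟩).trans inf_le_left).trans i.2) := by
        have h2 := hc k.1.1 k.1.2 k.2 g
        have h3 := hcongr W (X.basicOpen g) hg' hW (k.1.2.basicOpen g)
          (((hJle ⟨⟨W, hW⟩, f, g, hf, hg⟩).trans inf_le_left).trans i.2) ((X.basicOpen_le g).trans k.2) W le_rfl hg'.le
        rw [rQ_self, h2, rQ_rQ] at h3
        exact h3.symm
      rw [h1, h1']
  obtain ⟨τ, hτ, -⟩ := TopCat.Sheaf.existsUnique_gluing' (⟨A.presheaf, A.isSheaf⟩ : TopCat.Sheaf CommRingCat X)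
    Uf X₁ (fun i => homOfLE i.2) hcov (fun i => c i.1.1 i.1.2 i.2) hcompat
  exact ⟨τ, fun U hU hUX => hτ ⟨⟨U, hU⟩, hUX⟩⟩

end glue

section coef

variable {X : Scheme.{u}} {L : X.Modules} [L.IsQuasicoherent]
  {𝒜 : RelProj.QCGrAlg X} {j : L ⟶ 𝒜.toModule} (hA : RelProj.IsGrSymAlg L 𝒜 j) (hL : PicF.IsInvertible L)
  (h0 : RelCone.StrZeroBij 𝒜) (aug : 𝒜.toQCAlg ⟶ RelSpec.QCAlg.unit X) (haug : RelCone.IsAugmentation 𝒜 aug)
  (j0 : X ⟶ 𝒜.toQCAlg.spec) (hj0 : RelCone.IsVertex 𝒜 aug j0)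
  (T : 𝒜.toQCAlg.spec.Opens) (X₁ : X.Opens) (hX₁ : ∀ x ∈ X₁, j0 x ∈ T) (φ : Γ(𝒜.toQCAlg.spec, T))

/-- the trace of `T` on the chart over `U` -/
def TU (U : X.Opens) (hU : IsAffineOpen U) : (Spec (𝒜.presheaf.obj (op U))).Opens :=
  𝒜.toQCAlg.ι U hU ⁻¹ᵁ T

include h0 haug hj0 hX₁ in
theorem hTU (U : X.Opens) (hU : IsAffineOpen U) (hUX : U ≤ X₁) :
    PrimeSpectrum.zeroLocus ((HomogeneousIdeal.irrelevant (𝒜.deg U hU)).toIdeal : Set (𝒜.presheaf.obj (op U))) ⊆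
      (TU T U hU : Set (Spec (𝒜.presheaf.obj (op U)))) := by
  intro w hw
  obtain ⟨x', hx'⟩ :=
    (Groth.Agent.Lib.Helper27.ConeVertex.ι_mem_range_iff 𝒜 aug h0 haug j0 hj0 U hU w).2 hw
  show 𝒜.toQCAlg.ι U hU w ∈ T
  rw [← hx']
  apply hX₁
  apply hUX
  have h2 : 𝒜.toQCAlg.π (j0 x') = x' := by
    rw [← Scheme.Hom.comp_apply, hj0.comp_π]; rfl
  rw [← h2, hx']
  exact (Groth.Agent.Lib.Helper28.ConeImm.mem_range_ι_iff 𝒜 hU _).1 ⟨w, rfl⟩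

/-- the function read on the chart over `U` -/
def φU (U : X.Opens) (hU : IsAffineOpen U) : Γ(Spec (𝒜.presheaf.obj (op U)), TU T U hU) :=
  (𝒜.toQCAlg.ι U hU).app T φ

variable (hT : ∀ (U : X.Opens) (hU : IsAffineOpen U), U ≤ X₁ →
  PrimeSpectrum.zeroLocus ((HomogeneousIdeal.irrelevant (𝒜.deg U hU)).toIdeal : Set (𝒜.presheaf.obj (op U))) ⊆
    (TU T U hU : Set (Spec (𝒜.presheaf.obj (op U)))))

/-- the Taylor coefficients on the chart over `U` -/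
def cU (k : ℕ) (U : X.Opens) (hU : IsAffineOpen U) (hUX : U ≤ X₁) : 𝒜.presheaf.obj (op U) :=
  coef (𝒜.deg U hU) (TU T U hU) (hT U hU hUX) k (φU T φ U hU)

theorem cU_mem (k : ℕ) (U : X.Opens) (hU : IsAffineOpen U) (hUX : U ≤ X₁) :
    cU T X₁ φ hT k U hU hUX ∈ 𝒜.deg U hU k := coef_mem _ _ _ _ _

theorem cU_basicOpen (k : ℕ) (U : X.Opens) (hU : IsAffineOpen U) (hUX : U ≤ X₁) (f : Γ(X, U)) :
    cU T X₁ φ hT k (X.basicOpen f) (hU.basicOpen f) ((X.basicOpen_le f).trans hUX) =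
      rQ 𝒜.toQCAlg (X.basicOpen_le f) (cU T X₁ φ hT k U hU hUX) := by
  let ρ : 𝒜.presheaf.obj (op U) ⟶ 𝒜.presheaf.obj (op (X.basicOpen f)) :=
    𝒜.presheaf.map (homOfLE (X.basicOpen_le f)).op
  have hι : Spec.map ρ ≫ 𝒜.toQCAlg.ι U hU = 𝒜.toQCAlg.ι (X.basicOpen f) (hU.basicOpen f) :=
    𝒜.toQCAlg.ι_res (U := mkSite U hU) (V := mkSite (X.basicOpen f) (hU.basicOpen f)) (homOfLE ⟨f, rfl⟩)
  have hle : TU T (X.basicOpen f) (hU.basicOpen f) ≤ Spec.map ρ ⁻¹ᵁ TU T U hU := by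
    unfold TU
    rw [← Scheme.Hom.comp_preimage, hι]
  have hφ : φU T φ (X.basicOpen f) (hU.basicOpen f) =
      (Spec.map ρ).appLE (TU T U hU) (TU T (X.basicOpen f) (hU.basicOpen f)) hle (φU T φ U hU) := by
    unfold φU
    have e1 : (𝒜.toQCAlg.ι (X.basicOpen f) (hU.basicOpen f)).app T =
        (𝒜.toQCAlg.ι (X.basicOpen f) (hU.basicOpen f)).appLE T (TU T (X.basicOpen f) (hU.basicOpen f)) le_rfl :=
      Scheme.Hom.app_eq_appLE _
    have e2 : (𝒜.toQCAlg.ι (X.basicOpen f) (hU.basicOpen f)).appLE T (TU T (X.basicOpen f) (hU.basicOpen f)) le_rfl =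
        (Spec.map ρ ≫ 𝒜.toQCAlg.ι U hU).appLE T (TU T (X.basicOpen f) (hU.basicOpen f))
          (hle.trans ((Opens.map (Spec.map ρ).base).map (homOfLE (le_refl (TU T U hU)))).le) :=
      appLE_congr_hom hι.symm _ _ _ _
    have e3 : (𝒜.toQCAlg.ι U hU).appLE T (TU T U hU) le_rfl ≫
        (Spec.map ρ).appLE (TU T U hU) (TU T (X.basicOpen f) (hU.basicOpen f)) hle =
        (Spec.map ρ ≫ 𝒜.toQCAlg.ι U hU).appLE T (TU T (X.basicOpen f) (hU.basicOpen f))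
          (hle.trans ((Opens.map (Spec.map ρ).base).map (homOfLE (le_refl (TU T U hU)))).le) :=
      Scheme.Hom.appLE_comp_appLE _ _ _ _ _ _ _
    have e4 : (𝒜.toQCAlg.ι U hU).app T = (𝒜.toQCAlg.ι U hU).appLE T (TU T U hU) le_rfl :=
      Scheme.Hom.app_eq_appLE _
    rw [e1, e2, ← e3, e4]
    rfl
  unfold cU
  have h1 := coef_map (𝒜.deg U hU) (𝒜.deg (X.basicOpen f) (hU.basicOpen f)) ρ
    (fun n a ha => 𝒜.map_mem hU (hU.basicOpen f) (X.basicOpen_le f) ha)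
    (TU T U hU) (hT U hU hUX) (TU T (X.basicOpen f) (hU.basicOpen f))
    (hT _ (hU.basicOpen f) ((X.basicOpen_le f).trans hUX)) hle k (φU T φ U hU)
  rw [← hφ] at h1
  exact h1

include hA hL hT in
/-- **the Taylor coefficients of a function defined near the zero section**: global sections of the symmetric
algebra over `X₁`, locally homogeneous, whose nonvanishing loci detect the values of the function at the generic
points of the fibres -/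
theorem exists_coef_sections :
    ∃ τ : ℕ → 𝒜.presheaf.obj (op X₁), (∀ k, LocDeg 𝒜 k X₁ (τ k)) ∧
      ∀ (x : X) (d : EtaData 𝒜 j0 x), d.U ≤ X₁ →
        ((𝒜.toQCAlg.ι d.U d.hU) d.P ∈ T) ∧
        ((𝒜.toQCAlg.ι d.U d.hU) d.P ∈ 𝒜.toQCAlg.spec.basicOpen φ ↔ ∃ k, x ∈ NVloc 𝒜 k X₁ (τ k)) ∧
        (x ∈ NVloc 𝒜 0 X₁ (τ 0) → j0 x ∈ 𝒜.toQCAlg.spec.basicOpen φ) := by
  have hex : ∀ k : ℕ, ∃ τ : 𝒜.presheaf.obj (op X₁), ∀ (U : X.Opens) (hU : IsAffineOpen U) (hUX : U ≤ X₁),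
      rQ 𝒜.toQCAlg hUX τ = cU T X₁ φ hT k U hU hUX :=
    fun k => exists_glue_affine 𝒜.toQCAlg X₁ (fun U hU hUX => cU T X₁ φ hT k U hU hUX)
      (fun U hU hUX f => cU_basicOpen T X₁ φ hT k U hU hUX f)
  choose τ hτ using hex
  have hloc : ∀ k, LocDeg 𝒜 k X₁ (τ k) := by
    intro k W hW hWX
    show rQ 𝒜.toQCAlg hWX (τ k) ∈ 𝒜.deg W hW k
    rw [hτ k W hW hWX]
    exact cU_mem T X₁ φ hT k W hW hWX
  refine ⟨τ, hloc, fun x d hdU => ?_⟩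
  have hNVeq : ∀ k, x ∈ NVloc 𝒜 k X₁ (τ k) ↔ x ∈ NVloc 𝒜 k d.U (cU T X₁ φ hT k d.U d.hU hdU) := by
    intro k
    have h1 := NVloc_res hA hL (hloc k) hdU
    have h2 : rS 𝒜 hdU (τ k) = cU T X₁ φ hT k d.U d.hU hdU := hτ k d.U d.hU hdU
    rw [h2] at h1
    rw [h1]
    exact ⟨fun h => ⟨h, d.hx⟩, fun h => h.1⟩
  have hpre : 𝒜.toQCAlg.ι d.U d.hU ⁻¹ᵁ 𝒜.toQCAlg.spec.basicOpen φ =
      (Spec (𝒜.presheaf.obj (op d.U))).basicOpen (φU T φ d.U d.hU) :=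
    Scheme.preimage_basicOpen _ _
  refine ⟨?_, ?_, ?_⟩
  · exact mem_of_le (𝒜.deg d.U d.hU) (TU T d.U d.hU) (hT d.U d.hU hdU) d.P₀ d.P d.hle d.hI
  · have h1 : (𝒜.toQCAlg.ι d.U d.hU) d.P ∈ 𝒜.toQCAlg.spec.basicOpen φ ↔
        d.P ∈ (Spec (𝒜.presheaf.obj (op d.U))).basicOpen (φU T φ d.U d.hU) := by
      rw [← hpre]; exact Iff.rfl
    rw [h1, mem_basicOpen_iff (𝒜.deg d.U d.hU) (TU T d.U d.hU) (hT d.U d.hU hdU) d.P₀ d.P d.hle d.hI d.hPh]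
    refine exists_congr fun k => ?_
    rw [hNVeq k]
    have h2 := d.hNV k (cU T X₁ φ hT k d.U d.hU hdU) (cU_mem T X₁ φ hT k d.U d.hU hdU)
    show cU T X₁ φ hT k d.U d.hU hdU ∉ d.P.asIdeal ↔ _
    rw [h2, not_not]
  · intro hx0
    rw [hNVeq 0] at hx0
    have h2 := d.hNV 0 (cU T X₁ φ hT 0 d.U d.hU hdU) (cU_mem T X₁ φ hT 0 d.U d.hU hdU)
    have h3 : cU T X₁ φ hT 0 d.U d.hU hdU ∉ d.P.asIdeal := fun h => (h2.1 h) hx0
    have h4 : cU T X₁ φ hT 0 d.U d.hU hdU ∉ d.P₀.asIdeal :=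
      fun h => h3 (d.hdeg0 _ (cU_mem T X₁ φ hT 0 d.U d.hU hdU) h)
    have h5 := mem_basicOpen_of_coef_zero (𝒜.deg d.U d.hU) (TU T d.U d.hU) (hT d.U d.hU hdU) d.P₀ d.hI
      (φU T φ d.U d.hU) h4
    rw [d.hj0]
    have h6 : d.P₀ ∈ 𝒜.toQCAlg.ι d.U d.hU ⁻¹ᵁ 𝒜.toQCAlg.spec.basicOpen φ := by
      rw [hpre]; exact h5
    exact h6

end coef

end Groth.Agent.Lib.Helper28.Grauert
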