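import Groth.Agent.Lib.Helper28.GrTaylorSpec
import Groth.Agent.Lib.Helper27.ConeVertex
import Groth.Prelude.Def_AffAlg

/-!
# Sections of a relative spectrum attached to an augmentation, on functions (helper28)
-/

set_option autoImplicit false
universe u
open CategoryTheory CategoryTheory.Limits AlgebraicGeometry Opposite TopologicalSpace
noncomputable section

namespace Groth.Agent.Lib.Helper28.GrauertSec

open Groth.Agent.Lib.Helper28.GrTaylorSpec (appLE_congr_hom)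

/-- `algHom` on sections, in `appLE` form -/
theorem algHom_app_eq {X Y S : Scheme.{u}} (f : X ⟶ S) (g : Y ⟶ S) (h : Y ⟶ X) (w : h ≫ f = g) (U : S.Opens) :
    (AffAlg.algHom f g h w).app (op U) =
      h.appLE (f ⁻¹ᵁ U) (g ⁻¹ᵁ U) (by subst w; exact le_rfl) := by
  subst w
  simp only [AffAlg.algHom, Scheme.Hom.appLE]
  simp
  rfl

variable {S : Scheme.{u}} (A : RelSpec.QCAlg S) (aug : A ⟶ RelSpec.QCAlg.unit S) (σ : S ⟶ A.spec)
  (hσ : ∀ (U : S.Opens) (hU : IsAffineOpen U), hU.fromSpec ≫ σ = Spec.map (aug.hom.app (op U)) ≫ A.ι U hU)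

include hσ in
/-- a section given on the charts by an augmentation acts on functions through the augmentation -/
theorem section_appLE (U : S.Opens) (hU : IsAffineOpen U) (hle : U ≤ σ ⁻¹ᵁ (A.π ⁻¹ᵁ U)) :
    σ.appLE (A.π ⁻¹ᵁ U) U hle = A.gammaAff U hU ≫ aug.hom.app (op U) := by
  let augU : A.presheaf.obj (op U) ⟶ Γ(S, U) := aug.hom.app (op U)
  have h1 : hU.fromSpec ≫ σ = Spec.map augU ≫ A.ι U hU := hσ U hU
  show σ.appLE (A.π ⁻¹ᵁ U) U hle = A.gammaAff U hU ≫ augU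
  have hle1 : (⊤ : (Spec Γ(S, U)).Opens) ≤ hU.fromSpec ⁻¹ᵁ U := by
    rw [hU.fromSpec_preimage_self]
  have hle2 : (⊤ : (Spec Γ(S, U)).Opens) ≤ (hU.fromSpec ≫ σ) ⁻¹ᵁ (A.π ⁻¹ᵁ U) :=
    hle1.trans (hU.fromSpec.preimage_mono hle)
  have e1 : σ.appLE (A.π ⁻¹ᵁ U) U hle ≫ hU.fromSpec.appLE U ⊤ hle1 =
      (hU.fromSpec ≫ σ).appLE (A.π ⁻¹ᵁ U) ⊤ hle2 := Scheme.Hom.appLE_comp_appLE _ _ _ _ _ _ _
  have hle3 : (⊤ : (Spec Γ(S, U)).Opens) ≤ (Spec.map augU ≫ A.ι U hU) ⁻¹ᵁ (A.π ⁻¹ᵁ U) := by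
    rw [← h1]; exact hle2
  have e2 : (A.ι U hU).appLE (A.π ⁻¹ᵁ U) ⊤ (A.top_le_preimage U hU) ≫
      (Spec.map augU).appLE ⊤ ⊤ le_top =
      (Spec.map augU ≫ A.ι U hU).appLE (A.π ⁻¹ᵁ U) ⊤ hle3 :=
    Scheme.Hom.appLE_comp_appLE _ _ _ _ _ _ _
  have e3 : (hU.fromSpec ≫ σ).appLE (A.π ⁻¹ᵁ U) ⊤ hle2 =
      (Spec.map augU ≫ A.ι U hU).appLE (A.π ⁻¹ᵁ U) ⊤ hle3 :=
    appLE_congr_hom h1 _ _ _ _
  have e4 : (Spec.map augU).appLE ⊤ ⊤ le_top = (Spec.map augU).appTop := by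
    simp [Scheme.Hom.appLE, Scheme.Hom.appTop]
  have e5 : hU.fromSpec.appLE U ⊤ hle1 ≫ (Scheme.ΓSpecIso Γ(S, U)).hom = 𝟙 _ := by
    rw [Scheme.Hom.appLE, hU.fromSpec_app_self]
    simp only [Category.assoc]
    rw [← Functor.map_comp_assoc]
    have : ∀ k : (op ⊤ : (Spec Γ(S, U)).Opensᵒᵖ) ⟶ op ⊤, (Spec Γ(S, U)).presheaf.map k = 𝟙 _ := fun k => by
      rw [Subsingleton.elim k (𝟙 _)]; exact CategoryTheory.Functor.map_id _ _
    erw [this]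
    rw [Category.id_comp, Iso.inv_hom_id]
  have e6 : (Spec.map augU).appTop ≫ (Scheme.ΓSpecIso Γ(S, U)).hom =
      (Scheme.ΓSpecIso (A.presheaf.obj (op U))).hom ≫ augU := Scheme.ΓSpecIso_naturality augU
  -- assemble
  have key : σ.appLE (A.π ⁻¹ᵁ U) U hle ≫ (hU.fromSpec.appLE U ⊤ hle1 ≫ (Scheme.ΓSpecIso Γ(S, U)).hom) =
      (A.ι U hU).appLE (A.π ⁻¹ᵁ U) ⊤ (A.top_le_preimage U hU) ≫
        ((Spec.map augU).appTop ≫ (Scheme.ΓSpecIso Γ(S, U)).hom) := by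
    rw [← Category.assoc, e1, e3, ← e2, e4, Category.assoc]
  rw [e5, Category.comp_id, e6] at key
  rw [key]
  unfold RelSpec.QCAlg.gammaAff
  rw [Category.assoc]

end Groth.Agent.Lib.Helper28.GrauertSec
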