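import Groth.Agent.Lib.Helper28.GrauertEta
import Groth.Agent.Lib.Helper28.GrauertSec
import Groth.Agent.Lib.Helper28.ConeImm
import Groth.Agent.S8255

/-!
# Homogeneous functions on a line bundle: nonvanishing loci (helper28)
-/

set_option autoImplicit false
universe u
open CategoryTheory CategoryTheory.Limits AlgebraicGeometry Opposite TopologicalSpace
noncomputable section

namespace Groth.Agent.Lib.Helper28.Grauert

open Groth.Agent.Lib.Helper28 Groth.Agent.Lib.Helper28.QCohLoc Groth.Agent.Lib.Helper28.TraceAlg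
open Groth.Agent.Lib.Helper28.GenLocus Groth.Agent.Lib.Helper28.SymAlg Groth.Agent.Lib.Helper28.AmpleUnit
open Groth.Agent.Lib.Helper28.RLPsi Groth.Agent.Lib.Helper28.SymPow

attribute [local instance] algAt

section chart

variable {X : Scheme.{u}} (𝒜 : RelProj.QCGrAlg X)

/-- **values on a chart**: a function on `π⁻¹(X₁)` is nonzero at the point `P` of the chart over `W ⊆ X₁`
iff the corresponding section of the algebra, restricted to `W`, is not in `P` -/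
theorem ι_mem_basicOpen_iff (X₁ : X.Opens) (b : Γ(𝒜.toQCAlg.spec, 𝒜.toQCAlg.π ⁻¹ᵁ X₁))
    (W : X.Opens) (hW : IsAffineOpen W) (hWX : W ≤ X₁) (P : Spec (𝒜.presheaf.obj (op W))) :
    (𝒜.toQCAlg.ι W hW) P ∈ 𝒜.toQCAlg.spec.basicOpen b ↔
      rS 𝒜 hWX ((𝒜.toQCAlg.gammaMap.app (op X₁)).hom b) ∉ P.asIdeal := by
  have hle : (⊤ : (Spec (𝒜.presheaf.obj (op W))).Opens) ≤
      𝒜.toQCAlg.ι W hW ⁻¹ᵁ (𝒜.toQCAlg.π ⁻¹ᵁ X₁) :=
    (𝒜.toQCAlg.top_le_preimage W hW).trans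
      ((𝒜.toQCAlg.ι W hW).preimage_mono (𝒜.toQCAlg.π.preimage_mono hWX))
  let f : Γ(Spec (𝒜.presheaf.obj (op W)), ⊤) := (𝒜.toQCAlg.ι W hW).appLE (𝒜.toQCAlg.π ⁻¹ᵁ X₁) ⊤ hle b
  have h1 : (Spec (𝒜.presheaf.obj (op W))).basicOpen f =
      ⊤ ⊓ 𝒜.toQCAlg.ι W hW ⁻¹ᵁ (𝒜.toQCAlg.spec.basicOpen b) :=
    Scheme.basicOpen_appLE _ _ _ hle b
  have h2 : (Spec (𝒜.presheaf.obj (op W))).basicOpen f =
      PrimeSpectrum.basicOpen ((Scheme.ΓSpecIso (𝒜.presheaf.obj (op W))).hom f) := basicOpen_eq_of_affine' f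
  have h3 : (Scheme.ΓSpecIso (𝒜.presheaf.obj (op W))).hom f =
      rS 𝒜 hWX ((𝒜.toQCAlg.gammaMap.app (op X₁)).hom b) := by
    have n1 := 𝒜.toQCAlg.gammaMap.naturality (homOfLE hWX).op
    rw [𝒜.toQCAlg.gammaMap_app W hW] at n1
    have n2 : 𝒜.toQCAlg.spec.presheaf.map (homOfLE (𝒜.toQCAlg.π.preimage_mono hWX)).op ≫
        (𝒜.toQCAlg.ι W hW).appLE (𝒜.toQCAlg.π ⁻¹ᵁ W) ⊤ (𝒜.toQCAlg.top_le_preimage W hW) =
        (𝒜.toQCAlg.ι W hW).appLE (𝒜.toQCAlg.π ⁻¹ᵁ X₁) ⊤ hle := Scheme.Hom.map_appLE _ _ _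
    have n3 := congr($(n1).hom b)
    have n4 : (𝒜.toQCAlg.gammaAff W hW).hom
        ((𝒜.toQCAlg.spec.presheaf.map (homOfLE (𝒜.toQCAlg.π.preimage_mono hWX)).op).hom b) =
        (Scheme.ΓSpecIso (𝒜.presheaf.obj (op W))).hom f := by
      have n5 := congr($(n2).hom b)
      show (Scheme.ΓSpecIso (𝒜.presheaf.obj (op W))).hom
        (((𝒜.toQCAlg.ι W hW).appLE (𝒜.toQCAlg.π ⁻¹ᵁ W) ⊤ (𝒜.toQCAlg.top_le_preimage W hW)).hom
          ((𝒜.toQCAlg.spec.presheaf.map (homOfLE (𝒜.toQCAlg.π.preimage_mono hWX)).op).hom b)) = _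
      exact congrArg (Scheme.ΓSpecIso (𝒜.presheaf.obj (op W))).hom n5
    rw [← n4]
    exact n3
  have h4 : (𝒜.toQCAlg.ι W hW) P ∈ 𝒜.toQCAlg.spec.basicOpen b ↔
      P ∈ (Spec (𝒜.presheaf.obj (op W))).basicOpen f := by
    rw [h1]
    exact ⟨fun h => ⟨trivial, h⟩, fun h => h.2⟩
  rw [h4, h2, ← h3]
  exact Iff.rfl

end chart

section cone

variable {X : Scheme.{u}} {L : X.Modules} [L.IsQuasicoherent]
  {𝒜 : RelProj.QCGrAlg X} {j : L ⟶ 𝒜.toModule} (hA : RelProj.IsGrSymAlg L 𝒜 j) (hL : PicF.IsInvertible L)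
  (h0 : RelCone.StrZeroBij 𝒜) (aug : 𝒜.toQCAlg ⟶ RelSpec.QCAlg.unit X) (haug : RelCone.IsAugmentation 𝒜 aug)
  (j0 : X ⟶ 𝒜.toQCAlg.spec) (hj0 : RelCone.IsVertex 𝒜 aug j0)

include hA in
/-- on a trivializing affine chart, the irrelevant ideal lies in a prime iff the coordinate does -/
theorem irrelevant_le_iff {W : X.Opens} (hW : IsAffineOpen W) {g : Γ(L, W)} (hg : IsGen L W g)
    (P : Ideal (𝒜.presheaf.obj (op W))) :
    (HomogeneousIdeal.irrelevant (𝒜.deg W hW)).toIdeal ≤ P ↔ asR 𝒜.toQCAlg (j.app W g) ∈ P := by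
  classical
  constructor
  · intro h
    exact h (HomogeneousIdeal.mem_irrelevant_of_mem _ Nat.one_pos (hA.2 W hW g))
  · intro ht a ha
    rw [← DirectSum.sum_support_decompose (𝒜.deg W hW) a]
    refine P.sum_mem fun i _ => ?_
    by_cases hi : i = 0
    · subst hi
      have h1 : a ∈ HomogeneousIdeal.irrelevant (𝒜.deg W hW) := ha
      rw [HomogeneousIdeal.mem_irrelevant_iff, GradedRing.proj_apply] at h1
      rw [h1]
      exact P.zero_mem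
    · obtain ⟨β, hβ⟩ := exists_eq_str_mul_pow hA hW hg i _ (DirectSum.decompose (𝒜.deg W hW) a i).2
      rw [hβ]
      exact P.mul_mem_left _ (P.pow_mem_of_mem ht i (Nat.pos_of_ne_zero hi))

include hA hL h0 haug hj0 in
/-- **the nonvanishing locus of a homogeneous function of positive degree** -/
theorem mem_basicOpen_iff_of_locDeg (k : ℕ) (hk : 0 < k) (X₁ : X.Opens)
    (b : Γ(𝒜.toQCAlg.spec, 𝒜.toQCAlg.π ⁻¹ᵁ X₁))
    (hτ : LocDeg 𝒜 k X₁ ((𝒜.toQCAlg.gammaMap.app (op X₁)).hom b))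
    (v : 𝒜.toQCAlg.spec) (hv : 𝒜.toQCAlg.π v ∈ X₁) :
    v ∈ 𝒜.toQCAlg.spec.basicOpen b ↔
      v ∉ Set.range j0 ∧ 𝒜.toQCAlg.π v ∈ NVloc 𝒜 k X₁ ((𝒜.toQCAlg.gammaMap.app (op X₁)).hom b) := by
  obtain ⟨W, g, hxW, hW, hg, hWX⟩ := exists_isGen_affine_le hL (𝒜.toQCAlg.π v) X₁ hv
  obtain ⟨P, rfl⟩ := (Groth.Agent.Lib.Helper28.ConeImm.mem_range_ι_iff 𝒜 hW v).2 hxW
  obtain ⟨β, hβ⟩ := exists_eq_str_mul_pow hA hW hg k _ (hτ W hW hWX)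
  rw [ι_mem_basicOpen_iff 𝒜 X₁ b W hW hWX P, hβ]
  have hprime : P.asIdeal.IsPrime := P.isPrime
  have e1 : (𝒜.str.app (op W)).hom β * asR 𝒜.toQCAlg (j.app W g) ^ k ∉ P.asIdeal ↔
      (𝒜.str.app (op W)).hom β ∉ P.asIdeal ∧ asR 𝒜.toQCAlg (j.app W g) ∉ P.asIdeal := by
    rw [hprime.mul_mem_iff_mem_or_mem, not_or]
    refine and_congr Iff.rfl (not_congr ?_)
    exact ⟨fun h => hprime.mem_of_pow_mem k h, fun h => P.asIdeal.pow_mem_of_mem h k hk⟩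
  rw [e1]
  have e2 : asR 𝒜.toQCAlg (j.app W g) ∉ P.asIdeal ↔ (𝒜.toQCAlg.ι W hW) P ∉ Set.range j0 := by
    rw [Groth.Agent.Lib.Helper27.ConeVertex.ι_mem_range_iff 𝒜 aug h0 haug j0 hj0 W hW P, not_congr]
    rw [← irrelevant_le_iff hA hW hg P.asIdeal]
    exact Iff.rfl
  have e3 : (𝒜.str.app (op W)).hom β ∉ P.asIdeal ↔
      𝒜.toQCAlg.π ((𝒜.toQCAlg.ι W hW) P) ∈ NVloc 𝒜 k X₁ ((𝒜.toQCAlg.gammaMap.app (op X₁)).hom b) := by
    rw [mem_NVloc_iff_mem_basicOpen hA k X₁ _ hW hg hWX β hβ _ hxW]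
    have h1 : 𝒜.toQCAlg.π ((𝒜.toQCAlg.ι W hW) P) = hW.fromSpec (Spec.map (𝒜.str.app (op W)) P) := by
      rw [← Scheme.Hom.comp_apply, 𝒜.toQCAlg.ι_π W hW, Scheme.Hom.comp_apply]
    rw [h1]
    have h2 := hW.fromSpec_preimage_basicOpen β
    have h3 : Spec.map (𝒜.str.app (op W)) P ∈ hW.fromSpec ⁻¹ᵁ X.basicOpen β ↔
        (𝒜.str.app (op W)).hom β ∉ P.asIdeal := by
      rw [h2]
      exact Iff.rfl
    exact h3.symm
  rw [e2, e3, and_comm]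

include hj0 haug in
/-- a homogeneous function of positive degree vanishes on the zero section -/
theorem j0_appLE_eq_zero (k : ℕ) (hk : 0 < k) (X₁ : X.Opens)
    (b : Γ(𝒜.toQCAlg.spec, 𝒜.toQCAlg.π ⁻¹ᵁ X₁))
    (hτ : LocDeg 𝒜 k X₁ ((𝒜.toQCAlg.gammaMap.app (op X₁)).hom b))
    (hle : X₁ ≤ j0 ⁻¹ᵁ (𝒜.toQCAlg.π ⁻¹ᵁ X₁)) :
    (j0.appLE (𝒜.toQCAlg.π ⁻¹ᵁ X₁) X₁ hle).hom b = 0 := by
  let I := {W : X.affineOpens // (W.1 : X.Opens) ≤ X₁}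
  refine TopCat.Sheaf.eq_of_locally_eq' X.sheaf (fun W : I => (W.1.1 : X.Opens)) X₁
    (fun W => homOfLE W.2) ?_ _ _ (fun W => ?_)
  · intro x hx
    obtain ⟨_, ⟨W, hW, rfl⟩, hxW, hWle⟩ := X.isBasis_affineOpens.exists_subset_of_mem_open hx X₁.isOpen
    exact Opens.mem_iSup.2 ⟨⟨⟨W, hW⟩, hWle⟩, hxW⟩
  · obtain ⟨⟨W, hW⟩, hWX⟩ := W
    show (X.presheaf.map (homOfLE hWX).op).hom ((j0.appLE (𝒜.toQCAlg.π ⁻¹ᵁ X₁) X₁ hle).hom b) =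
      (X.presheaf.map (homOfLE hWX).op).hom 0
    rw [map_zero]
    have hleW : W ≤ j0 ⁻¹ᵁ (𝒜.toQCAlg.π ⁻¹ᵁ W) := by
      intro x hx
      show 𝒜.toQCAlg.π (j0 x) ∈ W
      rw [← Scheme.Hom.comp_apply, hj0.comp_π]
      exact hx
    have e1 : j0.appLE (𝒜.toQCAlg.π ⁻¹ᵁ X₁) X₁ hle ≫ X.presheaf.map (homOfLE hWX).op =
        j0.appLE (𝒜.toQCAlg.π ⁻¹ᵁ X₁) W (hWX.trans hle) := Scheme.Hom.appLE_map _ _ _
    have e2 : 𝒜.toQCAlg.spec.presheaf.map (homOfLE (𝒜.toQCAlg.π.preimage_mono hWX)).op ≫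
        j0.appLE (𝒜.toQCAlg.π ⁻¹ᵁ W) W hleW =
        j0.appLE (𝒜.toQCAlg.π ⁻¹ᵁ X₁) W (hWX.trans hle) := Scheme.Hom.map_appLE _ _ _
    have e3 := GrauertSec.section_appLE 𝒜.toQCAlg aug j0 hj0.chart W hW hleW
    have n1 := 𝒜.toQCAlg.gammaMap.naturality (homOfLE hWX).op
    rw [𝒜.toQCAlg.gammaMap_app W hW] at n1
    have c1 := congr($(e1).hom b)
    have c2 := congr($(e2).hom b)
    have c3 := congr($(e3).hom ((𝒜.toQCAlg.spec.presheaf.map (homOfLE (𝒜.toQCAlg.π.preimage_mono hWX)).op).hom b))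
    have c4 := congr($(n1).hom b)
    have hdeg := hτ W hW hWX
    obtain ⟨k', rfl⟩ : ∃ k', k = k' + 1 := ⟨k - 1, by omega⟩
    have hz := haug W hW k' _ hdeg
    calc (X.presheaf.map (homOfLE hWX).op).hom ((j0.appLE (𝒜.toQCAlg.π ⁻¹ᵁ X₁) X₁ hle).hom b)
        = (j0.appLE (𝒜.toQCAlg.π ⁻¹ᵁ X₁) W (hWX.trans hle)).hom b := c1
      _ = (j0.appLE (𝒜.toQCAlg.π ⁻¹ᵁ W) W hleW).hom
            ((𝒜.toQCAlg.spec.presheaf.map (homOfLE (𝒜.toQCAlg.π.preimage_mono hWX)).op).hom b) := c2.symm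
      _ = (aug.hom.app (op W)).hom ((𝒜.toQCAlg.gammaAff W hW).hom
            ((𝒜.toQCAlg.spec.presheaf.map (homOfLE (𝒜.toQCAlg.π.preimage_mono hWX)).op).hom b)) := c3
      _ = (aug.hom.app (op W)).hom (rS 𝒜 hWX ((𝒜.toQCAlg.gammaMap.app (op X₁)).hom b)) := by
          congr 1
      _ = 0 := hz

include hA hL h0 haug hj0 in
/-- the nonvanishing locus of a homogeneous function of positive degree with affine nonvanishing locus on the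
base is affine -/
theorem isAffineOpen_basicOpen_of_locDeg (k : ℕ) (hk : 0 < k) (X₁ : X.Opens)
    (b : Γ(𝒜.toQCAlg.spec, 𝒜.toQCAlg.π ⁻¹ᵁ X₁))
    (hτ : LocDeg 𝒜 k X₁ ((𝒜.toQCAlg.gammaMap.app (op X₁)).hom b))
    (haff : IsAffineOpen (NVloc 𝒜 k X₁ ((𝒜.toQCAlg.gammaMap.app (op X₁)).hom b))) :
    IsAffineOpen (𝒜.toQCAlg.spec.basicOpen b) := by
  set W₀ := NVloc 𝒜 k X₁ ((𝒜.toQCAlg.gammaMap.app (op X₁)).hom b) with hW₀
  have hW₀X : W₀ ≤ X₁ := NVloc_le _ _ _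
  have hle : 𝒜.toQCAlg.spec.basicOpen b ≤ 𝒜.toQCAlg.π ⁻¹ᵁ W₀ := by
    intro v hv
    have hvX : 𝒜.toQCAlg.π v ∈ X₁ := 𝒜.toQCAlg.spec.basicOpen_le b hv
    exact ((mem_basicOpen_iff_of_locDeg hA hL h0 aug haug j0 hj0 k hk X₁ b hτ v hvX).1 hv).2
  have haffπ : IsAffineOpen (𝒜.toQCAlg.π ⁻¹ᵁ W₀) := haff.preimage 𝒜.toQCAlg.π
  let b' : Γ(𝒜.toQCAlg.spec, 𝒜.toQCAlg.π ⁻¹ᵁ W₀) :=
    (𝒜.toQCAlg.spec.presheaf.map (homOfLE (𝒜.toQCAlg.π.preimage_mono hW₀X)).op).hom b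
  have h1 : 𝒜.toQCAlg.spec.basicOpen b' = 𝒜.toQCAlg.π ⁻¹ᵁ W₀ ⊓ 𝒜.toQCAlg.spec.basicOpen b :=
    Scheme.basicOpen_res _ _ _
  have h2 : 𝒜.toQCAlg.spec.basicOpen b' = 𝒜.toQCAlg.spec.basicOpen b := by
    rw [h1]; exact inf_eq_right.2 hle
  rw [← h2]
  exact haffπ.basicOpen b'

include hA hL h0 haug hj0 in
/-- the complement of the zero section is quasi-compact over the base -/
theorem quasiCompact_compl_zeroSection (V0 : 𝒜.toQCAlg.spec.Opens)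
    (hV0 : (V0 : Set 𝒜.toQCAlg.spec) = (Set.range j0.base)ᶜ) :
    QuasiCompact (V0.ι ≫ 𝒜.toQCAlg.π) := by
  choose W g hxW hW hg using GenLocus.exists_isGen_affine L hL
  have hcov : ⨆ x : X, ((⟨W x, hW x⟩ : X.affineOpens) : X.Opens) = ⊤ := by
    refine top_le_iff.1 fun x _ => ?_
    exact Opens.mem_iSup.2 ⟨x, hxW x⟩
  rw [HasAffineProperty.iff_of_iSup_eq_top (P := @QuasiCompact) (fun x : X => (⟨W x, hW x⟩ : X.affineOpens)) hcov]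
  intro x
  show CompactSpace ↥((V0.ι ≫ 𝒜.toQCAlg.π) ⁻¹ᵁ (W x))
  refine isCompact_iff_compactSpace.1 ?_
  rw [V0.ι.isOpenEmbedding.isEmbedding.isCompact_iff]
  have hset : V0.ι '' (((V0.ι ≫ 𝒜.toQCAlg.π) ⁻¹ᵁ (W x) : (V0 : Scheme.{u}).Opens) : Set ↥(V0 : Scheme.{u})) =
      (𝒜.toQCAlg.ι (W x) (hW x)) ''
        ((PrimeSpectrum.basicOpen (asR 𝒜.toQCAlg (j.app (W x) (g x))) :
          TopologicalSpace.Opens (PrimeSpectrum (𝒜.presheaf.obj (op (W x))))) :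
            Set (PrimeSpectrum (𝒜.presheaf.obj (op (W x))))) := by
    ext v
    constructor
    · rintro ⟨v₀, hv₀, rfl⟩
      have hπ : 𝒜.toQCAlg.π (V0.ι v₀) ∈ W x := hv₀
      obtain ⟨P, hP⟩ := (Groth.Agent.Lib.Helper28.ConeImm.mem_range_ι_iff 𝒜 (hW x) (V0.ι v₀)).2 hπ
      refine ⟨P, ?_, hP⟩
      have hnot : V0.ι v₀ ∉ Set.range j0 := by
        have : V0.ι v₀ ∈ (V0 : Set 𝒜.toQCAlg.spec) := v₀.2
        rw [hV0] at this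
        exact this
      rw [← hP, Groth.Agent.Lib.Helper27.ConeVertex.ι_mem_range_iff 𝒜 aug h0 haug j0 hj0 (W x) (hW x) P] at hnot
      intro ht
      apply hnot
      exact (irrelevant_le_iff hA (hW x) (hg x) P.asIdeal).2 ht
    · rintro ⟨P, hP, rfl⟩
      have hnot : (𝒜.toQCAlg.ι (W x) (hW x)) P ∉ Set.range j0 := by
        rw [Groth.Agent.Lib.Helper27.ConeVertex.ι_mem_range_iff 𝒜 aug h0 haug j0 hj0 (W x) (hW x) P]
        intro hle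
        exact hP ((irrelevant_le_iff hA (hW x) (hg x) P.asIdeal).1 hle)
      have hmem : (𝒜.toQCAlg.ι (W x) (hW x)) P ∈ (V0 : Set 𝒜.toQCAlg.spec) := by
        rw [hV0]; exact hnot
      refine ⟨⟨_, hmem⟩, ?_, rfl⟩
      show 𝒜.toQCAlg.π ((𝒜.toQCAlg.ι (W x) (hW x)) P) ∈ W x
      exact (Groth.Agent.Lib.Helper28.ConeImm.mem_range_ι_iff 𝒜 (hW x) _).1 ⟨P, rfl⟩
  rw [hset]
  exact (PrimeSpectrum.isCompact_basicOpen _).image (𝒜.toQCAlg.ι (W x) (hW x)).continuous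

end cone

end Groth.Agent.Lib.Helper28.Grauert
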