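import Groth.Agent.Lib.Helper28.GrauertCoef
import Groth.Agent.Lib.Helper28.AmpleLocal
import Groth.Agent.Lib.Helper28.AmpleBasis

/-!
# Grauert's criterion, sufficiency: a contraction of the zero section forces ampleness (helper28)
-/

set_option autoImplicit false
universe u
open CategoryTheory CategoryTheory.Limits AlgebraicGeometry Opposite TopologicalSpace
noncomputable section

namespace Groth.Agent.Lib.Helper28.Grauert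

open Groth.Agent.Lib.Helper28 Groth.Agent.Lib.Helper28.QCohLoc Groth.Agent.Lib.Helper28.TraceAlg
open Groth.Agent.Lib.Helper28.GenLocus Groth.Agent.Lib.Helper28.SymAlg Groth.Agent.Lib.Helper28.AmpleUnit
open Groth.Agent.Lib.Helper28.RLPsi Groth.Agent.Lib.Helper28.SymPow

attribute [local instance] algAt

variable {X Y C : Scheme.{u}} (p : X ⟶ Y) [QuasiCompact p]
  {L : X.Modules} [L.IsQuasicoherent] (hL : PicF.IsInvertible L)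
  {𝒜 : RelProj.QCGrAlg X} {j : L ⟶ 𝒜.toModule} (hA : RelProj.IsGrSymAlg L 𝒜 j)
  (h0 : RelCone.StrZeroBij 𝒜) (aug : 𝒜.toQCAlg ⟶ RelSpec.QCAlg.unit X) (haug : RelCone.IsAugmentation 𝒜 aug)
  (j0 : X ⟶ 𝒜.toQCAlg.spec) (hj0 : RelCone.IsVertex 𝒜 aug j0)
  (V0 : 𝒜.toQCAlg.spec.Opens) (hV0 : (V0 : Set 𝒜.toQCAlg.spec) = (Set.range j0.base)ᶜ)
  (ε : Y ⟶ C) (q : 𝒜.toQCAlg.spec ⟶ C) (hjq : j0 ≫ q = p ≫ ε)

include hL hA h0 haug hj0 hV0 hjq in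
/-- **Grauert's criterion, sufficiency** -/
theorem isRelAmple_of_contraction [IsOpenImmersion (V0.ι ≫ q)]
    (hdisj : Set.range (V0.ι ≫ q).base ∩ Set.range ε.base = ∅) : RelAmple.IsRelAmple p L := by
  classical
  have hemb := (V0.ι ≫ q).isOpenEmbedding
  refine AmpleLocal.isRelAmple_of_forall_exists p L (fun y => ?_)
  obtain ⟨_, ⟨WC, hWC, rfl⟩, hεy, -⟩ := C.isBasis_affineOpens.exists_subset_of_mem_open
    (Set.mem_univ (ε y)) isOpen_univ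
  refine ⟨ε ⁻¹ᵁ WC, hεy, fun VY hVY hVYle => ?_⟩
  let X₁ : X.Opens := p ⁻¹ᵁ VY
  let T : 𝒜.toQCAlg.spec.Opens := q ⁻¹ᵁ WC
  have hqj : ∀ x : X, q (j0 x) = ε (p x) := by
    intro x
    rw [← Scheme.Hom.comp_apply, hjq, Scheme.Hom.comp_apply]
  have hX₁ : ∀ x ∈ X₁, j0 x ∈ T := by
    intro x hx
    show q (j0 x) ∈ WC
    rw [hqj]
    exact hVYle hx
  have hT := fun (U : X.Opens) (hU : IsAffineOpen U) (hUX : U ≤ X₁) =>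
    hTU h0 aug haug j0 hj0 T X₁ hX₁ U hU hUX
  haveI : CompactSpace ↥(X₁ : Scheme.{u}) :=
    isCompact_iff_compactSpace.1 (p.isCompact_preimage hVY.isCompact)
  have hLr := AmpleIso.isInvertible_restrict X₁.ι L hL
  rw [GenLocus.isAmple_iff_isBasis (L.restrict X₁.ι) hLr, Opens.isBasis_iff_nbhd]
  intro N₁ x₁ hx₁
  let N : X.Opens := X₁.ι ''ᵁ N₁
  let x : X := X₁.ι x₁
  have hxX₁ : x ∈ X₁ := x₁.2
  have hxN : x ∈ N := ⟨x₁, hx₁, rfl⟩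
  obtain ⟨d, hdU⟩ := exists_etaData hA hL h0 aug haug j0 hj0 x X₁ hxX₁
  let η : 𝒜.toQCAlg.spec := (𝒜.toQCAlg.ι d.U d.hU) d.P
  have hηT : η ∈ T :=
    GrTaylorSpec.mem_of_le (𝒜.deg d.U d.hU) (TU T d.U d.hU) (hT d.U d.hU hdU) d.P₀ d.P d.hle d.hI
  have hmemV0 : ∀ v : 𝒜.toQCAlg.spec, v ∉ Set.range j0 → v ∈ V0 := by
    intro v hv
    show v ∈ (V0 : Set 𝒜.toQCAlg.spec)
    rw [hV0]
    exact hv
  have hηV0 : η ∈ V0 := hmemV0 η d.hnot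
  -- the open set `O'`
  let O' : C.Opens := ⟨(V0.ι ≫ q) '' ((V0.ι ≫ 𝒜.toQCAlg.π) ⁻¹' (N : Set X)),
    hemb.isOpenMap _ (N.isOpen.preimage (V0.ι ≫ 𝒜.toQCAlg.π).continuous)⟩
  have hO' : ∀ c : C, c ∈ O' ↔ ∃ v : 𝒜.toQCAlg.spec, v ∈ V0 ∧ 𝒜.toQCAlg.π v ∈ N ∧ q v = c := by
    intro c
    constructor
    · rintro ⟨v₀, hv₀, rfl⟩
      exact ⟨V0.ι v₀, v₀.2, hv₀, rfl⟩
    · rintro ⟨v, hv, hvN, rfl⟩
      exact ⟨⟨v, hv⟩, hvN, rfl⟩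
  have hqη : q η ∈ O' := (hO' _).2 ⟨η, hηV0, by rw [d.hπ]; exact hxN, rfl⟩
  obtain ⟨h, hhO, hhη⟩ := hWC.exists_basicOpen_le (V := O') ⟨q η, hqη⟩ hηT
  let φ : Γ(𝒜.toQCAlg.spec, T) := q.app WC h
  have hpre : 𝒜.toQCAlg.spec.basicOpen φ = q ⁻¹ᵁ C.basicOpen h := (Scheme.preimage_basicOpen q h).symm
  obtain ⟨τ, hloc, hτ⟩ := exists_coef_sections hA hL j0 T X₁ φ hT
  obtain ⟨-, hiff, hzero⟩ := hτ x d hdU
  have hηφ : η ∈ 𝒜.toQCAlg.spec.basicOpen φ := by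
    rw [hpre]; exact hhη
  obtain ⟨k, hk⟩ := hiff.1 hηφ
  -- disjointness from the vertex
  have hnotO : ∀ y' : Y, ε y' ∉ O' := by
    intro y' hy'
    obtain ⟨v, hv, -, hvq⟩ := (hO' _).1 hy'
    have : ε y' ∈ Set.range (V0.ι ≫ q).base ∩ Set.range ε.base := ⟨⟨⟨v, hv⟩, hvq⟩, ⟨y', rfl⟩⟩
    rw [hdisj] at this
    exact this
  have hk0 : k ≠ 0 := by
    rintro rfl
    have h1 := hzero hk
    rw [hpre] at h1
    have h2 : q (j0 x) ∈ C.basicOpen h := h1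
    rw [hqj] at h2
    exact hnotO _ (hhO h2)
  obtain ⟨n, rfl⟩ : ∃ n, k = n + 1 := ⟨k - 1, by omega⟩
  obtain ⟨s, hs⟩ := exists_section_of_locDeg hA hL (n + 1) X₁ (τ (n + 1)) (hloc (n + 1))
  refine ⟨_, ⟨n, s, rfl⟩, ?_, ?_⟩
  · rw [hs]
    exact hk
  · intro z₁ hz₁
    rw [hs] at hz₁
    let z : X := X₁.ι z₁
    have hz : z ∈ NVloc 𝒜 (n + 1) X₁ (τ (n + 1)) := hz₁
    obtain ⟨d', hd'U⟩ := exists_etaData hA hL h0 aug haug j0 hj0 z X₁ z₁.2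
    obtain ⟨-, hiff', -⟩ := hτ z d' hd'U
    have h1 := hiff'.2 ⟨n + 1, hz⟩
    rw [hpre] at h1
    have h2 : q ((𝒜.toQCAlg.ι d'.U d'.hU) d'.P) ∈ O' := hhO h1
    obtain ⟨v, hv, hvN, hvq⟩ := (hO' _).1 h2
    have hη'V0 : (𝒜.toQCAlg.ι d'.U d'.hU) d'.P ∈ V0 := hmemV0 _ d'.hnot
    have h3 : (⟨v, hv⟩ : V0) = ⟨(𝒜.toQCAlg.ι d'.U d'.hU) d'.P, hη'V0⟩ := hemb.injective hvq
    have h4 : v = (𝒜.toQCAlg.ι d'.U d'.hU) d'.P := congrArg Subtype.val h3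
    rw [h4, d'.hπ] at hvN
    obtain ⟨z₁', hz₁', hz₁z⟩ := hvN
    have h5 : z₁' = z₁ := X₁.ι.isOpenEmbedding.injective hz₁z
    rw [← h5]
    exact hz₁'

end Groth.Agent.Lib.Helper28.Grauert
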