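import Groth.Agent.Lib.Helper28.SymPowG
import Groth.Agent.Lib.Helper27.ConeVertex

/-!
# Generic points of the fibres of a line bundle minus the zero section (helper28)

For `V = Spec(Sym L)` over `X` and a point `x` of `X`: the generic point `η_x` of the fibre `π⁻¹(x) ≅ A¹`,
with the properties used in the proof of Grauert's ampleness criterion.
-/

set_option autoImplicit false
universe u
open CategoryTheory CategoryTheory.Limits AlgebraicGeometry Opposite TopologicalSpace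
noncomputable section

namespace Groth.Agent.Lib.Helper28.Grauert

open Groth.Agent.Lib.Helper28 Groth.Agent.Lib.Helper28.QCohLoc Groth.Agent.Lib.Helper28.TraceAlg
open Groth.Agent.Lib.Helper28.GenLocus Groth.Agent.Lib.Helper28.SymAlg Groth.Agent.Lib.Helper28.AmpleUnit
open Groth.Agent.Lib.Helper28.RLPsi Groth.Agent.Lib.Helper28.SymPow

attribute [local instance] algAt

/-- the data of the generic point of the fibre over `x` of the line bundle, read in an affine chart -/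
structure EtaData {X : Scheme.{u}} (𝒜 : RelProj.QCGrAlg X) (j0 : X ⟶ 𝒜.toQCAlg.spec) (x : X) where
  U : X.Opens
  hU : IsAffineOpen U
  hx : x ∈ U
  P : Spec (𝒜.presheaf.obj (op U))
  P₀ : Spec (𝒜.presheaf.obj (op U))
  hle : P.asIdeal ≤ P₀.asIdeal
  hI : (HomogeneousIdeal.irrelevant (𝒜.deg U hU)).toIdeal ≤ P₀.asIdeal
  hPh : P.asIdeal.IsHomogeneous (𝒜.deg U hU)
  hj0 : j0 x = (𝒜.toQCAlg.ι U hU) P₀
  hπ : 𝒜.toQCAlg.π ((𝒜.toQCAlg.ι U hU) P) = x
  hnot : (𝒜.toQCAlg.ι U hU) P ∉ Set.range j0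
  hNV : ∀ (k : ℕ) (c : 𝒜.presheaf.obj (op U)), c ∈ 𝒜.deg U hU k → (c ∈ P.asIdeal ↔ x ∉ NVloc 𝒜 k U c)
  hdeg0 : ∀ c : 𝒜.presheaf.obj (op U), c ∈ 𝒜.deg U hU 0 → c ∈ P₀.asIdeal → c ∈ P.asIdeal

section eta

variable {X : Scheme.{u}} {L : X.Modules} [L.IsQuasicoherent]
  {𝒜 : RelProj.QCGrAlg X} {j : L ⟶ 𝒜.toModule} (hA : RelProj.IsGrSymAlg L 𝒜 j) (hL : PicF.IsInvertible L)
  (h0 : RelCone.StrZeroBij 𝒜) (aug : 𝒜.toQCAlg ⟶ RelSpec.QCAlg.unit X) (haug : RelCone.IsAugmentation 𝒜 aug)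
  (j0 : X ⟶ 𝒜.toQCAlg.spec) (hj0 : RelCone.IsVertex 𝒜 aug j0)

include hA hL h0 haug hj0 in
theorem exists_etaData (x : X) (W : X.Opens) (hxW : x ∈ W) : ∃ d : EtaData 𝒜 j0 x, d.U ≤ W := by
  classical
  obtain ⟨U, g, hxU, hU, hg, hUW⟩ := exists_isGen_affine_le hL x W hxW
  obtain ⟨y, hy⟩ : ∃ y : Spec Γ(X, U), hU.fromSpec y = x := by
    have : x ∈ Set.range hU.fromSpec := by rw [hU.range_fromSpec]; exact hxU
    exact this
  let 𝔭 : Ideal Γ(X, U) := PrimeSpectrum.asIdeal (show PrimeSpectrum Γ(X, U) from y)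
  haveI h𝔭 : 𝔭.IsPrime := PrimeSpectrum.isPrime (show PrimeSpectrum Γ(X, U) from y)
  let K := 𝔭.ResidueField
  let augU : 𝒜.presheaf.obj (op U) →+* Γ(X, U) := (aug.hom.app (op U)).hom
  have haugstr : ∀ r : Γ(X, U), augU ((𝒜.str.app (op U)).hom r) = r :=
    fun r => Groth.Agent.Lib.Helper27.ConeVertex.aug_str_apply 𝒜 aug U r
  have haugpos : ∀ (d : ℕ) (a : 𝒜.presheaf.obj (op U)), a ∈ 𝒜.deg U hU (d + 1) → augU a = 0 :=
    fun d a ha => haug U hU d a ha
  have hK : ∀ b : Γ(X, U), algebraMap Γ(X, U) K b = 0 ↔ b ∈ 𝔭 :=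
    fun b => Ideal.algebraMap_residueField_eq_zero
  have hbo : ∀ b : Γ(X, U), x ∈ X.basicOpen b ↔ b ∉ 𝔭 := by
    intro b
    have h1 := hU.fromSpec_preimage_basicOpen b
    have h2 : y ∈ hU.fromSpec ⁻¹ᵁ X.basicOpen b ↔ b ∉ 𝔭 := by
      rw [h1]
      exact Iff.rfl
    rw [← hy]
    exact h2
  let σ : Γ(X, U) →+* Polynomial K := (Polynomial.C).comp (algebraMap Γ(X, U) K)
  let lam : Γ(L, U) →+ Polynomial K :=
    { toFun := fun m => Polynomial.C (algebraMap Γ(X, U) K (hg.coef le_rfl m)) * Polynomial.X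
      map_zero' := by
        have h := hg.coef_smul_left le_rfl 0 0
        rw [zero_smul, zero_mul] at h
        rw [h, map_zero, map_zero, zero_mul]
      map_add' := fun m m' => by
        rw [hg.coef_add le_rfl, map_add, map_add, add_mul] }
  have hlam : ∀ (a : Γ(X, U)) (m : Γ(L, U)), lam (a • m) = σ a * lam m := by
    intro a m
    show Polynomial.C (algebraMap Γ(X, U) K (hg.coef le_rfl (a • m : Γ(L, U)))) * Polynomial.X =
      Polynomial.C (algebraMap Γ(X, U) K a) * (Polynomial.C (algebraMap Γ(X, U) K (hg.coef le_rfl m)) * Polynomial.X)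
    rw [hg.coef_smul_left le_rfl, map_mul, map_mul, mul_assoc]
  obtain ⟨EV, hEV1, hEV2⟩ := exists_ringHom_sec hA.1 U hU σ lam hlam
  let t : 𝒜.presheaf.obj (op U) := asR 𝒜.toQCAlg (j.app U g)
  have ht1 : t ∈ 𝒜.deg U hU 1 := hA.2 U hU g
  have hEVt : EV t = Polynomial.X := by
    rw [hEV2 g]
    show Polynomial.C (algebraMap Γ(X, U) K (hg.coef le_rfl g)) * Polynomial.X = Polynomial.X
    rw [hg.coef_self, map_one, map_one, one_mul]
  have hEVstr : ∀ b : Γ(X, U), EV ((𝒜.str.app (op U)).hom b) = Polynomial.C (algebraMap Γ(X, U) K b) := hEV1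
  have hdeg : ∀ (k : ℕ) (c : 𝒜.presheaf.obj (op U)), c ∈ 𝒜.deg U hU k →
      ∃ b : Γ(X, U), c = (𝒜.str.app (op U)).hom b * t ^ k ∧
        EV c = Polynomial.C (algebraMap Γ(X, U) K b) * Polynomial.X ^ k := by
    intro k c hc
    obtain ⟨b, hb⟩ := exists_eq_str_mul_pow hA hU hg k c hc
    refine ⟨b, hb, ?_⟩
    rw [hb, map_mul, map_pow, hEVstr]
    show _ * EV t ^ k = _
    rw [hEVt]
  -- comparison with the augmentation
  have hcmp : (Polynomial.constantCoeff).comp EV = (algebraMap Γ(X, U) K).comp augU := by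
    refine ringHom_ext_sec hA.1 U hU _ _ (fun a => ?_) (fun m => ?_)
    · show Polynomial.constantCoeff (EV ((𝒜.str.app (op U)).hom a)) =
        algebraMap Γ(X, U) K (augU ((𝒜.str.app (op U)).hom a))
      rw [hEVstr, haugstr]
      show (Polynomial.C (algebraMap Γ(X, U) K a)).coeff 0 = _
      rw [Polynomial.coeff_C_zero]
    · show Polynomial.constantCoeff (EV (asR 𝒜.toQCAlg (j.app U m))) =
        algebraMap Γ(X, U) K (augU (asR 𝒜.toQCAlg (j.app U m)))
      rw [hEV2 m, haugpos 0 _ (hA.2 U hU m), RingHom.map_zero]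
      show Polynomial.constantCoeff
        (Polynomial.C (algebraMap Γ(X, U) K (hg.coef le_rfl m)) * (Polynomial.X : Polynomial K)) = 0
      show (Polynomial.C (algebraMap Γ(X, U) K (hg.coef le_rfl m)) * (Polynomial.X : Polynomial K)).coeff 0 = 0
      rw [Polynomial.coeff_C_mul, Polynomial.coeff_X_zero, mul_zero]
  let P : Spec (𝒜.presheaf.obj (op U)) := ⟨RingHom.ker EV, RingHom.ker_isPrime EV⟩
  let P₀ : Spec (𝒜.presheaf.obj (op U)) := Spec.map (aug.hom.app (op U)) y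
  have hP : ∀ a, a ∈ P.asIdeal ↔ EV a = 0 := fun a => RingHom.mem_ker
  have hP₀ : ∀ a, a ∈ P₀.asIdeal ↔ augU a ∈ 𝔭 := fun a => Iff.rfl
  refine ⟨⟨U, hU, hxU, P, P₀, ?_, ?_, ?_, ?_, ?_, ?_, ?_, ?_⟩, hUW⟩
  · -- hle
    intro a ha
    rw [hP₀, ← hK]
    have h1 := congrArg (fun F => F a) hcmp
    simp only [RingHom.comp_apply] at h1
    rw [← h1, (hP a).1 ha, map_zero]
  · -- hI
    intro a ha
    rw [hP₀, Groth.Agent.Lib.Helper27.ConeVertex.aug_eq_zero_of_mem_irrelevant (𝒜.deg U hU)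
      augU haugpos ha]
    exact 𝔭.zero_mem
  · -- homogeneous
    intro n a ha
    rw [hP] at ha ⊢
    have hch : ∀ i : ℕ, ∃ b : Γ(X, U),
        EV ((DirectSum.decompose (𝒜.deg U hU) a i : 𝒜.presheaf.obj (op U))) =
          Polynomial.C (algebraMap Γ(X, U) K b) * Polynomial.X ^ i := by
      intro i
      obtain ⟨b, -, hb⟩ := hdeg i _ (DirectSum.decompose (𝒜.deg U hU) a i).2
      exact ⟨b, hb⟩
    choose b hb using hch
    have hsum : EV a = ∑ i ∈ (DirectSum.decompose (𝒜.deg U hU) a).support,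
        Polynomial.C (algebraMap Γ(X, U) K (b i)) * Polynomial.X ^ i := by
      conv_lhs => rw [← DirectSum.sum_support_decompose (𝒜.deg U hU) a]
      rw [map_sum]
      exact Finset.sum_congr rfl fun i _ => hb i
    have hcoef := congrArg (fun p => Polynomial.coeff p n) hsum
    simp only [ha, Polynomial.coeff_zero, Polynomial.finsetSum_coeff, Polynomial.coeff_C_mul_X_pow] at hcoef
    rw [Finset.sum_ite_eq] at hcoef
    by_cases hn : n ∈ (DirectSum.decompose (𝒜.deg U hU) a).support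
    · rw [if_pos hn] at hcoef
      rw [hb n, ← hcoef, map_zero, zero_mul]
    · have h1 : DirectSum.decompose (𝒜.deg U hU) a n = 0 := DFinsupp.notMem_support_iff.1 hn
      rw [h1, ZeroMemClass.coe_zero, map_zero]
  · -- hj0
    rw [← hy, ← Scheme.Hom.comp_apply, hj0.chart U hU]
    rfl
  · -- hπ
    rw [← Scheme.Hom.comp_apply, 𝒜.toQCAlg.ι_π U hU, Scheme.Hom.comp_apply, ← hy]
    congr 1
    apply PrimeSpectrum.ext
    ext b
    show (𝒜.str.app (op U)).hom b ∈ P.asIdeal ↔ b ∈ 𝔭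
    rw [hP, hEVstr, ← hK, Polynomial.C_eq_zero]
  · -- hnot
    rw [Groth.Agent.Lib.Helper27.ConeVertex.ι_mem_range_iff 𝒜 aug h0 haug j0 hj0 U hU P]
    intro hmem
    have ht : t ∈ (HomogeneousIdeal.irrelevant (𝒜.deg U hU)).toIdeal :=
      HomogeneousIdeal.mem_irrelevant_of_mem _ Nat.one_pos ht1
    have h1 : t ∈ P.asIdeal := hmem ht
    rw [hP, hEVt] at h1
    exact Polynomial.X_ne_zero h1
  · -- hNV
    intro k c hc
    obtain ⟨b, hcb, hEVc⟩ := hdeg k c hc
    have hb' : rS 𝒜 (le_refl U) c = (𝒜.str.app (op U)).hom b * asR 𝒜.toQCAlg (j.app U g) ^ k := by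
      rw [rS_self]; exact hcb
    rw [mem_NVloc_iff_mem_basicOpen hA k U c hU hg (le_refl U) b hb' x hxU, hbo, not_not, hP, hEVc, ← hK]
    constructor
    · intro h
      by_contra hne
      exact (mul_ne_zero (Polynomial.C_ne_zero.2 hne) (pow_ne_zero k Polynomial.X_ne_zero)) h
    · intro h
      rw [h, map_zero, zero_mul]
  · -- hdeg0
    intro c hc hcP₀
    obtain ⟨b, hcb, hEVc⟩ := hdeg 0 c hc
    rw [hP₀, hcb, pow_zero, mul_one, haugstr] at hcP₀
    rw [hP, hEVc, (hK b).2 hcP₀, map_zero, zero_mul]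

end eta

end Groth.Agent.Lib.Helper28.Grauert
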