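import Groth.Agent.Lib.Helper28.GrauertLI
import Groth.Agent.Lib.Helper28.GrTaylorSpec
import Groth.Prelude.Def_RelSpec

/-!
# Morphisms to a relative spectrum inducing isomorphisms on functions (helper28)
-/

set_option autoImplicit false
universe u
open CategoryTheory CategoryTheory.Limits AlgebraicGeometry Opposite TopologicalSpace
noncomputable section

namespace Groth.Agent.Lib.Helper28.GrauertFactor

/-- a morphism inducing isomorphisms on sections over a basis of the target induces isomorphisms on all sections -/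
theorem isIso_app_of_basis {T C : Scheme.{u}} (t : T ⟶ C) {ι : Type*} (B : ι → C.Opens)
    (hB : Opens.IsBasis (Set.range B)) (h : ∀ i, IsIso (t.app (B i))) (W : C.Opens) : IsIso (t.app W) := by
  let F : TopCat.Sheaf CommRingCat C.carrier := C.sheaf
  let G : TopCat.Sheaf CommRingCat C.carrier := (TopCat.Sheaf.pushforward CommRingCat t.base).obj T.sheaf
  let φ : F ⟶ G := ⟨t.c⟩
  have hφ : IsIso φ := TopCat.Sheaf.isIso_iff_isIso_basis (B := B) hB (fun i => h i)
  have h1 : IsIso φ.hom :=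
    @Functor.map_isIso _ _ _ _ _ _ (TopCat.Sheaf.forget CommRingCat C.carrier) φ hφ
  exact (NatIso.isIso_app_of_isIso φ.hom (op W) : IsIso (φ.hom.app (op W)))


/-- localization: if `t^♯` is bijective over an affine open `G` with quasi-compact quasi-separated preimage, it is
bijective over every basic open of `G` -/
theorem isIso_app_basicOpen {T C : Scheme.{u}} (t : T ⟶ C) (G : C.Opens) (hG : IsAffineOpen G)
    (hRc : IsCompact ((t ⁻¹ᵁ G : T.Opens) : Set T)) (hRqs : IsQuasiSeparated ((t ⁻¹ᵁ G : T.Opens) : Set T))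
    (h : IsIso (t.app G)) (s : Γ(C, G)) : IsIso (t.app (C.basicOpen s)) := by
  have hbij : Function.Bijective (t.app G).hom := (ConcreteCategory.isIso_iff_bijective _).1 h
  set φ := t.app G with hφdef
  have hpre : t ⁻¹ᵁ C.basicOpen s = T.basicOpen (φ.hom s) := Scheme.preimage_basicOpen t s
  have hle : T.basicOpen (φ.hom s) ≤ t ⁻¹ᵁ C.basicOpen s := le_of_eq hpre.symm
  have hDG : C.basicOpen s ≤ G := C.basicOpen_le s
  have hWR : T.basicOpen (φ.hom s) ≤ t ⁻¹ᵁ G := T.basicOpen_le _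
  let φ' := t.appLE (C.basicOpen s) (T.basicOpen (φ.hom s)) hle
  let lA : Γ(C, G) →+* Γ(C, C.basicOpen s) := (C.presheaf.map (homOfLE hDG).op).hom
  let lB : Γ(T, t ⁻¹ᵁ G) →+* Γ(T, T.basicOpen (φ.hom s)) := (T.presheaf.map (homOfLE hWR).op).hom
  have hcomm : φ'.hom.comp lA = lB.comp φ.hom := by
    have e1 : C.presheaf.map (homOfLE hDG).op ≫ t.appLE (C.basicOpen s) (T.basicOpen (φ.hom s)) hle =
        t.appLE G (T.basicOpen (φ.hom s)) hWR := Scheme.Hom.map_appLE _ _ _
    have e2 : t.appLE G (t ⁻¹ᵁ G) le_rfl ≫ T.presheaf.map (homOfLE hWR).op =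
        t.appLE G (T.basicOpen (φ.hom s)) hWR := Scheme.Hom.appLE_map _ _ _
    have e0 : t.appLE G (t ⁻¹ᵁ G) le_rfl = φ := (Scheme.Hom.app_eq_appLE _).symm
    rw [e0] at e2
    exact congrArg CommRingCat.Hom.hom (e1.trans e2.symm)
  have hA : @IsLocalization.Away _ _ s Γ(C, C.basicOpen s) _ lA.toAlgebra := hG.isLocalization_basicOpen s
  have hB : @IsLocalization.Away _ _ (φ.hom s) Γ(T, T.basicOpen (φ.hom s)) _ lB.toAlgebra :=
    isLocalization_basicOpen_of_qcqs hRc hRqs (φ.hom s)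
  have hbij' : Function.Bijective φ'.hom := by
    refine PBLoc.bijective_of_away φ.hom φ'.hom lA lB hcomm s hA hB ?_ ?_
    · intro a ha
      have : a = 0 := hbij.1 (by rw [ha, map_zero])
      rw [this, mul_zero]
    · intro b
      obtain ⟨a, ha⟩ := hbij.2 (φ.hom s * b)
      exact ⟨a, ha⟩
  have hiso' : IsIso φ' := (ConcreteCategory.isIso_iff_bijective φ').2 hbij'
  have h2 : IsIso (t.appLE (C.basicOpen s) (t ⁻¹ᵁ C.basicOpen s) le_rfl) :=
    (t.appLE_congr hle rfl hpre.symm (fun ψ => IsIso ψ)).1 hiso'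
  rw [Scheme.Hom.app_eq_appLE]
  exact h2

/-- **a morphism to a relative spectrum which is an isomorphism on functions over the affine opens of the base is an
isomorphism on functions over every open** -/
theorem isIso_app_of_charts {Y T : Scheme.{u}} (D : RelSpec.QCAlg Y) (t : T ⟶ D.spec)
    [QuasiCompact (t ≫ D.π)] [QuasiSeparated (t ≫ D.π)]
    (h : ∀ (U : Y.Opens), IsAffineOpen U → IsIso (t.app (D.π ⁻¹ᵁ U))) (W : D.spec.Opens) :
    IsIso (t.app W) := by
  let ι := Σ U : Y.affineOpens, Γ(D.spec, D.π ⁻¹ᵁ U.1)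
  let B : ι → D.spec.Opens := fun i => D.spec.basicOpen i.2
  have hB : Opens.IsBasis (Set.range B) := by
    rw [Opens.isBasis_iff_nbhd]
    intro W c hcW
    obtain ⟨U, hcU⟩ := TopologicalSpace.Opens.mem_iSup.mp
      ((iSup_affineOpens_eq_top Y).ge (Set.mem_univ (D.π c)))
    obtain ⟨s, hsW, hcs⟩ := (U.2.preimage D.π).exists_basicOpen_le ⟨c, hcW⟩ hcU
    exact ⟨_, ⟨⟨U, s⟩, rfl⟩, hcs, hsW⟩
  refine isIso_app_of_basis t B hB (fun i => ?_) W
  obtain ⟨U, s⟩ := i
  have hpre : t ⁻¹ᵁ (D.π ⁻¹ᵁ U.1) = (t ≫ D.π) ⁻¹ᵁ U.1 := rfl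
  refine isIso_app_basicOpen t (D.π ⁻¹ᵁ U.1) (U.2.preimage D.π) ?_ ?_ (h U.1 U.2) s
  · rw [hpre]; exact (t ≫ D.π).isCompact_preimage U.2.isCompact
  · rw [hpre]; exact (t ≫ D.π).isQuasiSeparated_preimage U.2.isQuasiSeparated

end Groth.Agent.Lib.Helper28.GrauertFactor
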