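import Groth.Agent.Lib.Helper28.GrauertProper
import Groth.Agent.Lib.Helper28.GrauertFactorA
import Groth.Agent.Lib.Helper28.AbstractDesc

set_option autoImplicit false
universe u
open CategoryTheory CategoryTheory.Limits AlgebraicGeometry Opposite TopologicalSpace
noncomputable section

namespace Groth.Agent.Lib.Helper28.GrauertFactor

open Groth.Agent.Lib.Helper28 Groth.Agent.Lib.Helper28.GrauertNec

section general

variable {X Y : Scheme.{u}} (p : X ⟶ Y) [QuasiCompact p] [QuasiSeparated p]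
  (A : RelSpec.QCAlg X) (j0 : X ⟶ A.spec) (hj0 : j0 ≫ A.π = 𝟙 X) (hθ : IsIso p.c)

include hθ in
theorem p_app_bijective (U : Y.Opens) : Function.Bijective (p.app U).hom := by
  have h1 : IsIso (p.c.app (op U)) := NatIso.isIso_app_of_isIso p.c (op U)
  exact (ConcreteCategory.isIso_iff_bijective (p.app U)).1 h1

include hθ in
/-- when `O_Y = p_* O_X`, the second projection of the contraction algebra is bijective -/
theorem pr2_bijective (U : Y.Opens) :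
    Function.Bijective ((pr2 p A j0 hj0).hom.app (op U)).hom := by
  constructor
  · intro z z' hzz'
    apply extS p A j0 hj0 U z z' _ hzz'
    apply (p_app_bijective p hθ U).1
    rw [condition p A j0 hj0 U z, condition p A j0 hj0 U z', hzz']
  · intro b
    obtain ⟨a, ha⟩ := (p_app_bijective p hθ U).2
      ((j0.appLE (r p A ⁻¹ᵁ U) (p ⁻¹ᵁ U) (le_j0 p A j0 hj0 U)).hom b)
    exact ⟨mkS p A j0 hj0 U a b ha, pr2_mkS p A j0 hj0 U a b ha⟩

include hθ in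
/-- the contraction morphism is an isomorphism on functions over every open -/
theorem isIso_qc_app (W : (Cc p A j0 hj0).Opens) : IsIso ((qc p A j0 hj0).app W) := by
  haveI : QuasiCompact (qc p A j0 hj0 ≫ (S' p A j0 hj0).π) := by
    rw [qc_gc]; infer_instance
  haveI : QuasiSeparated (qc p A j0 hj0 ≫ (S' p A j0 hj0).π) := by
    rw [qc_gc]; infer_instance
  refine isIso_app_of_charts (S' p A j0 hj0) (qc p A j0 hj0) (fun U hU => ?_) W
  have h1 : IsIso ((qc p A j0 hj0).appLE (gc p A j0 hj0 ⁻¹ᵁ U) (r p A ⁻¹ᵁ U) (le_qc p A j0 hj0 U)) := by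
    rw [qc_appLE]
    have i1 : IsIso ((S' p A j0 hj0).gammaMap.app (op U)) := by
      haveI := Groth.Agent.S8255.result (S' p A j0 hj0)
      exact NatIso.isIso_app_of_isIso _ _
    have i2 : IsIso ((pr2 p A j0 hj0).hom.app (op U)) :=
      (ConcreteCategory.isIso_iff_bijective _).2 (pr2_bijective p A j0 hj0 hθ U)
    exact @IsIso.comp_isIso _ _ _ _ _ _ _ i1 i2
  rw [Scheme.Hom.app_eq_appLE]
  exact ((qc p A j0 hj0).appLE_congr (le_qc p A j0 hj0 U) rfl (qc_preimage p A j0 hj0 U).symm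
    (fun ψ => IsIso ψ)).1 h1

include hθ in
theorem qc_app_bijective (W : (Cc p A j0 hj0).Opens) : Function.Bijective ((qc p A j0 hj0).app W).hom :=
  (ConcreteCategory.isIso_iff_bijective _).1 (isIso_qc_app p A j0 hj0 hθ W)

end general


section affineIso

open Groth.Agent.Lib.Helper4.QCAlgPushout (algHom_comp)

theorem algHom_id {X S : Scheme.{u}} (f : X ⟶ S) (w : 𝟙 X ≫ f = f) : AffAlg.algHom f f (𝟙 X) w = 𝟙 _ := by
  apply NatTrans.ext
  funext U
  have hU : U = op U.unop := rfl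
  rw [hU, GrauertSec.algHom_app_eq f f (𝟙 X) w U.unop]
  apply CommRingCat.hom_ext
  refine RingHom.ext fun s => ?_
  exact Groth.Agent.Lib.Helper28.FinQuot.appLE_id_apply (f ⁻¹ᵁ U.unop) (𝟙 X) rfl _ s

/-- two affine schemes over `S` with isomorphic direct image algebras are isomorphic -/
theorem exists_iso_of_alg_iso {X Z S : Scheme.{u}} (f : X ⟶ S) [IsAffineHom f] (g : Z ⟶ S) [IsAffineHom g]
    (ω : AffAlg.alg f ⟶ AffAlg.alg g) (ω' : AffAlg.alg g ⟶ AffAlg.alg f)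
    (hω : f.c ≫ ω = g.c) (hω' : g.c ≫ ω' = f.c) (h1 : ω ≫ ω' = 𝟙 _) (h2 : ω' ≫ ω = 𝟙 _) :
    ∃ (e : Z ≅ X) (he : e.hom ≫ f = g), AffAlg.algHom f g e.hom he = ω := by
  obtain ⟨⟨a, ha⟩, haω⟩ := (Groth.Agent.Lib.Helper4.AffAlgBij.main3569 f g).2 ⟨ω, hω⟩
  obtain ⟨⟨b, hb⟩, hbω⟩ := (Groth.Agent.Lib.Helper4.AffAlgBij.main3569 g f).2 ⟨ω', hω'⟩
  have haω' : AffAlg.algHom f g a ha = ω := congrArg Subtype.val haω
  have hbω' : AffAlg.algHom g f b hb = ω' := congrArg Subtype.val hbω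
  -- `a : Z ⟶ X`, `b : X ⟶ Z`
  have hab : a ≫ b = 𝟙 Z := by
    have w1 : (a ≫ b) ≫ g = g := by rw [Category.assoc, hb, ha]
    have w2 : 𝟙 Z ≫ g = g := Category.id_comp g
    have key : AffAlg.algOf g g ⟨a ≫ b, w1⟩ = AffAlg.algOf g g ⟨𝟙 Z, w2⟩ := by
      apply Subtype.ext
      show AffAlg.algHom g g (a ≫ b) w1 = AffAlg.algHom g g (𝟙 Z) w2
      rw [algHom_id, ← algHom_comp g f g b hb a ha, haω', hbω', h2]
    exact congrArg Subtype.val ((Groth.Agent.Lib.Helper4.AffAlgBij.main3569 g g).1 key)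
  have hba : b ≫ a = 𝟙 X := by
    have w1 : (b ≫ a) ≫ f = f := by rw [Category.assoc, ha, hb]
    have w2 : 𝟙 X ≫ f = f := Category.id_comp f
    have key : AffAlg.algOf f f ⟨b ≫ a, w1⟩ = AffAlg.algOf f f ⟨𝟙 X, w2⟩ := by
      apply Subtype.ext
      show AffAlg.algHom f f (b ≫ a) w1 = AffAlg.algHom f f (𝟙 X) w2
      rw [algHom_id, ← algHom_comp f g f a ha b hb, haω', hbω', h1]
    exact congrArg Subtype.val ((Groth.Agent.Lib.Helper4.AffAlgBij.main3569 f f).1 key)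
  exact ⟨⟨a, b, hab, hba⟩, ha, haω'⟩

end affineIso


section compare

open Groth.Agent.Lib.Helper4.QCAlgPushout (algHom_comp gammaInvMap gammaInvMap_comp comp_gammaInvMap str_gammaInvMap)

variable {X Y : Scheme.{u}} (p : X ⟶ Y) [QuasiCompact p] [QuasiSeparated p]
  (A : RelSpec.QCAlg X) (j0 : X ⟶ A.spec) (hj0 : j0 ≫ A.π = 𝟙 X) (hθ : IsIso p.c)

include hθ in
/-- when `O_Y = p_* O_X`, the contraction is the relative spectrum of the full direct image algebra, compatibly with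
the canonical morphisms from `Spec A` -/
theorem exists_iso_spec_directImage
    (q' : A.spec ⟶ (RelSpec.QCAlg.directImage (A.π ≫ p)).spec)
    (hq'π : q' ≫ (RelSpec.QCAlg.directImage (A.π ≫ p)).π = A.π ≫ p)
    (hq' : AffAlg.algHom (RelSpec.QCAlg.directImage (A.π ≫ p)).π (A.π ≫ p) q' hq'π =
      (RelSpec.QCAlg.directImage (A.π ≫ p)).gammaMap) :
    ∃ e : (RelSpec.QCAlg.directImage (A.π ≫ p)).spec ≅ Cc p A j0 hj0, q' ≫ e.hom = qc p A j0 hj0 := by
  haveI hiso_pr2 : IsIso (pr2 p A j0 hj0).hom := by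
    haveI : ∀ U, IsIso ((pr2 p A j0 hj0).hom.app U) := fun U =>
      (ConcreteCategory.isIso_iff_bijective _).2 (pr2_bijective p A j0 hj0 hθ U.unop)
    exact NatIso.isIso_of_isIso_app _
  let ω : AffAlg.alg (gc p A j0 hj0) ⟶ AffAlg.alg (RelSpec.QCAlg.directImage (A.π ≫ p)).π :=
    (S' p A j0 hj0).gammaMap ≫ (pr2 p A j0 hj0).hom ≫ gammaInvMap (RelSpec.QCAlg.directImage (A.π ≫ p))
  let ω' : AffAlg.alg (RelSpec.QCAlg.directImage (A.π ≫ p)).π ⟶ AffAlg.alg (gc p A j0 hj0) :=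
    (RelSpec.QCAlg.directImage (A.π ≫ p)).gammaMap ≫ inv (pr2 p A j0 hj0).hom ≫ gammaInvMap (S' p A j0 hj0)
  have hcomm : (S' p A j0 hj0).str ≫ (pr2 p A j0 hj0).hom = (RelSpec.QCAlg.directImage (A.π ≫ p)).str :=
    (pr2 p A j0 hj0).comm
  have hω : (gc p A j0 hj0).c ≫ ω = (RelSpec.QCAlg.directImage (A.π ≫ p)).π.c := by
    show (gc p A j0 hj0).c ≫ (S' p A j0 hj0).gammaMap ≫ (pr2 p A j0 hj0).hom ≫
      gammaInvMap (RelSpec.QCAlg.directImage (A.π ≫ p)) = (RelSpec.QCAlg.directImage (A.π ≫ p)).π.c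
    rw [← Category.assoc, (S' p A j0 hj0).π_c_gammaMap, ← Category.assoc, hcomm, str_gammaInvMap]
  have hω' : (RelSpec.QCAlg.directImage (A.π ≫ p)).π.c ≫ ω' = (gc p A j0 hj0).c := by
    show (RelSpec.QCAlg.directImage (A.π ≫ p)).π.c ≫ (RelSpec.QCAlg.directImage (A.π ≫ p)).gammaMap ≫
      inv (pr2 p A j0 hj0).hom ≫ gammaInvMap (S' p A j0 hj0) = (gc p A j0 hj0).c
    rw [← Category.assoc, (RelSpec.QCAlg.directImage (A.π ≫ p)).π_c_gammaMap, ← Category.assoc, ← hcomm]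
    simp only [Category.assoc]
    rw [IsIso.hom_inv_id_assoc, str_gammaInvMap]
  have h1 : ω ≫ ω' = 𝟙 _ := by
    show ((S' p A j0 hj0).gammaMap ≫ (pr2 p A j0 hj0).hom ≫ gammaInvMap (RelSpec.QCAlg.directImage (A.π ≫ p))) ≫
      (RelSpec.QCAlg.directImage (A.π ≫ p)).gammaMap ≫ inv (pr2 p A j0 hj0).hom ≫
        gammaInvMap (S' p A j0 hj0) = 𝟙 _
    simp only [Category.assoc]
    rw [← Category.assoc (gammaInvMap (RelSpec.QCAlg.directImage (A.π ≫ p))), gammaInvMap_comp, Category.id_comp,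
      ← Category.assoc (pr2 p A j0 hj0).hom, IsIso.hom_inv_id, Category.id_comp, comp_gammaInvMap]
  have h2 : ω' ≫ ω = 𝟙 _ := by
    show ((RelSpec.QCAlg.directImage (A.π ≫ p)).gammaMap ≫ inv (pr2 p A j0 hj0).hom ≫
        gammaInvMap (S' p A j0 hj0)) ≫
      (S' p A j0 hj0).gammaMap ≫ (pr2 p A j0 hj0).hom ≫
        gammaInvMap (RelSpec.QCAlg.directImage (A.π ≫ p)) = 𝟙 _
    simp only [Category.assoc]
    rw [← Category.assoc (gammaInvMap (S' p A j0 hj0)), gammaInvMap_comp, Category.id_comp,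
      ← Category.assoc (inv (pr2 p A j0 hj0).hom), IsIso.inv_hom_id, Category.id_comp, comp_gammaInvMap]
  obtain ⟨e, he, heω⟩ := exists_iso_of_alg_iso (gc p A j0 hj0) (RelSpec.QCAlg.directImage (A.π ≫ p)).π ω ω' hω hω' h1 h2
  refine ⟨e, ?_⟩
  have w1 : (q' ≫ e.hom) ≫ gc p A j0 hj0 = r p A := by rw [Category.assoc, he, hq'π]
  have key : AffAlg.algOf (gc p A j0 hj0) (r p A) ⟨q' ≫ e.hom, w1⟩ =
      AffAlg.algOf (gc p A j0 hj0) (r p A) ⟨qc p A j0 hj0, qc_gc p A j0 hj0⟩ := by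
    apply Subtype.ext
    show AffAlg.algHom (gc p A j0 hj0) (r p A) (q' ≫ e.hom) w1 =
      AffAlg.algHom (gc p A j0 hj0) (r p A) (qc p A j0 hj0) (qc_gc p A j0 hj0)
    rw [algHom_qc, ← algHom_comp (gc p A j0 hj0) (RelSpec.QCAlg.directImage (A.π ≫ p)).π (r p A) e.hom he q' hq'π,
      heω, hq']
    show ((S' p A j0 hj0).gammaMap ≫ (pr2 p A j0 hj0).hom ≫ gammaInvMap (RelSpec.QCAlg.directImage (A.π ≫ p))) ≫
      (RelSpec.QCAlg.directImage (A.π ≫ p)).gammaMap = ωc p A j0 hj0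
    simp only [Category.assoc]
    rw [gammaInvMap_comp, Category.comp_id]
    rfl
  exact congrArg Subtype.val ((Groth.Agent.Lib.Helper4.AffAlgBij.main3569 (gc p A j0 hj0) (r p A)).1 key)

end compare

section surj

variable {X Y : Scheme.{u}} (p : X ⟶ Y)

/-- a closed morphism with `O_Y → p_* O_X` injective is surjective -/
theorem surjective_of_isClosedMap (hcl : IsClosedMap p) (hinj : ∀ U : Y.Opens, Function.Injective (p.app U).hom) :
    Function.Surjective p := by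
  intro y
  by_contra hy
  have hcl' : IsClosed (Set.range p) := hcl.isClosed_range
  let O : Y.Opens := ⟨(Set.range p)ᶜ, hcl'.isOpen_compl⟩
  have hyO : y ∈ O := hy
  have hbot : p ⁻¹ᵁ O = ⊥ := by
    apply Opens.ext
    ext x
    constructor
    · intro hx
      exact (hx ⟨x, rfl⟩).elim
    · intro hx
      exact hx.elim
  have h10 : (1 : Γ(Y, O)) = 0 := by
    apply hinj O
    have : Subsingleton Γ(X, p ⁻¹ᵁ O) := by rw [hbot]; infer_instance
    exact Subsingleton.elim _ _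
  have hO : O = ⊥ := by
    rw [← Y.basicOpen_of_isUnit (isUnit_one : IsUnit (1 : Γ(Y, O))), h10, Y.basicOpen_zero]
  rw [hO] at hyO
  exact hyO

end surj


section cone

variable {X Y : Scheme.{u}} (p : X ⟶ Y) [IsProper p] {L : X.Modules} [L.IsQuasicoherent]
  {𝒜 : RelProj.QCGrAlg X} {j : L ⟶ 𝒜.toModule} (hA : RelProj.IsGrSymAlg L 𝒜 j) (hL : PicF.IsInvertible L)
  (h0 : RelCone.StrZeroBij 𝒜) (aug : 𝒜.toQCAlg ⟶ RelSpec.QCAlg.unit X) (haug : RelCone.IsAugmentation 𝒜 aug)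
  (j0 : X ⟶ 𝒜.toQCAlg.spec) (hj0 : RelCone.IsVertex 𝒜 aug j0) (hθ : IsIso p.c)

include hA hL h0 haug hj0 hθ in
/-- **the contraction is universal**: every `Y`-morphism from the cone to a `Y`-scheme with a section, contracting the
zero section onto that section, factors uniquely through `Spec` of the full direct image algebra -/
theorem existsUnique_factor (hamp : RelAmple.IsRelAmple p L) {C : Scheme.{u}}
    (g : C ⟶ Y) (ε : Y ⟶ C) (q : 𝒜.toQCAlg.spec ⟶ C)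
    (hqg : q ≫ g = 𝒜.toQCAlg.π ≫ p) (hjq : j0 ≫ q = p ≫ ε)
    (q' : 𝒜.toQCAlg.spec ⟶ (RelSpec.QCAlg.directImage (𝒜.toQCAlg.π ≫ p)).spec)
    (hq'π : q' ≫ (RelSpec.QCAlg.directImage (𝒜.toQCAlg.π ≫ p)).π = 𝒜.toQCAlg.π ≫ p)
    (hq' : AffAlg.algHom (RelSpec.QCAlg.directImage (𝒜.toQCAlg.π ≫ p)).π (𝒜.toQCAlg.π ≫ p) q' hq'π =
      (RelSpec.QCAlg.directImage (𝒜.toQCAlg.π ≫ p)).gammaMap) :
    ∃! u : (RelSpec.QCAlg.directImage (𝒜.toQCAlg.π ≫ p)).spec ⟶ C,
      u ≫ g = (RelSpec.QCAlg.directImage (𝒜.toQCAlg.π ≫ p)).π ∧ q' ≫ u = q := by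
  have hπ : j0 ≫ 𝒜.toQCAlg.π = 𝟙 X := hj0.comp_π
  haveI : IsClosedImmersion (j0 ≫ 𝒜.toQCAlg.π) := by rw [hπ]; infer_instance
  haveI : IsClosedImmersion j0 := IsClosedImmersion.of_comp j0 𝒜.toQCAlg.π
  let V0 : 𝒜.toQCAlg.spec.Opens := ⟨(Set.range j0.base)ᶜ, j0.isClosedEmbedding.isClosed_range.isOpen_compl⟩
  have hV0 : (V0 : Set 𝒜.toQCAlg.spec) = (Set.range j0.base)ᶜ := rfl
  have hmemV0 : ∀ w : 𝒜.toQCAlg.spec, w ∈ V0 ↔ w ∉ Set.range j0 := fun w => Iff.rfl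
  haveI hprop := GrauertProper.isProper_qc p hA hL aug haug j0 hj0 hamp
  have hrange := GrauertProper.range_qc_eq p hA hL h0 aug haug j0 hj0 hamp V0 hV0
  have hdisj := range_inter_range_eq_empty p hA hL h0 aug haug j0 hj0 hamp V0 hV0
  haveI hoi := isOpenImmersion_qc p hA hL h0 aug haug j0 hj0 hamp V0 hV0
  have psurj : Function.Surjective p :=
    surjective_of_isClosedMap p p.isClosedMap (fun U => (p_app_bijective p hθ U).1)
  have hjq0 : ∀ x : X, (qc p 𝒜.toQCAlg j0 hπ) (j0 x) = (εc p 𝒜.toQCAlg j0 hπ) (p x) := by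
    intro x
    rw [← Scheme.Hom.comp_apply, ← Scheme.Hom.comp_apply, j0_qc]
  have hεinj : Function.Injective (εc p 𝒜.toQCAlg j0 hπ) := by
    intro y y' hyy'
    have h1 : ∀ z : Y, (gc p 𝒜.toQCAlg j0 hπ) ((εc p 𝒜.toQCAlg j0 hπ) z) = z := by
      intro z
      rw [← Scheme.Hom.comp_apply, εc_gc]
      rfl
    rw [← h1 y, hyy', h1 y']
  have qsurj : Function.Surjective (qc p 𝒜.toQCAlg j0 hπ) := by
    intro c
    by_cases hc : c ∈ Set.range (εc p 𝒜.toQCAlg j0 hπ).base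
    · obtain ⟨y, rfl⟩ := hc
      obtain ⟨x, rfl⟩ := psurj y
      exact ⟨j0 x, hjq0 x⟩
    · have hc' : c ∈ Set.range (V0.ι ≫ qc p 𝒜.toQCAlg j0 hπ).base := by
        rw [hrange]; exact hc
      obtain ⟨v, rfl⟩ := hc'
      exact ⟨V0.ι v, rfl⟩
  have hquot : Topology.IsQuotientMap (qc p 𝒜.toQCAlg j0 hπ) :=
    IsClosedMap.isQuotientMap (qc p 𝒜.toQCAlg j0 hπ).isClosedMap (qc p 𝒜.toQCAlg j0 hπ).continuous qsurj
  have hbij := qc_app_bijective p 𝒜.toQCAlg j0 hπ hθ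
  have hmixed : ∀ (x : X) (v : 𝒜.toQCAlg.spec), v ∉ Set.range j0 →
      (qc p 𝒜.toQCAlg j0 hπ) (j0 x) ≠ (qc p 𝒜.toQCAlg j0 hπ) v := by
    intro x v hv heq
    have hmem : (qc p 𝒜.toQCAlg j0 hπ) v ∈ Set.range (V0.ι ≫ qc p 𝒜.toQCAlg j0 hπ).base ∩
        Set.range (εc p 𝒜.toQCAlg j0 hπ).base := by
      refine ⟨⟨⟨v, (hmemV0 v).2 hv⟩, rfl⟩, ⟨p x, ?_⟩⟩
      rw [← heq]
      exact (hjq0 x).symm
    rw [hdisj] at hmem
    exact hmem
  have hfib : ∀ v v' : 𝒜.toQCAlg.spec, (qc p 𝒜.toQCAlg j0 hπ) v = (qc p 𝒜.toQCAlg j0 hπ) v' → q v = q v' := by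
    intro v v' hvv'
    by_cases hv : v ∈ Set.range j0
    · obtain ⟨x, rfl⟩ := hv
      by_cases hv' : v' ∈ Set.range j0
      · obtain ⟨x', rfl⟩ := hv'
        rw [hjq0 x, hjq0 x'] at hvv'
        have hpx : p x = p x' := hεinj hvv'
        have hq1 : ∀ z : X, q (j0 z) = ε (p z) := by
          intro z
          rw [← Scheme.Hom.comp_apply, ← Scheme.Hom.comp_apply, hjq]
        rw [hq1 x, hq1 x', hpx]
      · exact (hmixed x v' hv' hvv').elim
    · by_cases hv' : v' ∈ Set.range j0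
      · obtain ⟨x', rfl⟩ := hv'
        exact (hmixed x' v hv hvv'.symm).elim
      · have hinj := (V0.ι ≫ qc p 𝒜.toQCAlg j0 hπ).isOpenEmbedding.injective
        have h1 : (⟨v, (hmemV0 v).2 hv⟩ : V0) = ⟨v', (hmemV0 v').2 hv'⟩ := hinj hvv'
        have h2 : v = v' := congrArg Subtype.val h1
        rw [h2]
  obtain ⟨u', hu', -⟩ := AbstractDesc.existsUnique_desc (qc p 𝒜.toQCAlg j0 hπ) qsurj hquot hbij q hfib
  obtain ⟨e, he⟩ := exists_iso_spec_directImage p 𝒜.toQCAlg j0 hπ hθ q' hq'π hq'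
  haveI hepi : Epi (qc p 𝒜.toQCAlg j0 hπ) := AbstractDesc.epi (qc p 𝒜.toQCAlg j0 hπ) qsurj hbij
  have hq'e : q' = qc p 𝒜.toQCAlg j0 hπ ≫ e.inv := by
    rw [← he, Category.assoc, e.hom_inv_id, Category.comp_id]
  haveI hepi' : Epi q' := by
    rw [hq'e]
    exact epi_comp _ _
  have hu1 : q' ≫ e.hom ≫ u' = q := by
    rw [← Category.assoc, he, hu']
  refine ⟨e.hom ≫ u', ⟨?_, hu1⟩, ?_⟩
  · rw [← cancel_epi q', ← Category.assoc, hu1, hqg, hq'π]
  · rintro u2 ⟨-, hu2⟩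
    rw [← cancel_epi q', hu2, hu1]

end cone

end Groth.Agent.Lib.Helper28.GrauertFactor
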