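import Groth.Agent.Lib.Helper28.GrauertFactorB

set_option autoImplicit false
universe u
open CategoryTheory CategoryTheory.Limits AlgebraicGeometry Opposite TopologicalSpace
noncomputable section

namespace Groth.Agent.Lib.Helper28.GrauertFactor

open Groth.Agent.Lib.Helper28 Groth.Agent.Lib.Helper28.GrauertNec

theorem isPurelyInseparable_of_surjective {F E : Type*} [CommRing F] [CommRing E] (f : F →+* E)
    (hf : Function.Surjective f) : f.IsPurelyInseparable := by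
  letI := f.toAlgebra
  show IsPurelyInseparable F E
  refine ⟨⟨fun x => ?_⟩, fun x _ => ?_⟩
  · obtain ⟨a, rfl⟩ := hf x
    exact isIntegral_algebraMap
  · exact hf x

section general

variable {X Y : Scheme.{u}} (p : X ⟶ Y) [QuasiCompact p] [QuasiSeparated p]
  (A : RelSpec.QCAlg X) (j0 : X ⟶ A.spec) (hj0 : j0 ≫ A.π = 𝟙 X)

theorem qc_j0_apply (x : X) : (qc p A j0 hj0) (j0 x) = (εc p A j0 hj0) (p x) := by
  rw [← Scheme.Hom.comp_apply, ← Scheme.Hom.comp_apply, j0_qc]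

theorem gc_εc_apply (y : Y) : (gc p A j0 hj0) ((εc p A j0 hj0) y) = y := by
  rw [← Scheme.Hom.comp_apply, εc_gc]
  rfl

theorem εc_injective : Function.Injective (εc p A j0 hj0) := by
  intro y y' hyy'
  rw [← gc_εc_apply p A j0 hj0 y, hyy', gc_εc_apply p A j0 hj0 y']

/-- the residue field extension of `gc` at a point of the vertex section is trivial -/
theorem gc_residueFieldMap_surjective (y : Y) :
    Function.Surjective ((gc p A j0 hj0).residueFieldMap ((εc p A j0 hj0) y)).hom := by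
  haveI : IsOpenImmersion (εc p A j0 hj0 ≫ gc p A j0 hj0) := by rw [εc_gc]; infer_instance
  have h1 : IsIso ((εc p A j0 hj0 ≫ gc p A j0 hj0).residueFieldMap y) := inferInstance
  rw [Scheme.residueFieldMap_comp] at h1
  have h2 : Function.Bijective
      ((gc p A j0 hj0).residueFieldMap ((εc p A j0 hj0) y) ≫ (εc p A j0 hj0).residueFieldMap y).hom :=
    (ConcreteCategory.isIso_iff_bijective _).1 h1
  have h3 : Function.Injective ((εc p A j0 hj0).residueFieldMap y).hom :=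
    RingHom.injective _
  intro b
  obtain ⟨a, ha⟩ := h2.2 (((εc p A j0 hj0).residueFieldMap y).hom b)
  exact ⟨a, h3 ha⟩

end general

section cone

variable {X Y : Scheme.{u}} (p : X ⟶ Y) [IsProper p] {L : X.Modules} [L.IsQuasicoherent]
  {𝒜 : RelProj.QCGrAlg X} {j : L ⟶ 𝒜.toModule} (hA : RelProj.IsGrSymAlg L 𝒜 j) (hL : PicF.IsInvertible L)
  (h0 : RelCone.StrZeroBij 𝒜) (aug : 𝒜.toQCAlg ⟶ RelSpec.QCAlg.unit X) (haug : RelCone.IsAugmentation 𝒜 aug)
  (j0 : X ⟶ 𝒜.toQCAlg.spec) (hj0 : RelCone.IsVertex 𝒜 aug j0) (hθ : IsIso p.c)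

include hA hL h0 haug hj0 hθ in
/-- every factorization of a contraction through `Spec` of the full direct image algebra is universally closed,
surjective and radicial, and an isomorphism away from the vertex sections -/
theorem factor_properties (hamp : RelAmple.IsRelAmple p L) {C : Scheme.{u}}
    (g : C ⟶ Y) (ε : Y ⟶ C) (hε : ε ≫ g = 𝟙 Y) (q : 𝒜.toQCAlg.spec ⟶ C)
    (hqg : q ≫ g = 𝒜.toQCAlg.π ≫ p) (hjq : j0 ≫ q = p ≫ ε)
    (q' : 𝒜.toQCAlg.spec ⟶ (RelSpec.QCAlg.directImage (𝒜.toQCAlg.π ≫ p)).spec)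
    (hq'π : q' ≫ (RelSpec.QCAlg.directImage (𝒜.toQCAlg.π ≫ p)).π = 𝒜.toQCAlg.π ≫ p)
    (hq' : AffAlg.algHom (RelSpec.QCAlg.directImage (𝒜.toQCAlg.π ≫ p)).π (𝒜.toQCAlg.π ≫ p) q' hq'π =
      (RelSpec.QCAlg.directImage (𝒜.toQCAlg.π ≫ p)).gammaMap)
    [IsProper q] (V0 : 𝒜.toQCAlg.spec.Opens) (hV0 : (V0 : Set 𝒜.toQCAlg.spec) = (Set.range j0.base)ᶜ)
    (hqo : IsOpenImmersion (V0.ι ≫ q)) (hqr : Set.range (V0.ι ≫ q).base = (Set.range ε.base)ᶜ)
    (u : (RelSpec.QCAlg.directImage (𝒜.toQCAlg.π ≫ p)).spec ⟶ C)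
    (hug : u ≫ g = (RelSpec.QCAlg.directImage (𝒜.toQCAlg.π ≫ p)).π) (hu : q' ≫ u = q) :
    UniversallyClosed u ∧ Function.Surjective u.base ∧ UniversallyInjective u ∧
      ∀ W : (RelSpec.QCAlg.directImage (𝒜.toQCAlg.π ≫ p)).spec.Opens,
        (W : Set (RelSpec.QCAlg.directImage (𝒜.toQCAlg.π ≫ p)).spec) = (q'.base '' Set.range j0.base)ᶜ →
        IsOpenImmersion (W.ι ≫ u) ∧ Set.range (W.ι ≫ u).base = (Set.range ε.base)ᶜ := by
  have hπ : j0 ≫ 𝒜.toQCAlg.π = 𝟙 X := hj0.comp_π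
  have hmemV0 : ∀ w : 𝒜.toQCAlg.spec, w ∈ V0 ↔ w ∉ Set.range j0 := by
    intro w
    have : w ∈ (V0 : Set 𝒜.toQCAlg.spec) ↔ w ∈ (Set.range j0.base)ᶜ := by rw [hV0]
    exact this
  haveI hprop := GrauertProper.isProper_qc p hA hL aug haug j0 hj0 hamp
  have hrange := GrauertProper.range_qc_eq p hA hL h0 aug haug j0 hj0 hamp V0 hV0
  have hdisj := range_inter_range_eq_empty p hA hL h0 aug haug j0 hj0 hamp V0 hV0
  haveI hoi := isOpenImmersion_qc p hA hL h0 aug haug j0 hj0 hamp V0 hV0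
  have psurj : Function.Surjective p :=
    surjective_of_isClosedMap p p.isClosedMap (fun U => (p_app_bijective p hθ U).1)
  haveI pepi : Epi p := AbstractDesc.epi p psurj (p_app_bijective p hθ)
  have hjq0 := qc_j0_apply p 𝒜.toQCAlg j0 hπ
  have hεcinj := εc_injective p 𝒜.toQCAlg j0 hπ
  have hεinj : Function.Injective ε := by
    intro y y' hyy'
    have h1 : ∀ z : Y, g (ε z) = z := by
      intro z
      rw [← Scheme.Hom.comp_apply, hε]
      rfl
    rw [← h1 y, hyy', h1 y']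
  have qsurj : Function.Surjective (qc p 𝒜.toQCAlg j0 hπ) := by
    intro c
    by_cases hc : c ∈ Set.range (εc p 𝒜.toQCAlg j0 hπ).base
    · obtain ⟨y, rfl⟩ := hc
      obtain ⟨x, rfl⟩ := psurj y
      exact ⟨j0 x, hjq0 x⟩
    · have hc' : c ∈ Set.range (V0.ι ≫ qc p 𝒜.toQCAlg j0 hπ).base := by
        rw [hrange]; exact hc
      obtain ⟨v, rfl⟩ := hc'
      exact ⟨V0.ι v, rfl⟩
  have hmixed : ∀ (x : X) (v : 𝒜.toQCAlg.spec), v ∉ Set.range j0 →
      (qc p 𝒜.toQCAlg j0 hπ) (j0 x) ≠ (qc p 𝒜.toQCAlg j0 hπ) v := by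
    intro x v hv heq
    have hmem : (qc p 𝒜.toQCAlg j0 hπ) v ∈ Set.range (V0.ι ≫ qc p 𝒜.toQCAlg j0 hπ).base ∩
        Set.range (εc p 𝒜.toQCAlg j0 hπ).base := by
      refine ⟨⟨⟨v, (hmemV0 v).2 hv⟩, rfl⟩, ⟨p x, ?_⟩⟩
      rw [← heq]
      exact (hjq0 x).symm
    rw [hdisj] at hmem
    exact hmem
  obtain ⟨e, he⟩ := exists_iso_spec_directImage p 𝒜.toQCAlg j0 hπ hθ q' hq'π hq'
  have hq'e : q' = qc p 𝒜.toQCAlg j0 hπ ≫ e.inv := by
    rw [← he, Category.assoc, e.hom_inv_id, Category.comp_id]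
  have hq'surj : Function.Surjective q' := by
    intro c'
    obtain ⟨v, hv⟩ := qsurj (e.hom c')
    refine ⟨v, ?_⟩
    rw [hq'e, Scheme.Hom.comp_apply, hv, ← Scheme.Hom.comp_apply, e.hom_inv_id]
    rfl
  haveI : Surjective q' := ⟨hq'surj⟩
  -- the induced morphism from the contraction
  have hu' : qc p 𝒜.toQCAlg j0 hπ ≫ e.inv ≫ u = q := by
    rw [← Category.assoc, ← hq'e, hu]
  have hu'g : (e.inv ≫ u) ≫ g = gc p 𝒜.toQCAlg j0 hπ := by
    haveI hepi : Epi (qc p 𝒜.toQCAlg j0 hπ) :=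
      AbstractDesc.epi (qc p 𝒜.toQCAlg j0 hπ) qsurj (qc_app_bijective p 𝒜.toQCAlg j0 hπ hθ)
    rw [← cancel_epi (qc p 𝒜.toQCAlg j0 hπ), ← Category.assoc, hu', hqg, qc_gc]
  have hεu' : εc p 𝒜.toQCAlg j0 hπ ≫ e.inv ≫ u = ε := by
    rw [← cancel_epi p, ← Category.assoc, ← j0_qc, Category.assoc, hu', hjq]
  have hq1 : ∀ z : X, q (j0 z) = ε (p z) := by
    intro z
    rw [← Scheme.Hom.comp_apply, ← Scheme.Hom.comp_apply, hjq]
  have hu'q : ∀ v : 𝒜.toQCAlg.spec, (e.inv ≫ u) ((qc p 𝒜.toQCAlg j0 hπ) v) = q v := by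
    intro v
    rw [← Scheme.Hom.comp_apply, hu']
  have hu'ε : ∀ y : Y, (e.inv ≫ u) ((εc p 𝒜.toQCAlg j0 hπ) y) = ε y := by
    intro y
    rw [← Scheme.Hom.comp_apply, hεu']
  have hu'not : ∀ c : Cc p 𝒜.toQCAlg j0 hπ, c ∉ Set.range (εc p 𝒜.toQCAlg j0 hπ).base →
      ∃ v : V0, c = (qc p 𝒜.toQCAlg j0 hπ) v.1 ∧ (e.inv ≫ u) c ∉ Set.range ε.base := by
    intro c hc
    have hc' : c ∈ Set.range (V0.ι ≫ qc p 𝒜.toQCAlg j0 hπ).base := by
      rw [hrange]; exact hc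
    obtain ⟨v, rfl⟩ := hc'
    refine ⟨v, rfl, ?_⟩
    have h1 : (e.inv ≫ u) ((V0.ι ≫ qc p 𝒜.toQCAlg j0 hπ) v) = (V0.ι ≫ q) v := hu'q v.1
    rw [h1]
    have h2 : (V0.ι ≫ q) v ∈ Set.range (V0.ι ≫ q).base := ⟨v, rfl⟩
    rw [hqr] at h2
    exact h2
  have qfull : Function.Surjective q := by
    intro c
    by_cases hc : c ∈ Set.range ε.base
    · obtain ⟨y, rfl⟩ := hc
      obtain ⟨x, rfl⟩ := psurj y
      exact ⟨j0 x, hq1 x⟩
    · have hc' : c ∈ Set.range (V0.ι ≫ q).base := by rw [hqr]; exact hc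
      obtain ⟨v, rfl⟩ := hc'
      exact ⟨V0.ι v, rfl⟩
  refine ⟨?_, ?_, ?_, ?_⟩
  · -- universally closed
    haveI : UniversallyClosed (q' ≫ u) := by rw [hu]; infer_instance
    exact UniversallyClosed.of_comp_surjective q' u
  · -- surjective
    intro c
    obtain ⟨v, rfl⟩ := qfull c
    refine ⟨q' v, ?_⟩
    show u (q' v) = q v
    rw [← Scheme.Hom.comp_apply, hu]
  · -- radicial
    have hinj' : Function.Injective (e.inv ≫ u) := by
      intro c1 c2 h12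
      by_cases hc1 : c1 ∈ Set.range (εc p 𝒜.toQCAlg j0 hπ).base
      · by_cases hc2 : c2 ∈ Set.range (εc p 𝒜.toQCAlg j0 hπ).base
        · obtain ⟨y1, rfl⟩ := hc1
          obtain ⟨y2, rfl⟩ := hc2
          have h3 : ε y1 = ε y2 := by
            rw [← hu'ε y1, ← hu'ε y2]; exact h12
          rw [hεinj h3]
        · obtain ⟨y1, rfl⟩ := hc1
          obtain ⟨v, -, hv⟩ := hu'not c2 hc2
          exact (hv ⟨y1, by rw [← h12]; exact (hu'ε y1).symm⟩).elim
      · by_cases hc2 : c2 ∈ Set.range (εc p 𝒜.toQCAlg j0 hπ).base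
        · obtain ⟨y2, rfl⟩ := hc2
          obtain ⟨v, -, hv⟩ := hu'not c1 hc1
          exact (hv ⟨y2, by rw [h12]; exact (hu'ε y2).symm⟩).elim
        · obtain ⟨v1, rfl, -⟩ := hu'not c1 hc1
          obtain ⟨v2, rfl, -⟩ := hu'not c2 hc2
          rw [hu'q, hu'q] at h12
          have h3 : v1 = v2 := (V0.ι ≫ q).isOpenEmbedding.injective h12
          rw [h3]
    have hres' : ∀ c : Cc p 𝒜.toQCAlg j0 hπ, ((e.inv ≫ u).residueFieldMap c).hom.IsPurelyInseparable := by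
      intro c
      apply isPurelyInseparable_of_surjective
      by_cases hc : c ∈ Set.range (εc p 𝒜.toQCAlg j0 hπ).base
      · obtain ⟨y, rfl⟩ := hc
        have h1 := gc_residueFieldMap_surjective p 𝒜.toQCAlg j0 hπ y
        have h2 : (gc p 𝒜.toQCAlg j0 hπ).residueFieldMap ((εc p 𝒜.toQCAlg j0 hπ) y) =
            (Y.residueFieldCongr (by rw [hu'g])).hom ≫
              ((e.inv ≫ u) ≫ g).residueFieldMap ((εc p 𝒜.toQCAlg j0 hπ) y) :=
          Scheme.Hom.residueFieldMap_congr hu'g.symm _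
        rw [h2, Scheme.residueFieldMap_comp] at h1
        intro b
        obtain ⟨a, ha⟩ := h1 b
        exact ⟨_, ha⟩
      · obtain ⟨v, rfl, -⟩ := hu'not c hc
        haveI : IsOpenImmersion ((V0.ι ≫ qc p 𝒜.toQCAlg j0 hπ) ≫ e.inv ≫ u) := by
          rw [Category.assoc, hu']; exact hqo
        have h1 : IsIso (((V0.ι ≫ qc p 𝒜.toQCAlg j0 hπ) ≫ e.inv ≫ u).residueFieldMap v) := inferInstance
        rw [Scheme.residueFieldMap_comp] at h1
        have h2 := (ConcreteCategory.isIso_iff_bijective _).1 h1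
        have h3 : Function.Injective ((V0.ι ≫ qc p 𝒜.toQCAlg j0 hπ).residueFieldMap v).hom :=
          RingHom.injective _
        intro b
        obtain ⟨a, ha⟩ := h2.2 (((V0.ι ≫ qc p 𝒜.toQCAlg j0 hπ).residueFieldMap v).hom b)
        exact ⟨a, h3 ha⟩
    have hiff : UniversallyInjective (e.inv ≫ u) ↔ Function.Injective (e.inv ≫ u) ∧
        ∀ x, ((e.inv ≫ u).residueFieldMap x).hom.IsPurelyInseparable :=
      (tfae_universallyInjective (e.inv ≫ u)).out 0 2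
    have hui' : UniversallyInjective (e.inv ≫ u) := hiff.2 ⟨hinj', hres'⟩
    have hue : u = e.hom ≫ e.inv ≫ u := by rw [e.hom_inv_id_assoc]
    rw [hue]
    exact MorphismProperty.comp_mem (W := @UniversallyInjective) e.hom (e.inv ≫ u) inferInstance hui'
  · -- away from the vertex
    intro W hW
    haveI : IsOpenImmersion (V0.ι ≫ q') := by
      have : V0.ι ≫ q' = (V0.ι ≫ qc p 𝒜.toQCAlg j0 hπ) ≫ e.inv := by rw [hq'e, Category.assoc]
      rw [this]; infer_instance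
    have hrange' : Set.range (V0.ι ≫ q').base = Set.range W.ι.base := by
      rw [Scheme.Opens.range_ι, hW]
      ext c'
      constructor
      · rintro ⟨v, rfl⟩ ⟨w, ⟨x, rfl⟩, hx⟩
        have h1 : (qc p 𝒜.toQCAlg j0 hπ) (j0 x) = (qc p 𝒜.toQCAlg j0 hπ) v.1 := by
          rw [← he, Scheme.Hom.comp_apply, Scheme.Hom.comp_apply]
          exact congrArg e.hom hx
        exact hmixed x v.1 ((hmemV0 v.1).1 v.2) h1
      · intro hc'
        obtain ⟨v, rfl⟩ := hq'surj c'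
        have hv : v ∉ Set.range j0 := fun hv => hc' ⟨v, hv, rfl⟩
        exact ⟨⟨v, (hmemV0 v).2 hv⟩, rfl⟩
    let l := IsOpenImmersion.isoOfRangeEq (V0.ι ≫ q') W.ι hrange'
    have hl : l.hom ≫ W.ι = V0.ι ≫ q' := IsOpenImmersion.isoOfRangeEq_hom_fac _ _ _
    have hWu : W.ι ≫ u = l.inv ≫ V0.ι ≫ q := by
      rw [← hu, ← Category.assoc V0.ι, ← hl, Category.assoc, l.inv_hom_id_assoc]
    constructor
    · rw [hWu]
      infer_instance
    · rw [hWu, ← hqr]
      ext c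
      constructor
      · rintro ⟨w, rfl⟩
        exact ⟨l.inv w, rfl⟩
      · rintro ⟨v, rfl⟩
        refine ⟨l.hom v, ?_⟩
        show (l.inv ≫ V0.ι ≫ q) (l.hom v) = (V0.ι ≫ q) v
        rw [← Scheme.Hom.comp_apply, l.hom_inv_id_assoc]

end cone

end Groth.Agent.Lib.Helper28.GrauertFactor
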