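import Groth.Agent.Lib.Helper28.PBLoc
import Mathlib.AlgebraicGeometry.Morphisms.QuasiSeparated
import Mathlib.AlgebraicGeometry.Morphisms.OpenImmersion

/-!
# A morphism which is "an isomorphism away from a function" is an open immersion there (helper28)
-/

set_option autoImplicit false
universe u
open CategoryTheory CategoryTheory.Limits AlgebraicGeometry Opposite TopologicalSpace
noncomputable section

namespace Groth.Agent.Lib.Helper28.GrauertLI

variable {V C : Scheme.{u}} (q : V ⟶ C)

/-- Let `G ⊆ C` be an affine open and `R ⊆ q⁻¹G` a quasi-compact quasi-separated open; let `c` be a function on `G`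
such that `q^♯ : Γ(G) → Γ(R)` has kernel killed by `c` and image containing `q^♯(c) Γ(R)`.  If the nonvanishing
locus `W` of `q^♯ c` in `R` is affine, then `q` restricted to `W` is an open immersion. -/
theorem isOpenImmersion_of_away (G : C.Opens) (hG : IsAffineOpen G)
    (R : V.Opens) (hRc : IsCompact (R : Set V)) (hRqs : IsQuasiSeparated (R : Set V)) (hle : R ≤ q ⁻¹ᵁ G)
    (c : Γ(C, G))
    (hker : ∀ a : Γ(C, G), (q.appLE G R hle).hom a = 0 → c * a = 0)
    (hsurj : ∀ b : Γ(V, R), ∃ a : Γ(C, G), (q.appLE G R hle).hom a = (q.appLE G R hle).hom c * b)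
    (b : Γ(V, R)) (hb : (q.appLE G R hle).hom c = b)
    (haff : IsAffineOpen (V.basicOpen b)) :
    IsOpenImmersion ((V.basicOpen b).ι ≫ q) := by
  subst hb
  set φ := q.appLE G R hle with hφdef
  set W := V.basicOpen (φ.hom c) with hWdef
  set D := C.basicOpen c with hDdef
  have hD : IsAffineOpen D := hG.basicOpen c
  have hW1 : W = R ⊓ q ⁻¹ᵁ D := Scheme.basicOpen_appLE q R G hle c
  have hWD : W ≤ q ⁻¹ᵁ D := by rw [hW1]; exact inf_le_right
  have hWR : W ≤ R := V.basicOpen_le _
  have hDG : D ≤ G := C.basicOpen_le c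
  let φ' := q.appLE D W hWD
  let lA : Γ(C, G) →+* Γ(C, D) := (C.presheaf.map (homOfLE hDG).op).hom
  let lB : Γ(V, R) →+* Γ(V, W) := (V.presheaf.map (homOfLE hWR).op).hom
  have hcomm : φ'.hom.comp lA = lB.comp φ.hom := by
    have e1 : C.presheaf.map (homOfLE hDG).op ≫ q.appLE D W hWD = q.appLE G W (hWR.trans hle) :=
      Scheme.Hom.map_appLE _ _ _
    have e2 : q.appLE G R hle ≫ V.presheaf.map (homOfLE hWR).op = q.appLE G W (hWR.trans hle) :=
      Scheme.Hom.appLE_map _ _ _
    have e3 := e1.trans e2.symm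
    exact congrArg CommRingCat.Hom.hom e3
  have hA : @IsLocalization.Away _ _ c Γ(C, D) _ lA.toAlgebra := hG.isLocalization_basicOpen c
  have hB : @IsLocalization.Away _ _ (φ.hom c) Γ(V, W) _ lB.toAlgebra :=
    isLocalization_basicOpen_of_qcqs hRc hRqs (φ.hom c)
  have hbij : Function.Bijective φ'.hom :=
    PBLoc.bijective_of_away φ.hom φ'.hom lA lB hcomm c hA hB hker hsurj
  haveI : IsIso φ' := (ConcreteCategory.isIso_iff_bijective φ').2 hbij
  have h1 : Spec.map φ' ≫ hD.fromSpec = haff.fromSpec ≫ q :=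
    IsAffineOpen.SpecMap_appLE_fromSpec q hD haff hWD
  have h2 : W.ι ≫ q = haff.isoSpec.hom ≫ Spec.map φ' ≫ hD.fromSpec := by
    rw [h1, ← Category.assoc, haff.isoSpec_hom_fromSpec]
  rw [h2]
  infer_instance

/-- the locus where the previous lemma applies -/
theorem basicOpen_eq (G : C.Opens) (R : V.Opens) (hle : R ≤ q ⁻¹ᵁ G) (c : Γ(C, G)) :
    V.basicOpen ((q.appLE G R hle).hom c) = R ⊓ q ⁻¹ᵁ (C.basicOpen c) :=
  Scheme.basicOpen_appLE q R G hle c

end Groth.Agent.Lib.Helper28.GrauertLI
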