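import Mathlib

/-!
# Localization of fibre products of rings, and of maps that are isomorphisms away from an element (helper28)
-/

set_option autoImplicit false

namespace Groth.Agent.Lib.Helper28.PBLoc

section pb

variable {A B D A' B' D' : Type*} [CommRing A] [CommRing B] [CommRing D] [CommRing A'] [CommRing B'] [CommRing D']
  (α : A →+* D) (β : B →+* D) (α' : A' →+* D') (β' : B' →+* D')
  (lA : A →+* A') (lB : B →+* B') (lD : D →+* D')
  (hα : α'.comp lA = lD.comp α) (hβ : β'.comp lB = lD.comp β)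

/-- the fibre product `A ×_D B` -/
def E : Subring (A × B) := RingHom.eqLocus (α.comp (RingHom.fst A B)) (β.comp (RingHom.snd A B))

theorem mem_E (z : A × B) : z ∈ E α β ↔ α z.1 = β z.2 := Iff.rfl

include hα hβ in
theorem map_mem (z : A × B) (hz : z ∈ E α β) : (lA z.1, lB z.2) ∈ E α' β' := by
  rw [mem_E] at hz ⊢
  have h1 : α' (lA z.1) = lD (α z.1) := congrArg (fun F => F z.1) hα
  have h2 : β' (lB z.2) = lD (β z.2) := congrArg (fun F => F z.2) hβ
  show α' (lA z.1) = β' (lB z.2)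
  rw [h1, h2, hz]

/-- the induced map on fibre products -/
def lE : E α β →+* E α' β' where
  toFun z := ⟨(lA z.1.1, lB z.1.2), map_mem α β α' β' lA lB lD hα hβ z.1 z.2⟩
  map_one' := Subtype.ext (Prod.ext (map_one lA) (map_one lB))
  map_mul' x y := Subtype.ext (Prod.ext (map_mul lA _ _) (map_mul lB _ _))
  map_zero' := Subtype.ext (Prod.ext (map_zero lA) (map_zero lB))
  map_add' x y := Subtype.ext (Prod.ext (map_add lA _ _) (map_add lB _ _))

variable (rA : A) (rB : B) (hr : α rA = β rB)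

/-- **localization commutes with fibre products** -/
theorem isLocalization_away
    (hA : @IsLocalization.Away A _ rA A' _ lA.toAlgebra)
    (hB : @IsLocalization.Away B _ rB B' _ lB.toAlgebra)
    (hD : @IsLocalization.Away D _ (α rA) D' _ lD.toAlgebra) :
    @IsLocalization.Away (E α β) _ (⟨(rA, rB), hr⟩ : E α β) (E α' β') _
      (lE α β α' β' lA lB lD hα hβ).toAlgebra := by
  letI := lA.toAlgebra
  letI := lB.toAlgebra
  letI := lD.toAlgebra
  letI := (lE α β α' β' lA lB lD hα hβ).toAlgebra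
  have hlA : ∀ a : A, algebraMap A A' a = lA a := fun a => rfl
  have hlB : ∀ b : B, algebraMap B B' b = lB b := fun b => rfl
  have hlD : ∀ d : D, algebraMap D D' d = lD d := fun d => rfl
  have hα' : ∀ a : A, α' (lA a) = lD (α a) := fun a => congrArg (fun F => F a) hα
  have hβ' : ∀ b : B, β' (lB b) = lD (β b) := fun b => congrArg (fun F => F b) hβ
  have huA : IsUnit (lA rA) := IsLocalization.Away.algebraMap_isUnit (S := A') rA
  have huB : IsUnit (lB rB) := IsLocalization.Away.algebraMap_isUnit (S := B') rB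
  refine (isLocalization_iff (Submonoid.powers (⟨(rA, rB), hr⟩ : E α β)) (E α' β')).2 ⟨?_, ?_, ?_⟩
  · -- units
    rintro ⟨_, n, rfl⟩
    show IsUnit ((lE α β α' β' lA lB lD hα hβ) ((⟨(rA, rB), hr⟩ : E α β) ^ n))
    rw [map_pow]
    refine IsUnit.pow n ?_
    obtain ⟨uA, huA'⟩ := huA
    obtain ⟨uB, huB'⟩ := huB
    have hinv : α' (↑uA⁻¹ : A') = β' (↑uB⁻¹ : B') := by
      have h1 : α' (↑uA⁻¹ : A') * lD (α rA) = 1 := by
        rw [← hα', ← huA', ← map_mul, Units.inv_mul, map_one]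
      have h2 : β' (↑uB⁻¹ : B') * lD (α rA) = 1 := by
        rw [hr, ← hβ', ← huB', ← map_mul, Units.inv_mul, map_one]
      have h3 : lD (α rA) * β' (↑uB⁻¹ : B') = 1 := by rw [mul_comm]; exact h2
      calc α' (↑uA⁻¹ : A') = α' (↑uA⁻¹ : A') * (lD (α rA) * β' (↑uB⁻¹ : B')) := by rw [h3, mul_one]
        _ = (α' (↑uA⁻¹ : A') * lD (α rA)) * β' (↑uB⁻¹ : B') := by rw [mul_assoc]
        _ = β' (↑uB⁻¹ : B') := by rw [h1, one_mul]
    refine IsUnit.of_mul_eq_one (⟨((↑uA⁻¹ : A'), (↑uB⁻¹ : B')), hinv⟩ : E α' β') ?_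
    refine Subtype.ext (Prod.ext ?_ ?_)
    · show lA rA * (↑uA⁻¹ : A') = 1
      rw [← huA', Units.mul_inv]
    · show lB rB * (↑uB⁻¹ : B') = 1
      rw [← huB', Units.mul_inv]
  · -- surjectivity
    rintro ⟨⟨a', b'⟩, hz'⟩
    obtain ⟨⟨a, ⟨_, n, rfl⟩⟩, ha⟩ := IsLocalization.surj (Submonoid.powers rA) a'
    obtain ⟨⟨b, ⟨_, m, rfl⟩⟩, hb⟩ := IsLocalization.surj (Submonoid.powers rB) b'
    simp only [hlA, hlB] at ha hb
    -- ha : a' * lA (rA ^ n) = lA a ; hb : b' * lB (rB ^ m) = lB b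
    have hz : α' a' = β' b' := hz'
    obtain ⟨a₁, ha₁def⟩ : ∃ a₁ : A, a₁ = a * rA ^ m := ⟨_, rfl⟩
    obtain ⟨b₁, hb₁def⟩ : ∃ b₁ : B, b₁ = b * rB ^ n := ⟨_, rfl⟩
    have ha₁ : a' * lA (rA ^ (n + m)) = lA a₁ := by
      rw [ha₁def, pow_add, map_mul, ← mul_assoc, ha, map_mul]
    have hb₁ : b' * lB (rB ^ (n + m)) = lB b₁ := by
      rw [hb₁def, pow_add, map_mul, mul_comm (lB (rB ^ n)), ← mul_assoc, hb, map_mul]
    have hpow : α (rA ^ (n + m)) = β (rB ^ (n + m)) := by rw [map_pow, map_pow, hr]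
    have hD1 : lD (α a₁) = lD (β b₁) := by
      calc lD (α a₁) = α' (lA a₁) := (hα' a₁).symm
        _ = α' a' * α' (lA (rA ^ (n + m))) := by rw [← ha₁, map_mul]
        _ = β' b' * lD (α (rA ^ (n + m))) := by rw [hα', hz]
        _ = β' b' * β' (lB (rB ^ (n + m))) := by rw [hpow, hβ']
        _ = β' (lB b₁) := by rw [← hb₁, map_mul]
        _ = lD (β b₁) := hβ' b₁
    obtain ⟨⟨_, k, rfl⟩, hk⟩ := (IsLocalization.eq_iff_exists (Submonoid.powers (α rA)) D').1 hD1
    simp only at hk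
    -- hk : α rA ^ k * α a₁ = α rA ^ k * β b₁
    have hmem : α (rA ^ k * a₁) = β (rB ^ k * b₁) := by
      rw [map_mul, map_mul, map_pow, map_pow, ← hr]
      exact hk
    refine ⟨(⟨(rA ^ k * a₁, rB ^ k * b₁), hmem⟩, ⟨(⟨(rA, rB), hr⟩ : E α β) ^ (n + m + k), n + m + k, rfl⟩), ?_⟩
    refine Subtype.ext (Prod.ext ?_ ?_)
    · show a' * lA (rA ^ (n + m + k)) = lA (rA ^ k * a₁)
      rw [pow_add, map_mul, ← mul_assoc, ha₁, map_mul, mul_comm]
    · show b' * lB (rB ^ (n + m + k)) = lB (rB ^ k * b₁)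
      rw [pow_add, map_mul, ← mul_assoc, hb₁, map_mul, mul_comm]
  · -- exists_of_eq
    rintro ⟨⟨a₁, b₁⟩, h₁⟩ ⟨⟨a₂, b₂⟩, h₂⟩ heq
    have hA' : lA a₁ = lA a₂ := congrArg (fun z : E α' β' => z.1.1) heq
    have hB' : lB b₁ = lB b₂ := congrArg (fun z : E α' β' => z.1.2) heq
    obtain ⟨⟨_, n, rfl⟩, hn⟩ := (IsLocalization.eq_iff_exists (Submonoid.powers rA) A').1 hA'
    obtain ⟨⟨_, m, rfl⟩, hm⟩ := (IsLocalization.eq_iff_exists (Submonoid.powers rB) B').1 hB'
    simp only at hn hm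
    refine ⟨⟨(⟨(rA, rB), hr⟩ : E α β) ^ (n + m), n + m, rfl⟩, ?_⟩
    refine Subtype.ext (Prod.ext ?_ ?_)
    · show rA ^ (n + m) * a₁ = rA ^ (n + m) * a₂
      rw [pow_add, mul_comm (rA ^ n), mul_assoc, hn, ← mul_assoc]
    · show rB ^ (n + m) * b₁ = rB ^ (n + m) * b₂
      rw [pow_add, mul_assoc, hm, ← mul_assoc]

end pb

section bij

variable {A B A' B' : Type*} [CommRing A] [CommRing B] [CommRing A'] [CommRing B']
  (φ : A →+* B) (φ' : A' →+* B') (lA : A →+* A') (lB : B →+* B') (hφ : φ'.comp lA = lB.comp φ)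
  (s : A)

include hφ in
/-- a ring map which is "an isomorphism away from `s`" induces a bijection of the localizations -/
theorem bijective_of_away
    (hA : @IsLocalization.Away A _ s A' _ lA.toAlgebra)
    (hB : @IsLocalization.Away B _ (φ s) B' _ lB.toAlgebra)
    (hker : ∀ a : A, φ a = 0 → s * a = 0) (hsurj : ∀ b : B, ∃ a : A, φ a = φ s * b) :
    Function.Bijective φ' := by
  letI := lA.toAlgebra
  letI := lB.toAlgebra
  have hlA : ∀ a : A, algebraMap A A' a = lA a := fun a => rfl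
  have hlB : ∀ b : B, algebraMap B B' b = lB b := fun b => rfl
  have hφ' : ∀ a : A, φ' (lA a) = lB (φ a) := fun a => congrArg (fun F => F a) hφ
  have huA : IsUnit (lA s) := IsLocalization.Away.algebraMap_isUnit (S := A') s
  have huB : IsUnit (lB (φ s)) := IsLocalization.Away.algebraMap_isUnit (S := B') (φ s)
  constructor
  · rw [injective_iff_map_eq_zero]
    intro a' ha'
    obtain ⟨⟨a, ⟨_, n, rfl⟩⟩, ha⟩ := IsLocalization.surj (Submonoid.powers s) a'
    simp only [hlA] at ha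
    have h1 : lB (φ a) = 0 := by
      rw [← hφ', ← ha, map_mul, ha', zero_mul]
    have h1' : lB (φ a) = lB 0 := by rw [h1, map_zero]
    obtain ⟨⟨_, m, rfl⟩, hm⟩ := (IsLocalization.eq_iff_exists (Submonoid.powers (φ s)) B').1 h1'
    simp only [mul_zero] at hm
    have h2 : φ (s ^ m * a) = 0 := by rw [map_mul, map_pow]; exact hm
    have h3 := hker _ h2
    have h4 : lA s * lA (s ^ m) * lA a = 0 := by
      rw [← map_mul, ← map_mul, mul_assoc, h3, map_zero]
    have h5 : lA a = 0 := by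
      have hu : IsUnit (lA s * lA (s ^ m)) := by
        rw [map_pow]
        exact huA.mul (huA.pow m)
      exact (hu.mul_right_eq_zero).1 h4
    have h6 : a' * lA (s ^ n) = 0 := by rw [ha, h5]
    have hu' : IsUnit (lA (s ^ n)) := by rw [map_pow]; exact huA.pow n
    exact (hu'.mul_left_eq_zero).1 h6
  · intro b'
    obtain ⟨⟨b, ⟨_, n, rfl⟩⟩, hb⟩ := IsLocalization.surj (Submonoid.powers (φ s)) b'
    simp only [hlB] at hb
    obtain ⟨a, ha⟩ := hsurj b
    obtain ⟨u, hu⟩ := huA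
    have hus : φ' (↑u⁻¹ : A') * lB (φ s) = 1 := by
      rw [← hφ', ← hu, ← map_mul, Units.inv_mul, map_one]
    refine ⟨lA a * (↑u⁻¹ : A') ^ (n + 1), ?_⟩
    have hun : IsUnit (lB (φ s ^ n)) := by rw [map_pow]; exact huB.pow n
    apply hun.mul_left_injective
    show φ' (lA a * (↑u⁻¹ : A') ^ (n + 1)) * lB (φ s ^ n) = b' * lB (φ s ^ n)
    rw [hb, map_mul, hφ', ha, map_mul, map_pow, map_pow, pow_succ]
    calc lB (φ s) * lB b * (φ' (↑u⁻¹ : A') ^ n * φ' (↑u⁻¹ : A')) * lB (φ s) ^ n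
        = lB b * (φ' (↑u⁻¹ : A') * lB (φ s)) * (φ' (↑u⁻¹ : A') * lB (φ s)) ^ n := by ring
      _ = lB b := by rw [hus, one_pow, mul_one, mul_one]

end bij

end Groth.Agent.Lib.Helper28.PBLoc
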