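import Groth.Agent.Lib.Helper28.ImgAlg1
import Groth.Agent.Lib.Helper28.PBLoc

/-!
# Fibre products of quasi-coherent algebras (helper28)
-/

set_option autoImplicit false
universe u
open CategoryTheory CategoryTheory.Limits AlgebraicGeometry Opposite TopologicalSpace
noncomputable section

namespace Groth.Agent.Lib.Helper28.QCAlgPB

open Groth.Agent.Lib.Helper28 Groth.Agent.Lib.Helper28.ImgAlg

variable {S : Scheme.{u}} {A B D : RelSpec.QCAlg S} (α : A ⟶ D) (β : B ⟶ D)

/-- `α` on sections -/
abbrev aU (U : S.Opens) : A.presheaf.obj (op U) →+* D.presheaf.obj (op U) := (α.hom.app (op U)).hom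

theorem aU_res {U W : S.Opens} (h : W ≤ U) (a : A.presheaf.obj (op U)) :
    aU α W (rQ A h a) = rQ D h (aU α U a) :=
  congrArg (fun k => k.hom a) (α.hom.naturality (homOfLE h).op)

theorem aU_str (U : S.Opens) (r : Γ(S, U)) : aU α U ((A.str.app (op U)).hom r) = (D.str.app (op U)).hom r :=
  congrArg (fun k => (k.app (op U)).hom r) α.comm

/-- the sections of the fibre product -/
def sub (U : S.Opens) : Subring (A.presheaf.obj (op U) × B.presheaf.obj (op U)) :=
  PBLoc.E (aU α U) (aU β U)

theorem mem_sub (U : S.Opens) (z : A.presheaf.obj (op U) × B.presheaf.obj (op U)) :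
    z ∈ sub α β U ↔ aU α U z.1 = aU β U z.2 := Iff.rfl

/-- restriction -/
def resP {U W : S.Opens} (h : W ≤ U) : sub α β U →+* sub α β W where
  toFun z := ⟨(rQ A h z.1.1, rQ B h z.1.2), by
    rw [mem_sub]
    show aU α W (rQ A h z.1.1) = aU β W (rQ B h z.1.2)
    rw [aU_res, aU_res, (mem_sub α β U z.1).1 z.2]⟩
  map_one' := Subtype.ext (Prod.ext (map_one _) (map_one _))
  map_mul' x y := Subtype.ext (Prod.ext (map_mul _ _ _) (map_mul _ _ _))
  map_zero' := Subtype.ext (Prod.ext (map_zero _) (map_zero _))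
  map_add' x y := Subtype.ext (Prod.ext (map_add _ _ _) (map_add _ _ _))

theorem resP_val {U W : S.Opens} (h : W ≤ U) (z : sub α β U) :
    (resP α β h z).1 = (rQ A h z.1.1, rQ B h z.1.2) := rfl

/-- the presheaf of rings `A ×_D B` -/
def pre : TopCat.Presheaf CommRingCat.{u} S.carrier where
  obj W := CommRingCat.of (sub α β W.unop)
  map {W₁ W₂} i := CommRingCat.ofHom (resP α β (leOfHom i.unop))
  map_id W := by
    apply CommRingCat.hom_ext
    refine RingHom.ext fun z => Subtype.ext (Prod.ext ?_ ?_)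
    · exact rQ_self A z.1.1
    · exact rQ_self B z.1.2
  map_comp {W₁ W₂ W₃} i k := by
    apply CommRingCat.hom_ext
    refine RingHom.ext fun z => Subtype.ext (Prod.ext ?_ ?_)
    · exact (rQ_rQ A _ _ z.1.1).symm
    · exact (rQ_rQ B _ _ z.1.2).symm

theorem isSheaf_pre : (pre α β).IsSheaf := by
  rw [TopCat.Presheaf.isSheaf_iff_isSheafUniqueGluing]
  intro ι U sf hsf
  have hle : ∀ i, U i ≤ iSup U := fun i => le_iSup U i
  have hsf' : ∀ i j, resP α β (inf_le_left : U i ⊓ U j ≤ U i) (sf i) =
      resP α β (inf_le_right : U i ⊓ U j ≤ U j) (sf j) := hsf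
  obtain ⟨a, ha, hau⟩ := TopCat.Sheaf.existsUnique_gluing' (⟨A.presheaf, A.isSheaf⟩ : TopCat.Sheaf CommRingCat S)
    U (iSup U) (fun i => homOfLE (hle i)) le_rfl
    (fun i => (sf i : sub α β (U i)).1.1) (fun i j => congrArg (fun z : sub α β (U i ⊓ U j) => z.1.1) (hsf' i j))
  obtain ⟨b, hb, hbu⟩ := TopCat.Sheaf.existsUnique_gluing' (⟨B.presheaf, B.isSheaf⟩ : TopCat.Sheaf CommRingCat S)
    U (iSup U) (fun i => homOfLE (hle i)) le_rfl
    (fun i => (sf i : sub α β (U i)).1.2) (fun i j => congrArg (fun z : sub α β (U i ⊓ U j) => z.1.2) (hsf' i j))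
  have ha' : ∀ i, rQ A (hle i) a = (sf i : sub α β (U i)).1.1 := ha
  have hb' : ∀ i, rQ B (hle i) b = (sf i : sub α β (U i)).1.2 := hb
  have hmem : (a, b) ∈ sub α β (iSup U) := by
    rw [mem_sub]
    refine TopCat.Sheaf.eq_of_locally_eq' (⟨D.presheaf, D.isSheaf⟩ : TopCat.Sheaf CommRingCat S)
      U (iSup U) (fun i => homOfLE (hle i)) le_rfl _ _ (fun i => ?_)
    show rQ D (hle i) (aU α (iSup U) a) = rQ D (hle i) (aU β (iSup U) b)
    rw [← aU_res, ← aU_res, ha' i, hb' i]
    exact (mem_sub α β (U i) (sf i).1).1 (sf i).2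
  refine ⟨⟨(a, b), hmem⟩, fun i => Subtype.ext (Prod.ext (ha' i) (hb' i)), fun y hy => Subtype.ext (Prod.ext ?_ ?_)⟩
  · refine hau _ (fun i => ?_)
    exact congrArg (fun z : sub α β (U i) => z.1.1) (hy i)
  · refine hbu _ (fun i => ?_)
    exact congrArg (fun z : sub α β (U i) => z.1.2) (hy i)

/-- the structure map -/
def strP : S.presheaf ⟶ pre α β where
  app W := CommRingCat.ofHom
    { toFun := fun r => ⟨((A.str.app W).hom r, (B.str.app W).hom r), by
        rw [mem_sub]
        show aU α W.unop ((A.str.app (op W.unop)).hom r) = aU β W.unop ((B.str.app (op W.unop)).hom r)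
        rw [aU_str, aU_str]⟩
      map_one' := Subtype.ext (Prod.ext (map_one _) (map_one _))
      map_mul' := fun x y => Subtype.ext (Prod.ext (map_mul _ _ _) (map_mul _ _ _))
      map_zero' := Subtype.ext (Prod.ext (map_zero _) (map_zero _))
      map_add' := fun x y => Subtype.ext (Prod.ext (map_add _ _ _) (map_add _ _ _)) }
  naturality W₁ W₂ i := by
    apply CommRingCat.hom_ext
    refine RingHom.ext fun r => Subtype.ext (Prod.ext ?_ ?_)
    · exact congrArg (fun k => k.hom r) (A.str.naturality i)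
    · exact congrArg (fun k => k.hom r) (B.str.naturality i)

theorem strP_val (U : S.Opens) (r : Γ(S, U)) :
    (((strP α β).app (op U)).hom r : sub α β U).1 = ((A.str.app (op U)).hom r, (B.str.app (op U)).hom r) := rfl

theorem isQC_pre : RelSpec.IsQC (pre α β) (strP α β) := by
  intro U hU r
  have hA := A.isQC U hU r
  have hB := B.isQC U hU r
  have hD := D.isQC U hU r
  have hα : (aU α (S.basicOpen r)).comp (rQ A (S.basicOpen_le r)) = (rQ D (S.basicOpen_le r)).comp (aU α U) :=
    RingHom.ext fun a => aU_res α (S.basicOpen_le r) a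
  have hβ : (aU β (S.basicOpen r)).comp (rQ B (S.basicOpen_le r)) = (rQ D (S.basicOpen_le r)).comp (aU β U) :=
    RingHom.ext fun b => aU_res β (S.basicOpen_le r) b
  have hr : aU α U ((A.str.app (op U)).hom r) = aU β U ((B.str.app (op U)).hom r) := by
    rw [aU_str, aU_str]
  have hD' : @IsLocalization.Away _ _ (aU α U ((A.str.app (op U)).hom r)) (D.presheaf.obj (op (S.basicOpen r))) _
      (rQ D (S.basicOpen_le r)).toAlgebra := by
    rw [aU_str]
    exact hD
  exact PBLoc.isLocalization_away (aU α U) (aU β U) (aU α (S.basicOpen r)) (aU β (S.basicOpen r))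
    (rQ A (S.basicOpen_le r)) (rQ B (S.basicOpen_le r)) (rQ D (S.basicOpen_le r)) hα hβ
    ((A.str.app (op U)).hom r) ((B.str.app (op U)).hom r) hr hA hB hD'

/-- the fibre product `A ×_D B` of quasi-coherent algebras -/
def pb : RelSpec.QCAlg S where
  presheaf := pre α β
  isSheaf := isSheaf_pre α β
  str := strP α β
  isQC := isQC_pre α β

/-- the first projection -/
def fst : pb α β ⟶ A where
  hom :=
    { app := fun W => CommRingCat.ofHom ((RingHom.fst _ _).comp (sub α β W.unop).subtype)
      naturality := fun W₁ W₂ i => rfl }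
  comm := rfl

/-- the second projection -/
def snd : pb α β ⟶ B where
  hom :=
    { app := fun W => CommRingCat.ofHom ((RingHom.snd _ _).comp (sub α β W.unop).subtype)
      naturality := fun W₁ W₂ i => rfl }
  comm := rfl

theorem fst_apply (U : S.Opens) (z : (pb α β).presheaf.obj (op U)) :
    ((fst α β).hom.app (op U)).hom z = (show sub α β U from z).1.1 := rfl

theorem snd_apply (U : S.Opens) (z : (pb α β).presheaf.obj (op U)) :
    ((snd α β).hom.app (op U)).hom z = (show sub α β U from z).1.2 := rfl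

theorem condition (U : S.Opens) (z : (pb α β).presheaf.obj (op U)) :
    aU α U (((fst α β).hom.app (op U)).hom z) = aU β U (((snd α β).hom.app (op U)).hom z) :=
  (show sub α β U from z).2

theorem fst_comp : fst α β ≫ α = snd α β ≫ β := by
  apply RelSpec.QCAlg.hom_ext
  ext W z
  exact condition α β W z

/-- constructing sections of the fibre product -/
def mk (U : S.Opens) (a : A.presheaf.obj (op U)) (b : B.presheaf.obj (op U)) (h : aU α U a = aU β U b) :
    (pb α β).presheaf.obj (op U) := (⟨(a, b), h⟩ : sub α β U)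

theorem fst_mk (U : S.Opens) (a : A.presheaf.obj (op U)) (b : B.presheaf.obj (op U)) (h : aU α U a = aU β U b) :
    ((fst α β).hom.app (op U)).hom (mk α β U a b h) = a := rfl

theorem snd_mk (U : S.Opens) (a : A.presheaf.obj (op U)) (b : B.presheaf.obj (op U)) (h : aU α U a = aU β U b) :
    ((snd α β).hom.app (op U)).hom (mk α β U a b h) = b := rfl

theorem ext (U : S.Opens) (z z' : (pb α β).presheaf.obj (op U))
    (h1 : ((fst α β).hom.app (op U)).hom z = ((fst α β).hom.app (op U)).hom z')
    (h2 : ((snd α β).hom.app (op U)).hom z = ((snd α β).hom.app (op U)).hom z') : z = z' :=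
  Subtype.ext (Prod.ext h1 h2)

theorem mk_mul (U : S.Opens) (a a' : A.presheaf.obj (op U)) (b b' : B.presheaf.obj (op U))
    (h : aU α U a = aU β U b) (h' : aU α U a' = aU β U b') :
    mk α β U a b h * mk α β U a' b' h' = mk α β U (a * a') (b * b') (by rw [map_mul, map_mul, h, h']) := rfl

end Groth.Agent.Lib.Helper28.QCAlgPB
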