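import Groth.Agent.Lib.Helper28.GrauertCone
import Groth.Agent.Lib.Helper28.GrauertLI
import Groth.Agent.Lib.Helper28.QCAlgPB
import Groth.Agent.Lib.Helper4.QCAlgPushout

/-!
# Necessity in Grauert's ampleness criterion: contracting the zero section of `V(L)` (helper28)
-/

set_option autoImplicit false
universe u
open CategoryTheory CategoryTheory.Limits AlgebraicGeometry Opposite TopologicalSpace
noncomputable section

namespace Groth.Agent.Lib.Helper28.GrauertNec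

open Groth.Agent.Lib.Helper28

section contraction

variable {X Y : Scheme.{u}} (p : X ⟶ Y) [QuasiCompact p] [QuasiSeparated p]
  (A : RelSpec.QCAlg X) (j0 : X ⟶ A.spec) (hj0 : j0 ≫ A.π = 𝟙 X)

/-- the structure morphism of the relative spectrum over the base `Y` -/
abbrev r : A.spec ⟶ Y := A.π ≫ p

instance : QuasiCompact (r p A) := inferInstance
instance : QuasiSeparated (r p A) := inferInstance

include hj0 in
theorem hw : j0 ≫ r p A = p := by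
  rw [← Category.assoc, hj0, Category.id_comp]

/-- `O_Y → p_* O_X` -/
def αh : RelSpec.QCAlg.unit Y ⟶ RelSpec.QCAlg.directImage p := ⟨p.c, Category.id_comp _⟩

/-- restriction to the section: `r_* O → p_* O_X` -/
def βh : RelSpec.QCAlg.directImage (r p A) ⟶ RelSpec.QCAlg.directImage p :=
  Groth.Agent.Lib.Helper4.QCAlgPushout.dirMap (r p A) p j0 (hw p A j0 hj0)

/-- the algebra of the contraction: functions on `Spec A` which are "constant along the section" -/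
def S' : RelSpec.QCAlg Y := QCAlgPB.pb (αh p) (βh p A j0 hj0)

/-- first projection to `O_Y` -/
abbrev pr1 : S' p A j0 hj0 ⟶ RelSpec.QCAlg.unit Y := QCAlgPB.fst (αh p) (βh p A j0 hj0)

/-- second projection to `r_* O` -/
abbrev pr2 : S' p A j0 hj0 ⟶ RelSpec.QCAlg.directImage (r p A) := QCAlgPB.snd (αh p) (βh p A j0 hj0)

include hj0 in
theorem le_j0 (U : Y.Opens) : p ⁻¹ᵁ U ≤ j0 ⁻¹ᵁ (r p A ⁻¹ᵁ U) := by
  intro x hx
  show (r p A) (j0 x) ∈ U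
  rw [← Scheme.Hom.comp_apply, hw p A j0 hj0]
  exact hx

/-- the compatibility of the two components of a section of `S'` -/
theorem condition (U : Y.Opens) (z : (S' p A j0 hj0).presheaf.obj (op U)) :
    (p.app U).hom (((pr1 p A j0 hj0).hom.app (op U)).hom z) =
      (j0.appLE (r p A ⁻¹ᵁ U) (p ⁻¹ᵁ U) (le_j0 p A j0 hj0 U)).hom (((pr2 p A j0 hj0).hom.app (op U)).hom z) := by
  have h1 := QCAlgPB.condition (αh p) (βh p A j0 hj0) U z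
  have h2 : (βh p A j0 hj0).hom.app (op U) = j0.appLE (r p A ⁻¹ᵁ U) (p ⁻¹ᵁ U) (le_j0 p A j0 hj0 U) :=
    GrauertSec.algHom_app_eq (r p A) p j0 (hw p A j0 hj0) U
  have h3 : QCAlgPB.aU (βh p A j0 hj0) U = (j0.appLE (r p A ⁻¹ᵁ U) (p ⁻¹ᵁ U) (le_j0 p A j0 hj0 U)).hom :=
    congrArg CommRingCat.Hom.hom h2
  rw [h3] at h1
  exact h1

/-- constructing sections of `S'` -/
def mkS (U : Y.Opens) (a : Γ(Y, U)) (b : Γ(A.spec, r p A ⁻¹ᵁ U))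
    (h : (p.app U).hom a = (j0.appLE (r p A ⁻¹ᵁ U) (p ⁻¹ᵁ U) (le_j0 p A j0 hj0 U)).hom b) :
    (S' p A j0 hj0).presheaf.obj (op U) :=
  QCAlgPB.mk (αh p) (βh p A j0 hj0) U a b (by
    have h2 : (βh p A j0 hj0).hom.app (op U) = j0.appLE (r p A ⁻¹ᵁ U) (p ⁻¹ᵁ U) (le_j0 p A j0 hj0 U) :=
      GrauertSec.algHom_app_eq (r p A) p j0 (hw p A j0 hj0) U
    have h3 : QCAlgPB.aU (βh p A j0 hj0) U = (j0.appLE (r p A ⁻¹ᵁ U) (p ⁻¹ᵁ U) (le_j0 p A j0 hj0 U)).hom :=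
      congrArg CommRingCat.Hom.hom h2
    rw [h3]
    exact h)

theorem pr1_mkS (U : Y.Opens) (a : Γ(Y, U)) (b : Γ(A.spec, r p A ⁻¹ᵁ U))
    (h : (p.app U).hom a = (j0.appLE (r p A ⁻¹ᵁ U) (p ⁻¹ᵁ U) (le_j0 p A j0 hj0 U)).hom b) :
    ((pr1 p A j0 hj0).hom.app (op U)).hom (mkS p A j0 hj0 U a b h) = a := rfl

theorem pr2_mkS (U : Y.Opens) (a : Γ(Y, U)) (b : Γ(A.spec, r p A ⁻¹ᵁ U))
    (h : (p.app U).hom a = (j0.appLE (r p A ⁻¹ᵁ U) (p ⁻¹ᵁ U) (le_j0 p A j0 hj0 U)).hom b) :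
    ((pr2 p A j0 hj0).hom.app (op U)).hom (mkS p A j0 hj0 U a b h) = b := rfl

theorem extS (U : Y.Opens) (z z' : (S' p A j0 hj0).presheaf.obj (op U))
    (h1 : ((pr1 p A j0 hj0).hom.app (op U)).hom z = ((pr1 p A j0 hj0).hom.app (op U)).hom z')
    (h2 : ((pr2 p A j0 hj0).hom.app (op U)).hom z = ((pr2 p A j0 hj0).hom.app (op U)).hom z') : z = z' :=
  QCAlgPB.ext (αh p) (βh p A j0 hj0) U z z' h1 h2


/-- the contracted scheme -/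
abbrev Cc : Scheme.{u} := (S' p A j0 hj0).spec

/-- its structure morphism -/
abbrev gc : Cc p A j0 hj0 ⟶ Y := (S' p A j0 hj0).π

/-- the section through the vertex -/
def εc : Y ⟶ Cc p A j0 hj0 := Groth.Agent.Lib.Helper27.ConeVertex.sectionOf (S' p A j0 hj0) (pr1 p A j0 hj0)

theorem εc_gc : εc p A j0 hj0 ≫ gc p A j0 hj0 = 𝟙 Y :=
  Groth.Agent.Lib.Helper27.ConeVertex.sectionOf_π _ _

/-- the algebra map defining `q` -/
def ωc : AffAlg.alg (gc p A j0 hj0) ⟶ AffAlg.alg (r p A) :=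
  (S' p A j0 hj0).gammaMap ≫ (pr2 p A j0 hj0).hom

theorem hωc : (gc p A j0 hj0).c ≫ ωc p A j0 hj0 = (r p A).c := by
  unfold ωc
  rw [← Category.assoc, (S' p A j0 hj0).π_c_gammaMap]
  exact (pr2 p A j0 hj0).comm

theorem exists_q : ∃ (q : A.spec ⟶ Cc p A j0 hj0) (hq : q ≫ gc p A j0 hj0 = r p A),
    AffAlg.algHom (gc p A j0 hj0) (r p A) q hq = ωc p A j0 hj0 := by
  obtain ⟨⟨q, hq⟩, h⟩ := (Groth.Agent.Lib.Helper4.AffAlgBij.main3569 (gc p A j0 hj0) (r p A)).2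
    ⟨ωc p A j0 hj0, hωc p A j0 hj0⟩
  exact ⟨q, hq, congrArg Subtype.val h⟩

/-- the contraction morphism -/
def qc : A.spec ⟶ Cc p A j0 hj0 := (exists_q p A j0 hj0).choose

theorem qc_gc : qc p A j0 hj0 ≫ gc p A j0 hj0 = r p A := (exists_q p A j0 hj0).choose_spec.choose

theorem algHom_qc : AffAlg.algHom (gc p A j0 hj0) (r p A) (qc p A j0 hj0) (qc_gc p A j0 hj0) = ωc p A j0 hj0 :=
  (exists_q p A j0 hj0).choose_spec.choose_spec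

theorem le_qc (U : Y.Opens) : r p A ⁻¹ᵁ U ≤ qc p A j0 hj0 ⁻¹ᵁ (gc p A j0 hj0 ⁻¹ᵁ U) := by
  intro v hv
  show (gc p A j0 hj0) ((qc p A j0 hj0) v) ∈ U
  rw [← Scheme.Hom.comp_apply, qc_gc]
  exact hv

theorem qc_preimage (U : Y.Opens) : qc p A j0 hj0 ⁻¹ᵁ (gc p A j0 hj0 ⁻¹ᵁ U) = r p A ⁻¹ᵁ U := by
  rw [← Scheme.Hom.comp_preimage, qc_gc]

/-- (Q1) `q` on functions -/
theorem qc_appLE (U : Y.Opens) :
    (qc p A j0 hj0).appLE (gc p A j0 hj0 ⁻¹ᵁ U) (r p A ⁻¹ᵁ U) (le_qc p A j0 hj0 U) =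
      (S' p A j0 hj0).gammaMap.app (op U) ≫ (pr2 p A j0 hj0).hom.app (op U) := by
  have h1 := GrauertSec.algHom_app_eq (gc p A j0 hj0) (r p A) (qc p A j0 hj0) (qc_gc p A j0 hj0) U
  rw [algHom_qc] at h1
  exact h1.symm

theorem le_εc (U : Y.Opens) : U ≤ εc p A j0 hj0 ⁻¹ᵁ (gc p A j0 hj0 ⁻¹ᵁ U) := by
  intro y hy
  show (gc p A j0 hj0) ((εc p A j0 hj0) y) ∈ U
  rw [← Scheme.Hom.comp_apply, εc_gc]
  exact hy

/-- (E1) `ε` on functions -/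
theorem εc_appLE (U : Y.Opens) (hU : IsAffineOpen U) :
    (εc p A j0 hj0).appLE (gc p A j0 hj0 ⁻¹ᵁ U) U (le_εc p A j0 hj0 U) =
      (S' p A j0 hj0).gammaMap.app (op U) ≫ (pr1 p A j0 hj0).hom.app (op U) := by
  rw [(S' p A j0 hj0).gammaMap_app U hU]
  exact GrauertSec.section_appLE (S' p A j0 hj0) (pr1 p A j0 hj0) (εc p A j0 hj0)
    (fun W hW => Groth.Agent.Lib.Helper27.ConeVertex.fromSpec_sectionOf _ _ W hW) U hU (le_εc p A j0 hj0 U)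


/-- the square commutes: the zero section is contracted onto the vertex section -/
theorem j0_qc : j0 ≫ qc p A j0 hj0 = p ≫ εc p A j0 hj0 := by
  have w1 : (j0 ≫ qc p A j0 hj0) ≫ gc p A j0 hj0 = p := by
    rw [Category.assoc, qc_gc, hw p A j0 hj0]
  have w2 : (p ≫ εc p A j0 hj0) ≫ gc p A j0 hj0 = p := by
    rw [Category.assoc, εc_gc, Category.comp_id]
  apply Scheme.hom_ext_of_forall
  intro x
  obtain ⟨U, hxU⟩ := TopologicalSpace.Opens.mem_iSup.mp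
    ((iSup_affineOpens_eq_top Y).ge (Set.mem_univ (p x)))
  refine ⟨p ⁻¹ᵁ U.1, hxU, ?_⟩
  rw [Groth.Agent.Lib.Helper4.AffAlgBij.ι_comp_of_over (gc p A j0 hj0) p (j0 ≫ qc p A j0 hj0) w1 U.1
      (U.2.preimage (gc p A j0 hj0)),
    Groth.Agent.Lib.Helper4.AffAlgBij.ι_comp_of_over (gc p A j0 hj0) p (p ≫ εc p A j0 hj0) w2 U.1
      (U.2.preimage (gc p A j0 hj0))]
  have key : (AffAlg.algHom (gc p A j0 hj0) p (j0 ≫ qc p A j0 hj0) w1).app (op U.1) =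
      (AffAlg.algHom (gc p A j0 hj0) p (p ≫ εc p A j0 hj0) w2).app (op U.1) := by
    rw [GrauertSec.algHom_app_eq, GrauertSec.algHom_app_eq]
    have e1 : (qc p A j0 hj0).appLE (gc p A j0 hj0 ⁻¹ᵁ U.1) (r p A ⁻¹ᵁ U.1) (le_qc p A j0 hj0 U.1) ≫
        j0.appLE (r p A ⁻¹ᵁ U.1) (p ⁻¹ᵁ U.1) (le_j0 p A j0 hj0 U.1) =
        (j0 ≫ qc p A j0 hj0).appLE (gc p A j0 hj0 ⁻¹ᵁ U.1) (p ⁻¹ᵁ U.1)
          (by rw [← Scheme.Hom.comp_preimage, w1]) :=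
      Scheme.Hom.appLE_comp_appLE _ _ _ _ _ _ _
    have e2 : (εc p A j0 hj0).appLE (gc p A j0 hj0 ⁻¹ᵁ U.1) U.1 (le_εc p A j0 hj0 U.1) ≫
        p.appLE U.1 (p ⁻¹ᵁ U.1) le_rfl =
        (p ≫ εc p A j0 hj0).appLE (gc p A j0 hj0 ⁻¹ᵁ U.1) (p ⁻¹ᵁ U.1)
          (by rw [← Scheme.Hom.comp_preimage, w2]) :=
      Scheme.Hom.appLE_comp_appLE _ _ _ _ _ _ _
    rw [← e1, ← e2, qc_appLE, εc_appLE p A j0 hj0 U.1 U.2, ← Scheme.Hom.app_eq_appLE]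
    ext c
    exact (condition p A j0 hj0 U.1 (((S' p A j0 hj0).gammaMap.app (op U.1)).hom c)).symm
  rw [key]


omit [QuasiCompact p] [QuasiSeparated p] in
theorem gamma_inj {S : Scheme.{u}} (D : RelSpec.QCAlg S) (U : S.Opens) (c c' : Γ(D.spec, D.π ⁻¹ᵁ U))
    (h : (D.gammaMap.app (op U)).hom c = (D.gammaMap.app (op U)).hom c') : c = c' := by
  have h1 := congrArg (fun k => k.app (op U)) (Groth.Agent.Lib.Helper4.QCAlgPushout.comp_gammaInvMap D)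
  have h2 : D.gammaMap.app (op U) ≫ (Groth.Agent.Lib.Helper4.QCAlgPushout.gammaInvMap D).app (op U) = 𝟙 _ := h1
  have h3 := congr($(h2).hom c)
  have h4 := congr($(h2).hom c')
  have h5 : ((Groth.Agent.Lib.Helper4.QCAlgPushout.gammaInvMap D).app (op U)).hom
      ((D.gammaMap.app (op U)).hom c) = c := h3
  have h6 : ((Groth.Agent.Lib.Helper4.QCAlgPushout.gammaInvMap D).app (op U)).hom
      ((D.gammaMap.app (op U)).hom c') = c' := h4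
  rw [← h5, ← h6, h]

omit [QuasiCompact p] [QuasiSeparated p] in
theorem gamma_surj {S : Scheme.{u}} (D : RelSpec.QCAlg S) (U : S.Opens) (z : D.presheaf.obj (op U)) :
    ∃ c : Γ(D.spec, D.π ⁻¹ᵁ U), (D.gammaMap.app (op U)).hom c = z := by
  have h1 := congrArg (fun k => k.app (op U)) (Groth.Agent.Lib.Helper4.QCAlgPushout.gammaInvMap_comp D)
  have h2 : (Groth.Agent.Lib.Helper4.QCAlgPushout.gammaInvMap D).app (op U) ≫ D.gammaMap.app (op U) = 𝟙 _ := h1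
  exact ⟨((Groth.Agent.Lib.Helper4.QCAlgPushout.gammaInvMap D).app (op U)).hom z, congr($(h2).hom z)⟩

/-- (LI) the contraction morphism is an open immersion on the nonvanishing locus of a function vanishing
at the vertex section, when this locus is affine -/
theorem isOpenImmersion_basicOpen (U : Y.Opens) (hU : IsAffineOpen U)
    (c : Γ(Cc p A j0 hj0, gc p A j0 hj0 ⁻¹ᵁ U))
    (hc : ((pr1 p A j0 hj0).hom.app (op U)).hom (((S' p A j0 hj0).gammaMap.app (op U)).hom c) = 0)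
    (b : Γ(A.spec, r p A ⁻¹ᵁ U))
    (hb : ((pr2 p A j0 hj0).hom.app (op U)).hom (((S' p A j0 hj0).gammaMap.app (op U)).hom c) = b)
    (haff : IsAffineOpen (A.spec.basicOpen b)) :
    IsOpenImmersion ((A.spec.basicOpen b).ι ≫ qc p A j0 hj0) := by
  have hq : ∀ a : Γ(Cc p A j0 hj0, gc p A j0 hj0 ⁻¹ᵁ U),
      ((qc p A j0 hj0).appLE (gc p A j0 hj0 ⁻¹ᵁ U) (r p A ⁻¹ᵁ U) (le_qc p A j0 hj0 U)).hom a =
        ((pr2 p A j0 hj0).hom.app (op U)).hom (((S' p A j0 hj0).gammaMap.app (op U)).hom a) := fun a =>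
    congr($(qc_appLE p A j0 hj0 U).hom a)
  refine GrauertLI.isOpenImmersion_of_away (qc p A j0 hj0) (gc p A j0 hj0 ⁻¹ᵁ U) (hU.preimage (gc p A j0 hj0))
    (r p A ⁻¹ᵁ U) ((r p A).isCompact_preimage hU.isCompact)
    ((r p A).isQuasiSeparated_preimage hU.isQuasiSeparated) (le_qc p A j0 hj0 U) c ?_ ?_ b
    ((hq c).trans hb) haff
  · intro a ha
    have ha' : ((pr2 p A j0 hj0).hom.app (op U)).hom (((S' p A j0 hj0).gammaMap.app (op U)).hom a) =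
        (0 : ↑((RelSpec.QCAlg.directImage (r p A)).presheaf.obj (op U))) := (hq a).symm.trans ha
    apply gamma_inj (S' p A j0 hj0) U
    rw [map_mul, map_zero]
    apply extS p A j0 hj0 U
    · rw [map_mul, hc, zero_mul, map_zero]
    · rw [map_mul, ha', mul_zero, map_zero]
  · intro b''
    have hcond := condition p A j0 hj0 U (((S' p A j0 hj0).gammaMap.app (op U)).hom c)
    have h0 : (j0.appLE (r p A ⁻¹ᵁ U) (p ⁻¹ᵁ U) (le_j0 p A j0 hj0 U)).hom b = 0 := by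
      rw [← hb, ← hcond]
      exact (congrArg (p.app U).hom hc).trans (map_zero _)
    have h : (p.app U).hom 0 = (j0.appLE (r p A ⁻¹ᵁ U) (p ⁻¹ᵁ U) (le_j0 p A j0 hj0 U)).hom (b * b'') := by
      rw [map_zero, map_mul, h0, zero_mul]
    obtain ⟨a, ha⟩ := gamma_surj (S' p A j0 hj0) U (mkS p A j0 hj0 U 0 (b * b'') h)
    refine ⟨a, ?_⟩
    rw [hq a, hq c, ha, hb, pr2_mkS]

/-- the locus of (LI) -/
theorem basicOpen_eq (U : Y.Opens)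
    (c : Γ(Cc p A j0 hj0, gc p A j0 hj0 ⁻¹ᵁ U))
    (b : Γ(A.spec, r p A ⁻¹ᵁ U))
    (hb : ((pr2 p A j0 hj0).hom.app (op U)).hom (((S' p A j0 hj0).gammaMap.app (op U)).hom c) = b) :
    A.spec.basicOpen b = r p A ⁻¹ᵁ U ⊓ qc p A j0 hj0 ⁻¹ᵁ ((Cc p A j0 hj0).basicOpen c) := by
  have h1 := GrauertLI.basicOpen_eq (qc p A j0 hj0) (gc p A j0 hj0 ⁻¹ᵁ U) (r p A ⁻¹ᵁ U) (le_qc p A j0 hj0 U) c
  have h2 : ((qc p A j0 hj0).appLE (gc p A j0 hj0 ⁻¹ᵁ U) (r p A ⁻¹ᵁ U) (le_qc p A j0 hj0 U)).hom c = b :=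
    (congr($(qc_appLE p A j0 hj0 U).hom c)).trans hb
  rw [h2] at h1
  exact h1

/-- the vertex section avoids the nonvanishing locus of a function vanishing at the vertex -/
theorem εc_not_mem_basicOpen (U : Y.Opens) (hU : IsAffineOpen U)
    (c : Γ(Cc p A j0 hj0, gc p A j0 hj0 ⁻¹ᵁ U))
    (hc : ((pr1 p A j0 hj0).hom.app (op U)).hom (((S' p A j0 hj0).gammaMap.app (op U)).hom c) = 0)
    (y : Y) (hy : y ∈ U) : (εc p A j0 hj0) y ∉ (Cc p A j0 hj0).basicOpen c := by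
  intro hmem
  have h1 := Scheme.basicOpen_appLE (εc p A j0 hj0) U (gc p A j0 hj0 ⁻¹ᵁ U) (le_εc p A j0 hj0 U) c
  have h2 : ((εc p A j0 hj0).appLE (gc p A j0 hj0 ⁻¹ᵁ U) U (le_εc p A j0 hj0 U)).hom c = 0 :=
    (congr($(εc_appLE p A j0 hj0 U hU).hom c)).trans hc
  rw [h2, Scheme.basicOpen_zero] at h1
  have h3 : y ∈ U ⊓ εc p A j0 hj0 ⁻¹ᵁ ((Cc p A j0 hj0).basicOpen c) := ⟨hy, hmem⟩
  rw [← h1] at h3
  exact h3

end contraction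


section cone

open Groth.Agent.Lib.Helper28.QCohLoc Groth.Agent.Lib.Helper28.TraceAlg
open Groth.Agent.Lib.Helper28.GenLocus Groth.Agent.Lib.Helper28.SymAlg Groth.Agent.Lib.Helper28.AmpleUnit
open Groth.Agent.Lib.Helper28.RLPsi Groth.Agent.Lib.Helper28.SymPow

variable {X Y : Scheme.{u}} (p : X ⟶ Y) {L : X.Modules} [L.IsQuasicoherent]
  {𝒜 : RelProj.QCGrAlg X} {j : L ⟶ 𝒜.toModule} (hA : RelProj.IsGrSymAlg L 𝒜 j) (hL : PicF.IsInvertible L)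
  (h0 : RelCone.StrZeroBij 𝒜) (aug : 𝒜.toQCAlg ⟶ RelSpec.QCAlg.unit X) (haug : RelCone.IsAugmentation 𝒜 aug)
  (j0 : X ⟶ 𝒜.toQCAlg.spec) (hj0 : RelCone.IsVertex 𝒜 aug j0)

include hA hL h0 haug hj0 in
/-- **relative ampleness produces enough homogeneous functions on the line bundle** -/
theorem exists_homog_function (hamp : RelAmple.IsRelAmple p L) (v : 𝒜.toQCAlg.spec) (hv : v ∉ Set.range j0)
    (U : Y.Opens) (hU : IsAffineOpen U) (hvU : p (𝒜.toQCAlg.π v) ∈ U)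
    (hle : p ⁻¹ᵁ U ≤ j0 ⁻¹ᵁ (𝒜.toQCAlg.π ⁻¹ᵁ (p ⁻¹ᵁ U))) :
    ∃ b : Γ(𝒜.toQCAlg.spec, 𝒜.toQCAlg.π ⁻¹ᵁ (p ⁻¹ᵁ U)),
      v ∈ 𝒜.toQCAlg.spec.basicOpen b ∧ IsAffineOpen (𝒜.toQCAlg.spec.basicOpen b) ∧
      (∀ w ∈ 𝒜.toQCAlg.spec.basicOpen b, w ∉ Set.range j0) ∧
      (j0.appLE (𝒜.toQCAlg.π ⁻¹ᵁ (p ⁻¹ᵁ U)) (p ⁻¹ᵁ U) hle).hom b = 0 := by
  have hx : 𝒜.toQCAlg.π v ∈ p ⁻¹ᵁ U := hvU
  obtain ⟨n, s', hys', haff⟩ := (hamp.2 ⟨U, hU⟩).2.2 ⟨𝒜.toQCAlg.π v, hx⟩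
  obtain ⟨τ₀, hτ₀, hloc⟩ := exists_locDeg_of_section hA hL (n + 1) (p ⁻¹ᵁ U) s'
  obtain ⟨b, hbτ⟩ := gamma_surj 𝒜.toQCAlg (p ⁻¹ᵁ U) τ₀
  have hτ : LocDeg 𝒜 (n + 1) (p ⁻¹ᵁ U) ((𝒜.toQCAlg.gammaMap.app (op (p ⁻¹ᵁ U))).hom b) := by
    rw [hbτ]; exact hτ₀
  have hxNV : 𝒜.toQCAlg.π v ∈ NVloc 𝒜 (n + 1) (p ⁻¹ᵁ U) ((𝒜.toQCAlg.gammaMap.app (op (p ⁻¹ᵁ U))).hom b) := by
    rw [hbτ]
    have h1 : (⟨𝒜.toQCAlg.π v, hx⟩ : ((p ⁻¹ᵁ U : X.Opens) : Scheme.{u})) ∈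
        (p ⁻¹ᵁ U).ι ⁻¹ᵁ NVloc 𝒜 (n + 1) (p ⁻¹ᵁ U) τ₀ := by
      rw [hloc]
      exact hys'
    exact h1
  have haffNV : IsAffineOpen (NVloc 𝒜 (n + 1) (p ⁻¹ᵁ U) ((𝒜.toQCAlg.gammaMap.app (op (p ⁻¹ᵁ U))).hom b)) := by
    rw [hbτ]
    have h1 := haff.image_of_isOpenImmersion (p ⁻¹ᵁ U).ι
    rw [← hloc, Scheme.Hom.image_preimage_eq_opensRange_inf, Scheme.Opens.opensRange_ι,
      inf_eq_right.2 (NVloc_le (n + 1) (p ⁻¹ᵁ U) _)] at h1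
    exact h1
  refine ⟨b, ?_, ?_, ?_, ?_⟩
  · exact (Grauert.mem_basicOpen_iff_of_locDeg hA hL h0 aug haug j0 hj0 (n + 1) (Nat.succ_pos n) (p ⁻¹ᵁ U) b hτ
      v hx).2 ⟨hv, hxNV⟩
  · exact Grauert.isAffineOpen_basicOpen_of_locDeg hA hL h0 aug haug j0 hj0 (n + 1) (Nat.succ_pos n) (p ⁻¹ᵁ U) b hτ
      haffNV
  · intro w hw
    have hwX : 𝒜.toQCAlg.π w ∈ p ⁻¹ᵁ U := 𝒜.toQCAlg.spec.basicOpen_le b hw
    exact ((Grauert.mem_basicOpen_iff_of_locDeg hA hL h0 aug haug j0 hj0 (n + 1) (Nat.succ_pos n) (p ⁻¹ᵁ U) b hτ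
      w hwX).1 hw).1
  · exact Grauert.j0_appLE_eq_zero aug haug j0 hj0 (n + 1) (Nat.succ_pos n) (p ⁻¹ᵁ U) b hτ hle


include hA hL h0 haug hj0 in
/-- (COV) every point off the zero section lies in the affine nonvanishing locus of a function coming from the
contraction and vanishing at the vertex -/
theorem exists_chart [QuasiCompact p] [QuasiSeparated p] (hamp : RelAmple.IsRelAmple p L)
    (v : 𝒜.toQCAlg.spec) (hv : v ∉ Set.range j0) :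
    ∃ (U : Y.Opens) (_ : IsAffineOpen U) (c : Γ(Cc p 𝒜.toQCAlg j0 hj0.comp_π, gc p 𝒜.toQCAlg j0 hj0.comp_π ⁻¹ᵁ U))
      (b : Γ(𝒜.toQCAlg.spec, r p 𝒜.toQCAlg ⁻¹ᵁ U)),
      ((pr1 p 𝒜.toQCAlg j0 hj0.comp_π).hom.app (op U)).hom
        (((S' p 𝒜.toQCAlg j0 hj0.comp_π).gammaMap.app (op U)).hom c) = 0 ∧
      ((pr2 p 𝒜.toQCAlg j0 hj0.comp_π).hom.app (op U)).hom
        (((S' p 𝒜.toQCAlg j0 hj0.comp_π).gammaMap.app (op U)).hom c) = b ∧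
      v ∈ 𝒜.toQCAlg.spec.basicOpen b ∧ IsAffineOpen (𝒜.toQCAlg.spec.basicOpen b) ∧
      (∀ w ∈ 𝒜.toQCAlg.spec.basicOpen b, w ∉ Set.range j0) := by
  obtain ⟨U, hvU⟩ := TopologicalSpace.Opens.mem_iSup.mp
    ((iSup_affineOpens_eq_top Y).ge (Set.mem_univ (p (𝒜.toQCAlg.π v))))
  obtain ⟨b, hvb, haff, hsub, hb0⟩ := exists_homog_function p hA hL h0 aug haug j0 hj0 hamp v hv U.1 U.2 hvU
    (le_j0 p 𝒜.toQCAlg j0 hj0.comp_π U.1)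
  have h : (p.app U.1).hom 0 =
      (j0.appLE (r p 𝒜.toQCAlg ⁻¹ᵁ U.1) (p ⁻¹ᵁ U.1) (le_j0 p 𝒜.toQCAlg j0 hj0.comp_π U.1)).hom b := by
    rw [map_zero]
    exact hb0.symm
  obtain ⟨c, hc⟩ := gamma_surj (S' p 𝒜.toQCAlg j0 hj0.comp_π) U.1 (mkS p 𝒜.toQCAlg j0 hj0.comp_π U.1 0 b h)
  refine ⟨U.1, U.2, c, b, ?_, ?_, hvb, haff, hsub⟩
  · rw [hc, pr1_mkS]
    rfl
  · rw [hc, pr2_mkS]

include hA hL h0 haug hj0 in
/-- the contraction is an open immersion off the zero section -/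
theorem isOpenImmersion_qc [QuasiCompact p] [QuasiSeparated p] (hamp : RelAmple.IsRelAmple p L)
    (V0 : 𝒜.toQCAlg.spec.Opens) (hV0 : (V0 : Set 𝒜.toQCAlg.spec) = (Set.range j0.base)ᶜ) :
    IsOpenImmersion (V0.ι ≫ qc p 𝒜.toQCAlg j0 hj0.comp_π) := by
  have hπ : j0 ≫ 𝒜.toQCAlg.π = 𝟙 X := hj0.comp_π
  have hmemV0 : ∀ w : 𝒜.toQCAlg.spec, w ∈ V0 ↔ w ∉ Set.range j0 := by
    intro w
    have : w ∈ (V0 : Set 𝒜.toQCAlg.spec) ↔ w ∈ (Set.range j0.base)ᶜ := by rw [hV0]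
    exact this
  refine IsOpenImmersion.of_forall_source_exists (V0.ι ≫ qc p 𝒜.toQCAlg j0 hπ) ?_ ?_
  · -- injectivity
    intro v₁ v₂ h12
    have h12' : (qc p 𝒜.toQCAlg j0 hπ) v₁.1 = (qc p 𝒜.toQCAlg j0 hπ) v₂.1 := h12
    obtain ⟨U, hU, c, b, hc, hb, hvb, haff, hsub⟩ := exists_chart p hA hL h0 aug haug j0 hj0 hamp v₁.1
      ((hmemV0 v₁.1).1 v₁.2)
    have hW := basicOpen_eq p 𝒜.toQCAlg j0 hπ U c b hb
    have := isOpenImmersion_basicOpen p 𝒜.toQCAlg j0 hπ U hU c hc b hb haff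
    have hv₁ : v₁.1 ∈ r p 𝒜.toQCAlg ⁻¹ᵁ U ⊓
        qc p 𝒜.toQCAlg j0 hπ ⁻¹ᵁ ((Cc p 𝒜.toQCAlg j0 hπ).basicOpen c) := by
      rw [← hW]; exact hvb
    have hv₂ : v₂.1 ∈ 𝒜.toQCAlg.spec.basicOpen b := by
      rw [hW]
      refine ⟨?_, ?_⟩
      · have e1 : (r p 𝒜.toQCAlg) v₂.1 = (r p 𝒜.toQCAlg) v₁.1 := by
          rw [← qc_gc p 𝒜.toQCAlg j0 hπ, Scheme.Hom.comp_apply, Scheme.Hom.comp_apply, h12']
        show (r p 𝒜.toQCAlg) v₂.1 ∈ U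
        rw [e1]
        exact hv₁.1
      · show (qc p 𝒜.toQCAlg j0 hπ) v₂.1 ∈ (Cc p 𝒜.toQCAlg j0 hπ).basicOpen c
        rw [← h12']
        exact hv₁.2
    have hinj : Function.Injective ((𝒜.toQCAlg.spec.basicOpen b).ι ≫ qc p 𝒜.toQCAlg j0 hπ) :=
      ((𝒜.toQCAlg.spec.basicOpen b).ι ≫ qc p 𝒜.toQCAlg j0 hπ).isOpenEmbedding.injective
    have h3 : (⟨v₁.1, hvb⟩ : ↥(𝒜.toQCAlg.spec.basicOpen b)) = ⟨v₂.1, hv₂⟩ := hinj h12'
    have h4 : v₁.1 = v₂.1 := congrArg (fun w : ↥(𝒜.toQCAlg.spec.basicOpen b) => w.1) h3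
    exact Subtype.ext h4
  · -- local open immersion
    intro x
    obtain ⟨U, hU, c, b, hc, hb, hvb, haff, hsub⟩ := exists_chart p hA hL h0 aug haug j0 hj0 hamp x.1
      ((hmemV0 x.1).1 x.2)
    have hWV0 : 𝒜.toQCAlg.spec.basicOpen b ≤ V0 := fun w hw => (hmemV0 w).2 (hsub w hw)
    have := isOpenImmersion_basicOpen p 𝒜.toQCAlg j0 hπ U hU c hc b hb haff
    refine ⟨(𝒜.toQCAlg.spec.basicOpen b : Scheme.{u}), 𝒜.toQCAlg.spec.homOfLE hWV0, inferInstance, ?_, ?_⟩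
    · refine ⟨⟨x.1, hvb⟩, ?_⟩
      apply Subtype.ext
      exact Scheme.homOfLE_apply _ _
    · rw [Scheme.homOfLE_ι_assoc]
      infer_instance

include hA hL h0 haug hj0 in
/-- the image of the complement of the zero section does not meet the vertex section -/
theorem range_inter_range_eq_empty [QuasiCompact p] [QuasiSeparated p] (hamp : RelAmple.IsRelAmple p L)
    (V0 : 𝒜.toQCAlg.spec.Opens) (hV0 : (V0 : Set 𝒜.toQCAlg.spec) = (Set.range j0.base)ᶜ) :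
    Set.range (V0.ι ≫ qc p 𝒜.toQCAlg j0 hj0.comp_π).base ∩ Set.range (εc p 𝒜.toQCAlg j0 hj0.comp_π).base = ∅ := by
  have hπ : j0 ≫ 𝒜.toQCAlg.π = 𝟙 X := hj0.comp_π
  have hmemV0 : ∀ w : 𝒜.toQCAlg.spec, w ∈ V0 ↔ w ∉ Set.range j0 := by
    intro w
    have : w ∈ (V0 : Set 𝒜.toQCAlg.spec) ↔ w ∈ (Set.range j0.base)ᶜ := by rw [hV0]
    exact this
  rw [Set.eq_empty_iff_forall_notMem]
  rintro c' ⟨⟨v, hv⟩, ⟨y, hy⟩⟩
  have hvy : (qc p 𝒜.toQCAlg j0 hπ) v.1 = (εc p 𝒜.toQCAlg j0 hπ) y := hv.trans hy.symm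
  obtain ⟨U, hU, c, b, hc, hb, hvb, haff, hsub⟩ := exists_chart p hA hL h0 aug haug j0 hj0 hamp v.1
    ((hmemV0 v.1).1 v.2)
  have hW := basicOpen_eq p 𝒜.toQCAlg j0 hπ U c b hb
  have hv₁ : v.1 ∈ r p 𝒜.toQCAlg ⁻¹ᵁ U ⊓
      qc p 𝒜.toQCAlg j0 hπ ⁻¹ᵁ ((Cc p 𝒜.toQCAlg j0 hπ).basicOpen c) := by
    rw [← hW]; exact hvb
  have hyU : y ∈ U := by
    have e1 : (gc p 𝒜.toQCAlg j0 hπ) ((εc p 𝒜.toQCAlg j0 hπ) y) = y := by
      rw [← Scheme.Hom.comp_apply, εc_gc]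
      rfl
    have e2 : (gc p 𝒜.toQCAlg j0 hπ) ((qc p 𝒜.toQCAlg j0 hπ) v.1) = (r p 𝒜.toQCAlg) v.1 := by
      rw [← Scheme.Hom.comp_apply, qc_gc]
    rw [← e1, ← hvy, e2]
    exact hv₁.1
  refine εc_not_mem_basicOpen p 𝒜.toQCAlg j0 hπ U hU c hc y hyU ?_
  rw [← hvy]
  exact hv₁.2

include hA hL h0 haug hj0 in
/-- **necessity in Grauert's criterion**: if `L` is relatively ample, the zero section of `V(L)` can be contracted -/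
theorem exists_contraction [QuasiCompact p] [QuasiSeparated p] (hamp : RelAmple.IsRelAmple p L)
    (V0 : 𝒜.toQCAlg.spec.Opens) (hV0 : (V0 : Set 𝒜.toQCAlg.spec) = (Set.range j0.base)ᶜ) :
    ∃ (C : Scheme.{u}) (g : C ⟶ Y) (ε : Y ⟶ C) (q : 𝒜.toQCAlg.spec ⟶ C),
      ε ≫ g = 𝟙 Y ∧ q ≫ g = 𝒜.toQCAlg.π ≫ p ∧ j0 ≫ q = p ≫ ε ∧ IsAffineHom g ∧
        IsOpenImmersion (V0.ι ≫ q) ∧ Set.range (V0.ι ≫ q).base ∩ Set.range ε.base = ∅ :=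
  ⟨Cc p 𝒜.toQCAlg j0 hj0.comp_π, gc p 𝒜.toQCAlg j0 hj0.comp_π, εc p 𝒜.toQCAlg j0 hj0.comp_π,
    qc p 𝒜.toQCAlg j0 hj0.comp_π, εc_gc p 𝒜.toQCAlg j0 hj0.comp_π, qc_gc p 𝒜.toQCAlg j0 hj0.comp_π,
    j0_qc p 𝒜.toQCAlg j0 hj0.comp_π, inferInstance,
    isOpenImmersion_qc p hA hL h0 aug haug j0 hj0 hamp V0 hV0,
    range_inter_range_eq_empty p hA hL h0 aug haug j0 hj0 hamp V0 hV0⟩

end cone

end Groth.Agent.Lib.Helper28.GrauertNec
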