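import Groth.Agent.Lib.Helper28.GrauertFactorC
import Groth.Agent.Lib.Helper28.SymAlgSmooth

set_option autoImplicit false
universe u
open CategoryTheory CategoryTheory.Limits AlgebraicGeometry Opposite TopologicalSpace
noncomputable section

namespace Groth.Agent.Lib.Helper28.GrauertFactor

open Groth.Agent.Lib.Helper28 Groth.Agent.Lib.Helper28.GrauertNec
open Groth.Agent.Lib.Helper28.QCohLoc Groth.Agent.Lib.Helper28.TraceAlg
open Groth.Agent.Lib.Helper28.GenLocus Groth.Agent.Lib.Helper28.SymAlg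

attribute [local instance] algAt

section topology

/-- a space covered by irreducible open subsets which pairwise meet is irreducible -/
theorem irreducibleSpace_of_cover {α : Type*} [TopologicalSpace α] [Nonempty α] {ι : Type*} (O : ι → Set α)
    (hirr : ∀ i, IsIrreducible (O i)) (hopen : ∀ i, IsOpen (O i)) (hcov : ∀ a, ∃ i, a ∈ O i)
    (hmeet : ∀ i i', (O i ∩ O i').Nonempty) : IrreducibleSpace α := by
  haveI : PreirreducibleSpace α := by
    constructor
    intro A B hA hB ⟨a, _, haA⟩ ⟨b, _, hbB⟩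
    obtain ⟨i, hai⟩ := hcov a
    obtain ⟨i', hbi'⟩ := hcov b
    obtain ⟨c, hci, hcA, hci'⟩ := (hirr i).2 A (O i') hA (hopen i') ⟨a, hai, haA⟩ (hmeet i i')
    obtain ⟨d, -, hdA, hdB⟩ := (hirr i').2 A B hA hB ⟨c, hci', hcA⟩ ⟨b, hbi', hbB⟩
    exact ⟨d, Set.mem_univ d, hdA, hdB⟩
  exact ⟨inferInstance⟩

end topology

section domain

variable {X : Scheme.{u}} {L : X.Modules} [L.IsQuasicoherent] {A : RelSpec.QCAlg X} {j : L ⟶ A.toModule}

/-- the sections of the symmetric algebra of an invertible module over a trivializing affine open with a domain of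
functions form a domain -/
theorem isDomain_sections (hA : RelSpec.IsSymAlg L A j) {W : X.Opens} (hW : IsAffineOpen W) {g : Γ(L, W)}
    (hg : IsGen L W g) [IsDomain Γ(X, W)] : IsDomain (A.presheaf.obj (op W)) := by
  let e1 : SymmetricAlgebra Γ(X, W) Γ(L, W) ≃ₐ[Γ(X, W)] (A.presheaf.obj (op W)) :=
    AlgEquiv.ofBijective (liftU A j W) (liftU_bijective hA W hW)
  have hbij : Function.Bijective (LinearMap.toSpanSingleton Γ(X, W) Γ(L, W) g) := by
    have h1 := hg W le_rfl
    rw [res_self] at h1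
    exact h1
  let b : Module.Basis Unit Γ(X, W) Γ(L, W) :=
    (Module.Basis.singleton Unit Γ(X, W)).map (LinearEquiv.ofBijective _ hbij)
  let e2 := SymmetricAlgebra.equivMvPolynomial b
  exact MulEquiv.isDomain (MvPolynomial Unit Γ(X, W)) (e1.symm.trans e2).toRingEquiv.toMulEquiv

end domain

section coord

variable {X : Scheme.{u}} {L : X.Modules} [L.IsQuasicoherent] {A : RelSpec.QCAlg X} {j : L ⟶ A.toModule}

/-- the coordinate of a line bundle on a trivializing chart is not zero -/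
theorem coord_ne_zero (hA : RelSpec.IsSymAlg L A j) {W : X.Opens} (hW : IsAffineOpen W) {g : Γ(L, W)}
    (hg : IsGen L W g) [Nontrivial Γ(X, W)] : asR A (j.app W g) ≠ 0 := by
  intro h
  have hbij : Function.Bijective (LinearMap.toSpanSingleton Γ(X, W) Γ(L, W) g) := by
    have h1 := hg W le_rfl
    rw [res_self] at h1
    exact h1
  let e := LinearEquiv.ofBijective _ hbij
  have he : e.symm g = 1 := by
    rw [LinearEquiv.symm_apply_eq]
    show g = LinearMap.toSpanSingleton Γ(X, W) Γ(L, W) g 1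
    rw [LinearMap.toSpanSingleton_apply, one_smul]
  have h1 : liftU A j W (SymmetricAlgebra.ι Γ(X, W) Γ(L, W) g) = 0 := by
    rw [liftU_ι]; exact h
  have h2 : SymmetricAlgebra.ι Γ(X, W) Γ(L, W) g = 0 :=
    (liftU_bijective hA W hW).1 (by rw [h1, map_zero])
  have h3 : SymmetricAlgebra.lift e.symm.toLinearMap (SymmetricAlgebra.ι Γ(X, W) Γ(L, W) g) = 1 := by
    rw [SymmetricAlgebra.lift_ι_apply]
    exact he
  rw [h2, map_zero] at h3
  exact zero_ne_one h3

end coord

section affineDomain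

variable {V : Scheme.{u}} {O : V.Opens} (hO : IsAffineOpen O) [IsDomain Γ(V, O)]

include hO in
theorem isIrreducible_of_isAffineOpen_of_isDomain : IsIrreducible (O : Set V) := by
  have h1 : IsIrreducible (Set.univ : Set (Spec Γ(V, O))) := IrreducibleSpace.isIrreducible_univ _
  have h2 := h1.image hO.fromSpec hO.fromSpec.continuous.continuousOn
  rw [Set.image_univ, hO.range_fromSpec] at h2
  exact h2

include hO in
theorem isDomain_stalk_of_isAffineOpen_of_isDomain (v : V) (hv : v ∈ O) : IsDomain (V.presheaf.stalk v) := by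
  have h1 := hO.isLocalization_stalk ⟨v, hv⟩
  exact @IsLocalization.isDomain_of_atPrime Γ(V, O) _ _ (V.presheaf.stalk v) _
    (TopCat.Presheaf.algebra_section_stalk V.presheaf ⟨v, hv⟩) (hO.primeIdealOf ⟨v, hv⟩).asIdeal _ h1

end affineDomain

section integralV

variable {X : Scheme.{u}} [IsIntegral X] {L : X.Modules} [L.IsQuasicoherent] {A : RelSpec.QCAlg X}
  {j : L ⟶ A.toModule}

theorem isDomain_Γ_preimage (hA : RelSpec.IsSymAlg L A j) {W : X.Opens} (hW : IsAffineOpen W) {g : Γ(L, W)}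
    (hg : IsGen L W g) [Nonempty W] : IsDomain Γ(A.spec, A.π ⁻¹ᵁ W) := by
  haveI := isDomain_sections hA hW hg
  have hiso : IsIso (A.gammaAff W hW) := by
    rw [← A.gammaMap_app W hW]
    haveI := Groth.Agent.Lib.Helper4.QCAlgPushout.isIso_gammaMap A
    exact NatIso.isIso_app_of_isIso _ _
  have hinj : Function.Injective (A.gammaAff W hW).hom :=
    ((ConcreteCategory.isIso_iff_bijective _).1 hiso).1
  exact hinj.isDomain _

/-- **the line bundle of an invertible module over an integral scheme is integral** -/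
theorem isIntegral_spec (hA : RelSpec.IsSymAlg L A j) (hL : PicF.IsInvertible L) (j0 : X ⟶ A.spec)
    (hj0 : j0 ≫ A.π = 𝟙 X) : IsIntegral A.spec := by
  have hπsurj : Function.Surjective A.π := by
    intro x
    refine ⟨j0 x, ?_⟩
    rw [← Scheme.Hom.comp_apply, hj0]
    rfl
  haveI : Nonempty A.spec := ⟨j0 (Nonempty.some inferInstance)⟩
  -- charts
  have hchart : ∀ x : X, ∃ (W : X.Opens), x ∈ W ∧ IsAffineOpen (A.π ⁻¹ᵁ W) ∧ IsDomain Γ(A.spec, A.π ⁻¹ᵁ W) := by
    intro x
    obtain ⟨W, g, hxW, hW, hg⟩ := Groth.Agent.Lib.Helper28.GenLocus.exists_isGen_affine L hL x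
    haveI : Nonempty W := ⟨⟨x, hxW⟩⟩
    exact ⟨W, hxW, hW.preimage A.π, isDomain_Γ_preimage hA hW hg⟩
  choose W hxW hWaff hWdom using hchart
  haveI : IrreducibleSpace A.spec := by
    refine irreducibleSpace_of_cover (fun x : X => ((A.π ⁻¹ᵁ (W x) : A.spec.Opens) : Set A.spec))
      (fun x => ?_) (fun x => (A.π ⁻¹ᵁ (W x)).isOpen) (fun v => ⟨A.π v, hxW (A.π v)⟩) (fun x x' => ?_)
    · haveI := hWdom x
      exact isIrreducible_of_isAffineOpen_of_isDomain (hWaff x)
    · have hne : ((W x ⊓ W x' : X.Opens) : Set X).Nonempty := by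
        have h1 := (IrreducibleSpace.isIrreducible_univ X).2 (W x) (W x') (W x).isOpen (W x').isOpen
          ⟨x, Set.mem_univ _, hxW x⟩ ⟨x', Set.mem_univ _, hxW x'⟩
        obtain ⟨z, -, hz⟩ := h1
        exact ⟨z, hz⟩
      obtain ⟨z, hz1, hz2⟩ := hne
      obtain ⟨v, rfl⟩ := hπsurj z
      exact ⟨v, hz1, hz2⟩
  haveI : ∀ v : A.spec, _root_.IsReduced (A.spec.presheaf.stalk v) := by
    intro v
    haveI := hWdom (A.π v)
    haveI := isDomain_stalk_of_isAffineOpen_of_isDomain (hWaff (A.π v)) v (hxW (A.π v))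
    infer_instance
  haveI : IsReduced A.spec := isReduced_of_isReduced_stalk A.spec
  exact isIntegral_of_irreducibleSpace_of_isReduced A.spec

end integralV

section normal

variable {C : Scheme.{u}}

/-- on a normal scheme, the functions on an affine open whose ring of functions is a domain form an integrally
closed domain -/
theorem isIntegrallyClosed_sections (hC : Pi1.IsNormalScheme C) {T : C.Opens} (hT : IsAffineOpen T)
    [IsDomain Γ(C, T)] : IsIntegrallyClosed Γ(C, T) := by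
  refine IsIntegrallyClosed.of_localization_maximal fun p _ hp => ?_
  haveI : p.IsPrime := hp.isPrime
  let y : PrimeSpectrum Γ(C, T) := ⟨p, inferInstance⟩
  have hy : hT.fromSpec y ∈ T := by
    have h1 : hT.fromSpec y ∈ Set.range hT.fromSpec := ⟨y, rfl⟩
    rw [hT.range_fromSpec] at h1
    exact h1
  have hloc := hT.isLocalization_stalk' y hy
  haveI := (hC (hT.fromSpec y)).2
  letI alg := TopCat.Presheaf.algebra_section_stalk C.presheaf ⟨hT.fromSpec y, hy⟩
  let e : C.presheaf.stalk (hT.fromSpec y) ≃ₐ[Γ(C, T)] Localization.AtPrime p :=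
    @IsLocalization.algEquiv Γ(C, T) _ p.primeCompl (C.presheaf.stalk (hT.fromSpec y)) _ alg hloc
      (Localization.AtPrime p) _ _ _
  exact IsIntegrallyClosed.of_equiv e.toRingEquiv

end normal

section algebra

open Polynomial in
/-- an injective integral "birational" extension of an integrally closed domain by a domain is trivial -/
theorem surjective_of_integral_birational {R B : Type*} [CommRing R] [IsDomain R] [IsIntegrallyClosed R]
    [CommRing B] [IsDomain B] (ψ : R →+* B) (hinj : Function.Injective ψ) (hint : ψ.IsIntegral)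
    (r : R) (hr : r ≠ 0) (hbir : ∀ b : B, ∃ (n : ℕ) (a : R), ψ r ^ n * b = ψ a) : Function.Surjective ψ := by
  intro b
  obtain ⟨n, a, hna⟩ := hbir b
  obtain ⟨P, hPm, hPb⟩ := hint b
  set s : R := r ^ n with hs
  have hs0 : s ≠ 0 := pow_ne_zero n hr
  have hQ : eval₂ ψ (ψ a) (scaleRoots P s) = 0 := by
    have h1 := scaleRoots_eval₂_eq_zero (p := P) ψ (s := s) hPb
    rw [hs, map_pow, hna] at h1
    exact h1
  have hQ' : eval a (scaleRoots P s) = 0 := by
    apply hinj
    rw [map_zero, ← hQ, Polynomial.eval₂_hom]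
  -- in the fraction field
  let K := FractionRing R
  let f : R →+* K := algebraMap R K
  have hfinj : Function.Injective f := IsFractionRing.injective R K
  have hfs : f s ≠ 0 := fun h => hs0 (hfinj (by rw [h, map_zero]))
  have hx : eval₂ f (f a / f s) P = 0 := by
    have h1 := scaleRoots_eval₂_mul (p := P) f (f a / f s) s
    rw [mul_div_cancel₀ _ hfs, Polynomial.eval₂_hom, hQ', map_zero] at h1
    have h2 := mul_eq_zero.1 h1.symm
    rcases h2 with h2 | h2
    · exact (hfs (pow_eq_zero_iff (by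
        intro hd
        rw [hd, pow_zero] at h2
        exact one_ne_zero h2) |>.1 h2)).elim
    · exact h2
  have hxi : IsIntegral R (f a / f s) := ⟨P, hPm, hx⟩
  obtain ⟨ρ, hρ⟩ := IsIntegrallyClosed.isIntegral_iff.1 hxi
  have h3 : a = s * ρ := by
    apply hfinj
    rw [map_mul]
    show f a = f s * algebraMap R K ρ
    rw [hρ, mul_div_cancel₀ _ hfs]
  refine ⟨ρ, ?_⟩
  have h4 : ψ r ^ n * ψ ρ = ψ r ^ n * b := by
    rw [hna, h3, hs, map_mul, map_pow]
  have h5 : ψ r ^ n ≠ 0 := by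
    apply pow_ne_zero
    intro h
    exact hr (hinj (by rw [h, map_zero]))
  exact mul_left_cancel₀ h5 h4

end algebra

section birational

variable {V C : Scheme.{u}} (q : V ⟶ C)

theorem isReduced_of_normal (hC : Pi1.IsNormalScheme C) : IsReduced C := by
  haveI : ∀ c : C, _root_.IsReduced (C.presheaf.stalk c) := by
    intro c
    haveI := (hC c).1
    infer_instance
  exact isReduced_of_isReduced_stalk C

theorem irreducibleSpace_of_surjective [IrreducibleSpace V] (hqsurj : Function.Surjective q) :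
    IrreducibleSpace C := by
  have h1 : IsIrreducible (Set.univ : Set V) := IrreducibleSpace.isIrreducible_univ _
  have h2 := h1.image q q.continuous.continuousOn
  rw [Set.image_univ, Set.range_eq_univ.2 hqsurj] at h2
  haveI : PreirreducibleSpace C := ⟨h2.2⟩
  haveI : Nonempty C := ⟨q (Nonempty.some inferInstance)⟩
  exact ⟨inferInstance⟩

theorem app_injective_of_surjective [IsReduced C] (hqsurj : Function.Surjective q) (T : C.Opens) :
    Function.Injective (q.app T).hom := by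
  rw [injective_iff_map_eq_zero]
  intro a ha
  apply eq_zero_of_basicOpen_eq_bot
  rw [eq_bot_iff]
  intro c hc
  obtain ⟨v, rfl⟩ := hqsurj c
  have h1 : v ∈ q ⁻¹ᵁ (C.basicOpen a) := hc
  rw [Scheme.preimage_basicOpen, ha, Scheme.basicOpen_zero] at h1
  exact h1

theorem app_isIntegral [UniversallyClosed q] {T : C.Opens} (hT : IsAffineOpen T) : (q.app T).hom.IsIntegral := by
  haveI : IsAffine (T : Scheme.{u}) := hT
  have h1 := isIntegral_appTop_of_universallyClosed (q ∣_ T)
  have h2 : (q ∣_ T).appTop = q.appLE (T.ι ''ᵁ ⊤) ((q ⁻¹ᵁ T).ι ''ᵁ ((q ∣_ T) ⁻¹ᵁ ⊤))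
      (image_morphismRestrict_preimage q T ⊤).le := morphismRestrict_app' q T ⊤
  rw [h2] at h1
  rw [Scheme.Hom.app_eq_appLE]
  refine (q.appLE_congr _ ?_ ?_ (fun ψ => ψ.hom.IsIntegral)).1 h1
  · exact Scheme.Opens.ι_image_top T
  · rw [Scheme.Hom.preimage_top]
    exact Scheme.Opens.ι_image_top (q ⁻¹ᵁ T)

theorem isIso_app_of_le (V0 : V.Opens) [IsOpenImmersion (V0.ι ≫ q)]
    (hsat : ∀ v : V, q v ∈ Set.range (V0.ι ≫ q).base → v ∈ V0) (D : C.Opens)
    (hD : D ≤ (V0.ι ≫ q).opensRange) : IsIso (q.app D) := by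
  have h1 : IsIso ((V0.ι ≫ q).app D) := Scheme.Hom.isIso_app (V0.ι ≫ q) D hD
  have h2 : IsIso (V0.ι.app (q ⁻¹ᵁ D)) := by
    refine Scheme.Hom.isIso_app V0.ι (q ⁻¹ᵁ D) ?_
    intro v hv
    rw [Scheme.Opens.opensRange_ι]
    exact hsat v (hD hv)
  rw [Scheme.Hom.comp_app] at h1
  exact @IsIso.of_isIso_comp_right _ _ _ _ _ (q.app D) (V0.ι.app (q ⁻¹ᵁ D)) h2 h1

theorem app_bijective_of_isAffineOpen [IsIntegral V] [UniversallyClosed q] (hqsurj : Function.Surjective q)
    (hC : Pi1.IsNormalScheme C) (V0 : V.Opens) (hV0ne : (V0 : Set V).Nonempty) [IsOpenImmersion (V0.ι ≫ q)]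
    (hsat : ∀ v : V, q v ∈ Set.range (V0.ι ≫ q).base → v ∈ V0) {T : C.Opens} (hT : IsAffineOpen T) :
    Function.Bijective (q.app T).hom := by
  haveI := isReduced_of_normal hC
  haveI := irreducibleSpace_of_surjective q hqsurj
  haveI : IsIntegral C := isIntegral_of_irreducibleSpace_of_isReduced C
  have hinj := app_injective_of_surjective q hqsurj T
  refine ⟨hinj, ?_⟩
  by_cases hTe : (T : Set C).Nonempty
  · haveI : Nonempty T := hTe.to_subtype
    haveI : Nonempty (q ⁻¹ᵁ T).toScheme := by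
      obtain ⟨c, hc⟩ := hTe
      obtain ⟨v, rfl⟩ := hqsurj c
      exact ⟨⟨v, hc⟩⟩
    haveI : IsDomain Γ(C, T) := inferInstance
    haveI : IsDomain Γ(V, q ⁻¹ᵁ T) := IsIntegral.component_integral (q ⁻¹ᵁ T)
    haveI := isIntegrallyClosed_sections hC hT
    have hC0ne : (((V0.ι ≫ q).opensRange : C.Opens) : Set C).Nonempty := by
      obtain ⟨v, hv⟩ := hV0ne
      exact ⟨(V0.ι ≫ q) ⟨v, hv⟩, ⟨⟨v, hv⟩, rfl⟩⟩
    obtain ⟨c, hcT, hcC0⟩ : ((T : Set C) ∩ ((V0.ι ≫ q).opensRange : Set C)).Nonempty :=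
      nonempty_preirreducible_inter T.isOpen (V0.ι ≫ q).opensRange.isOpen hTe hC0ne
    obtain ⟨r, hrC0, hcr⟩ := hT.exists_basicOpen_le ⟨c, hcC0⟩ hcT
    have hr0 : r ≠ 0 := by
      rintro rfl
      rw [Scheme.basicOpen_zero] at hcr
      exact hcr
    refine surjective_of_integral_birational (q.app T).hom hinj (app_isIntegral q hT) r hr0 (fun b => ?_)
    have hDT : C.basicOpen r ≤ T := C.basicOpen_le r
    have hiso := isIso_app_of_le q V0 hsat (C.basicOpen r) hrC0
    have hbij := (ConcreteCategory.isIso_iff_bijective _).1 hiso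
    obtain ⟨s, hs⟩ := hbij.2 ((V.presheaf.map (homOfLE (q.preimage_mono hDT)).op).hom b)
    haveI := hT.isLocalization_basicOpen r
    obtain ⟨⟨a, ⟨_, n, rfl⟩⟩, ha⟩ := IsLocalization.surj (Submonoid.powers r) s
    refine ⟨n, a, ?_⟩
    haveI : Nonempty (q ⁻¹ᵁ (C.basicOpen r)).toScheme := by
      obtain ⟨v, rfl⟩ := hqsurj c
      exact ⟨⟨v, hcr⟩⟩
    apply map_injective_of_isIntegral V (homOfLE (q.preimage_mono hDT))
    have hnat : ∀ x : Γ(C, T), (V.presheaf.map (homOfLE (q.preimage_mono hDT)).op).hom ((q.app T).hom x) =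
        (q.app (C.basicOpen r)).hom ((C.presheaf.map (homOfLE hDT).op).hom x) := by
      intro x
      exact (congr($(q.naturality (homOfLE hDT).op).hom x)).symm
    have ha' : s * (C.presheaf.map (homOfLE hDT).op).hom (r ^ n) = (C.presheaf.map (homOfLE hDT).op).hom a := ha
    rw [map_mul, map_pow, hnat r, hnat a, ← hs, ← ha', map_mul, map_pow, map_pow, mul_comm]
  · -- empty `T`
    intro b
    have hbot : q ⁻¹ᵁ T = ⊥ := by
      rw [eq_bot_iff]
      intro v hv
      exact (hTe ⟨q v, hv⟩).elim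
    haveI : Subsingleton Γ(V, q ⁻¹ᵁ T) := by rw [hbot]; infer_instance
    exact ⟨0, Subsingleton.elim _ _⟩

end birational

section homeo

/-- a bijective closed morphism inducing bijections on functions over a basis of opens is an isomorphism -/
theorem isIso_of_app_bijective {Z C : Scheme.{u}} (t : Z ⟶ C) (hinj : Function.Injective t)
    (hsurj : Function.Surjective t) (hcl : IsClosedMap t)
    (h : ∀ T : C.Opens, IsAffineOpen T → Function.Bijective (t.app T).hom) : IsIso t := by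
  have hemb : Topology.IsClosedEmbedding t := .of_continuous_injective_isClosedMap t.continuous hinj hcl
  let φ := hemb.isEmbedding.toHomeomorphOfSurjective hsurj
  have hopen : Topology.IsOpenEmbedding t := φ.isOpenEmbedding
  have happ : ∀ W : C.Opens, IsIso (t.app W) := by
    intro W
    refine isIso_app_of_basis t (fun T : C.affineOpens => T.1) ?_ (fun T => ?_) W
    · have : Set.range (fun T : C.affineOpens => T.1) = C.affineOpens := Subtype.range_coe
      rw [this]
      exact C.isBasis_affineOpens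
    · exact (ConcreteCategory.isIso_iff_bijective _).2 (h T.1 T.2)
  haveI : IsOpenImmersion t := ⟨hopen, fun U => happ (hopen.isOpenMap.functor.obj U)⟩
  haveI : Surjective t := ⟨hsurj⟩
  exact (isIso_iff_isOpenImmersion_and_surjective t).2 ⟨inferInstance, inferInstance⟩

end homeo


section cone

variable {X Y : Scheme.{u}} (p : X ⟶ Y) [IsProper p] {L : X.Modules} [L.IsQuasicoherent]
  {𝒜 : RelProj.QCGrAlg X} {j : L ⟶ 𝒜.toModule} (hA : RelProj.IsGrSymAlg L 𝒜 j) (hL : PicF.IsInvertible L)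
  (h0 : RelCone.StrZeroBij 𝒜) (aug : 𝒜.toQCAlg ⟶ RelSpec.QCAlg.unit X) (haug : RelCone.IsAugmentation 𝒜 aug)
  (j0 : X ⟶ 𝒜.toQCAlg.spec) (hj0 : RelCone.IsVertex 𝒜 aug j0) (hθ : IsIso p.c)

omit [IsProper p] in
include hA hL h0 haug hj0 in
/-- the zero section of a line bundle over an integral scheme is not everything -/
theorem exists_not_mem_range_j0 [IsIntegral X] : ∃ v : 𝒜.toQCAlg.spec, v ∉ Set.range j0 := by
  obtain ⟨W, g, hxW, hW, hg⟩ := Groth.Agent.Lib.Helper28.GenLocus.exists_isGen_affine L hL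
    (Nonempty.some (inferInstance : Nonempty X))
  haveI : Nonempty W.toScheme := ⟨⟨_, hxW⟩⟩
  haveI : IsDomain Γ(X, W) := IsIntegral.component_integral W
  haveI := isDomain_sections hA.1 hW hg
  let P : Spec (𝒜.presheaf.obj (op W)) := ⟨⊥, Ideal.isPrime_bot⟩
  refine ⟨(𝒜.toQCAlg.ι W hW) P, ?_⟩
  rw [Groth.Agent.Lib.Helper27.ConeVertex.ι_mem_range_iff 𝒜 aug h0 haug j0 hj0 W hW P]
  intro hP
  have h1 : (HomogeneousIdeal.irrelevant (𝒜.deg W hW)).toIdeal ≤ P.asIdeal := hP
  rw [Groth.Agent.Lib.Helper28.Grauert.irrelevant_le_iff hA hW hg P.asIdeal] at h1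
  exact coord_ne_zero hA.1 hW hg h1

include hA hL h0 haug hj0 hθ in
/-- **the contraction is the unique normal one**: every factorization through `Spec` of the full direct image algebra
is an isomorphism when the target is normal and `X` is integral -/
theorem isIso_factor [IsIntegral X] (hamp : RelAmple.IsRelAmple p L) {C : Scheme.{u}}
    (g : C ⟶ Y) (ε : Y ⟶ C) (hε : ε ≫ g = 𝟙 Y) (q : 𝒜.toQCAlg.spec ⟶ C)
    (hqg : q ≫ g = 𝒜.toQCAlg.π ≫ p) (hjq : j0 ≫ q = p ≫ ε)
    (q' : 𝒜.toQCAlg.spec ⟶ (RelSpec.QCAlg.directImage (𝒜.toQCAlg.π ≫ p)).spec)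
    (hq'π : q' ≫ (RelSpec.QCAlg.directImage (𝒜.toQCAlg.π ≫ p)).π = 𝒜.toQCAlg.π ≫ p)
    (hq' : AffAlg.algHom (RelSpec.QCAlg.directImage (𝒜.toQCAlg.π ≫ p)).π (𝒜.toQCAlg.π ≫ p) q' hq'π =
      (RelSpec.QCAlg.directImage (𝒜.toQCAlg.π ≫ p)).gammaMap)
    (hC : Pi1.IsNormalScheme C)
    [IsProper q] (V0 : 𝒜.toQCAlg.spec.Opens) (hV0 : (V0 : Set 𝒜.toQCAlg.spec) = (Set.range j0.base)ᶜ)
    (hqo : IsOpenImmersion (V0.ι ≫ q)) (hqr : Set.range (V0.ι ≫ q).base = (Set.range ε.base)ᶜ)
    (u : (RelSpec.QCAlg.directImage (𝒜.toQCAlg.π ≫ p)).spec ⟶ C)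
    (hug : u ≫ g = (RelSpec.QCAlg.directImage (𝒜.toQCAlg.π ≫ p)).π) (hu : q' ≫ u = q) : IsIso u := by
  have hπ : j0 ≫ 𝒜.toQCAlg.π = 𝟙 X := hj0.comp_π
  have hmemV0 : ∀ w : 𝒜.toQCAlg.spec, w ∈ V0 ↔ w ∉ Set.range j0 := by
    intro w
    have : w ∈ (V0 : Set 𝒜.toQCAlg.spec) ↔ w ∈ (Set.range j0.base)ᶜ := by rw [hV0]
    exact this
  obtain ⟨huc, husurj, hui, -⟩ := factor_properties p hA hL h0 aug haug j0 hj0 hθ hamp g ε hε q hqg hjq
    q' hq'π hq' V0 hV0 hqo hqr u hug hu
  haveI := huc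
  haveI := hui
  haveI : IsIntegral 𝒜.toQCAlg.spec := isIntegral_spec hA.1 hL j0 hπ
  have psurj : Function.Surjective p :=
    surjective_of_isClosedMap p p.isClosedMap (fun U => (p_app_bijective p hθ U).1)
  have hq1 : ∀ z : X, q (j0 z) = ε (p z) := by
    intro z
    rw [← Scheme.Hom.comp_apply, ← Scheme.Hom.comp_apply, hjq]
  have qfull : Function.Surjective q := by
    intro c
    by_cases hc : c ∈ Set.range ε.base
    · obtain ⟨y, rfl⟩ := hc
      obtain ⟨x, rfl⟩ := psurj y
      exact ⟨j0 x, hq1 x⟩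
    · have hc' : c ∈ Set.range (V0.ι ≫ q).base := by rw [hqr]; exact hc
      obtain ⟨v, rfl⟩ := hc'
      exact ⟨V0.ι v, rfl⟩
  have hsat : ∀ v : 𝒜.toQCAlg.spec, q v ∈ Set.range (V0.ι ≫ q).base → v ∈ V0 := by
    intro v hv
    rw [hmemV0]
    rintro ⟨x, rfl⟩
    rw [hqr] at hv
    exact hv ⟨p x, (hq1 x).symm⟩
  have hV0ne : (V0 : Set 𝒜.toQCAlg.spec).Nonempty := by
    obtain ⟨v, hv⟩ := exists_not_mem_range_j0 hA hL h0 aug haug j0 hj0
    exact ⟨v, (hmemV0 v).2 hv⟩
  haveI := hqo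
  have hbijq : ∀ T : C.Opens, IsAffineOpen T → Function.Bijective (q.app T).hom := fun T hT =>
    app_bijective_of_isAffineOpen q qfull hC V0 hV0ne hsat hT
  -- pass to `q'`
  obtain ⟨e, he⟩ := exists_iso_spec_directImage p 𝒜.toQCAlg j0 hπ hθ q' hq'π hq'
  have hq'e : q' = qc p 𝒜.toQCAlg j0 hπ ≫ e.inv := by
    rw [← he, Category.assoc, e.hom_inv_id, Category.comp_id]
  have hq'bij : ∀ W : (RelSpec.QCAlg.directImage (𝒜.toQCAlg.π ≫ p)).spec.Opens,
      Function.Bijective (q'.app W).hom := by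
    intro W
    have h1 : IsIso ((qc p 𝒜.toQCAlg j0 hπ ≫ e.inv).app W) := by
      rw [Scheme.Hom.comp_app]
      have h3 : IsIso (e.inv.app W) := inferInstance
      have h4 := isIso_qc_app p 𝒜.toQCAlg j0 hπ hθ (e.inv ⁻¹ᵁ W)
      exact @IsIso.comp_isIso _ _ _ _ _ _ _ h3 h4
    have h2 : ∀ m : 𝒜.toQCAlg.spec ⟶ (RelSpec.QCAlg.directImage (𝒜.toQCAlg.π ≫ p)).spec,
        m = qc p 𝒜.toQCAlg j0 hπ ≫ e.inv → IsIso (m.app W) := by
      rintro m rfl
      exact h1
    exact (ConcreteCategory.isIso_iff_bijective _).1 (h2 q' hq'e)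
  have hubij : ∀ T : C.Opens, IsAffineOpen T → Function.Bijective (u.app T).hom := by
    intro T hT
    have h1 : ∀ m : 𝒜.toQCAlg.spec ⟶ C, m = q' ≫ u → Function.Bijective (m.app T).hom →
        Function.Bijective (u.app T).hom := by
      rintro m rfl hm
      have hm' : Function.Bijective ((q'.app (u ⁻¹ᵁ T)).hom ∘ (u.app T).hom) := hm
      exact (Function.Bijective.of_comp_iff' (hq'bij (u ⁻¹ᵁ T)) _).1 hm'
    exact h1 q hu.symm (hbijq T hT)
  exact isIso_of_app_bijective u u.injective husurj u.isClosedMap hubij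

end cone

end Groth.Agent.Lib.Helper28.GrauertFactor
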