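import Mathlib

/-!
# An integrality criterion for algebras generated by one element (helper28)
-/

set_option autoImplicit false

namespace Groth.Agent.Lib.Helper28.LineIntegral

variable {R B A₀ : Type*} [CommRing R] [CommRing B] [CommRing A₀]

/-- Let `B` be generated by the image of `σ : A₀ → B` and one element `t`.  If `Φ : R → B` has the image of `σ` in its
range, and the `β ∈ A₀` such that `σ β · t^n` lies in the range of `Φ` for some `n > 0` generate the unit ideal, then
`Φ` is integral. -/
theorem isIntegral_of_line (Φ : R →+* B) (σ : A₀ →+* B) (t : B)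
    (hσ : ∀ a, σ a ∈ Φ.range)
    (hgen : ∀ y : B, y ∈ Subring.closure (Set.range σ ∪ {t}))
    (I₀ : Set A₀) (hI₀ : Ideal.span I₀ = ⊤)
    (hI : ∀ β ∈ I₀, ∃ n, 0 < n ∧ σ β * t ^ n ∈ Φ.range) :
    Φ.IsIntegral := by
  letI := Φ.toAlgebra
  have hΦ : ∀ r : R, algebraMap R B r = Φ r := fun r => rfl
  have hint_range : ∀ y ∈ Φ.range, IsIntegral R y := by
    rintro y ⟨r, rfl⟩
    rw [← hΦ]
    exact isIntegral_algebraMap
  have hσint : ∀ a, IsIntegral R (σ a) := fun a => hint_range _ (hσ a)
  -- the ideal of coefficients making `t` integral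
  let J : Ideal A₀ :=
    { carrier := {β | IsIntegral R (σ β * t)}
      add_mem' := by
        intro a b ha hb
        show IsIntegral R (σ (a + b) * t)
        rw [map_add, add_mul]
        exact ha.add hb
      zero_mem' := by
        show IsIntegral R (σ 0 * t)
        rw [map_zero, zero_mul]
        exact isIntegral_zero
      smul_mem' := by
        intro a b hb
        show IsIntegral R (σ (a • b) * t)
        rw [smul_eq_mul, map_mul, mul_assoc]
        exact (hσint a).mul hb }
  have hJ : I₀ ⊆ (J : Set A₀) := by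
    intro β hβ
    obtain ⟨n, hn, hmem⟩ := hI β hβ
    have h1 : IsIntegral R (σ β * t ^ n) := hint_range _ hmem
    have h2 : (σ β * t) ^ n = σ β ^ (n - 1) * (σ β * t ^ n) := by
      obtain ⟨m, rfl⟩ : ∃ m, n = m + 1 := ⟨n - 1, by omega⟩
      rw [mul_pow, Nat.add_sub_cancel, pow_succ (σ β) m]
      ring
    have h3 : IsIntegral R ((σ β * t) ^ n) := by
      rw [h2]
      exact ((hσint β).pow _).mul h1
    exact IsIntegral.of_pow hn h3
  have hJtop : J = ⊤ := by
    rw [eq_top_iff, ← hI₀]
    exact Ideal.span_le.2 hJ
  have ht : IsIntegral R t := by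
    have h1 : (1 : A₀) ∈ J := by rw [hJtop]; exact Submodule.mem_top
    have h2 : IsIntegral R (σ 1 * t) := h1
    rwa [map_one, one_mul] at h2
  intro y
  show IsIntegral R y
  have hle : Subring.closure (Set.range σ ∪ {t}) ≤ (integralClosure R B).toSubring := by
    rw [Subring.closure_le]
    rintro z (⟨a, rfl⟩ | hz)
    · exact hσint a
    · rw [Set.mem_singleton_iff] at hz
      rw [hz]
      exact ht
  exact hle (hgen y)

end Groth.Agent.Lib.Helper28.LineIntegral
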