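import Groth.Agent.Lib.Helper28.GrauertNec
import Groth.Agent.Lib.Helper28.LineIntegral

/-!
# Grauert's criterion, proper case: the contraction of the zero section is proper (helper28)

`q : V(L) ⟶ C` factors as the integral morphism `V(L) ⟶ C ×_Y X` followed by the base change of `p`.
-/

set_option autoImplicit false
universe u
open CategoryTheory CategoryTheory.Limits AlgebraicGeometry Opposite TopologicalSpace
noncomputable section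

namespace Groth.Agent.Lib.Helper28.GrauertProper

open Groth.Agent.Lib.Helper28 Groth.Agent.Lib.Helper28.QCohLoc Groth.Agent.Lib.Helper28.TraceAlg
open Groth.Agent.Lib.Helper28.GenLocus Groth.Agent.Lib.Helper28.SymAlg Groth.Agent.Lib.Helper28.AmpleUnit
open Groth.Agent.Lib.Helper28.RLPsi Groth.Agent.Lib.Helper28.SymPow

attribute [local instance] algAt

section line

variable {X : Scheme.{u}} {L : X.Modules} [L.IsQuasicoherent]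
  {𝒜 : RelProj.QCGrAlg X} {j : L ⟶ 𝒜.toModule} (hA : RelProj.IsGrSymAlg L 𝒜 j) (hL : PicF.IsInvertible L)

include hA in
/-- on a trivializing affine chart, the symmetric algebra of an invertible module is generated by the coordinate -/
theorem mem_closure {W : X.Opens} (hW : IsAffineOpen W) {g : Γ(L, W)} (hg : IsGen L W g)
    (y : 𝒜.presheaf.obj (op W)) :
    y ∈ Subring.closure (Set.range (𝒜.str.app (op W)).hom ∪ {asR 𝒜.toQCAlg (j.app W g)}) := by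
  classical
  rw [← DirectSum.sum_support_decompose (𝒜.deg W hW) y]
  refine Subring.sum_mem _ fun i _ => ?_
  obtain ⟨β, hβ⟩ := exists_eq_str_mul_pow hA hW hg i _ (DirectSum.decompose (𝒜.deg W hW) y i).2
  rw [hβ]
  refine Subring.mul_mem _ (Subring.subset_closure (Or.inl ⟨β, rfl⟩)) (Subring.pow_mem _ ?_ i)
  exact Subring.subset_closure (Or.inr rfl)

include hA in
theorem finiteType_str {W : X.Opens} (hW : IsAffineOpen W) {g : Γ(L, W)} (hg : IsGen L W g) :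
    (𝒜.str.app (op W)).hom.FiniteType := by
  letI := (𝒜.str.app (op W)).hom.toAlgebra
  show Algebra.FiniteType Γ(X, W) (𝒜.presheaf.obj (op W))
  refine ⟨⟨{asR 𝒜.toQCAlg (j.app W g)}, ?_⟩⟩
  rw [Finset.coe_singleton, eq_top_iff]
  intro y _
  have h1 := mem_closure hA hW hg y
  have hle : Subring.closure (Set.range (𝒜.str.app (op W)).hom ∪ {asR 𝒜.toQCAlg (j.app W g)}) ≤
      (Algebra.adjoin Γ(X, W) {asR 𝒜.toQCAlg (j.app W g)}).toSubring := by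
    rw [Subring.closure_le]
    rintro z (⟨a, rfl⟩ | hz)
    · exact Subalgebra.algebraMap_mem _ a
    · exact Algebra.subset_adjoin hz
  exact hle h1

include hA hL in
/-- the line bundle `V(L)` is locally of finite type over its base -/
theorem locallyOfFiniteType_π : LocallyOfFiniteType 𝒜.toQCAlg.π := by
  have hQ : RingHom.StableUnderCompositionWithLocalizationAwaySource @RingHom.FiniteType := by
    intro R S T _ _ _ _ r _ f hf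
    exact hf.comp (RingHom.finiteType_holdsForLocalizationAway S r)
  rw [HasRingHomProperty.iff_exists_appLE (P := @LocallyOfFiniteType) hQ]
  intro v
  obtain ⟨W, g, hxW, hW, hg⟩ := exists_isGen_affine L hL (𝒜.toQCAlg.π v)
  refine ⟨⟨W, hW⟩, ⟨𝒜.toQCAlg.π ⁻¹ᵁ W, hW.preimage 𝒜.toQCAlg.π⟩, hxW, le_rfl, ?_⟩
  have h1 : 𝒜.toQCAlg.π.appLE W (𝒜.toQCAlg.π ⁻¹ᵁ W) le_rfl = 𝒜.toQCAlg.π.app W :=
    (Scheme.Hom.app_eq_appLE _).symm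
  show (𝒜.toQCAlg.π.appLE W (𝒜.toQCAlg.π ⁻¹ᵁ W) le_rfl).hom.FiniteType
  rw [h1]
  have h2 := 𝒜.toQCAlg.π_app_gammaAff W hW
  obtain ⟨inv, hinv1, hinv2⟩ : ∃ inv : 𝒜.presheaf.obj (op W) ⟶ Γ(𝒜.toQCAlg.spec, 𝒜.toQCAlg.π ⁻¹ᵁ W),
      𝒜.toQCAlg.gammaAff W hW ≫ inv = 𝟙 _ ∧ inv ≫ 𝒜.toQCAlg.gammaAff W hW = 𝟙 _ := by
    rw [← 𝒜.toQCAlg.gammaMap_app W hW]
    refine ⟨(Groth.Agent.Lib.Helper4.QCAlgPushout.gammaInvMap 𝒜.toQCAlg).app (op W), ?_, ?_⟩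
    · exact congrArg (fun k => k.app (op W)) (Groth.Agent.Lib.Helper4.QCAlgPushout.comp_gammaInvMap 𝒜.toQCAlg)
    · exact congrArg (fun k => k.app (op W)) (Groth.Agent.Lib.Helper4.QCAlgPushout.gammaInvMap_comp 𝒜.toQCAlg)
  have h3 : 𝒜.toQCAlg.π.app W = 𝒜.str.app (op W) ≫ inv := by
    rw [← h2, Category.assoc, hinv1, Category.comp_id]
  rw [h3]
  have hsurj : Function.Surjective inv.hom := by
    intro z
    exact ⟨(𝒜.toQCAlg.gammaAff W hW).hom z, congr($(hinv1).hom z)⟩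
  exact (RingHom.FiniteType.of_surjective inv.hom hsurj).comp (finiteType_str hA hW hg)

end line


section proper

open Groth.Agent.Lib.Helper28.GrauertNec

variable {X Y : Scheme.{u}} (p : X ⟶ Y) [QuasiCompact p] [QuasiSeparated p] {L : X.Modules} [L.IsQuasicoherent]
  {𝒜 : RelProj.QCGrAlg X} {j : L ⟶ 𝒜.toModule} (hA : RelProj.IsGrSymAlg L 𝒜 j) (hL : PicF.IsInvertible L)
  (h0 : RelCone.StrZeroBij 𝒜) (aug : 𝒜.toQCAlg ⟶ RelSpec.QCAlg.unit X) (haug : RelCone.IsAugmentation 𝒜 aug)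
  (j0 : X ⟶ 𝒜.toQCAlg.spec) (hj0 : RelCone.IsVertex 𝒜 aug j0)

include hA hL in
/-- relative ampleness gives, around every point, a locally homogeneous function of positive degree not
vanishing there -/
theorem exists_locDeg_of_ample (hamp : RelAmple.IsRelAmple p L) (U : Y.Opens) (hU : IsAffineOpen U)
    (x : X) (hx : x ∈ p ⁻¹ᵁ U) :
    ∃ (n : ℕ) (b : Γ(𝒜.toQCAlg.spec, 𝒜.toQCAlg.π ⁻¹ᵁ (p ⁻¹ᵁ U))),
      LocDeg 𝒜 (n + 1) (p ⁻¹ᵁ U) ((𝒜.toQCAlg.gammaMap.app (op (p ⁻¹ᵁ U))).hom b) ∧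
      x ∈ NVloc 𝒜 (n + 1) (p ⁻¹ᵁ U) ((𝒜.toQCAlg.gammaMap.app (op (p ⁻¹ᵁ U))).hom b) := by
  obtain ⟨n, s', hys', -⟩ := (hamp.2 ⟨U, hU⟩).2.2 ⟨x, hx⟩
  obtain ⟨τ₀, hτ₀, hloc⟩ := exists_locDeg_of_section hA hL (n + 1) (p ⁻¹ᵁ U) s'
  obtain ⟨b, hbτ⟩ := gamma_surj 𝒜.toQCAlg (p ⁻¹ᵁ U) τ₀
  refine ⟨n, b, ?_, ?_⟩
  · rw [hbτ]; exact hτ₀
  · rw [hbτ]
    have h1 : (⟨x, hx⟩ : ((p ⁻¹ᵁ U : X.Opens) : Scheme.{u})) ∈
        (p ⁻¹ᵁ U).ι ⁻¹ᵁ NVloc 𝒜 (n + 1) (p ⁻¹ᵁ U) τ₀ := by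
      rw [hloc]
      exact hys'
    exact h1

/-- the canonical morphism `V(L) ⟶ C ×_Y X` -/
def hc : 𝒜.toQCAlg.spec ⟶ pullback (gc p 𝒜.toQCAlg j0 hj0.comp_π) p :=
  pullback.lift (qc p 𝒜.toQCAlg j0 hj0.comp_π) 𝒜.toQCAlg.π (qc_gc p 𝒜.toQCAlg j0 hj0.comp_π)

theorem hc_fst : hc p aug j0 hj0 ≫ pullback.fst (gc p 𝒜.toQCAlg j0 hj0.comp_π) p = qc p 𝒜.toQCAlg j0 hj0.comp_π :=
  pullback.lift_fst _ _ _

theorem hc_snd : hc p aug j0 hj0 ≫ pullback.snd (gc p 𝒜.toQCAlg j0 hj0.comp_π) p = 𝒜.toQCAlg.π :=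
  pullback.lift_snd _ _ _

theorem le_hc (W : X.Opens) :
    𝒜.toQCAlg.π ⁻¹ᵁ W ≤ hc p aug j0 hj0 ⁻¹ᵁ (pullback.snd (gc p 𝒜.toQCAlg j0 hj0.comp_π) p ⁻¹ᵁ W) := by
  rw [← Scheme.Hom.comp_preimage, hc_snd]

theorem hc_preimage (W : X.Opens) :
    hc p aug j0 hj0 ⁻¹ᵁ (pullback.snd (gc p 𝒜.toQCAlg j0 hj0.comp_π) p ⁻¹ᵁ W) = 𝒜.toQCAlg.π ⁻¹ᵁ W := by
  rw [← Scheme.Hom.comp_preimage, hc_snd]

/-- functions from `X` are in the image -/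
theorem snd_hc_appLE (W : X.Opens) :
    (pullback.snd (gc p 𝒜.toQCAlg j0 hj0.comp_π) p).appLE W
        (pullback.snd (gc p 𝒜.toQCAlg j0 hj0.comp_π) p ⁻¹ᵁ W) le_rfl ≫
      (hc p aug j0 hj0).appLE (pullback.snd (gc p 𝒜.toQCAlg j0 hj0.comp_π) p ⁻¹ᵁ W) (𝒜.toQCAlg.π ⁻¹ᵁ W)
        (le_hc p aug j0 hj0 W) =
      𝒜.toQCAlg.π.app W := by
  rw [Scheme.Hom.appLE_comp_appLE, Scheme.Hom.app_eq_appLE]
  exact GrTaylorSpec.appLE_congr_hom (hc_snd p aug j0 hj0) _ _ _ _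

theorem snd_le_fst (U : Y.Opens) (W : X.Opens) (hWU : W ≤ p ⁻¹ᵁ U) :
    pullback.snd (gc p 𝒜.toQCAlg j0 hj0.comp_π) p ⁻¹ᵁ W ≤
      pullback.fst (gc p 𝒜.toQCAlg j0 hj0.comp_π) p ⁻¹ᵁ (gc p 𝒜.toQCAlg j0 hj0.comp_π ⁻¹ᵁ U) := by
  rw [← Scheme.Hom.comp_preimage, pullback.condition, Scheme.Hom.comp_preimage]
  exact (pullback.snd (gc p 𝒜.toQCAlg j0 hj0.comp_π) p).preimage_mono hWU

theorem le_qc' (U : Y.Opens) (W : X.Opens) (hWU : W ≤ p ⁻¹ᵁ U) :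
    𝒜.toQCAlg.π ⁻¹ᵁ W ≤ qc p 𝒜.toQCAlg j0 hj0.comp_π ⁻¹ᵁ (gc p 𝒜.toQCAlg j0 hj0.comp_π ⁻¹ᵁ U) :=
  (𝒜.toQCAlg.π.preimage_mono hWU).trans (le_qc p 𝒜.toQCAlg j0 hj0.comp_π U)

/-- functions from `C` are in the image -/
theorem fst_hc_appLE (U : Y.Opens) (W : X.Opens) (hWU : W ≤ p ⁻¹ᵁ U) :
    (pullback.fst (gc p 𝒜.toQCAlg j0 hj0.comp_π) p).appLE (gc p 𝒜.toQCAlg j0 hj0.comp_π ⁻¹ᵁ U)
        (pullback.snd (gc p 𝒜.toQCAlg j0 hj0.comp_π) p ⁻¹ᵁ W) (snd_le_fst p aug j0 hj0 U W hWU) ≫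
      (hc p aug j0 hj0).appLE (pullback.snd (gc p 𝒜.toQCAlg j0 hj0.comp_π) p ⁻¹ᵁ W) (𝒜.toQCAlg.π ⁻¹ᵁ W)
        (le_hc p aug j0 hj0 W) =
      (qc p 𝒜.toQCAlg j0 hj0.comp_π).appLE (gc p 𝒜.toQCAlg j0 hj0.comp_π ⁻¹ᵁ U) (𝒜.toQCAlg.π ⁻¹ᵁ W)
        (le_qc' p aug j0 hj0 U W hWU) := by
  rw [Scheme.Hom.appLE_comp_appLE]
  exact GrTaylorSpec.appLE_congr_hom (hc_fst p aug j0 hj0) _ _ _ _


include hA hL haug in
/-- (B3) around every point of a trivializing chart `W` over `U`, some function on `C` restricts on `π⁻¹W` to a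
unit multiple (near the point) of a positive power of the coordinate -/
theorem exists_function (hamp : RelAmple.IsRelAmple p L) (U : Y.Opens) (hU : IsAffineOpen U)
    {W : X.Opens} (hW : IsAffineOpen W) {g : Γ(L, W)} (hg : IsGen L W g) (hWU : W ≤ p ⁻¹ᵁ U)
    (x : X) (hxW : x ∈ W) :
    ∃ (n : ℕ) (β : Γ(X, W)) (c : Γ(Cc p 𝒜.toQCAlg j0 hj0.comp_π, gc p 𝒜.toQCAlg j0 hj0.comp_π ⁻¹ᵁ U)),
      x ∈ X.basicOpen β ∧
      (𝒜.toQCAlg.gammaAff W hW).hom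
        (((qc p 𝒜.toQCAlg j0 hj0.comp_π).appLE (gc p 𝒜.toQCAlg j0 hj0.comp_π ⁻¹ᵁ U) (𝒜.toQCAlg.π ⁻¹ᵁ W)
          (le_qc' p aug j0 hj0 U W hWU)).hom c) =
        (𝒜.str.app (op W)).hom β * asR 𝒜.toQCAlg (j.app W g) ^ (n + 1) := by
  obtain ⟨n, b, hτ, hxNV⟩ := exists_locDeg_of_ample p hA hL hamp U hU x (hWU hxW)
  obtain ⟨β, hβ⟩ := exists_eq_str_mul_pow hA hW hg (n + 1) _ (hτ W hW hWU)
  have hxβ : x ∈ X.basicOpen β :=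
    (mem_NVloc_iff_mem_basicOpen hA (n + 1) (p ⁻¹ᵁ U) _ hW hg hWU β hβ x hxW).1 hxNV
  have hb0 := Grauert.j0_appLE_eq_zero aug haug j0 hj0 (n + 1) (Nat.succ_pos n) (p ⁻¹ᵁ U) b hτ
    (le_j0 p 𝒜.toQCAlg j0 hj0.comp_π U)
  have h : (p.app U).hom 0 =
      (j0.appLE (r p 𝒜.toQCAlg ⁻¹ᵁ U) (p ⁻¹ᵁ U) (le_j0 p 𝒜.toQCAlg j0 hj0.comp_π U)).hom b := by
    rw [map_zero]
    exact hb0.symm
  obtain ⟨c, hc⟩ := gamma_surj (S' p 𝒜.toQCAlg j0 hj0.comp_π) U (mkS p 𝒜.toQCAlg j0 hj0.comp_π U 0 b h)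
  refine ⟨n, β, c, hxβ, ?_⟩
  -- `q^♯ c = b`
  have e1 : ((qc p 𝒜.toQCAlg j0 hj0.comp_π).appLE (gc p 𝒜.toQCAlg j0 hj0.comp_π ⁻¹ᵁ U) (r p 𝒜.toQCAlg ⁻¹ᵁ U)
      (le_qc p 𝒜.toQCAlg j0 hj0.comp_π U)).hom c = b := by
    have := congr($(qc_appLE p 𝒜.toQCAlg j0 hj0.comp_π U).hom c)
    refine this.trans ?_
    show ((pr2 p 𝒜.toQCAlg j0 hj0.comp_π).hom.app (op U)).hom
      (((S' p 𝒜.toQCAlg j0 hj0.comp_π).gammaMap.app (op U)).hom c) = b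
    rw [hc, pr2_mkS]
  -- restriction to the chart
  have e2 : (qc p 𝒜.toQCAlg j0 hj0.comp_π).appLE (gc p 𝒜.toQCAlg j0 hj0.comp_π ⁻¹ᵁ U) (r p 𝒜.toQCAlg ⁻¹ᵁ U)
        (le_qc p 𝒜.toQCAlg j0 hj0.comp_π U) ≫
      𝒜.toQCAlg.spec.presheaf.map (homOfLE (𝒜.toQCAlg.π.preimage_mono hWU)).op =
      (qc p 𝒜.toQCAlg j0 hj0.comp_π).appLE (gc p 𝒜.toQCAlg j0 hj0.comp_π ⁻¹ᵁ U) (𝒜.toQCAlg.π ⁻¹ᵁ W)
        (le_qc' p aug j0 hj0 U W hWU) := Scheme.Hom.appLE_map _ _ _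
  have e3 : ((qc p 𝒜.toQCAlg j0 hj0.comp_π).appLE (gc p 𝒜.toQCAlg j0 hj0.comp_π ⁻¹ᵁ U) (𝒜.toQCAlg.π ⁻¹ᵁ W)
      (le_qc' p aug j0 hj0 U W hWU)).hom c =
      (𝒜.toQCAlg.spec.presheaf.map (homOfLE (𝒜.toQCAlg.π.preimage_mono hWU)).op).hom b := by
    rw [← e1]
    exact (congr($(e2).hom c)).symm
  rw [e3, ← hβ]
  have n1 := 𝒜.toQCAlg.gammaMap.naturality (homOfLE hWU).op
  rw [𝒜.toQCAlg.gammaMap_app W hW] at n1
  exact congr($(n1).hom b)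


include hA hL haug in
/-- (B2) over a trivializing chart, the functions on `V(L)` are integral over those of `C ×_Y X` -/
theorem isIntegral_hc_appLE (hamp : RelAmple.IsRelAmple p L) (U : Y.Opens) (hU : IsAffineOpen U)
    {W : X.Opens} (hW : IsAffineOpen W) {g : Γ(L, W)} (hg : IsGen L W g) (hWU : W ≤ p ⁻¹ᵁ U) :
    ((hc p aug j0 hj0).appLE (pullback.snd (gc p 𝒜.toQCAlg j0 hj0.comp_π) p ⁻¹ᵁ W) (𝒜.toQCAlg.π ⁻¹ᵁ W)
      (le_hc p aug j0 hj0 W)).hom.IsIntegral := by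
  set Φ := (hc p aug j0 hj0).appLE (pullback.snd (gc p 𝒜.toQCAlg j0 hj0.comp_π) p ⁻¹ᵁ W) (𝒜.toQCAlg.π ⁻¹ᵁ W)
    (le_hc p aug j0 hj0 W) with hΦ
  -- the inverse of `gammaAff`
  obtain ⟨inv, hinv1, hinv2⟩ : ∃ inv : 𝒜.presheaf.obj (op W) ⟶ Γ(𝒜.toQCAlg.spec, 𝒜.toQCAlg.π ⁻¹ᵁ W),
      𝒜.toQCAlg.gammaAff W hW ≫ inv = 𝟙 _ ∧ inv ≫ 𝒜.toQCAlg.gammaAff W hW = 𝟙 _ := by
    rw [← 𝒜.toQCAlg.gammaMap_app W hW]
    refine ⟨(Groth.Agent.Lib.Helper4.QCAlgPushout.gammaInvMap 𝒜.toQCAlg).app (op W), ?_, ?_⟩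
    · exact congrArg (fun k => k.app (op W)) (Groth.Agent.Lib.Helper4.QCAlgPushout.comp_gammaInvMap 𝒜.toQCAlg)
    · exact congrArg (fun k => k.app (op W)) (Groth.Agent.Lib.Helper4.QCAlgPushout.gammaInvMap_comp 𝒜.toQCAlg)
  let Φ' := Φ ≫ 𝒜.toQCAlg.gammaAff W hW
  have hΦ' : Φ'.hom.IsIntegral := by
    refine LineIntegral.isIntegral_of_line Φ'.hom (𝒜.str.app (op W)).hom (asR 𝒜.toQCAlg (j.app W g)) ?_
      (mem_closure hA hW hg)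
      {β | ∃ n, 0 < n ∧ (𝒜.str.app (op W)).hom β * asR 𝒜.toQCAlg (j.app W g) ^ n ∈ Φ'.hom.range} ?_
      (fun β hβ => hβ)
    · intro a
      refine ⟨((pullback.snd (gc p 𝒜.toQCAlg j0 hj0.comp_π) p).appLE W
        (pullback.snd (gc p 𝒜.toQCAlg j0 hj0.comp_π) p ⁻¹ᵁ W) le_rfl).hom a, ?_⟩
      have h1 := snd_hc_appLE p aug j0 hj0 W
      have h2 := 𝒜.toQCAlg.π_app_gammaAff W hW
      have h3 : (pullback.snd (gc p 𝒜.toQCAlg j0 hj0.comp_π) p).appLE W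
          (pullback.snd (gc p 𝒜.toQCAlg j0 hj0.comp_π) p ⁻¹ᵁ W) le_rfl ≫ Φ' = 𝒜.str.app (op W) := by
        show _ ≫ Φ ≫ _ = _
        rw [← Category.assoc, hΦ, h1, h2]
      exact congr($(h3).hom a)
    · rw [← hW.self_le_iSup_basicOpen_iff]
      intro x hxW
      obtain ⟨n, β, c, hxβ, hc⟩ := exists_function p hA hL aug haug j0 hj0 hamp U hU hW hg hWU x hxW
      refine Opens.mem_iSup.2 ⟨⟨β, n + 1, Nat.succ_pos n, ?_⟩, hxβ⟩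
      refine ⟨((pullback.fst (gc p 𝒜.toQCAlg j0 hj0.comp_π) p).appLE (gc p 𝒜.toQCAlg j0 hj0.comp_π ⁻¹ᵁ U)
        (pullback.snd (gc p 𝒜.toQCAlg j0 hj0.comp_π) p ⁻¹ᵁ W) (snd_le_fst p aug j0 hj0 U W hWU)).hom c, ?_⟩
      rw [← hc]
      have h1 := fst_hc_appLE p aug j0 hj0 U W hWU
      have h3 : (pullback.fst (gc p 𝒜.toQCAlg j0 hj0.comp_π) p).appLE (gc p 𝒜.toQCAlg j0 hj0.comp_π ⁻¹ᵁ U)
          (pullback.snd (gc p 𝒜.toQCAlg j0 hj0.comp_π) p ⁻¹ᵁ W) (snd_le_fst p aug j0 hj0 U W hWU) ≫ Φ' =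
          (qc p 𝒜.toQCAlg j0 hj0.comp_π).appLE (gc p 𝒜.toQCAlg j0 hj0.comp_π ⁻¹ᵁ U) (𝒜.toQCAlg.π ⁻¹ᵁ W)
            (le_qc' p aug j0 hj0 U W hWU) ≫ 𝒜.toQCAlg.gammaAff W hW := by
        show _ ≫ Φ ≫ _ = _
        rw [← Category.assoc, hΦ, h1]
      exact congr($(h3).hom c)
  have hΦeq : Φ = Φ' ≫ inv := by
    show Φ = (Φ ≫ _) ≫ inv
    rw [Category.assoc, hinv1, Category.comp_id]
  rw [hΦeq]
  have hsurj : Function.Surjective inv.hom := by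
    intro z
    exact ⟨(𝒜.toQCAlg.gammaAff W hW).hom z, congr($(hinv1).hom z)⟩
  exact RingHom.IsIntegral.trans Φ'.hom inv.hom hΦ' (RingHom.isIntegral_of_surjective inv.hom hsurj)


include hA hL haug in
/-- the canonical morphism `V(L) ⟶ C ×_Y X` is integral -/
theorem isIntegralHom_hc (hamp : RelAmple.IsRelAmple p L) : IsIntegralHom (hc p aug j0 hj0) := by
  have hch : ∀ x : X, ∃ (U : Y.Opens) (W : X.Opens) (g : Γ(L, W)), IsAffineOpen U ∧ x ∈ W ∧ IsAffineOpen W ∧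
      IsGen L W g ∧ W ≤ p ⁻¹ᵁ U := by
    intro x
    obtain ⟨U, hxU⟩ := TopologicalSpace.Opens.mem_iSup.mp
      ((iSup_affineOpens_eq_top Y).ge (Set.mem_univ (p x)))
    obtain ⟨W, g, hxW, hW, hg, hWU⟩ := exists_isGen_affine_le hL x (p ⁻¹ᵁ U.1) hxU
    exact ⟨U.1, W, g, U.2, hxW, hW, hg, hWU⟩
  choose U W g hU hxW hW hg hWU using hch
  haveI : IsAffineHom (pullback.snd (gc p 𝒜.toQCAlg j0 hj0.comp_π) p) :=
    MorphismProperty.pullback_snd _ _ inferInstance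
  let PW : X → (pullback (gc p 𝒜.toQCAlg j0 hj0.comp_π) p).affineOpens := fun x =>
    ⟨pullback.snd (gc p 𝒜.toQCAlg j0 hj0.comp_π) p ⁻¹ᵁ W x,
      (hW x).preimage (pullback.snd (gc p 𝒜.toQCAlg j0 hj0.comp_π) p)⟩
  have hcov : ⨆ x, ((PW x : (pullback (gc p 𝒜.toQCAlg j0 hj0.comp_π) p).affineOpens) :
      (pullback (gc p 𝒜.toQCAlg j0 hj0.comp_π) p).Opens) = ⊤ := by
    refine top_le_iff.1 fun z _ => ?_
    exact Opens.mem_iSup.2 ⟨(pullback.snd (gc p 𝒜.toQCAlg j0 hj0.comp_π) p) z, hxW _⟩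
  rw [HasAffineProperty.iff_of_iSup_eq_top (P := @IsIntegralHom) PW hcov]
  intro x
  have hpre := hc_preimage p aug j0 hj0 (W x)
  refine ⟨?_, ?_⟩
  · show IsAffineOpen (hc p aug j0 hj0 ⁻¹ᵁ (pullback.snd (gc p 𝒜.toQCAlg j0 hj0.comp_π) p ⁻¹ᵁ W x))
    rw [hpre]
    exact (hW x).preimage 𝒜.toQCAlg.π
  · have hresp : (RingHom.toMorphismProperty RingHom.IsIntegral).RespectsIso :=
      RingHom.toMorphismProperty_respectsIso_iff.mp RingHom.isIntegral_respectsIso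
    have h1 := (RingHom.toMorphismProperty RingHom.IsIntegral).arrow_mk_iso_iff
      (arrowResLEAppIso (hc p aug j0 hj0) (pullback.snd (gc p 𝒜.toQCAlg j0 hj0.comp_π) p ⁻¹ᵁ W x)
        (hc p aug j0 hj0 ⁻¹ᵁ (pullback.snd (gc p 𝒜.toQCAlg j0 hj0.comp_π) p ⁻¹ᵁ W x)) le_rfl)
    rw [Scheme.Hom.resLE_eq_morphismRestrict] at h1
    refine h1.2 ?_
    show ((hc p aug j0 hj0).appLE (pullback.snd (gc p 𝒜.toQCAlg j0 hj0.comp_π) p ⁻¹ᵁ W x)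
      (hc p aug j0 hj0 ⁻¹ᵁ (pullback.snd (gc p 𝒜.toQCAlg j0 hj0.comp_π) p ⁻¹ᵁ W x)) le_rfl).hom.IsIntegral
    have h2 := isIntegral_hc_appLE p hA hL aug haug j0 hj0 hamp (U x) (hU x) (hW x) (hg x) (hWU x)
    exact ((hc p aug j0 hj0).appLE_congr (le_hc p aug j0 hj0 (W x)) rfl hpre.symm
      (fun φ => φ.hom.IsIntegral)).1 h2

end proper


section proper2

open Groth.Agent.Lib.Helper28.GrauertNec

variable {X Y : Scheme.{u}} (p : X ⟶ Y) [IsProper p] {L : X.Modules} [L.IsQuasicoherent]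
  {𝒜 : RelProj.QCGrAlg X} {j : L ⟶ 𝒜.toModule} (hA : RelProj.IsGrSymAlg L 𝒜 j) (hL : PicF.IsInvertible L)
  (h0 : RelCone.StrZeroBij 𝒜) (aug : 𝒜.toQCAlg ⟶ RelSpec.QCAlg.unit X) (haug : RelCone.IsAugmentation 𝒜 aug)
  (j0 : X ⟶ 𝒜.toQCAlg.spec) (hj0 : RelCone.IsVertex 𝒜 aug j0)

include hA hL haug in
/-- **the contraction of the zero section is proper** when `p` is proper and `L` relatively ample -/
theorem isProper_qc (hamp : RelAmple.IsRelAmple p L) : IsProper (qc p 𝒜.toQCAlg j0 hj0.comp_π) := by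
  haveI := isIntegralHom_hc p hA hL aug haug j0 hj0 hamp
  haveI : LocallyOfFiniteType 𝒜.toQCAlg.π := locallyOfFiniteType_π hA hL
  haveI : LocallyOfFiniteType (hc p aug j0 hj0 ≫ pullback.snd (gc p 𝒜.toQCAlg j0 hj0.comp_π) p) := by
    rw [hc_snd]; infer_instance
  haveI : LocallyOfFiniteType (hc p aug j0 hj0) :=
    locallyOfFiniteType_of_comp (hc p aug j0 hj0) (pullback.snd (gc p 𝒜.toQCAlg j0 hj0.comp_π) p)
  haveI : IsProper (hc p aug j0 hj0) := { }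
  haveI : IsProper (pullback.fst (gc p 𝒜.toQCAlg j0 hj0.comp_π) p) :=
    MorphismProperty.pullback_fst _ _ inferInstance
  rw [← hc_fst p aug j0 hj0]
  infer_instance


omit [IsProper p] in
/-- the contraction morphism and the vertex section are jointly dominant, chart by chart: a function on `C` whose
nonvanishing locus misses both images is nilpotent -/
theorem basicOpen_eq_bot_of_disjoint [QuasiCompact p] [QuasiSeparated p] (U : Y.Opens) (hU : IsAffineOpen U)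
    (s : Γ(Cc p 𝒜.toQCAlg j0 hj0.comp_π, gc p 𝒜.toQCAlg j0 hj0.comp_π ⁻¹ᵁ U))
    (hq : ∀ v : 𝒜.toQCAlg.spec, (qc p 𝒜.toQCAlg j0 hj0.comp_π) v ∉ (Cc p 𝒜.toQCAlg j0 hj0.comp_π).basicOpen s)
    (hε : ∀ y : Y, (εc p 𝒜.toQCAlg j0 hj0.comp_π) y ∉ (Cc p 𝒜.toQCAlg j0 hj0.comp_π).basicOpen s) :
    (Cc p 𝒜.toQCAlg j0 hj0.comp_π).basicOpen s = ⊥ := by
  have hπ : j0 ≫ 𝒜.toQCAlg.π = 𝟙 X := hj0.comp_π
  -- the two components are nilpotent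
  have h1 := Scheme.basicOpen_appLE (qc p 𝒜.toQCAlg j0 hπ) (r p 𝒜.toQCAlg ⁻¹ᵁ U) (gc p 𝒜.toQCAlg j0 hπ ⁻¹ᵁ U)
    (le_qc p 𝒜.toQCAlg j0 hπ U) s
  have h1' : 𝒜.toQCAlg.spec.basicOpen (((qc p 𝒜.toQCAlg j0 hπ).appLE (gc p 𝒜.toQCAlg j0 hπ ⁻¹ᵁ U)
      (r p 𝒜.toQCAlg ⁻¹ᵁ U) (le_qc p 𝒜.toQCAlg j0 hπ U)).hom s) = ⊥ := by
    rw [h1, eq_bot_iff]
    rintro v ⟨-, hv⟩
    exact (hq v hv).elim
  have h2 := Scheme.basicOpen_appLE (εc p 𝒜.toQCAlg j0 hπ) U (gc p 𝒜.toQCAlg j0 hπ ⁻¹ᵁ U)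
    (le_εc p 𝒜.toQCAlg j0 hπ U) s
  have h2' : Y.basicOpen (((εc p 𝒜.toQCAlg j0 hπ).appLE (gc p 𝒜.toQCAlg j0 hπ ⁻¹ᵁ U) U
      (le_εc p 𝒜.toQCAlg j0 hπ U)).hom s) = ⊥ := by
    rw [h2, eq_bot_iff]
    rintro y ⟨-, hy⟩
    exact (hε y hy).elim
  have hn1 : IsNilpotent (((qc p 𝒜.toQCAlg j0 hπ).appLE (gc p 𝒜.toQCAlg j0 hπ ⁻¹ᵁ U)
      (r p 𝒜.toQCAlg ⁻¹ᵁ U) (le_qc p 𝒜.toQCAlg j0 hπ U)).hom s) :=
    (Scheme.isNilpotent_iff_basicOpen_eq_bot_of_isCompact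
      ((r p 𝒜.toQCAlg).isCompact_preimage hU.isCompact) _).2 h1'
  have hn2 : IsNilpotent (((εc p 𝒜.toQCAlg j0 hπ).appLE (gc p 𝒜.toQCAlg j0 hπ ⁻¹ᵁ U) U
      (le_εc p 𝒜.toQCAlg j0 hπ U)).hom s) :=
    (Scheme.isNilpotent_iff_basicOpen_eq_bot_of_isCompact hU.isCompact _).2 h2'
  obtain ⟨N₁, hN₁⟩ := hn1
  obtain ⟨N₂, hN₂⟩ := hn2
  have e1 : ((pr2 p 𝒜.toQCAlg j0 hπ).hom.app (op U)).hom
      (((S' p 𝒜.toQCAlg j0 hπ).gammaMap.app (op U)).hom s) ^ N₁ =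
      (0 : ↑((RelSpec.QCAlg.directImage (r p 𝒜.toQCAlg)).presheaf.obj (op U))) := by
    have := congr($(qc_appLE p 𝒜.toQCAlg j0 hπ U).hom s)
    exact (congrArg (· ^ N₁) this).symm.trans hN₁
  have e2 : ((pr1 p 𝒜.toQCAlg j0 hπ).hom.app (op U)).hom
      (((S' p 𝒜.toQCAlg j0 hπ).gammaMap.app (op U)).hom s) ^ N₂ =
      (0 : ↑((RelSpec.QCAlg.unit Y).presheaf.obj (op U))) := by
    have := congr($(εc_appLE p 𝒜.toQCAlg j0 hπ U hU).hom s)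
    exact (congrArg (· ^ N₂) this).symm.trans hN₂
  have hs : s ^ (N₁ + N₂) = 0 := by
    apply gamma_inj (S' p 𝒜.toQCAlg j0 hπ) U
    rw [map_pow, map_zero]
    apply extS p 𝒜.toQCAlg j0 hπ U
    · rw [map_pow, map_zero, pow_add, e2, mul_zero]
    · rw [map_pow, map_zero, pow_add, e1, zero_mul]
  have h3 : (Cc p 𝒜.toQCAlg j0 hπ).basicOpen (s ^ (N₁ + N₂)) = ⊥ := by
    rw [hs]; exact Scheme.basicOpen_zero _ _
  by_cases hN : N₁ + N₂ = 0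
  · -- then `1 = 0` in the ring
    rw [hN, pow_zero] at hs
    have : s = 0 := by rw [← mul_one s, hs, mul_zero]
    rw [this]
    exact Scheme.basicOpen_zero _ _
  · rw [Scheme.basicOpen_pow _ _ (Nat.pos_of_ne_zero hN)] at h3
    exact h3


include hA hL h0 haug in
/-- the contraction maps the complement of the zero section onto the complement of the vertex section -/
theorem range_qc_eq (hamp : RelAmple.IsRelAmple p L)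
    (V0 : 𝒜.toQCAlg.spec.Opens) (hV0 : (V0 : Set 𝒜.toQCAlg.spec) = (Set.range j0.base)ᶜ) :
    Set.range (V0.ι ≫ qc p 𝒜.toQCAlg j0 hj0.comp_π).base = (Set.range (εc p 𝒜.toQCAlg j0 hj0.comp_π).base)ᶜ := by
  have hπ : j0 ≫ 𝒜.toQCAlg.π = 𝟙 X := hj0.comp_π
  have hmemV0 : ∀ w : 𝒜.toQCAlg.spec, w ∈ V0 ↔ w ∉ Set.range j0 := by
    intro w
    have : w ∈ (V0 : Set 𝒜.toQCAlg.spec) ↔ w ∈ (Set.range j0.base)ᶜ := by rw [hV0]
    exact this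
  have hdisj := range_inter_range_eq_empty p hA hL h0 aug haug j0 hj0 hamp V0 hV0
  haveI := isProper_qc p hA hL aug haug j0 hj0 hamp
  haveI : IsClosedImmersion (εc p 𝒜.toQCAlg j0 hπ ≫ gc p 𝒜.toQCAlg j0 hπ) := by
    rw [εc_gc]; infer_instance
  haveI : IsClosedImmersion (εc p 𝒜.toQCAlg j0 hπ) :=
    IsClosedImmersion.of_comp (εc p 𝒜.toQCAlg j0 hπ) (gc p 𝒜.toQCAlg j0 hπ)
  apply Set.Subset.antisymm
  · intro c hc hε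
    have : c ∈ Set.range (V0.ι ≫ qc p 𝒜.toQCAlg j0 hπ).base ∩ Set.range (εc p 𝒜.toQCAlg j0 hπ).base := ⟨hc, hε⟩
    rw [hdisj] at this
    exact this
  · intro c hc
    have hcq : c ∈ Set.range (qc p 𝒜.toQCAlg j0 hπ) := by
      by_contra hnot
      have hZ : IsClosed (Set.range (qc p 𝒜.toQCAlg j0 hπ) ∪ Set.range (εc p 𝒜.toQCAlg j0 hπ)) :=
        (qc p 𝒜.toQCAlg j0 hπ).isClosedMap.isClosed_range.union
          (εc p 𝒜.toQCAlg j0 hπ).isClosedEmbedding.isClosed_range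
      obtain ⟨U, hcU⟩ := TopologicalSpace.Opens.mem_iSup.mp
        ((iSup_affineOpens_eq_top Y).ge (Set.mem_univ ((gc p 𝒜.toQCAlg j0 hπ) c)))
      let O : (Cc p 𝒜.toQCAlg j0 hπ).Opens :=
        ⟨(Set.range (qc p 𝒜.toQCAlg j0 hπ) ∪ Set.range (εc p 𝒜.toQCAlg j0 hπ))ᶜ, hZ.isOpen_compl⟩
      have hcO : c ∈ O := by
        rintro (h | h)
        · exact hnot h
        · exact hc h
      obtain ⟨s, hsO, hcs⟩ := (U.2.preimage (gc p 𝒜.toQCAlg j0 hπ)).exists_basicOpen_le ⟨c, hcO⟩ hcU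
      have hbot := basicOpen_eq_bot_of_disjoint p aug j0 hj0 U.1 U.2 s
        (fun v hv => hsO hv (Or.inl ⟨v, rfl⟩)) (fun y hy => hsO hy (Or.inr ⟨y, rfl⟩))
      rw [hbot] at hcs
      exact hcs
    obtain ⟨v, rfl⟩ := hcq
    have hv : v ∉ Set.range j0 := by
      rintro ⟨x, rfl⟩
      apply hc
      refine ⟨p x, ?_⟩
      show (εc p 𝒜.toQCAlg j0 hπ) (p x) = (qc p 𝒜.toQCAlg j0 hπ) (j0 x)
      rw [← Scheme.Hom.comp_apply, ← Scheme.Hom.comp_apply, j0_qc]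
    exact ⟨⟨v, (hmemV0 v).2 hv⟩, rfl⟩

include hA hL h0 haug hj0 in
/-- **necessity in Grauert's criterion, proper case** -/
theorem exists_proper_contraction (hamp : RelAmple.IsRelAmple p L)
    (V0 : 𝒜.toQCAlg.spec.Opens) (hV0 : (V0 : Set 𝒜.toQCAlg.spec) = (Set.range j0.base)ᶜ) :
    ∃ (C : Scheme.{u}) (g : C ⟶ Y) (ε : Y ⟶ C) (q : 𝒜.toQCAlg.spec ⟶ C),
      ε ≫ g = 𝟙 Y ∧ q ≫ g = 𝒜.toQCAlg.π ≫ p ∧ j0 ≫ q = p ≫ ε ∧ IsAffineHom g ∧ IsProper q ∧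
        IsOpenImmersion (V0.ι ≫ q) ∧ Set.range (V0.ι ≫ q).base = (Set.range ε.base)ᶜ :=
  ⟨Cc p 𝒜.toQCAlg j0 hj0.comp_π, gc p 𝒜.toQCAlg j0 hj0.comp_π, εc p 𝒜.toQCAlg j0 hj0.comp_π,
    qc p 𝒜.toQCAlg j0 hj0.comp_π, εc_gc p 𝒜.toQCAlg j0 hj0.comp_π, qc_gc p 𝒜.toQCAlg j0 hj0.comp_π,
    j0_qc p 𝒜.toQCAlg j0 hj0.comp_π, inferInstance,
    isProper_qc p hA hL aug haug j0 hj0 hamp,
    isOpenImmersion_qc p hA hL h0 aug haug j0 hj0 hamp V0 hV0,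
    range_qc_eq p hA hL h0 aug haug j0 hj0 hamp V0 hV0⟩

end proper2

end Groth.Agent.Lib.Helper28.GrauertProper
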