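import Groth.Agent.Lib.Helper28.ProjPerm
import Groth.Agent.Lib.Helper28.ChowProj
import Groth.Agent.Lib.Helper28.ProjSpaceBasic

/-!
# H-projective morphisms are projective (EGA II 5.5.4 (i))
-/

set_option autoImplicit false
universe u
open CategoryTheory CategoryTheory.Limits AlgebraicGeometry Opposite TopologicalSpace
noncomputable section

namespace Groth.Agent.Lib.Helper28.HProj

open Groth.Agent.Lib.Helper28

/-- projective space over a quasi-compact quasi-separated scheme is projective -/
theorem isProjective_toBase_of_qcqs (n : ℕ) (S : Scheme.{u}) [CompactSpace S] [QuasiSeparatedSpace S] :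
    RelProj.IsProjective (CohB1.ProjSpaceOver.toBase n S) := by
  have : IsProper (CohB1.ProjSpaceOver.toBase n S) := ProjSpaceBasic.isProper_toBase n S
  exact Groth.Agent.S12416.result _
    (ChowProj.isQuasiProjective_of_immersion (CohB1.ProjSpaceOver.toBase n S) n (𝟙 _) (Category.id_comp _))

/-- projective space over the integers is projective -/
theorem isProjective_toSpec (n : ℕ) : RelProj.IsProjective (CohB1.ProjSpace.toSpec n (ULift.{u} ℤ)) := by
  have hid : specULiftZIsTerminal.from (Spec (CommRingCat.of (ULift.{u} ℤ))) = 𝟙 _ :=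
    specULiftZIsTerminal.hom_ext _ _
  have hi : IsIso (specULiftZIsTerminal.from (Spec (CommRingCat.of (ULift.{u} ℤ)))) := by
    rw [hid]; infer_instance
  have hfst : IsIso (pullback.fst (CohB1.ProjSpace.toSpec n (ULift.{u} ℤ))
      (specULiftZIsTerminal.from (Spec (CommRingCat.of (ULift.{u} ℤ))))) := inferInstance
  have hZ := isProjective_toBase_of_qcqs n (Spec (CommRingCat.of (ULift.{u} ℤ)))
  have heq : CohB1.ProjSpace.toSpec n (ULift.{u} ℤ) =
      inv (pullback.fst (CohB1.ProjSpace.toSpec n (ULift.{u} ℤ))
        (specULiftZIsTerminal.from (Spec (CommRingCat.of (ULift.{u} ℤ))))) ≫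
        CohB1.ProjSpaceOver.toBase n (Spec (CommRingCat.of (ULift.{u} ℤ))) := by
    rw [IsIso.eq_inv_comp]
    refine (pullback.condition (f := CohB1.ProjSpace.toSpec n (ULift.{u} ℤ))
      (g := specULiftZIsTerminal.from (Spec (CommRingCat.of (ULift.{u} ℤ))))).trans ?_
    exact (congrArg (fun t => pullback.snd (CohB1.ProjSpace.toSpec n (ULift.{u} ℤ))
      (specULiftZIsTerminal.from (Spec (CommRingCat.of (ULift.{u} ℤ)))) ≫ t) hid).trans (Category.comp_id _)
  rw [heq]
  exact ProjPerm.isProjective_closedImmersion_comp _ _ hZ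

/-- projective space over any scheme is projective -/
theorem isProjective_toBase (n : ℕ) (S : Scheme.{u}) : RelProj.IsProjective (CohB1.ProjSpaceOver.toBase n S) :=
  ProjPerm.isProjective_pullback_snd _ (isProjective_toSpec n) _

/-- **EGA II 5.5.4 (i)**: an H-projective morphism is projective -/
theorem isProjective_of_isHProjective {X S : Scheme.{u}} (f : X ⟶ S) (hf : RelProj.IsHProjective f) :
    RelProj.IsProjective f := by
  obtain ⟨n, i, hi, rfl⟩ := hf
  exact ProjPerm.isProjective_closedImmersion_comp i _ (isProjective_toBase n S)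

end Groth.Agent.Lib.Helper28.HProj
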