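import Groth.Agent.Lib.Helper28.VeryAmpleImm
import Groth.Agent.Lib.Helper28.PullbackAmple2
import Groth.Agent.Lib.Helper28.TwistGenDAmple
import Groth.Agent.Lib.Helper28.ProjSpaceBasic
import Groth.Agent.Lib.Helper28.AmplePow

/-!
# Very ample (P^n form) implies ample, over an affine base (helper28)
-/

set_option autoImplicit false
universe u
open CategoryTheory CategoryTheory.Limits AlgebraicGeometry Opposite TopologicalSpace
noncomputable section

namespace Groth.Agent.Lib.Helper28.VeryAmpleConv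

open Groth.Agent.Lib.Helper28 Groth.Agent.Lib.Helper28.QCohLoc Groth.Agent.Lib.Helper28.GenLocus
  Groth.Agent.Lib.Helper28.PullbackInv Groth.Agent.Lib.Helper28.ProjUPUniq Groth.Agent.Lib.Helper28.ProjUPGeom
  Groth.Agent.Lib.Helper28.VeryAmpleImm

variable {X Y : Scheme.{u}}

theorem isQuasiAffine_preimage_of_isImmersion {P : Scheme.{u}} (i : X ⟶ P) [IsImmersion i] [QuasiCompact i]
    (V : P.Opens) (hV : IsAffineOpen V) : Scheme.IsQuasiAffine ((i ⁻¹ᵁ V : X.Opens) : Scheme.{u}) := by
  have : IsAffine (V : Scheme.{u}) := hV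
  have : CompactSpace ((i ⁻¹ᵁ V : X.Opens) : Scheme.{u}) :=
    isCompact_iff_compactSpace.1 (QuasiCompact.isCompact_preimage (f := i) V V.2 hV.isCompact)
  exact Scheme.IsQuasiAffine.of_isImmersion (i ∣_ V)

set_option maxHeartbeats 800000 in
theorem isAmple_of_isRelVeryAmplePn [IsAffine Y] (q : X ⟶ Y) [IsSeparated q] [QuasiCompact q] {L : X.Modules}
    (h : RelAmple.IsRelVeryAmplePn q L) : CohB1.IsAmple L := by
  obtain ⟨N, i, hi, hiq, ⟨φ⟩⟩ := h
  have : CompactSpace X := QuasiCompact.compactSpace_of_compactSpace q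
  have : QuasiSeparatedSpace X := quasiSeparatedSpace_of_quasiSeparated q
  have hprop := ProjSpaceBasic.isProper_toSpec N (ULift.{u} ℤ)
  have hcpt0 : CompactSpace (CohB1.ProjSpace N (ULift.{u} ℤ)) :=
    QuasiCompact.compactSpace_of_compactSpace (CohB1.ProjSpace.toSpec N (ULift.{u} ℤ))
  have hcpt : CompactSpace (Proj (CohB1.polyGrading N (ULift.{u} ℤ))) := hcpt0
  have hO1 : CohB1.IsAmple (Twist.twist (CohB1.polyGrading N (ULift.{u} ℤ)) ((1 : ℕ) : ℤ)) :=
    TwistGenD.isAmple_twist_of_cover _ 1 one_pos (projSpace_cover N _)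
  have hfstaff : @IsAffineHom (CohB1.ProjSpaceOver N Y) (Proj (CohB1.polyGrading N (ULift.{u} ℤ)))
      (pullback.fst (CohB1.ProjSpace.toSpec N (ULift.{u} ℤ)) (specULiftZIsTerminal.from Y)) :=
    MorphismProperty.pullback_fst (P := @IsAffineHom) _ _
      (inferInstance : IsAffineHom (specULiftZIsTerminal.from Y))
  have hprop2 := ProjSpaceBasic.isProper_toBase N Y
  have hqc : QuasiCompact i := by
    have h1 : QuasiCompact (i ≫ CohB1.ProjSpaceOver.toBase N Y) := by
      show QuasiCompact (i ≫ pullback.snd _ _)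
      rw [hiq]; infer_instance
    exact QuasiCompact.of_comp i (CohB1.ProjSpaceOver.toBase N Y)
  have hA := PullbackInv.isAmple_pullback_of_quasiAffine
    (X := Proj (CohB1.polyGrading N (ULift.{u} ℤ)))
    (i ≫ (pullback.fst (CohB1.ProjSpace.toSpec N (ULift.{u} ℤ)) (specULiftZIsTerminal.from Y) :
      CohB1.ProjSpaceOver N Y ⟶ Proj (CohB1.polyGrading N (ULift.{u} ℤ))))
    (fun O hO => isQuasiAffine_preimage_of_isImmersion i _ (hO.preimage _)) _ hO1
  exact AmpleIso.isAmple_of_iso (((Scheme.Modules.pullbackComp i _).app _).symm ≪≫ φ.symm) hA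

end Groth.Agent.Lib.Helper28.VeryAmpleConv
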