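import Groth.Agent.Lib.Helper28.HProj
import Groth.Agent.S4381
import Groth.Agent.S2330

/-!
# Projective morphisms over an affine base are H-projective; locally projective = locally H-projective
-/

set_option autoImplicit false
universe u
open CategoryTheory CategoryTheory.Limits AlgebraicGeometry Opposite TopologicalSpace
noncomputable section

namespace Groth.Agent.Lib.Helper28.HProj

open Groth.Agent.Lib.Helper28

/-- projectivity is stable under base change, in `IsPullback` form -/
theorem isProjective_of_isPullback {X Y X' Y' : Scheme.{u}} {fst : X' ⟶ X} {snd : X' ⟶ Y'} {f : X ⟶ Y} {g : Y' ⟶ Y}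
    (h : IsPullback fst snd f g) (hf : RelProj.IsProjective f) : RelProj.IsProjective snd := by
  have h1 : snd = h.isoPullback.hom ≫ pullback.snd f g := (h.isoPullback_hom_snd).symm
  rw [h1]
  exact ProjPerm.isProjective_closedImmersion_comp _ _ (ProjPerm.isProjective_pullback_snd f hf g)

/-- restriction of a projective morphism to an open of the base -/
theorem isProjective_morphismRestrict {X Y : Scheme.{u}} (f : X ⟶ Y) (hf : RelProj.IsProjective f) (U : Y.Opens) :
    RelProj.IsProjective (f ∣_ U) :=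
  isProjective_of_isPullback (isPullback_morphismRestrict f U).flip hf

/-- passing to a smaller open of the base -/
theorem isProjective_morphismRestrict_of_le {X Y : Scheme.{u}} (f : X ⟶ Y) {U V : Y.Opens} (hVU : V ≤ U)
    (hf : RelProj.IsProjective (f ∣_ U)) : RelProj.IsProjective (f ∣_ V) := by
  have hle : f ⁻¹ᵁ V ≤ f ⁻¹ᵁ U := fun x hx => hVU hx
  have hcomm : X.homOfLE hle ≫ (f ∣_ U) = (f ∣_ V) ≫ Y.homOfLE hVU := by
    rw [← cancel_mono U.ι, Category.assoc, Category.assoc, morphismRestrict_ι, Scheme.homOfLE_ι,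
      ← Category.assoc, Scheme.homOfLE_ι, morphismRestrict_ι]
  have hbig : IsPullback (X.homOfLE hle ≫ (f ⁻¹ᵁ U).ι) (f ∣_ V) f (Y.homOfLE hVU ≫ U.ι) := by
    rw [Scheme.homOfLE_ι, Scheme.homOfLE_ι]
    exact (isPullback_morphismRestrict f V).flip
  have hsq : IsPullback (X.homOfLE hle) (f ∣_ V) (f ∣_ U) (Y.homOfLE hVU) :=
    IsPullback.of_right hbig hcomm (isPullback_morphismRestrict f U).flip
  exact isProjective_of_isPullback hsq hf

/-- **a projective morphism to an affine scheme is H-projective** -/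
theorem isHProjective_of_isAffine {X Y : Scheme.{u}} [IsAffine Y] (f : X ⟶ Y) (hf : RelProj.IsProjective f) :
    RelProj.IsHProjective f := by
  have hprop := ProjAmple.isProper_of_isProjective f hf
  obtain ⟨L, hLinv, -, hLamp⟩ := ProjAmple.exists_isRelVeryAmple_of_isProjective f hf
  have hamp : CohB1.IsAmple L := (Groth.Agent.S4381.result f L).1 hLamp
  obtain ⟨n₀, hn₀⟩ := (Groth.Agent.S2330.result f L hLinv).2 hamp
  obtain ⟨m, i, hi, hcomp, -⟩ := hn₀ n₀ le_rfl
  have hcomp' : i ≫ CohB1.ProjSpaceOver.toBase m Y = f := hcomp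
  have hpb : IsProper (CohB1.ProjSpaceOver.toBase m Y) := ProjSpaceBasic.isProper_toBase m Y
  have hpc : IsProper (i ≫ CohB1.ProjSpaceOver.toBase m Y) := by rw [hcomp']; exact hprop
  have hpi : IsProper i := IsProper.of_comp i (CohB1.ProjSpaceOver.toBase m Y)
  exact ⟨m, i, (IsClosedImmersion.iff_isProper_and_mono i).2 ⟨hpi, inferInstance⟩, hcomp'⟩

/-- **locally projective ⟺ locally H-projective** -/
theorem isLocallyProjective_iff {X S : Scheme.{u}} (f : X ⟶ S) :
    RelProj.IsLocallyProjective f ↔ ∀ s : S, ∃ U : S.Opens, s ∈ U ∧ RelProj.IsHProjective (f ∣_ U) := by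
  constructor
  · intro h s
    obtain ⟨U, hsU, hU⟩ := h s
    obtain ⟨V, hV, hsV, hVU⟩ := Opens.isBasis_iff_nbhd.mp S.isBasis_affineOpens hsU
    have : IsAffine (V : Scheme.{u}) := hV
    exact ⟨V, hsV, isHProjective_of_isAffine _ (isProjective_morphismRestrict_of_le f hVU hU)⟩
  · intro h s
    obtain ⟨U, hsU, hU⟩ := h s
    exact ⟨U, hsU, isProjective_of_isHProjective _ hU⟩

end Groth.Agent.Lib.Helper28.HProj
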