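import Groth.Agent.Lib.Helper28.VeryAmpleImm

/-!
# Very ampleness from sections over a general base (helper28)
-/

set_option autoImplicit false
universe u
open CategoryTheory CategoryTheory.Limits AlgebraicGeometry Opposite TopologicalSpace
noncomputable section

namespace Groth.Agent.Lib.Helper28.VeryAmpleGen

open Groth.Agent.Lib.Helper28 Groth.Agent.Lib.Helper28.QCohLoc Groth.Agent.Lib.Helper28.GenLocus
  Groth.Agent.Lib.Helper28.PullbackInv Groth.Agent.Lib.Helper28.ProjUPUniq Groth.Agent.Lib.Helper28.ProjUPGeom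
  Groth.Agent.Lib.Helper28.VeryAmpleImm

theorem isAffineOpen_inf_preimage {X Y Z : Scheme.{u}} [IsAffine Z] (f : X ⟶ Z) (g : Y ⟶ Z) {U : X.Opens}
    (hU : IsAffineOpen U) {V : Y.Opens} (hV : IsAffineOpen V) :
    IsAffineOpen (pullback.fst f g ⁻¹ᵁ U ⊓ pullback.snd f g ⁻¹ᵁ V) := by
  have hU' : IsAffine (U : Scheme.{u}) := hU
  have hV' : IsAffine (V : Scheme.{u}) := hV
  have h := isAffineOpen_opensRange
    (pullback.map (U.ι ≫ f) (V.ι ≫ g) f g U.ι V.ι (𝟙 Z) (by simp) (by simp))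
  have he : (pullback.map (U.ι ≫ f) (V.ι ≫ g) f g U.ι V.ι (𝟙 Z) (by simp) (by simp)).opensRange =
      pullback.fst f g ⁻¹ᵁ U ⊓ pullback.snd f g ⁻¹ᵁ V := by
    apply Opens.ext
    rw [Scheme.Hom.coe_opensRange, Scheme.Pullback.range_map]
    simp [Scheme.Opens.range_ι]
  rw [← he]
  exact h

variable {X Y : Scheme.{u}}

section imm

variable {A : Type u} [CommRing A] {S : Type u} [CommRing S] [Algebra A S] (𝒮 : ℕ → Submodule A S)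
  [GradedAlgebra 𝒮] {P' : Scheme.{u}} (p₁ : P' ⟶ Proj 𝒮) (p₂ : P' ⟶ Y) (i : X ⟶ P')
  {M : X.Modules} (τ : (Scheme.Modules.pullback (i ≫ p₁)).obj (Twist.twist 𝒮 ((1 : ℕ) : ℤ)) ≅ M)

set_option maxHeartbeats 800000 in
theorem isImmersion_of_sections_gen (hcovP : ∀ x : Proj 𝒮, ∃ f : S, f ∈ 𝒮 1 ∧ x ∈ Proj.basicOpen 𝒮 f)
    {J : Type*} (xs : J → S) (hxs : ∀ j, xs j ∈ 𝒮 1) (I₀ : Set J) (V : J → Y.Opens)
    (hDaff : ∀ a ∈ I₀, IsAffineOpen (p₁ ⁻¹ᵁ Proj.basicOpen 𝒮 (xs a) ⊓ p₂ ⁻¹ᵁ V a))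
    (hcov : ∀ x : X, ∃ a ∈ I₀, x ∈ CohB1.genLocus M (TwistGen.ofSection M (sec 𝒮 (i ≫ p₁) τ (hxs a))))
    (haff : ∀ a ∈ I₀, IsAffineOpen (CohB1.genLocus M (TwistGen.ofSection M (sec 𝒮 (i ≫ p₁) τ (hxs a)))))
    (hle : ∀ a ∈ I₀, CohB1.genLocus M (TwistGen.ofSection M (sec 𝒮 (i ≫ p₁) τ (hxs a))) ≤ (i ≫ p₂) ⁻¹ᵁ V a)
    (hgenr : ∀ a ∈ I₀, ∀ (W : X.Opens)
      (_ : W = CohB1.genLocus M (TwistGen.ofSection M (sec 𝒮 (i ≫ p₁) τ (hxs a))))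
      (e : W ≤ (i ≫ p₂) ⁻¹ᵁ V a) (z : Γ(X, W)),
      z ∈ Subring.closure ({c | ∃ k, res M (le_top : W ≤ ⊤) (sec 𝒮 (i ≫ p₁) τ (hxs k)) =
          (c • res M (le_top : W ≤ ⊤) (sec 𝒮 (i ≫ p₁) τ (hxs a)) : Γ(M, W))} ∪
        Set.range ((i ≫ p₂).appLE (V a) W e))) :
    IsImmersion i := by
  classical
  have hpre : ∀ a ∈ I₀, i ⁻¹ᵁ (p₁ ⁻¹ᵁ Proj.basicOpen 𝒮 (xs a) ⊓ p₂ ⁻¹ᵁ V a) =
      CohB1.genLocus M (TwistGen.ofSection M (sec 𝒮 (i ≫ p₁) τ (hxs a))) := by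
    intro a ha
    have h1 := preimage_basicOpen_eq_genLocus 𝒮 (i ≫ p₁) τ hcovP (hxs a)
    apply le_antisymm
    · intro x hx
      have h2 : x ∈ (i ≫ p₁) ⁻¹ᵁ Proj.basicOpen 𝒮 (xs a) := hx.1
      rw [h1] at h2
      exact h2
    · intro x hx
      refine ⟨?_, hle a ha hx⟩
      have h2 : x ∈ (i ≫ p₁) ⁻¹ᵁ Proj.basicOpen 𝒮 (xs a) := by rw [h1]; exact hx
      exact h2
  refine isImmersion_of_affine_cover i
    (fun a : I₀ => p₁ ⁻¹ᵁ Proj.basicOpen 𝒮 (xs a.1) ⊓ p₂ ⁻¹ᵁ V a.1) ?_ ?_ ?_ ?_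
  · intro a
    exact hDaff a.1 a.2
  · intro a
    rw [hpre a.1 a.2]; exact haff a.1 a.2
  · intro a
    obtain ⟨D, hD⟩ : ∃ D : P'.Opens, D = p₁ ⁻¹ᵁ Proj.basicOpen 𝒮 (xs a.1) ⊓ p₂ ⁻¹ᵁ V a.1 := ⟨_, rfl⟩
    show Function.Surjective (i.app (p₁ ⁻¹ᵁ Proj.basicOpen 𝒮 (xs a.1) ⊓ p₂ ⁻¹ᵁ V a.1))
    rw [← hD]
    intro z
    have hWg : i ⁻¹ᵁ D = CohB1.genLocus M (TwistGen.ofSection M (sec 𝒮 (i ≫ p₁) τ (hxs a.1))) := by
      rw [hD]; exact hpre a.1 a.2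
    have hDle₁ : D ≤ p₁ ⁻¹ᵁ Proj.basicOpen 𝒮 (xs a.1) := by rw [hD]; exact inf_le_left
    have hDle₂ : D ≤ p₂ ⁻¹ᵁ V a.1 := by rw [hD]; exact inf_le_right
    have e : i ⁻¹ᵁ D ≤ (i ≫ p₁) ⁻¹ᵁ Proj.basicOpen 𝒮 (xs a.1) := fun x hx => hDle₁ hx
    have e₂ : i ⁻¹ᵁ D ≤ (i ≫ p₂) ⁻¹ᵁ V a.1 := fun x hx => hDle₂ hx
    have hz := hgenr a.1 a.2 (i ⁻¹ᵁ D) hWg e₂ z
    have hle' : Subring.closure ({c | ∃ k, res M (le_top : i ⁻¹ᵁ D ≤ ⊤) (sec 𝒮 (i ≫ p₁) τ (hxs k)) =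
          (c • res M (le_top : i ⁻¹ᵁ D ≤ ⊤) (sec 𝒮 (i ≫ p₁) τ (hxs a.1)) : Γ(M, i ⁻¹ᵁ D))} ∪
        Set.range ((i ≫ p₂).appLE (V a.1) (i ⁻¹ᵁ D) e₂)) ≤ (i.app D).hom.range := by
      refine Subring.closure_le.2 ?_
      rintro c (⟨k, hk⟩ | ⟨y, rfl⟩)
      · have h1 := res_sec_eq 𝒮 (i ≫ p₁) τ (hxs k) (hxs a.1) (i ⁻¹ᵁ D) e
        have hg := isGen_res_sec 𝒮 (i ≫ p₁) τ (hxs a.1) (i ⁻¹ᵁ D) e
        have hinj := (hg (i ⁻¹ᵁ D) le_rfl).1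
        have hc : c = (i ≫ p₁).appLE _ (i ⁻¹ᵁ D) e (ProjFrac.fr 𝒮 (hxs a.1) 1 (xs k) (hxs k)) := by
          apply hinj
          show (c • res M le_rfl _ : Γ(M, i ⁻¹ᵁ D)) = (_ • res M le_rfl _ : Γ(M, i ⁻¹ᵁ D))
          rw [QCohLoc.res_self, ← hk, h1]
        rw [hc, ← Scheme.Hom.appLE_comp_appLE i p₁ _ D (i ⁻¹ᵁ D) hDle₁ le_rfl, Scheme.Hom.appLE_eq_app]
        exact ⟨_, rfl⟩
      · rw [← Scheme.Hom.appLE_comp_appLE i p₂ (V a.1) D (i ⁻¹ᵁ D) hDle₂ le_rfl, Scheme.Hom.appLE_eq_app]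
        exact ⟨_, rfl⟩
    exact hle' hz
  · intro x
    obtain ⟨a, ha, hx⟩ := hcov x
    refine ⟨⟨a, ha⟩, ?_⟩
    have : x ∈ i ⁻¹ᵁ (p₁ ⁻¹ᵁ Proj.basicOpen 𝒮 (xs a) ⊓ p₂ ⁻¹ᵁ V a) := by
      rw [hpre a ha]; exact hx
    exact this

include p₂ in
theorem isImmersion_of_sections_gen' (hcovP : ∀ x : Proj 𝒮, ∃ f : S, f ∈ 𝒮 1 ∧ x ∈ Proj.basicOpen 𝒮 f)
    {J : Type*} (xs : J → S) (hxs : ∀ j, xs j ∈ 𝒮 1) (I₀ : Set J) (V : J → Y.Opens)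
    (hDaff : ∀ a ∈ I₀, IsAffineOpen (p₁ ⁻¹ᵁ Proj.basicOpen 𝒮 (xs a) ⊓ p₂ ⁻¹ᵁ V a))
    (s : J → (Coh.structureModule X ⟶ M)) (hτ : ∀ k, sec 𝒮 (i ≫ p₁) τ (hxs k) = secOf (s k))
    (hcov : ∀ x : X, ∃ a ∈ I₀, x ∈ CohB1.genLocus M (s a))
    (haff : ∀ a ∈ I₀, IsAffineOpen (CohB1.genLocus M (s a)))
    (hle : ∀ a ∈ I₀, CohB1.genLocus M (s a) ≤ (i ≫ p₂) ⁻¹ᵁ V a)
    (hgenr : ∀ a (ha : a ∈ I₀), ∀ z : Γ(X, CohB1.genLocus M (s a)),
      z ∈ Subring.closure ({c | ∃ k, res M (le_top : CohB1.genLocus M (s a) ≤ ⊤) (secOf (s k)) =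
          (c • res M (le_top : CohB1.genLocus M (s a) ≤ ⊤) (secOf (s a)) : Γ(M, CohB1.genLocus M (s a)))} ∪
        Set.range ((i ≫ p₂).appLE (V a) (CohB1.genLocus M (s a)) (hle a ha)))) :
    IsImmersion i := by
  have hgenr' : ∀ a ∈ I₀, ∀ (W : X.Opens) (hW : W = CohB1.genLocus M (s a))
      (e : W ≤ (i ≫ p₂) ⁻¹ᵁ V a) (z : Γ(X, W)),
      z ∈ Subring.closure ({c | ∃ k, res M (le_top : W ≤ ⊤) (secOf (s k)) =
          (c • res M (le_top : W ≤ ⊤) (secOf (s a)) : Γ(M, W))} ∪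
        Set.range ((i ≫ p₂).appLE (V a) W e)) := by
    intro a ha W hW e
    subst hW
    exact hgenr a ha
  refine isImmersion_of_sections_gen 𝒮 p₁ p₂ i τ hcovP xs hxs I₀ V hDaff ?_ ?_ ?_ ?_
  · intro x
    obtain ⟨a, ha, hx⟩ := hcov x
    refine ⟨a, ha, ?_⟩
    rw [hτ a, ofSection_secOf]
    exact hx
  · intro a ha
    rw [hτ a, ofSection_secOf]
    exact haff a ha
  · intro a ha
    rw [hτ a, ofSection_secOf]
    exact hle a ha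
  · intro a ha W hW e z
    rw [hτ a, ofSection_secOf] at hW
    have h1 := hgenr' a ha W hW e z
    simp only [hτ]
    exact h1

end imm

set_option maxHeartbeats 800000 in
/-- **very ampleness from sections, general base** -/
theorem isRelVeryAmplePn_of_sections_gen (q : X ⟶ Y) {M : X.Modules} (hM : PicF.IsInvertible M) (N : ℕ)
    (s : Fin (N + 1) → (Coh.structureModule X ⟶ M)) (I₀ : Set (Fin (N + 1))) (V : Fin (N + 1) → Y.Opens)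
    (hV : ∀ a ∈ I₀, IsAffineOpen (V a))
    (hcov : ∀ x : X, ∃ a ∈ I₀, x ∈ CohB1.genLocus M (s a))
    (haff : ∀ a ∈ I₀, IsAffineOpen (CohB1.genLocus M (s a)))
    (hle : ∀ a ∈ I₀, CohB1.genLocus M (s a) ≤ q ⁻¹ᵁ V a)
    (hgenr : ∀ a (ha : a ∈ I₀), ∀ z : Γ(X, CohB1.genLocus M (s a)),
      z ∈ Subring.closure ({c | ∃ k, res M (le_top : CohB1.genLocus M (s a) ≤ ⊤) (secOf (s k)) =
          (c • res M (le_top : CohB1.genLocus M (s a) ≤ ⊤) (secOf (s a)) : Γ(M, CohB1.genLocus M (s a)))} ∪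
        Set.range (q.appLE (V a) (CohB1.genLocus M (s a)) (hle a ha)))) :
    RelAmple.IsRelVeryAmplePn q M := by
  classical
  obtain ⟨r, τ, hτ⟩ := exists_map_to_projSpace hM N s (fun x => by
    obtain ⟨a, -, ha⟩ := hcov x; exact ⟨a, ha⟩)
  obtain ⟨i, hi1, hi2⟩ : ∃ i : X ⟶ CohB1.ProjSpaceOver N Y,
      i ≫ pullback.fst (CohB1.ProjSpace.toSpec N (ULift.{u} ℤ)) (specULiftZIsTerminal.from Y) = r ∧
      i ≫ pullback.snd (CohB1.ProjSpace.toSpec N (ULift.{u} ℤ)) (specULiftZIsTerminal.from Y) = q :=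
    ⟨pullback.lift r q (specULiftZIsTerminal.hom_ext _ _), pullback.lift_fst _ _ _, pullback.lift_snd _ _ _⟩
  subst hi1
  subst hi2
  refine ⟨N, i, ?_, rfl, ⟨?_⟩⟩
  · exact isImmersion_of_sections_gen' (P' := CohB1.ProjSpaceOver N Y) (CohB1.polyGrading N (ULift.{u} ℤ))
      (pullback.fst (CohB1.ProjSpace.toSpec N (ULift.{u} ℤ)) (specULiftZIsTerminal.from Y))
      (pullback.snd (CohB1.ProjSpace.toSpec N (ULift.{u} ℤ)) (specULiftZIsTerminal.from Y)) i τ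
      (projSpace_cover N _) (fun k : Fin (N + 1) => (MvPolynomial.X k : MvPolynomial (Fin (N + 1)) (ULift.{u} ℤ)))
      (fun k => MvPolynomial.isHomogeneous_X _ k) I₀ V
      (fun a ha => isAffineOpen_inf_preimage (CohB1.ProjSpace.toSpec N (ULift.{u} ℤ))
        (specULiftZIsTerminal.from Y)
        (Proj.isAffineOpen_basicOpen _ _ (MvPolynomial.isHomogeneous_X _ a) one_pos) (hV a ha))
      s hτ hcov haff hle hgenr
  · exact τ.symm ≪≫ ((Scheme.Modules.pullbackComp i _).app _).symm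

theorem mem_closure_of_ratios_gen (q : X ⟶ Y) {M : X.Modules} {J : Type*}
    (s' : J → (Coh.structureModule X ⟶ M))
    (a : J) (W : X.Opens) (hW : CohB1.genLocus M (s' a) = W) (V V' : Y.Opens) (hVV' : V' = V)
    (e : W ≤ q ⁻¹ᵁ V) (e' : CohB1.genLocus M (s' a) ≤ q ⁻¹ᵁ V') {k : ℕ} (b : Fin k → Γ(X, W))
    (hb : ∀ z : Γ(X, W), z ∈ Subring.closure (Set.range b ∪ Set.range (q.appLE V W e)))
    (hr : ∀ j, ∃ k', res M (le_top : W ≤ ⊤) (secOf (s' k')) =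
      (b j • res M (le_top : W ≤ ⊤) (secOf (s' a)) : Γ(M, W))) :
    ∀ z : Γ(X, CohB1.genLocus M (s' a)),
      z ∈ Subring.closure ({c | ∃ k', res M (le_top : CohB1.genLocus M (s' a) ≤ ⊤) (secOf (s' k')) =
          (c • res M (le_top : CohB1.genLocus M (s' a) ≤ ⊤) (secOf (s' a)) : Γ(M, CohB1.genLocus M (s' a)))} ∪
        Set.range (q.appLE V' (CohB1.genLocus M (s' a)) e')) := by
  subst hW
  subst hVV'
  intro z
  refine Subring.closure_mono ?_ (hb z)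
  rintro c (⟨j, rfl⟩ | hc)
  · exact Or.inl (hr j)
  · exact Or.inr hc

/-- the family of base opens attached to the local data -/
def famV {ι : Type u} {κ : ι → ℕ} (𝒱 : ι → Y.Opens) :
    Option (Σ i : ι, Option (Fin (κ i))) → Y.Opens
  | none => ⊤
  | some ⟨i, _⟩ => 𝒱 i

set_option maxHeartbeats 800000 in
/-- **Stacks 0FVC core**: for `q` locally of finite type and `L` ample, `L^n ⊗ L'` is very ample (projective space
form) relative to `q` for all large `n`; no hypothesis on the base -/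
theorem exists_forall_isRelVeryAmplePn_gen (q : X ⟶ Y) [LocallyOfFiniteType q]
    {L L' : X.Modules} (hL : CohB1.IsAmple L) (hL' : PicF.IsInvertible L') :
    ∃ n₀ : ℕ, ∀ n : ℕ, n₀ ≤ n →
      RelAmple.IsRelVeryAmplePn q (CohB1.tensorMod (CohB1.tensorPow L n) L') := by
  classical
  have : CompactSpace X := hL.2.1
  -- affine opens of the base around the images of the points
  have h𝒱 : ∀ x : X, ∃ V : Y.affineOpens, q x ∈ V.1 := fun x => by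
    obtain ⟨V, hV, hxV, -⟩ := Opens.isBasis_iff_nbhd.1 Y.isBasis_affineOpens
      (U := ⊤) (x := q x) trivial
    exact ⟨⟨V, hV⟩, hxV⟩
  choose 𝒱 hx𝒱 using h𝒱
  have hsel : ∀ U : X.affineOpens, ∃ (k : ℕ) (b : Fin k → Γ(X, U.1)),
      (∃ x, U.1 ≤ q ⁻¹ᵁ (𝒱 x).1) → ∃ (x : X) (e : U.1 ≤ q ⁻¹ᵁ (𝒱 x).1),
        ∀ z : Γ(X, U.1), z ∈ Subring.closure (Set.range b ∪ Set.range (q.appLE (𝒱 x).1 U.1 e)) := by
    intro U
    by_cases h : ∃ x, U.1 ≤ q ⁻¹ᵁ (𝒱 x).1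
    · obtain ⟨x, e⟩ := h
      obtain ⟨k, b, hb⟩ := exists_generators q (𝒱 x).2 U.2 e
      exact ⟨k, b, fun _ => ⟨x, e, hb⟩⟩
    · exact ⟨0, Fin.elim0, fun h' => absurd h' h⟩
  choose k b hb using hsel
  obtain ⟨ι, hι, U, hUcov, hUW, n₀, hn₀⟩ := VeryAmpleSec.exists_cover_sections_le hL hL' k b
    (fun x => q ⁻¹ᵁ (𝒱 x).1) (fun x => hx𝒱 x)
  have hb' := fun i => hb (U i) (hUW i)
  choose xi ei hbi using hb'
  refine ⟨n₀, fun n hn => ?_⟩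
  have key := hn₀ n hn
  choose s sk hloc hratio using key
  have hM : PicF.IsInvertible (CohB1.tensorMod (CohB1.tensorPow L n) L') :=
    isInvertible_tensorMod (isInvertible_tensorPow hL.1 n) hL'
  obtain ⟨N, hN⟩ : ∃ N : ℕ, Fintype.card (Option (Σ i : ι, Option (Fin (k (U i))))) = N + 1 :=
    ⟨_, Fintype.card_option⟩
  let e : Option (Σ i : ι, Option (Fin (k (U i)))) ≃ Fin (N + 1) := Fintype.equivFinOfCardEq hN
  have hleV : ∀ a ∈ {a | ∃ i, e.symm a = some ⟨i, none⟩},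
      CohB1.genLocus _ (famSec s sk (e.symm a)) ≤
        q ⁻¹ᵁ famV (κ := fun i => k (U i)) (fun i => (𝒱 (xi i)).1) (e.symm a) := by
    rintro a ⟨i, hai⟩
    rw [hai]
    show CohB1.genLocus _ (s i) ≤ q ⁻¹ᵁ (𝒱 (xi i)).1
    rw [hloc i]
    exact ei i
  refine isRelVeryAmplePn_of_sections_gen q hM N (fun a => famSec s sk (e.symm a))
    {a | ∃ i, e.symm a = some ⟨i, none⟩}
    (fun a => famV (κ := fun i => k (U i)) (fun i => (𝒱 (xi i)).1) (e.symm a)) ?_ ?_ ?_ hleV ?_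
  · rintro a ⟨i, hai⟩
    show IsAffineOpen (famV (κ := fun i => k (U i)) (fun i => (𝒱 (xi i)).1) (e.symm a))
    rw [hai]
    exact (𝒱 (xi i)).2
  · intro x
    obtain ⟨i, hi⟩ := hUcov x
    refine ⟨e (some ⟨i, none⟩), ⟨i, e.symm_apply_apply _⟩, ?_⟩
    show x ∈ CohB1.genLocus _ (famSec s sk (e.symm (e (some ⟨i, none⟩))))
    rw [e.symm_apply_apply]
    show x ∈ CohB1.genLocus _ (s i)
    rw [hloc i]
    exact hi
  · rintro a ⟨i, hai⟩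
    show IsAffineOpen (CohB1.genLocus _ (famSec s sk (e.symm a)))
    rw [hai]
    show IsAffineOpen (CohB1.genLocus _ (s i))
    rw [hloc i]
    exact (U i).2
  · rintro a ⟨i, hai⟩
    refine mem_closure_of_ratios_gen q (fun a => famSec s sk (e.symm a)) a (U i).1 ?_ (𝒱 (xi i)).1 _ ?_
      (ei i) _ (b (U i)) (hbi i) ?_
    · show CohB1.genLocus _ (famSec s sk (e.symm a)) = (U i).1
      rw [hai]
      exact hloc i
    · show famV (κ := fun i => k (U i)) (fun i => (𝒱 (xi i)).1) (e.symm a) = (𝒱 (xi i)).1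
      rw [hai]
      rfl
    · intro j
      refine ⟨e (some ⟨i, some j⟩), ?_⟩
      show res _ _ (secOf (famSec s sk (e.symm (e (some ⟨i, some j⟩))))) =
        (b (U i) j • res _ _ (secOf (famSec s sk (e.symm a))) :
          Γ(CohB1.tensorMod (CohB1.tensorPow L n) L', (U i).1))
      rw [e.symm_apply_apply, hai]
      exact hratio i j


end Groth.Agent.Lib.Helper28.VeryAmpleGen
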