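import Groth.Agent.Lib.Helper28.HProj2
import Groth.Agent.Lib.Helper28.AmpleCompose
import Groth.Agent.S9710

/-!
# Projective = H-projective over a quasi-compact separated base carrying an ample invertible module
-/

set_option autoImplicit false
universe u
open CategoryTheory CategoryTheory.Limits AlgebraicGeometry Opposite TopologicalSpace
noncomputable section

namespace Groth.Agent.Lib.Helper28.HProj

open Groth.Agent.Lib.Helper28

/-- **a projective morphism to a quasi-compact scheme carrying an ample invertible module is H-projective** -/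
theorem isHProjective_of_isAmple {X Y : Scheme.{u}} [CompactSpace Y] (M : Y.Modules) (hM : CohB1.IsAmple M)
    (f : X ⟶ Y) (hf : RelProj.IsProjective f) : RelProj.IsHProjective f := by
  have hprop := ProjAmple.isProper_of_isProjective f hf
  obtain ⟨L, hLinv, -, hLamp⟩ := ProjAmple.exists_isRelVeryAmple_of_isProjective f hf
  have hg : QuasiCompact (specULiftZIsTerminal.from Y) := (HasAffineProperty.iff_of_isAffine (P := @QuasiCompact)).2 inferInstance
  have hMrel : RelAmple.IsRelAmple (specULiftZIsTerminal.from Y) M :=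
    (Groth.Agent.S4381.result (specULiftZIsTerminal.from Y) M).2 hM
  obtain ⟨n₀, -, hn₀⟩ := AmpleCompose.exists_forall_isRelAmple_comp f (specULiftZIsTerminal.from Y) L M hLamp hMrel
  have hA : CohB1.IsAmple (CohB1.tensorMod L ((Scheme.Modules.pullback f).obj (CohB1.tensorPow M n₀))) :=
    (Groth.Agent.S4381.result (f ≫ specULiftZIsTerminal.from Y) _).1 (hn₀ n₀ le_rfl)
  obtain ⟨d₀, -, hd₀⟩ := Groth.Agent.S9710.result f _ hA
  obtain ⟨m, i, hi, hcomp, -⟩ := hd₀ d₀ le_rfl
  have hcomp' : i ≫ CohB1.ProjSpaceOver.toBase m Y = f := hcomp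
  have hpb : IsProper (CohB1.ProjSpaceOver.toBase m Y) := ProjSpaceBasic.isProper_toBase m Y
  have hpc : IsProper (i ≫ CohB1.ProjSpaceOver.toBase m Y) := by rw [hcomp']; exact hprop
  have hpi : IsProper i := IsProper.of_comp i (CohB1.ProjSpaceOver.toBase m Y)
  exact ⟨m, i, (IsClosedImmersion.iff_isProper_and_mono i).2 ⟨hpi, inferInstance⟩, hcomp'⟩

end Groth.Agent.Lib.Helper28.HProj
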