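import Mathlib.RingTheory.Henselian
import Mathlib.Dynamics.Newton
import Mathlib.RingTheory.Jacobson.Ideal
import Mathlib.Algebra.Polynomial.Lifts
import Mathlib.RingTheory.Ideal.Quotient.Operations

/-! Helper lemmas on Henselian pairs (helper28). -/

set_option autoImplicit false
universe u

namespace Groth.Agent.Lib.Helper28

open Polynomial

variable {A : Type u} [CommRing A]

theorem mk_mem_jacobson_bot_iff (I : Ideal A) (x : A) :
    Ideal.Quotient.mk I x ∈ Ideal.jacobson (⊥ : Ideal (A ⧸ I)) ↔ x ∈ I.jacobson := by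
  have h := Ideal.comap_jacobson_of_surjective (f := Ideal.Quotient.mk I)
    Ideal.Quotient.mk_surjective (K := ⊥)
  rw [← RingHom.ker_eq_comap_bot, Ideal.mk_ker] at h
  rw [← h, Ideal.mem_comap]

/-- A root congruent to an approximate simple root modulo the Jacobson radical of `I`
is congruent modulo `I`. -/
theorem sub_mem_of_isRoot_of_mem_jacobson (I : Ideal A) (f : A[X]) (a a₀ : A)
    (hroot : f.IsRoot a) (h₀ : f.eval a₀ ∈ I)
    (hu : IsUnit (Ideal.Quotient.mk I (f.derivative.eval a₀)))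
    (hj : a - a₀ ∈ I.jacobson) : a - a₀ ∈ I := by
  obtain ⟨k, hk⟩ := f.binomExpansion a₀ (a - a₀)
  have hr : f.eval a = 0 := hroot
  rw [add_sub_cancel, hr] at hk
  set x := a - a₀ with hx
  set π := Ideal.Quotient.mk I with hπ
  have h1 : π x * (π (f.derivative.eval a₀) + π k * π x) = 0 := by
    have : π (f.eval a₀) = 0 := Ideal.Quotient.eq_zero_iff_mem.mpr h₀
    have h2 := congrArg π hk
    simp only [map_zero, map_add, map_mul, map_pow, this, zero_add] at h2
    rw [h2]; ring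
  have hxj : π x ∈ Ideal.jacobson (⊥ : Ideal (A ⧸ I)) := (mk_mem_jacobson_bot_iff I x).mpr hj
  obtain ⟨u, hu'⟩ := hu
  have h3 : IsUnit (π (f.derivative.eval a₀) + π k * π x) := by
    have := (Ideal.mem_jacobson_bot.mp hxj) (↑u⁻¹ * π k)
    have h4 : π (f.derivative.eval a₀) + π k * π x = ↑u * (π x * (↑u⁻¹ * π k) + 1) := by
      rw [← hu']
      have : (↑u : A ⧸ I) * (π x * (↑u⁻¹ * π k) + 1) = ↑u + (↑u * ↑u⁻¹) * (π k * π x) := by ring
      rw [this, Units.mul_inv, one_mul]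
    rw [h4]
    exact u.isUnit.mul this
  have h5 : π x = 0 := by
    rcases h3 with ⟨v, hv⟩
    rw [← hv] at h1
    exact (Units.mul_left_eq_zero v).mp h1
  exact Ideal.Quotient.eq_zero_iff_mem.mp h5

theorem isUnit_mk_iff (I : Ideal A) (x : A) :
    IsUnit (Ideal.Quotient.mk I x) ↔ ∃ y, x * y - 1 ∈ I := by
  constructor
  · rintro ⟨u, hu⟩
    obtain ⟨y, hy⟩ := Ideal.Quotient.mk_surjective (↑u⁻¹ : A ⧸ I)
    refine ⟨y, ?_⟩
    rw [← Ideal.Quotient.eq_zero_iff_mem, map_sub, map_mul, map_one, hy, ← hu, Units.mul_inv,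
      sub_self]
  · rintro ⟨y, hy⟩
    rw [← Ideal.Quotient.eq_zero_iff_mem, map_sub, map_mul, map_one, sub_eq_zero] at hy
    exact IsUnit.of_mul_eq_one _ hy

/-- A ring is Henselian at any nil ideal. -/
theorem henselianRing_of_forall_isNilpotent (I : Ideal A) (hI : ∀ x ∈ I, IsNilpotent x) :
    HenselianRing A I := by
  have hjac : I ≤ Ideal.jacobson ⊥ := fun x hx =>
    Ideal.radical_le_jacobson (I := (⊥ : Ideal A)) (mem_nilradical.mpr (hI x hx))
  refine ⟨hjac, fun f _ a₀ h₁ h₂ => ?_⟩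
  have := isLocalHom_of_le_jacobson_bot I hjac
  have h₂' : IsUnit (f.derivative.eval a₀) := isUnit_of_map_unit (Ideal.Quotient.mk I) _ h₂
  have hn : IsNilpotent (aeval a₀ f) := by
    rw [coe_aeval_eq_eval]; exact hI _ h₁
  have hu : IsUnit (aeval a₀ (derivative f)) := by
    rw [coe_aeval_eq_eval]; exact h₂'
  obtain ⟨r, ⟨hr1, hr2⟩, -⟩ := existsUnique_nilpotent_sub_and_aeval_eq_zero hn hu
  rw [coe_aeval_eq_eval] at hr2
  refine ⟨r, hr2, ?_⟩
  refine sub_mem_of_isRoot_of_mem_jacobson I f r a₀ hr2 h₁ h₂ ?_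
  have h3 : IsNilpotent (r - a₀) := by
    rw [← neg_sub]; exact hr1.neg
  have h4 : r - a₀ ∈ Ideal.radical (⊥ : Ideal A) := mem_nilradical.mpr h3
  exact Ideal.radical_le_jacobson (Ideal.radical_mono bot_le h4)

theorem isUnit_mk_map_iff {I J : Ideal A} (hIJ : I ≤ J) (x : A) :
    IsUnit (Ideal.Quotient.mk (J.map (Ideal.Quotient.mk I)) (Ideal.Quotient.mk I x)) ↔
      IsUnit (Ideal.Quotient.mk J x) := by
  rw [isUnit_mk_iff, isUnit_mk_iff]
  constructor
  · rintro ⟨y, hy⟩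
    obtain ⟨y, rfl⟩ := Ideal.Quotient.mk_surjective y
    refine ⟨y, ?_⟩
    rw [← map_mul, ← map_one (Ideal.Quotient.mk I), ← map_sub] at hy
    exact (Ideal.mem_quotient_iff_mem hIJ).mp hy
  · rintro ⟨y, hy⟩
    refine ⟨Ideal.Quotient.mk I y, ?_⟩
    rw [← map_mul, ← map_one (Ideal.Quotient.mk I), ← map_sub]
    exact (Ideal.mem_quotient_iff_mem hIJ).mpr hy

theorem isUnit_mk_of_isUnit_mk_of_le_jacobson {I J : Ideal A} (hJ : J ≤ I.jacobson) (x : A)
    (h : IsUnit (Ideal.Quotient.mk J x)) : IsUnit (Ideal.Quotient.mk I x) := by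
  rw [isUnit_mk_iff] at h ⊢
  obtain ⟨y, hy⟩ := h
  obtain ⟨s, hs⟩ := Ideal.exists_mul_sub_mem_of_sub_one_mem_jacobson (x * y) (hJ hy)
  refine ⟨y * s, ?_⟩
  have : x * (y * s) - 1 = s * (x * y) - 1 := by ring
  rw [this]; exact hs

theorem henselianRing_of_le {I J : Ideal A} (hIJ : I ≤ J) [hJ : HenselianRing A J] :
    HenselianRing A I := by
  refine ⟨hIJ.trans hJ.jac, fun f hf a₀ h₁ h₂ => ?_⟩
  have h₂' : IsUnit (Ideal.Quotient.mk J (f.derivative.eval a₀)) := by
    rw [isUnit_mk_iff] at h₂ ⊢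
    obtain ⟨y, hy⟩ := h₂
    exact ⟨y, hIJ hy⟩
  obtain ⟨a, ha, haJ⟩ := hJ.is_henselian f hf a₀ (hIJ h₁) h₂'
  refine ⟨a, ha, sub_mem_of_isRoot_of_mem_jacobson I f a a₀ ha h₁ h₂ ?_⟩
  exact Ideal.jacobson_mono bot_le (hJ.jac haJ)

theorem henselianRing_quotient_of_le {I J : Ideal A} (hIJ : I ≤ J) [hJ : HenselianRing A J] :
    HenselianRing (A ⧸ I) (J.map (Ideal.Quotient.mk I)) := by
  constructor
  · intro x hx
    obtain ⟨x, rfl⟩ := Ideal.Quotient.mk_surjective x
    rw [Ideal.mem_quotient_iff_mem hIJ] at hx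
    rw [mk_mem_jacobson_bot_iff]
    exact Ideal.jacobson_mono bot_le (hJ.jac hx)
  · intro f hf a₀ h₁ h₂
    obtain ⟨f, rfl, -, hfm⟩ := lifts_and_natDegree_eq_and_monic
      (mem_lifts_of_surjective Ideal.Quotient.mk_surjective f) hf
    obtain ⟨a₀, rfl⟩ := Ideal.Quotient.mk_surjective a₀
    rw [eval_map_apply, Ideal.mem_quotient_iff_mem hIJ] at h₁
    rw [derivative_map, eval_map_apply, isUnit_mk_map_iff hIJ] at h₂
    obtain ⟨a, ha, haJ⟩ := hJ.is_henselian f hfm a₀ h₁ h₂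
    refine ⟨Ideal.Quotient.mk I a, ?_, ?_⟩
    · rw [IsRoot.def, eval_map_apply, ha, map_zero]
    · rw [← map_sub]; exact Ideal.mem_map_of_mem _ haJ

theorem henselianRing_of_le_of_quotient {I J : Ideal A} (hIJ : I ≤ J) [hI : HenselianRing A I]
    [hQ : HenselianRing (A ⧸ I) (J.map (Ideal.Quotient.mk I))] : HenselianRing A J := by
  have hJI : J ≤ I.jacobson := fun x hx => by
    rw [← mk_mem_jacobson_bot_iff]
    exact hQ.jac (Ideal.mem_map_of_mem _ hx)
  constructor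
  · refine hJI.trans ?_
    calc I.jacobson ≤ (Ideal.jacobson ⊥).jacobson := Ideal.jacobson_mono hI.jac
      _ = Ideal.jacobson ⊥ := Ideal.jacobson_idem
  · intro f hf a₀ h₁ h₂
    obtain ⟨b, hb, hbJ⟩ := hQ.is_henselian (f.map (Ideal.Quotient.mk I)) (hf.map _)
      (Ideal.Quotient.mk I a₀) (by rw [eval_map_apply]; exact Ideal.mem_map_of_mem _ h₁)
      (by rw [derivative_map, eval_map_apply, isUnit_mk_map_iff hIJ]; exact h₂)
    obtain ⟨b, rfl⟩ := Ideal.Quotient.mk_surjective b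
    rw [← map_sub, Ideal.mem_quotient_iff_mem hIJ] at hbJ
    rw [IsRoot.def, eval_map_apply, Ideal.Quotient.eq_zero_iff_mem] at hb
    have h3 : Ideal.Quotient.mk J (f.derivative.eval b) =
        Ideal.Quotient.mk J (f.derivative.eval a₀) := by
      rw [Ideal.Quotient.eq]
      exact Ideal.mem_of_dvd _ (sub_dvd_eval_sub b a₀ f.derivative) hbJ
    have h4 : IsUnit (Ideal.Quotient.mk I (f.derivative.eval b)) :=
      isUnit_mk_of_isUnit_mk_of_le_jacobson hJI _ (h3 ▸ h₂)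
    obtain ⟨a, ha, haI⟩ := hI.is_henselian f hf b hb h4
    refine ⟨a, ha, ?_⟩
    have : a - a₀ = (a - b) + (b - a₀) := by ring
    rw [this]
    exact J.add_mem (hIJ haI) hbJ

theorem henselianRing_radical_iff (I : Ideal A) :
    HenselianRing A I.radical ↔ HenselianRing A I := by
  constructor
  · intro h
    exact henselianRing_of_le Ideal.le_radical
  · intro h
    have : HenselianRing (A ⧸ I) (I.radical.map (Ideal.Quotient.mk I)) := by
      apply henselianRing_of_forall_isNilpotent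
      intro x hx
      obtain ⟨x, rfl⟩ := Ideal.Quotient.mk_surjective x
      rw [Ideal.mem_quotient_iff_mem Ideal.le_radical] at hx
      obtain ⟨n, hn⟩ := hx
      exact ⟨n, by rw [← map_pow]; exact Ideal.Quotient.eq_zero_iff_mem.mpr hn⟩
    exact henselianRing_of_le_of_quotient (I := I) Ideal.le_radical

end Groth.Agent.Lib.Helper28
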