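import Groth.Agent.Lib.Helper28.Hensel
import Mathlib.Algebra.Polynomial.Eval.Coeff
import Mathlib.Algebra.Polynomial.Monic
import Mathlib.Algebra.Group.Pi.Units

/-! Henselian pairs and products (helper28). -/

set_option autoImplicit false
universe u v

namespace Groth.Agent.Lib.Helper28

open Polynomial

section Pi

variable {ι : Type v} (A : ι → Type u) [∀ k, CommRing (A k)]

theorem mem_pi_ideal_iff (I : ∀ k, Ideal (A k)) (x : ∀ k, A k) :
    x ∈ (⨅ k, Ideal.comap (Pi.evalRingHom A k) (I k)) ↔ ∀ k, x k ∈ I k := by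
  simp [Ideal.mem_comap]

theorem exists_pi_polynomial (F : ∀ k, (A k)[X]) (n : ℕ) (hn : ∀ k, (F k).natDegree ≤ n) :
    ∃ g : (∀ k, A k)[X], (∀ k, g.map (Pi.evalRingHom A k) = F k) ∧
      ∀ i, g.coeff i = fun k => (F k).coeff i := by
  classical
  let g : (∀ k, A k)[X] := ∑ i ∈ Finset.range (n + 1), monomial i (fun k => (F k).coeff i)
  have hg : ∀ i, g.coeff i = fun k => (F k).coeff i := by
    intro i
    simp only [g, finsetSum_coeff, coeff_monomial, Finset.sum_ite_eq', Finset.mem_range]
    split_ifs with h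
    · rfl
    · funext k
      have : n < i := by omega
      exact (coeff_eq_zero_of_natDegree_lt (lt_of_le_of_lt (hn k) this)).symm
  refine ⟨g, fun k => ?_, hg⟩
  ext i
  rw [coeff_map, hg]
  rfl

theorem eval_pi_apply (g : (∀ k, A k)[X]) (a : ∀ k, A k) (k : ι) :
    (g.eval a) k = (g.map (Pi.evalRingHom A k)).eval (a k) := by
  have := eval_map_apply (p := g) (Pi.evalRingHom A k) a
  simpa using this.symm

theorem henselianRing_pi (I : ∀ k, Ideal (A k)) (h : ∀ k, HenselianRing (A k) (I k)) :
    HenselianRing (∀ k, A k) (⨅ k, Ideal.comap (Pi.evalRingHom A k) (I k)) := by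
  constructor
  · intro x hx
    rw [mem_pi_ideal_iff] at hx
    rw [Ideal.mem_jacobson_bot]
    intro y
    rw [Pi.isUnit_iff]
    intro k
    exact Ideal.mem_jacobson_bot.mp ((h k).jac (hx k)) (y k)
  · intro f hf a₀ h₁ h₂
    rw [mem_pi_ideal_iff] at h₁
    rw [isUnit_mk_iff] at h₂
    obtain ⟨y, hy⟩ := h₂
    rw [mem_pi_ideal_iff] at hy
    have key : ∀ k, ∃ a : A k, (f.map (Pi.evalRingHom A k)).IsRoot a ∧ a - a₀ k ∈ I k := by
      intro k
      refine (h k).is_henselian (f.map (Pi.evalRingHom A k)) (hf.map _) (a₀ k) ?_ ?_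
      · rw [← eval_pi_apply]; exact h₁ k
      · rw [isUnit_mk_iff]
        refine ⟨y k, ?_⟩
        rw [derivative_map, ← eval_pi_apply]
        exact hy k
    choose a ha ha' using key
    refine ⟨a, ?_, ?_⟩
    · rw [IsRoot.def]
      funext k
      rw [eval_pi_apply]
      exact ha k
    · rw [mem_pi_ideal_iff]
      intro k
      exact ha' k

theorem henselianRing_of_pi (I : ∀ k, Ideal (A k))
    (H : HenselianRing (∀ k, A k) (⨅ k, Ideal.comap (Pi.evalRingHom A k) (I k))) (j : ι) :
    HenselianRing (A j) (I j) := by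
  classical
  have hjac : I j ≤ Ideal.jacobson ⊥ := by
    intro x hx
    rw [Ideal.mem_jacobson_bot]
    intro y
    have h1 : Pi.single j x ∈ (⨅ k, Ideal.comap (Pi.evalRingHom A k) (I k)) := by
      rw [mem_pi_ideal_iff]
      intro k
      by_cases hk : k = j
      · subst hk; simpa using hx
      · rw [Pi.single_eq_of_ne hk]; exact (I k).zero_mem
    have h2 := Ideal.mem_jacobson_bot.mp (H.jac h1) (Pi.single j y)
    rw [Pi.isUnit_iff] at h2
    simpa using h2 j
  refine ⟨hjac, fun f hf a₀ h₁ h₂ => ?_⟩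
  rcases Nat.eq_zero_or_pos f.natDegree with h0 | hpos
  · -- degenerate case: `f = 1`, so the ring is trivial
    have hf1 : f = 1 := hf.natDegree_eq_zero.mp h0
    rw [hf1, eval_one] at h₁
    have h3 := Ideal.mem_jacobson_bot.mp (hjac h₁) (-1)
    have h4 : (1 : A j) * -1 + 1 = 0 := by ring
    rw [h4, isUnit_zero_iff] at h3
    have : Subsingleton (A j) := subsingleton_of_zero_eq_one h3
    exact ⟨a₀, Subsingleton.elim _ _, by simp⟩
  · obtain ⟨m, hm⟩ : ∃ m, f.natDegree = m + 1 := ⟨f.natDegree - 1, by omega⟩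
    let F : ∀ k, (A k)[X] := Function.update (fun k => (X ^ (m + 1) - X ^ m : (A k)[X])) j f
    have hFj : F j = f := Function.update_self ..
    have hFk : ∀ k, k ≠ j → F k = X ^ (m + 1) - X ^ m := fun k hk =>
      Function.update_of_ne hk ..
    have hdeg : ∀ k, (F k).natDegree ≤ m + 1 := by
      intro k
      by_cases hk : k = j
      · subst hk; rw [hFj, hm]
      · rw [hFk k hk]
        refine (natDegree_sub_le _ _).trans ?_
        rw [max_le_iff]
        exact ⟨natDegree_X_pow_le _, (natDegree_X_pow_le _).trans (Nat.le_succ m)⟩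
    have hlead : ∀ k, (F k).coeff (m + 1) = 1 := by
      intro k
      by_cases hk : k = j
      · subst hk; rw [hFj, ← hm]; exact hf
      · rw [hFk k hk]; simp [coeff_X_pow]
    obtain ⟨g, hgmap, hgcoeff⟩ := exists_pi_polynomial A F (m + 1) hdeg
    have hgmonic : g.Monic := by
      apply monic_of_natDegree_le_of_coeff_eq_one (m + 1)
      · rw [natDegree_le_iff_coeff_eq_zero]
        intro N hN
        rw [hgcoeff]
        funext k
        exact coeff_eq_zero_of_natDegree_lt (lt_of_le_of_lt (hdeg k) hN)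
      · rw [hgcoeff]; funext k; exact hlead k
    let b₀ : ∀ k, A k := Function.update (fun _ => 1) j a₀
    have hb₀j : b₀ j = a₀ := Function.update_self ..
    have hb₀k : ∀ k, k ≠ j → b₀ k = 1 := fun k hk => Function.update_of_ne hk ..
    rw [isUnit_mk_iff] at h₂
    obtain ⟨y, hy⟩ := h₂
    let z : ∀ k, A k := Function.update (fun _ => 1) j y
    have hzj : z j = y := Function.update_self ..
    have hzk : ∀ k, k ≠ j → z k = 1 := fun k hk => Function.update_of_ne hk ..
    obtain ⟨b, hb, hb'⟩ := H.is_henselian g hgmonic b₀ (by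
      rw [mem_pi_ideal_iff]
      intro k
      rw [eval_pi_apply, hgmap]
      by_cases hk : k = j
      · subst hk; rw [hFj, hb₀j]; exact h₁
      · rw [hFk k hk, hb₀k k hk]; simp) (by
      rw [isUnit_mk_iff]
      refine ⟨z, ?_⟩
      rw [mem_pi_ideal_iff]
      intro k
      have : (eval b₀ (derivative g) * z - 1) k = (eval b₀ (derivative g)) k * z k - 1 := rfl
      rw [this, eval_pi_apply, ← derivative_map, hgmap]
      by_cases hk : k = j
      · subst hk; rw [hFj, hb₀j, hzj]; exact hy
      · rw [hFk k hk, hb₀k k hk, hzk k hk]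
        simp [derivative_X_pow])
    refine ⟨b j, ?_, ?_⟩
    · have := congrFun hb j
      rw [eval_pi_apply, hgmap, hFj] at this
      exact this
    · rw [mem_pi_ideal_iff] at hb'
      have := hb' j
      rw [Pi.sub_apply, hb₀j] at this
      exact this

end Pi

end Groth.Agent.Lib.Helper28
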