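import Mathlib

/-!
# Subrings of an `ℕ`-graded ring generated by homogeneous elements

* `decompose_mem_closure`: the subring generated by homogeneous elements is closed under taking homogeneous components;
* `gradedRing`: a subring closed under taking homogeneous components is graded by the induced pieces;
* `mem_range_of_deg_zero`, `mem_of_deg`: for the subring generated by the image of a ring homomorphism into degree
  `0` and an additive subgroup of degree `N > 0` stable under it, the parts of degree `0` and `N`.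
-/

set_option autoImplicit false
open DirectSum

namespace Groth.Agent.Lib.Helper28.HomSubring

variable {A : Type*} [CommRing A] (𝒜 : ℕ → AddSubgroup A) [GradedRing 𝒜]

theorem coe_decompose_neg (x : A) (i : ℕ) : (decompose 𝒜 (-x) i : A) = -(decompose 𝒜 x i : A) := by
  rw [← GradedRing.proj_apply, ← GradedRing.proj_apply, map_neg]

/-- the subring generated by homogeneous elements is closed under taking homogeneous components -/
theorem decompose_mem_closure {G : Set A} (hG : ∀ x ∈ G, ∃ i, x ∈ 𝒜 i) {x : A} (hx : x ∈ Subring.closure G)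
    (i : ℕ) : (decompose 𝒜 x i : A) ∈ Subring.closure G := by
  classical
  induction hx using Subring.closure_induction generalizing i with
  | mem x hx =>
    obtain ⟨j, hj⟩ := hG x hx
    by_cases h : j = i
    · subst h
      rw [decompose_of_mem_same _ hj]
      exact Subring.subset_closure hx
    · rw [decompose_of_mem_ne _ hj h]
      exact Subring.zero_mem _
  | zero =>
    rw [decompose_zero]
    exact Subring.zero_mem _
  | one =>
    have h1 : (1 : A) ∈ 𝒜 0 := SetLike.GradedOne.one_mem
    by_cases h : 0 = i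
    · subst h
      rw [decompose_of_mem_same _ h1]
      exact Subring.one_mem _
    · rw [decompose_of_mem_ne _ h1 h]
      exact Subring.zero_mem _
  | add x y _ _ h₁ h₂ =>
    rw [decompose_add, DirectSum.add_apply, AddSubgroup.coe_add]
    exact Subring.add_mem _ (h₁ i) (h₂ i)
  | neg x _ h₁ =>
    rw [coe_decompose_neg]
    exact Subring.neg_mem _ (h₁ i)
  | mul x y _ _ h₁ h₂ =>
    rw [decompose_mul, DirectSum.coe_mul_apply]
    refine Subring.sum_mem _ fun ij _ => ?_
    exact Subring.mul_mem _ (h₁ ij.1) (h₂ ij.2)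

section graded

variable (R : Subring A) (hR : ∀ x ∈ R, ∀ i, (decompose 𝒜 x i : A) ∈ R)

/-- the induced pieces of a subring -/
def degR (i : ℕ) : AddSubgroup R := (𝒜 i).comap R.subtype.toAddMonoidHom

theorem mem_degR_iff (i : ℕ) (x : R) : x ∈ degR 𝒜 R i ↔ (x : A) ∈ 𝒜 i := Iff.rfl

instance gradedMonoid : SetLike.GradedMonoid (degR 𝒜 R) where
  one_mem := (SetLike.GradedOne.one_mem : (1 : A) ∈ 𝒜 0)
  mul_mem := fun _ _ _ _ ha hb => (SetLike.GradedMul.mul_mem ha hb : _ ∈ 𝒜 _)

/-- the projections of a homogeneous subring onto its pieces -/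
def projR (i : ℕ) : R →+ R where
  toFun x := ⟨(decompose 𝒜 (x : A) i : A), hR x.1 x.2 i⟩
  map_zero' := by
    apply Subtype.ext
    show (decompose 𝒜 ((0 : R) : A) i : A) = 0
    rw [Subring.coe_zero, decompose_zero]
    rfl
  map_add' x y := by
    apply Subtype.ext
    show (decompose 𝒜 ((x + y : R) : A) i : A) = (decompose 𝒜 (x : A) i : A) + (decompose 𝒜 (y : A) i : A)
    rw [Subring.coe_add, decompose_add, DirectSum.add_apply, AddSubgroup.coe_add]

theorem projR_coe (i : ℕ) (x : R) : ((projR 𝒜 R hR i x : R) : A) = (decompose 𝒜 (x : A) i : A) := rfl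

theorem pi_coe (i : ℕ) (y : DirectSum ℕ fun i => degR 𝒜 R i) :
    projR 𝒜 R hR i (DirectSum.coeAddMonoidHom (degR 𝒜 R) y) = (y i : R) := by
  classical
  induction y using DirectSum.induction_on with
  | zero => simp
  | of j z =>
    rw [DirectSum.coeAddMonoidHom_of]
    apply Subtype.ext
    rw [projR_coe]
    by_cases h : j = i
    · subst h
      rw [DirectSum.of_eq_same, decompose_of_mem_same 𝒜 (show ((z : R) : A) ∈ 𝒜 j from z.2)]
    · rw [DirectSum.of_eq_of_ne _ _ _ (Ne.symm h), decompose_of_mem_ne 𝒜 (show ((z : R) : A) ∈ 𝒜 j from z.2) h]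
      rfl
  | add x y hx hy =>
    rw [map_add, map_add, hx, hy, DirectSum.add_apply, AddSubgroup.coe_add]

include hR in
theorem isInternal : DirectSum.IsInternal (degR 𝒜 R) := by
  classical
  constructor
  · rw [injective_iff_map_eq_zero]
    intro y hy
    ext i
    rw [← pi_coe 𝒜 R hR i y, hy, map_zero]
    simp
  · intro x
    refine ⟨∑ n ∈ (decompose 𝒜 (x : A)).support,
      DirectSum.of (fun i => degR 𝒜 R i) n ⟨projR 𝒜 R hR n x, SetLike.coe_mem (decompose 𝒜 (x : A) n)⟩, ?_⟩
    rw [map_sum]
    apply Subtype.ext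
    rw [AddSubmonoidClass.coe_finsetSum]
    conv_rhs => rw [← DirectSum.sum_support_decompose 𝒜 (x : A)]
    refine Finset.sum_congr rfl fun n _ => ?_
    rw [DirectSum.coeAddMonoidHom_of]
    rfl

/-- a subring closed under taking homogeneous components is graded by the induced pieces -/
@[reducible] noncomputable def gradedRing : GradedRing (degR 𝒜 R) :=
  { gradedMonoid 𝒜 R with toDecomposition := (isInternal 𝒜 R hR).chooseDecomposition }

end graded

section parts

variable {R₀ : Type*} [CommRing R₀] (str : R₀ →+* A) (hstr : ∀ r, str r ∈ 𝒜 0) {N : ℕ} (hN : 0 < N)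
  (EN : AddSubgroup A) (hEN : ∀ e ∈ EN, e ∈ 𝒜 N) (hsmul : ∀ r, ∀ e ∈ EN, str r * e ∈ EN)

/-- the predicate cutting out the elements with controlled components in degrees `≤ N` -/
def Ctrl (x : A) : Prop :=
  (decompose 𝒜 x 0 : A) ∈ Set.range str ∧ (∀ i, 0 < i → i < N → (decompose 𝒜 x i : A) = 0) ∧
    (decompose 𝒜 x N : A) ∈ EN

include hstr hN hEN hsmul in
theorem ctrl_of_mem_closure {x : A} (hx : x ∈ Subring.closure (Set.range str ∪ (EN : Set A))) :
    Ctrl 𝒜 str (N := N) EN x := by
  classical
  induction hx using Subring.closure_induction with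
  | mem x hx =>
    rcases hx with ⟨r, rfl⟩ | hx
    · refine ⟨?_, fun i hi _ => ?_, ?_⟩
      · rw [decompose_of_mem_same _ (hstr r)]
        exact ⟨r, rfl⟩
      · rw [decompose_of_mem_ne _ (hstr r) hi.ne]
      · rw [decompose_of_mem_ne _ (hstr r) hN.ne]
        exact EN.zero_mem
    · have hxN := hEN x hx
      refine ⟨?_, fun i _ hi => ?_, ?_⟩
      · rw [decompose_of_mem_ne _ hxN hN.ne']
        exact ⟨0, map_zero _⟩
      · rw [decompose_of_mem_ne _ hxN hi.ne']
      · rw [decompose_of_mem_same _ hxN]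
        exact hx
  | zero =>
    refine ⟨?_, fun i _ _ => ?_, ?_⟩
    · rw [decompose_zero]
      exact ⟨0, map_zero _⟩
    · rw [decompose_zero]
      rfl
    · rw [decompose_zero]
      exact EN.zero_mem
  | one =>
    have h1 : (1 : A) ∈ 𝒜 0 := SetLike.GradedOne.one_mem
    refine ⟨?_, fun i hi _ => ?_, ?_⟩
    · rw [decompose_of_mem_same _ h1]
      exact ⟨1, map_one _⟩
    · rw [decompose_of_mem_ne _ h1 hi.ne]
    · rw [decompose_of_mem_ne _ h1 hN.ne]
      exact EN.zero_mem
  | add x y _ _ h₁ h₂ =>
    obtain ⟨⟨a, ha⟩, hx2, hx3⟩ := h₁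
    obtain ⟨⟨b, hb⟩, hy2, hy3⟩ := h₂
    refine ⟨?_, fun i hi hi' => ?_, ?_⟩
    · rw [decompose_add, DirectSum.add_apply, AddSubgroup.coe_add, ← ha, ← hb]
      exact ⟨a + b, map_add _ _ _⟩
    · rw [decompose_add, DirectSum.add_apply, AddSubgroup.coe_add, hx2 i hi hi', hy2 i hi hi', add_zero]
    · rw [decompose_add, DirectSum.add_apply, AddSubgroup.coe_add]
      exact EN.add_mem hx3 hy3
  | neg x _ h₁ =>
    obtain ⟨⟨a, ha⟩, hx2, hx3⟩ := h₁
    refine ⟨?_, fun i hi hi' => ?_, ?_⟩
    · rw [coe_decompose_neg, ← ha]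
      exact ⟨-a, map_neg _ _⟩
    · rw [coe_decompose_neg, hx2 i hi hi', neg_zero]
    · rw [coe_decompose_neg]
      exact EN.neg_mem hx3
  | mul x y _ _ h₁ h₂ =>
    obtain ⟨⟨a, ha⟩, hx2, hx3⟩ := h₁
    obtain ⟨⟨b, hb⟩, hy2, hy3⟩ := h₂
    refine ⟨?_, fun k hk hk' => ?_, ?_⟩
    · rw [decompose_mul, DirectSum.coe_mul_apply]
      refine (RingHom.range str).sum_mem fun ij hij => ?_
      have hsum : ij.1 + ij.2 = 0 := (Finset.mem_filter.1 hij).2
      have h1 : ij.1 = 0 := by omega
      have h2 : ij.2 = 0 := by omega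
      rw [h1, h2, ← ha, ← hb]
      exact ⟨a * b, map_mul _ _ _⟩
    · rw [decompose_mul, DirectSum.coe_mul_apply]
      refine Finset.sum_eq_zero fun ij hij => ?_
      have hsum : ij.1 + ij.2 = k := (Finset.mem_filter.1 hij).2
      by_cases h1 : ij.1 = 0
      · have h2 : ij.2 = k := by omega
        rw [h2, hy2 k hk hk', mul_zero]
      · rw [hx2 ij.1 (Nat.pos_of_ne_zero h1) (by omega), zero_mul]
    · rw [decompose_mul, DirectSum.coe_mul_apply]
      refine EN.sum_mem fun ij hij => ?_
      have hsum : ij.1 + ij.2 = N := (Finset.mem_filter.1 hij).2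
      by_cases h1 : ij.1 = 0
      · have h2 : ij.2 = N := by omega
        rw [h1, h2, ← ha]
        exact hsmul a _ hy3
      · by_cases h3 : ij.1 = N
        · have h2 : ij.2 = 0 := by omega
          rw [h3, h2, ← hb, mul_comm]
          exact hsmul b _ hx3
        · rw [hx2 ij.1 (Nat.pos_of_ne_zero h1) (by omega), zero_mul]
          exact EN.zero_mem

include hstr hN hEN hsmul in
/-- the degree-zero part of the generated subring is the image of the ring of scalars -/
theorem mem_range_of_deg_zero {x : A} (hx : x ∈ Subring.closure (Set.range str ∪ (EN : Set A))) (h0 : x ∈ 𝒜 0) :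
    x ∈ Set.range str := by
  have h := (ctrl_of_mem_closure 𝒜 str hstr hN EN hEN hsmul hx).1
  rwa [decompose_of_mem_same _ h0] at h

include hstr hN hEN hsmul in
/-- the degree-`N` part of the generated subring is the generating subgroup -/
theorem mem_of_deg {x : A} (hx : x ∈ Subring.closure (Set.range str ∪ (EN : Set A))) (h0 : x ∈ 𝒜 N) :
    x ∈ EN := by
  have h := (ctrl_of_mem_closure 𝒜 str hstr hN EN hEN hsmul hx).2.2
  rwa [decompose_of_mem_same _ h0] at h

end parts

end Groth.Agent.Lib.Helper28.HomSubring
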