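import Groth.Agent.Lib.Helper28.ImgAlg1
import Groth.Agent.Lib.Helper28.SymAlgCrit
import Groth.Agent.Lib.Helper28.QCohGlobal
import Groth.Agent.Lib.Helper17.QCAlgGen

/-!
# The image of a `q`-morphism of quasi-coherent algebras (part 2: sections over affine opens)
-/

set_option autoImplicit false
universe u
open CategoryTheory CategoryTheory.Limits AlgebraicGeometry Opposite TopologicalSpace
noncomputable section

namespace Groth.Agent.Lib.Helper28.ImgAlg

open Groth.Agent.Lib.Helper28 Groth.Agent.Lib.Helper28.QCohLoc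

section affine

variable {Y X : Scheme.{u}} {q : X ⟶ Y} {A : RelSpec.QCAlg Y} {B : RelSpec.QCAlg X} (v : RelSpec.QHom q A B)

theorem v_str (W : Y.Opens) (r : Γ(Y, W)) :
    (v.app W).hom ((A.str.app (op W)).hom r) = (B.str.app (op (q ⁻¹ᵁ W))).hom ((q.app W).hom r) :=
  congrArg (fun k => k.hom r) (v.str_app W)

/-- a section of `B` over a quasi-compact open which vanishes where `s` is invertible is killed by a power of `s` -/
theorem exists_pow_mul_eq_zero {V : X.Opens} (hV : IsCompact (V : Set X)) (s : Γ(X, V))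
    (W : X.Opens) (hW : W = X.basicOpen s) (hWV : W ≤ V)
    (x : B.presheaf.obj (op V)) (hx : rQ B hWV x = 0) :
    ∃ n : ℕ, ((B.str.app (op V)).hom s) ^ n * x = 0 := by
  subst hW
  obtain ⟨n, hn⟩ := exists_pow_smul_eq_zero_of_isCompact B.toModule hV s (show Γ(B.toModule, V) from x) hx
  refine ⟨n, ?_⟩
  rw [← map_pow]
  exact hn

/-- **over an affine open, the sections locally in the image are in the image** -/
theorem exists_app_eq_of_locIm [QuasiCompact q] {U : Y.Opens} (hU : IsAffineOpen U)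
    (b : B.presheaf.obj (op (q ⁻¹ᵁ U))) (hb : LocIm v U b) :
    ∃ a : A.presheaf.obj (op U), (v.app U).hom a = b := by
  have hc : IsCompact ((q ⁻¹ᵁ U : X.Opens) : Set X) := q.isCompact_preimage hU.isCompact
  -- the ideal of the functions `t` with `t b` in the image
  let T : Ideal Γ(Y, U) :=
    { carrier := {t | ∃ a : A.presheaf.obj (op U), (v.app U).hom a = (v.app U).hom ((A.str.app (op U)).hom t) * b}
      add_mem' := by
        rintro t t' ⟨a, ha⟩ ⟨a', ha'⟩
        exact ⟨a + a', by rw [map_add, map_add, map_add, add_mul, ha, ha']⟩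
      zero_mem' := ⟨0, by rw [map_zero, map_zero, map_zero, zero_mul]⟩
      smul_mem' := by
        rintro c t ⟨a, ha⟩
        refine ⟨(A.str.app (op U)).hom c * a, ?_⟩
        rw [smul_eq_mul, map_mul, map_mul, map_mul, ha, mul_assoc] }
  suffices hT : T = ⊤ by
    have h1 : (1 : Γ(Y, U)) ∈ T := by rw [hT]; trivial
    obtain ⟨a, ha⟩ := h1
    exact ⟨a, by rw [ha, map_one, map_one, one_mul]⟩
  have hspan : Ideal.span (T : Set Γ(Y, U)) = T := Ideal.span_eq T
  rw [← hspan, ← hU.iSup_basicOpen_eq_self_iff]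
  refine le_antisymm (iSup_le fun t => Y.basicOpen_le t.1) ?_
  intro y hy
  obtain ⟨W', hW', hyW', a₀, ha₀⟩ := hb y hy
  obtain ⟨r, hrW', hyr⟩ := hU.exists_basicOpen_le (V := W') ⟨y, hyW'⟩ hy
  have hrU : Y.basicOpen r ≤ U := Y.basicOpen_le r
  -- the section `a₁` over `D(r)` with `v(a₁) = b|`
  have ha₁ : (v.app (Y.basicOpen r)).hom (rQ A hrW' a₀) = rQ B (q.preimage_mono hrU) b := by
    rw [v_res, ha₀, rQ_rQ]
  obtain ⟨n, a₂, ha₂⟩ := (SymAlg.isLocOn_toModule A hU).surj r (show Γ(A.toModule, Y.basicOpen r) from rQ A hrW' a₀)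
  have ha₂' : (A.str.app (op (Y.basicOpen r))).hom ((resO hrU r) ^ n) * rQ A hrW' a₀ =
      rQ A hrU (show A.presheaf.obj (op U) from a₂) := ha₂
  -- the defect
  have hstr : rQ B (q.preimage_mono hrU) ((B.str.app (op (q ⁻¹ᵁ U))).hom ((q.app U).hom r)) =
      (v.app (Y.basicOpen r)).hom ((A.str.app (op (Y.basicOpen r))).hom (resO hrU r)) := by
    rw [v_str, ← SymAlg.str_res B (q.preimage_mono hrU)]
    congr 1
    exact (app_resO q hrU r).symm
  have hx : rQ B (q.preimage_mono hrU) ((v.app U).hom (show A.presheaf.obj (op U) from a₂) -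
      ((B.str.app (op (q ⁻¹ᵁ U))).hom ((q.app U).hom r)) ^ n * b) = 0 := by
    have e1 : rQ B (q.preimage_mono hrU) ((v.app U).hom (show A.presheaf.obj (op U) from a₂)) =
        (v.app (Y.basicOpen r)).hom (rQ A hrU (show A.presheaf.obj (op U) from a₂)) := (v_res v hrU _).symm
    have e2 : (v.app (Y.basicOpen r)).hom ((A.str.app (op (Y.basicOpen r))).hom ((resO hrU r) ^ n)) =
        ((v.app (Y.basicOpen r)).hom ((A.str.app (op (Y.basicOpen r))).hom (resO hrU r))) ^ n := by
      rw [map_pow, map_pow]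
    rw [map_sub, map_mul, map_pow, e1, ← ha₂', map_mul, ha₁, hstr, e2, sub_self]
  obtain ⟨m, hm⟩ := exists_pow_mul_eq_zero hc ((q.app U).hom r) (q ⁻¹ᵁ (Y.basicOpen r))
    (Scheme.preimage_basicOpen q r) (q.preimage_mono hrU) _ hx
  have hT : r ^ (m + n + 1) ∈ T := by
    refine ⟨(A.str.app (op U)).hom (r ^ (m + 1)) * (show A.presheaf.obj (op U) from a₂), ?_⟩
    rw [map_mul, v_str, v_str, map_pow, map_pow, map_pow, map_pow]
    rw [mul_sub] at hm
    have hm' := sub_eq_zero.1 hm
    rw [pow_succ, mul_assoc, mul_comm _ ((v.app U).hom _), ← mul_assoc, hm', ← mul_assoc, ← pow_add,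
      show m + n + 1 = (m + n) + 1 from rfl, pow_succ]
    ring
  refine Opens.mem_iSup.2 ⟨⟨r ^ (m + n + 1), hT⟩, ?_⟩
  show y ∈ Y.basicOpen (r ^ (m + n + 1))
  rw [Scheme.basicOpen_pow _ _ (Nat.succ_pos _)]
  exact hyr

end affine

section qc

variable {Y X : Scheme.{u}} {q : X ⟶ Y} {A : RelSpec.QCAlg Y} {B : RelSpec.QCAlg X} (v : RelSpec.QHom q A B)

/-- `Im(v)` as a sheaf of rings -/
def imgSheaf : Sheaf (Opens.grothendieckTopology Y) CommRingCat.{u} := ⟨imgPre v, isSheaf_imgPre v⟩

/-- the structure map of `Im(v)`, as a morphism of sheaves -/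
def imgStrSheaf : Y.sheaf ⟶ imgSheaf v := ⟨imgStr v⟩

theorem isLocOn_modOf [QuasiCompact q] {U : Y.Opens} (hU : IsAffineOpen U) :
    IsLocOn (QCAlgOfQCoh.modOf (imgSheaf v) (imgStrSheaf v)) U := by
  have hc : IsCompact ((q ⁻¹ᵁ U : X.Opens) : Set X) := q.isCompact_preimage hU.isCompact
  refine ⟨fun r y => ?_, fun r x hx => ?_⟩
  · have hrU : Y.basicOpen r ≤ U := Y.basicOpen_le r
    let y' : imgSub v (Y.basicOpen r) := y
    obtain ⟨a, ha⟩ := exists_app_eq_of_locIm v (hU.basicOpen r) y'.1 y'.2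
    obtain ⟨n, a', ha'⟩ := (SymAlg.isLocOn_toModule A hU).surj r (show Γ(A.toModule, Y.basicOpen r) from a)
    have ha'' : (A.str.app (op (Y.basicOpen r))).hom ((resO hrU r) ^ n) * a =
        rQ A hrU (show A.presheaf.obj (op U) from a') := ha'
    refine ⟨n, (show Γ(QCAlgOfQCoh.modOf (imgSheaf v) (imgStrSheaf v), U) from
      corI v U (show A.presheaf.obj (op U) from a')), ?_⟩
    show (corI v (Y.basicOpen r) ((A.str.app (op (Y.basicOpen r))).hom ((resO hrU r) ^ n)) * y' :
        imgSub v (Y.basicOpen r)) = resI v hrU (corI v U (show A.presheaf.obj (op U) from a'))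
    refine Subtype.ext ?_
    show (v.app (Y.basicOpen r)).hom ((A.str.app (op (Y.basicOpen r))).hom ((resO hrU r) ^ n)) * y'.1 =
      rQ B (q.preimage_mono hrU) ((v.app U).hom (show A.presheaf.obj (op U) from a'))
    rw [← v_res v hrU, ← ha'', map_mul, ha]
  · have hrU : Y.basicOpen r ≤ U := Y.basicOpen_le r
    let x' : imgSub v U := x
    have hx' : resI v hrU x' = 0 := hx
    have hx'' : rQ B (q.preimage_mono hrU) x'.1 = 0 := congrArg Subtype.val hx'
    obtain ⟨n, hn⟩ := exists_pow_mul_eq_zero hc ((q.app U).hom r) (q ⁻¹ᵁ (Y.basicOpen r))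
      (Scheme.preimage_basicOpen q r) (q.preimage_mono hrU) _ hx''
    refine ⟨n, ?_⟩
    show (corI v U ((A.str.app (op U)).hom (r ^ n)) * x' : imgSub v U) = 0
    refine Subtype.ext ?_
    show (v.app U).hom ((A.str.app (op U)).hom (r ^ n)) * x'.1 = 0
    rw [v_str, map_pow, map_pow]
    exact hn

theorem isQC_imgPre [QuasiCompact q] : RelSpec.IsQC (imgPre v) (imgStr v) :=
  QCAlgOfQCoh.isQC (imgSheaf v) (imgStrSheaf v)
    (isQuasicoherent_of_forall_isLocOn _ (fun U => isLocOn_modOf v U.2))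

/-- **the image of `v`, a quasi-coherent algebra on the base** -/
def imgAlg [QuasiCompact q] : RelSpec.QCAlg Y where
  presheaf := imgPre v
  isSheaf := isSheaf_imgPre v
  str := imgStr v
  isQC := isQC_imgPre v

/-- the projection onto the image -/
def imgπ [QuasiCompact q] : A ⟶ imgAlg v where
  hom :=
    { app := fun W => CommRingCat.ofHom (corI v W.unop)
      naturality := fun W₁ W₂ i => by
        apply CommRingCat.hom_ext
        refine RingHom.ext fun a => ?_
        exact corI_res v (leOfHom i.unop) a }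
  comm := by
    ext W
    rfl

/-- the inclusion of the image -/
def imgι [QuasiCompact q] : RelSpec.QHom q (imgAlg v) B where
  app W := CommRingCat.ofHom (imgSub v W).subtype
  naturality i := rfl
  str_app W := by
    apply CommRingCat.hom_ext
    refine RingHom.ext fun r => ?_
    exact v_str v W r

theorem imgι_val [QuasiCompact q] (W : Y.Opens) (b : (imgAlg v).presheaf.obj (op W)) :
    ((imgι v).app W).hom b = (show imgSub v W from b).1 := rfl

theorem imgι_injective [QuasiCompact q] (W : Y.Opens) : Function.Injective ((imgι v).app W).hom :=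
  fun _ _ h => Subtype.ext h

theorem imgπ_imgι [QuasiCompact q] (W : Y.Opens) : (imgπ v).hom.app (op W) ≫ (imgι v).app W = v.app W := rfl

theorem imgπ_surjective [QuasiCompact q] {U : Y.Opens} (hU : IsAffineOpen U) :
    Function.Surjective ((imgπ v).hom.app (op U)).hom := by
  intro b
  let b' : imgSub v U := b
  obtain ⟨a, ha⟩ := exists_app_eq_of_locIm v hU b'.1 b'.2
  exact ⟨a, Subtype.ext ha⟩

end qc

end Groth.Agent.Lib.Helper28.ImgAlg
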