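import Groth.Agent.Lib.Helper28.ImgAlg2
import Groth.Agent.Lib.Helper28.GrSurj

/-!
# The image of a graded `q`-morphism of quasi-coherent graded algebras (part 3: the grading)
-/

set_option autoImplicit false
universe u
open CategoryTheory CategoryTheory.Limits AlgebraicGeometry Opposite TopologicalSpace
noncomputable section

namespace Groth.Agent.Lib.Helper28.ImgAlg

open Groth.Agent.Lib.Helper28 Groth.Agent.Lib.Helper28.QCohLoc

section graded

variable {Y X : Scheme.{u}} {q : X ⟶ Y} [QuasiCompact q] {𝒯 : RelProj.QCGrAlg Y} {𝒮L : RelProj.QCGrAlg X}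
  (u : RelProj.QGrHom q 𝒯 𝒮L)

omit [QuasiCompact q] in
/-- the kernel of `u` over an affine open is homogeneous -/
theorem ker_homogeneous {U : Y.Opens} (hU : IsAffineOpen U) (a : 𝒯.presheaf.obj (op U))
    (ha : corI u.toQHom U a = 0) (d : ℕ) :
    corI u.toQHom U (DirectSum.decompose (𝒯.deg U hU) a d : 𝒯.presheaf.obj (op U)) = 0 := by
  have ha' : (u.app U).hom a = 0 := congrArg Subtype.val ha
  refine Subtype.ext ?_
  show (u.app U).hom (DirectSum.decompose (𝒯.deg U hU) a d : 𝒯.presheaf.obj (op U)) = 0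
  refine TopCat.Sheaf.eq_of_locally_eq' (⟨𝒮L.presheaf, 𝒮L.isSheaf⟩ : TopCat.Sheaf CommRingCat X)
    (fun V : {V : X.Opens // IsAffineOpen V ∧ V ≤ q ⁻¹ᵁ U} => V.1) (q ⁻¹ᵁ U)
    (fun V => homOfLE V.2.2) ?_ _ _ (fun V => ?_)
  · intro x hx
    obtain ⟨_, ⟨V, hV, rfl⟩, hxV, hVU⟩ := X.isBasis_affineOpens.exists_subset_of_mem_open hx (q ⁻¹ᵁ U).isOpen
    exact Opens.mem_iSup.2 ⟨⟨V, hV, hVU⟩, hxV⟩
  · have h1 := (u.gradedAt U hU V.1 V.2.1 V.2.2).map_directSumDecompose (x := a) (i := d)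
    have h2 : (u.gradedAt U hU V.1 V.2.1 V.2.2) a = 0 := by
      show (𝒮L.presheaf.map (homOfLE V.2.2).op).hom ((u.app U).hom a) = 0
      rw [ha', map_zero]
    rw [h2, DirectSum.decompose_zero, DirectSum.zero_apply] at h1
    have h3 : (𝒮L.presheaf.map (homOfLE V.2.2).op).hom
        ((u.app U).hom (DirectSum.decompose (𝒯.deg U hU) a d : 𝒯.presheaf.obj (op U))) = 0 := by
      exact h1
    rw [map_zero]
    exact h3

theorem corI_surjective {U : Y.Opens} (hU : IsAffineOpen U) : Function.Surjective (corI u.toQHom U) :=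
  fun b => by
    obtain ⟨a, ha⟩ := exists_app_eq_of_locIm u.toQHom hU b.1 b.2
    exact ⟨a, Subtype.ext ha⟩

/-- the degree-`d` part of `Im(u)` over an affine open -/
def imgDeg (U : Y.Opens) (hU : IsAffineOpen U) (d : ℕ) : AddSubgroup ((imgAlg u.toQHom).presheaf.obj (op U)) :=
  GrSurj.piece (𝒯.deg U hU) (corI u.toQHom U) d

theorem mem_imgDeg {U : Y.Opens} (hU : IsAffineOpen U) (d : ℕ) (x : (imgAlg u.toQHom).presheaf.obj (op U)) :
    x ∈ imgDeg u U hU d ↔ ∃ a ∈ 𝒯.deg U hU d, corI u.toQHom U a = x := Iff.rfl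

/-- **the image of a graded `q`-morphism, a quasi-coherent graded algebra on the base** -/
def imgGr : RelProj.QCGrAlg Y where
  toQCAlg := imgAlg u.toQHom
  deg U hU d := imgDeg u U hU d
  graded U hU := GrSurj.gradedRing (𝒯.deg U hU) (ker_homogeneous u hU) (corI_surjective u hU)
  map_mem {U V} hU hV i d x hx := by
    obtain ⟨a, ha, rfl⟩ := hx
    exact ⟨_, 𝒯.map_mem hU hV i ha, corI_res u.toQHom i a⟩
  str_mem U hU r := ⟨_, 𝒯.str_mem U hU r, rfl⟩

theorem imgGr_deg {U : Y.Opens} (hU : IsAffineOpen U) (d : ℕ) : (imgGr u).deg U hU d = imgDeg u U hU d := rfl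

/-- the projection onto the image is graded -/
theorem isGradedHom_imgπ : RelProj.IsGradedHom (𝒜 := 𝒯) (ℬ := imgGr u) (imgπ u.toQHom) :=
  fun _ _ _ x hx => ⟨x, hx, rfl⟩

/-- the inclusion of the image, as a graded `q`-morphism -/
def imgιGr : RelProj.QGrHom q (imgGr u) 𝒮L where
  toQHom := imgι u.toQHom
  map_mem U hU U' hU' hle d x hx := by
    obtain ⟨a, ha, rfl⟩ := hx
    exact u.map_mem U hU U' hU' hle ha

theorem imgιGr_app (W : Y.Opens) : (imgιGr u).app W = (imgι u.toQHom).app W := rfl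

theorem imgπ_imgιGr (W : Y.Opens) : u.app W = (imgπ u.toQHom).hom.app (op W) ≫ (imgιGr u).app W := rfl

/-- a homogeneous section of the image over an affine open lifts to a homogeneous section of the source -/
theorem exists_lift_deg {U : Y.Opens} (hU : IsAffineOpen U) {d : ℕ} {x : (imgGr u).presheaf.obj (op U)}
    (hx : x ∈ (imgGr u).deg U hU d) :
    ∃ a ∈ 𝒯.deg U hU d, ((imgπ u.toQHom).hom.app (op U)).hom a = x := hx

end graded

end Groth.Agent.Lib.Helper28.ImgAlg
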