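import Groth.Agent.Lib.Helper28.RLPsiU3

set_option autoImplicit false
universe u
open CategoryTheory CategoryTheory.Limits AlgebraicGeometry Opposite TopologicalSpace
noncomputable section

namespace Groth.Agent.Lib.Helper28.RLPsiU

open Groth.Agent.Lib.Helper28
open Groth.Agent.Lib.Helper28.RLPsi

section good

variable {Y X : Scheme.{u}} {q : X ⟶ Y} {𝒮 : RelProj.QCGrAlg Y} {𝒮L : RelProj.QCGrAlg X}
  (u : RelProj.QGrHom q 𝒮 𝒮L) {U : Y.Opens} (hU : IsAffineOpen U)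

/-- the function `t` on `W` is of the form `ψ♭(s') f^{-m}` -/
def Good (n : ℕ) (s : 𝒮.presheaf.obj (op U)) (W : X.Opens) (hW : W ≤ q ⁻¹ᵁ U) (t : Γ(X, W)) : Prop :=
  ∃ (m : ℕ) (_ : 0 < m) (s' : 𝒮.presheaf.obj (op U)) (_ : s' ∈ 𝒮.deg U hU (m * n)),
    (𝒮L.str.app (op W)).hom t * (tauU u U s W hW) ^ m = tauU u U s' W hW

/-- condition (iii) over an arbitrary open -/
def Cond3W (n : ℕ) (s : 𝒮.presheaf.obj (op U)) (W : X.Opens) (hW : W ≤ q ⁻¹ᵁ U) : Prop :=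
  ∀ t : Γ(X, W), Good u hU n s W hW t

theorem cond3U_iff (n : ℕ) (s : 𝒮.presheaf.obj (op U)) :
    Cond3U u hU n s ↔ Cond3W u hU n s (XTU u U n s) (XTU_le u n s) := Iff.rfl

theorem cond3W_congr (n : ℕ) (s : 𝒮.presheaf.obj (op U)) {W W' : X.Opens} (h : W = W') (hW : W ≤ q ⁻¹ᵁ U)
    (hW' : W' ≤ q ⁻¹ᵁ U) (H : Cond3W u hU n s W hW) : Cond3W u hU n s W' hW' := by
  subst h
  exact H

variable {n : ℕ} {s : 𝒮.presheaf.obj (op U)} (hs : s ∈ 𝒮.deg U hU n) {W : X.Opens} (hW : W ≤ q ⁻¹ᵁ U)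

theorem tauU_mul (a b : 𝒮.presheaf.obj (op U)) :
    tauU u U (a * b) W hW = tauU u U a W hW * tauU u U b W hW := map_mul _ a b

theorem tauU_add (a b : 𝒮.presheaf.obj (op U)) :
    tauU u U (a + b) W hW = tauU u U a W hW + tauU u U b W hW := map_add _ a b

theorem tauU_pow (a : 𝒮.presheaf.obj (op U)) (k : ℕ) :
    tauU u U (a ^ k) W hW = tauU u U a W hW ^ k := map_pow _ a k

theorem tauU_str (a : Γ(Y, U)) :
    tauU u U ((𝒮.str.app (op U)).hom a) W hW = (𝒮L.str.app (op W)).hom ((q.appLE U W hW).hom a) :=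
  congrArg (fun k => k.hom a) (u.toQHom.str_appLE U W hW)

include hs in
theorem good_algebraMap (a : Γ(Y, U)) : Good u hU n s W hW ((q.appLE U W hW).hom a) := by
  refine ⟨1, Nat.one_pos, (𝒮.str.app (op U)).hom a * s, ?_, ?_⟩
  · have h := SetLike.mul_mem_graded (𝒮.str_mem U hU a) hs
    rw [zero_add] at h
    rw [one_mul]
    exact h
  · rw [tauU_mul, tauU_str, pow_one]

include hs in
theorem good_add {t₁ t₂ : Γ(X, W)} (h₁ : Good u hU n s W hW t₁) (h₂ : Good u hU n s W hW t₂) :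
    Good u hU n s W hW (t₁ + t₂) := by
  obtain ⟨m₁, hm₁, s₁, hs₁, e₁⟩ := h₁
  obtain ⟨m₂, hm₂, s₂, hs₂, e₂⟩ := h₂
  refine ⟨m₁ + m₂, by omega, s₁ * s ^ m₂ + s₂ * s ^ m₁, ?_, ?_⟩
  · have hp₂ : s ^ m₂ ∈ 𝒮.deg U hU (m₂ * n) := by
      have := SetLike.pow_mem_graded m₂ hs
      rw [smul_eq_mul] at this
      exact this
    have hp₁ : s ^ m₁ ∈ 𝒮.deg U hU (m₁ * n) := by
      have := SetLike.pow_mem_graded m₁ hs
      rw [smul_eq_mul] at this
      exact this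
    have ha := SetLike.mul_mem_graded hs₁ hp₂
    have hb := SetLike.mul_mem_graded hs₂ hp₁
    have e1 : m₁ * n + m₂ * n = (m₁ + m₂) * n := by ring
    have e2 : m₂ * n + m₁ * n = (m₁ + m₂) * n := by ring
    rw [e1] at ha
    rw [e2] at hb
    exact add_mem ha hb
  · rw [tauU_add, tauU_mul, tauU_mul, tauU_pow, tauU_pow, ← e₁, ← e₂, map_add]
    ring

theorem good_mul {t₁ t₂ : Γ(X, W)} (h₁ : Good u hU n s W hW t₁) (h₂ : Good u hU n s W hW t₂) :
    Good u hU n s W hW (t₁ * t₂) := by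
  obtain ⟨m₁, hm₁, s₁, hs₁, e₁⟩ := h₁
  obtain ⟨m₂, hm₂, s₂, hs₂, e₂⟩ := h₂
  refine ⟨m₁ + m₂, by omega, s₁ * s₂, ?_, ?_⟩
  · have ha := SetLike.mul_mem_graded hs₁ hs₂
    have e1 : m₁ * n + m₂ * n = (m₁ + m₂) * n := by ring
    rw [e1] at ha
    exact ha
  · rw [tauU_mul, ← e₁, ← e₂, map_mul]
    ring

include hs in
/-- condition (iii) need only be checked on algebra generators -/
theorem cond3W_of_adjoin (G : Set Γ(X, W))
    (hG : @Algebra.adjoin Γ(Y, U) Γ(X, W) _ _ (q.appLE U W hW).hom.toAlgebra G = ⊤)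
    (hgood : ∀ g ∈ G, Good u hU n s W hW g) : Cond3W u hU n s W hW := by
  letI := (q.appLE U W hW).hom.toAlgebra
  intro t
  have ht : t ∈ Algebra.adjoin Γ(Y, U) G := by rw [hG]; trivial
  induction ht using Algebra.adjoin_induction with
  | mem x hx => exact hgood x hx
  | algebraMap a => exact good_algebraMap u hU hs hW a
  | add x y _ _ hx hy => exact good_add u hU hs hW hx hy
  | mul x y _ _ hx hy => exact good_mul u hU hW hx hy

end good

section push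

variable {Y X : Scheme.{u}} {q : X ⟶ Y} {𝒮 𝒮' : RelProj.QCGrAlg Y} {𝒮L : RelProj.QCGrAlg X}
  (u : RelProj.QGrHom q 𝒮 𝒮L) (u' : RelProj.QGrHom q 𝒮' 𝒮L)
  (φ : 𝒮'.toQCAlg ⟶ 𝒮.toQCAlg) (hφ : RelProj.IsGradedHom φ)
  (hu : ∀ U : Y.Opens, u'.app U = φ.hom.app (op U) ≫ u.app U)

include hu in
theorem tauU_push (U : Y.Opens) (s : 𝒮'.presheaf.obj (op U)) (W : X.Opens) (hW : W ≤ q ⁻¹ᵁ U) :
    tauU u' U s W hW = tauU u U ((φ.hom.app (op U)).hom s) W hW := by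
  unfold tauU
  have h : u'.appLE U W hW = φ.hom.app (op U) ≫ u.appLE U W hW := by
    rw [RelSpec.QHom.appLE_eq, RelSpec.QHom.appLE_eq, hu, Category.assoc]
  rw [h]
  rfl

include hu in
theorem NVU_push (U : Y.Opens) (n : ℕ) (s : 𝒮'.presheaf.obj (op U)) (x : X) :
    NVU u' U n s x ↔ NVU u U n ((φ.hom.app (op U)).hom s) x := by
  unfold NVU
  simp only [tauU_push u u' φ hu]

include hu in
theorem XTU_push (U : Y.Opens) (n : ℕ) (s : 𝒮'.presheaf.obj (op U)) :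
    XTU u' U n s = XTU u U n ((φ.hom.app (op U)).hom s) := by
  ext x
  exact (mem_XTU_iff u' n s x).trans ((NVU_push u u' φ hu U n s x).trans (mem_XTU_iff u n _ x).symm)

include hφ hu in
theorem cond3W_push {U : Y.Opens} (hU : IsAffineOpen U) (n : ℕ) (s : 𝒮'.presheaf.obj (op U)) (W : X.Opens)
    (hW : W ≤ q ⁻¹ᵁ U) (H : Cond3W u' hU n s W hW) : Cond3W u hU n ((φ.hom.app (op U)).hom s) W hW := by
  intro t
  obtain ⟨m, hm, s', hs', heq⟩ := H t
  refine ⟨m, hm, (φ.hom.app (op U)).hom s', hφ U hU _ s' hs', ?_⟩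
  rw [← tauU_push u u' φ hu, ← tauU_push u u' φ hu]
  exact heq

include hφ hu in
theorem cond3U_push {U : Y.Opens} (hU : IsAffineOpen U) (n : ℕ) (s : 𝒮'.presheaf.obj (op U))
    (H : Cond3U u' hU n s) : Cond3U u hU n ((φ.hom.app (op U)).hom s) :=
  cond3W_congr u hU n _ (XTU_push u u' φ hu U n s) (XTU_le u' n s) (XTU_le u n _)
    (cond3W_push u u' φ hφ hu hU n s _ (XTU_le u' n s) H)

include hφ hu in
/-- a family satisfying (i), (ii), (iii) for `u ∘ φ` gives one for `u` -/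
theorem isGoodFamily_push {ι : Type u} (U : ι → Y.Opens) (hU : ∀ a, IsAffineOpen (U a)) (n : ι → ℕ)
    (s : ∀ a, 𝒮'.presheaf.obj (op (U a))) (h : IsGoodFamily u' U hU n s) :
    IsGoodFamily u U hU n (fun a => (φ.hom.app (op (U a))).hom (s a)) := by
  obtain ⟨hns, hcov, haff, h3⟩ := h
  have hX : ∀ a, XTU u (U a) (n a) ((φ.hom.app (op (U a))).hom (s a)) = XTU u' (U a) (n a) (s a) :=
    fun a => (XTU_push u u' φ hu (U a) (n a) (s a)).symm
  refine ⟨fun a => ⟨(hns a).1, hφ (U a) (hU a) _ _ (hns a).2⟩, ?_, fun a => ?_, fun a => ?_⟩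
  · rw [iSup_congr hX]
    exact hcov
  · rw [hX a]
    exact haff a
  · exact cond3U_push u u' φ hφ hu (hU a) (n a) (s a) (h3 a)

end push

end Groth.Agent.Lib.Helper28.RLPsiU
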