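import Groth.Agent.Lib.Helper28.RLPsiU7

set_option autoImplicit false
universe u
open CategoryTheory CategoryTheory.Limits AlgebraicGeometry Opposite TopologicalSpace
open HomogeneousLocalization
noncomputable section

namespace Groth.Agent.Lib.Helper28.RLPsiU

open Groth.Agent.Lib.Helper28 Groth.Agent.Lib.Helper28.QCohLoc Groth.Agent.Lib.Helper28.TraceAlg
open Groth.Agent.Lib.Helper28.GenLocus Groth.Agent.Lib.Helper28.SymAlg
open Groth.Agent.Lib.Helper28.RLPsi Groth.Agent.Lib.Helper28.SymPow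

attribute [local instance] algAt

section oi

variable {Y X P PL : Scheme.{u}} {q : X ⟶ Y} {L : X.Modules} [L.IsQuasicoherent]
  {𝒮 : RelProj.QCGrAlg Y} {𝒮L : RelProj.QCGrAlg X} {j : L ⟶ 𝒮L.toModule} (hj : RelProj.IsGrSymAlg L 𝒮L j)
  (u : RelProj.QGrHom q 𝒮 𝒮L)
  (p : P ⟶ Y) (chart : ∀ (U : Y.Opens) (hU : IsAffineOpen U), (((p ⁻¹ᵁ U : P.Opens) : Scheme.{u}) ≅ Proj (𝒮.deg U hU)))
  (hP : RelProj.IsRelProj 𝒮 p chart)
  (pL : PL ⟶ X)
  (chartL : ∀ (U : X.Opens) (hU : IsAffineOpen U), (((pL ⁻¹ᵁ U : PL.Opens) : Scheme.{u}) ≅ Proj (𝒮L.deg U hU)))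
  (hPL : RelProj.IsRelProj 𝒮L pL chartL)
  (r : ((RelProj.domQ u pL chartL : PL.Opens) : Scheme.{u}) ⟶ P)
  (hr : RelProj.IsProjQMapOn u p chart pL chartL (RelProj.domQ u pL chartL) r)

include hj hP hPL hr in
/-- (i), (ii), (iii), (iv) imply that `r_{L,ψ}` is everywhere defined and an open immersion (general base) -/
theorem openImmersion_of_family (hL : PicF.IsInvertible L) {ι : Type u} (U : ι → Y.Opens)
    (hU : ∀ a, IsAffineOpen (U a)) (n : ι → ℕ) (s : ∀ a, 𝒮.presheaf.obj (op (U a)))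
    (h : IsGoodFamily u U hU n s) (h4 : ∀ a, Cond4U u (hU a) (n a) (s a)) :
    RelProj.domQ u pL chartL = ⊤ ∧ IsOpenImmersion r := by
  obtain ⟨hns, hcov, haff, h3⟩ := h
  refine ⟨domQ_eq_top_of_iSup hj u pL chartL hPL U hU n s hns hL hcov, ?_⟩
  refine prop_of_charts @IsOpenImmersion r
    (fun a => Spec (RB u (hU a) (s a) (haff a))) (fun a => Spec (RA (hU a) (s a)))
    (fun a => alphaD u pL chartL (hU a) (hns a).1 (s a) (hns a).2 (haff a))
    (fun a => Spec.map (psiAway u (hU a) (s a) (haff a)))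
    (fun a => betaP p chart (hU a) (hns a).1 (s a) (hns a).2)
    (fun a => isPullback_chart hj u p chart hP pL chartL hPL r hr (hU a) (hns a).1 (s a) (hns a).2 (haff a) hL)
    (exists_mem_range_alphaD hj u p chart hP pL chartL hPL r hr U hU n s hns hL haff hcov) (fun a => ?_)
  have hbij : Function.Bijective (psiAway u (hU a) (s a) (haff a)).hom :=
    ⟨injective_psiAway_of_cond4 u (hU a) (s a) (hns a).2 (haff a) (h4 a),
      surjective_psiAway_of_cond3 hj u p chart hP pL chartL hPL r hr (hU a) (hns a).1 (s a) (hns a).2 (haff a) hL (h3 a)⟩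
  have hiso : IsIso (psiAway u (hU a) (s a) (haff a)) := (ConcreteCategory.isIso_iff_bijective _).2 hbij
  infer_instance

end oi

end Groth.Agent.Lib.Helper28.RLPsiU
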