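import Groth.Agent.Lib.Helper28.SymPowF
import Groth.Agent.Lib.Helper28.RLPsiU8
import Groth.Agent.Lib.Helper28.AmpleSep

set_option autoImplicit false
universe u
open CategoryTheory CategoryTheory.Limits AlgebraicGeometry Opposite TopologicalSpace
noncomputable section

namespace Groth.Agent.Lib.Helper28.SymPow

open Groth.Agent.Lib.Helper28 Groth.Agent.Lib.Helper28.QCohLoc Groth.Agent.Lib.Helper28.TraceAlg
open Groth.Agent.Lib.Helper28.GenLocus Groth.Agent.Lib.Helper28.SymAlg Groth.Agent.Lib.Helper28.AmpleUnit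
open Groth.Agent.Lib.Helper28.RLPsi Groth.Agent.Lib.Helper28.RLPsiU

attribute [local instance] algAt

section homog

variable {X : Scheme.{u}} (𝒮 : RelProj.QCGrAlg X)

theorem mem_deg_of_decompose_eq_zero {W : X.Opens} (hW : IsAffineOpen W) (k : ℕ) (a : 𝒮.presheaf.obj (op W))
    (h0 : ∀ d, d ≠ k → ((DirectSum.decompose (𝒮.deg W hW) a d : 𝒮.presheaf.obj (op W))) = 0) :
    a ∈ 𝒮.deg W hW k := by
  classical
  have h1 : a = ((DirectSum.decompose (𝒮.deg W hW) a k : 𝒮.presheaf.obj (op W))) := by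
    conv_lhs => rw [← DirectSum.sum_support_decompose (𝒮.deg W hW) a]
    by_cases hk : k ∈ (DirectSum.decompose (𝒮.deg W hW) a).support
    · rw [Finset.sum_eq_single k (fun d _ hd => h0 d hd) (fun hk' => absurd hk hk')]
    · rw [Finset.sum_eq_zero (fun d hd => h0 d (fun e => hk (e ▸ hd)))]
      rw [DFinsupp.mem_support_toFun, not_not] at hk
      rw [hk]
      rfl
  rw [h1]
  exact SetLike.coe_mem _

end homog

section core

variable {Y X : Scheme.{u}} {q : X ⟶ Y} {L : X.Modules} [L.IsQuasicoherent]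
  {𝒮 : RelProj.QCGrAlg Y} {𝒮L : RelProj.QCGrAlg X} {j : L ⟶ 𝒮L.toModule} (hj : RelProj.IsGrSymAlg L 𝒮L j)
  (u : RelProj.QGrHom q 𝒮 𝒮L)

omit [L.IsQuasicoherent] in
theorem tauU_top_eq (U : Y.Opens) (s : 𝒮.presheaf.obj (op U)) :
    tauU u U s (q ⁻¹ᵁ U) le_rfl = (u.app U).hom s := by
  show rS 𝒮L (le_refl (q ⁻¹ᵁ U)) ((u.app U).hom s) = _
  exact rS_self _

omit [L.IsQuasicoherent] in
/-- a section whose image is locally homogeneous of degree `k` is homogeneous of degree `k`, if `u` is injective -/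
theorem mem_deg_of_locDeg {U : Y.Opens} (hU : IsAffineOpen U) (hinj : Function.Injective (u.app U).hom) (k : ℕ)
    (s : 𝒮.presheaf.obj (op U)) (hs : LocDeg 𝒮L k (q ⁻¹ᵁ U) ((u.app U).hom s)) : s ∈ 𝒮.deg U hU k := by
  classical
  refine mem_deg_of_decompose_eq_zero 𝒮 hU k s fun d hd => ?_
  apply hinj
  rw [map_zero]
  let I := {W : X.affineOpens // (W.1 : X.Opens) ≤ q ⁻¹ᵁ U}
  refine eq_of_locally_eq 𝒮L.toModule (fun W : I => (W.1.1 : X.Opens)) (q ⁻¹ᵁ U) (fun W => W.2) ?_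
    (ofR 𝒮L.toQCAlg ((u.app U).hom ((DirectSum.decompose (𝒮.deg U hU) s d : 𝒮.presheaf.obj (op U)))))
    (ofR 𝒮L.toQCAlg 0) fun W => ?_
  · intro y hy
    obtain ⟨_, ⟨W, hW, rfl⟩, hyW, hWle⟩ := X.isBasis_affineOpens.exists_subset_of_mem_open hy (q ⁻¹ᵁ U).isOpen
    exact Opens.mem_iSup.2 ⟨⟨⟨W, hW⟩, hWle⟩, hyW⟩
  · obtain ⟨⟨W, hW⟩, hWU⟩ := W
    show rS 𝒮L hWU ((u.app U).hom ((DirectSum.decompose (𝒮.deg U hU) s d : 𝒮.presheaf.obj (op U)))) = rS 𝒮L hWU 0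
    rw [rS_zero]
    have h1 := (u.gradedAt U hU W hW hWU).map_directSumDecompose (x := s) (i := d)
    have h2 : (u.gradedAt U hU W hW hWU) s = rS 𝒮L hWU ((u.app U).hom s) := rfl
    have h3 : rS 𝒮L hWU ((u.app U).hom ((DirectSum.decompose (𝒮.deg U hU) s d : 𝒮.presheaf.obj (op U)))) =
        ((DirectSum.decompose (𝒮L.deg W hW) (rS 𝒮L hWU ((u.app U).hom s)) d : 𝒮L.presheaf.obj (op W))) := by
      rw [← h2]
      exact h1
    rw [h3, DirectSum.decompose_of_mem_ne _ (hs W hW hWU) (Ne.symm hd)]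

omit [L.IsQuasicoherent] in
theorem tauU_eq_zero_congr {U : Y.Opens} (s : 𝒮.presheaf.obj (op U)) {W W' : X.Opens} (h : W = W')
    (hW : W ≤ q ⁻¹ᵁ U) (hW' : W' ≤ q ⁻¹ᵁ U) (h0 : tauU u U s W hW = 0) : tauU u U s W' hW' = 0 := by
  subst h
  exact h0

include hj in
/-- **relative ampleness produces sections satisfying (i)–(iv)** -/
theorem exists_good_of_isAmple (hL : PicF.IsInvertible L) {V : Y.Opens} (hV : IsAffineOpen V)
    (hc : IsCompact ((q ⁻¹ᵁ V : X.Opens) : Set X)) (hA : CohB1.IsAmple (L.restrict (q ⁻¹ᵁ V).ι))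
    (huV : Function.Bijective (u.app V).hom) (x : X) (hx : x ∈ q ⁻¹ᵁ V) :
    ∃ (d : ℕ) (f : 𝒮.presheaf.obj (op V)), 0 < d ∧ f ∈ 𝒮.deg V hV d ∧ x ∈ XTU u V d f ∧
      IsAffineOpen (XTU u V d f) ∧ Cond3U u hV d f ∧ Cond4U u hV d f := by
  obtain ⟨n, s', hys', haff⟩ := hA.2.2 ⟨x, hx⟩
  obtain ⟨τ₀, hτ₀, hloc⟩ := exists_locDeg_of_section hj hL (n + 1) (q ⁻¹ᵁ V) s'
  obtain ⟨f, rfl⟩ := huV.2 τ₀
  have hf : f ∈ 𝒮.deg V hV (n + 1) := mem_deg_of_locDeg u hV huV.1 (n + 1) f hτ₀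
  have hτeq : tauU u V f (q ⁻¹ᵁ V) le_rfl = (u.app V).hom f := tauU_top_eq u V f
  have hXT : XTU u V (n + 1) f = NVloc 𝒮L (n + 1) (q ⁻¹ᵁ V) ((u.app V).hom f) := by
    rw [XTU_eq_NVloc, hτeq]
  have hqs : IsQuasiSeparated ((q ⁻¹ᵁ V : X.Opens) : Set X) := by
    rw [isQuasiSeparated_iff_quasiSeparatedSpace _ (q ⁻¹ᵁ V).isOpen]
    have : ((q ⁻¹ᵁ V : X.Opens) : Scheme.{u}).IsSeparated := isSeparated_of_isAmple hA
    exact (inferInstance : QuasiSeparatedSpace ((q ⁻¹ᵁ V : X.Opens) : Scheme.{u}))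
  refine ⟨n + 1, f, Nat.succ_pos n, hf, ?_, ?_, ?_, ?_⟩
  · rw [hXT]
    have h1 : (⟨x, hx⟩ : ((q ⁻¹ᵁ V : X.Opens) : Scheme.{u})) ∈
        (q ⁻¹ᵁ V).ι ⁻¹ᵁ NVloc 𝒮L (n + 1) (q ⁻¹ᵁ V) ((u.app V).hom f) := by
      rw [hloc]
      exact hys'
    exact h1
  · rw [hXT]
    have h1 := haff.image_of_isOpenImmersion (q ⁻¹ᵁ V).ι
    rw [← hloc, Scheme.Hom.image_preimage_eq_opensRange_inf, Scheme.Opens.opensRange_ι,
      inf_eq_right.2 (NVloc_le (n + 1) (q ⁻¹ᵁ V) _)] at h1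
    exact h1
  · -- condition (iii)
    rw [cond3U_iff]
    refine cond3W_congr u hV (n + 1) f hXT.symm (NVloc_le _ _ _) _ ?_
    intro t
    obtain ⟨m, τ', hm, hτ', heq⟩ := exists_extension_of_NVloc hj hL hc hqs (n + 1) _ hτ₀ t
    obtain ⟨s'', rfl⟩ := huV.2 τ'
    have hs'' : s'' ∈ 𝒮.deg V hV (m * (n + 1)) := mem_deg_of_locDeg u hV huV.1 _ s'' hτ'
    refine ⟨m, hm, s'', hs'', ?_⟩
    have e1 : tauU u V f (NVloc 𝒮L (n + 1) (q ⁻¹ᵁ V) ((u.app V).hom f)) (NVloc_le _ _ _) =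
        rS 𝒮L (NVloc_le _ _ _) ((u.app V).hom f) := by
      rw [← rS_tauU u f le_rfl (NVloc_le _ _ _), hτeq]
    have e2 : tauU u V s'' (NVloc 𝒮L (n + 1) (q ⁻¹ᵁ V) ((u.app V).hom f)) (NVloc_le _ _ _) =
        rS 𝒮L (NVloc_le _ _ _) ((u.app V).hom s'') := by
      rw [← rS_tauU u s'' le_rfl (NVloc_le _ _ _), tauU_top_eq]
    rw [e1, e2]
    exact heq.symm
  · -- condition (iv)
    intro m hm s'' hs'' h0
    have h0' : tauU u V s'' (NVloc 𝒮L (n + 1) (q ⁻¹ᵁ V) ((u.app V).hom f)) (NVloc_le _ _ _) = 0 :=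
      tauU_eq_zero_congr u s'' hXT _ _ h0
    have h1 : rS 𝒮L (NVloc_le (n + 1) (q ⁻¹ᵁ V) ((u.app V).hom f)) ((u.app V).hom s'') = 0 := by
      rw [← tauU_top_eq u V s'', rS_tauU]
      exact h0'
    have hτ'' : LocDeg 𝒮L (m * (n + 1)) (q ⁻¹ᵁ V) ((u.app V).hom s'') := by
      rw [← tauU_top_eq u V s'']
      exact locDeg_tauU u hV hs'' _ le_rfl
    obtain ⟨k₀, hk₀⟩ := exists_pow_mul_eq_zero_of_res_NVloc hj hL hc (n + 1) (m * (n + 1)) _ _ hτ₀ hτ'' h1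
    refine ⟨k₀ + 1, Nat.succ_pos k₀, huV.1 ?_⟩
    rw [map_mul, map_pow, map_zero]
    exact hk₀ (k₀ + 1) (Nat.le_succ k₀)

end core

end Groth.Agent.Lib.Helper28.SymPow
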