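import Groth.Agent.Lib.Helper28.RLPsiU8
import Groth.Agent.Lib.Helper28.SymPowG
import Groth.Agent.S8259

set_option autoImplicit false
universe u
open CategoryTheory CategoryTheory.Limits AlgebraicGeometry Opposite TopologicalSpace
open HomogeneousLocalization
noncomputable section

namespace Groth.Agent.Lib.Helper28.RLPsiU

open Groth.Agent.Lib.Helper28 Groth.Agent.Lib.Helper28.QCohLoc Groth.Agent.Lib.Helper28.TraceAlg
open Groth.Agent.Lib.Helper28.GenLocus Groth.Agent.Lib.Helper28.SymAlg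
open Groth.Agent.Lib.Helper28.RLPsi Groth.Agent.Lib.Helper28.SymPow

attribute [local instance] algAt

section ra

variable {Y X P PL : Scheme.{u}} {q : X ⟶ Y} {L : X.Modules} [L.IsQuasicoherent]
  {𝒮 : RelProj.QCGrAlg Y} {𝒮L : RelProj.QCGrAlg X} {j : L ⟶ 𝒮L.toModule} (hj : RelProj.IsGrSymAlg L 𝒮L j)
  (u : RelProj.QGrHom q 𝒮 𝒮L)
  (p : P ⟶ Y) (chart : ∀ (U : Y.Opens) (hU : IsAffineOpen U), (((p ⁻¹ᵁ U : P.Opens) : Scheme.{u}) ≅ Proj (𝒮.deg U hU)))
  (hP : RelProj.IsRelProj 𝒮 p chart)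
  (pL : PL ⟶ X)
  (chartL : ∀ (U : X.Opens) (hU : IsAffineOpen U), (((pL ⁻¹ᵁ U : PL.Opens) : Scheme.{u}) ≅ Proj (𝒮L.deg U hU)))
  (hPL : RelProj.IsRelProj 𝒮L pL chartL)
  (r : ((RelProj.domQ u pL chartL : PL.Opens) : Scheme.{u}) ⟶ P)
  (hr : RelProj.IsProjQMapOn u p chart pL chartL (RelProj.domQ u pL chartL) r)

omit [L.IsQuasicoherent] in
/-- over a quasi-compact preimage, a locally nilpotent section is nilpotent -/
theorem isNilpotent_of_locNilU (U : Y.Opens) (hc : IsCompact ((q ⁻¹ᵁ U : X.Opens) : Set X))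
    (s : 𝒮.presheaf.obj (op U)) (h : LocNilU u U s) :
    IsNilpotent ((u.app U).hom s) := by
  choose V hV hVU hxV hnil using h
  choose N hN using hnil
  obtain ⟨T, hT⟩ := hc.elim_nhds_subcover' (fun x hx => ((V x hx : X.Opens) : Set X))
    (fun x hx => (V x hx).isOpen.mem_nhds (hxV x hx))
  refine ⟨T.sup (fun x => N x.1 x.2), ?_⟩
  let F : TopCat.Sheaf CommRingCat X.carrier := ⟨𝒮L.presheaf, 𝒮L.isSheaf⟩
  refine TopCat.Sheaf.eq_of_locally_eq' F (fun x : T => V x.1.1 x.1.2) (q ⁻¹ᵁ U)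
    (fun x => homOfLE (hVU x.1.1 x.1.2)) ?_ _ _ (fun x => ?_)
  · intro a ha
    have ha' : a ∈ ⋃ x ∈ T, ((V x.1 x.2 : X.Opens) : Set X) := hT ha
    simp only [Set.mem_iUnion] at ha'
    obtain ⟨x, hxT, hax⟩ := ha'
    exact Opens.mem_iSup.2 ⟨⟨x, hxT⟩, hax⟩
  · show (𝒮L.presheaf.map (homOfLE (hVU x.1.1 x.1.2)).op).hom (((u.app U).hom s) ^ T.sup (fun x => N x.1 x.2)) =
      (𝒮L.presheaf.map (homOfLE (hVU x.1.1 x.1.2)).op).hom 0
    rw [map_pow, map_zero]
    have h1 : (𝒮L.presheaf.map (homOfLE (hVU x.1.1 x.1.2)).op).hom ((u.app U).hom s) =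
        (u.appLE U (V x.1.1 x.1.2) (hVU x.1.1 x.1.2)).hom s := rfl
    rw [h1]
    exact pow_eq_zero_of_le (Finset.le_sup (f := fun x => N x.1 x.2) x.2) (hN x.1.1 x.1.2)

include hj hP hPL hr in
/-- `r` is dominant when `q` is quasi-compact and `u` is injective on affines -/
theorem isDominant_of_injective [QuasiCompact q] (hL : PicF.IsInvertible L)
    (hu : ∀ (U : Y.Opens), IsAffineOpen U → Function.Injective (u.app U).hom) :
    IsDominant r := by
  rw [isDominant_iffU hj u p chart hP pL chartL hPL r hr hL]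
  intro U hU n hn s hs hnil
  have hc : IsCompact ((q ⁻¹ᵁ U : X.Opens) : Set X) :=
    QuasiCompact.isCompact_preimage (f := q) _ U.isOpen hU.isCompact
  obtain ⟨m, hm⟩ := isNilpotent_of_locNilU u U hc s hnil
  refine ⟨m, hu U hU ?_⟩
  rw [map_pow, hm, map_zero]

include hj hP hPL hr in
/-- **`L` relatively ample ⟹ `r_{L,σ}` is everywhere defined and an open immersion** -/
theorem openImmersion_of_relAmple (hL : PicF.IsInvertible L)
    (hu : ∀ (U : Y.Opens), IsAffineOpen U → Function.Bijective (u.app U).hom)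
    (h : RelAmple.IsRelAmple q L) :
    RelProj.domQ u pL chartL = ⊤ ∧ IsOpenImmersion r := by
  have hqc : QuasiCompact q := h.1
  have hex : ∀ x : X, ∃ (V : Y.Opens) (hV : IsAffineOpen V) (d : ℕ) (f : 𝒮.presheaf.obj (op V)),
      0 < d ∧ f ∈ 𝒮.deg V hV d ∧ x ∈ XTU u V d f ∧ IsAffineOpen (XTU u V d f) ∧ Cond3U u hV d f ∧
        Cond4U u hV d f := by
    intro x
    obtain ⟨_, ⟨V, hV, rfl⟩, hxV, -⟩ := Y.isBasis_affineOpens.exists_subset_of_mem_open
      (Set.mem_univ (q x)) isOpen_univ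
    have hc : IsCompact ((q ⁻¹ᵁ V : X.Opens) : Set X) :=
      QuasiCompact.isCompact_preimage (f := q) _ V.isOpen hV.isCompact
    obtain ⟨d, f, hd, hf, hx, haff, h3, h4⟩ := exists_good_of_isAmple hj u hL hV hc (h.2 ⟨V, hV⟩)
      (hu V hV) x hxV
    exact ⟨V, hV, d, f, hd, hf, hx, haff, h3, h4⟩
  choose V hV d f hd hf hx haff h3 h4 using hex
  refine openImmersion_of_family hj u p chart hP pL chartL hPL r hr hL V hV d f
    ⟨fun a => ⟨hd a, hf a⟩, ?_, haff, h3⟩ h4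
  refine top_le_iff.1 fun x _ => ?_
  exact Opens.mem_iSup.2 ⟨x, hx x⟩

end ra

end Groth.Agent.Lib.Helper28.RLPsiU
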