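import Groth.Agent.Lib.Helper28.ImgAlg3
import Groth.Agent.Lib.Helper28.SymPowG
import Groth.Agent.Lib.Helper28.RLPsiU9
import Groth.Agent.Lib.Helper28.RLPsiU4

/-!
# `r_{L,ψ}` for the image algebra is an open immersion with dense image (part 4)
-/

set_option autoImplicit false
universe u
open CategoryTheory CategoryTheory.Limits AlgebraicGeometry Opposite TopologicalSpace
noncomputable section

namespace Groth.Agent.Lib.Helper28.ImgAlg

open Groth.Agent.Lib.Helper28 Groth.Agent.Lib.Helper28.QCohLoc Groth.Agent.Lib.Helper28.TraceAlg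
open Groth.Agent.Lib.Helper28.GenLocus Groth.Agent.Lib.Helper28.SymAlg
open Groth.Agent.Lib.Helper28.RLPsi Groth.Agent.Lib.Helper28.RLPsiU Groth.Agent.Lib.Helper28.SymPow

section cond4

variable {Y X : Scheme.{u}} {q : X ⟶ Y} {L : X.Modules} [L.IsQuasicoherent]
  {𝒮 : RelProj.QCGrAlg Y} {𝒮L : RelProj.QCGrAlg X} {j : L ⟶ 𝒮L.toModule} (hj : RelProj.IsGrSymAlg L 𝒮L j)
  (u : RelProj.QGrHom q 𝒮 𝒮L)

include hj in
/-- condition (iv) holds when `u` is injective over the affine open -/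
theorem cond4U_of_injective (hL : PicF.IsInvertible L) {V : Y.Opens} (hV : IsAffineOpen V)
    (hc : IsCompact ((q ⁻¹ᵁ V : X.Opens) : Set X)) (hinj : Function.Injective (u.app V).hom)
    {d : ℕ} (f : 𝒮.presheaf.obj (op V)) (hf : f ∈ 𝒮.deg V hV d) : Cond4U u hV d f := by
  have hτeq : tauU u V f (q ⁻¹ᵁ V) le_rfl = (u.app V).hom f := tauU_top_eq u V f
  have hXT : XTU u V d f = NVloc 𝒮L d (q ⁻¹ᵁ V) ((u.app V).hom f) := by
    rw [XTU_eq_NVloc, hτeq]
  have hτ₀ : LocDeg 𝒮L d (q ⁻¹ᵁ V) ((u.app V).hom f) := by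
    rw [← hτeq]
    exact locDeg_tauU u hV hf _ le_rfl
  intro m hm s'' hs'' h0
  have h0' : tauU u V s'' (NVloc 𝒮L d (q ⁻¹ᵁ V) ((u.app V).hom f)) (NVloc_le _ _ _) = 0 :=
    tauU_eq_zero_congr u s'' hXT _ _ h0
  have h1 : rS 𝒮L (NVloc_le d (q ⁻¹ᵁ V) ((u.app V).hom f)) ((u.app V).hom s'') = 0 := by
    rw [← tauU_top_eq u V s'', rS_tauU]
    exact h0'
  have hτ'' : LocDeg 𝒮L (m * d) (q ⁻¹ᵁ V) ((u.app V).hom s'') := by
    rw [← tauU_top_eq u V s'']
    exact locDeg_tauU u hV hs'' _ le_rfl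
  obtain ⟨k₀, hk₀⟩ := exists_pow_mul_eq_zero_of_res_NVloc hj hL hc d (m * d) _ _ hτ₀ hτ'' h1
  refine ⟨k₀ + 1, Nat.succ_pos k₀, hinj ?_⟩
  rw [map_mul, map_pow, map_zero]
  exact hk₀ (k₀ + 1) (Nat.le_succ k₀)

end cond4

section main

variable {Y X P PL : Scheme.{u}} {q : X ⟶ Y} [QuasiCompact q] {L : X.Modules} [L.IsQuasicoherent]
  {𝒯 : RelProj.QCGrAlg Y} {𝒮L : RelProj.QCGrAlg X} {j : L ⟶ 𝒮L.toModule} (hj : RelProj.IsGrSymAlg L 𝒮L j)
  (u : RelProj.QGrHom q 𝒯 𝒮L)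
  (p : P ⟶ Y)
  (chart : ∀ (U : Y.Opens) (hU : IsAffineOpen U), (((p ⁻¹ᵁ U : P.Opens) : Scheme.{u}) ≅ Proj ((imgGr u).deg U hU)))
  (hP : RelProj.IsRelProj (imgGr u) p chart)
  (pL : PL ⟶ X)
  (chartL : ∀ (U : X.Opens) (hU : IsAffineOpen U), (((pL ⁻¹ᵁ U : PL.Opens) : Scheme.{u}) ≅ Proj (𝒮L.deg U hU)))
  (hPL : RelProj.IsRelProj 𝒮L pL chartL)
  (r : ((RelProj.domQ (imgιGr u) pL chartL : PL.Opens) : Scheme.{u}) ⟶ P)
  (hr : RelProj.IsProjQMapOn (imgιGr u) p chart pL chartL (RelProj.domQ (imgιGr u) pL chartL) r)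

/-- a good family for `u` gives one for the inclusion of its image -/
theorem isGoodFamily_img {ι : Type u} (U : ι → Y.Opens) (hU : ∀ a, IsAffineOpen (U a)) (n : ι → ℕ)
    (s : ∀ a, 𝒯.presheaf.obj (op (U a))) (h : IsGoodFamily u U hU n s) :
    IsGoodFamily (imgιGr u) U hU n (fun a => ((imgπ u.toQHom).hom.app (op (U a))).hom (s a)) :=
  isGoodFamily_push (imgιGr u) u (imgπ u.toQHom) (isGradedHom_imgπ u) (imgπ_imgιGr u) U hU n s h

include hj hP hPL hr in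
/-- **if `u` has a good family (e.g. `r_{L,ψ}` is an everywhere defined immersion), then `r` for the image algebra
is an everywhere defined open immersion with dense image** -/
theorem openImmersion_img (hL : PicF.IsInvertible L) {ι : Type u} (U : ι → Y.Opens)
    (hU : ∀ a, IsAffineOpen (U a)) (n : ι → ℕ) (s : ∀ a, 𝒯.presheaf.obj (op (U a)))
    (h : IsGoodFamily u U hU n s) :
    RelProj.domQ (imgιGr u) pL chartL = ⊤ ∧ IsOpenImmersion r ∧ IsDominant r := by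
  have hfam := isGoodFamily_img u U hU n s h
  have hinj : ∀ (V : Y.Opens), IsAffineOpen V → Function.Injective ((imgιGr u).app V).hom :=
    fun V _ => imgι_injective u.toQHom V
  have h4 : ∀ a, Cond4U (imgιGr u) (hU a) (n a) (((imgπ u.toQHom).hom.app (op (U a))).hom (s a)) := fun a =>
    cond4U_of_injective hj (imgιGr u) hL (hU a) (q.isCompact_preimage (hU a).isCompact) (hinj _ (hU a)) _
      (hfam.1 a).2
  obtain ⟨htop, hoi⟩ := openImmersion_of_family hj (imgιGr u) p chart hP pL chartL hPL r hr hL U hU n _ hfam h4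
  exact ⟨htop, hoi, isDominant_of_injective hj (imgιGr u) p chart hP pL chartL hPL r hr hL hinj⟩

end main

end Groth.Agent.Lib.Helper28.ImgAlg
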