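import Groth.Agent.Lib.Helper28.ImgAlg7

/-!
# Proper + good family for the canonical `Sym(q_* L) → q_* Sym(L)` with `q_* L` of finite type ⟹ projective (part 8)
-/

set_option autoImplicit false
universe u
open CategoryTheory CategoryTheory.Limits AlgebraicGeometry TopologicalSpace Opposite
open scoped HomogeneousIdeal
noncomputable section

namespace Groth.Agent.Lib.Helper28.ImgAlg

open Groth.Agent.Lib.Helper28 Groth.Agent.Lib.Helper28.QCohLoc Groth.Agent.Lib.Helper28.TraceAlg
open Groth.Agent.Lib.Helper28.SymAlg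
open Groth.Agent.Lib.Helper28.RLPsi Groth.Agent.Lib.Helper28.RLPsiU Groth.Agent.Lib.Helper28.FTApprox

section eight

variable {Y X : Scheme.{u}} (q : X ⟶ Y) {L : X.Modules}

/-- **a proper morphism with an invertible sheaf `L`, `q_* L` of finite type, and a good family for the canonical
`Sym(q_* L) → q_* Sym(L)` is projective** -/
theorem isProjective_of_family [IsProper q] (hL : PicF.IsInvertible L)
    (hft : CohB1.IsFT ((Scheme.Modules.pushforward q).obj L))
    (H : ∀ (_ : L.IsQuasicoherent) {𝒮L : RelProj.QCGrAlg X} {jL : L ⟶ 𝒮L.toModule} (_ : RelProj.IsGrSymAlg L 𝒮L jL)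
      {𝒜 : RelProj.QCGrAlg Y} {jA : (Scheme.Modules.pushforward q).obj L ⟶ 𝒜.toModule}
      (_ : RelProj.IsGrSymAlg ((Scheme.Modules.pushforward q).obj L) 𝒜 jA) (u : RelProj.QGrHom q 𝒜 𝒮L),
      (∀ (U : Y.Opens) (x : Γ((Scheme.Modules.pushforward q).obj L, U)),
        (u.app U).hom ((jA.app U) x) = (jL.app (q ⁻¹ᵁ U)) x) →
      ∃ (ι : Type u) (U : ι → Y.Opens) (hU : ∀ a, IsAffineOpen (U a)) (n : ι → ℕ)
        (s : ∀ a, 𝒜.presheaf.obj (op (U a))), IsGoodFamily u U hU n s) :
    RelProj.IsProjective q := by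
  classical
  have hLq : L.IsQuasicoherent := InvQC.isQuasicoherent_of_isInvertible L hL
  have hFq : ((Scheme.Modules.pushforward q).obj L).IsQuasicoherent := isQuasicoherent_pushforward q L
  have : SheafOfModules.IsFiniteType.{u} (R := Y.ringCatSheaf) ((Scheme.Modules.pushforward q).obj L) := hft
  have hQCL := isQC_symPre_of_isQuasicoherent L
  have hjL := isGrSymAlg L hQCL
  have hPL := RelProjExists.isRelProj (grSymAlg L hQCL)
  have hQC := isQC_symPre_of_isQuasicoherent ((Scheme.Modules.pushforward q).obj L)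
  have h𝒜 := isGrSymAlg ((Scheme.Modules.pushforward q).obj L) hQC
  obtain ⟨u, hu⟩ := exists_canonical_u q hjL h𝒜
  obtain ⟨ι₀, U, hU, n, s, hfam⟩ := H hLq hjL h𝒜 u hu
  have hs := surjCond_of_goodFamily hjL h𝒜 u _ _ hPL hL U hU n s hfam
  -- the image algebra
  have hP := RelProjExists.isRelProj (imgGr u)
  obtain ⟨r', hr', -⟩ := ProjQRel.existsUnique_glueW (imgιGr u) _ _ hP _ _ hPL
  have hr'On := ProjQRel.isProjQMapOn_of_glue (imgιGr u) _ _ _ _ r' hr'
  obtain ⟨htop', hoi, hdom⟩ := openImmersion_img hjL u _ _ hP _ _ hPL r' hr'On hL U hU n s hfam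
  have hO := RelTwistEx.isRelTwist hP 1
  have hsurj1 : SurjCond1 (imgιGr u) := by
    intro x
    obtain ⟨U₁, hU₁, e, V, hV, hVU, hxV, hsub⟩ := hs x
    exact ⟨U₁, hU₁, ((imgπ u.toQHom).hom.app (op U₁)).hom (((grJ _ hQC).app U₁) e),
      ⟨_, h𝒜.2 U₁ hU₁ e, rfl⟩, V, hV, hVU, hxV, hsub⟩
  obtain ⟨i, ⟨h1, h2, hi⟩, hip, -⟩ := exists_mor_of_surjCond1 hjL (imgιGr u) _ _ hP _ _ hPL r' hr'On hO hL hsurj1
  have hoi' : IsOpenImmersion i := by
    rw [hi]
    infer_instance
  have hdom' : IsDominant i := by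
    rw [hi]
    infer_instance
  have hsep : IsSeparated (RelProjExists.p (imgGr u)) := Groth.Agent.S8259.result _ _ _ hP
  have hprop : IsProper i := by
    have : IsProper (i ≫ RelProjExists.p (imgGr u)) := by rw [hip]; infer_instance
    exact IsProper.of_comp i (RelProjExists.p (imgGr u))
  have hsurj : Surjective i := by
    constructor
    have hcl : IsClosedMap i := i.isClosedMap
    have h1 : IsClosed (Set.range i) := hcl.isClosed_range
    have h2 : Set.range i = Set.univ := by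
      rw [← h1.closure_eq]
      exact hdom'.denseRange.closure_range
    exact Set.range_eq_univ.1 h2
  have hiso : IsIso i := (isIso_iff_isOpenImmersion_and_surjective i).2 ⟨hoi', hsurj⟩
  exact ⟨imgGr u, _, _, _, asIso i, isGenDegOne_imgGr u (isGenDegOne_of_isGrSymAlg h𝒜),
    isFTDeg_imgGr u 1 (isFTDeg_one_of_isGrSymAlg h𝒜), hP, hip⟩

end eight

end Groth.Agent.Lib.Helper28.ImgAlg
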