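import Groth.Agent.Lib.Helper28.ImmCover

/-!
# A criterion for immersions into an affine scheme through basic opens

`isImmersion_of_basicOpen_cover`: let `j : Z ⟶ T` with `T` affine and `G` a set of functions on `T` such that the basic
opens `Z_{j^♯ γ}`, `γ ∈ G`, are affine and cover `Z`, and every function on `Z_{j^♯ γ}` is of the form
`j^♯(a) / j^♯(γ)^n`.  Then `j` is an immersion.
-/

set_option autoImplicit false
universe u
open CategoryTheory CategoryTheory.Limits AlgebraicGeometry Opposite TopologicalSpace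
noncomputable section

namespace Groth.Agent.Lib.Helper28.ImmCover

theorem app_res_top {Z T : Scheme.{u}} (j : Z ⟶ T) (D : T.Opens) (r : Γ(T, ⊤)) :
    j.app D (T.presheaf.map (homOfLE (le_top : D ≤ ⊤)).op r) =
      Z.presheaf.map (homOfLE (le_top : j ⁻¹ᵁ D ≤ ⊤)).op (j.appTop r) := by
  have h := Scheme.Hom.naturality j (homOfLE (le_top : D ≤ ⊤)).op
  have h2 := congrArg (fun χ => χ.hom r) h
  simp only [CommRingCat.hom_comp, RingHom.comp_apply] at h2
  exact h2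

set_option backward.isDefEq.respectTransparency false in
theorem isImmersion_of_basicOpen_cover {Z T : Scheme.{u}} [IsAffine T] (j : Z ⟶ T) (G : Set Γ(T, ⊤))
    (h1 : ∀ z : Z, ∃ γ ∈ G, z ∈ Z.basicOpen (j.appTop γ))
    (h2 : ∀ γ ∈ G, IsAffineOpen (Z.basicOpen (j.appTop γ)))
    (h3 : ∀ γ ∈ G, ∀ t : Γ(Z, Z.basicOpen (j.appTop γ)), ∃ (a : Γ(T, ⊤)) (n : ℕ),
      t * (Z.presheaf.map (homOfLE (le_top : Z.basicOpen (j.appTop γ) ≤ ⊤)).op (j.appTop γ)) ^ n =
        Z.presheaf.map (homOfLE (le_top : Z.basicOpen (j.appTop γ) ≤ ⊤)).op (j.appTop a)) :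
    IsImmersion j := by
  refine isImmersion_of_cover j (fun γ : G => T.basicOpen γ.1) (fun γ => ?_) (fun z => ?_) (fun γ => ?_)
    (fun γ => ?_)
  · exact (isAffineOpen_top T).basicOpen γ.1
  · obtain ⟨γ, hγ, hz⟩ := h1 z
    refine ⟨⟨γ, hγ⟩, ?_⟩
    have : z ∈ j ⁻¹ᵁ T.basicOpen γ := by rw [Scheme.preimage_basicOpen_top]; exact hz
    exact this
  · rw [Scheme.preimage_basicOpen_top]
    exact h2 γ.1 γ.2
  · obtain ⟨γ, hγ⟩ := γ
    have key : ∀ (O : Z.Opens) (_ : O = Z.basicOpen (j.appTop γ)) (s : Γ(Z, O)), ∃ (a : Γ(T, ⊤)) (n : ℕ),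
        s * (Z.presheaf.map (homOfLE (le_top : O ≤ ⊤)).op (j.appTop γ)) ^ n =
          Z.presheaf.map (homOfLE (le_top : O ≤ ⊤)).op (j.appTop a) := by
      rintro O rfl s
      exact h3 γ hγ s
    intro s
    obtain ⟨a, n, han⟩ := key (j ⁻¹ᵁ T.basicOpen γ) (Scheme.preimage_basicOpen_top j γ) s
    have hu : IsUnit (T.presheaf.map (homOfLE (le_top : T.basicOpen γ ≤ ⊤)).op γ) :=
      T.toRingedSpace.isUnit_res_basicOpen γ
    obtain ⟨u, hu⟩ := hu
    refine ⟨T.presheaf.map (homOfLE (le_top : T.basicOpen γ ≤ ⊤)).op a * ((u⁻¹ : (Γ(T, T.basicOpen γ))ˣ) : Γ(T, T.basicOpen γ)) ^ n, ?_⟩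
    have hγu : Z.presheaf.map (homOfLE (le_top : j ⁻¹ᵁ T.basicOpen γ ≤ ⊤)).op (j.appTop γ) =
        j.app (T.basicOpen γ) (u : Γ(T, T.basicOpen γ)) := by
      rw [hu, app_res_top]
    have hunit : IsUnit (Z.presheaf.map (homOfLE (le_top : j ⁻¹ᵁ T.basicOpen γ ≤ ⊤)).op (j.appTop γ)) := by
      rw [hγu]
      exact u.isUnit.map _
    apply (hunit.pow n).mul_left_injective
    show _ * _ ^ n = s * _ ^ n
    rw [han, ← app_res_top j _ a, ← app_res_top j _ γ, ← hu, ← map_pow, ← map_mul]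
    congr 1
    rw [mul_assoc, ← mul_pow, ← Units.val_mul, inv_mul_cancel, Units.val_one, one_pow, mul_one]

end Groth.Agent.Lib.Helper28.ImmCover
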