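import Mathlib

/-!
# A criterion for immersions: chartwise closed immersions of affine schemes

* `isClosedImmersion_of_affine_cover`: a morphism is a closed immersion if the target has an affine open cover whose
  preimages are affine and on which the comorphism is surjective.
* `isImmersion_of_cover`: a morphism `j : Z ⟶ T` is an immersion if there are affine opens `V i` of `T` whose preimages
  are affine and cover `Z`, and on which the comorphism is surjective.
-/

set_option autoImplicit false
universe u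
open CategoryTheory CategoryTheory.Limits AlgebraicGeometry Opposite TopologicalSpace
noncomputable section

namespace Groth.Agent.Lib.Helper28.ImmCover

theorem surjective_comp {A B C : CommRingCat.{u}} (f : A ⟶ B) (g : B ⟶ C) (hf : Function.Surjective f)
    (hg : Function.Surjective g) : Function.Surjective (f ≫ g) := by
  intro c
  obtain ⟨b, rfl⟩ := hg c
  obtain ⟨a, rfl⟩ := hf b
  exact ⟨a, rfl⟩

theorem surjective_of_comp {A B C : CommRingCat.{u}} (f : A ⟶ B) (g : B ⟶ C)
    (h : Function.Surjective (f ≫ g)) : Function.Surjective g := by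
  intro c
  obtain ⟨a, rfl⟩ := h c
  exact ⟨f a, rfl⟩

theorem surjective_app_congr {Z W : Scheme.{u}} (j : Z ⟶ W) {V V' : W.Opens} (h : V = V')
    (hs : Function.Surjective (j.app V)) : Function.Surjective (j.app V') := by
  subst h; exact hs

theorem isAffineOpen_congr {Z : Scheme.{u}} {V V' : Z.Opens} (h : V = V') (hs : IsAffineOpen V) : IsAffineOpen V' := by
  subst h; exact hs

set_option backward.isDefEq.respectTransparency false in
theorem isClosedImmersion_of_affine_cover {Z W : Scheme.{u}} (j : Z ⟶ W) {ι : Type*} (U : ι → W.Opens)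
    (hU : ∀ i, IsAffineOpen (U i)) (hcov : iSup U = ⊤) (haff : ∀ i, IsAffineOpen (j ⁻¹ᵁ U i))
    (hsurj : ∀ i, Function.Surjective (j.app (U i))) : IsClosedImmersion j := by
  refine HasAffineProperty.of_iSup_eq_top (P := @IsClosedImmersion) (fun i => ⟨U i, hU i⟩) hcov (fun i => ?_)
  refine ⟨haff i, ?_⟩
  rw [morphismRestrict_appTop]
  have e : (U i).ι ''ᵁ ⊤ = U i := by
    rw [Scheme.Hom.image_top_eq_opensRange, Scheme.Opens.opensRange_ι]
  have h1 : Function.Surjective (j.app ((U i).ι ''ᵁ ⊤)) := surjective_app_congr j e.symm (hsurj i)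
  exact surjective_comp _ _ h1 (ConcreteCategory.bijective_of_isIso (Z.presheaf.map (eqToHom _).op)).2

set_option backward.isDefEq.respectTransparency false in
theorem isImmersion_of_cover {Z T : Scheme.{u}} (j : Z ⟶ T) {ι : Type*} (V : ι → T.Opens)
    (hV : ∀ i, IsAffineOpen (V i)) (hcov : ∀ z : Z, ∃ i, j z ∈ V i)
    (haff : ∀ i, IsAffineOpen (j ⁻¹ᵁ V i)) (hsurj : ∀ i, Function.Surjective (j.app (V i))) :
    IsImmersion j := by
  let W : T.Opens := iSup V
  have hVW : ∀ i, V i ≤ W := fun i => le_iSup V i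
  have hr : Set.range j ⊆ Set.range W.ι := by
    rw [Scheme.Opens.range_ι]
    rintro _ ⟨z, rfl⟩
    obtain ⟨i, hi⟩ := hcov z
    exact hVW i hi
  let j' : Z ⟶ W := IsOpenImmersion.lift W.ι j hr
  have hj' : j' ≫ W.ι = j := IsOpenImmersion.lift_fac _ _ _
  have himg : ∀ i, W.ι ''ᵁ (W.ι ⁻¹ᵁ V i) = V i := by
    intro i
    rw [Scheme.Hom.image_preimage_eq_opensRange_inf, Scheme.Opens.opensRange_ι]
    exact inf_eq_right.2 (hVW i)
  have hci : IsClosedImmersion j' := by
    refine isClosedImmersion_of_affine_cover j' (fun i => W.ι ⁻¹ᵁ V i) (fun i => ?_) ?_ (fun i => ?_) (fun i => ?_)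
    · rw [← Scheme.Hom.isAffineOpen_iff_of_isOpenImmersion W.ι, himg]
      exact hV i
    · rw [eq_top_iff]
      intro w _
      have hw : w.1 ∈ iSup V := w.2
      obtain ⟨i, hi⟩ := Opens.mem_iSup.1 hw
      exact Opens.mem_iSup.2 ⟨i, hi⟩
    · have e : j ⁻¹ᵁ V i = j' ⁻¹ᵁ (W.ι ⁻¹ᵁ V i) := by
        rw [← Scheme.Hom.comp_preimage, hj']
      exact isAffineOpen_congr e (haff i)
    · have h1 := Scheme.Hom.congr_app hj' (V i)
      rw [Scheme.Hom.comp_app] at h1
      have h2 : Function.Surjective (W.ι.app (V i) ≫ j'.app (W.ι ⁻¹ᵁ V i)) := by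
        rw [h1]
        exact surjective_comp _ _ (hsurj i)
          (ConcreteCategory.bijective_of_isIso (Z.presheaf.map (eqToHom _).op)).2
      exact surjective_of_comp _ _ h2
  rw [← hj']
  infer_instance

end Groth.Agent.Lib.Helper28.ImmCover
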