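import Groth.Agent.Lib.Helper28.QAffImm

/-!
# Immersions into affine schemes: chartwise description and finite type approximation of the coordinate ring

* `exists_basicOpen_of_isImmersion`: an immersion `j : Z ⟶ T` into an affine scheme is, around every point, a closed
  immersion of an affine basic open `Z_{j^♯ γ}` into `T_γ`: every function on `Z_{j^♯ γ}` is `j^♯(a) / j^♯(γ)^n`.
* `exists_finset_isImmersion_of_isImmersion`: if `Z ⟶ Spec R` is an immersion with `Z` quasi-compact and of finite type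
  over `A`, then `Z ⟶ Spec R'` is an immersion for every `R' ⟶ R` whose range contains a suitable finite subset of `R`
  (and enough of the image of `A`).
-/

set_option autoImplicit false
universe u
open CategoryTheory CategoryTheory.Limits AlgebraicGeometry Opposite TopologicalSpace
noncomputable section

namespace Groth.Agent.Lib.Helper28.ImmCover

theorem surjective_of_comp_iso {A B C : CommRingCat.{u}} (f : A ⟶ B) (g : B ⟶ C) [IsIso g]
    (h : Function.Surjective (f ≫ g)) : Function.Surjective f := by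
  intro b
  obtain ⟨a, ha⟩ := h (g b)
  refine ⟨a, ?_⟩
  exact (ConcreteCategory.bijective_of_isIso g).1 ha

set_option backward.isDefEq.respectTransparency false in
theorem exists_basicOpen_of_isImmersion {Z T : Scheme.{u}} [IsAffine T] (j : Z ⟶ T) [IsImmersion j] (z : Z) :
    ∃ γ : Γ(T, ⊤), z ∈ Z.basicOpen (j.appTop γ) ∧ IsAffineOpen (Z.basicOpen (j.appTop γ)) ∧
      ∀ t : Γ(Z, Z.basicOpen (j.appTop γ)), ∃ (a : Γ(T, ⊤)) (n : ℕ),
        t * (resT (Z.basicOpen (j.appTop γ)) (j.appTop γ)) ^ n = resT (Z.basicOpen (j.appTop γ)) (j.appTop a) := by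
  let W := j.coborderRange
  have hzW : j z ∈ W := by
    have h : Set.range j ⊆ (W : Set T) := subset_coborder
    exact h ⟨z, rfl⟩
  obtain ⟨γ, hγW, hzγ⟩ := (isAffineOpen_top T).exists_basicOpen_le (V := W) ⟨j z, hzW⟩ trivial
  let D := T.basicOpen γ
  let U' : W.toScheme.Opens := W.ι ⁻¹ᵁ D
  have himg : W.ι ''ᵁ U' = D := by
    rw [Scheme.Hom.image_preimage_eq_opensRange_inf, Scheme.Opens.opensRange_ι]
    exact inf_eq_right.2 hγW
  have hD : IsAffineOpen D := (isAffineOpen_top T).basicOpen γ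
  have hU' : IsAffineOpen U' := by
    rw [← Scheme.Hom.isAffineOpen_iff_of_isOpenImmersion W.ι, himg]
    exact hD
  have hpre : j.liftCoborder ⁻¹ᵁ U' = j ⁻¹ᵁ D := by
    rw [Scheme.Hom.liftCoborder_preimage, himg]
  have haffpre : IsAffineOpen (j ⁻¹ᵁ D) := isAffineOpen_congr hpre (hU'.preimage j.liftCoborder)
  have hs1 : Function.Surjective (j.liftCoborder.app U') := Scheme.Hom.app_surjective j.liftCoborder U' hU'
  rw [liftCoborder_app] at hs1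
  have hs2 : Function.Surjective (j.app (W.ι ''ᵁ U')) := surjective_of_comp_iso _ _ hs1
  have hs3 : Function.Surjective (j.app D) := surjective_app_congr j himg hs2
  have e : j ⁻¹ᵁ D = Z.basicOpen (j.appTop γ) := Scheme.preimage_basicOpen_top j γ
  have key : ∀ (O : Z.Opens) (_ : j ⁻¹ᵁ D = O), z ∈ O ∧ IsAffineOpen O ∧
      ∀ t : Γ(Z, O), ∃ (a : Γ(T, ⊤)) (n : ℕ), t * (resT O (j.appTop γ)) ^ n = resT O (j.appTop a) := by
    rintro O rfl
    refine ⟨hzγ, haffpre, fun t => ?_⟩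
    obtain ⟨x, rfl⟩ := hs3 t
    obtain ⟨n, y, hy⟩ := exists_eq_pow_mul_of_isAffineOpen T ⊤ (isAffineOpen_top T) γ x
    refine ⟨y, n, ?_⟩
    have hy' : T.presheaf.map (homOfLE (le_top : D ≤ ⊤)).op y =
        (T.presheaf.map (homOfLE (le_top : D ≤ ⊤)).op γ) ^ n * x := hy
    have h1 := congrArg (j.app D) hy'
    rw [app_res_top, map_mul, map_pow, app_res_top] at h1
    show _ = resT (j ⁻¹ᵁ D) (j.appTop y)
    rw [mul_comm]
    exact h1.symm
  exact ⟨γ, key _ e⟩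

/-- the finite data attached to an affine basic open on which the functions are fractions from `R` -/
theorem exists_finset_gen' {Z : Scheme.{u}} {A R : CommRingCat.{u}} (φ : A ⟶ Γ(Z, ⊤)) (ρ₀ : R ⟶ Γ(Z, ⊤)) (c : R)
    (hft : (φ ≫ resT (Z.basicOpen (ρ₀ c))).hom.FiniteType)
    (hsurj : ∀ t : Γ(Z, Z.basicOpen (ρ₀ c)), ∃ (a : R) (n : ℕ),
      t * (resT (Z.basicOpen (ρ₀ c)) (ρ₀ c)) ^ n = resT (Z.basicOpen (ρ₀ c)) (ρ₀ a)) :
    ∃ F : Finset R, ∀ (R' : CommRingCat.{u}) (ψ : R' ⟶ R), (∀ x ∈ F, x ∈ Set.range ψ) →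
      (∀ a₀, φ a₀ ∈ Set.range (ψ ≫ ρ₀)) → c ∈ Set.range ψ →
      ∀ t : Γ(Z, Z.basicOpen (ρ₀ c)), ∃ (a' : R') (n : ℕ),
        t * (resT (Z.basicOpen (ρ₀ c)) (ρ₀ c)) ^ n = resT (Z.basicOpen (ρ₀ c)) (ρ₀ (ψ a')) := by
  classical
  letI alg : Algebra A Γ(Z, Z.basicOpen (ρ₀ c)) := (φ ≫ resT (Z.basicOpen (ρ₀ c))).hom.toAlgebra
  have hft' : Algebra.FiniteType A Γ(Z, Z.basicOpen (ρ₀ c)) := hft
  obtain ⟨T, hT⟩ := hft'.out
  choose yy nn hyy using hsurj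
  refine ⟨T.image yy, fun R' ψ hF hA hc t => ?_⟩
  obtain ⟨bc, hbc⟩ := hc
  have hmem : t ∈ Algebra.adjoin A (T : Set Γ(Z, Z.basicOpen (ρ₀ c))) := by rw [hT]; trivial
  induction hmem using Algebra.adjoin_induction with
  | mem x hx =>
    obtain ⟨a, ha⟩ := hF (yy x) (Finset.mem_image_of_mem _ (Finset.mem_coe.1 hx))
    refine ⟨a, nn x, ?_⟩
    rw [ha, hyy]
  | algebraMap a₀ =>
    obtain ⟨a, ha⟩ := hA a₀
    refine ⟨a, 0, ?_⟩
    rw [pow_zero, mul_one]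
    have ha' : ρ₀ (ψ a) = φ a₀ := ha
    rw [ha']
    rfl
  | add x y _ _ hx hy =>
    obtain ⟨a, n, ha⟩ := hx
    obtain ⟨b, m, hb⟩ := hy
    refine ⟨a * bc ^ m + b * bc ^ n, n + m, ?_⟩
    rw [map_add, map_add, map_add, map_mul, map_mul, map_mul, map_mul, map_mul, map_mul, map_pow, map_pow,
      map_pow, map_pow, map_pow, map_pow, hbc, ← ha, ← hb]
    ring
  | mul x y _ _ hx hy =>
    obtain ⟨a, n, ha⟩ := hx
    obtain ⟨b, m, hb⟩ := hy
    refine ⟨a * b, n + m, ?_⟩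
    rw [map_mul, map_mul, map_mul, ← ha, ← hb]
    ring

set_option backward.isDefEq.respectTransparency false in
theorem exists_finset_isImmersion_of_isImmersion {Z : Scheme.{u}} [CompactSpace Z] {A R : CommRingCat.{u}}
    (φ : A ⟶ Γ(Z, ⊤)) (ρ₀ : R ⟶ Γ(Z, ⊤)) (himm : IsImmersion (Z.toSpecΓ ≫ Spec.map ρ₀))
    (hft : ∀ U : Z.Opens, IsAffineOpen U → (φ ≫ resT U).hom.FiniteType) :
    ∃ F : Finset R, ∀ (R' : CommRingCat.{u}) (ψ : R' ⟶ R), (∀ x ∈ F, x ∈ Set.range ψ) →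
      (∀ a₀, φ a₀ ∈ Set.range (ψ ≫ ρ₀)) → IsImmersion (Z.toSpecΓ ≫ Spec.map (ψ ≫ ρ₀)) := by
  classical
  let j₀ := Z.toSpecΓ ≫ Spec.map ρ₀
  have hcov : ∀ z : Z, ∃ c : R, z ∈ Z.basicOpen (ρ₀ c) ∧ IsAffineOpen (Z.basicOpen (ρ₀ c)) ∧
      ∀ t : Γ(Z, Z.basicOpen (ρ₀ c)), ∃ (a : R) (n : ℕ),
        t * (resT (Z.basicOpen (ρ₀ c)) (ρ₀ c)) ^ n = resT (Z.basicOpen (ρ₀ c)) (ρ₀ a) := by
    intro z
    obtain ⟨γ, h1, h2, h3⟩ := exists_basicOpen_of_isImmersion j₀ z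
    have hγ : j₀.appTop γ = ρ₀ ((Scheme.ΓSpecIso R).hom γ) := by
      have := appTop_toSpecΓ_SpecMap ρ₀ ((Scheme.ΓSpecIso R).hom γ)
      rw [Iso.hom_inv_id_apply] at this
      exact this
    have key : ∀ (r' : Γ(Z, ⊤)) (_ : j₀.appTop γ = r'), z ∈ Z.basicOpen r' ∧ IsAffineOpen (Z.basicOpen r') ∧
        ∀ t : Γ(Z, Z.basicOpen r'), ∃ (a : R) (n : ℕ),
          t * (resT (Z.basicOpen r') r') ^ n = resT (Z.basicOpen r') (ρ₀ a) := by
      rintro r' rfl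
      refine ⟨h1, h2, fun t => ?_⟩
      obtain ⟨a, n, ha⟩ := h3 t
      refine ⟨(Scheme.ΓSpecIso R).hom a, n, ?_⟩
      have hγa : j₀.appTop a = ρ₀ ((Scheme.ΓSpecIso R).hom a) := by
        have := appTop_toSpecΓ_SpecMap ρ₀ ((Scheme.ΓSpecIso R).hom a)
        rw [Iso.hom_inv_id_apply] at this
        exact this
      rw [← hγa]
      exact ha
    exact ⟨_, key _ hγ⟩
  choose cc hzcc haff hsurj using hcov
  obtain ⟨s, hs⟩ := CompactSpace.elim_nhds_subcover (fun z => ((Z.basicOpen (ρ₀ (cc z)) : Z.Opens) : Set Z))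
    (fun z => (Z.basicOpen (ρ₀ (cc z))).isOpen.mem_nhds (hzcc z))
  have hF := fun z => exists_finset_gen' φ ρ₀ (cc z) (hft _ (haff z)) (hsurj z)
  choose FF hFF using hF
  refine ⟨s.image cc ∪ s.biUnion FF, fun R' ψ hFψ hA => ?_⟩
  have hcψ : ∀ z ∈ s, cc z ∈ Set.range ψ := fun z hz =>
    hFψ _ (Finset.mem_union_left _ (Finset.mem_image_of_mem _ hz))
  have hFFψ : ∀ z ∈ s, ∀ x ∈ FF z, x ∈ Set.range ψ := fun z hz x hx =>
    hFψ _ (Finset.mem_union_right _ (Finset.mem_biUnion.2 ⟨z, hz, hx⟩))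
  let j := Z.toSpecΓ ≫ Spec.map (ψ ≫ ρ₀)
  refine isImmersion_of_basicOpen_cover j
    {γ | ∃ z ∈ s, j.appTop γ = ρ₀ (cc z)} ?_ ?_ ?_
  · intro z
    have hz : z ∈ ⋃ x ∈ s, ((Z.basicOpen (ρ₀ (cc x)) : Z.Opens) : Set Z) := by rw [hs]; trivial
    simp only [Set.mem_iUnion] at hz
    obtain ⟨x, hx, hzx⟩ := hz
    obtain ⟨b, hb⟩ := hcψ x hx
    have hjb : j.appTop ((Scheme.ΓSpecIso R').inv b) = ρ₀ (cc x) := by
      rw [appTop_toSpecΓ_SpecMap, CommRingCat.comp_apply]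
      erw [hb]
    refine ⟨(Scheme.ΓSpecIso R').inv b, ⟨x, hx, hjb⟩, ?_⟩
    rw [hjb]
    exact hzx
  · rintro γ ⟨z, hz, hγ⟩
    rw [hγ]
    exact haff z
  · rintro γ ⟨z, hz, hγ⟩
    have key : ∀ (r' : Γ(Z, ⊤)) (_ : r' = ρ₀ (cc z)) (t : Γ(Z, Z.basicOpen r')), ∃ (a : Γ(Spec R', ⊤)) (n : ℕ),
        t * (resT (Z.basicOpen r') r') ^ n = resT (Z.basicOpen r') (j.appTop a) := by
      rintro r' rfl t
      obtain ⟨a, n, ha⟩ := hFF z R' ψ (hFFψ z hz) hA (hcψ z hz) t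
      refine ⟨(Scheme.ΓSpecIso R').inv a, n, ?_⟩
      rw [appTop_toSpecΓ_SpecMap]
      exact ha
    exact key _ hγ

end Groth.Agent.Lib.Helper28.ImmCover
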