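import Groth.Agent.Lib.Helper17.QCAlgSub

/-!
# Finite type quasi-coherent sub-algebras containing finitely many given local sections
-/

set_option autoImplicit false
universe u
open CategoryTheory CategoryTheory.Limits AlgebraicGeometry Opposite TopologicalSpace
noncomputable section

namespace Groth.Agent.Lib.Helper28.QCAlgFinSub

open Groth.Agent.Lib.Helper17.QCAlgGen Groth.Agent.Lib.Helper17.QCAlgSub

variable {Y : Scheme.{u}} [CompactSpace Y] [QuasiSeparatedSpace Y] (B : RelSpec.QCAlg Y)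

theorem exists_submodule_of_finite (l : Finset (Σ V : Y.affineOpens, B.presheaf.obj (op V.1))) :
    ∃ (E : Y.Modules) (j : E ⟶ B.toModule), E.IsQuasicoherent ∧
      SheafOfModules.IsFiniteType.{u} (R := Y.ringCatSheaf) E ∧
      ∀ p ∈ l, ∃ g : Γ(E, p.1.1), j.app p.1.1 g = p.2 := by
  classical
  induction l using Finset.induction_on with
  | empty =>
    obtain ⟨E, j, -, hq, hft, -⟩ := exists_sub_through B.toModule (isAffineOpen_bot Y) PEmpty.{u+1}
      (fun k => k.elim)
    exact ⟨E, j, hq, hft, fun p hp => absurd hp (Finset.notMem_empty p)⟩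
  | insert p l _ ih =>
    obtain ⟨E₁, j₁, hq₁, hft₁, h₁⟩ := ih
    obtain ⟨E₂, j₂, -, hq₂, hft₂, h₂⟩ := exists_sub_through B.toModule p.1.2 PUnit.{u+1}
      (fun _ => (show Γ(B.toModule, p.1.1) from p.2))
    haveI := hq₁
    haveI := hft₁
    haveI := hq₂
    haveI := hft₂
    obtain ⟨E, j, -, hq, hft, hE₁, hE₂⟩ := exists_sum B.toModule j₁ j₂
    refine ⟨E, j, hq, hft, fun q hq' => ?_⟩
    rcases Finset.mem_insert.1 hq' with rfl | hql
    · obtain ⟨g, hg⟩ := h₂ PUnit.unit
      obtain ⟨e', he'⟩ := hE₂ q.1.1 g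
      exact ⟨e', he'.trans hg⟩
    · obtain ⟨g, hg⟩ := h₁ q hql
      obtain ⟨e', he'⟩ := hE₁ q.1.1 g
      exact ⟨e', he'.trans hg⟩

/-- **a quasi-coherent sub-algebra of finite type containing finitely many given local sections** -/
theorem exists_subAlg_of_finite (l : Finset (Σ V : Y.affineOpens, B.presheaf.obj (op V.1))) :
    ∃ (B' : RelSpec.QCAlg Y) (φ : B' ⟶ B),
      (∀ V : Y.Opens, Function.Injective (φ.hom.app (op V)).hom) ∧
      (∀ V : Y.affineOpens, (B'.str.app (op (V : Y.Opens))).hom.FiniteType) ∧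
      ∀ p ∈ l, p.2 ∈ Set.range (φ.hom.app (op p.1.1)).hom := by
  obtain ⟨E, j, hq, hft, hsec⟩ := exists_submodule_of_finite B l
  haveI := hq
  haveI := hft
  refine ⟨subAlg j, subAlgι j, subAlgι_injective j, fun V => finiteType_subAlg j V.2, fun p hp => ?_⟩
  obtain ⟨g, hg⟩ := hsec p hp
  have hb : p.2 ∈ Subring.closure (genSet j p.1.1) := by
    have := jB_mem j p.1.1 g
    have e : jB j p.1.1 g = p.2 := hg
    rwa [e] at this
  exact ⟨⟨p.2, locMem_of_mem_closure j p.1.2 hb⟩, rfl⟩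

end Groth.Agent.Lib.Helper28.QCAlgFinSub
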