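import Groth.Agent.Lib.Helper28.QAffImm
import Groth.Agent.Lib.Helper28.QCAlgFinSub
import Groth.Agent.Lib.Helper28.RelSpecCover
import Groth.Agent.Lib.Helper4.QAffRelSpec
import Groth.Prelude.Def_Mor2

/-!
# A quasi-affine morphism of finite type over a quasi-compact separated base factors as an immersion followed by an
affine morphism of finite type (EGA II 5.1.9)
-/

set_option autoImplicit false
universe u
open CategoryTheory CategoryTheory.Limits AlgebraicGeometry Opposite TopologicalSpace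
noncomputable section

namespace Groth.Agent.Lib.Helper28.QAffFactor

open Groth.Agent.Lib.Helper28.ImmCover Groth.Agent.Lib.Helper28.QCAlgFinSub Groth.Agent.Lib.Helper4

variable {X Y : Scheme.{u}}

theorem isImmersion_ι_comp_of_eq {X Z : Scheme.{u}} (c : X ⟶ Z) (W W' : X.Opens) (h : W = W')
    (hW : IsImmersion (W'.ι ≫ c)) : IsImmersion (W.ι ≫ c) := by
  subst h; exact hW

/-- the structure homomorphism `Γ(Y, V) ⟶ Γ(f⁻¹V, ⊤)` -/
def strV (f : X ⟶ Y) (V : Y.Opens) : Γ(Y, V) ⟶ Γ((f ⁻¹ᵁ V : Scheme.{u}), ⊤) :=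
  f.app V ≫ (f ⁻¹ᵁ V).topIso.inv

set_option backward.isDefEq.respectTransparency false in
theorem strV_resT (f : X ⟶ Y) (V : Y.Opens) (U : (f ⁻¹ᵁ V : Scheme.{u}).Opens) :
    strV f V ≫ resT U = f.appLE V ((f ⁻¹ᵁ V).ι ''ᵁ U) ((f ⁻¹ᵁ V).ι_image_le U) := by
  unfold strV resT Scheme.Hom.appLE
  rw [Category.assoc]
  congr 1
  unfold Scheme.Opens.topIso
  rw [Functor.mapIso_inv, Scheme.Opens.toScheme_presheaf_map, ← Functor.map_comp]
  rfl

theorem finiteType_strV_resT (f : X ⟶ Y) [LocallyOfFiniteType f] {V : Y.Opens} (hV : IsAffineOpen V)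
    (U : (f ⁻¹ᵁ V : Scheme.{u}).Opens) (hU : IsAffineOpen U) : (strV f V ≫ resT U).hom.FiniteType := by
  rw [strV_resT]
  exact LocallyOfFiniteType.finiteType_appLE f hV (hU.image_of_isOpenImmersion (f ⁻¹ᵁ V).ι) _

theorem quasiSeparated_of_isQuasiAffine (f : X ⟶ Y) (hf : Mor2.IsQuasiAffine f) : QuasiSeparated f := by
  rw [HasAffineProperty.eq_targetAffineLocally (P := @QuasiSeparated)]
  intro U
  haveI : (f ⁻¹ᵁ U.1 : Scheme.{u}).IsQuasiAffine := hf.2 U.1 U.2
  show QuasiSeparatedSpace ↥(f ⁻¹ᵁ U.1 : Scheme.{u})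
  infer_instance

set_option backward.isDefEq.respectTransparency false in
/-- **EGA II 5.1.9** -/
theorem exists_factor [CompactSpace Y] [Y.IsSeparated] (f : X ⟶ Y) (hf : Mor2.IsQuasiAffine f)
    [LocallyOfFiniteType f] :
    ∃ (X'' : Scheme.{u}) (g : X'' ⟶ Y) (j : X ⟶ X''),
      IsAffineHom g ∧ LocallyOfFiniteType g ∧ IsImmersion j ∧ j ≫ g = f := by
  classical
  haveI : QuasiCompact f := hf.1
  haveI : QuasiSeparated f := quasiSeparated_of_isQuasiAffine f hf
  haveI : QuasiSeparatedSpace Y := inferInstance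
  let B := RelSpec.QCAlg.directImage f
  -- a finite affine cover of `Y`
  have hnb : ∀ y : Y, ∃ V : Y.Opens, IsAffineOpen V ∧ y ∈ V := by
    intro y
    obtain ⟨_, ⟨V, hV, rfl⟩, hyV, -⟩ := Y.isBasis_affineOpens.exists_subset_of_mem_open (Set.mem_univ y) isOpen_univ
    exact ⟨V, hV, hyV⟩
  choose VV hVV hyVV using hnb
  obtain ⟨t, ht⟩ := CompactSpace.elim_nhds_subcover (fun y => ((VV y : Y.Opens) : Set Y))
    (fun y => (VV y).isOpen.mem_nhds (hyVV y))
  -- the local finite data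
  have hqa : ∀ y : Y, (f ⁻¹ᵁ VV y : Scheme.{u}).IsQuasiAffine := fun y => hf.2 (VV y) (hVV y)
  have hloc := fun y : Y => @exists_finset_isImmersion (f ⁻¹ᵁ VV y : Scheme.{u}) (hqa y) Γ(Y, VV y)
    (strV f (VV y)) (fun U hU => finiteType_strV_resT f (hVV y) U hU)
  choose FF hFF using hloc
  let l : Finset (Σ V : Y.affineOpens, B.presheaf.obj (op V.1)) :=
    t.biUnion (fun y => (FF y).image (fun x => ⟨⟨VV y, hVV y⟩, (f ⁻¹ᵁ VV y).topIso.hom x⟩))
  obtain ⟨B', φ, -, hftB', hl⟩ := exists_subAlg_of_finite B l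
  -- the morphism
  have hcomm : B'.π.c ≫ (B'.gammaMap ≫ φ.hom) = f.c := by
    rw [← Category.assoc, B'.π_c_gammaMap]
    exact φ.comm
  obtain ⟨⟨j, e⟩, hj⟩ := (AffAlgBij.main3569 B'.π f).2 ⟨B'.gammaMap ≫ φ.hom, hcomm⟩
  have hj' : B'.gammaMap ≫ φ.hom = AffAlg.algHom B'.π f j e := (congrArg Subtype.val hj).symm
  refine ⟨B'.spec, B'.π, j, inferInstance, ?_, ?_, e⟩
  · refine RelSpecCover.prop_of_charts B' @LocallyOfFiniteType (fun y => ?_)
    refine ⟨VV y, hVV y, hyVV y, (HasRingHomProperty.Spec_iff (P := @LocallyOfFiniteType)).2 ?_⟩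
    exact hftB' ⟨VV y, hVV y⟩
  · apply IsZariskiLocalAtTarget.of_iSup_eq_top (P := @IsImmersion) (fun y : t => B'.π ⁻¹ᵁ VV y.1)
    · rw [← Scheme.Hom.preimage_iSup, eq_top_iff]
      intro x _
      have hx : B'.π x ∈ ⋃ y ∈ t, ((VV y : Y.Opens) : Set Y) := by rw [ht]; trivial
      simp only [Set.mem_iUnion] at hx
      obtain ⟨y, hy, hxy⟩ := hx
      exact Opens.mem_iSup.2 ⟨⟨y, hy⟩, hxy⟩
    · rintro ⟨y, hy⟩
      have h1 : IsImmersion ((j ∣_ (B'.π ⁻¹ᵁ VV y)) ≫ (B'.π ⁻¹ᵁ VV y).ι) := by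
        rw [morphismRestrict_ι]
        apply isImmersion_ι_comp_of_eq j _ (f ⁻¹ᵁ VV y)
        · exact congrArg (fun t : X ⟶ Y => t ⁻¹ᵁ VV y) e
        · rw [QAffRelSpec.ι_comp_classify B' f j e φ.hom hj' (VV y) (hVV y)]
          have h2 : IsImmersion ((f ⁻¹ᵁ VV y).toSpecΓ ≫ Spec.map (φ.hom.app (op (VV y)))) := by
            have h3 : (f ⁻¹ᵁ VV y).toSpecΓ ≫ Spec.map (φ.hom.app (op (VV y))) =
                (f ⁻¹ᵁ VV y : Scheme.{u}).toSpecΓ ≫
                  Spec.map (φ.hom.app (op (VV y)) ≫ (f ⁻¹ᵁ VV y).topIso.inv) := by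
              rw [Spec.map_comp]
              rfl
            rw [h3]
            refine hFF y _ _ (fun x hx => ?_) (fun a => ?_)
            · have hmem : (⟨⟨VV y, hVV y⟩, (f ⁻¹ᵁ VV y).topIso.hom x⟩ :
                  Σ V : Y.affineOpens, B.presheaf.obj (op V.1)) ∈ l :=
                Finset.mem_biUnion.2 ⟨y, hy, Finset.mem_image_of_mem _ hx⟩
              obtain ⟨b', hb'⟩ := hl _ hmem
              refine ⟨b', ?_⟩
              rw [CommRingCat.comp_apply]
              erw [hb']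
              exact Iso.hom_inv_id_apply (f ⁻¹ᵁ VV y).topIso x
            · refine ⟨(B'.str.app (op (VV y))).hom a, ?_⟩
              have h4 := congrArg (fun χ => (χ.app (op (VV y))).hom a) φ.comm
              rw [CommRingCat.comp_apply]
              erw [h4]
              rfl
          haveI := h2
          rw [← Category.assoc]
          infer_instance
      exact IsImmersion.of_comp _ (B'.π ⁻¹ᵁ VV y).ι

end Groth.Agent.Lib.Helper28.QAffFactor
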