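import Groth.Agent.Lib.Helper28.ImmSubAlgA
import Groth.Agent.Lib.Helper28.QAffFactor
import Groth.Agent.S8255

/-!
# An immersion into a relative spectrum factors through the relative spectrum of a sub-algebra of finite type
-/

set_option autoImplicit false
universe u
open CategoryTheory CategoryTheory.Limits AlgebraicGeometry Opposite TopologicalSpace
noncomputable section

namespace Groth.Agent.Lib.Helper28.QAffFactor

open Groth.Agent.Lib.Helper28.ImmCover Groth.Agent.Lib.Helper28.QCAlgFinSub Groth.Agent.Lib.Helper4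

variable {X Y : Scheme.{u}}

set_option backward.isDefEq.respectTransparency false in
theorem exists_subAlg_isImmersion [CompactSpace Y] [QuasiSeparatedSpace Y]
    (f : X ⟶ Y) [LocallyOfFiniteType f] [QuasiCompact f] [QuasiSeparated f]
    (C : RelSpec.QCAlg Y) (g : X ⟶ C.spec) (hg : g ≫ C.π = f) (himm : IsImmersion g) :
    ∃ (C' : RelSpec.QCAlg Y) (φ : C' ⟶ C),
      (∀ U : Y.Opens, Function.Injective (φ.hom.app (op U)).hom) ∧
      (∀ U : Y.affineOpens, (C'.str.app (op (U : Y.Opens))).hom.FiniteType) ∧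
      IsImmersion (g ≫ RelSpec.QCAlg.specMap φ) := by
  classical
  haveI : IsIso C.gammaMap := Groth.Agent.S8255.result C
  let ω : C.presheaf ⟶ AffAlg.alg f := inv C.gammaMap ≫ AffAlg.algHom C.π f g hg
  have hω : C.gammaMap ≫ ω = AffAlg.algHom C.π f g hg := IsIso.hom_inv_id_assoc _ _
  have hstr : C.str ≫ ω = f.c := by
    rw [← C.π_c_gammaMap, Category.assoc, hω]
    exact AffAlg.algHom_comm C.π f g hg
  have hchart : ∀ (V : Y.Opens) (hV : IsAffineOpen V),
      (f ⁻¹ᵁ V).ι ≫ g = (f ⁻¹ᵁ V).toSpecΓ ≫ Spec.map (ω.app (op V)) ≫ C.ι V hV := fun V hV =>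
    QAffRelSpec.ι_comp_classify C f g hg ω hω V hV
  have hsplit : ∀ (V : Y.Opens) {R' : CommRingCat.{u}} (κ : R' ⟶ Γ(X, f ⁻¹ᵁ V)),
      (f ⁻¹ᵁ V).toSpecΓ ≫ Spec.map κ =
        (f ⁻¹ᵁ V : Scheme.{u}).toSpecΓ ≫ Spec.map (κ ≫ (f ⁻¹ᵁ V).topIso.inv) := by
    intro V R' κ
    rw [Spec.map_comp]
    rfl
  -- a finite affine cover of `Y`
  have hnb : ∀ y : Y, ∃ V : Y.Opens, IsAffineOpen V ∧ y ∈ V := by
    intro y
    obtain ⟨_, ⟨V, hV, rfl⟩, hyV, -⟩ := Y.isBasis_affineOpens.exists_subset_of_mem_open (Set.mem_univ y) isOpen_univ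
    exact ⟨V, hV, hyV⟩
  choose VV hVV hyVV using hnb
  obtain ⟨t, ht⟩ := CompactSpace.elim_nhds_subcover (fun y => ((VV y : Y.Opens) : Set Y))
    (fun y => (VV y).isOpen.mem_nhds (hyVV y))
  have hcpt : ∀ y : Y, CompactSpace ↥(f ⁻¹ᵁ VV y : Scheme.{u}) := fun y =>
    isCompact_iff_compactSpace.mp (f.isCompact_preimage (hVV y).isCompact)
  have himmV : ∀ y : Y, IsImmersion ((f ⁻¹ᵁ VV y : Scheme.{u}).toSpecΓ ≫
      Spec.map (ω.app (op (VV y)) ≫ (f ⁻¹ᵁ VV y).topIso.inv)) := by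
    intro y
    rw [← hsplit]
    have h1 : IsImmersion (((f ⁻¹ᵁ VV y).toSpecΓ ≫ Spec.map (ω.app (op (VV y)))) ≫ C.ι (VV y) (hVV y)) := by
      rw [Category.assoc, ← hchart]
      infer_instance
    exact IsImmersion.of_comp _ (C.ι (VV y) (hVV y))
  have hloc := fun y : Y => @exists_finset_isImmersion_of_isImmersion (f ⁻¹ᵁ VV y : Scheme.{u}) (hcpt y)
    Γ(Y, VV y) (C.presheaf.obj (op (VV y))) (strV f (VV y)) (ω.app (op (VV y)) ≫ (f ⁻¹ᵁ VV y).topIso.inv)
    (himmV y) (fun U hU => finiteType_strV_resT f (hVV y) U hU)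
  choose FF hFF using hloc
  let l : Finset (Σ V : Y.affineOpens, C.presheaf.obj (op V.1)) :=
    t.biUnion (fun y => (FF y).image (fun x => ⟨⟨VV y, hVV y⟩, x⟩))
  obtain ⟨C', φ, hinj, hftC', hl⟩ := exists_subAlg_of_finite C l
  refine ⟨C', φ, hinj, hftC', ?_⟩
  have he : (g ≫ RelSpec.QCAlg.specMap φ) ≫ C'.π = f := by
    rw [Category.assoc, RelSpec.QCAlg.specMap_π, hg]
  apply IsZariskiLocalAtTarget.of_iSup_eq_top (P := @IsImmersion) (fun y : t => C'.π ⁻¹ᵁ VV y.1)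
  · rw [← Scheme.Hom.preimage_iSup, eq_top_iff]
    intro x _
    have hx : C'.π x ∈ ⋃ y ∈ t, ((VV y : Y.Opens) : Set Y) := by rw [ht]; trivial
    simp only [Set.mem_iUnion] at hx
    obtain ⟨y, hy, hxy⟩ := hx
    exact Opens.mem_iSup.2 ⟨⟨y, hy⟩, hxy⟩
  · rintro ⟨y, hy⟩
    have h1 : IsImmersion (((g ≫ RelSpec.QCAlg.specMap φ) ∣_ (C'.π ⁻¹ᵁ VV y)) ≫ (C'.π ⁻¹ᵁ VV y).ι) := by
      rw [morphismRestrict_ι]
      apply isImmersion_ι_comp_of_eq (g ≫ RelSpec.QCAlg.specMap φ) _ (f ⁻¹ᵁ VV y)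
      · exact congrArg (fun t : X ⟶ Y => t ⁻¹ᵁ VV y) he
      · rw [← Category.assoc, hchart (VV y) (hVV y), Category.assoc, Category.assoc,
          RelSpec.QCAlg.ι_specMap, ← Spec.map_comp_assoc]
        have h2 : IsImmersion ((f ⁻¹ᵁ VV y).toSpecΓ ≫
            Spec.map (φ.hom.app (op (VV y)) ≫ ω.app (op (VV y)))) := by
          rw [hsplit, Category.assoc]
          refine hFF y _ (φ.hom.app (op (VV y))) (fun x hx => ?_) (fun a => ?_)
          · have hmem : (⟨⟨VV y, hVV y⟩, x⟩ : Σ V : Y.affineOpens, C.presheaf.obj (op V.1)) ∈ l :=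
              Finset.mem_biUnion.2 ⟨y, hy, Finset.mem_image_of_mem _ hx⟩
            exact hl _ hmem
          · refine ⟨(C'.str.app (op (VV y))).hom a, ?_⟩
            have h4 := congrArg (fun χ => (χ.app (op (VV y))).hom a) φ.comm
            have h5 := congrArg (fun χ => (χ.app (op (VV y))).hom a) hstr
            rw [CommRingCat.comp_apply, CommRingCat.comp_apply]
            erw [h4, h5]
            rfl
        haveI := h2
        rw [← Category.assoc]
        infer_instance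
    exact IsImmersion.of_comp _ (C'.π ⁻¹ᵁ VV y).ι

end Groth.Agent.Lib.Helper28.QAffFactor
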