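import Groth.Agent.Lib.Helper28.RLPsiV5
import Groth.Agent.Lib.Helper28.DirImgHom

/-!
# The canonical homomorphism `E → q_* L` attached to an embedding into a projective bundle
-/

set_option autoImplicit false
universe u
open CategoryTheory CategoryTheory.Limits AlgebraicGeometry Opposite TopologicalSpace
open HomogeneousLocalization
open scoped HomogeneousIdeal
noncomputable section

namespace Groth.Agent.Lib.Helper28.RLPsiV

open Groth.Agent.Lib.Helper28 Groth.Agent.Lib.Helper28.QCohLoc Groth.Agent.Lib.Helper28.TraceAlg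
open Groth.Agent.Lib.Helper28.GenLocus Groth.Agent.Lib.Helper28.SymAlg
open Groth.Agent.Lib.Helper28.RLPsi Groth.Agent.Lib.Helper28.RelTwistVal Groth.Agent.Lib.Helper28.RLPsiU
open Groth.Agent.Lib.Helper28.PullbackInv

section signat

variable {Y P : Scheme.{u}} {𝒮 : RelProj.QCGrAlg Y} {p : P ⟶ Y}
  {chart : ∀ (U : Y.Opens) (hU : IsAffineOpen U), (((p ⁻¹ᵁ U : P.Opens) : Scheme.{u}) ≅ Proj (𝒮.deg U hU))}
  (hP : RelProj.IsRelProj 𝒮 p chart)
  {O1 : P.Modules}
  {lam : ∀ (U : Y.Opens) (hU : IsAffineOpen U),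
    O1 ⟶ (Scheme.Modules.pushforward (RelProj.emb p chart U hU)).obj (GrTwist.twist (𝒮.deg U hU) ((1 : ℕ) : ℤ))}
  (hO : RelProj.IsRelTwist 𝒮 p chart ((1 : ℕ) : ℤ) O1 lam)

include hP in
/-- the sections `sig` are compatible with the restriction to a basic open of the base -/
theorem sig_basic {V W : Y.Opens} (hV : IsAffineOpen V) (hW : IsAffineOpen W) (r : Γ(Y, V))
    (e : W = Y.basicOpen r) (hle : W ≤ V) (a : 𝒮.presheaf.obj (op V)) (ha : a ∈ 𝒮.deg V hV 1)
    (ha' : 𝒮.res hV hW hle a ∈ 𝒮.deg W hW 1) :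
    sig hO hW (𝒮.res hV hW hle a) ha' = res O1 (p.preimage_mono hle) (sig hO hV a ha) := by
  refine ext_cv hO hW le_rfl _ _ fun y hy => ?_
  rw [cv_sig, cv_res]
  have hy' : (RelProj.emb p chart V hV).base (ProjectiveSpectrum.comap (𝒮.res hV hW hle)
        (irrelevant_le_map_of_eq 𝒮 hV hW r e hle) y) ∈ p ⁻¹ᵁ V := by
    rw [← emb_eq_of_eq hP hV hW r e hle y]
    exact p.preimage_mono hle hy
  have h1 := cv_sig hO hV a ha _ hy'
  unfold cv at h1 ⊢
  rw [val_basic hO hV hW r e hle (p ⁻¹ᵁ V) (sig hO hV a ha) y (p.preimage_mono hle hy) hy', h1,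
    GrTwist.locMap_mk]
  congr 1
  exact Subtype.ext (map_one _).symm

end signat

section iota

variable {X Y P' : Scheme.{u}} (i : X ⟶ P') {p' : P' ⟶ Y} {L : X.Modules}
  {E' : Y.Modules} [E'.IsQuasicoherent]
  {𝒮' : RelProj.QCGrAlg Y} {j' : E' ⟶ 𝒮'.toModule} (hS' : RelProj.IsGrSymAlg E' 𝒮' j')
  {chart' : ∀ (U : Y.Opens) (hU : IsAffineOpen U), (((p' ⁻¹ᵁ U : P'.Opens) : Scheme.{u}) ≅ Proj (𝒮'.deg U hU))}
  (hP' : RelProj.IsRelProj 𝒮' p' chart')
  {O1 : P'.Modules}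
  {lam : ∀ (U : Y.Opens) (hU : IsAffineOpen U),
    O1 ⟶ (Scheme.Modules.pushforward (RelProj.emb p' chart' U hU)).obj (GrTwist.twist (𝒮'.deg U hU) ((1 : ℕ) : ℤ))}
  (hO : RelProj.IsRelTwist 𝒮' p' chart' ((1 : ℕ) : ℤ) O1 lam)
  (e : L ≅ (Scheme.Modules.pullback i).obj O1)
  {U : Y.Opens} (hU : IsAffineOpen U)

include hS' in
/-- the map `E'(U) → (q_* L)(U)` over an affine open `U` -/
def psiE : Γ(E', U) →+ Γ((Scheme.Modules.pushforward (i ≫ p')).obj L, U) :=
  AddMonoidHom.mk' (fun e' => tEp i hO e hU (asR 𝒮'.toQCAlg (j'.app U e')) (hS'.2 U hU e'))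
    (fun e₁ e₂ => by
      have h1 : asR 𝒮'.toQCAlg (j'.app U (e₁ + e₂)) =
          asR 𝒮'.toQCAlg (j'.app U e₁) + asR 𝒮'.toQCAlg (j'.app U e₂) := by
        rw [map_add]
        rfl
      unfold tEp
      rw [tE_congr i hO e hU h1 _ (add_mem (hS'.2 U hU e₁) (hS'.2 U hU e₂)),
        tE_add i hO e hU _ _ (hS'.2 U hU e₁) (hS'.2 U hU e₂)]
      rfl)

theorem psiE_apply (e' : Γ(E', U)) :
    psiE i hS' hO e hU e' = tEp i hO e hU (asR 𝒮'.toQCAlg (j'.app U e')) (hS'.2 U hU e') := rfl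

include hP' in
theorem psiE_smul (r : Γ(Y, U)) (e' : Γ(E', U)) :
    psiE i hS' hO e hU (r • e') =
      (r • psiE i hS' hO e hU e' : Γ((Scheme.Modules.pushforward (i ≫ p')).obj L, U)) := by
  have h1 : asR 𝒮'.toQCAlg (j'.app U (r • e')) = (𝒮'.str.app (op U)).hom r * asR 𝒮'.toQCAlg (j'.app U e') := by
    rw [Scheme.Modules.Hom.app_smul]
    rfl
  have hra : (𝒮'.str.app (op U)).hom r * asR 𝒮'.toQCAlg (j'.app U e') ∈ 𝒮'.deg U hU 1 := by
    rw [← h1]
    exact hS'.2 U hU (r • e')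
  rw [psiE_apply, psiE_apply]
  unfold tEp
  rw [tE_congr i hO e hU h1 _ hra, tE_smul i hP' hO e hU r _ (hS'.2 U hU e') hra]
  rfl

include hP' in
/-- compatibility with the restriction to a basic open -/
theorem psiE_basic (r : Γ(Y, U)) (e' : Γ(E', U)) :
    psiE i hS' hO e (hU.basicOpen r) (res E' (Y.basicOpen_le r) e') =
      res ((Scheme.Modules.pushforward (i ≫ p')).obj L) (Y.basicOpen_le r) (psiE i hS' hO e hU e') := by
  have h1 : asR 𝒮'.toQCAlg (j'.app (Y.basicOpen r) (res E' (Y.basicOpen_le r) e')) =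
      𝒮'.res hU (hU.basicOpen r) (Y.basicOpen_le r) (asR 𝒮'.toQCAlg (j'.app U e')) := by
    rw [app_res]
    rfl
  have hmem : 𝒮'.res hU (hU.basicOpen r) (Y.basicOpen_le r) (asR 𝒮'.toQCAlg (j'.app U e')) ∈
      𝒮'.deg (Y.basicOpen r) (hU.basicOpen r) 1 := by
    rw [← h1]
    exact hS'.2 _ (hU.basicOpen r) _
  rw [psiE_apply, psiE_apply]
  unfold tEp
  rw [tE_congr i hO e (hU.basicOpen r) h1 _ hmem]
  unfold tE
  rw [sig_basic hP' hO hU (hU.basicOpen r) r rfl (Y.basicOpen_le r) _ (hS'.2 U hU e') hmem, tsec_res]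
  rfl

include hS' hP' in
/-- the chartwise data of the canonical homomorphism `E' → q_* L` -/
def iotaData : RelProjQC.ChartHomData (𝟙 Y) E' ((Scheme.Modules.pushforward (i ≫ p')).obj L) where
  φ U hU W hW := ext (isLocOn_of_isQuasicoherent E' hU) (psiE i hS' hO e hU) (psiE_smul i hS' hP' hO e hU) hU
    (show W ≤ U from hW)
  add U hU W hW x y := ext_add _ _ _ _ _ x y
  smul U hU W hW a x := ext_smul _ _ _ _ _ a x
  nat U hU W hW W' h x := ext_res _ _ _ _ _ h x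
  basic U hU r W hW x := by
    symm
    refine ext_eq_of_family (isLocOn_of_isQuasicoherent E' hU) (psiE i hS' hO e hU) (psiE_smul i hS' hP' hO e hU)
      hU (Y.basicOpen_le r)
      (fun W hW => ext (isLocOn_of_isQuasicoherent E' (hU.basicOpen r)) (psiE i hS' hO e (hU.basicOpen r))
        (psiE_smul i hS' hP' hO e (hU.basicOpen r)) (hU.basicOpen r) hW) ?_ ?_ ?_ W hW x
    · intro W hW a x
      exact ext_smul _ _ _ _ hW a x
    · intro W hW W' h x
      exact ext_res _ _ _ _ hW h x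
    · intro m
      rw [ext_top]
      exact psiE_basic i hS' hP' hO e hU r m

/-- **the canonical homomorphism `E' → q_* L`** attached to `i : X → P(E')` and `L ≅ i^* O(1)` -/
def iotaE : E' ⟶ (Scheme.Modules.pushforward (i ≫ p')).obj L := (iotaData i hS' hP' hO e).hom

theorem iotaE_app (e' : Γ(E', U)) :
    (iotaE i hS' hP' hO e).app U e' = psiE i hS' hO e hU e' := by
  have h1 := (iotaData i hS' hP' hO e).hom_app U hU U (le_refl _) e'
  refine h1.trans ?_
  exact ext_top (isLocOn_of_isQuasicoherent E' hU) (psiE i hS' hO e hU) (psiE_smul i hS' hP' hO e hU) hU e'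

end iota

end Groth.Agent.Lib.Helper28.RLPsiV
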