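import Groth.Agent.Lib.Helper28.IotaE
import Groth.Agent.Lib.Helper28.ImgAlg7

/-!
# The graded `q`-morphism `Sym(E') → q_* Sym(L)` attached to an embedding into `P(E')`, and its good family
-/

set_option autoImplicit false
universe u
open CategoryTheory CategoryTheory.Limits AlgebraicGeometry Opposite TopologicalSpace
open HomogeneousLocalization
open scoped HomogeneousIdeal
noncomputable section

namespace Groth.Agent.Lib.Helper28.RLPsiV

open Groth.Agent.Lib.Helper28 Groth.Agent.Lib.Helper28.QCohLoc Groth.Agent.Lib.Helper28.TraceAlg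
open Groth.Agent.Lib.Helper28.GenLocus Groth.Agent.Lib.Helper28.SymAlg
open Groth.Agent.Lib.Helper28.RLPsi Groth.Agent.Lib.Helper28.RelTwistVal Groth.Agent.Lib.Helper28.RLPsiU
open Groth.Agent.Lib.Helper28.PullbackInv Groth.Agent.Lib.Helper28.FTApprox

attribute [local instance] algAt

section uE

variable {X Y P' : Scheme.{u}} (i : X ⟶ P') {p' : P' ⟶ Y} {L : X.Modules} [L.IsQuasicoherent]
  {E' : Y.Modules} [E'.IsQuasicoherent]
  {𝒮' : RelProj.QCGrAlg Y} {j' : E' ⟶ 𝒮'.toModule} (hS' : RelProj.IsGrSymAlg E' 𝒮' j')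
  {chart' : ∀ (U : Y.Opens) (hU : IsAffineOpen U), (((p' ⁻¹ᵁ U : P'.Opens) : Scheme.{u}) ≅ Proj (𝒮'.deg U hU))}
  (hP' : RelProj.IsRelProj 𝒮' p' chart')
  {O1 : P'.Modules}
  {lam : ∀ (U : Y.Opens) (hU : IsAffineOpen U),
    O1 ⟶ (Scheme.Modules.pushforward (RelProj.emb p' chart' U hU)).obj (GrTwist.twist (𝒮'.deg U hU) ((1 : ℕ) : ℤ))}
  (hO : RelProj.IsRelTwist 𝒮' p' chart' ((1 : ℕ) : ℤ) O1 lam)
  (e : L ≅ (Scheme.Modules.pullback i).obj O1)
  {𝒮L : RelProj.QCGrAlg X} {jL : L ⟶ 𝒮L.toModule} (hjL : RelProj.IsGrSymAlg L 𝒮L jL)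

omit [L.IsQuasicoherent] in
include hjL in
/-- the graded `q`-morphism `Sym(E') → q_* Sym(L)` extending the canonical homomorphism `E' → q_* L` -/
theorem exists_uE : ∃ uE : RelProj.QGrHom (i ≫ p') 𝒮' 𝒮L, ∀ (U : Y.Opens) (x : Γ(E', U)),
    (uE.app U).hom ((j'.app U) x) = (jL.app ((i ≫ p') ⁻¹ᵁ U)) ((iotaE i hS' hP' hO e).app U x) := by
  have hφ1 : ∀ (U : Y.Opens) (m : Γ(E', U)) (U' : X.Opens) (hU' : IsAffineOpen U')
      (hle : U' ≤ (i ≫ p') ⁻¹ᵁ U),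
      (𝒮L.presheaf.map (homOfLE hle).op).hom (phiR (i ≫ p') 𝒮L.toQCAlg
        (iotaE i hS' hP' hO e ≫ (Scheme.Modules.pushforward (i ≫ p')).map jL) U m) ∈ 𝒮L.deg U' hU' 1 := by
    intro U m U' hU' hle
    have h1 : (𝒮L.presheaf.map (homOfLE hle).op).hom (phiR (i ≫ p') 𝒮L.toQCAlg
        (iotaE i hS' hP' hO e ≫ (Scheme.Modules.pushforward (i ≫ p')).map jL) U m) =
        asR 𝒮L.toQCAlg (jL.app U' (res L hle
          (show Γ(L, (i ≫ p') ⁻¹ᵁ U) from (iotaE i hS' hP' hO e).app U m))) := by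
      rw [app_res]
      rfl
    rw [h1]
    exact hjL.2 U' hU' _
  exact ⟨symQGr (i ≫ p') hS' 𝒮L (iotaE i hS' hP' hO e ≫ (Scheme.Modules.pushforward (i ≫ p')).map jL) hφ1,
    fun U x => symQGr_j (i ≫ p') hS' 𝒮L _ hφ1 U x⟩

variable {𝒜 : RelProj.QCGrAlg Y} (jE : (Scheme.Modules.pushforward (i ≫ p')).obj L ⟶ 𝒜.toModule)
  (h𝒜 : RelProj.IsGrSymAlg ((Scheme.Modules.pushforward (i ≫ p')).obj L) 𝒜 jE)
  (u : RelProj.QGrHom (i ≫ p') 𝒜 𝒮L)
  (hu : ∀ (U : Y.Opens) (x : Γ((Scheme.Modules.pushforward (i ≫ p')).obj L, U)),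
      (u.app U).hom ((jE.app U) x) = (jL.app ((i ≫ p') ⁻¹ᵁ U)) x)
  (uE : RelProj.QGrHom (i ≫ p') 𝒮' 𝒮L)
  (huE : ∀ (U : Y.Opens) (x : Γ(E', U)),
    (uE.app U).hom ((j'.app U) x) = (jL.app ((i ≫ p') ⁻¹ᵁ U)) ((iotaE i hS' hP' hO e).app U x))
  {U : Y.Opens} (hU : IsAffineOpen U)

omit [L.IsQuasicoherent] in
include hu huE in
/-- over an affine open, `uE` is the canonical `u` composed with `Θ` -/
theorem uE_eq_theta (a : 𝒮'.presheaf.obj (op U)) :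
    (uE.app U).hom a = (u.app U).hom (theta i hS' hP' hO e (jE := jE) hU a) := by
  have key : (uE.app U).hom = (u.app U).hom.comp (theta i hS' hP' hO e (jE := jE) hU) := by
    refine ringHom_ext_sec hS'.1 U hU _ _ (fun r => ?_) (fun m => ?_)
    · have h1 := congrArg (fun k => k.hom r) (uE.str_app U)
      have h2 := congrArg (fun k => k.hom r) (u.str_app U)
      show (uE.app U).hom ((𝒮'.str.app (op U)).hom r) =
        (u.app U).hom (theta i hS' hP' hO e (jE := jE) hU ((𝒮'.str.app (op U)).hom r))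
      rw [theta_str]
      exact h1.trans h2.symm
    · show (uE.app U).hom (asR 𝒮'.toQCAlg (j'.app U m)) =
        (u.app U).hom (theta i hS' hP' hO e (jE := jE) hU (asR 𝒮'.toQCAlg (j'.app U m)))
      rw [theta_j]
      have h1 := huE U m
      have h2 := hu U (tEp i hO e hU (asR 𝒮'.toQCAlg (j'.app U m)) (hS'.2 U hU m))
      rw [iotaE_app i hS' hP' hO e hU m, psiE_apply] at h1
      exact h1.trans h2.symm
  rw [key]
  rfl

omit [L.IsQuasicoherent] in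
include hu huE in
theorem tauU_uE (a : 𝒮'.presheaf.obj (op U)) (W : X.Opens) (hW : W ≤ (i ≫ p') ⁻¹ᵁ U) :
    tauU uE U a W hW = tauU u U (theta i hS' hP' hO e (jE := jE) hU a) W hW := by
  show (𝒮L.presheaf.map (homOfLE hW).op).hom ((uE.app U).hom a) = (𝒮L.presheaf.map (homOfLE hW).op).hom _
  rw [uE_eq_theta i hS' hP' hO e jE u hu uE huE hU a]
  rfl

omit [L.IsQuasicoherent] in
include hu huE in
theorem XTU_uE (d : ℕ) (H : 𝒮'.presheaf.obj (op U)) :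
    XTU uE U d H = XTU u U d (theta i hS' hP' hO e (jE := jE) hU H) := by
  ext x
  show x ∈ XTU uE U d H ↔ x ∈ XTU u U d (theta i hS' hP' hO e (jE := jE) hU H)
  rw [mem_XTU_iff, mem_XTU_iff]
  unfold NVU
  simp only [tauU_uE i hS' hP' hO e jE u hu uE huE hU]

include hu huE in
/-- condition (iii) for `uE` at `H` when `D₊(H)` lies in the coborder range of the immersion -/
theorem cond3W_uE [IsImmersion i] {d : ℕ} (hd : 0 < d) (H : 𝒮'.presheaf.obj (op U))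
    (hH : H ∈ 𝒮'.deg U hU d) (hle : WPU p' chart' hU H ≤ i.coborderRange) :
    Cond3W uE hU d H (i ⁻¹ᵁ WPU p' chart' hU H) (i.preimage_mono (WPU_le hU H)) := by
  intro φ
  obtain ⟨-, hsurj⟩ := affine_surj_of_isImmersion i (WPU p' chart' hU H)
    (isAffineOpen_WPU p' chart' hU hd H hH) hle
  obtain ⟨c₀, rfl⟩ := hsurj φ
  obtain ⟨n, hn, G, hG, hr⟩ := exists_readsO_of_fn hU hd H hH c₀
  refine ⟨n, hn, G, hG, ?_⟩
  rw [tauU_uE i hS' hP' hO e jE u hu uE huE hU, tauU_uE i hS' hP' hO e jE u hu uE huE hU]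
  -- local data
  have hloc : ∀ x : (i ⁻¹ᵁ WPU p' chart' hU H : X.Opens), ∃ (e₀ : Γ(E', U)) (V : X.Opens),
      x.1 ∈ V ∧ V ≤ i ⁻¹ᵁ WPU p' chart' hU H ∧
        V ≤ i ⁻¹ᵁ WPU p' chart' hU (asR 𝒮'.toQCAlg (j'.app U e₀)) := by
    rintro ⟨x, hx⟩
    have hx' : i x ∈ WPU p' chart' hU H := hx
    obtain ⟨z, hz, hzx⟩ := hx'
    obtain ⟨e₀, he₀⟩ := exists_deg_one_not_mem hS' hU z
    have hix : i x ∈ WPU p' chart' hU (asR 𝒮'.toQCAlg (j'.app U e₀)) := by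
      rw [← hzx]
      exact (mem_WPU_iff hU _ z).2 he₀
    refine ⟨e₀, i ⁻¹ᵁ WPU p' chart' hU H ⊓ i ⁻¹ᵁ WPU p' chart' hU (asR 𝒮'.toQCAlg (j'.app U e₀)),
      ⟨hx, hix⟩, inf_le_left, inf_le_right⟩
  choose e₀ V hxV hVH hV1 using hloc
  let F : TopCat.Sheaf CommRingCat X.carrier := ⟨𝒮L.presheaf, 𝒮L.isSheaf⟩
  refine TopCat.Sheaf.eq_of_locally_eq' F V (i ⁻¹ᵁ WPU p' chart' hU H)
    (fun x => homOfLE (hVH x)) ?_ _ _ (fun x => ?_)
  · intro a ha
    exact Opens.mem_iSup.2 ⟨⟨a, ha⟩, hxV ⟨a, ha⟩⟩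
  · show rS 𝒮L (hVH x) _ = rS 𝒮L (hVH x) _
    rw [rS_mul, rS_pow, rS_str, rS_tauU, rS_tauU]
    exact (FV_eq_of_readsO i hS' hP' hO e jE u hu hU (e₀ x) (hV1 x) H hH (hVH x) c₀ n G hG hr).symm

include hjL hu huE in
/-- **the good family of `uE`** attached to an immersion into `P(E')` -/
theorem exists_goodFamily_uE [IsImmersion i] :
    ∃ (ι : Type u) (U : ι → Y.Opens) (hU : ∀ a, IsAffineOpen (U a)) (n : ι → ℕ)
      (s : ∀ a, 𝒮'.presheaf.obj (op (U a))), IsGoodFamily uE U hU n s := by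
  have hloc : ∀ x : X, ∃ (U : Y.Opens) (hU : IsAffineOpen U) (d : ℕ) (H : 𝒮'.presheaf.obj (op U)),
      0 < d ∧ H ∈ 𝒮'.deg U hU d ∧ i x ∈ WPU p' chart' hU H ∧ WPU p' chart' hU H ≤ i.coborderRange := by
    intro x
    obtain ⟨_, ⟨U, hU, rfl⟩, hxU, -⟩ := Y.isBasis_affineOpens.exists_subset_of_mem_open
      (show p' (i x) ∈ ((⊤ : Y.Opens) : Set Y) from trivial) (⊤ : Y.Opens).isOpen
    obtain ⟨z, hz⟩ := (RelProjQ.mem_range_emb p' chart' U hU (i x)).2 hxU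
    have hz' : (RelProj.emb p' chart' U hU).base z = i x := hz
    have hzc : z ∈ (RelProj.emb p' chart' U hU) ⁻¹ᵁ i.coborderRange := by
      show (RelProj.emb p' chart' U hU).base z ∈ i.coborderRange
      rw [hz']
      exact mem_coborderRange i x
    obtain ⟨d, H, hd, hH, hzH, hHle⟩ := exists_pos_basicOpen_le (𝒮'.deg U hU) _ z hzc
    refine ⟨U, hU, d, H, hd, hH, ?_, ?_⟩
    · rw [← hz']
      exact ⟨z, hzH, rfl⟩
    · rintro _ ⟨z', hz'H, rfl⟩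
      exact hHle hz'H
  choose U hU d H hd hH hxH hHle using hloc
  have hX : ∀ x, XTU uE (U x) (d x) (H x) = i ⁻¹ᵁ WPU p' chart' (hU x) (H x) := fun x =>
    (XTU_uE i hS' hP' hO e jE u hu uE huE (hU x) (d x) (H x)).trans
      (XTU_theta_eq i hS' hP' hO e hjL jE u hu (hU x) (H x) (hH x))
  refine ⟨X, U, hU, d, H, fun x => ⟨hd x, hH x⟩, ?_, fun x => ?_, fun x => ?_⟩
  · refine top_le_iff.1 fun x _ => Opens.mem_iSup.2 ⟨x, ?_⟩
    rw [hX x]
    exact hxH x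
  · rw [hX x]
    exact (affine_surj_of_isImmersion i _ (isAffineOpen_WPU p' chart' (hU x) (hd x) (H x) (hH x)) (hHle x)).1
  · rw [cond3U_iff]
    exact cond3W_congr uE (hU x) (d x) _ (hX x).symm _ _
      (cond3W_uE i hS' hP' hO e jE u hu uE huE (hU x) (hd x) (H x) (hH x) (hHle x))

end uE

end Groth.Agent.Lib.Helper28.RLPsiV
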