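import Groth.Agent.Lib.Helper28.IotaE2
import Groth.Agent.Lib.Helper28.ImgAlg9
import Groth.Agent.Lib.Helper28.ProjAmple

/-!
# A closed subscheme of the projective bundle of a quasi-coherent module of finite type is projective
-/

set_option autoImplicit false
universe u
open CategoryTheory CategoryTheory.Limits AlgebraicGeometry Opposite TopologicalSpace
noncomputable section

namespace Groth.Agent.Lib.Helper28.RLPsiV

open Groth.Agent.Lib.Helper28 Groth.Agent.Lib.Helper28.QCohLoc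
open Groth.Agent.Lib.Helper28.SymAlg Groth.Agent.Lib.Helper28.RLPsiU Groth.Agent.Lib.Helper28.ImgAlg

/-- **EGA II 5.5.1, (a) ⟹ (b)**: a closed subscheme of `P(E)`, `E` quasi-coherent of finite type, is projective over
the base, for any base scheme -/
theorem isProjective_of_closedImmersion_projBundle {X Y P : Scheme.{u}} (f : X ⟶ Y) (E : Y.Modules)
    [E.IsQuasicoherent] [SheafOfModules.IsFiniteType.{u} (R := Y.ringCatSheaf) E]
    (𝒯 : RelProj.QCGrAlg Y) (j : E ⟶ 𝒯.toModule) (hT : RelProj.IsGrSymAlg E 𝒯 j) (p : P ⟶ Y)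
    (chart : ∀ (U : Y.Opens) (hU : IsAffineOpen U), ((p ⁻¹ᵁ U : P.Opens) : Scheme.{u}) ≅ Proj (𝒯.deg U hU))
    (hP : RelProj.IsRelProj 𝒯 p chart) (i : X ⟶ P) [IsClosedImmersion i] (hi : i ≫ p = f) :
    RelProj.IsProjective f := by
  classical
  subst hi
  have hgen : 𝒯.IsGenDegOne := isGenDegOne_of_isGrSymAlg hT
  have hft : 𝒯.IsFTDeg 1 := isFTDeg_one_of_isGrSymAlg hT
  have hpp : IsProper p := RelProjProper.isProper hgen hft hP
  have hO := RelTwistEx.isRelTwist hP 1
  have hO' : RelProj.IsRelTwist 𝒯 p chart ((1 : ℕ) : ℤ) _ _ := hO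
  have hO1inv := (RelProjGen1.isInvertible_and_isRelAmple hgen hft hO).1
  have hLinv : PicF.IsInvertible ((Scheme.Modules.pullback i).obj (RelTwistEx.L 𝒯 p chart hP 1)) :=
    PullbackInv.isInvertible_pullback i hO1inv
  have hLq : ((Scheme.Modules.pullback i).obj (RelTwistEx.L 𝒯 p chart hP 1)).IsQuasicoherent :=
    InvQC.isQuasicoherent_of_isInvertible _ hLinv
  have hFq : ((Scheme.Modules.pushforward (i ≫ p)).obj
      ((Scheme.Modules.pullback i).obj (RelTwistEx.L 𝒯 p chart hP 1))).IsQuasicoherent :=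
    isQuasicoherent_pushforward (i ≫ p) _
  have hQCL := isQC_symPre_of_isQuasicoherent ((Scheme.Modules.pullback i).obj (RelTwistEx.L 𝒯 p chart hP 1))
  have hjL := isGrSymAlg _ hQCL
  have hPL := RelProjExists.isRelProj (grSymAlg _ hQCL)
  have hQC := isQC_symPre_of_isQuasicoherent ((Scheme.Modules.pushforward (i ≫ p)).obj
      ((Scheme.Modules.pullback i).obj (RelTwistEx.L 𝒯 p chart hP 1)))
  have h𝒜 := isGrSymAlg _ hQC
  obtain ⟨u, hu⟩ := exists_canonical_u (i ≫ p) hjL h𝒜
  obtain ⟨uE, huE⟩ := exists_uE i hT hP hO' (Iso.refl _) hjL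
  obtain ⟨ι, U, hU, n, s, hfam⟩ := exists_goodFamily_uE i hT hP hO' (Iso.refl _) hjL _ u hu uE huE
  exact isProjective_of_goodFamily (i ≫ p) hjL _ _ hPL hT uE hLinv U hU n s hfam

end Groth.Agent.Lib.Helper28.RLPsiV
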