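import Groth.Agent.Lib.Helper28.IotaE3
import Groth.Agent.Lib.Helper28.VAGenDegOne
import Groth.Agent.Lib.Helper28.AffVA

/-!
# A projective morphism is a closed subscheme of the projective bundle of a module of finite type
-/

set_option autoImplicit false
universe u
open CategoryTheory CategoryTheory.Limits AlgebraicGeometry Opposite TopologicalSpace
noncomputable section

namespace Groth.Agent.Lib.Helper28.RLPsiV

open Groth.Agent.Lib.Helper28 Groth.Agent.Lib.Helper28.QCohLoc Groth.Agent.Lib.Helper28.VAGenDegOne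

/-- the degree-one part of a graded algebra with `IsFTDeg 1` is a module of finite type -/
theorem isFT_degMod_one {Y : Scheme.{u}} (𝒮 : RelProj.QCGrAlg Y) (hft : 𝒮.IsFTDeg 1) :
    CohB1.IsFT (DegMod.degMod 𝒮 1) := by
  classical
  have hEq : (DegMod.degMod 𝒮 1).IsQuasicoherent := DegMod.isQuasicoherent_degMod 𝒮 1
  refine FinType.isFiniteType_of_finite_cover _ (fun a : Y.affineOpens => a.1) ?_ (fun a => a.2) (fun a => ?_)
  · exact iSup_affineOpens_eq_top Y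
  · obtain ⟨T, hT, hgen⟩ := hft a.1 a.2
    have hlift : ∀ t : 𝒮.presheaf.obj (op a.1), ∃ x : Γ(DegMod.degMod 𝒮 1, a.1),
        t ∈ T → (DegMod.asSub 𝒮 1 x).1 = t := by
      intro t
      by_cases ht : t ∈ T
      · obtain ⟨x, hx⟩ := DegMod.exists_incl 𝒮 1 a.2 t (hT ht)
        exact ⟨x, fun _ => hx⟩
      · exact ⟨0, fun h => absurd h ht⟩
    choose lift hliftspec using hlift
    refine ⟨⟨T.image lift, ?_⟩⟩
    rw [eq_top_iff]
    intro x _
    obtain ⟨c, hc⟩ := hgen _ (DegMod.incl_mem 𝒮 1 a.2 x)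
    have hx : x = ∑ t ∈ T, (c t • lift t : Γ(DegMod.degMod 𝒮 1, a.1)) := by
      apply DegMod.ext_val
      have h1 : (DegMod.asSub 𝒮 1 (∑ t ∈ T, (c t • lift t : Γ(DegMod.degMod 𝒮 1, a.1)))).1 =
          ∑ t ∈ T, (DegMod.asSub 𝒮 1 (c t • lift t : Γ(DegMod.degMod 𝒮 1, a.1))).1 := by
        exact map_sum (DegMod.degSub 𝒮 1 a.1).subtype _ T
      rw [h1]
      refine Eq.trans hc (Finset.sum_congr rfl fun t ht => ?_)
      rw [DegMod.smul_val, hliftspec t ht]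
    rw [hx]
    refine Submodule.sum_mem _ fun t ht => Submodule.smul_mem _ _ (Submodule.subset_span ?_)
    exact Finset.mem_coe.2 (Finset.mem_image_of_mem lift ht)

/-- **`Proj(𝒮)`, for `𝒮` generated in degree one with degree-one part of finite type, is a closed subscheme of the
projective bundle of the module of finite type `𝒮_1`** -/
theorem exists_closedImmersion_projBundle_ft {Y P : Scheme.{u}} (𝒮 : RelProj.QCGrAlg Y) (h𝒮 : 𝒮.IsGenDegOne)
    (hft : 𝒮.IsFTDeg 1) (p : P ⟶ Y)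
    (chart : ∀ (U : Y.Opens) (hU : IsAffineOpen U), ((p ⁻¹ᵁ U : P.Opens) : Scheme.{u}) ≅ Proj (𝒮.deg U hU))
    (hP : RelProj.IsRelProj 𝒮 p chart) :
    ∃ (E : Y.Modules) (𝒯 : RelProj.QCGrAlg Y) (j : E ⟶ 𝒯.toModule) (PT : Scheme.{u}) (pT : PT ⟶ Y)
      (chartT : ∀ (U : Y.Opens) (hU : IsAffineOpen U), (((pT ⁻¹ᵁ U : PT.Opens) : Scheme.{u}) ≅ Proj (𝒯.deg U hU)))
      (h : P ⟶ PT),
      Coh.IsQCoh E ∧ CohB1.IsFT E ∧ RelProj.IsGrSymAlg E 𝒯 j ∧ RelProj.IsRelProj 𝒯 pT chartT ∧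
        IsClosedImmersion h ∧ h ≫ pT = p := by
  classical
  have hEq : (DegMod.degMod 𝒮 1).IsQuasicoherent := DegMod.isQuasicoherent_degMod 𝒮 1
  have hQC := SymAlg.isQC_symPre_of_isQuasicoherent (DegMod.degMod 𝒮 1)
  have hT := SymAlg.isGrSymAlg (DegMod.degMod 𝒮 1) hQC
  have hPT := RelProjExists.isRelProj (SymAlg.grSymAlg (DegMod.degMod 𝒮 1) hQC)
  have hw1 : ∀ (U : Y.Opens) (hU : IsAffineOpen U) (x : Γ(DegMod.degMod 𝒮 1, U)),
      ((DegMod.incl 𝒮 1).app U) x ∈ 𝒮.deg U hU 1 := fun U hU x => DegMod.incl_mem 𝒮 1 hU x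
  have hwsurj : ∀ (U : Y.Opens) (hU : IsAffineOpen U) (s : 𝒮.presheaf.obj (op U)), s ∈ 𝒮.deg U hU 1 →
      ∃ x : Γ(DegMod.degMod 𝒮 1, U), ((DegMod.incl 𝒮 1).app U) x = s :=
    fun U hU s hs => DegMod.exists_incl 𝒮 1 hU s hs
  obtain ⟨ubar, hju, -⟩ := hT.1 𝒮.toQCAlg (DegMod.incl 𝒮 1)
  have hubar := isGradedHom_ubar 𝒮 (DegMod.incl 𝒮 1) hw1 hT ubar hju
  have hTN : ∃ n : ℕ, ∀ k, n ≤ k → ∀ (U : Y.Opens) (hU : IsAffineOpen U), ∀ y ∈ 𝒮.deg U hU k,
      ∃ x ∈ (SymAlg.grSymAlg (DegMod.degMod 𝒮 1) hQC).deg U hU k, (ubar.hom.app (op U)).hom x = y :=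
    ⟨1, fun k hk U hU y hy => surj_pos_ubar 𝒮 h𝒮 (DegMod.incl 𝒮 1) hwsurj hT ubar hju hubar k hk U hU y hy⟩
  have hTNU := fun (U : Y.Opens) (hU : IsAffineOpen U) =>
    ProjQRel.tnSurj_ofHom (SymAlg.grSymAlg (DegMod.degMod 𝒮 1) hQC) 𝒮 ubar hubar hTN U hU
  have htop : RelProj.domQ (RelProj.QGrHom.ofHom ubar hubar) p chart = ⊤ :=
    ProjQRel.domQ_eq_top_of_forall _ p chart fun U hU => ProjQ.dom_eq_top_of_tnSurj _ (hTNU U hU)
  obtain ⟨h, hh⟩ := ProjQRel.exists_isProjQMap_of_domQ_eq_top (RelProj.QGrHom.ofHom ubar hubar)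
    _ _ hPT p chart hP htop
  have hci : IsClosedImmersion h :=
    ProjQRel.of_chartwise_total (RelProj.QGrHom.ofHom ubar hubar) _ _ hPT p chart hP @IsClosedImmersion h hh
      fun U hU => ProjQ.isClosedImmersion_vQ _ (hTNU U hU)
  have hcomp := ProjQRel.comp_p_of_isProjQMap (RelProj.QGrHom.ofHom ubar hubar) _ _ hPT p chart hP h hh
  rw [Category.comp_id] at hcomp
  exact ⟨DegMod.degMod 𝒮 1, _, _, _, _, _, h, hEq, isFT_degMod_one 𝒮 hft, hT, hPT, hci, hcomp⟩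

/-- **EGA II 5.5.1**: projective ⟺ closed subscheme of `P(E)` with `E` quasi-coherent of finite type -/
theorem isProjective_iff_closedImmersion_projBundle {X Y : Scheme.{u}} (f : X ⟶ Y) :
    RelProj.IsProjective f ↔
      ∃ (E : Y.Modules) (𝒯 : RelProj.QCGrAlg Y) (j : E ⟶ 𝒯.toModule) (P : Scheme.{u}) (p : P ⟶ Y)
        (chart : ∀ (U : Y.Opens) (hU : IsAffineOpen U), ((p ⁻¹ᵁ U : P.Opens) : Scheme.{u}) ≅ Proj (𝒯.deg U hU))
        (i : X ⟶ P),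
        Coh.IsQCoh E ∧ CohB1.IsFT E ∧ RelProj.IsGrSymAlg E 𝒯 j ∧ RelProj.IsRelProj 𝒯 p chart ∧
          IsClosedImmersion i ∧ i ≫ p = f := by
  constructor
  · rintro ⟨𝒮, P, p, chart, e, hgen, hft, hP, hep⟩
    obtain ⟨E, 𝒯, j, PT, pT, chartT, h, h1, h2, h3, h4, h5, h6⟩ :=
      exists_closedImmersion_projBundle_ft 𝒮 hgen hft p chart hP
    refine ⟨E, 𝒯, j, PT, pT, chartT, e.hom ≫ h, h1, h2, h3, h4, inferInstance, ?_⟩
    rw [Category.assoc, h6, hep]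
  · rintro ⟨E, 𝒯, j, P, p, chart, i, h1, h2, h3, h4, h5, h6⟩
    have : E.IsQuasicoherent := h1
    have : SheafOfModules.IsFiniteType.{u} (R := Y.ringCatSheaf) E := h2
    exact isProjective_of_closedImmersion_projBundle f E 𝒯 j h3 p chart h4 i h6

end Groth.Agent.Lib.Helper28.RLPsiV
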