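import Groth.Agent.Lib.Helper28.FTApprox7
import Groth.Agent.Lib.Helper28.SymPowC

/-!
# A criterion for relative very ampleness which is local on the base

`LocGood q jL x`: near `x` there is a "good" section, in terms of `L` and its symmetric algebra only:
an affine open `U ⊆ Y`, a sum `σ` of products of `n` sections of `L` over `q⁻¹ U` whose nonvanishing locus `D` is
an affine neighbourhood of `x`, such that every function on `D` is of the form `σ' / σ^m`.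
-/

set_option autoImplicit false
universe u
open CategoryTheory CategoryTheory.Limits AlgebraicGeometry Opposite TopologicalSpace
open scoped HomogeneousIdeal
noncomputable section

namespace Groth.Agent.Lib.Helper28.LocVA

open Groth.Agent.Lib.Helper28 Groth.Agent.Lib.Helper28.QCohLoc Groth.Agent.Lib.Helper28.TraceAlg
open Groth.Agent.Lib.Helper28.SymAlg Groth.Agent.Lib.Helper28.SymPow
open Groth.Agent.Lib.Helper28.RLPsi Groth.Agent.Lib.Helper28.RLPsiU Groth.Agent.Lib.Helper28.FTApprox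

section defs

variable {Y X : Scheme.{u}} (q : X ⟶ Y) {L : X.Modules} {𝒮L : RelProj.QCGrAlg X} (jL : L ⟶ 𝒮L.toModule)

/-- the monomials of degree `k`: products of `k` sections of `L` over `T` and a function on `U`, restricted to `W` -/
def imSet (U : Y.Opens) (T W : X.Opens) (hWT : W ≤ T) (hTU : T ≤ q ⁻¹ᵁ U) (k : ℕ) : Set (𝒮L.presheaf.obj (op W)) :=
  {x | ∃ (a : Γ(Y, U)) (l : List Γ(L, T)), l.length = k ∧
    x = (𝒮L.str.app (op W)).hom ((q.appLE U W (hWT.trans hTU)).hom a) *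
      (l.map (fun m => asR 𝒮L.toQCAlg (jL.app W (res L hWT m)))).prod}

/-- the additive subgroup spanned by the monomials of degree `k` -/
def imGrp (U : Y.Opens) (T W : X.Opens) (hWT : W ≤ T) (hTU : T ≤ q ⁻¹ᵁ U) (k : ℕ) :
    AddSubgroup (𝒮L.presheaf.obj (op W)) :=
  AddSubgroup.closure (imSet q jL U T W hWT hTU k)

/-- the local condition at a point -/
def LocGood (x : X) : Prop :=
  ∃ (U : Y.Opens) (_ : IsAffineOpen U) (n : ℕ) (_ : 0 < n) (T : X.Opens) (hT : T = q ⁻¹ᵁ U)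
    (σ : 𝒮L.presheaf.obj (op T)) (_ : σ ∈ imGrp q jL U T T le_rfl hT.le n)
    (D : X.Opens) (_ : IsAffineOpen D) (hDT : D ≤ T), x ∈ D ∧ D = NVloc 𝒮L n T σ ∧
    ∀ t : Γ(X, D), ∃ (m : ℕ) (_ : 0 < m) (σ' : 𝒮L.presheaf.obj (op D))
      (_ : σ' ∈ imGrp q jL U T D hDT hT.le (m * n)),
      (𝒮L.str.app (op D)).hom t * (rS 𝒮L hDT σ) ^ m = σ'

end defs

section canon

variable {Y X : Scheme.{u}} {q : X ⟶ Y} {L : X.Modules}
  {𝒮L : RelProj.QCGrAlg X} {jL : L ⟶ 𝒮L.toModule}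
  [((Scheme.Modules.pushforward q).obj L).IsQuasicoherent]
  {𝒜 : RelProj.QCGrAlg Y} {jE : (Scheme.Modules.pushforward q).obj L ⟶ 𝒜.toModule}
  (h𝒜 : RelProj.IsGrSymAlg ((Scheme.Modules.pushforward q).obj L) 𝒜 jE)
  (u : RelProj.QGrHom q 𝒜 𝒮L)
  (hu : ∀ (U : Y.Opens) (x : Γ((Scheme.Modules.pushforward q).obj L, U)),
    (u.app U).hom ((jE.app U) x) = (jL.app (q ⁻¹ᵁ U)) x)

include hu in
theorem tauU_j (U : Y.Opens) (W : X.Opens) (hW : W ≤ q ⁻¹ᵁ U) (m : Γ(L, q ⁻¹ᵁ U)) :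
    tauU u U (asR 𝒜.toQCAlg (jE.app U (show Γ((Scheme.Modules.pushforward q).obj L, U) from m))) W hW =
      asR 𝒮L.toQCAlg (jL.app W (res L hW m)) := by
  show (𝒮L.presheaf.map (homOfLE hW).op).hom ((u.app U).hom _) = _
  rw [hu U m]
  exact rS_j hW m

include hu in
theorem tauU_mono (U : Y.Opens) (W : X.Opens) (hW : W ≤ q ⁻¹ᵁ U) (a : Γ(Y, U)) (l : List Γ(L, q ⁻¹ᵁ U)) :
    tauU u U ((𝒜.str.app (op U)).hom a *
      (l.map (fun m => asR 𝒜.toQCAlg (jE.app U (show Γ((Scheme.Modules.pushforward q).obj L, U) from m)))).prod) W hW =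
      (𝒮L.str.app (op W)).hom ((q.appLE U W hW).hom a) *
        (l.map (fun m => asR 𝒮L.toQCAlg (jL.app W (res L hW m)))).prod := by
  rw [tauU_mul, tauU_str]
  congr 1
  show (u.appLE U W hW).hom _ = _
  rw [map_list_prod, List.map_map]
  congr 1
  refine List.map_congr_left fun m _ => ?_
  exact tauU_j u hu U W hW m

include h𝒜 hu in
/-- **the image of `Sym^k` under `u` is spanned by the monomials** -/
theorem mem_imGrp_iff {U : Y.Opens} (hU : IsAffineOpen U) (W : X.Opens) (hW : W ≤ q ⁻¹ᵁ U) (k : ℕ)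
    (z : 𝒮L.presheaf.obj (op W)) :
    z ∈ imGrp q jL U (q ⁻¹ᵁ U) W hW le_rfl k ↔ ∃ s ∈ 𝒜.deg U hU k, tauU u U s W hW = z := by
  constructor
  · intro hz
    induction hz using AddSubgroup.closure_induction with
    | mem z hz =>
      obtain ⟨a, l, hl, rfl⟩ := hz
      refine ⟨_, monoGrp_le_deg h𝒜 U hU k (AddSubgroup.subset_closure ⟨a, l, hl, rfl⟩), ?_⟩
      exact tauU_mono u hu U W hW a l
    | zero => exact ⟨0, AddSubgroup.zero_mem _, map_zero _⟩
    | add z z' _ _ hz hz' =>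
      obtain ⟨s, hs, rfl⟩ := hz
      obtain ⟨s', hs', rfl⟩ := hz'
      exact ⟨s + s', AddSubgroup.add_mem _ hs hs', tauU_add u hW s s'⟩
    | neg z _ hz =>
      obtain ⟨s, hs, rfl⟩ := hz
      exact ⟨-s, AddSubgroup.neg_mem _ hs, map_neg _ s⟩
  · rintro ⟨s, hs, rfl⟩
    have key : ∀ s' : 𝒜.presheaf.obj (op U), s' ∈ monoGrp 𝒜 jE U k →
        tauU u U s' W hW ∈ imGrp q jL U (q ⁻¹ᵁ U) W hW le_rfl k := by
      intro s' hs'
      induction hs' using AddSubgroup.closure_induction with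
      | mem s hs =>
        obtain ⟨a, l, hl, rfl⟩ := hs
        refine AddSubgroup.subset_closure ⟨a, l, hl, ?_⟩
        exact tauU_mono u hu U W hW a l
      | zero =>
        have : tauU u U 0 W hW = 0 := map_zero _
        rw [this]; exact AddSubgroup.zero_mem _
      | add s s' _ _ hs hs' =>
        rw [tauU_add]; exact AddSubgroup.add_mem _ hs hs'
      | neg s _ hs =>
        have : tauU u U (-s) W hW = -tauU u U s W hW := map_neg _ s
        rw [this]; exact AddSubgroup.neg_mem _ hs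
    exact key s (deg_le_monoGrp h𝒜 U hU k hs)

omit [((Scheme.Modules.pushforward q).obj L).IsQuasicoherent] in
/-- the nonvanishing locus `X_t`, `t = ψ♭(s)`, is the nonvanishing locus of the section `u(s)` -/
theorem XTU_eq_NVloc (U : Y.Opens) (n : ℕ) (s : 𝒜.presheaf.obj (op U)) :
    XTU u U n s = NVloc 𝒮L n (q ⁻¹ᵁ U) (tauU u U s (q ⁻¹ᵁ U) le_rfl) := by
  ext y
  show y ∈ XTU u U n s ↔ y ∈ NVloc 𝒮L n (q ⁻¹ᵁ U) (tauU u U s (q ⁻¹ᵁ U) le_rfl)
  rw [mem_XTU_iff, mem_NVloc_iff]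
  constructor
  · rintro ⟨V, hV, hVU, hyV, hsub⟩
    refine ⟨V, hV, hVU, hyV, ?_⟩
    rw [rS_tauU]
    exact hsub
  · rintro ⟨V, hV, hVU, hyV, hsub⟩
    refine ⟨V, hV, hVU, hyV, ?_⟩
    rw [rS_tauU] at hsub
    exact hsub

include h𝒜 hu in
/-- a good section in the sense of `IsGoodFamily` gives the local condition -/
theorem locGood_of_good {U : Y.Opens} (hU : IsAffineOpen U) {n : ℕ} (hn : 0 < n) (s : 𝒜.presheaf.obj (op U))
    (hs : s ∈ 𝒜.deg U hU n) (haff : IsAffineOpen (XTU u U n s)) (h3 : Cond3U u hU n s) (x : X)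
    (hx : x ∈ XTU u U n s) : LocGood q jL x := by
  refine ⟨U, hU, n, hn, q ⁻¹ᵁ U, rfl, tauU u U s (q ⁻¹ᵁ U) le_rfl,
    (mem_imGrp_iff h𝒜 u hu hU _ le_rfl n _).2 ⟨s, hs, rfl⟩, XTU u U n s, haff, XTU_le u n s, hx,
    XTU_eq_NVloc u U n s, fun t => ?_⟩
  obtain ⟨m, hm, s', hs', h⟩ := h3 t
  refine ⟨m, hm, tauU u U s' (XTU u U n s) (XTU_le u n s),
    (mem_imGrp_iff h𝒜 u hu hU _ (XTU_le u n s) (m * n) _).2 ⟨s', hs', rfl⟩, ?_⟩
  rw [rS_tauU]
  exact h

include h𝒜 hu in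
/-- the local condition gives a good section in the sense of `IsGoodFamily` -/
theorem exists_good_of_locGood (x : X) (h : LocGood q jL x) :
    ∃ (U : Y.Opens) (hU : IsAffineOpen U) (n : ℕ) (s : 𝒜.presheaf.obj (op U)), 0 < n ∧ s ∈ 𝒜.deg U hU n ∧
      x ∈ XTU u U n s ∧ IsAffineOpen (XTU u U n s) ∧ Cond3U u hU n s := by
  obtain ⟨U, hU, n, hn, T, hT, σ, hσ, D, hD, hDT, hxD, hDeq, h3⟩ := h
  subst hT
  obtain ⟨s, hs, rfl⟩ := (mem_imGrp_iff h𝒜 u hu hU _ le_rfl n σ).1 hσ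
  have hX : XTU u U n s = D := (XTU_eq_NVloc u U n s).trans hDeq.symm
  refine ⟨U, hU, n, s, hn, hs, hX ▸ hxD, hX ▸ hD, ?_⟩
  rw [cond3U_iff]
  refine cond3W_congr u hU n s hX.symm hDT (XTU_le u n s) fun t => ?_
  obtain ⟨m, hm, σ', hσ', h⟩ := h3 t
  obtain ⟨s', hs', rfl⟩ := (mem_imGrp_iff h𝒜 u hu hU D hDT (m * n) σ').1 hσ'
  refine ⟨m, hm, s', hs', ?_⟩
  rw [rS_tauU] at h
  exact h

end canon

section wrap

variable {Y X : Scheme.{u}} (q : X ⟶ Y) {L : X.Modules} [L.IsQuasicoherent]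
  {𝒮L : RelProj.QCGrAlg X} {jL : L ⟶ 𝒮L.toModule} (hjL : RelProj.IsGrSymAlg L 𝒮L jL)

include hjL in
/-- the canonical graded `q`-morphism `Sym(q_* L) → q_* Sym(L)` -/
theorem exists_canon [((Scheme.Modules.pushforward q).obj L).IsQuasicoherent] :
    ∃ (𝒜 : RelProj.QCGrAlg Y) (jE : (Scheme.Modules.pushforward q).obj L ⟶ 𝒜.toModule)
      (_ : RelProj.IsGrSymAlg ((Scheme.Modules.pushforward q).obj L) 𝒜 jE) (u : RelProj.QGrHom q 𝒜 𝒮L),
      ∀ (U : Y.Opens) (x : Γ((Scheme.Modules.pushforward q).obj L, U)),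
        (u.app U).hom ((jE.app U) x) = (jL.app (q ⁻¹ᵁ U)) x := by
  have hQC := isQC_symPre_of_isQuasicoherent ((Scheme.Modules.pushforward q).obj L)
  have h𝒜 := isGrSymAlg ((Scheme.Modules.pushforward q).obj L) hQC
  have hφ1 : ∀ (U : Y.Opens) (m : Γ((Scheme.Modules.pushforward q).obj L, U)) (U' : X.Opens) (hU' : IsAffineOpen U')
      (hle : U' ≤ q ⁻¹ᵁ U),
      (𝒮L.presheaf.map (homOfLE hle).op).hom (phiR q 𝒮L.toQCAlg ((Scheme.Modules.pushforward q).map jL) U m) ∈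
        𝒮L.deg U' hU' 1 := by
    intro U m U' hU' hle
    have h1 : (𝒮L.presheaf.map (homOfLE hle).op).hom
        (phiR q 𝒮L.toQCAlg ((Scheme.Modules.pushforward q).map jL) U m) =
        asR 𝒮L.toQCAlg (jL.app U' (res L hle (show Γ(L, q ⁻¹ᵁ U) from m))) := by
      rw [app_res]
      rfl
    rw [h1]
    exact hjL.2 U' hU' _
  exact ⟨_, _, h𝒜, symQGr q h𝒜 𝒮L ((Scheme.Modules.pushforward q).map jL) hφ1, fun U x =>
    symQGr_j q h𝒜 𝒮L ((Scheme.Modules.pushforward q).map jL) hφ1 U x⟩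

include hjL in
/-- **a relatively very ample module satisfies the local condition everywhere** -/
theorem locGood_of_isRelVeryAmple [QuasiCompact q] (hL : PicF.IsInvertible L)
    (h : RelProj.IsRelVeryAmple q L) (x : X) : LocGood q jL x := by
  have hsep : IsSeparated q := isSeparated_of_isRelVeryAmple q h
  have hFq : ((Scheme.Modules.pushforward q).obj L).IsQuasicoherent := isQuasicoherent_pushforward q L
  obtain ⟨𝒜, jE, h𝒜, u, hu⟩ := exists_canon q hjL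
  have hPL := RelProjExists.isRelProj 𝒮L
  have hP := RelProjExists.isRelProj 𝒜
  obtain ⟨r, hr, -⟩ := ProjQRel.existsUnique_glueW u _ _ hP _ _ hPL
  have hrOn := ProjQRel.isProjQMapOn_of_glue u _ _ _ _ r hr
  obtain ⟨htop, himm⟩ := Groth.Agent.S12686.result q L hL inferInstance 𝒮L jL hjL _ _ hPL hFq _ _ h𝒜 _ hu
    _ _ hP r hrOn h
  obtain ⟨ι, U, hU, n, s, hns, hcov, haff, h3⟩ :=
    exists_family_of_immersion hjL u _ _ hP _ _ hPL r hrOn hL htop himm
  have hx : x ∈ ⨆ a, XTU u (U a) (n a) (s a) := by rw [hcov]; trivial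
  obtain ⟨a, ha⟩ := Opens.mem_iSup.1 hx
  exact locGood_of_good h𝒜 u hu (hU a) (hns a).1 (s a) (hns a).2 (haff a) (h3 a) x ha

include hjL in
/-- **the local condition everywhere implies relative very ampleness** -/
theorem isRelVeryAmple_of_locGood [QuasiCompact q] [QuasiSeparated q] (hL : PicF.IsInvertible L)
    (h : ∀ x : X, LocGood q jL x) : RelProj.IsRelVeryAmple q L := by
  have hFq : ((Scheme.Modules.pushforward q).obj L).IsQuasicoherent := isQuasicoherent_pushforward q L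
  obtain ⟨𝒜, jE, h𝒜, u, hu⟩ := exists_canon q hjL
  have hPL := RelProjExists.isRelProj 𝒮L
  have hP := RelProjExists.isRelProj 𝒜
  obtain ⟨r, hr, -⟩ := ProjQRel.existsUnique_glueW u _ _ hP _ _ hPL
  have hrOn := ProjQRel.isProjQMapOn_of_glue u _ _ _ _ r hr
  choose U hU n s hn hs hx haff h3 using fun x => exists_good_of_locGood h𝒜 u hu x (h x)
  have hfam : IsGoodFamily u U hU n s :=
    ⟨fun x => ⟨hn x, hs x⟩, top_le_iff.1 fun x _ => Opens.mem_iSup.2 ⟨x, hx x⟩, haff, h3⟩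
  obtain ⟨htop, himm⟩ := immersion_of_family hjL u _ _ hP _ _ hPL r hrOn hL U hU n s hfam
  have hsurj := surjCond_of_goodFamily hjL h𝒜 u _ _ hPL hL U hU n s hfam
  have hO := RelTwistEx.isRelTwist hP 1
  obtain ⟨i, hi, hcomp, ⟨e⟩⟩ := exists_immersion_of_surjCond hjL h𝒜 u _ _ hP _ _ hPL r hrOn hO hL hsurj himm
  exact ⟨_, hFq, _, _, h𝒜, _, _, _, hP, _, _, hO, i, hi, hcomp, ⟨e⟩⟩

end wrap

end Groth.Agent.Lib.Helper28.LocVA
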