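import Groth.Agent.Lib.Helper28.SymAlgUniv

set_option autoImplicit false
universe u
open CategoryTheory CategoryTheory.Limits AlgebraicGeometry Opposite TopologicalSpace
noncomputable section

namespace Groth.Agent.Lib.Helper28.SymAlg

open Groth.Agent.Lib.Helper28 Groth.Agent.Lib.Helper28.QCohLoc Groth.Agent.Lib.Helper28.TraceAlg

attribute [local instance] algAt

variable {S : Scheme.{u}}

theorem toModuleMap_comp {A B C : RelSpec.QCAlg S} (f : A ⟶ B) (g : B ⟶ C) :
    RelSpec.QCAlg.Hom.toModuleMap (f ≫ g) = RelSpec.QCAlg.Hom.toModuleMap f ≫ RelSpec.QCAlg.Hom.toModuleMap g := by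
  apply Scheme.Modules.hom_ext
  intro W
  rfl

theorem toModuleMap_id (A : RelSpec.QCAlg S) :
    RelSpec.QCAlg.Hom.toModuleMap (𝟙 A) = 𝟙 A.toModule := by
  apply Scheme.Modules.hom_ext
  intro W
  rfl

/-- two symmetric algebras of the same module are isomorphic -/
theorem exists_iso_of_isSymAlg {E : S.Modules} {A A' : RelSpec.QCAlg S} {j : E ⟶ A.toModule} {j' : E ⟶ A'.toModule}
    (hA : RelSpec.IsSymAlg E A j) (hA' : RelSpec.IsSymAlg E A' j') :
    ∃ (f : A ⟶ A') (g : A' ⟶ A), f ≫ g = 𝟙 A ∧ g ≫ f = 𝟙 A' ∧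
      j ≫ RelSpec.QCAlg.Hom.toModuleMap f = j' ∧ j' ≫ RelSpec.QCAlg.Hom.toModuleMap g = j := by
  obtain ⟨f, hf, -⟩ := hA A' j'
  obtain ⟨g, hg, -⟩ := hA' A j
  have hf' : j ≫ RelSpec.QCAlg.Hom.toModuleMap f = j' := hf
  have hg' : j' ≫ RelSpec.QCAlg.Hom.toModuleMap g = j := hg
  refine ⟨f, g, ?_, ?_, hf', hg'⟩
  · obtain ⟨u, -, hu⟩ := hA A j
    have h1 : f ≫ g = u := hu _ (by
      show j ≫ RelSpec.QCAlg.Hom.toModuleMap (f ≫ g) = j
      rw [toModuleMap_comp, ← Category.assoc, hf', hg'])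
    have h2 : 𝟙 A = u := hu _ (by
      show j ≫ RelSpec.QCAlg.Hom.toModuleMap (𝟙 A) = j
      rw [toModuleMap_id, Category.comp_id])
    rw [h1, h2]
  · obtain ⟨u, -, hu⟩ := hA' A' j'
    have h1 : g ≫ f = u := hu _ (by
      show j' ≫ RelSpec.QCAlg.Hom.toModuleMap (g ≫ f) = j'
      rw [toModuleMap_comp, ← Category.assoc, hg', hf'])
    have h2 : 𝟙 A' = u := hu _ (by
      show j' ≫ RelSpec.QCAlg.Hom.toModuleMap (𝟙 A') = j'
      rw [toModuleMap_id, Category.comp_id])
    rw [h1, h2]

theorem bijective_of_iso {R₁ R₂ : CommRingCat.{u}} (e : R₁ ≅ R₂) : Function.Bijective e.hom.hom := by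
  refine Function.bijective_iff_has_inverse.2 ⟨e.inv.hom, fun x => ?_, fun y => ?_⟩
  · exact congrArg (fun χ => χ.hom x) e.hom_inv_id
  · exact congrArg (fun χ => χ.hom y) e.inv_hom_id

/-- **over an affine open, the sections of the symmetric algebra are the symmetric algebra of the sections** -/
theorem liftU_bijective {E : S.Modules} [E.IsQuasicoherent] {A : RelSpec.QCAlg S} {j : E ⟶ A.toModule}
    (hA : RelSpec.IsSymAlg E A j) (U : S.Opens) (hU : IsAffineOpen U) :
    Function.Bijective (liftU A j U) := by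
  have hQC := isQC_symPre_of_isQuasicoherent E
  obtain ⟨f, g, hfg, hgf, hjf, hjg⟩ := exists_iso_of_isSymAlg hA (isSymAlg hQC)
  have key : (liftU A j U).toRingHom = (g.hom.app (op U)).hom.comp (eU E hQC U hU).inv.hom := by
    apply ringHom_ext
    · intro a
      show liftU A j U _ = (g.hom.app (op U)).hom ((eU E hQC U hU).inv.hom _)
      rw [liftU_algebraMap, ← str_eU E hQC U hU a]
      have h1 := congrArg (fun χ => χ.hom (((symAlg E hQC).str.app (op U)).hom a)) (eU E hQC U hU).hom_inv_id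
      have h2 : (eU E hQC U hU).inv.hom ((eU E hQC U hU).hom.hom
          (((symAlg E hQC).str.app (op U)).hom a)) = ((symAlg E hQC).str.app (op U)).hom a := h1
      rw [h2]
      have h3 := congrArg (fun χ => (χ.app (op U)).hom a) g.comm
      exact h3.symm
    · intro m
      show liftU A j U _ = (g.hom.app (op U)).hom (jAff E hQC U hU m)
      rw [liftU_ι, ← hjg]
      show (RelSpec.QCAlg.Hom.toModuleMap g).app U ((jHom E hQC).app U m) = _
      rw [toModuleMap_app, jHom_app_affine E hQC U hU]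
  have hg : Function.Bijective (g.hom.app (op U)).hom := by
    refine Function.bijective_iff_has_inverse.2 ⟨(f.hom.app (op U)).hom, fun x => ?_, fun y => ?_⟩
    · have h1 := congrArg (fun χ : symAlg E hQC ⟶ symAlg E hQC => (χ.hom.app (op U)).hom x) hgf
      exact h1
    · have h1 := congrArg (fun χ : A ⟶ A => (χ.hom.app (op U)).hom y) hfg
      exact h1
  have he : Function.Bijective (eU E hQC U hU).inv.hom := bijective_of_iso (eU E hQC U hU).symm
  have h2 : (liftU A j U : SymmetricAlgebra Γ(S, U) Γ(E, U) → A.presheaf.obj (op U)) =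
      (g.hom.app (op U)).hom ∘ (eU E hQC U hU).inv.hom := by
    funext z
    exact RingHom.congr_fun key z
  rw [h2]
  exact hg.comp he

end Groth.Agent.Lib.Helper28.SymAlg
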