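import Groth.Agent.Lib.Helper28.SymAlgCrit
import Groth.Agent.Lib.Helper28.SymGrAlg
import Groth.Agent.Lib.Helper28.SymAlgUnique
import Groth.Agent.Lib.Helper28.RestrictGen

/-!
# Restriction of quasi-coherent graded algebras to an open subscheme
-/

set_option autoImplicit false
universe u
open CategoryTheory CategoryTheory.Limits AlgebraicGeometry Opposite TopologicalSpace
noncomputable section

namespace Groth.Agent.Lib.Helper28.RestrictAlg

open Groth.Agent.Lib.Helper28 Groth.Agent.Lib.Helper28.QCohLoc Groth.Agent.Lib.Helper28.TraceAlg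
open Groth.Agent.Lib.Helper28.SymAlg

variable {X : Scheme.{u}} (X₀ : X.Opens)

theorem image_basicOpen_ι {V : (X₀ : Scheme.{u}).Opens} (r : Γ((X₀ : Scheme.{u}), V)) :
    X₀.ι ''ᵁ ((X₀ : Scheme.{u}).basicOpen r) = X.basicOpen (show Γ(X, X₀.ι ''ᵁ V) from r) := by
  refine (Scheme.image_basicOpen X₀.ι r).trans ?_
  rw [Scheme.Opens.ι_appIso]
  rfl

theorem isLoc_congr (A : TopCat.Presheaf CommRingCat.{u} X.carrier) {U W W' : X.Opens} (hW : W ≤ U) (hW' : W' ≤ U)
    (e : W = W') (x : A.obj (op U))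
    (h : letI := (A.map (homOfLE hW).op).hom.toAlgebra; IsLocalization.Away x (A.obj (op W))) :
    letI := (A.map (homOfLE hW').op).hom.toAlgebra; IsLocalization.Away x (A.obj (op W')) := by
  subst e
  exact h

/-- restriction of a quasi-coherent algebra to an open subscheme -/
def restrictQCAlg (A : RelSpec.QCAlg X) : RelSpec.QCAlg (X₀ : Scheme.{u}) where
  presheaf := X₀.ι.opensFunctor.op ⋙ A.presheaf
  isSheaf := TopCat.Presheaf.isSheaf_of_isOpenEmbedding X₀.ι.isOpenEmbedding A.isSheaf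
  str := Functor.whiskerLeft X₀.ι.opensFunctor.op A.str
  isQC := by
    intro V hV r
    have h := A.isQC (X₀.ι ''ᵁ V) (hV.image_of_isOpenImmersion X₀.ι) r
    exact isLoc_congr A.presheaf _ _ (image_basicOpen_ι X₀ r).symm _ h

theorem restrictQCAlg_obj (A : RelSpec.QCAlg X) (V : (X₀ : Scheme.{u}).Opens) :
    (restrictQCAlg X₀ A).presheaf.obj (op V) = A.presheaf.obj (op (X₀.ι ''ᵁ V)) := rfl

theorem restrictQCAlg_str (A : RelSpec.QCAlg X) (V : (X₀ : Scheme.{u}).Opens) (r : Γ((X₀ : Scheme.{u}), V)) :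
    ((restrictQCAlg X₀ A).str.app (op V)).hom r = (A.str.app (op (X₀.ι ''ᵁ V))).hom r := rfl

theorem restrictQCAlg_map (A : RelSpec.QCAlg X) {V W : (X₀ : Scheme.{u}).Opens} (h : W ≤ V)
    (x : A.presheaf.obj (op (X₀.ι ''ᵁ V))) :
    ((restrictQCAlg X₀ A).presheaf.map (homOfLE h).op).hom x =
      (A.presheaf.map (homOfLE (X₀.ι.image_mono h)).op).hom x := rfl

/-- restriction of a quasi-coherent graded algebra to an open subscheme -/
def restrictGr (𝒮 : RelProj.QCGrAlg X) : RelProj.QCGrAlg (X₀ : Scheme.{u}) where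
  toQCAlg := restrictQCAlg X₀ 𝒮.toQCAlg
  deg V hV d := 𝒮.deg (X₀.ι ''ᵁ V) (hV.image_of_isOpenImmersion X₀.ι) d
  graded V hV := 𝒮.graded (X₀.ι ''ᵁ V) (hV.image_of_isOpenImmersion X₀.ι)
  map_mem hU hV i _ _ hx := 𝒮.map_mem (hU.image_of_isOpenImmersion X₀.ι) (hV.image_of_isOpenImmersion X₀.ι)
    (X₀.ι.image_mono i) hx
  str_mem V hV r := 𝒮.str_mem (X₀.ι ''ᵁ V) (hV.image_of_isOpenImmersion X₀.ι) r

/-- restriction of a module map into a quasi-coherent algebra -/
def restrictJ {L : X.Modules} (A : RelSpec.QCAlg X) (j : L ⟶ A.toModule) :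
    L.restrict X₀.ι ⟶ (restrictQCAlg X₀ A).toModule :=
  ⟨letI := (restrictQCAlg X₀ A).moduleSect
   PresheafOfModules.homMk
    { app := fun V => AddCommGrpCat.ofHom
        (AddMonoidHom.mk' (fun m : Γ(L, X₀.ι ''ᵁ V.unop) => (j.app (X₀.ι ''ᵁ V.unop) m : Γ(A.toModule, X₀.ι ''ᵁ V.unop)))
          (fun a b => map_add _ a b))
      naturality := fun U V i => by
        ext m
        exact app_res j (X₀.ι.image_mono (leOfHom i.unop)) m }
    (fun V r m => by
      have h1 := Scheme.Modules.Hom.app_smul j ((X₀.ι.appIso V.unop).inv.hom r) m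
      have h2 : (X₀.ι.appIso V.unop).inv.hom r = (show Γ(X, X₀.ι ''ᵁ V.unop) from r) := by
        rw [Scheme.Opens.ι_appIso]; rfl
      rw [h2] at h1
      refine Eq.trans ?_ h1
      show (j.app (X₀.ι ''ᵁ V.unop)) (((X₀.ι.appIso V.unop).inv.hom r) • (show Γ(L, X₀.ι ''ᵁ V.unop) from m)) = _
      rw [h2])⟩

theorem restrictJ_app {L : X.Modules} (A : RelSpec.QCAlg X) (j : L ⟶ A.toModule) (V : (X₀ : Scheme.{u}).Opens)
    (m : Γ(L, X₀.ι ''ᵁ V)) :
    asR (restrictQCAlg X₀ A) ((restrictJ X₀ A j).app V m) = asR A (j.app (X₀.ι ''ᵁ V) m) := rfl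

section sym

attribute [local instance] algAt

variable (L : X.Modules)

theorem smul_restrict {V : (X₀ : Scheme.{u}).Opens} (r : Γ((X₀ : Scheme.{u}), V)) (m : Γ(L.restrict X₀.ι, V)) :
    (r • m : Γ(L.restrict X₀.ι, V)) =
      ((show Γ(X, X₀.ι ''ᵁ V) from r) • (show Γ(L, X₀.ι ''ᵁ V) from m) : Γ(L, X₀.ι ''ᵁ V)) := by
  rw [GenLocus.restrict_smul]
  congr 1
  rw [Scheme.Opens.ι_appIso]
  rfl

/-- the identity on functions, from the open subscheme to the image -/
def ρto (V : (X₀ : Scheme.{u}).Opens) : Γ((X₀ : Scheme.{u}), V) →+* Γ(X, X₀.ι ''ᵁ V) := RingHom.id _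

/-- the identity on functions, from the image to the open subscheme -/
def ρof (V : (X₀ : Scheme.{u}).Opens) : Γ(X, X₀.ι ''ᵁ V) →+* Γ((X₀ : Scheme.{u}), V) := RingHom.id _

/-- the identity, from sections of the restriction to sections over the image -/
def toImg (V : (X₀ : Scheme.{u}).Opens) :
    Γ(L.restrict X₀.ι, V) →ₛₗ[ρto X₀ V] Γ(L, X₀.ι ''ᵁ V) where
  toFun m := m
  map_add' _ _ := rfl
  map_smul' r m := smul_restrict X₀ L r m

/-- the identity, from sections over the image to sections of the restriction -/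
def ofImg (V : (X₀ : Scheme.{u}).Opens) :
    Γ(L, X₀.ι ''ᵁ V) →ₛₗ[ρof X₀ V] Γ(L.restrict X₀.ι, V) where
  toFun m := m
  map_add' _ _ := rfl
  map_smul' r m := (smul_restrict X₀ L r m).symm

theorem symMap_toImg_bijective (V : (X₀ : Scheme.{u}).Opens) :
    Function.Bijective (symMap (ρto X₀ V) (toImg X₀ L V)) := by
  have h1 : (symMap (ρof X₀ V) (ofImg X₀ L V)).comp (symMap (ρto X₀ V) (toImg X₀ L V)) = RingHom.id _ := by
    apply ringHom_ext
    · intro a
      rw [RingHom.comp_apply, symMap_algebraMap, symMap_algebraMap]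
      rfl
    · intro m
      rw [RingHom.comp_apply, symMap_ι, symMap_ι]
      rfl
  have h2 : (symMap (ρto X₀ V) (toImg X₀ L V)).comp (symMap (ρof X₀ V) (ofImg X₀ L V)) = RingHom.id _ := by
    apply ringHom_ext
    · intro a
      rw [RingHom.comp_apply, symMap_algebraMap, symMap_algebraMap]
      rfl
    · intro m
      rw [RingHom.comp_apply, symMap_ι, symMap_ι]
      rfl
  refine Function.bijective_iff_has_inverse.2 ⟨symMap (ρof X₀ V) (ofImg X₀ L V), fun z => ?_, fun z => ?_⟩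
  · exact RingHom.congr_fun h1 z
  · exact RingHom.congr_fun h2 z

variable {L}

theorem liftU_restrict (A : RelSpec.QCAlg X) (j : L ⟶ A.toModule) (V : (X₀ : Scheme.{u}).Opens) :
    (liftU (restrictQCAlg X₀ A) (restrictJ X₀ A j) V).toRingHom =
      (liftU A j (X₀.ι ''ᵁ V)).toRingHom.comp (symMap (ρto X₀ V) (toImg X₀ L V)) := by
  apply ringHom_ext
  · intro a
    show liftU (restrictQCAlg X₀ A) (restrictJ X₀ A j) V _ = liftU A j (X₀.ι ''ᵁ V) (symMap _ _ _)
    rw [liftU_algebraMap, symMap_algebraMap, liftU_algebraMap]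
    rfl
  · intro m
    show liftU (restrictQCAlg X₀ A) (restrictJ X₀ A j) V _ = liftU A j (X₀.ι ''ᵁ V) (symMap _ _ _)
    rw [liftU_ι, symMap_ι, liftU_ι]
    rfl

/-- **the restriction of the graded symmetric algebra is the graded symmetric algebra of the restriction** -/
theorem isGrSymAlg_restrict [L.IsQuasicoherent] {𝒮 : RelProj.QCGrAlg X} {j : L ⟶ 𝒮.toModule}
    (hS : RelProj.IsGrSymAlg L 𝒮 j) :
    RelProj.IsGrSymAlg (L.restrict X₀.ι) (restrictGr X₀ 𝒮) (restrictJ X₀ 𝒮.toQCAlg j) := by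
  refine ⟨isSymAlg_of_liftU_bijective (restrictQCAlg X₀ 𝒮.toQCAlg) (restrictJ X₀ 𝒮.toQCAlg j) fun V hV => ?_,
    fun V hV x => hS.2 (X₀.ι ''ᵁ V) (hV.image_of_isOpenImmersion X₀.ι) x⟩
  have h := liftU_bijective hS.1 (X₀.ι ''ᵁ V) (hV.image_of_isOpenImmersion X₀.ι)
  have h2 : (liftU (restrictQCAlg X₀ 𝒮.toQCAlg) (restrictJ X₀ 𝒮.toQCAlg j) V : _ → _) =
      (liftU 𝒮.toQCAlg j (X₀.ι ''ᵁ V)) ∘ (symMap (ρto X₀ V) (toImg X₀ L V)) := by
    funext z
    exact RingHom.congr_fun (liftU_restrict X₀ 𝒮.toQCAlg j V) z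
  rw [h2]
  exact h.comp (symMap_toImg_bijective X₀ L V)

end sym

end Groth.Agent.Lib.Helper28.RestrictAlg
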