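import Groth.Agent.Lib.Helper28.LocGood
import Groth.Agent.Lib.Helper28.RestrictAlg

/-!
# The local condition for very ampleness is local on the base
-/

set_option autoImplicit false
universe u
open CategoryTheory CategoryTheory.Limits AlgebraicGeometry Opposite TopologicalSpace
open scoped HomogeneousIdeal
noncomputable section

namespace Groth.Agent.Lib.Helper28.LocVA

open Groth.Agent.Lib.Helper28 Groth.Agent.Lib.Helper28.QCohLoc Groth.Agent.Lib.Helper28.TraceAlg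
open Groth.Agent.Lib.Helper28.SymAlg Groth.Agent.Lib.Helper28.SymPow
open Groth.Agent.Lib.Helper28.RLPsi Groth.Agent.Lib.Helper28.RestrictAlg

variable {Y X : Scheme.{u}} (q : X ⟶ Y) (U₀ : Y.Opens) {L : X.Modules} {𝒮L : RelProj.QCGrAlg X}
  (jL : L ⟶ 𝒮L.toModule)

/-- monomials for the restricted data are monomials for the global data -/
theorem imGrp_restrict (U' : (U₀ : Scheme.{u}).Opens) (T' W' : ((q ⁻¹ᵁ U₀ : X.Opens) : Scheme.{u}).Opens)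
    (hWT : W' ≤ T') (hTU : T' ≤ (q ∣_ U₀) ⁻¹ᵁ U') (hTU' : (q ⁻¹ᵁ U₀).ι ''ᵁ T' ≤ q ⁻¹ᵁ (U₀.ι ''ᵁ U')) (k : ℕ)
    (z : 𝒮L.presheaf.obj (op ((q ⁻¹ᵁ U₀).ι ''ᵁ W')))
    (hz : z ∈ imGrp (q ∣_ U₀) (𝒮L := restrictGr (q ⁻¹ᵁ U₀) 𝒮L) (restrictJ (q ⁻¹ᵁ U₀) 𝒮L.toQCAlg jL) U' T' W' hWT hTU k) :
    z ∈ imGrp q jL (U₀.ι ''ᵁ U') ((q ⁻¹ᵁ U₀).ι ''ᵁ T') ((q ⁻¹ᵁ U₀).ι ''ᵁ W')
      ((q ⁻¹ᵁ U₀).ι.image_mono hWT) hTU' k := by
  induction hz using AddSubgroup.closure_induction with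
  | mem z hz =>
    obtain ⟨a, l, hl, rfl⟩ := hz
    refine AddSubgroup.subset_closure ⟨a, l, hl, ?_⟩
    have h1 : ((q ∣_ U₀).appLE U' W' (hWT.trans hTU)).hom a =
        (q.appLE (U₀.ι ''ᵁ U') ((q ⁻¹ᵁ U₀).ι ''ᵁ W')
          (((q ⁻¹ᵁ U₀).ι.image_mono hWT).trans hTU')).hom a := by
      rw [morphismRestrict_appLE]
      rfl
    show ((restrictQCAlg (q ⁻¹ᵁ U₀) 𝒮L.toQCAlg).str.app (op W')).hom (((q ∣_ U₀).appLE U' W' (hWT.trans hTU)).hom a) * _ = _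
    rw [h1]
    rfl
  | zero => exact AddSubgroup.zero_mem _
  | add z z' _ _ hz hz' => exact AddSubgroup.add_mem _ hz hz'
  | neg z _ hz => exact AddSubgroup.neg_mem _ hz

variable (X₀ : X.Opens)

/-- the nonvanishing locus for the restricted algebra -/
theorem image_NVloc_restrict (n : ℕ) (T' : (X₀ : Scheme.{u}).Opens) (σ : 𝒮L.presheaf.obj (op (X₀.ι ''ᵁ T'))) :
    X₀.ι ''ᵁ (NVloc (restrictGr X₀ 𝒮L) n T' σ) = NVloc 𝒮L n (X₀.ι ''ᵁ T') σ := by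
  ext y
  show y ∈ X₀.ι ''ᵁ (NVloc (restrictGr X₀ 𝒮L) n T' σ) ↔ y ∈ NVloc 𝒮L n (X₀.ι ''ᵁ T') σ
  rw [mem_NVloc_iff]
  constructor
  · rintro ⟨y', hy', rfl⟩
    obtain ⟨W', hW', hWT, hyW, hsub⟩ := (mem_NVloc_iff (𝒮 := restrictGr X₀ 𝒮L) n T' σ y').1 hy'
    exact ⟨X₀.ι ''ᵁ W', hW'.image_of_isOpenImmersion X₀.ι, X₀.ι.image_mono hWT, ⟨y', hyW, rfl⟩, hsub⟩
  · rintro ⟨W, hW, hWT, hyW, hsub⟩
    have hle : W ≤ X₀.ι.opensRange := by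
      intro a ha
      obtain ⟨b, -, hb⟩ := hWT ha
      exact ⟨b, hb⟩
    have himg : X₀.ι ''ᵁ (X₀.ι ⁻¹ᵁ W) = W := by
      rw [Scheme.Hom.image_preimage_eq_opensRange_inf]
      exact inf_eq_right.2 hle
    obtain ⟨y', hy'⟩ := hle hyW
    have hy'W : y' ∈ X₀.ι ⁻¹ᵁ W := by
      show X₀.ι y' ∈ W
      rw [hy']; exact hyW
    have hW'T : X₀.ι ⁻¹ᵁ W ≤ T' := by
      intro b hb
      obtain ⟨c, hc, hcb⟩ := hWT (show X₀.ι b ∈ W from hb)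
      have : c = b := X₀.ι.isOpenEmbedding.injective hcb
      rwa [← this]
    refine ⟨y', (mem_NVloc_iff (𝒮 := restrictGr X₀ 𝒮L) n T' σ y').2 ⟨X₀.ι ⁻¹ᵁ W, hW.preimage_of_isOpenImmersion X₀.ι hle, hW'T, hy'W, ?_⟩, hy'⟩
    suffices hs : ∀ (W'' : X.Opens) (hW'' : IsAffineOpen W'') (h'' : W'' ≤ X₀.ι ''ᵁ T'), W'' = W →
        ((𝒮L.deg W'' hW'' n : AddSubgroup (𝒮L.presheaf.obj (op W''))) : Set (𝒮L.presheaf.obj (op W''))) ⊆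
          (Ideal.span {rS 𝒮L h'' σ} : Set (𝒮L.presheaf.obj (op W''))) from
      hs (X₀.ι ''ᵁ (X₀.ι ⁻¹ᵁ W)) ((hW.preimage_of_isOpenImmersion X₀.ι hle).image_of_isOpenImmersion X₀.ι)
        (X₀.ι.image_mono hW'T) himg
    rintro W'' hW'' h'' rfl
    exact hsub

/-- **the local condition for the restriction over an open of the base gives the local condition** -/
theorem locGood_of_restrict (x' : ((q ⁻¹ᵁ U₀ : X.Opens) : Scheme.{u}))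
    (h : LocGood (q ∣_ U₀) (𝒮L := restrictGr (q ⁻¹ᵁ U₀) 𝒮L) (restrictJ (q ⁻¹ᵁ U₀) 𝒮L.toQCAlg jL) x') :
    LocGood q jL ((q ⁻¹ᵁ U₀).ι x') := by
  obtain ⟨U', hU', n, hn, T', hT', σ, hσ, D', hD', hDT, hxD, hDeq, h3⟩ := h
  have hT : (q ⁻¹ᵁ U₀).ι ''ᵁ T' = q ⁻¹ᵁ (U₀.ι ''ᵁ U') := by
    rw [hT']
    exact image_morphismRestrict_preimage q U₀ U'
  refine ⟨U₀.ι ''ᵁ U', hU'.image_of_isOpenImmersion U₀.ι, n, hn, (q ⁻¹ᵁ U₀).ι ''ᵁ T', hT, σ, ?_,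
    (q ⁻¹ᵁ U₀).ι ''ᵁ D', hD'.image_of_isOpenImmersion _, (q ⁻¹ᵁ U₀).ι.image_mono hDT, ⟨x', hxD, rfl⟩, ?_, ?_⟩
  · exact imGrp_restrict q U₀ jL U' T' T' le_rfl hT'.le hT.le n σ hσ
  · rw [hDeq]
    exact image_NVloc_restrict (q ⁻¹ᵁ U₀) n T' σ
  · intro t
    obtain ⟨m, hm, σ', hσ', h⟩ := h3 t
    exact ⟨m, hm, σ', imGrp_restrict q U₀ jL U' T' D' hDT hT'.le hT.le (m * n) σ' hσ', h⟩

end Groth.Agent.Lib.Helper28.LocVA
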