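import Mathlib

set_option autoImplicit false
set_option linter.unusedSectionVars false
universe u
open scoped Pointwise

namespace Groth.Agent.Lib.Helper28.Natural

variable {R A B : Type u} [CommRing R] [CommRing A] [Algebra R A]
    (𝒜 : ℕ → Submodule R A) [GradedAlgebra 𝒜]

/-- the part of degrees `≥ n` -/
def G (n : ℕ) : Submodule R A := ⨆ (m : ℕ) (_ : n ≤ m), 𝒜 m

/-- `a ↦ a X^n` as an `R`-linear map -/
noncomputable def mono (n : ℕ) : A →ₗ[R] Polynomial A :=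
  (Polynomial.monomial n : A →ₗ[A] Polynomial A).restrictScalars R

@[simp] theorem mono_apply (n : ℕ) (a : A) : mono (R := R) n a = Polynomial.monomial n a := rfl

theorem mono_injective (n : ℕ) : Function.Injective (mono (R := R) (A := A) n) :=
  Polynomial.monomial_injective n

theorem le_G (n : ℕ) : 𝒜 n ≤ G 𝒜 n :=
  le_iSup₂_of_le n le_rfl le_rfl

theorem G_anti {n n' : ℕ} (h : n ≤ n') : G 𝒜 n' ≤ G 𝒜 n :=
  iSup₂_le fun m hm => le_iSup₂_of_le m (h.trans hm) le_rfl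

theorem le_G_of_le {n m : ℕ} (h : n ≤ m) : 𝒜 m ≤ G 𝒜 n :=
  le_iSup₂_of_le m h le_rfl

theorem mul_le (i j : ℕ) : 𝒜 i * 𝒜 j ≤ 𝒜 (i + j) :=
  Submodule.mul_le.2 fun _ ha _ hb => SetLike.mul_mem_graded ha hb

theorem G_mul (i j : ℕ) : G 𝒜 i * G 𝒜 j ≤ G 𝒜 (i + j) := by
  unfold G
  simp only [Submodule.iSup_mul, Submodule.mul_iSup]
  refine iSup₂_le fun m hm => iSup₂_le fun m' hm' => ?_
  exact (mul_le 𝒜 m' m).trans (le_G_of_le 𝒜 (Nat.add_le_add hm' hm))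

theorem G_eq_sup (n : ℕ) : G 𝒜 n = 𝒜 n ⊔ G 𝒜 (n + 1) := by
  apply le_antisymm
  · refine iSup₂_le fun m hm => ?_
    rcases Nat.eq_or_lt_of_le hm with rfl | h
    · exact le_sup_left
    · exact (le_G_of_le 𝒜 h).trans le_sup_right
  · exact sup_le (le_G 𝒜 n) (G_anti 𝒜 (Nat.le_succ n))

theorem G_zero : G 𝒜 0 = ⊤ := by
  rw [eq_top_iff]
  intro x _
  classical
  rw [← DirectSum.sum_support_decompose 𝒜 x]
  exact Submodule.sum_mem _ fun i _ => le_G_of_le 𝒜 (Nat.zero_le i) (SetLike.coe_mem _)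

/-- the homogeneous component of degree `n` vanishes on `G (n+1)` -/
theorem proj_G_succ (n : ℕ) {z : A} (hz : z ∈ G 𝒜 (n + 1)) :
    GradedAlgebra.proj 𝒜 n z = 0 := by
  classical
  have : G 𝒜 (n + 1) ≤ LinearMap.ker (GradedAlgebra.proj 𝒜 n) := by
    refine iSup₂_le fun m hm => ?_
    intro y hy
    rw [LinearMap.mem_ker, GradedAlgebra.proj_apply, DirectSum.decompose_of_mem_ne 𝒜 hy]
    omega
  exact this hz

theorem mem_of_mem_sup {n : ℕ} {M : Submodule R A} (hM : M ≤ 𝒜 n) {x : A} (hx : x ∈ 𝒜 n)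
    (h : x ∈ M ⊔ G 𝒜 (n + 1)) : x ∈ M := by
  classical
  obtain ⟨y, hy, z, hz, rfl⟩ := Submodule.mem_sup.1 h
  have hz' : z ∈ 𝒜 n := by
    have := (𝒜 n).sub_mem hx (hM hy)
    simpa using this
  have : z = 0 := by
    have h1 := proj_G_succ 𝒜 n hz
    rwa [GradedAlgebra.proj_apply, DirectSum.decompose_of_mem_same 𝒜 hz'] at h1
  rw [this, add_zero]
  exact hy

omit [GradedAlgebra 𝒜] in
theorem map_mono_mul (i j : ℕ) (M N : Submodule R A) :
    Submodule.map (mono i) M * Submodule.map (mono j) N = Submodule.map (mono (i + j)) (M * N) := by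
  apply le_antisymm
  · rw [Submodule.mul_le]
    rintro _ ⟨a, ha, rfl⟩ _ ⟨b, hb, rfl⟩
    refine ⟨a * b, Submodule.mul_mem_mul ha hb, ?_⟩
    simp only [mono_apply, Polynomial.monomial_mul_monomial]
  · rw [Submodule.map_le_iff_le_comap, Submodule.mul_le]
    intro a ha b hb
    rw [Submodule.mem_comap]
    have : mono (R := R) (i + j) (a * b) = mono (R := R) i a * mono (R := R) j b := by
      simp only [mono_apply, Polynomial.monomial_mul_monomial]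
    rw [this]
    exact Submodule.mul_mem_mul (Submodule.mem_map_of_mem ha) (Submodule.mem_map_of_mem hb)

omit [GradedAlgebra 𝒜] in
theorem map_mono_pow (M : Submodule R A) (n : ℕ) :
    (Submodule.map (mono 1) M) ^ (n + 1) = Submodule.map (mono (n + 1)) (M ^ (n + 1)) := by
  induction n with
  | zero => simp
  | succ n ih =>
    rw [pow_succ, ih, map_mono_mul, ← pow_succ]

theorem pow_le (n : ℕ) : 𝒜 1 ^ n ≤ 𝒜 n := by
  induction n with
  | zero =>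
    rw [pow_zero, Submodule.one_le]
    exact SetLike.GradedOne.one_mem
  | succ n ih =>
    rw [pow_succ]
    exact (mul_le_mul_left ih _).trans (mul_le 𝒜 n 1)

theorem G_pow_le (n : ℕ) : G 𝒜 1 ^ n ≤ G 𝒜 n := by
  induction n with
  | zero => rw [G_zero]; exact le_top
  | succ n ih =>
    rw [pow_succ]
    exact (mul_le_mul_left ih _).trans (G_mul 𝒜 n 1)

theorem mul_le_G {M N : Submodule R A} {i j k : ℕ} (hM : M ≤ G 𝒜 i) (hN : N ≤ G 𝒜 j)
    (hk : k ≤ i + j) : M * N ≤ G 𝒜 k :=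
  (mul_le_mul' hM hN).trans ((G_mul 𝒜 i j).trans (G_anti 𝒜 hk))

/-- `G 1 * G n ≤ 𝒜 1 * 𝒜 n ⊔ G (n+2)` -/
theorem G_one_mul_le (n : ℕ) : G 𝒜 1 * G 𝒜 n ≤ 𝒜 1 * 𝒜 n ⊔ G 𝒜 (n + 1 + 1) := by
  rw [G_eq_sup 𝒜 1, G_eq_sup 𝒜 n, Submodule.sup_mul, Submodule.mul_sup, Submodule.mul_sup]
  refine sup_le (sup_le le_sup_left ?_) (sup_le ?_ ?_)
  · exact le_trans (mul_le_G 𝒜 (le_G 𝒜 1) le_rfl (by omega)) le_sup_right
  · exact le_trans (mul_le_G 𝒜 le_rfl (le_G 𝒜 n) (by omega)) le_sup_right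
  · exact le_trans (mul_le_G 𝒜 le_rfl le_rfl (by omega)) le_sup_right

/-- `G 1 ^ n ≤ 𝒜 1 ^ n ⊔ G (n+1)` -/
theorem G_one_pow_le (n : ℕ) : G 𝒜 1 ^ n ≤ 𝒜 1 ^ n ⊔ G 𝒜 (n + 1) := by
  induction n with
  | zero => rw [pow_zero, pow_zero]; exact le_sup_left
  | succ n ih =>
    rw [pow_succ, pow_succ]
    refine (mul_le_mul_left ih (G 𝒜 1)).trans ?_
    rw [G_eq_sup 𝒜 1, Submodule.sup_mul, Submodule.mul_sup, Submodule.mul_sup]
    refine sup_le (sup_le le_sup_left ?_) (sup_le ?_ ?_)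
    · exact le_trans (mul_le_G 𝒜 ((pow_le 𝒜 n).trans (le_G 𝒜 n)) le_rfl (by omega)) le_sup_right
    · exact le_trans (mul_le_G 𝒜 le_rfl (le_G 𝒜 1) (by omega)) le_sup_right
    · exact le_trans (mul_le_G 𝒜 le_rfl le_rfl (by omega)) le_sup_right

theorem core_mul (n₀ : ℕ) :
    (∀ n : ℕ, n₀ ≤ n → G 𝒜 (n + 1) = G 𝒜 1 * G 𝒜 n) ↔
      (∀ n : ℕ, n₀ ≤ n → 𝒜 (n + 1) = 𝒜 1 * 𝒜 n) := by
  constructor
  · intro h n hn
    apply le_antisymm
    · intro x hx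
      have h1 : x ∈ G 𝒜 1 * G 𝒜 n := by rw [← h n hn]; exact le_G 𝒜 _ hx
      have h2 := G_one_mul_le 𝒜 n h1
      exact mem_of_mem_sup 𝒜 ((mul_le 𝒜 1 n).trans (by rw [Nat.add_comm])) hx h2
    · exact (mul_le 𝒜 1 n).trans (by rw [Nat.add_comm])
  · intro h n hn
    apply le_antisymm
    · refine iSup₂_le fun m hm => ?_
      obtain ⟨m', rfl⟩ : ∃ m', m = m' + 1 := ⟨m - 1, by omega⟩
      rw [h m' (by omega)]
      exact mul_le_mul' (le_G 𝒜 1) (le_G_of_le 𝒜 (by omega))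
    · exact (G_mul 𝒜 1 n).trans (by rw [Nat.add_comm])

theorem core_pow (n₀ : ℕ) (hn₀ : 1 ≤ n₀) :
    (∀ n : ℕ, n₀ ≤ n → G 𝒜 n = G 𝒜 1 ^ n) ↔ (∀ n : ℕ, n₀ ≤ n → 𝒜 n = 𝒜 1 ^ n) := by
  constructor
  · intro h n hn
    apply le_antisymm
    · intro x hx
      have h1 : x ∈ G 𝒜 1 ^ n := by rw [← h n hn]; exact le_G 𝒜 _ hx
      exact mem_of_mem_sup 𝒜 (pow_le 𝒜 n) hx (G_one_pow_le 𝒜 n h1)
    · exact pow_le 𝒜 n
  · intro h n hn
    apply le_antisymm
    · refine iSup₂_le fun m hm => ?_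
      rw [h m (hn.trans hm)]
      obtain ⟨k, rfl⟩ : ∃ k, m = n + k := ⟨m - n, by omega⟩
      obtain ⟨n', rfl⟩ : ∃ n', n = n' + 1 := ⟨n - 1, by omega⟩
      have : n' + 1 + k = n' + (k + 1) := by omega
      rw [this, pow_add, pow_succ (G 𝒜 1) n']
      refine mul_le_mul' ?_ ?_
      · exact pow_le_pow_left' (le_G 𝒜 1) n'
      · exact (pow_le 𝒜 (k + 1)).trans (le_G_of_le 𝒜 (by omega))
    · exact G_pow_le 𝒜 n

section Transport

variable [CommRing B] [Algebra R B] (ℬ : ℕ → Submodule R B)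
    (φ : B →ₐ[R] Polynomial A) (hφ : Function.Injective φ)
    (hdeg : ∀ n : ℕ, Submodule.map φ.toLinearMap (ℬ n) =
      Submodule.map ((Polynomial.monomial n : A →ₗ[A] Polynomial A).restrictScalars R)
        (⨆ (m : ℕ) (_ : n ≤ m), 𝒜 m))

include hφ hdeg in
omit [GradedAlgebra 𝒜] in
theorem mul_iff (i j : ℕ) : ℬ (i + j) = ℬ i * ℬ j ↔ G 𝒜 (i + j) = G 𝒜 i * G 𝒜 j := by
  have hdeg' : ∀ n, Submodule.map φ.toLinearMap (ℬ n) = Submodule.map (mono n) (G 𝒜 n) := hdeg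
  rw [← (Submodule.map_injective_of_injective (f := φ.toLinearMap) hφ).eq_iff, Submodule.map_mul,
    hdeg', hdeg', hdeg', map_mono_mul,
    (Submodule.map_injective_of_injective (mono_injective (R := R) (i + j))).eq_iff]

include hφ hdeg in
omit [GradedAlgebra 𝒜] in
theorem pow_iff (n : ℕ) : ℬ (n + 1) = ℬ 1 ^ (n + 1) ↔ G 𝒜 (n + 1) = G 𝒜 1 ^ (n + 1) := by
  have hdeg' : ∀ n, Submodule.map φ.toLinearMap (ℬ n) = Submodule.map (mono n) (G 𝒜 n) := hdeg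
  rw [← (Submodule.map_injective_of_injective (f := φ.toLinearMap) hφ).eq_iff, Submodule.map_pow,
    hdeg', hdeg', map_mono_pow,
    (Submodule.map_injective_of_injective (mono_injective (R := R) (n + 1))).eq_iff]

end Transport

end Groth.Agent.Lib.Helper28.Natural
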