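import Mathlib
import Groth.Agent.Lib.Helper28.Natural
import Groth.Agent.S4390

set_option autoImplicit false
set_option linter.unusedSectionVars false
universe u

namespace Groth.Agent.Lib.Helper28.Natural2

open Groth.Agent.Lib.Helper28.Natural

variable {R A B : Type u} [CommRing R] [CommRing A] [Algebra R A]
    (𝒜 : ℕ → Submodule R A) [GradedAlgebra 𝒜] [CommRing B] [Algebra R B] (ℬ : ℕ → Submodule R B)
    [GradedAlgebra ℬ]
    (φ : B →ₐ[R] Polynomial A) (hφ : Function.Injective φ)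
    (hdeg : ∀ n : ℕ, Submodule.map φ.toLinearMap (ℬ n) =
      Submodule.map ((Polynomial.monomial n : A →ₗ[A] Polynomial A).restrictScalars R)
        (⨆ (m : ℕ) (_ : n ≤ m), 𝒜 m))

include hdeg in
theorem exists_of_mem {n : ℕ} {b : B} (hb : b ∈ ℬ n) :
    ∃ a ∈ G 𝒜 n, φ b = Polynomial.monomial n a := by
  have : φ b ∈ Submodule.map φ.toLinearMap (ℬ n) := ⟨b, hb, rfl⟩
  rw [hdeg n] at this
  obtain ⟨a, ha, h⟩ := this
  exact ⟨a, ha, h.symm⟩

include hdeg in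
theorem exists_of_mem_G {n : ℕ} {a : A} (ha : a ∈ G 𝒜 n) :
    ∃ b ∈ ℬ n, φ b = Polynomial.monomial n a := by
  have : Polynomial.monomial n a ∈ Submodule.map
      ((Polynomial.monomial n : A →ₗ[A] Polynomial A).restrictScalars R)
        (⨆ (m : ℕ) (_ : n ≤ m), 𝒜 m) := ⟨a, ha, rfl⟩
  rw [← hdeg n] at this
  obtain ⟨b, hb, h⟩ := this
  exact ⟨b, hb, h⟩

include hdeg in
/-- every constant is the image of a degree-zero element -/
theorem exists_zero (a : A) : ∃ b ∈ ℬ 0, φ b = Polynomial.C a := by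
  have ha : a ∈ G 𝒜 0 := by rw [G_zero]; trivial
  obtain ⟨b, hb, h⟩ := exists_of_mem_G 𝒜 ℬ φ hdeg ha
  exact ⟨b, hb, by rw [h, Polynomial.monomial_zero_left]⟩

/-- the surjection `B → A` -/
noncomputable def θ : B →+* A := (Polynomial.constantCoeff).comp (φ : B →+* Polynomial A)

include hdeg in
theorem θ_surjective : Function.Surjective (θ (R := R) φ) := by
  intro a
  obtain ⟨b, -, h⟩ := exists_zero 𝒜 ℬ φ hdeg a
  refine ⟨b, ?_⟩
  change Polynomial.constantCoeff (φ b) = a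
  rw [h]
  simp

/-- the degree-zero part of `B` is isomorphic to `A` -/
noncomputable def ψ : ℬ 0 →+* A := (θ (R := R) φ).comp (SetLike.GradeZero.subring ℬ).subtype

include hφ hdeg in
theorem ψ_bijective : Function.Bijective (ψ (R := R) ℬ φ) := by
  constructor
  · intro x y hxy
    apply Subtype.ext
    apply hφ
    obtain ⟨a, -, ha⟩ := exists_of_mem 𝒜 ℬ φ hdeg x.2
    obtain ⟨a', -, ha'⟩ := exists_of_mem 𝒜 ℬ φ hdeg y.2
    have h1 : Polynomial.constantCoeff (φ x.1) = Polynomial.constantCoeff (φ y.1) := hxy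
    rw [ha, ha'] at h1 ⊢
    simp only [Polynomial.monomial_zero_left, Polynomial.constantCoeff_apply, Polynomial.coeff_C_zero] at h1
    rw [h1]
  · intro a
    obtain ⟨b, hb, h⟩ := exists_zero 𝒜 ℬ φ hdeg a
    refine ⟨⟨b, hb⟩, ?_⟩
    change Polynomial.constantCoeff (φ b) = a
    rw [h]
    simp

section Backward

variable (𝒟 : Subalgebra (ℬ 0) B)

/-- `x` homogeneous of degree `i` has all its shifts `x X^n`, `n ≤ i`, in the image of `𝒟` -/
def Q' (i : ℕ) (x : A) : Prop := ∀ n ≤ i, ∃ b ∈ 𝒟, φ b = Polynomial.monomial n x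

/-- all homogeneous components of `a` satisfy `Q'` -/
def Q (a : A) : Prop := ∀ m, Q' ℬ φ 𝒟 m (GradedAlgebra.proj 𝒜 m a)

theorem Q'_zero (i : ℕ) : Q' ℬ φ 𝒟 i 0 := fun n _ => ⟨0, 𝒟.zero_mem, by simp⟩

theorem Q'_add {i : ℕ} {x y : A} (hx : Q' ℬ φ 𝒟 i x) (hy : Q' ℬ φ 𝒟 i y) : Q' ℬ φ 𝒟 i (x + y) := by
  intro n hn
  obtain ⟨b, hb, h⟩ := hx n hn
  obtain ⟨b', hb', h'⟩ := hy n hn
  exact ⟨b + b', 𝒟.add_mem hb hb', by rw [map_add, h, h', map_add]⟩

theorem Q'_mul {i j : ℕ} {x y : A} (hx : Q' ℬ φ 𝒟 i x) (hy : Q' ℬ φ 𝒟 j y) :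
    Q' ℬ φ 𝒟 (i + j) (x * y) := by
  intro n hn
  obtain ⟨n₁, n₂, h₁, h₂, rfl⟩ : ∃ n₁ n₂, n₁ ≤ i ∧ n₂ ≤ j ∧ n = n₁ + n₂ := by
    rcases le_total n i with h | h
    · exact ⟨n, 0, h, Nat.zero_le _, rfl⟩
    · exact ⟨i, n - i, le_rfl, by omega, by omega⟩
  obtain ⟨b, hb, h⟩ := hx n₁ h₁
  obtain ⟨b', hb', h'⟩ := hy n₂ h₂
  refine ⟨b * b', 𝒟.mul_mem hb hb', ?_⟩
  rw [map_mul, h, h', Polynomial.monomial_mul_monomial]

theorem Q_add {a a' : A} (h : Q 𝒜 ℬ φ 𝒟 a) (h' : Q 𝒜 ℬ φ 𝒟 a') : Q 𝒜 ℬ φ 𝒟 (a + a') := by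
  intro m
  rw [map_add]
  exact Q'_add ℬ φ 𝒟 (h m) (h' m)

theorem Q_zero : Q 𝒜 ℬ φ 𝒟 0 := by
  intro m
  rw [map_zero]
  exact Q'_zero ℬ φ 𝒟 m

theorem Q_sum {ι : Type*} (s : Finset ι) (f : ι → A) (h : ∀ i ∈ s, Q 𝒜 ℬ φ 𝒟 (f i)) :
    Q 𝒜 ℬ φ 𝒟 (∑ i ∈ s, f i) := by
  classical
  induction s using Finset.induction_on with
  | empty => simpa using Q_zero 𝒜 ℬ φ 𝒟
  | insert a s ha ih =>
    rw [Finset.sum_insert ha]
    exact Q_add 𝒜 ℬ φ 𝒟 (h a (Finset.mem_insert_self a s))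
      (ih fun i hi => h i (Finset.mem_insert_of_mem hi))

/-- a homogeneous element with `Q'` satisfies `Q` -/
theorem Q_of_Q' {i : ℕ} {x : A} (hx : x ∈ 𝒜 i) (h : Q' ℬ φ 𝒟 i x) : Q 𝒜 ℬ φ 𝒟 x := by
  classical
  intro m
  rw [GradedAlgebra.proj_apply]
  by_cases hm : m = i
  · subst hm
    rw [DirectSum.decompose_of_mem_same 𝒜 hx]
    exact h
  · rw [DirectSum.decompose_of_mem_ne 𝒜 hx (Ne.symm hm)]
    exact Q'_zero ℬ φ 𝒟 m

theorem Q_mul {a a' : A} (h : Q 𝒜 ℬ φ 𝒟 a) (h' : Q 𝒜 ℬ φ 𝒟 a') : Q 𝒜 ℬ φ 𝒟 (a * a') := by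
  classical
  rw [← DirectSum.sum_support_decompose 𝒜 a, ← DirectSum.sum_support_decompose 𝒜 a',
    Finset.sum_mul_sum]
  refine Q_sum 𝒜 ℬ φ 𝒟 _ _ fun i _ => Q_sum 𝒜 ℬ φ 𝒟 _ _ fun j _ => ?_
  refine Q_of_Q' 𝒜 ℬ φ 𝒟 (SetLike.mul_mem_graded (SetLike.coe_mem _) (SetLike.coe_mem _)) ?_
  exact Q'_mul ℬ φ 𝒟 (h i) (h' j)

theorem proj_G {n m : ℕ} (hm : m < n) {z : A} (hz : z ∈ G 𝒜 n) :
    GradedAlgebra.proj 𝒜 m z = 0 := by
  classical
  have : G 𝒜 n ≤ LinearMap.ker (GradedAlgebra.proj 𝒜 m) := by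
    refine iSup₂_le fun k hk => ?_
    intro y hy
    rw [LinearMap.mem_ker, GradedAlgebra.proj_apply, DirectSum.decompose_of_mem_ne 𝒜 hy]
    omega
  exact this hz

include hφ hdeg in
/-- if every element of `A` satisfies `Q`, then `𝒟 = ⊤` -/
theorem eq_top_of_Q (hQ : ∀ a, Q 𝒜 ℬ φ 𝒟 a) : 𝒟 = ⊤ := by
  classical
  have hn : ∀ n, ∀ b ∈ ℬ n, b ∈ 𝒟 := by
    intro n b hb
    obtain ⟨a, ha, hab⟩ := exists_of_mem 𝒜 ℬ φ hdeg hb
    have hex : ∀ m, ∃ c ∈ 𝒟, φ c = Polynomial.monomial n (GradedAlgebra.proj 𝒜 m a) := by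
      intro m
      by_cases hm : n ≤ m
      · exact hQ a m n hm
      · refine ⟨0, 𝒟.zero_mem, ?_⟩
        rw [proj_G 𝒜 (by omega) ha]
        simp
    choose c hc hφc using hex
    have : b = ∑ m ∈ (DirectSum.decompose 𝒜 a).support, c m := by
      apply hφ
      rw [map_sum, hab]
      conv_lhs => rw [← DirectSum.sum_support_decompose 𝒜 a]
      rw [map_sum]
      refine Finset.sum_congr rfl fun m _ => ?_
      rw [hφc m, GradedAlgebra.proj_apply]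
    rw [this]
    exact 𝒟.sum_mem fun m _ => hc m
  rw [eq_top_iff]
  intro b _
  rw [← DirectSum.sum_support_decompose ℬ b]
  exact 𝒟.sum_mem fun n _ => hn n _ (SetLike.coe_mem _)

end Backward

include hφ hdeg in
theorem finiteType_B_of_A [Algebra.FiniteType (𝒜 0) A] : Algebra.FiniteType (ℬ 0) B := by
  classical
  obtain ⟨T, hT, hTh⟩ := GradedAlgebra.exists_finset_adjoin_eq_top_and_homogeneous 𝒜
  choose! d hd using hTh
  have hβ : ∀ (t : A) (k : ℕ), t ∈ T → k ≤ d t → ∃ b ∈ ℬ k, φ b = Polynomial.monomial k t := by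
    intro t k ht hk
    exact exists_of_mem_G 𝒜 ℬ φ hdeg (le_G_of_le 𝒜 hk (hd t ht))
  choose! β hβ1 hβ2 using hβ
  let S : Finset B := T.biUnion fun t => (Finset.range (d t + 1)).image (β t)
  refine ⟨⟨S, ?_⟩⟩
  apply eq_top_of_Q 𝒜 ℬ φ hφ hdeg
  have hbase : ∀ c : 𝒜 0, Q 𝒜 ℬ φ (Algebra.adjoin (ℬ 0) (S : Set B)) (c : A) := by
    intro c
    refine Q_of_Q' 𝒜 ℬ φ _ c.2 ?_
    intro n hn
    obtain rfl : n = 0 := by omega
    obtain ⟨b, hb, h⟩ := exists_zero 𝒜 ℬ φ hdeg (c : A)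
    refine ⟨b, ?_, by rw [h, Polynomial.monomial_zero_left]⟩
    exact (Algebra.adjoin (ℬ 0) (S : Set B)).algebraMap_mem ⟨b, hb⟩
  intro a
  have ha : a ∈ Algebra.adjoin (𝒜 0) (T : Set A) := by rw [hT]; trivial
  induction ha using Algebra.adjoin_induction with
  | mem t ht =>
    refine Q_of_Q' 𝒜 ℬ φ _ (hd t ht) ?_
    intro n hn
    refine ⟨β t n, Algebra.subset_adjoin ?_, hβ2 t n ht hn⟩
    simp only [S, Finset.coe_biUnion, Finset.coe_image, Set.mem_iUnion]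
    exact ⟨t, ht, n, by simpa using Nat.lt_succ_of_le hn, rfl⟩
  | algebraMap c => exact hbase c
  | add x y _ _ hx hy => exact Q_add 𝒜 ℬ φ _ hx hy
  | mul x y _ _ hx hy => exact Q_mul 𝒜 ℬ φ _ hx hy

theorem G_one_le_irrelevant {a : A} (ha : a ∈ G 𝒜 1) :
    a ∈ (HomogeneousIdeal.irrelevant 𝒜).toIdeal := by
  change a ∈ HomogeneousIdeal.irrelevant 𝒜
  rw [HomogeneousIdeal.mem_irrelevant_iff, GradedRing.proj_apply]
  have := proj_G 𝒜 (show 0 < 1 by omega) ha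
  rwa [GradedAlgebra.proj_apply] at this

theorem irrelevant_le_G_one {a : A} (ha : a ∈ (HomogeneousIdeal.irrelevant 𝒜).toIdeal) :
    a ∈ G 𝒜 1 := by
  classical
  change a ∈ HomogeneousIdeal.irrelevant 𝒜 at ha
  rw [HomogeneousIdeal.mem_irrelevant_iff, GradedRing.proj_apply] at ha
  rw [← DirectSum.sum_support_decompose 𝒜 a]
  refine Submodule.sum_mem _ fun m _ => ?_
  rcases Nat.eq_zero_or_pos m with rfl | hm
  · rw [ha]; exact zero_mem _
  · exact le_G_of_le 𝒜 hm (SetLike.coe_mem _)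

include hdeg in
theorem finiteType_A_of_B [Algebra.FiniteType (ℬ 0) B] : Algebra.FiniteType (𝒜 0) A := by
  classical
  rw [← Groth.Agent.S4390.result 𝒜]
  obtain ⟨s, hs, hsh⟩ := GradedAlgebra.exists_finset_adjoin_eq_top_and_homogeneous ℬ
  let c1 : B → A := fun b => (φ b).coeff 1
  refine ⟨s.image c1, ?_⟩
  have key : ∀ b : B, c1 b ∈ Ideal.span ((s.image c1 : Finset A) : Set A) := by
    intro b
    have hb : b ∈ Algebra.adjoin (ℬ 0) (s : Set B) := by rw [hs]; trivial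
    induction hb using Algebra.adjoin_induction with
    | mem t ht => exact Ideal.subset_span (Finset.mem_coe.2 (Finset.mem_image_of_mem c1 ht))
    | algebraMap c =>
      obtain ⟨a, -, ha⟩ := exists_of_mem 𝒜 ℬ φ hdeg c.2
      change (φ (c : B)).coeff 1 ∈ _
      rw [ha, Polynomial.coeff_monomial, if_neg (by omega)]
      exact zero_mem _
    | add x y _ _ hx hy =>
      change (φ (x + y)).coeff 1 ∈ _
      rw [map_add, Polynomial.coeff_add]
      exact add_mem hx hy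
    | mul x y _ _ hx hy =>
      change (φ (x * y)).coeff 1 ∈ _
      rw [map_mul, Polynomial.mul_coeff_one]
      exact add_mem (Ideal.mul_mem_left _ _ hy) (Ideal.mul_mem_right _ _ hx)
  apply le_antisymm
  · rw [Ideal.span_le]
    intro x hx
    obtain ⟨b, hb, rfl⟩ := Finset.mem_image.1 (Finset.mem_coe.1 hx)
    obtain ⟨n, hn⟩ := hsh b hb
    obtain ⟨a, ha, hab⟩ := exists_of_mem 𝒜 ℬ φ hdeg hn
    change (φ b).coeff 1 ∈ _
    rw [hab, Polynomial.coeff_monomial]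
    split_ifs with h
    · subst h
      exact G_one_le_irrelevant 𝒜 ha
    · exact zero_mem _
  · intro a ha
    obtain ⟨b, -, hb⟩ := exists_of_mem_G 𝒜 ℬ φ hdeg (irrelevant_le_G_one 𝒜 ha)
    have : a = c1 b := by
      change a = (φ b).coeff 1
      rw [hb, Polynomial.coeff_monomial, if_pos rfl]
    rw [this]
    exact key b

end Groth.Agent.Lib.Helper28.Natural2
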