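import Mathlib
import Groth.Agent.Lib.Helper28.Natural2

/-!
# `S♮ ⊗_S S₀ → S` (helper28)
-/

set_option autoImplicit false
set_option linter.unusedSectionVars false
universe u

namespace Groth.Agent.Lib.Helper28.Natural3

open Groth.Agent.Lib.Helper28.Natural Groth.Agent.Lib.Helper28.Natural2

variable {R A B C : Type u} [CommRing R] [CommRing A] [Algebra R A]
    (𝒜 : ℕ → Submodule R A) [GradedAlgebra 𝒜] [CommRing B] [Algebra R B] (ℬ : ℕ → Submodule R B)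
    [GradedAlgebra ℬ]
    (φ : B →ₐ[R] Polynomial A) (hφ : Function.Injective φ)
    (hdeg : ∀ n : ℕ, Submodule.map φ.toLinearMap (ℬ n) =
      Submodule.map ((Polynomial.monomial n : A →ₗ[A] Polynomial A).restrictScalars R)
        (⨆ (m : ℕ) (_ : n ≤ m), 𝒜 m))
    [CommRing C] [Algebra R C] (𝒞 : ℕ → Submodule R C) [GradedAlgebra 𝒞]
    (π : ℬ →+*ᵍ 𝒞) (hπ : Function.Surjective π)
    (hker : RingHom.ker π.toRingHom =
      Ideal.span (⇑φ ⁻¹' (⇑(Polynomial.C : A →+* Polynomial A) ''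
        ((HomogeneousIdeal.irrelevant 𝒜).toIdeal : Set A))))
    (ρ : 𝒞 →+*ᵍ 𝒜)
    (hρ : ∀ (n : ℕ) (b : B), b ∈ ℬ n → ρ (π b) = GradedRing.proj 𝒜 n ((φ b).coeff n))

include hdeg hρ in
theorem rho_surjOn (n : ℕ) {a : A} (ha : a ∈ 𝒜 n) : ∃ c ∈ 𝒞 n, ρ c = a := by
  classical
  obtain ⟨b, hb, h⟩ := exists_of_mem_G 𝒜 ℬ φ hdeg (le_G 𝒜 n ha)
  refine ⟨π b, π.2 hb, ?_⟩
  rw [hρ n b hb, h, Polynomial.coeff_monomial_same, GradedRing.proj_apply,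
    DirectSum.decompose_of_mem_same 𝒜 ha]

include hdeg hρ in
theorem rho_surjective : Function.Surjective ρ := by
  classical
  intro a
  rw [← DirectSum.sum_support_decompose 𝒜 a]
  choose! c hc hc' using fun n => rho_surjOn 𝒜 ℬ φ hdeg 𝒞 π ρ hρ n
    (SetLike.coe_mem (DirectSum.decompose 𝒜 a n))
  refine ⟨∑ i ∈ (DirectSum.decompose 𝒜 a).support, c i, ?_⟩
  rw [map_sum]
  exact Finset.sum_congr rfl fun i _ => hc' i

include hπ in
theorem exists_homog_lift {n : ℕ} {c : C} (hc : c ∈ 𝒞 n) : ∃ b ∈ ℬ n, π b = c := by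
  classical
  obtain ⟨b', rfl⟩ := hπ c
  refine ⟨DirectSum.decompose ℬ b' n, SetLike.coe_mem _, ?_⟩
  rw [GradedRingHom.map_directSumDecompose, DirectSum.decompose_of_mem_same 𝒞 hc]

theorem mem_G_succ_of_proj_eq_zero {n : ℕ} {a : A} (ha : a ∈ G 𝒜 n)
    (h : GradedRing.proj 𝒜 n a = 0) : a ∈ G 𝒜 (n + 1) := by
  classical
  rw [G_eq_sup] at ha
  obtain ⟨x, hx, z, hz, rfl⟩ := Submodule.mem_sup.1 ha
  have hz0 : GradedRing.proj 𝒜 n z = 0 := by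
    have := proj_G_succ 𝒜 n hz
    rwa [GradedAlgebra.proj_apply] at this
  rw [map_add, hz0, add_zero, GradedRing.proj_apply, DirectSum.decompose_of_mem_same 𝒜 hx] at h
  rw [h, zero_add]
  exact hz

theorem pow_mem_G {i : ℕ} {a : A} (ha : a ∈ G 𝒜 i) (k : ℕ) : a ^ k ∈ G 𝒜 (i * k) := by
  induction k with
  | zero => rw [Nat.mul_zero, G_zero]; trivial
  | succ k ih =>
    rw [pow_succ, Nat.mul_succ]
    exact G_mul 𝒜 _ _ (Submodule.mul_mem_mul ih ha)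

include hφ hdeg hker in
theorem pi_eq_zero_of_mul {a a' : A} {n : ℕ} (ha : a ∈ G 𝒜 1) (ha' : a' ∈ G 𝒜 n) {b : B}
    (hb : φ b = Polynomial.monomial n (a * a')) : π b = 0 := by
  obtain ⟨e, -, he⟩ := exists_zero 𝒜 ℬ φ hdeg a
  obtain ⟨b'', -, hb''⟩ := exists_of_mem_G 𝒜 ℬ φ hdeg ha'
  have hbe : b = e * b'' := by
    apply hφ
    rw [map_mul, he, hb'', hb, Polynomial.C_mul_monomial]
  have he0 : e ∈ RingHom.ker π.toRingHom := by
    rw [hker]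
    exact Ideal.subset_span ⟨a, G_one_le_irrelevant 𝒜 ha, he.symm⟩
  have he1 : π e = 0 := he0
  rw [hbe, map_mul, he1, zero_mul]

include hφ hdeg hπ hker hρ in
theorem pow_eq_zero_of_homog {n : ℕ} {c : C} (hc : c ∈ 𝒞 n) (h : ρ c = 0) : c ^ (n + 1) = 0 := by
  obtain ⟨b, hb, rfl⟩ := exists_homog_lift ℬ 𝒞 π hπ hc
  obtain ⟨a, ha, hab⟩ := exists_of_mem 𝒜 ℬ φ hdeg hb
  rw [hρ n b hb, hab, Polynomial.coeff_monomial_same] at h
  have ha1 := mem_G_succ_of_proj_eq_zero 𝒜 ha h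
  rw [← map_pow]
  refine pi_eq_zero_of_mul 𝒜 ℬ φ hφ hdeg 𝒞 π hker (a := a) (a' := a ^ n) (n := (n + 1) * n)
    (G_anti 𝒜 (by omega) ha1) (pow_mem_G 𝒜 ha1 n) ?_
  rw [map_pow, hab, Polynomial.monomial_pow, pow_succ' a n]
  rw [Nat.mul_comm]

include hφ hdeg hπ hker hρ in
theorem isNilpotent_of_rho_eq_zero {c : C} (h : ρ c = 0) : IsNilpotent c := by
  classical
  rw [← DirectSum.sum_support_decompose 𝒞 c]
  refine isNilpotent_sum fun i _ => ?_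
  refine ⟨i + 1, pow_eq_zero_of_homog 𝒜 ℬ φ hφ hdeg 𝒞 π hπ hker ρ hρ (SetLike.coe_mem _) ?_⟩
  rw [GradedRingHom.map_directSumDecompose, h, DirectSum.decompose_zero, DirectSum.zero_apply,
    ZeroMemClass.coe_zero]

include hφ hdeg hπ hker hρ in
/-- if `G (n+1) = G 1 * G n` then `ρ` is injective in degree `n` -/
theorem rho_injOn {n : ℕ} (hn : G 𝒜 (n + 1) = G 𝒜 1 * G 𝒜 n) {c : C} (hc : c ∈ 𝒞 n)
    (h : ρ c = 0) : c = 0 := by
  obtain ⟨b, hb, rfl⟩ := exists_homog_lift ℬ 𝒞 π hπ hc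
  obtain ⟨a, ha, hab⟩ := exists_of_mem 𝒜 ℬ φ hdeg hb
  rw [hρ n b hb, hab, Polynomial.coeff_monomial_same] at h
  have ha1 := mem_G_succ_of_proj_eq_zero 𝒜 ha h
  rw [hn] at ha1
  have key : ∃ b', φ b' = Polynomial.monomial n a ∧ π b' = 0 := by
    refine Submodule.mul_induction_on ha1 ?_ ?_
    · intro x hx y hy
      have hxy : x * y ∈ G 𝒜 n :=
        G_anti 𝒜 (by omega) (G_mul 𝒜 1 n (Submodule.mul_mem_mul hx hy))
      obtain ⟨b', -, hb'⟩ := exists_of_mem_G 𝒜 ℬ φ hdeg hxy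
      exact ⟨b', hb', pi_eq_zero_of_mul 𝒜 ℬ φ hφ hdeg 𝒞 π hker hx hy hb'⟩
    · rintro x y ⟨b₁, h₁, h₁'⟩ ⟨b₂, h₂, h₂'⟩
      exact ⟨b₁ + b₂, by rw [map_add, h₁, h₂, map_add], by rw [map_add, h₁', h₂', add_zero]⟩
  obtain ⟨b', hb', hb'0⟩ := key
  have : b = b' := hφ (by rw [hab, hb'])
  rw [this, hb'0]

end Groth.Agent.Lib.Helper28.Natural3
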