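import Groth.Agent.Lib.Helper28.TwistInv
import Groth.Agent.Lib.Helper28.GrTwistGenVal
import Groth.Agent.Lib.Helper28.ProjFrac

/-!
# Degree-one generators of `O(n)` on `Proj` and their transition functions

* `isGen_gen`: `f^n` generates `O(n)` over `D₊(f)`, `f` of degree one, `n ∈ ℤ`.
* `ratio`: the function `f/g` on `D₊(g)`.
* `gen_cocycle`: `f^n = (f/g)^{n⁺} (g/f)^{n⁻} g^n` on any open contained in `D₊(f) ∩ D₊(g)`.
-/

set_option autoImplicit false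
universe u
open CategoryTheory CategoryTheory.Limits AlgebraicGeometry Opposite TopologicalSpace HomogeneousLocalization
noncomputable section

namespace Groth.Agent.Lib.Helper28.PConeTwist

open Groth.Agent.Lib.Helper28 Groth.Agent.Lib.Helper28.QCohLoc Groth.Agent.Lib.Helper28.GrTildeQC
  Groth.Agent.Lib.Helper28.TwistMul Groth.Agent.Lib.Helper28.GenLocus

variable {R A : Type u} [CommRing R] [CommRing A] [Algebra R A] (𝒜 : ℕ → Submodule R A) [GradedAlgebra 𝒜]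

theorem isGen_gen {f : A} (hf : f ∈ 𝒜 1) (m : ℤ) :
    IsGen (Twist.twist 𝒜 m) (Proj.basicOpen 𝒜 f) (gen 𝒜 hf m) := by
  refine GrTwistGenVal.isGen_of_bijective_on_basis _ _ _
    (fun W => ∃ (h : A) (e : ℕ), 0 < e ∧ h ∈ 𝒜 e ∧ W = Proj.basicOpen 𝒜 (f * h)) ?_ ?_
  · intro V x hxV hVU
    obtain ⟨e, h, he, hh, hhx, hhV⟩ := GrSectComap.exists_pos_basicOpen 𝒜 V x hxV
    refine ⟨Proj.basicOpen 𝒜 (f * h), ⟨h, e, he, hh, rfl⟩, ?_, ?_⟩
    · rw [Proj.basicOpen_mul]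
      exact ⟨hVU hxV, (Proj.mem_basicOpen 𝒜 h x).2 hhx⟩
    · intro y hy
      rw [Proj.basicOpen_mul] at hy
      exact hhV y ((Proj.mem_basicOpen 𝒜 h y).1 hy.2)
  · rintro W hW ⟨h, e, he, hh, rfl⟩
    exact TwistInv.smul_genW_bijective 𝒜 hf he hh m

/-- the element `f/g` of `A_(g)` -/
def ratioAway {f g : A} (hf : f ∈ 𝒜 1) (hg : g ∈ 𝒜 1) : Away 𝒜 g :=
  Away.mk 𝒜 hg 1 f (by simpa using hf)

/-- the function `f/g` on `D₊(g)` -/
def ratio {f g : A} (hf : f ∈ 𝒜 1) (hg : g ∈ 𝒜 1) : Γ(Proj 𝒜, Proj.basicOpen 𝒜 g) :=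
  (Proj.awayToSection 𝒜 g).hom (ratioAway 𝒜 hf hg)

theorem val_ratio {f g : A} (hf : f ∈ 𝒜 1) (hg : g ∈ 𝒜 1) (x : Proj.basicOpen 𝒜 g) :
    (valO 𝒜 (ratio 𝒜 hf hg) x).val = Localization.mk f ⟨g ^ 1, GrSectMod.pow_nin 𝒜 1 x⟩ :=
  val_valO_awayToSection 𝒜 hg 1 f (by simpa using hf) x

/-- the transition function between the generators `f^n` and `g^n` -/
def trans {f g : A} (hf : f ∈ 𝒜 1) (hg : g ∈ 𝒜 1) (n : ℤ) {W : (Proj 𝒜).Opens}
    (hWf : W ≤ Proj.basicOpen 𝒜 f) (hWg : W ≤ Proj.basicOpen 𝒜 g) : Γ(Proj 𝒜, W) :=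
  resO hWg (ratio 𝒜 hf hg) ^ n.toNat * resO hWf (ratio 𝒜 hg hf) ^ (-n).toNat

theorem gen_cocycle {f g : A} (hf : f ∈ 𝒜 1) (hg : g ∈ 𝒜 1) (n : ℤ) {W : (Proj 𝒜).Opens}
    (hWf : W ≤ Proj.basicOpen 𝒜 f) (hWg : W ≤ Proj.basicOpen 𝒜 g) :
    res (Twist.twist 𝒜 n) hWf (gen 𝒜 hf n) =
      (trans 𝒜 hf hg n hWf hWg • res (Twist.twist 𝒜 n) hWg (gen 𝒜 hg n) : Γ(Twist.twist 𝒜 n, W)) := by
  apply TwistQC.ext_val
  intro x
  rw [TwistQC.val_smul, TwistQC.val_res, TwistQC.val_res, val_gen, val_gen]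
  unfold trans
  rw [ProjFrac.valO_mul, valO_pow, valO_pow, HomogeneousLocalization.val_mul, HomogeneousLocalization.val_pow,
    HomogeneousLocalization.val_pow, valO_resO, valO_resO, val_ratio, val_ratio, Localization.mk_pow,
    Localization.mk_pow, Localization.mk_mul, Localization.mk_mul, Localization.mk_eq_mk_iff,
    Localization.r_iff_exists]
  refine ⟨1, ?_⟩
  simp only [OneMemClass.coe_one, one_mul, pow_one, Submonoid.coe_mul, SubmonoidClass.coe_pow]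
  ring

end Groth.Agent.Lib.Helper28.PConeTwist
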