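import Groth.Agent.Lib.Helper28.ProjSect

/-!
# The comorphism of a morphism to `Proj` given on a standard chart by a ring map

Let `X` be a scheme with morphisms `p : X ⟶ Proj 𝒜`, `ι : X ⟶ Proj ℬ`, and `e : Spec ℬ_(g') ⟶ X` an open immersion with
`e ≫ ι = awayι g'` and `e ≫ p = Spec θ ≫ awayι g`.  Then over the range `V` of `e`, `p^♯(awayToSection q) =
ι^♯(awayToSection (θ q))`.
-/

set_option autoImplicit false
universe u
open CategoryTheory CategoryTheory.Limits AlgebraicGeometry Opposite TopologicalSpace HomogeneousLocalization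
noncomputable section

namespace Groth.Agent.Lib.Helper28.PConeTwist

open Groth.Agent.Lib.Helper28

variable {A σ : Type u} [CommRing A] [SetLike σ A] [AddSubgroupClass σ A] {𝒜 : ℕ → σ} [GradedRing 𝒜]
variable {B τ : Type u} [CommRing B] [SetLike τ B] [AddSubgroupClass τ B] {ℬ : ℕ → τ} [GradedRing ℬ]

variable {X : Scheme.{u}} (p : X ⟶ Proj 𝒜) (ι : X ⟶ Proj ℬ) {d : ℕ} (hd : 0 < d) {g : A} (hg : g ∈ 𝒜 d)
  {g' : B} (hg' : g' ∈ ℬ d)
  (θ : CommRingCat.of (Away 𝒜 g) ⟶ CommRingCat.of (Away ℬ g'))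
  (e : Spec (CommRingCat.of (Away ℬ g')) ⟶ X) [IsOpenImmersion e]
  (he : e ≫ ι = Proj.awayι ℬ g' hg' hd)
  (hp : e ≫ p = Spec.map θ ≫ Proj.awayι 𝒜 g hg hd)

include hp in
theorem opensRange_le_p : e.opensRange ≤ p ⁻¹ᵁ Proj.basicOpen 𝒜 g := by
  rintro _ ⟨w, rfl⟩
  show p (e w) ∈ Proj.basicOpen 𝒜 g
  rw [← Scheme.Hom.comp_apply, hp, Scheme.Hom.comp_apply, ← Proj.opensRange_awayι 𝒜 g hg hd]
  exact ⟨_, rfl⟩

include he in
theorem opensRange_le_ι : e.opensRange ≤ ι ⁻¹ᵁ Proj.basicOpen ℬ g' := by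
  rintro _ ⟨w, rfl⟩
  show ι (e w) ∈ Proj.basicOpen ℬ g'
  rw [← Scheme.Hom.comp_apply, he, ← Proj.opensRange_awayι ℬ g' hg' hd]
  exact ⟨_, rfl⟩

set_option backward.isDefEq.respectTransparency false in
/-- **(∗)**: the comorphism of `p` on the chart is `θ` -/
theorem awayToSection_appLE_eq :
    Proj.awayToSection 𝒜 g ≫ p.appLE (Proj.basicOpen 𝒜 g) e.opensRange (opensRange_le_p p hd hg θ e hp) =
      θ ≫ Proj.awayToSection ℬ g' ≫
        ι.appLE (Proj.basicOpen ℬ g') e.opensRange (opensRange_le_ι ι hd hg' e he) := by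
  have eF : (⊤ : (Spec (CommRingCat.of (Away ℬ g'))).Opens) ≤ e ⁻¹ᵁ e.opensRange := by
    rw [Scheme.Hom.preimage_opensRange]
  have hiso : IsIso (e.appLE e.opensRange ⊤ eF) := by
    have h1 : IsIso (e.app e.opensRange) := Scheme.Hom.isIso_app e e.opensRange le_rfl
    have h2 : IsIso (homOfLE eF) := ⟨homOfLE le_top, Subsingleton.elim _ _, Subsingleton.elim _ _⟩
    have h3 : IsIso ((Spec (CommRingCat.of (Away ℬ g'))).presheaf.map (homOfLE eF).op) := inferInstance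
    unfold Scheme.Hom.appLE
    infer_instance
  rw [← cancel_mono (e.appLE e.opensRange ⊤ eF)]
  have KA := ProjSect.awayToSection_appLE 𝒜 hd hg
  have KB := ProjSect.awayToSection_appLE ℬ hd hg'
  have e1 : (⊤ : (Spec (CommRingCat.of (Away 𝒜 g))).Opens) ≤
      Proj.awayι 𝒜 g hg hd ⁻¹ᵁ Proj.basicOpen 𝒜 g := by
    rw [ProjSect.awayι_preimage_self]
  have e1' : (⊤ : (Spec (CommRingCat.of (Away ℬ g'))).Opens) ≤
      Proj.awayι ℬ g' hg' hd ⁻¹ᵁ Proj.basicOpen ℬ g' := by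
    rw [ProjSect.awayι_preimage_self]
  have L1 : p.appLE (Proj.basicOpen 𝒜 g) e.opensRange (opensRange_le_p p hd hg θ e hp) ≫
      e.appLE e.opensRange ⊤ eF =
      (Proj.awayι 𝒜 g hg hd).appLE (Proj.basicOpen 𝒜 g) ⊤ e1 ≫ (Spec.map θ).appLE ⊤ ⊤ le_rfl := by
    rw [Scheme.Hom.appLE_comp_appLE, Scheme.Hom.appLE_comp_appLE]
    exact ProjSect.appLE_congr' hp _ _ _ _
  have L2 : ι.appLE (Proj.basicOpen ℬ g') e.opensRange (opensRange_le_ι ι hd hg' e he) ≫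
      e.appLE e.opensRange ⊤ eF =
      (Proj.awayι ℬ g' hg' hd).appLE (Proj.basicOpen ℬ g') ⊤ e1' := by
    rw [Scheme.Hom.appLE_comp_appLE]
    exact ProjSect.appLE_congr' he _ _ _ _
  rw [Category.assoc, Category.assoc, Category.assoc, L1, L2, ← Category.assoc, KA, KB]
  have e2 : (Spec.map θ).appLE ⊤ ⊤ le_rfl = (Spec.map θ).appTop := Scheme.Hom.appLE_eq_app _
  rw [e2]
  exact (Scheme.ΓSpecIso_inv_naturality θ).symm

include hd hg hg' he hp in
/-- **(∗)** on smaller opens -/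
theorem appLE_awayToSection_eq (q : Away 𝒜 g) {V : X.Opens} (hV : V ≤ e.opensRange)
    {W₁ : (Proj 𝒜).Opens} (hW₁ : W₁ ≤ Proj.basicOpen 𝒜 g) (hVW₁ : V ≤ p ⁻¹ᵁ W₁)
    {W₂ : (Proj ℬ).Opens} (hW₂ : W₂ ≤ Proj.basicOpen ℬ g') (hVW₂ : V ≤ ι ⁻¹ᵁ W₂) :
    (p.appLE W₁ V hVW₁).hom ((Proj 𝒜).presheaf.map (homOfLE hW₁).op ((Proj.awayToSection 𝒜 g).hom q)) =
      (ι.appLE W₂ V hVW₂).hom
        ((Proj ℬ).presheaf.map (homOfLE hW₂).op ((Proj.awayToSection ℬ g').hom (θ.hom q))) := by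
  have key := awayToSection_appLE_eq p ι hd hg hg' θ e he hp
  have h1 : (Proj 𝒜).presheaf.map (homOfLE hW₁).op ≫ p.appLE W₁ V hVW₁ =
      p.appLE (Proj.basicOpen 𝒜 g) e.opensRange (opensRange_le_p p hd hg θ e hp) ≫
        X.presheaf.map (homOfLE hV).op := by
    rw [Scheme.Hom.map_appLE, Scheme.Hom.appLE_map]
  have h2 : (Proj ℬ).presheaf.map (homOfLE hW₂).op ≫ ι.appLE W₂ V hVW₂ =
      ι.appLE (Proj.basicOpen ℬ g') e.opensRange (opensRange_le_ι ι hd hg' e he) ≫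
        X.presheaf.map (homOfLE hV).op := by
    rw [Scheme.Hom.map_appLE, Scheme.Hom.appLE_map]
  have l := congrArg (fun χ => χ.hom ((Proj.awayToSection 𝒜 g).hom q)) h1
  have r := congrArg (fun χ => χ.hom ((Proj.awayToSection ℬ g').hom (θ.hom q))) h2
  have k := congrArg (fun χ => (X.presheaf.map (homOfLE hV).op).hom (χ.hom q)) key
  simp only [CommRingCat.hom_comp, RingHom.comp_apply] at l r k
  rw [l, r]
  exact k

end Groth.Agent.Lib.Helper28.PConeTwist
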