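import Groth.Agent.Lib.Helper28.PConeTwistA
import Groth.Agent.Lib.Helper28.PConeTwistB
import Groth.Agent.Lib.Helper28.PullbackInv
import Groth.Agent.Lib.Helper28.GenIso
import Groth.Prelude.Def_PCone

/-!
# `Φ^* O(n) ≅ O(n)|_{G(φ)}` for the partial morphism `Φ : G(φ) ⟶ Proj 𝒜` of a graded homomorphism `φ : 𝒜 → ℬ`,
when the irrelevant ideal of `𝒜` is generated in degree one
-/

set_option autoImplicit false
universe u
open CategoryTheory CategoryTheory.Limits AlgebraicGeometry Opposite TopologicalSpace HomogeneousLocalization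
noncomputable section

namespace Groth.Agent.Lib.Helper28.PConeTwist

open Groth.Agent.Lib.Helper28 Groth.Agent.Lib.Helper28.QCohLoc Groth.Agent.Lib.Helper28.GrTildeQC
  Groth.Agent.Lib.Helper28.TwistMul Groth.Agent.Lib.Helper28.GenLocus Groth.Agent.Lib.Helper28.PullbackInv

variable {R A : Type u} [CommRing R] [CommRing A] [Algebra R A] {𝒜 : ℕ → Submodule R A} [GradedAlgebra 𝒜]
  {B : Type u} [CommRing B] [Algebra R B] {ℬ : ℕ → Submodule R B} [GradedAlgebra ℬ] (φ : 𝒜 →+*ᵍ ℬ)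

theorem chart_ι {d : ℕ} {f : A} (hf : f ∈ 𝒜 d) (hd : 0 < d) :
    PCone.chart φ hf hd ≫ (PCone.dom φ).ι = Proj.awayι ℬ (φ f) (φ.2 hf) hd :=
  IsOpenImmersion.lift_fac _ _ _

instance chart_isOpenImmersion {d : ℕ} {f : A} (hf : f ∈ 𝒜 d) (hd : 0 < d) :
    IsOpenImmersion (PCone.chart φ hf hd) := by
  have : IsOpenImmersion (PCone.chart φ hf hd ≫ (PCone.dom φ).ι) := by
    rw [chart_ι]; infer_instance
  exact IsOpenImmersion.of_comp _ (PCone.dom φ).ι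

/-- the chart opens of `G(φ)` -/
def Uo {f : A} (hf : f ∈ 𝒜 1) : (PCone.dom φ : Scheme.{u}).Opens := (PCone.chart φ hf one_pos).opensRange

theorem mem_Uo_of_mem_basicOpen {f : A} (hf : f ∈ 𝒜 1) (y : (PCone.dom φ : Scheme.{u}))
    (hy : (PCone.dom φ).ι y ∈ Proj.basicOpen ℬ (φ f)) : y ∈ Uo φ hf := by
  rw [← Proj.opensRange_awayι ℬ (φ f) (φ.2 hf) one_pos] at hy
  obtain ⟨z, hz⟩ := hy
  refine ⟨z, ?_⟩
  apply (PCone.dom φ).ι.isOpenEmbedding.injective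
  rw [← Scheme.Hom.comp_apply, chart_ι]
  exact hz

theorem exists_deg_one
    (hgen : (HomogeneousIdeal.irrelevant 𝒜).toIdeal = Ideal.span ((𝒜 1 : Submodule R A) : Set A))
    (y : (PCone.dom φ : Scheme.{u})) : ∃ (f : A) (hf : f ∈ 𝒜 1), y ∈ Uo φ hf := by
  have hy : ((PCone.dom φ).ι y : Proj ℬ) ∈ PCone.dom φ := by
    have := y.2
    exact this
  obtain ⟨⟨f', d, hd, hf'⟩, hyf'⟩ := Opens.mem_iSup.1 hy
  have hyf'2 : φ f' ∉ (show ProjectiveSpectrum ℬ from (PCone.dom φ).ι y).asHomogeneousIdeal :=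
    (Proj.mem_basicOpen ℬ (φ f') _).1 hyf'
  by_contra hcon
  push_neg at hcon
  apply hyf'2
  have hmem : f' ∈ (HomogeneousIdeal.irrelevant 𝒜).toIdeal := HomogeneousIdeal.mem_irrelevant_of_mem 𝒜 hd hf'
  rw [hgen] at hmem
  have hle : Ideal.span ((𝒜 1 : Submodule R A) : Set A) ≤
      Ideal.comap (φ : A →+* B)
        (show ProjectiveSpectrum ℬ from (PCone.dom φ).ι y).asHomogeneousIdeal.toIdeal := by
    refine Ideal.span_le.2 ?_
    intro f hf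
    by_contra hfx
    exact hcon f hf (mem_Uo_of_mem_basicOpen φ hf y ((Proj.mem_basicOpen ℬ (φ f) _).2 hfx))
  exact hle hmem

section main

variable (p : (PCone.dom φ : Scheme.{u}) ⟶ Proj 𝒜)
  (hp : ∀ (d : ℕ) (f : A) (hd : 0 < d) (hf : f ∈ 𝒜 d),
    PCone.chart φ hf hd ≫ p =
      Spec.map (CommRingCat.ofHom (HomogeneousLocalization.Away.map φ f)) ≫ Proj.awayι 𝒜 f hf hd)

include hp in
theorem Uo_le_p {f : A} (hf : f ∈ 𝒜 1) : Uo φ hf ≤ p ⁻¹ᵁ Proj.basicOpen 𝒜 f :=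
  opensRange_le_p p one_pos hf _ (PCone.chart φ hf one_pos) (hp 1 f one_pos hf)

theorem Uo_le_ι {f : A} (hf : f ∈ 𝒜 1) : Uo φ hf ≤ (PCone.dom φ).ι ⁻¹ᵁ Proj.basicOpen ℬ (φ f) :=
  opensRange_le_ι (PCone.dom φ).ι one_pos (φ.2 hf) (PCone.chart φ hf one_pos) (chart_ι φ hf one_pos)

theorem image_Uo_le {f : A} (hf : f ∈ 𝒜 1) {V : (PCone.dom φ : Scheme.{u}).Opens} (hV : V ≤ Uo φ hf) :
    (PCone.dom φ).ι ''ᵁ V ≤ Proj.basicOpen ℬ (φ f) := by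
  rintro _ ⟨y, hy, rfl⟩
  exact Uo_le_ι φ hf (hV hy)

theorem map_ratioAway {f g : A} (hf : f ∈ 𝒜 1) (hg : g ∈ 𝒜 1) :
    HomogeneousLocalization.Away.map φ g (ratioAway 𝒜 hf hg) = ratioAway ℬ (φ.2 hf) (φ.2 hg) := by
  unfold ratioAway
  rw [HomogeneousLocalization.Away.map_mk]
  rfl

include hp in
/-- the comorphism of `p` sends `f/g` to `φ f/φ g` -/
theorem appLE_ratio {f g : A} (hf : f ∈ 𝒜 1) (hg : g ∈ 𝒜 1) {V : (PCone.dom φ : Scheme.{u}).Opens}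
    (hV : V ≤ Uo φ hg) {W₁ : (Proj 𝒜).Opens} (hW₁ : W₁ ≤ Proj.basicOpen 𝒜 g) (hVW₁ : V ≤ p ⁻¹ᵁ W₁) :
    (p.appLE W₁ V hVW₁).hom (resO hW₁ (ratio 𝒜 hf hg)) =
      ((PCone.dom φ).ι.appIso V).hom (resO (image_Uo_le φ hg hV) (ratio ℬ (φ.2 hf) (φ.2 hg))) := by
  have h := appLE_awayToSection_eq p (PCone.dom φ).ι one_pos hg (φ.2 hg)
    (CommRingCat.ofHom (HomogeneousLocalization.Away.map φ g)) (PCone.chart φ hg one_pos) (chart_ι φ hg one_pos)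
    (hp 1 g one_pos hg) (ratioAway 𝒜 hf hg) hV hW₁ hVW₁ (image_Uo_le φ hg hV)
    ((PCone.dom φ).ι.preimage_image_eq V).ge
  rw [Scheme.Hom.appIso_hom']
  have h2 : (CommRingCat.ofHom (HomogeneousLocalization.Away.map φ g)).hom (ratioAway 𝒜 hf hg) =
      ratioAway ℬ (φ.2 hf) (φ.2 hg) := map_ratioAway φ hf hg
  rw [h2] at h
  exact h

end main

section assembly

variable (p : (PCone.dom φ : Scheme.{u}) ⟶ Proj 𝒜)
  (hp : ∀ (d : ℕ) (f : A) (hd : 0 < d) (hf : f ∈ 𝒜 d),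
    PCone.chart φ hf hd ≫ p =
      Spec.map (CommRingCat.ofHom (HomogeneousLocalization.Away.map φ f)) ≫ Proj.awayι 𝒜 f hf hd)
  (n : ℤ)

/-- the generator of `p^* O(n)` over the chart open -/
def gM {f : A} (hf : f ∈ 𝒜 1) : Γ((Scheme.Modules.pullback p).obj (Twist.twist 𝒜 n), Uo φ hf) :=
  res _ (Uo_le_p φ p hp hf) (pbs p (Twist.twist 𝒜 n) (Proj.basicOpen 𝒜 f) (gen 𝒜 hf n))

theorem isGen_gM {f : A} (hf : f ∈ 𝒜 1) :
    IsGen ((Scheme.Modules.pullback p).obj (Twist.twist 𝒜 n)) (Uo φ hf) (gM φ p hp n hf) :=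
  (isGen_pbs (f := p) (isGen_gen 𝒜 hf n)).res _

/-- the generator of `O(n)|_{G(φ)}` over the chart open -/
def gN {f : A} (hf : f ∈ 𝒜 1) : Γ((Twist.twist ℬ n).restrict (PCone.dom φ).ι, Uo φ hf) :=
  (show Γ((Twist.twist ℬ n).restrict (PCone.dom φ).ι, Uo φ hf) from
    res (Twist.twist ℬ n) (image_Uo_le φ hf le_rfl) (gen ℬ (φ.2 hf) n))

theorem isGen_gN {f : A} (hf : f ∈ 𝒜 1) :
    IsGen ((Twist.twist ℬ n).restrict (PCone.dom φ).ι) (Uo φ hf) (gN φ n hf) :=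
  isGen_restrict_of_isGen _ _ _ ((isGen_gen ℬ (φ.2 hf) n).res _)

include hp in
theorem inf_le_p {f g : A} (hf : f ∈ 𝒜 1) (hg : g ∈ 𝒜 1) :
    Uo φ hf ⊓ Uo φ hg ≤ p ⁻¹ᵁ (Proj.basicOpen 𝒜 f ⊓ Proj.basicOpen 𝒜 g) := fun _ hy =>
  ⟨Uo_le_p φ p hp hf hy.1, Uo_le_p φ p hp hg hy.2⟩

/-- the transition function on `G(φ)` -/
def uT {f g : A} (hf : f ∈ 𝒜 1) (hg : g ∈ 𝒜 1) : Γ((PCone.dom φ : Scheme.{u}), Uo φ hf ⊓ Uo φ hg) :=
  (p.appLE (Proj.basicOpen 𝒜 f ⊓ Proj.basicOpen 𝒜 g) (Uo φ hf ⊓ Uo φ hg) (inf_le_p φ p hp hf hg)).hom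
    (trans 𝒜 hf hg n inf_le_left inf_le_right)

theorem cocycle_M {f g : A} (hf : f ∈ 𝒜 1) (hg : g ∈ 𝒜 1) :
    res ((Scheme.Modules.pullback p).obj (Twist.twist 𝒜 n)) inf_le_left (gM φ p hp n hf) =
      (uT φ p hp n hf hg • res ((Scheme.Modules.pullback p).obj (Twist.twist 𝒜 n)) inf_le_right (gM φ p hp n hg) :
        Γ((Scheme.Modules.pullback p).obj (Twist.twist 𝒜 n), Uo φ hf ⊓ Uo φ hg)) := by
  unfold gM
  rw [res_res, res_res]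
  have hle := inf_le_p φ p hp hf hg
  have e1 : res ((Scheme.Modules.pullback p).obj (Twist.twist 𝒜 n))
      ((inf_le_left : Uo φ hf ⊓ Uo φ hg ≤ Uo φ hf).trans (Uo_le_p φ p hp hf))
      (pbs p (Twist.twist 𝒜 n) (Proj.basicOpen 𝒜 f) (gen 𝒜 hf n)) =
      res ((Scheme.Modules.pullback p).obj (Twist.twist 𝒜 n)) hle
        (pbs p (Twist.twist 𝒜 n) (Proj.basicOpen 𝒜 f ⊓ Proj.basicOpen 𝒜 g)
          (res (Twist.twist 𝒜 n) inf_le_left (gen 𝒜 hf n))) := by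
    rw [pbs_res, res_res]
  have e2 : res ((Scheme.Modules.pullback p).obj (Twist.twist 𝒜 n))
      ((inf_le_right : Uo φ hf ⊓ Uo φ hg ≤ Uo φ hg).trans (Uo_le_p φ p hp hg))
      (pbs p (Twist.twist 𝒜 n) (Proj.basicOpen 𝒜 g) (gen 𝒜 hg n)) =
      res ((Scheme.Modules.pullback p).obj (Twist.twist 𝒜 n)) hle
        (pbs p (Twist.twist 𝒜 n) (Proj.basicOpen 𝒜 f ⊓ Proj.basicOpen 𝒜 g)
          (res (Twist.twist 𝒜 n) inf_le_right (gen 𝒜 hg n))) := by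
    rw [pbs_res, res_res]
  rw [e1, e2, gen_cocycle 𝒜 hf hg n inf_le_left inf_le_right, pbs_smul, res_smul]
  rfl

theorem cocycle_N {f g : A} (hf : f ∈ 𝒜 1) (hg : g ∈ 𝒜 1) :
    res ((Twist.twist ℬ n).restrict (PCone.dom φ).ι) inf_le_left (gN φ n hf) =
      (uT φ p hp n hf hg • res ((Twist.twist ℬ n).restrict (PCone.dom φ).ι) inf_le_right (gN φ n hg) :
        Γ((Twist.twist ℬ n).restrict (PCone.dom φ).ι, Uo φ hf ⊓ Uo φ hg)) := by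
  have hWf : (PCone.dom φ).ι ''ᵁ (Uo φ hf ⊓ Uo φ hg) ≤ Proj.basicOpen ℬ (φ f) := image_Uo_le φ hf inf_le_left
  have hWg : (PCone.dom φ).ι ''ᵁ (Uo φ hf ⊓ Uo φ hg) ≤ Proj.basicOpen ℬ (φ g) := image_Uo_le φ hg inf_le_right
  have hu : ((PCone.dom φ).ι.appIso (Uo φ hf ⊓ Uo φ hg)).inv (uT φ p hp n hf hg) =
      trans ℬ (φ.2 hf) (φ.2 hg) n hWf hWg := by
    have h1 : uT φ p hp n hf hg =
        ((PCone.dom φ).ι.appIso (Uo φ hf ⊓ Uo φ hg)).hom (trans ℬ (φ.2 hf) (φ.2 hg) n hWf hWg) := by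
      unfold uT trans
      rw [map_mul, map_pow, map_pow, map_mul, map_pow, map_pow,
        appLE_ratio φ p hp hf hg inf_le_right inf_le_right (inf_le_p φ p hp hf hg),
        appLE_ratio φ p hp hg hf inf_le_left inf_le_left (inf_le_p φ p hp hf hg)]
    rw [h1, ← CommRingCat.comp_apply, Iso.hom_inv_id]
    rfl
  show res (Twist.twist ℬ n) ((PCone.dom φ).ι.image_mono inf_le_left)
      (res (Twist.twist ℬ n) (image_Uo_le φ hf le_rfl) (gen ℬ (φ.2 hf) n)) =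
    (((PCone.dom φ).ι.appIso (Uo φ hf ⊓ Uo φ hg)).inv (uT φ p hp n hf hg) •
      res (Twist.twist ℬ n) ((PCone.dom φ).ι.image_mono inf_le_right)
        (res (Twist.twist ℬ n) (image_Uo_le φ hg le_rfl) (gen ℬ (φ.2 hg) n)) :
      Γ(Twist.twist ℬ n, (PCone.dom φ).ι ''ᵁ (Uo φ hf ⊓ Uo φ hg)))
  rw [hu]
  rw [res_res, res_res]
  exact gen_cocycle ℬ (φ.2 hf) (φ.2 hg) n hWf hWg

include hp in
/-- **`Φ^* O(n) ≅ O(n)|_{G(φ)}`** -/
theorem nonempty_pullback_twist_iso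
    (hgen : (HomogeneousIdeal.irrelevant 𝒜).toIdeal = Ideal.span ((𝒜 1 : Submodule R A) : Set A)) :
    Nonempty ((Scheme.Modules.pullback p).obj (Twist.twist 𝒜 n) ≅
      (Twist.twist ℬ n).restrict (PCone.dom φ).ι) := by
  obtain ⟨ψ, -⟩ := exists_iso_of_cocycle
    (M := (Scheme.Modules.pullback p).obj (Twist.twist 𝒜 n))
    (N := (Twist.twist ℬ n).restrict (PCone.dom φ).ι)
    (fun f : {f : A // f ∈ 𝒜 1} => Uo φ f.2)
    (fun f => gM φ p hp n f.2) (fun f => gN φ n f.2)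
    (fun f => isGen_gM φ p hp n f.2) (fun f => isGen_gN φ n f.2)
    (fun y => by
      obtain ⟨f, hf, hy⟩ := exists_deg_one φ hgen y
      exact ⟨⟨f, hf⟩, hy⟩)
    (fun f g => ⟨uT φ p hp n f.2 g.2, cocycle_M φ p hp n f.2 g.2, cocycle_N φ p hp n f.2 g.2⟩)
  exact ⟨ψ⟩

end assembly

end Groth.Agent.Lib.Helper28.PConeTwist
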