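import Groth.Agent.Lib.Helper28.PnBundle
import Groth.Agent.Lib.Helper28.AmpleCompose

/-!
# Degree-one sections of `O_{P(E)}(1)` over an affine open of the base: loci and ratio functions
-/

set_option autoImplicit false
universe u
open CategoryTheory CategoryTheory.Limits AlgebraicGeometry Opposite TopologicalSpace
open scoped HomogeneousIdeal
noncomputable section

namespace Groth.Agent.Lib.Helper28.PEGen

open Groth.Agent.Lib.Helper28 Groth.Agent.Lib.Helper28.QCohLoc Groth.Agent.Lib.Helper28.TraceAlg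
open Groth.Agent.Lib.Helper28.GenLocus Groth.Agent.Lib.Helper28.SymAlg
open Groth.Agent.Lib.Helper28.RLPsi Groth.Agent.Lib.Helper28.RelTwistVal Groth.Agent.Lib.Helper28.RLPsiU
open Groth.Agent.Lib.Helper28.RLPsiV Groth.Agent.Lib.Helper28.AmpleCompose

variable {Y P : Scheme.{u}} {E : Y.Modules} [E.IsQuasicoherent]
  {𝒮 : RelProj.QCGrAlg Y} {j : E ⟶ 𝒮.toModule} (hS : RelProj.IsGrSymAlg E 𝒮 j)
  {p : P ⟶ Y}
  {chart : ∀ (U : Y.Opens) (hU : IsAffineOpen U), (((p ⁻¹ᵁ U : P.Opens) : Scheme.{u}) ≅ Proj (𝒮.deg U hU))}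
  (hP : RelProj.IsRelProj 𝒮 p chart)
  {O1 : P.Modules}
  {lam : ∀ (U : Y.Opens) (hU : IsAffineOpen U),
    O1 ⟶ (Scheme.Modules.pushforward (RelProj.emb p chart U hU)).obj (GrTwist.twist (𝒮.deg U hU) ((1 : ℕ) : ℤ))}
  (hO : RelProj.IsRelTwist 𝒮 p chart ((1 : ℕ) : ℤ) O1 lam)
  {V : Y.Opens} (hV : IsAffineOpen V)

/-- the degree-one element attached to a section of `E` over `V` -/
abbrev aE (e : Γ(E, V)) : 𝒮.presheaf.obj (op V) := asR 𝒮.toQCAlg (j.app V e)

include hS in
omit [E.IsQuasicoherent] in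
theorem aE_mem (e : Γ(E, V)) : aE (j := j) e ∈ 𝒮.deg V hV 1 := hS.2 V hV e

/-- the section of `O_P(1)` over `p⁻¹ V` attached to a section of `E` over `V` -/
def σE (e : Γ(E, V)) : Γ(O1, p ⁻¹ᵁ V) := sig hO hV (aE (j := j) e) (aE_mem hS hV e)

/-- the standard open `D₊(e)` -/
abbrev DE (e : Γ(E, V)) : P.Opens := WPU p chart hV (aE (j := j) e)

include hS in
/-- the standard opens of the sections of `E` over `V` cover `p⁻¹ V` -/
theorem exists_mem_DE (x : P) (hx : x ∈ p ⁻¹ᵁ V) : ∃ e : Γ(E, V), x ∈ DE (p := p) (chart := chart) (j := j) hV e := by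
  obtain ⟨y, rfl⟩ := (RelProjQ.mem_range_emb p chart V hV x).2 hx
  obtain ⟨e, he⟩ := exists_deg_one_not_mem hS hV y
  exact ⟨e, (mem_WPU_iff hV _ y).2 he⟩

include hS in
/-- the locus where `σ_e` generates `O_P(1)` is `D₊(e)` -/
theorem secGenAt_σE_iff (e : Γ(E, V)) (x : P) (hx : x ∈ p ⁻¹ᵁ V) :
    SecGenAt O1 (p ⁻¹ᵁ V) (σE hS hO hV e) x ↔ x ∈ DE (p := p) (chart := chart) (j := j) hV e := by
  obtain ⟨e', hx'⟩ := exists_mem_DE hS hV (p := p) (chart := chart) x hx
  obtain ⟨c, hc, hcoef⟩ := exists_coef hO hV (aE (j := j) e') (aE_mem hS hV e') (aE (j := j) e) (aE_mem hS hV e)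
  have hgen := isGen_sig hO hV (aE (j := j) e') (aE_mem hS hV e')
  rw [secGenAt_iff_of_chart (σE hS hO hV e) (WPU_le hV _) hgen c hcoef x hx']
  obtain ⟨y, rfl⟩ := (RelProjQ.mem_range_emb p chart V hV x).2 hx
  rw [hc.mem_basicOpen_iff le_rfl y hx']
  exact (mem_WPU_iff hV _ y).symm

section gen

variable (a : Γ(E, V))

/-- the ratio functions `b / a` and the functions from the base, on an open `W` of `P` over `V` -/
def T (W : P.Opens) (hW : W ≤ p ⁻¹ᵁ V) : Set Γ(P, W) :=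
  {c | ∃ b : Γ(E, V), res O1 hW (σE hS hO hV b) = (c • res O1 hW (σE hS hO hV a) : Γ(O1, W))} ∪
    Set.range (p.appLE V W hW)

include hP in
theorem exists_reads_one (e : Γ(E, V)) :
    ∃ c ∈ Subring.closure (T hS hO hV a (DE (p := p) (chart := chart) (j := j) hV a) (WPU_le hV _)),
      ReadsO p chart hV c (aE (j := j) e) (aE (j := j) a) := by
  obtain ⟨c, hc, hcoef⟩ := exists_coef hO hV (aE (j := j) a) (aE_mem hS hV a)
    (aE (j := j) e) (aE_mem hS hV e)
  exact ⟨c, Subring.subset_closure (Or.inl ⟨e, hcoef⟩), hc⟩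

include hP in
theorem exists_reads_list (l : List Γ(E, V)) :
    ∃ c ∈ Subring.closure (T hS hO hV a (DE (p := p) (chart := chart) (j := j) hV a) (WPU_le hV _)),
      ReadsO p chart hV c (l.map (fun e => aE (j := j) e)).prod (aE (j := j) a ^ l.length) := by
  induction l with
  | nil =>
    refine ⟨1, Subring.one_mem _, ?_⟩
    rw [List.map_nil, List.prod_nil, List.length_nil, pow_zero]
    exact ReadsO.one
  | cons e l ih =>
    obtain ⟨c, hc, hr⟩ := exists_reads_one hS hP hO hV a e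
    obtain ⟨c', hc', hr'⟩ := ih
    refine ⟨c * c', Subring.mul_mem _ hc hc', ?_⟩
    rw [List.map_cons, List.prod_cons, List.length_cons, pow_succ']
    exact hr.mul hr'

include hP in
theorem exists_reads_deg (n : ℕ) (G : 𝒮.presheaf.obj (op V)) (hG : G ∈ monoGrp 𝒮 j V n) :
    ∃ c ∈ Subring.closure (T hS hO hV a (DE (p := p) (chart := chart) (j := j) hV a) (WPU_le hV _)),
      ReadsO p chart hV c G (aE (j := j) a ^ n) := by
  refine AddSubgroup.closure_induction (p := fun G _ =>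
    ∃ c ∈ Subring.closure (T hS hO hV a (DE (p := p) (chart := chart) (j := j) hV a) (WPU_le hV _)),
      ReadsO p chart hV c G (aE (j := j) a ^ n)) ?_ ?_ ?_ ?_ hG
  · rintro _ ⟨r, l, hl, rfl⟩
    obtain ⟨c, hc, hr⟩ := exists_reads_list hS hP hO hV a l
    refine ⟨p.appLE V (DE (p := p) (chart := chart) (j := j) hV a) (WPU_le hV _) r * c,
      Subring.mul_mem _ (Subring.subset_closure (Or.inr ⟨r, rfl⟩)) hc, ?_⟩
    have h1 := (ReadsO.base hP (hU := hV) (WPU_le hV (aE (j := j) a)) r).mul hr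
    rw [one_mul, hl] at h1
    exact h1
  · exact ⟨0, Subring.zero_mem _, ReadsO.zero _⟩
  · rintro G G' _ _ ⟨c, hc, hr⟩ ⟨c', hc', hr'⟩
    exact ⟨c + c', Subring.add_mem _ hc hc', hr.add hr'⟩
  · rintro G _ ⟨c, hc, hr⟩
    exact ⟨-c, Subring.neg_mem _ hc, hr.neg⟩

include hP in
/-- every function on `D₊(a)` is a polynomial in the ratios `b / a` with coefficients from the base -/
theorem mem_closure_T (z : Γ(P, DE (p := p) (chart := chart) (j := j) hV a)) :
    z ∈ Subring.closure (T hS hO hV a (DE (p := p) (chart := chart) (j := j) hV a) (WPU_le hV _)) := by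
  obtain ⟨n, hn, G, hG, hz⟩ := exists_readsO_of_fn hV one_pos (aE (j := j) a) (aE_mem hS hV a) z
  have hG' := deg_le_monoGrp hS V hV (n * 1) hG
  rw [mul_one] at hG'
  obtain ⟨c, hc, hr⟩ := exists_reads_deg hS hP hO hV a n G hG'
  have : z = c := ReadsO.unique (WPU_le_pow hV _ n) hz hr
  rw [this]
  exact hc

end gen

end Groth.Agent.Lib.Helper28.PEGen
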