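import Groth.Agent.Lib.Helper28.PEInv
import Groth.Agent.Lib.Helper28.ProjSect

/-!
# Pull back of `O(1)` along the morphism of relative `Proj`s induced by a graded morphism
-/

set_option autoImplicit false
universe u
open CategoryTheory CategoryTheory.Limits AlgebraicGeometry Opposite TopologicalSpace
open HomogeneousLocalization
open scoped HomogeneousIdeal
noncomputable section

namespace Groth.Agent.Lib.Helper28.RLPsiV

open Groth.Agent.Lib.Helper28 Groth.Agent.Lib.Helper28.QCohLoc Groth.Agent.Lib.Helper28.TraceAlg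
open Groth.Agent.Lib.Helper28.GenLocus Groth.Agent.Lib.Helper28.SymAlg
open Groth.Agent.Lib.Helper28.RLPsi Groth.Agent.Lib.Helper28.RelTwistVal Groth.Agent.Lib.Helper28.RLPsiU
open Groth.Agent.Lib.Helper28.PullbackInv Groth.Agent.Lib.Helper28.TensorGen

section bridge

variable {Y P : Scheme.{u}} {𝒮 : RelProj.QCGrAlg Y} {p : P ⟶ Y}
  {chart : ∀ (U : Y.Opens) (hU : IsAffineOpen U), (((p ⁻¹ᵁ U : P.Opens) : Scheme.{u}) ≅ Proj (𝒮.deg U hU))}
  {U : Y.Opens} (hU : IsAffineOpen U)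

theorem basicOpen_le_preimage_WPU (H : 𝒮.presheaf.obj (op U)) :
    Proj.basicOpen (𝒮.deg U hU) H ≤ (RelProj.emb p chart U hU) ⁻¹ᵁ WPU p chart hU H :=
  fun z hz => ⟨z, hz, rfl⟩

set_option backward.isDefEq.respectTransparency false in
/-- a function on `D₊(H)` reading `G / H` is, on the chart, the section of the fraction `G / H` -/
theorem emb_app_of_readsO {d : ℕ} (H : 𝒮.presheaf.obj (op U)) (hH : H ∈ 𝒮.deg U hU d)
    (G : 𝒮.presheaf.obj (op U)) (hG : G ∈ 𝒮.deg U hU (1 • d))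
    (c : Γ(P, WPU p chart hU H)) (hc : ReadsO p chart hU c G H) :
    resO (basicOpen_le_preimage_WPU hU H) ((RelProj.emb p chart U hU).app (WPU p chart hU H) c) =
      (Proj.awayToSection (𝒮.deg U hU) H).hom (Away.mk (𝒮.deg U hU) hH 1 G hG) := by
  refine GrTwistGenD.valO_ext _ _ _ fun x => ?_
  have hy : (RelProj.emb p chart U hU).base x.1 ∈ WPU p chart hU H := basicOpen_le_preimage_WPU hU H x.2
  have h1 : (GrModQC.valO (𝒮.deg U hU) (resO (basicOpen_le_preimage_WPU hU H)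
      ((RelProj.emb p chart U hU).app (WPU p chart hU H) c)) x).val = cvO p chart hU c x.1 hy := rfl
  have h2 : (GrModQC.valO (𝒮.deg U hU) ((Proj.awayToSection (𝒮.deg U hU) H).hom (Away.mk (𝒮.deg U hU) hH 1 G hG))
      x).val = Localization.mk G ⟨H ^ 1, GrSectMod.pow_nin (𝒮.deg U hU) 1 x⟩ := rfl
  rw [h1, h2]
  have hb : H ∉ x.1.asHomogeneousIdeal := not_mem_of_mem_WPU hU H x.1 hy
  have hu : IsUnit (Localization.mk H 1 : GrTwist.Loc (𝒮.deg U hU) x.1) :=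
    (GrModQC.isUnit_mk_iff (𝒮.deg U hU) x.1 H 1).2 hb
  apply hu.mul_left_injective
  show cvO p chart hU c x.1 hy * Localization.mk H 1 = _ * Localization.mk H 1
  rw [hc x.1 hy, Localization.mk_mul, Localization.mk_eq_mk_iff, Localization.r_iff_exists]
  refine ⟨1, ?_⟩
  simp only [OneMemClass.coe_one, one_mul, mul_one, Submonoid.coe_mul]
  ring

end bridge

section star

theorem appLE_injective_of_opensRange {X Y : Scheme.{u}} (f : X ⟶ Y) [IsOpenImmersion f] (W : Y.Opens)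
    (hW : f.opensRange = W) (e : (⊤ : X.Opens) ≤ f ⁻¹ᵁ W) : Function.Injective (f.appLE W ⊤ e).hom := by
  subst hW
  have h1 : IsIso (f.app f.opensRange) := Scheme.Hom.isIso_app f f.opensRange le_rfl
  have h2 : IsIso (homOfLE e) := ⟨homOfLE le_top, Subsingleton.elim _ _, Subsingleton.elim _ _⟩
  have h3 : IsIso (X.presheaf.map (homOfLE e).op) := inferInstance
  have h4 : IsIso (f.appLE f.opensRange ⊤ e) := by
    unfold Scheme.Hom.appLE
    infer_instance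
  exact (ConcreteCategory.bijective_of_isIso (f.appLE f.opensRange ⊤ e)).1

variable {Y Y' P P' : Scheme.{u}} {ψ : Y' ⟶ Y} {𝒮 : RelProj.QCGrAlg Y} {𝒮' : RelProj.QCGrAlg Y'}
  (u : RelProj.QGrHom ψ 𝒮 𝒮')
  {p : P ⟶ Y} {chart : ∀ (U : Y.Opens) (hU : IsAffineOpen U), (((p ⁻¹ᵁ U : P.Opens) : Scheme.{u}) ≅ Proj (𝒮.deg U hU))}
  {p' : P' ⟶ Y'}
  {chart' : ∀ (U' : Y'.Opens) (hU' : IsAffineOpen U'), (((p' ⁻¹ᵁ U' : P'.Opens) : Scheme.{u}) ≅ Proj (𝒮'.deg U' hU'))}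
  (h : P' ⟶ P)
  {U : Y.Opens} (hU : IsAffineOpen U) {U' : Y'.Opens} (hU' : IsAffineOpen U') (hle : U' ≤ ψ ⁻¹ᵁ U)
  {d : ℕ} (hd : 0 < d) (H : 𝒮.presheaf.obj (op U)) (hH : H ∈ 𝒮.deg U hU d)
  (hh2 : RelProj.awayEmb u p' chart' U hU U' hU' hle hd H hH ≫ h =
    Spec.map (CommRingCat.ofHom (HomogeneousLocalization.Away.map (u.gradedAt U hU U' hU' hle) H)) ≫
      Proj.awayι (𝒮.deg U hU) H hH hd ≫ RelProj.emb p chart U hU)

instance isOpenImmersion_awayEmb :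
    IsOpenImmersion (RelProj.awayEmb u p' chart' U hU U' hU' hle hd H hH) := by
  unfold RelProj.awayEmb
  infer_instance

theorem opensRange_awayEmb :
    (RelProj.awayEmb u p' chart' U hU U' hU' hle hd H hH).opensRange =
      WPU p' chart' hU' (u.gradedAt U hU U' hU' hle H) := by
  unfold RelProj.awayEmb WPU
  rw [Scheme.Hom.opensRange_comp, Proj.opensRange_awayι]

include hh2 in
theorem WPU_le_preimage :
    WPU p' chart' hU' (u.gradedAt U hU U' hU' hle H) ≤ h ⁻¹ᵁ WPU p chart hU H := by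
  rw [← opensRange_awayEmb u hU hU' hle hd H hH]
  rintro _ ⟨w, rfl⟩
  show h (RelProj.awayEmb u p' chart' U hU U' hU' hle hd H hH w) ∈ WPU p chart hU H
  rw [← Scheme.Hom.comp_apply, hh2, Scheme.Hom.comp_apply, Scheme.Hom.comp_apply]
  refine ⟨_, ?_, rfl⟩
  rw [← Proj.opensRange_awayι (𝒮.deg U hU) H hH hd]
  exact ⟨_, rfl⟩

include hh2 in
set_option backward.isDefEq.respectTransparency false in
/-- **(∗)**: the comorphism of `h` on the standard charts is `Away.map` -/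
theorem app_eq_of_chart (c : Γ(P, WPU p chart hU H))
    (c' : Γ(P', WPU p' chart' hU' (u.gradedAt U hU U' hU' hle H)))
    (q : Away (𝒮.deg U hU) H)
    (hc : resO (basicOpen_le_preimage_WPU hU H) ((RelProj.emb p chart U hU).app (WPU p chart hU H) c) =
      (Proj.awayToSection (𝒮.deg U hU) H).hom q)
    (hc' : resO (basicOpen_le_preimage_WPU hU' (u.gradedAt U hU U' hU' hle H))
        ((RelProj.emb p' chart' U' hU').app (WPU p' chart' hU' (u.gradedAt U hU U' hU' hle H)) c') =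
      (Proj.awayToSection (𝒮'.deg U' hU') (u.gradedAt U hU U' hU' hle H)).hom
        (HomogeneousLocalization.Away.map (u.gradedAt U hU U' hU' hle) H q)) :
    (h.appLE (WPU p chart hU H) (WPU p' chart' hU' (u.gradedAt U hU U' hU' hle H))
      (WPU_le_preimage u h hU hU' hle hd H hH hh2)).hom c = c' := by
  have hH' : u.gradedAt U hU U' hU' hle H ∈ 𝒮'.deg U' hU' d := (u.gradedAt U hU U' hU' hle).map_mem hH
  have eF : (⊤ : (Spec (CommRingCat.of (Away (𝒮'.deg U' hU') (u.gradedAt U hU U' hU' hle H)))).Opens) ≤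
      RelProj.awayEmb u p' chart' U hU U' hU' hle hd H hH ⁻¹ᵁ
        WPU p' chart' hU' (u.gradedAt U hU U' hU' hle H) := by
    rw [← opensRange_awayEmb u hU hU' hle hd H hH, Scheme.Hom.preimage_opensRange]
  apply appLE_injective_of_opensRange (RelProj.awayEmb u p' chart' U hU U' hU' hle hd H hH) _
    (opensRange_awayEmb u hU hU' hle hd H hH) eF
  -- left side
  have e1 : (⊤ : (Spec (CommRingCat.of (Away (𝒮.deg U hU) H))).Opens) ≤
      Proj.awayι (𝒮.deg U hU) H hH hd ⁻¹ᵁ Proj.basicOpen (𝒮.deg U hU) H := by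
    rw [ProjSect.awayι_preimage_self]
  have e1' : (⊤ : (Spec (CommRingCat.of (Away (𝒮'.deg U' hU') (u.gradedAt U hU U' hU' hle H)))).Opens) ≤
      Proj.awayι (𝒮'.deg U' hU') (u.gradedAt U hU U' hU' hle H) hH' hd ⁻¹ᵁ
        Proj.basicOpen (𝒮'.deg U' hU') (u.gradedAt U hU U' hU' hle H) := by
    rw [ProjSect.awayι_preimage_self]
  have L1 : h.appLE (WPU p chart hU H) (WPU p' chart' hU' (u.gradedAt U hU U' hU' hle H))
      (WPU_le_preimage u h hU hU' hle hd H hH hh2) ≫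
      (RelProj.awayEmb u p' chart' U hU U' hU' hle hd H hH).appLE
        (WPU p' chart' hU' (u.gradedAt U hU U' hU' hle H)) ⊤ eF =
      (RelProj.emb p chart U hU).appLE (WPU p chart hU H) (Proj.basicOpen (𝒮.deg U hU) H)
        (basicOpen_le_preimage_WPU hU H) ≫
      (Proj.awayι (𝒮.deg U hU) H hH hd).appLE (Proj.basicOpen (𝒮.deg U hU) H) ⊤ e1 ≫
      (Spec.map (CommRingCat.ofHom (HomogeneousLocalization.Away.map (u.gradedAt U hU U' hU' hle) H))).appLE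
        ⊤ ⊤ le_rfl := by
    rw [Scheme.Hom.appLE_comp_appLE, Scheme.Hom.appLE_comp_appLE, Scheme.Hom.appLE_comp_appLE]
    exact ProjSect.appLE_congr' (by rw [hh2, Category.assoc]) _ _ _ _
  have L2 : (RelProj.awayEmb u p' chart' U hU U' hU' hle hd H hH).appLE
        (WPU p' chart' hU' (u.gradedAt U hU U' hU' hle H)) ⊤ eF =
      (RelProj.emb p' chart' U' hU').appLE (WPU p' chart' hU' (u.gradedAt U hU U' hU' hle H))
        (Proj.basicOpen (𝒮'.deg U' hU') (u.gradedAt U hU U' hU' hle H))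
        (basicOpen_le_preimage_WPU hU' _) ≫
      (Proj.awayι (𝒮'.deg U' hU') (u.gradedAt U hU U' hU' hle H) hH' hd).appLE
        (Proj.basicOpen (𝒮'.deg U' hU') (u.gradedAt U hU U' hU' hle H)) ⊤ e1' := by
    rw [Scheme.Hom.appLE_comp_appLE]
    rfl
  have K := ProjSect.awayToSection_appLE (𝒮.deg U hU) hd hH
  have K' := ProjSect.awayToSection_appLE (𝒮'.deg U' hU') hd hH'
  have lhs := congrArg (fun χ => χ.hom c) L1
  have rhs := congrArg (fun χ => χ.hom c') L2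
  simp only [CommRingCat.hom_comp, RingHom.comp_apply] at lhs rhs
  rw [lhs, rhs]
  have hc2 : ((RelProj.emb p chart U hU).appLE (WPU p chart hU H) (Proj.basicOpen (𝒮.deg U hU) H)
      (basicOpen_le_preimage_WPU hU H)).hom c = (Proj.awayToSection (𝒮.deg U hU) H).hom q := hc
  have hc2' : ((RelProj.emb p' chart' U' hU').appLE (WPU p' chart' hU' (u.gradedAt U hU U' hU' hle H))
        (Proj.basicOpen (𝒮'.deg U' hU') (u.gradedAt U hU U' hU' hle H))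
        (basicOpen_le_preimage_WPU hU' _)).hom c' =
      (Proj.awayToSection (𝒮'.deg U' hU') (u.gradedAt U hU U' hU' hle H)).hom
        (HomogeneousLocalization.Away.map (u.gradedAt U hU U' hU' hle) H q) := hc'
  rw [hc2, hc2']
  have k1 := congrArg (fun χ => χ.hom q) K
  have k1' := congrArg (fun χ => χ.hom (HomogeneousLocalization.Away.map (u.gradedAt U hU U' hU' hle) H q)) K'
  simp only [CommRingCat.hom_comp, RingHom.comp_apply] at k1 k1'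
  rw [k1, k1']
  have nat := Scheme.ΓSpecIso_inv_naturality
    (CommRingCat.ofHom (HomogeneousLocalization.Away.map (u.gradedAt U hU U' hU' hle) H))
  have n1 := congrArg (fun χ => χ.hom q) nat
  simp only [CommRingCat.hom_comp, RingHom.comp_apply] at n1
  have e2 : (Spec.map (CommRingCat.ofHom (HomogeneousLocalization.Away.map (u.gradedAt U hU U' hU' hle) H))).appLE
      ⊤ ⊤ le_rfl =
      (Spec.map (CommRingCat.ofHom (HomogeneousLocalization.Away.map (u.gradedAt U hU U' hU' hle) H))).appTop :=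
    Scheme.Hom.appLE_eq_app _
  rw [e2]
  exact n1.symm

include hh2 in
/-- **(∗)** in terms of readings -/
theorem app_eq_of_readsO (G : 𝒮.presheaf.obj (op U)) (hG : G ∈ 𝒮.deg U hU (1 • d))
    (c : Γ(P, WPU p chart hU H)) (hc : ReadsO p chart hU c G H)
    (c' : Γ(P', WPU p' chart' hU' (u.gradedAt U hU U' hU' hle H)))
    (hc' : ReadsO p' chart' hU' c' (u.gradedAt U hU U' hU' hle G) (u.gradedAt U hU U' hU' hle H)) :
    (h.appLE (WPU p chart hU H) (WPU p' chart' hU' (u.gradedAt U hU U' hU' hle H))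
      (WPU_le_preimage u h hU hU' hle hd H hH hh2)).hom c = c' := by
  refine app_eq_of_chart u h hU hU' hle hd H hH hh2 c c' (Away.mk (𝒮.deg U hU) hH 1 G hG)
    (emb_app_of_readsO hU H hH G hG c hc) ?_
  rw [HomogeneousLocalization.Away.map_mk]
  exact emb_app_of_readsO hU' _ ((u.gradedAt U hU U' hU' hle).map_mem hH) _
    ((u.gradedAt U hU U' hU' hle).map_mem hG) c' hc'

end star

section basics

theorem exists_basic_of_basic' {X : Scheme.{u}} {V D D' : X.Opens} (hV : IsAffineOpen V) (r : Γ(X, V))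
    (hr : D = X.basicOpen r) (ρ : Γ(X, D)) (hρ : D' = X.basicOpen ρ) : ∃ f' : Γ(X, V), D' = X.basicOpen f' := by
  subst hr
  obtain ⟨f', hf'⟩ := hV.basicOpen_basicOpen_is_basicOpen r ρ
  exact ⟨f', hρ.trans hf'.symm⟩

theorem exists_basic_refine {X : Scheme.{u}} {V V' : X.Opens} (hV : IsAffineOpen V) (hV' : IsAffineOpen V')
    (O : X.Opens) (x : X) (hx : x ∈ V ⊓ V' ⊓ O) :
    ∃ (W : X.Opens) (_ : IsAffineOpen W) (f : Γ(X, V)) (g : Γ(X, V')),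
      W = X.basicOpen f ∧ W = X.basicOpen g ∧ x ∈ W ∧ W ≤ O := by
  obtain ⟨f₀, g₀, hfg, hxf⟩ := exists_basicOpen_le_affine_inter hV hV' x hx.1
  have hD : IsAffineOpen (X.basicOpen f₀) := hV.basicOpen f₀
  obtain ⟨ρ, hρle, hxρ⟩ := hD.exists_basicOpen_le (V := O) ⟨x, hx.2⟩ hxf
  obtain ⟨f', hf'⟩ := exists_basic_of_basic' hV f₀ rfl ρ rfl
  obtain ⟨g', hg'⟩ := exists_basic_of_basic' hV' g₀ hfg ρ rfl
  exact ⟨X.basicOpen ρ, hD.basicOpen ρ, f', g', hf', hg', hxρ, hρle⟩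

variable {Y P : Scheme.{u}} {𝒮 : RelProj.QCGrAlg Y} {p : P ⟶ Y}
  {chart : ∀ (U : Y.Opens) (hU : IsAffineOpen U), (((p ⁻¹ᵁ U : P.Opens) : Scheme.{u}) ≅ Proj (𝒮.deg U hU))}
  (hP : RelProj.IsRelProj 𝒮 p chart)

include hP in
/-- the standard opens restrict to the standard opens over a basic open -/
theorem WPU_basic {V W : Y.Opens} (hV : IsAffineOpen V) (hW : IsAffineOpen W) (r : Γ(Y, V))
    (e : W = Y.basicOpen r) (hle : W ≤ V) (a : 𝒮.presheaf.obj (op V)) :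
    WPU p chart hW (𝒮.res hV hW hle a) = WPU p chart hV a ⊓ p ⁻¹ᵁ W := by
  ext z
  constructor
  · rintro ⟨y, hy, rfl⟩
    have h1 := emb_eq_of_eq hP hV hW r e hle y
    refine ⟨?_, (RelProjQ.mem_range_emb p chart W hW _).1 ⟨y, rfl⟩⟩
    show (RelProj.emb p chart W hW).base y ∈ WPU p chart hV a
    rw [h1]
    refine (mem_WPU_iff hV a _).2 ?_
    rw [not_mem_comap_iff]
    exact (Proj.mem_basicOpen _ _ y).1 hy
  · rintro ⟨hz1, hz2⟩
    obtain ⟨y, rfl⟩ := (RelProjQ.mem_range_emb p chart W hW z).2 hz2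
    refine ⟨y, ?_, rfl⟩
    have hz1' : (RelProj.emb p chart W hW).base y ∈ WPU p chart hV a := hz1
    rw [emb_eq_of_eq hP hV hW r e hle y] at hz1'
    have h2 := not_mem_of_mem_WPU hV a _ hz1'
    rw [not_mem_comap_iff] at h2
    exact (Proj.mem_basicOpen _ _ y).2 h2

variable {O1 : P.Modules}
  {lam : ∀ (U : Y.Opens) (hU : IsAffineOpen U),
    O1 ⟶ (Scheme.Modules.pushforward (RelProj.emb p chart U hU)).obj (GrTwist.twist (𝒮.deg U hU) ((1 : ℕ) : ℤ))}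
  (hO : RelProj.IsRelTwist 𝒮 p chart ((1 : ℕ) : ℤ) O1 lam)

include hP in
/-- `σ_a` restricts to `σ_{a|W}` over a basic open -/
theorem sig_res_basic {V W : Y.Opens} (hV : IsAffineOpen V) (hW : IsAffineOpen W) (r : Γ(Y, V))
    (e : W = Y.basicOpen r) (hle : W ≤ V) (a : 𝒮.presheaf.obj (op V)) (ha : a ∈ 𝒮.deg V hV 1) :
    res O1 (p.preimage_mono hle) (sig hO hV a ha) =
      sig hO hW (𝒮.res hV hW hle a) ((𝒮.res hV hW hle).map_mem ha) := by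
  refine ext_cv hO hW le_rfl _ _ fun y hy => ?_
  rw [cv_res, cv_sig_basic hP hO hV hW r e hle a ha y (p.preimage_mono hle hy), cv_sig]

end basics

section main

variable {Y Y' P P' : Scheme.{u}} {ψ : Y' ⟶ Y} {𝒮 : RelProj.QCGrAlg Y} {𝒮' : RelProj.QCGrAlg Y'}
  (u : RelProj.QGrHom ψ 𝒮 𝒮')
  {p : P ⟶ Y} {chart : ∀ (U : Y.Opens) (hU : IsAffineOpen U), (((p ⁻¹ᵁ U : P.Opens) : Scheme.{u}) ≅ Proj (𝒮.deg U hU))}
  (hP : RelProj.IsRelProj 𝒮 p chart)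
  {p' : P' ⟶ Y'}
  {chart' : ∀ (U' : Y'.Opens) (hU' : IsAffineOpen U'), (((p' ⁻¹ᵁ U' : P'.Opens) : Scheme.{u}) ≅ Proj (𝒮'.deg U' hU'))}
  (hP' : RelProj.IsRelProj 𝒮' p' chart')
  {O1 : P.Modules}
  {lam : ∀ (U : Y.Opens) (hU : IsAffineOpen U),
    O1 ⟶ (Scheme.Modules.pushforward (RelProj.emb p chart U hU)).obj (GrTwist.twist (𝒮.deg U hU) ((1 : ℕ) : ℤ))}
  (hO : RelProj.IsRelTwist 𝒮 p chart ((1 : ℕ) : ℤ) O1 lam)
  {O1' : P'.Modules}
  {lam' : ∀ (U' : Y'.Opens) (hU' : IsAffineOpen U'),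
    O1' ⟶ (Scheme.Modules.pushforward (RelProj.emb p' chart' U' hU')).obj
      (GrTwist.twist (𝒮'.deg U' hU') ((1 : ℕ) : ℤ))}
  (hO' : RelProj.IsRelTwist 𝒮' p' chart' ((1 : ℕ) : ℤ) O1' lam')
  (h : P' ⟶ P)

section single

variable {U : Y.Opens} (hU : IsAffineOpen U) {U' : Y'.Opens} (hU' : IsAffineOpen U') (hle : U' ≤ ψ ⁻¹ᵁ U)
  (F₁ F₂ : 𝒮.presheaf.obj (op U)) (hF₁ : F₁ ∈ 𝒮.deg U hU 1) (hF₂ : F₂ ∈ 𝒮.deg U hU 1)
  (hh2 : RelProj.awayEmb u p' chart' U hU U' hU' hle one_pos F₂ hF₂ ≫ h =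
    Spec.map (CommRingCat.ofHom (HomogeneousLocalization.Away.map (u.gradedAt U hU U' hU' hle) F₂)) ≫
      Proj.awayι (𝒮.deg U hU) F₂ hF₂ one_pos ≫ RelProj.emb p chart U hU)

include hh2 in
theorem WPU_le_preimage' :
    WPU p' chart' hU' (u.gradedAt U hU U' hU' hle F₂) ≤ h ⁻¹ᵁ (p ⁻¹ᵁ U) :=
  (WPU_le_preimage u h hU hU' hle one_pos F₂ hF₂ hh2).trans (h.preimage_mono (WPU_le hU F₂))

include hh2 in
/-- over a single affine pair, the transition functions of the two families of generators agree -/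
theorem exists_common_coef :
    ∃ c' : Γ(P', WPU p' chart' hU' (u.gradedAt U hU U' hU' hle F₂)),
      res ((Scheme.Modules.pullback h).obj O1) (WPU_le_preimage' u h hU hU' hle F₂ hF₂ hh2)
          (pbs h O1 (p ⁻¹ᵁ U) (sig hO hU F₁ hF₁)) =
        (c' • res ((Scheme.Modules.pullback h).obj O1) (WPU_le_preimage' u h hU hU' hle F₂ hF₂ hh2)
          (pbs h O1 (p ⁻¹ᵁ U) (sig hO hU F₂ hF₂)) :
          Γ((Scheme.Modules.pullback h).obj O1, WPU p' chart' hU' (u.gradedAt U hU U' hU' hle F₂))) ∧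
      res O1' (WPU_le hU' _) (sig hO' hU' (u.gradedAt U hU U' hU' hle F₁)
          ((u.gradedAt U hU U' hU' hle).map_mem hF₁)) =
        (c' • res O1' (WPU_le hU' _) (sig hO' hU' (u.gradedAt U hU U' hU' hle F₂)
          ((u.gradedAt U hU U' hU' hle).map_mem hF₂)) :
          Γ(O1', WPU p' chart' hU' (u.gradedAt U hU U' hU' hle F₂))) := by
  obtain ⟨c₃, hr₃, he₃⟩ := exists_coef hO hU F₂ hF₂ F₁ hF₁
  obtain ⟨c'₃, hr'₃, he'₃⟩ := exists_coef hO' hU' (u.gradedAt U hU U' hU' hle F₂)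
    ((u.gradedAt U hU U' hU' hle).map_mem hF₂) (u.gradedAt U hU U' hU' hle F₁)
    ((u.gradedAt U hU U' hU' hle).map_mem hF₁)
  have hG : F₁ ∈ 𝒮.deg U hU (1 • 1) := by rwa [one_smul]
  have key := app_eq_of_readsO u h hU hU' hle one_pos F₂ hF₂ hh2 F₁ hG c₃ hr₃ c'₃ hr'₃
  refine ⟨c'₃, ?_, he'₃⟩
  have hA := WPU_le_preimage u h hU hU' hle one_pos F₂ hF₂ hh2
  have h1 := pbs_res h O1 (WPU_le (p := p) (chart := chart) hU F₂) (sig hO hU F₁ hF₁)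
  have h2 := pbs_res h O1 (WPU_le (p := p) (chart := chart) hU F₂) (sig hO hU F₂ hF₂)
  rw [he₃, pbs_smul, h2] at h1
  have h3 := congrArg (res ((Scheme.Modules.pullback h).obj O1) hA) h1
  rw [res_smul, res_res, res_res] at h3
  rw [← h3]
  congr 1

end single

section refine

open Groth.Agent.Lib.Helper28.RelProjBC (AffPair)
open Groth.Agent.Lib.Helper28.RelProjQ (φQ gradedAt_res)

variable (t t₃ : AffPair ψ) (ρ : Γ(Y, t.U)) (e : t₃.U = Y.basicOpen ρ) (hUle : t₃.U ≤ t.U)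
  (ρ' : Γ(Y', t.U')) (e' : t₃.U' = Y'.basicOpen ρ') (hU'le : t₃.U' ≤ t.U')
  (F : 𝒮.presheaf.obj (op t.U)) (hF : F ∈ 𝒮.deg t.U t.hU 1)

theorem sig_congr {U : Y.Opens} (hU : IsAffineOpen U) {a b : 𝒮.presheaf.obj (op U)} (hab : a = b)
    (ha : a ∈ 𝒮.deg U hU 1) (hb : b ∈ 𝒮.deg U hU 1) : sig hO hU a ha = sig hO hU b hb := by
  subst hab
  rfl

include hU'le in
theorem φQ_res : φQ u t₃ (𝒮.res t.hU t₃.hU hUle F) = 𝒮'.res t.hU' t₃.hU' hU'le (φQ u t F) :=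
  (DFunLike.congr_fun (gradedAt_res u t t₃ hUle hU'le) F).symm

include hP ρ e in
theorem refine_pbs {N : P'.Opens} (hN₃ : N ≤ h ⁻¹ᵁ (p ⁻¹ᵁ t₃.U)) (hN : N ≤ h ⁻¹ᵁ (p ⁻¹ᵁ t.U)) :
    res ((Scheme.Modules.pullback h).obj O1) hN₃ (pbs h O1 (p ⁻¹ᵁ t₃.U)
        (sig hO t₃.hU (𝒮.res t.hU t₃.hU hUle F) ((𝒮.res t.hU t₃.hU hUle).map_mem hF))) =
      res ((Scheme.Modules.pullback h).obj O1) hN (pbs h O1 (p ⁻¹ᵁ t.U) (sig hO t.hU F hF)) := by
  rw [← sig_res_basic hP hO t.hU t₃.hU ρ e hUle F hF, pbs_res, res_res]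

include hP' ρ' e' hU'le in
theorem refine_sig' {N : P'.Opens} (hN₃ : N ≤ p' ⁻¹ᵁ t₃.U') (hN : N ≤ p' ⁻¹ᵁ t.U') :
    res O1' hN₃ (sig hO' t₃.hU' (φQ u t₃ (𝒮.res t.hU t₃.hU hUle F))
        ((φQ u t₃).map_mem ((𝒮.res t.hU t₃.hU hUle).map_mem hF))) =
      res O1' hN (sig hO' t.hU' (φQ u t F) ((φQ u t).map_mem hF)) := by
  rw [sig_congr hO' t₃.hU' (φQ_res u t t₃ hUle hU'le F) _
    ((𝒮'.res t.hU' t₃.hU' hU'le).map_mem ((φQ u t).map_mem hF)),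
    ← sig_res_basic hP' hO' t.hU' t₃.hU' ρ' e' hU'le (φQ u t F) ((φQ u t).map_mem hF), res_res]

include hP' ρ' e' hU'le in
theorem refine_WPU :
    WPU p' chart' t₃.hU' (φQ u t₃ (𝒮.res t.hU t₃.hU hUle F)) =
      WPU p' chart' t.hU' (φQ u t F) ⊓ p' ⁻¹ᵁ t₃.U' := by
  rw [φQ_res u t t₃ hUle hU'le F]
  exact WPU_basic hP' t.hU' t₃.hU' ρ' e' hU'le _

end refine

section mainthm

open Groth.Agent.Lib.Helper28.RelProjBC (AffPair)
open Groth.Agent.Lib.Helper28.RelProjQ (φQ gradedAt_res)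

include hP hP' in
/-- local form of the cocycle identity -/
theorem local_coc (hh : RelProj.IsProjQMap u p chart p' chart' h) (t₁ t₂ : AffPair ψ)
    (F₁ : 𝒮.presheaf.obj (op t₁.U)) (hF₁ : F₁ ∈ 𝒮.deg t₁.U t₁.hU 1)
    (F₂ : 𝒮.presheaf.obj (op t₂.U)) (hF₂ : F₂ ∈ 𝒮.deg t₂.U t₂.hU 1)
    (z : P') (hz₁ : z ∈ WPU p' chart' t₁.hU' (φQ u t₁ F₁)) (hz₂ : z ∈ WPU p' chart' t₂.hU' (φQ u t₂ F₂)) :
    ∃ (N : P'.Opens) (_ : z ∈ N) (hN₁ : N ≤ h ⁻¹ᵁ (p ⁻¹ᵁ t₁.U)) (hN₂ : N ≤ h ⁻¹ᵁ (p ⁻¹ᵁ t₂.U))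
      (hN₁' : N ≤ p' ⁻¹ᵁ t₁.U') (hN₂' : N ≤ p' ⁻¹ᵁ t₂.U') (c : Γ(P', N)),
      res ((Scheme.Modules.pullback h).obj O1) hN₁ (pbs h O1 (p ⁻¹ᵁ t₁.U) (sig hO t₁.hU F₁ hF₁)) =
        (c • res ((Scheme.Modules.pullback h).obj O1) hN₂ (pbs h O1 (p ⁻¹ᵁ t₂.U) (sig hO t₂.hU F₂ hF₂)) :
          Γ((Scheme.Modules.pullback h).obj O1, N)) ∧
      res O1' hN₁' (sig hO' t₁.hU' (φQ u t₁ F₁) ((φQ u t₁).map_mem hF₁)) =
        (c • res O1' hN₂' (sig hO' t₂.hU' (φQ u t₂ F₂) ((φQ u t₂).map_mem hF₂)) : Γ(O1', N)) := by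
  have hy₁ : p' z ∈ t₁.U' := WPU_le t₁.hU' _ hz₁
  have hy₂ : p' z ∈ t₂.U' := WPU_le t₂.hU' _ hz₂
  have hx₁ : ψ (p' z) ∈ t₁.U := t₁.hle hy₁
  have hx₂ : ψ (p' z) ∈ t₂.U := t₂.hle hy₂
  obtain ⟨U₃, hU₃, ρ₁, ρ₂, e₁, e₂, hx₃, -⟩ :=
    exists_basic_refine t₁.hU t₂.hU ⊤ (ψ (p' z)) ⟨⟨hx₁, hx₂⟩, trivial⟩
  obtain ⟨U'₃, hU'₃, ρ'₁, ρ'₂, e'₁, e'₂, hy₃, hle₃⟩ :=
    exists_basic_refine t₁.hU' t₂.hU' (ψ ⁻¹ᵁ U₃) (p' z) ⟨⟨hy₁, hy₂⟩, hx₃⟩
  let t₃ : AffPair ψ := ⟨U₃, hU₃, U'₃, hU'₃, hle₃⟩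
  have h13 : t₃.U ≤ t₁.U := by
    show U₃ ≤ t₁.U
    rw [e₁]; exact Y.basicOpen_le ρ₁
  have h23 : t₃.U ≤ t₂.U := by
    show U₃ ≤ t₂.U
    rw [e₂]; exact Y.basicOpen_le ρ₂
  have h13' : t₃.U' ≤ t₁.U' := by
    show U'₃ ≤ t₁.U'
    rw [e'₁]; exact Y'.basicOpen_le ρ'₁
  have h23' : t₃.U' ≤ t₂.U' := by
    show U'₃ ≤ t₂.U'
    rw [e'₂]; exact Y'.basicOpen_le ρ'₂
  have hG₁ : 𝒮.res t₁.hU t₃.hU h13 F₁ ∈ 𝒮.deg t₃.U t₃.hU 1 := (𝒮.res t₁.hU t₃.hU h13).map_mem hF₁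
  have hG₂ : 𝒮.res t₂.hU t₃.hU h23 F₂ ∈ 𝒮.deg t₃.U t₃.hU 1 := (𝒮.res t₂.hU t₃.hU h23).map_mem hF₂
  have hh2 := hh.2 t₃.U t₃.hU t₃.U' t₃.hU' t₃.hle 1 one_pos _ hG₂
  obtain ⟨c', eq1, eq2⟩ := exists_common_coef u hO hO' h t₃.hU t₃.hU' t₃.hle _ _ hG₁ hG₂ hh2
  have hT := refine_WPU u hP' t₂ t₃ h23 ρ'₂ e'₂ h23' F₂
  have hN₃ : WPU p' chart' t₃.hU' (φQ u t₃ (𝒮.res t₂.hU t₃.hU h23 F₂)) ≤ h ⁻¹ᵁ (p ⁻¹ᵁ t₃.U) :=
    WPU_le_preimage' u h t₃.hU t₃.hU' t₃.hle _ hG₂ hh2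
  have hN₃' : WPU p' chart' t₃.hU' (φQ u t₃ (𝒮.res t₂.hU t₃.hU h23 F₂)) ≤ p' ⁻¹ᵁ t₃.U' := WPU_le t₃.hU' _
  have hzN : z ∈ WPU p' chart' t₃.hU' (φQ u t₃ (𝒮.res t₂.hU t₃.hU h23 F₂)) := by
    rw [hT]
    exact ⟨hz₂, hy₃⟩
  have hN₁ := hN₃.trans (h.preimage_mono (p.preimage_mono h13))
  have hN₂ := hN₃.trans (h.preimage_mono (p.preimage_mono h23))
  have hN₁' := hN₃'.trans (p'.preimage_mono h13')
  have hN₂' := hN₃'.trans (p'.preimage_mono h23')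
  refine ⟨_, hzN, hN₁, hN₂, hN₁', hN₂', c', ?_, ?_⟩
  · rw [← refine_pbs hP hO h t₁ t₃ ρ₁ e₁ h13 F₁ hF₁ hN₃ hN₁,
      ← refine_pbs hP hO h t₂ t₃ ρ₂ e₂ h23 F₂ hF₂ hN₃ hN₂]
    exact eq1
  · rw [← refine_sig' u hP' hO' t₁ t₃ h13 ρ'₁ e'₁ h13' F₁ hF₁ hN₃' hN₁',
      ← refine_sig' u hP' hO' t₂ t₃ h23 ρ'₂ e'₂ h23' F₂ hF₂ hN₃' hN₂']
    exact eq2

include hP hP' hO hO' in
/-- **`Proj(u)^* O_P(1) ≅ O_{P'}(1)`** when the images of the degree-one elements define a covering of `P'`. -/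
theorem nonempty_pullback_iso_of_isProjQMap (hh : RelProj.IsProjQMap u p chart p' chart' h)
    (hcov : ∀ z' : P', ∃ (t : AffPair ψ) (F : 𝒮.presheaf.obj (op t.U)) (_ : F ∈ 𝒮.deg t.U t.hU 1),
      z' ∈ WPU p' chart' t.hU' (φQ u t F)) :
    Nonempty ((Scheme.Modules.pullback h).obj O1 ≅ O1') := by
  classical
  let ι := Σ t : AffPair ψ, {F : 𝒮.presheaf.obj (op t.U) // F ∈ 𝒮.deg t.U t.hU 1}
  let Wd : ι → P'.Opens := fun i => WPU p' chart' i.1.hU' (φQ u i.1 i.2.1)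
  have hh2 : ∀ i : ι, RelProj.awayEmb u p' chart' i.1.U i.1.hU i.1.U' i.1.hU' i.1.hle one_pos i.2.1 i.2.2 ≫ h =
      Spec.map (CommRingCat.ofHom (HomogeneousLocalization.Away.map
        (u.gradedAt i.1.U i.1.hU i.1.U' i.1.hU' i.1.hle) i.2.1)) ≫
      Proj.awayι (𝒮.deg i.1.U i.1.hU) i.2.1 i.2.2 one_pos ≫ RelProj.emb p chart i.1.U i.1.hU := fun i =>
    hh.2 i.1.U i.1.hU i.1.U' i.1.hU' i.1.hle 1 one_pos i.2.1 i.2.2
  have hWd : ∀ i : ι, Wd i ≤ h ⁻¹ᵁ (p ⁻¹ᵁ i.1.U) := fun i =>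
    WPU_le_preimage' u h i.1.hU i.1.hU' i.1.hle i.2.1 i.2.2 (hh2 i)
  have hWd' : ∀ i : ι, Wd i ≤ p' ⁻¹ᵁ i.1.U' := fun i => WPU_le i.1.hU' _
  let g : ∀ i : ι, Γ((Scheme.Modules.pullback h).obj O1, Wd i) := fun i =>
    res ((Scheme.Modules.pullback h).obj O1) (hWd i) (pbs h O1 (p ⁻¹ᵁ i.1.U) (sig hO i.1.hU i.2.1 i.2.2))
  let b : ∀ i : ι, Γ(O1', Wd i) := fun i =>
    res O1' (hWd' i) (sig hO' i.1.hU' (φQ u i.1 i.2.1) ((φQ u i.1).map_mem i.2.2))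
  have hgen_b : ∀ i : ι, IsGen O1' (Wd i) (b i) := fun i =>
    isGen_sig hO' i.1.hU' (φQ u i.1 i.2.1) ((φQ u i.1).map_mem i.2.2)
  have hgen_g : ∀ i : ι, IsGen ((Scheme.Modules.pullback h).obj O1) (Wd i) (g i) := by
    intro i
    have hA : Wd i ≤ h ⁻¹ᵁ (WPU p chart i.1.hU i.2.1) :=
      WPU_le_preimage u h i.1.hU i.1.hU' i.1.hle one_pos i.2.1 i.2.2 (hh2 i)
    have h1 := (isGen_pbs (f := h) (isGen_sig hO i.1.hU i.2.1 i.2.2)).res hA
    rw [pbs_res, res_res] at h1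
    exact h1
  have hcovW : ∀ z' : P', ∃ i : ι, z' ∈ Wd i := by
    intro z'
    obtain ⟨t, F, hF, hz⟩ := hcov z'
    exact ⟨⟨t, F, hF⟩, hz⟩
  suffices hcoc : ∀ i k : ι, ∃ c : Γ(P', Wd i ⊓ Wd k),
      res ((Scheme.Modules.pullback h).obj O1) inf_le_left (g i) =
        (c • res ((Scheme.Modules.pullback h).obj O1) inf_le_right (g k) :
          Γ((Scheme.Modules.pullback h).obj O1, Wd i ⊓ Wd k)) ∧
      res O1' inf_le_left (b i) = (c • res O1' inf_le_right (b k) : Γ(O1', Wd i ⊓ Wd k)) by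
    obtain ⟨Φ, -⟩ := exists_iso_of_cocycle_gen Wd g b hgen_g hgen_b hcovW hcoc
    exact ⟨Φ⟩
  intro i k
  obtain ⟨c, hc⟩ := (hgen_b k (Wd i ⊓ Wd k) inf_le_right).2 (res O1' inf_le_left (b i))
  have hc' : (c • res O1' inf_le_right (b k) : Γ(O1', Wd i ⊓ Wd k)) = res O1' inf_le_left (b i) := hc
  refine ⟨c, ?_, hc'.symm⟩
  -- local verification
  have hloc : ∀ z : (Wd i ⊓ Wd k : P'.Opens), ∃ (N : P'.Opens) (hN : N ≤ Wd i ⊓ Wd k), z.1 ∈ N ∧
      res ((Scheme.Modules.pullback h).obj O1) hN (res ((Scheme.Modules.pullback h).obj O1) inf_le_left (g i)) =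
      res ((Scheme.Modules.pullback h).obj O1) hN
        (c • res ((Scheme.Modules.pullback h).obj O1) inf_le_right (g k) :
          Γ((Scheme.Modules.pullback h).obj O1, Wd i ⊓ Wd k)) := by
    rintro ⟨z, hz₁, hz₂⟩
    obtain ⟨N, hzN, hN₁, hN₂, hN₁', hN₂', c', eq1, eq2⟩ :=
      local_coc u hP hP' hO hO' h hh i.1 k.1 i.2.1 i.2.2 k.2.1 k.2.2 z hz₁ hz₂
    have hN' : N ⊓ (Wd i ⊓ Wd k) ≤ Wd i ⊓ Wd k := inf_le_right
    refine ⟨N ⊓ (Wd i ⊓ Wd k), hN', ⟨hzN, hz₁, hz₂⟩, ?_⟩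
    have hNN : N ⊓ (Wd i ⊓ Wd k) ≤ N := inf_le_left
    -- normal forms
    have Bk : res O1' hN' (res O1' inf_le_right (b k)) =
        res O1' (hNN.trans hN₂') (sig hO' k.1.hU' (φQ u k.1 k.2.1) ((φQ u k.1).map_mem k.2.2)) := by
      show res O1' hN' (res O1' inf_le_right (res O1' (hWd' k) _)) = _
      rw [res_res, res_res]
    have Bi : res O1' hN' (res O1' inf_le_left (b i)) =
        res O1' (hNN.trans hN₁') (sig hO' i.1.hU' (φQ u i.1 i.2.1) ((φQ u i.1).map_mem i.2.2)) := by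
      show res O1' hN' (res O1' inf_le_left (res O1' (hWd' i) _)) = _
      rw [res_res, res_res]
    have Gk : res ((Scheme.Modules.pullback h).obj O1) hN'
          (res ((Scheme.Modules.pullback h).obj O1) inf_le_right (g k)) =
        res ((Scheme.Modules.pullback h).obj O1) (hNN.trans hN₂)
          (pbs h O1 (p ⁻¹ᵁ k.1.U) (sig hO k.1.hU k.2.1 k.2.2)) := by
      show res _ hN' (res _ inf_le_right (res _ (hWd k) _)) = _
      rw [res_res, res_res]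
    have Gi : res ((Scheme.Modules.pullback h).obj O1) hN'
          (res ((Scheme.Modules.pullback h).obj O1) inf_le_left (g i)) =
        res ((Scheme.Modules.pullback h).obj O1) (hNN.trans hN₁)
          (pbs h O1 (p ⁻¹ᵁ i.1.U) (sig hO i.1.hU i.2.1 i.2.2)) := by
      show res _ hN' (res _ inf_le_left (res _ (hWd i) _)) = _
      rw [res_res, res_res]
    -- restrict the two local equations
    have E1 := congrArg (res ((Scheme.Modules.pullback h).obj O1) hNN) eq1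
    have E2 := congrArg (res O1' hNN) eq2
    rw [res_smul, res_res, res_res] at E1 E2
    -- compare `c'` with `c`
    have E3 := congrArg (res O1' hN') hc'
    rw [res_smul, Bk, Bi] at E3
    have hbk : res O1' (hN'.trans inf_le_right) (b k) =
        res O1' (hNN.trans hN₂') (sig hO' k.1.hU' (φQ u k.1 k.2.1) ((φQ u k.1).map_mem k.2.2)) :=
      res_res _ _ _ _
    have hcc : resO hNN c' = resO hN' c := by
      have h1 := (hgen_b k).coef_eq (hN'.trans inf_le_right)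
        (res O1' (hNN.trans hN₁') (sig hO' i.1.hU' (φQ u i.1 i.2.1) ((φQ u i.1).map_mem i.2.2)))
        (resO hNN c') (by rw [hbk]; exact E2.symm)
      have h2 := (hgen_b k).coef_eq (hN'.trans inf_le_right)
        (res O1' (hNN.trans hN₁') (sig hO' i.1.hU' (φQ u i.1 i.2.1) ((φQ u i.1).map_mem i.2.2)))
        (resO hN' c) (by rw [hbk]; exact E3)
      exact h1.symm.trans h2
    rw [res_smul, Gk, Gi, ← hcc]
    exact E1
  choose N hN hzN hEq using hloc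
  exact eq_of_locally_eq _ N (Wd i ⊓ Wd k) hN (fun z hz => Opens.mem_iSup.2 ⟨⟨z, hz⟩, hzN ⟨z, hz⟩⟩) _ _ hEq

end mainthm

end main

end Groth.Agent.Lib.Helper28.RLPsiV
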