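import Groth.Agent.Lib.Helper28.ProjQ
import Groth.Agent.Lib.Helper28.RelProjQ
import Groth.Agent.Lib.Helper28.RelProj

set_option autoImplicit false
universe u
open CategoryTheory CategoryTheory.Limits AlgebraicGeometry Opposite TopologicalSpace
open scoped HomogeneousIdeal
open HomogeneousLocalization
noncomputable section

namespace Groth.Agent.Lib.Helper28.ProjQRel

open Groth.Agent.Lib.Helper28.RelProjBC (AffPair cover)
open Groth.Agent.Lib.Helper28.RelProjExists (hirr projMap_congr)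
open Groth.Agent.Lib.Helper28.RelProjQ (mkSite le_of_site map_emb φQ gradedAt_res exists_refine
  mem_range_emb cover')
open Groth.Agent.Lib.Helper28.ProjQ

section glue
variable {Y Y' : Scheme.{u}} {ψ : Y' ⟶ Y} {𝒮 : _root_.RelProj.QCGrAlg Y} {𝒮' : _root_.RelProj.QCGrAlg Y'}
  (u : _root_.RelProj.QGrHom ψ 𝒮 𝒮')
variable {P P' : Scheme.{u}} (p : P ⟶ Y)
  (chart : ∀ (U : Y.Opens) (hU : IsAffineOpen U), (((p ⁻¹ᵁ U : P.Opens) : Scheme.{u}) ≅ Proj (𝒮.deg U hU)))
  (hP : _root_.RelProj.IsRelProj 𝒮 p chart) (p' : P' ⟶ Y')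
  (chart' : ∀ (U' : Y'.Opens) (hU' : IsAffineOpen U'), (((p' ⁻¹ᵁ U' : P'.Opens) : Scheme.{u}) ≅ Proj (𝒮'.deg U' hU')))
  (hP' : _root_.RelProj.IsRelProj 𝒮' p' chart')

/-- the open of definition over a pair -/
abbrev D (t : AffPair ψ) : (Proj (𝒮'.deg t.U' t.hU')).Opens := RelCone.domOpen (φQ u t)

theorem emb_mem_domQ (t : AffPair ψ) (x : Proj (𝒮'.deg t.U' t.hU')) (hx : x ∈ D u t) :
    _root_.RelProj.emb p' chart' t.U' t.hU' x ∈ _root_.RelProj.domQ u p' chart' := by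
  unfold _root_.RelProj.domQ
  refine Opens.mem_iSup.mpr ⟨⟨(⟨t.U, t.hU⟩, ⟨t.U', t.hU'⟩), t.hle⟩, ?_⟩
  exact ⟨x, hx, rfl⟩

theorem exists_of_mem_domQ (z : P') (hz : z ∈ _root_.RelProj.domQ u p' chart') :
    ∃ (t : AffPair ψ) (x : Proj (𝒮'.deg t.U' t.hU')), x ∈ D u t ∧
      _root_.RelProj.emb p' chart' t.U' t.hU' x = z := by
  unfold _root_.RelProj.domQ at hz
  obtain ⟨⟨⟨V, V'⟩, hle⟩, x, hx, hxz⟩ := Opens.mem_iSup.mp hz
  exact ⟨⟨V.1, V.2, V'.1, V'.2, hle⟩, x, hx, hxz⟩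

theorem range_cW_subset (t : AffPair ψ) :
    Set.range ((D u t).ι ≫ _root_.RelProj.emb p' chart' t.U' t.hU').base ⊆
      Set.range (_root_.RelProj.domQ u p' chart').ι.base := by
  rw [Scheme.Opens.range_ι]
  rintro _ ⟨x, rfl⟩
  exact emb_mem_domQ u p' chart' t x.1 x.2

/-- the charts of `G(u)` over the pairs -/
def cW (t : AffPair ψ) : ((D u t : (Proj (𝒮'.deg t.U' t.hU')).Opens) : Scheme.{u}) ⟶
    ((_root_.RelProj.domQ u p' chart' : P'.Opens) : Scheme.{u}) :=
  IsOpenImmersion.lift (_root_.RelProj.domQ u p' chart').ι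
    ((D u t).ι ≫ _root_.RelProj.emb p' chart' t.U' t.hU') (range_cW_subset u p' chart' t)

@[reassoc]
theorem cW_ι (t : AffPair ψ) : cW u p' chart' t ≫ (_root_.RelProj.domQ u p' chart').ι =
    (D u t).ι ≫ _root_.RelProj.emb p' chart' t.U' t.hU' :=
  IsOpenImmersion.lift_fac _ _ _

instance cW_isOpenImmersion (t : AffPair ψ) : IsOpenImmersion (cW u p' chart' t) := by
  have : IsOpenImmersion (cW u p' chart' t ≫ (_root_.RelProj.domQ u p' chart').ι) := by
    rw [cW_ι]; infer_instance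
  exact IsOpenImmersion.of_comp _ (_root_.RelProj.domQ u p' chart').ι

theorem cW_apply (t : AffPair ψ) (x : ((D u t : (Proj (𝒮'.deg t.U' t.hU')).Opens) : Scheme.{u})) :
    (_root_.RelProj.domQ u p' chart').ι (cW u p' chart' t x) =
      _root_.RelProj.emb p' chart' t.U' t.hU' ((D u t).ι x) := by
  rw [← Scheme.Hom.comp_apply, cW_ι, Scheme.Hom.comp_apply]

theorem mem_range_cW (t : AffPair ψ) (z : ((_root_.RelProj.domQ u p' chart' : P'.Opens) : Scheme.{u}))
    (x : Proj (𝒮'.deg t.U' t.hU')) (hx : x ∈ D u t)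
    (hxz : _root_.RelProj.emb p' chart' t.U' t.hU' x = (_root_.RelProj.domQ u p' chart').ι z) :
    z ∈ Set.range (cW u p' chart' t) := by
  refine ⟨⟨x, hx⟩, ?_⟩
  apply (_root_.RelProj.domQ u p' chart').ι.isOpenEmbedding.injective
  exact (cW_apply u p' chart' t _).trans hxz

theorem cover_W (z : ((_root_.RelProj.domQ u p' chart' : P'.Opens) : Scheme.{u})) :
    ∃ t : AffPair ψ, z ∈ Set.range (cW u p' chart' t) := by
  obtain ⟨t, x, hx, hxz⟩ := exists_of_mem_domQ u p' chart' z.1 z.2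
  exact ⟨t, mem_range_cW u p' chart' t z x hx hxz⟩

/-- the open of definition is compatible with refinement of pairs -/
theorem mem_D_refine (t w : AffPair ψ) (h : mkSite w.U w.hU ≤ mkSite t.U t.hU)
    (h' : mkSite w.U' w.hU' ≤ mkSite t.U' t.hU') (x₀ : Proj (𝒮'.deg w.U' w.hU')) :
    Proj.map (𝒮'.res t.hU' w.hU' (le_of_site h')) (hirr 𝒮' h') x₀ ∈ D u t ↔ x₀ ∈ D u w := by
  have := preimage_domOpen_sq (φQ u t) (φQ u w) (𝒮.res t.hU w.hU (le_of_site h))
    (𝒮'.res t.hU' w.hU' (le_of_site h')) (hirr 𝒮 h) (hirr 𝒮' h')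
    (gradedAt_res u t w (le_of_site h) (le_of_site h'))
  exact SetLike.ext_iff.1 this x₀

include hP' in
/-- a point of `G(u)` over `s.U'` comes from the open of definition of the pair `s` -/
theorem exists_of_mem_domQ_of_mem (z : P') (hz : z ∈ _root_.RelProj.domQ u p' chart')
    (s : AffPair ψ) (hzs : p' z ∈ s.U') :
    ∃ y : Proj (𝒮'.deg s.U' s.hU'), y ∈ D u s ∧ _root_.RelProj.emb p' chart' s.U' s.hU' y = z := by
  obtain ⟨t, x, hx, hxz⟩ := exists_of_mem_domQ u p' chart' z hz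
  have hzt : p' z ∈ t.U' := (mem_range_emb p' chart' t.U' t.hU' z).1 ⟨x, hxz⟩
  obtain ⟨w, hzw, h1, h2, h1', h2'⟩ := exists_refine t s (p' z) hzt hzs
  obtain ⟨x₀, hx₀⟩ := (mem_range_emb p' chart' w.U' w.hU' z).2 hzw
  have ea : Proj.map (𝒮'.res t.hU' w.hU' (le_of_site h1')) (hirr 𝒮' h1') ≫
      _root_.RelProj.emb p' chart' t.U' t.hU' = _root_.RelProj.emb p' chart' w.U' w.hU' :=
    map_emb 𝒮' p' chart' hP' (V := mkSite w.U' w.hU') (U := mkSite t.U' t.hU') h1'
  have eb : Proj.map (𝒮'.res s.hU' w.hU' (le_of_site h2')) (hirr 𝒮' h2') ≫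
      _root_.RelProj.emb p' chart' s.U' s.hU' = _root_.RelProj.emb p' chart' w.U' w.hU' :=
    map_emb 𝒮' p' chart' hP' (V := mkSite w.U' w.hU') (U := mkSite s.U' s.hU') h2'
  have hx₀t : Proj.map (𝒮'.res t.hU' w.hU' (le_of_site h1')) (hirr 𝒮' h1') x₀ = x := by
    apply (_root_.RelProj.emb p' chart' t.U' t.hU').isOpenEmbedding.injective
    have e := congrArg (fun k => k x₀) ea
    exact (e.trans hx₀).trans hxz.symm
  have hx₀w : x₀ ∈ D u w := by
    refine (mem_D_refine u t w h1 h1' x₀).1 ?_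
    rw [hx₀t]
    exact hx
  refine ⟨Proj.map (𝒮'.res s.hU' w.hU' (le_of_site h2')) (hirr 𝒮' h2') x₀, ?_, ?_⟩
  · exact (mem_D_refine u s w h2 h2' x₀).2 hx₀w
  · have e := congrArg (fun k => k x₀) eb
    exact e.trans hx₀


/-- the local pieces of the partial morphism `Proj(u)` -/
def pieceW (t : AffPair ψ) : ((D u t : (Proj (𝒮'.deg t.U' t.hU')).Opens) : Scheme.{u}) ⟶ P :=
  vQ (φQ u t) ≫ _root_.RelProj.emb p chart t.U t.hU

/-- the restriction morphisms between the opens of definition -/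
def resD (t w : AffPair ψ) (h : mkSite w.U w.hU ≤ mkSite t.U t.hU)
    (h' : mkSite w.U' w.hU' ≤ mkSite t.U' t.hU') :
    ((D u w : (Proj (𝒮'.deg w.U' w.hU')).Opens) : Scheme.{u}) ⟶
      ((D u t : (Proj (𝒮'.deg t.U' t.hU')).Opens) : Scheme.{u}) :=
  mD (φQ u t) (φQ u w) (𝒮.res t.hU w.hU (le_of_site h))
    (𝒮'.res t.hU' w.hU' (le_of_site h')) (hirr 𝒮 h) (hirr 𝒮' h')
    (gradedAt_res u t w (le_of_site h) (le_of_site h'))

include hP' in
set_option backward.isDefEq.respectTransparency false in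
theorem resD_cW (t w : AffPair ψ) (h : mkSite w.U w.hU ≤ mkSite t.U t.hU)
    (h' : mkSite w.U' w.hU' ≤ mkSite t.U' t.hU') :
    resD u t w h h' ≫ cW u p' chart' t = cW u p' chart' w := by
  rw [← cancel_mono (_root_.RelProj.domQ u p' chart').ι, Category.assoc, cW_ι, cW_ι]
  unfold resD
  rw [mD_ι_assoc]
  congr 1
  exact map_emb 𝒮' p' chart' hP' (V := mkSite w.U' w.hU') (U := mkSite t.U' t.hU') h'

include hP in
set_option backward.isDefEq.respectTransparency false in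
theorem resD_pieceW (t w : AffPair ψ) (h : mkSite w.U w.hU ≤ mkSite t.U t.hU)
    (h' : mkSite w.U' w.hU' ≤ mkSite t.U' t.hU') :
    resD u t w h h' ≫ pieceW u p chart t = pieceW u p chart w := by
  unfold pieceW resD
  rw [← Category.assoc, mD_vQ, Category.assoc]
  congr 1
  exact map_emb 𝒮 p chart hP (V := mkSite w.U w.hU) (U := mkSite t.U t.hU) h

include hP hP' in
set_option backward.isDefEq.respectTransparency false in
theorem glue_H (t s : AffPair ψ) (x : ((D u t : (Proj (𝒮'.deg t.U' t.hU')).Opens) : Scheme.{u}))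
    (y : ((D u s : (Proj (𝒮'.deg s.U' s.hU')).Opens) : Scheme.{u}))
    (hxy : cW u p' chart' t x = cW u p' chart' s y) :
    ∃ (V : Scheme.{u}) (a : V ⟶ ((D u t : (Proj (𝒮'.deg t.U' t.hU')).Opens) : Scheme.{u}))
      (b : V ⟶ ((D u s : (Proj (𝒮'.deg s.U' s.hU')).Opens) : Scheme.{u})),
      a ≫ cW u p' chart' t = b ≫ cW u p' chart' s ∧
      IsOpenImmersion (a ≫ cW u p' chart' t) ∧
      cW u p' chart' t x ∈ Set.range (a ≫ cW u p' chart' t) ∧
      a ≫ pieceW u p chart t = b ≫ pieceW u p chart s := by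
  set z := cW u p' chart' t x with hz
  have hz1 : p' ((_root_.RelProj.domQ u p' chart').ι z) ∈ t.U' := by
    rw [hz, cW_apply]
    exact (mem_range_emb p' chart' t.U' t.hU' _).1 ⟨_, rfl⟩
  have hz2 : p' ((_root_.RelProj.domQ u p' chart').ι z) ∈ s.U' := by
    rw [hxy, cW_apply]
    exact (mem_range_emb p' chart' s.U' s.hU' _).1 ⟨_, rfl⟩
  obtain ⟨w, hzw, h1, h2, h1', h2'⟩ := exists_refine t s _ hz1 hz2
  obtain ⟨y₀, hy₀, hy₀z⟩ := exists_of_mem_domQ_of_mem u p' chart' hP' _ z.2 w hzw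
  refine ⟨_, resD u t w h1 h1', resD u s w h2 h2', ?_, ?_, ?_, ?_⟩
  · rw [resD_cW u p' chart' hP', resD_cW u p' chart' hP']
  · rw [resD_cW u p' chart' hP']; infer_instance
  · rw [resD_cW u p' chart' hP']
    exact mem_range_cW u p' chart' w z y₀ hy₀ hy₀z
  · rw [resD_pieceW u p chart hP, resD_pieceW u p chart hP]

include hP hP' in
/-- existence and uniqueness of the partial morphism `Proj(u) : G(u) ⟶ P` glued from the pieces -/
theorem existsUnique_glueW :
    ∃! v : ((_root_.RelProj.domQ u p' chart' : P'.Opens) : Scheme.{u}) ⟶ P,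
      ∀ t : AffPair ψ, cW u p' chart' t ≫ v = pieceW u p chart t :=
  GlueLocal.existsUnique_glue
    (fun t : AffPair ψ => ((D u t : (Proj (𝒮'.deg t.U' t.hU')).Opens) : Scheme.{u}))
    (fun t => cW u p' chart' t) (cover_W u p' chart') (fun t => pieceW u p chart t)
    (glue_H u p chart hP p' chart' hP')


set_option backward.isDefEq.respectTransparency false in
theorem lift_awayEmb (t : AffPair ψ) {d : ℕ} (hd : 0 < d) (f : 𝒮.presheaf.obj (op t.U))
    (hf : f ∈ 𝒮.deg t.U t.hU d)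
    (hW : Set.range (_root_.RelProj.awayEmb u p' chart' t.U t.hU t.U' t.hU' t.hle hd f hf).base ⊆
      Set.range (_root_.RelProj.domQ u p' chart').ι.base) :
    IsOpenImmersion.lift (_root_.RelProj.domQ u p' chart').ι
        (_root_.RelProj.awayEmb u p' chart' t.U t.hU t.U' t.hU' t.hle hd f hf) hW =
      chartQ (φQ u t) hf hd ≫ cW u p' chart' t := by
  rw [← cancel_mono (_root_.RelProj.domQ u p' chart').ι, IsOpenImmersion.lift_fac, Category.assoc,
    cW_ι, chartQ_ι_assoc]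
  rfl

set_option backward.isDefEq.respectTransparency false in
/-- a morphism glued from the pieces is the partial morphism `Proj(u)` on `G(u)` -/
theorem isProjQMapOn_of_glue (v : ((_root_.RelProj.domQ u p' chart' : P'.Opens) : Scheme.{u}) ⟶ P)
    (hv : ∀ t : AffPair ψ, cW u p' chart' t ≫ v = pieceW u p chart t) :
    _root_.RelProj.IsProjQMapOn u p chart p' chart' (_root_.RelProj.domQ u p' chart') v := by
  intro U hU U' hU' hle d hd f hf hW
  rw [lift_awayEmb u p' chart' ⟨U, hU, U', hU', hle⟩ hd f hf hW, Category.assoc,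
    hv ⟨U, hU, U', hU', hle⟩]
  unfold pieceW
  rw [chartQ_vQ_assoc]

set_option backward.isDefEq.respectTransparency false in
/-- the partial morphism `Proj(u)` on `G(u)` is glued from the pieces -/
theorem glue_of_isProjQMapOn (v : ((_root_.RelProj.domQ u p' chart' : P'.Opens) : Scheme.{u}) ⟶ P)
    (hv : _root_.RelProj.IsProjQMapOn u p chart p' chart' (_root_.RelProj.domQ u p' chart') v)
    (t : AffPair ψ) : cW u p' chart' t ≫ v = pieceW u p chart t := by
  refine ProjQ.hom_ext (φQ u t) _ _ fun d f hd hf => ?_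
  have hW := _root_.RelProj.range_awayEmb_subset_domQ u p' chart' t.U t.hU t.U' t.hU' t.hle hd f hf
  have h1 := hv t.U t.hU t.U' t.hU' t.hle d hd f hf hW
  rw [lift_awayEmb u p' chart' t hd f hf hW, Category.assoc] at h1
  rw [h1]
  unfold pieceW
  rw [chartQ_vQ_assoc]

/-- morphisms out of `G(u)` are determined on the charts over the pairs -/
theorem hom_ext_W {Z : Scheme.{u}} (v w : ((_root_.RelProj.domQ u p' chart' : P'.Opens) : Scheme.{u}) ⟶ Z)
    (h : ∀ t : AffPair ψ, cW u p' chart' t ≫ v = cW u p' chart' t ≫ w) : v = w :=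
  (Glue.cov (fun t : AffPair ψ => ((D u t : (Proj (𝒮'.deg t.U' t.hU')).Opens) : Scheme.{u}))
    (fun t => cW u p' chart' t) (cover_W u p' chart')).hom_ext _ _ h

theorem strZero_comp (t : AffPair ψ) :
    𝒮.strZero t.U t.hU ≫ CommRingCat.ofHom (zeroHom (φQ u t)) =
      ψ.appLE t.U t.U' t.hle ≫ 𝒮'.strZero t.U' t.hU' := by
  ext r
  have := congrArg (fun k => k.hom r) (u.toQHom.str_appLE t.U t.U' t.hle)
  exact this

include hP hP' in
set_option backward.isDefEq.respectTransparency false in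
/-- the partial morphism `Proj(u)` lies over `ψ` -/
theorem glue_comp_p (v : ((_root_.RelProj.domQ u p' chart' : P'.Opens) : Scheme.{u}) ⟶ P)
    (hv : ∀ t : AffPair ψ, cW u p' chart' t ≫ v = pieceW u p chart t) :
    v ≫ p = (_root_.RelProj.domQ u p' chart').ι ≫ p' ≫ ψ := by
  refine hom_ext_W u p' chart' _ _ fun t => ?_
  rw [reassoc_of% (hv t), cW_ι_assoc]
  unfold pieceW
  rw [Category.assoc, ← RelProjBC.αP_ι 𝒮 p chart hP t.U t.hU,
    ← reassoc_of% (RelProjBC.αP_ι 𝒮' p' chart' hP' t.U' t.hU')]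
  unfold RelProjBC.αP
  simp only [Category.assoc, IsAffineOpen.isoSpec_inv_ι, IsAffineOpen.isoSpec_inv_ι_assoc]
  rw [vQ_toSpecZero_assoc, ← IsAffineOpen.SpecMap_appLE_fromSpec ψ t.hU t.hU' t.hle,
    ← Spec.map_comp_assoc, ← Spec.map_comp_assoc, strZero_comp]

end glue

section general
variable {Y Y' : Scheme.{u}} {ψ : Y' ⟶ Y} {𝒮 : _root_.RelProj.QCGrAlg Y} {𝒮' : _root_.RelProj.QCGrAlg Y'}
  (u : _root_.RelProj.QGrHom ψ 𝒮 𝒮')
variable {P P' : Scheme.{u}} (p : P ⟶ Y)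
  (chart : ∀ (U : Y.Opens) (hU : IsAffineOpen U), (((p ⁻¹ᵁ U : P.Opens) : Scheme.{u}) ≅ Proj (𝒮.deg U hU)))
  (hP : _root_.RelProj.IsRelProj 𝒮 p chart) (p' : P' ⟶ Y')
  (chart' : ∀ (U' : Y'.Opens) (hU' : IsAffineOpen U'), (((p' ⁻¹ᵁ U' : P'.Opens) : Scheme.{u}) ≅ Proj (𝒮'.deg U' hU')))
  (hP' : _root_.RelProj.IsRelProj 𝒮' p' chart')

include hP' in
/-- the part of `G(u)` over `s.U'` is the chart image of the open of definition of the pair `s` -/
theorem domQ_inf_preimage (s : AffPair ψ) :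
    _root_.RelProj.domQ u p' chart' ⊓ p' ⁻¹ᵁ s.U' =
      (_root_.RelProj.emb p' chart' s.U' s.hU') ''ᵁ D u s := by
  ext z
  constructor
  · rintro ⟨hz, hzs⟩
    obtain ⟨y, hy, hyz⟩ := exists_of_mem_domQ_of_mem u p' chart' hP' z hz s hzs
    exact ⟨y, hy, hyz⟩
  · rintro ⟨y, hy, rfl⟩
    exact ⟨emb_mem_domQ u p' chart' s y hy, (mem_range_emb p' chart' s.U' s.hU' _).1 ⟨y, rfl⟩⟩

include hP' in
theorem mem_range_cW_iff (s : AffPair ψ)
    (z : ((_root_.RelProj.domQ u p' chart' : P'.Opens) : Scheme.{u})) :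
    z ∈ Set.range (cW u p' chart' s) ↔ p' ((_root_.RelProj.domQ u p' chart').ι z) ∈ s.U' := by
  constructor
  · rintro ⟨x, rfl⟩
    rw [cW_apply]
    exact (mem_range_emb p' chart' s.U' s.hU' _).1 ⟨_, rfl⟩
  · intro hz
    obtain ⟨y, hy, hyz⟩ := exists_of_mem_domQ_of_mem u p' chart' hP' _ z.2 s hz
    exact mem_range_cW u p' chart' s z y hy hyz

include hP hP' in
set_option backward.isDefEq.respectTransparency false in
/-- over a pair with `U' = ψ⁻¹ U` the partial morphism is the pullback of the ring-level one -/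
theorem isPullback_cW (v : ((_root_.RelProj.domQ u p' chart' : P'.Opens) : Scheme.{u}) ⟶ P)
    (hv : ∀ t : AffPair ψ, cW u p' chart' t ≫ v = pieceW u p chart t)
    (s : AffPair ψ) (hs : s.U' = ψ ⁻¹ᵁ s.U) :
    IsPullback (vQ (φQ u s) ≫ (chart s.U s.hU).inv) (cW u p' chart' s) (p ⁻¹ᵁ s.U).ι v := by
  refine IsOpenImmersion.isPullback _ _ _ _ ?_ ?_
  · rw [hv s, Category.assoc]; rfl
  · rw [Scheme.Opens.opensRange_ι]
    ext z
    change p (v z) ∈ s.U ↔ z ∈ Set.range (cW u p' chart' s)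
    rw [mem_range_cW_iff u p' chart' hP' s z, ← Scheme.Hom.comp_apply,
      glue_comp_p u p chart hP p' chart' hP' v hv, hs]
    rfl

end general

section identity
variable {Y : Scheme.{u}} {𝒜 ℬ : _root_.RelProj.QCGrAlg Y}
  (u : _root_.RelProj.QGrHom (𝟙 Y) 𝒜 ℬ)
variable {PA PB : Scheme.{u}} (pA : PA ⟶ Y)
  (chartA : ∀ (U : Y.Opens) (hU : IsAffineOpen U), (((pA ⁻¹ᵁ U : PA.Opens) : Scheme.{u}) ≅ Proj (𝒜.deg U hU)))
  (hA : _root_.RelProj.IsRelProj 𝒜 pA chartA) (pB : PB ⟶ Y)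
  (chartB : ∀ (U : Y.Opens) (hU : IsAffineOpen U), (((pB ⁻¹ᵁ U : PB.Opens) : Scheme.{u}) ≅ Proj (ℬ.deg U hU)))
  (hB : _root_.RelProj.IsRelProj ℬ pB chartB)

/-- the diagonal pair of an affine open -/
def pairId (U : Y.Opens) (hU : IsAffineOpen U) : AffPair (𝟙 Y) := ⟨U, hU, U, hU, le_rfl⟩

include hA hB in
set_option backward.isDefEq.respectTransparency false in
/-- a target-local property holds for the partial morphism over the identity as soon as it holds
for the ring-level partial morphisms over all affine opens -/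
theorem of_chartwise (Pr : MorphismProperty Scheme.{u}) [IsZariskiLocalAtTarget Pr]
    (v : ((_root_.RelProj.domQ u pB chartB : PB.Opens) : Scheme.{u}) ⟶ PA)
    (hv : ∀ t : AffPair (𝟙 Y), cW u pB chartB t ≫ v = pieceW u pA chartA t)
    (H : ∀ (U : Y.Opens) (hU : IsAffineOpen U), Pr (vQ (φQ u (pairId U hU)))) : Pr v := by
  have hcov : IsOpenCover (fun U : Y.affineOpens => pA ⁻¹ᵁ U.1) := by
    rw [IsOpenCover, eq_top_iff]
    intro x _
    have hx : pA x ∈ (⊤ : Y.Opens) := trivial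
    rw [← iSup_affineOpens_eq_top Y] at hx
    obtain ⟨U, hxU⟩ := Opens.mem_iSup.1 hx
    exact Opens.mem_iSup.2 ⟨U, hxU⟩
  refine ProjMap.of_isPullback_openCover Pr v (PA.openCoverOfIsOpenCover _ hcov)
    (fun U => ((D u (pairId U.1 U.2) : (Proj (ℬ.deg U.1 U.2)).Opens) : Scheme.{u}))
    (fun U => cW u pB chartB (pairId U.1 U.2))
    (fun U => vQ (φQ u (pairId U.1 U.2)) ≫ (chartA U.1 U.2).inv)
    (fun U => isPullback_cW u pA chartA hA pB chartB hB v hv (pairId U.1 U.2) rfl) (fun U => ?_)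
  rw [Pr.cancel_right_of_respectsIso]
  exact H U.1 U.2

theorem domQ_eq_top_of_forall (H : ∀ (U : Y.Opens) (hU : IsAffineOpen U), D u (pairId U hU) = ⊤) :
    _root_.RelProj.domQ u pB chartB = ⊤ := by
  rw [eq_top_iff]
  intro z _
  obtain ⟨U, hU, hzU, -⟩ := Opens.isBasis_iff_nbhd.1 Y.isBasis_affineOpens
    (show pB z ∈ (⊤ : Y.Opens) from trivial)
  obtain ⟨x, rfl⟩ := (mem_range_emb pB chartB U hU z).2 hzU
  refine emb_mem_domQ u pB chartB (pairId U hU) x ?_
  rw [H U hU]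
  trivial

set_option backward.isDefEq.respectTransparency false in
/-- an everywhere defined `Proj(u)` restricts to the partial morphism on `G(u)` -/
theorem glue_of_isProjQMap (h : PB ⟶ PA)
    (hh : _root_.RelProj.IsProjQMap u pA chartA pB chartB h) (t : AffPair (𝟙 Y)) :
    cW u pB chartB t ≫ (_root_.RelProj.domQ u pB chartB).ι ≫ h = pieceW u pA chartA t := by
  refine glue_of_isProjQMapOn u pA chartA pB chartB _ ?_ t
  intro U hU U' hU' hle d hd f hf hW
  rw [IsOpenImmersion.lift_fac_assoc]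
  exact hh.2 U hU U' hU' hle d hd f hf

include hA hB in
set_option backward.isDefEq.respectTransparency false in
/-- target-local, iso-invariant properties of an everywhere defined `Proj(u)`, chartwise -/
theorem of_chartwise_total (Pr : MorphismProperty Scheme.{u}) [IsZariskiLocalAtTarget Pr]
    (h : PB ⟶ PA) (hh : _root_.RelProj.IsProjQMap u pA chartA pB chartB h)
    (H : ∀ (U : Y.Opens) (hU : IsAffineOpen U), Pr (vQ (φQ u (pairId U hU)))) : Pr h := by
  have h1 : Pr ((_root_.RelProj.domQ u pB chartB).ι ≫ h) :=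
    of_chartwise u pA chartA hA pB chartB hB Pr _
      (glue_of_isProjQMap u pA chartA pB chartB h hh) H
  have hiso : IsIso (_root_.RelProj.domQ u pB chartB).ι := by
    rw [hh.1]; exact (Scheme.topIso PB).isIso_hom
  exact (Pr.cancel_left_of_respectsIso _ _).1 h1

end identity


section ofHom
variable {Y : Scheme.{u}} (𝒜 ℬ : _root_.RelProj.QCGrAlg Y)
    (φ : 𝒜.toQCAlg ⟶ ℬ.toQCAlg) (hφ : _root_.RelProj.IsGradedHom φ)

theorem φQ_ofHom (U : Y.Opens) (hU : IsAffineOpen U) :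
    φQ (_root_.RelProj.QGrHom.ofHom φ hφ) (pairId U hU) = _root_.RelProj.gradedHomAt φ hφ U hU := by
  have h1 : ℬ.presheaf.map (homOfLE (le_refl U)).op = 𝟙 _ := by
    rw [show homOfLE (le_refl U) = 𝟙 U from rfl, op_id, CategoryTheory.Functor.map_id]
  apply DFunLike.ext
  intro x
  change (ℬ.presheaf.map (homOfLE (le_refl U)).op).hom ((φ.hom.app (op U)).hom x) =
    (φ.hom.app (op U)).hom x
  rw [h1]
  rfl

theorem tnSurj_ofHom
    (hTN : ∃ n : ℕ, ∀ k, n ≤ k → ∀ (U : Y.Opens) (hU : IsAffineOpen U), ∀ y ∈ ℬ.deg U hU k,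
      ∃ x ∈ 𝒜.deg U hU k, (φ.hom.app (op U)).hom x = y) (U : Y.Opens) (hU : IsAffineOpen U) :
    TNSurj (φQ (_root_.RelProj.QGrHom.ofHom φ hφ) (pairId U hU)) := by
  rw [φQ_ofHom]
  obtain ⟨n, hn⟩ := hTN
  exact ⟨n, fun k hk y hy => hn k hk U hU y hy⟩

theorem tnInj_ofHom
    (hTN : ∃ n : ℕ, ∀ k, n ≤ k → ∀ (U : Y.Opens) (hU : IsAffineOpen U),
      ∀ x ∈ 𝒜.deg U hU k, (φ.hom.app (op U)).hom x = 0 → x = 0) (U : Y.Opens) (hU : IsAffineOpen U) :
    TNInj (φQ (_root_.RelProj.QGrHom.ofHom φ hφ) (pairId U hU)) := by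
  rw [φQ_ofHom]
  obtain ⟨n, hn⟩ := hTN
  exact ⟨n, fun k hk x hx => hn k hk U hU x hx⟩

end ofHom

section chi
variable {Y Y' : Scheme.{u}} {ψ : Y' ⟶ Y} {𝒮 : _root_.RelProj.QCGrAlg Y} {𝒮' : _root_.RelProj.QCGrAlg Y'}
  (u : _root_.RelProj.QGrHom ψ 𝒮 𝒮')
variable {P P' : Scheme.{u}} (p : P ⟶ Y)
  (chart : ∀ (U : Y.Opens) (hU : IsAffineOpen U), (((p ⁻¹ᵁ U : P.Opens) : Scheme.{u}) ≅ Proj (𝒮.deg U hU)))
  (p' : P' ⟶ Y')
  (chart' : ∀ (U' : Y'.Opens) (hU' : IsAffineOpen U'), (((p' ⁻¹ᵁ U' : P'.Opens) : Scheme.{u}) ≅ Proj (𝒮'.deg U' hU')))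

set_option backward.isDefEq.respectTransparency false in
/-- the chart equation of a glued morphism, for an arbitrary presentation `χ` of `φQ u t` -/
theorem glue_chart (v : ((_root_.RelProj.domQ u p' chart' : P'.Opens) : Scheme.{u}) ⟶ P)
    (hv : ∀ t : AffPair ψ, cW u p' chart' t ≫ v = pieceW u p chart t) (t : AffPair ψ)
    (χ : 𝒮.deg t.U t.hU →+*ᵍ 𝒮'.deg t.U' t.hU') (h : φQ u t = χ)
    (c : ((RelCone.domOpen χ : (Proj (𝒮'.deg t.U' t.hU')).Opens) : Scheme.{u}) ⟶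
      ((_root_.RelProj.domQ u p' chart' : P'.Opens) : Scheme.{u}))
    (hc : c ≫ (_root_.RelProj.domQ u p' chart').ι =
      (RelCone.domOpen χ).ι ≫ _root_.RelProj.emb p' chart' t.U' t.hU') :
    c ≫ v = vQ χ ≫ _root_.RelProj.emb p chart t.U t.hU := by
  subst h
  have : c = cW u p' chart' t := by
    rw [← cancel_mono (_root_.RelProj.domQ u p' chart').ι, hc, cW_ι]
  rw [this, hv t]
  rfl

set_option backward.isDefEq.respectTransparency false in
/-- the standard-chart equation of a glued morphism, for an arbitrary presentation `χ` -/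
theorem glue_awayChart (v : ((_root_.RelProj.domQ u p' chart' : P'.Opens) : Scheme.{u}) ⟶ P)
    (hv : ∀ t : AffPair ψ, cW u p' chart' t ≫ v = pieceW u p chart t) (t : AffPair ψ)
    (χ : 𝒮.deg t.U t.hU →+*ᵍ 𝒮'.deg t.U' t.hU') (h : φQ u t = χ)
    {d : ℕ} (hd : 0 < d) (f : 𝒮.presheaf.obj (op t.U)) (hf : f ∈ 𝒮.deg t.U t.hU d)
    (g : Spec (CommRingCat.of (Away (𝒮'.deg t.U' t.hU') (χ f))) ⟶
      ((_root_.RelProj.domQ u p' chart' : P'.Opens) : Scheme.{u}))
    (hg : g ≫ (_root_.RelProj.domQ u p' chart').ι =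
      Proj.awayι (𝒮'.deg t.U' t.hU') (χ f) (χ.2 hf) hd ≫ _root_.RelProj.emb p' chart' t.U' t.hU') :
    g ≫ v = Spec.map (CommRingCat.ofHom (Away.map χ f)) ≫ Proj.awayι (𝒮.deg t.U t.hU) f hf hd ≫
      _root_.RelProj.emb p chart t.U t.hU := by
  subst h
  have : g = chartQ (φQ u t) hf hd ≫ cW u p' chart' t := by
    rw [← cancel_mono (_root_.RelProj.domQ u p' chart').ι, hg, Category.assoc, cW_ι,
      chartQ_ι_assoc]
  rw [this, Category.assoc, hv t]
  unfold pieceW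
  rw [chartQ_vQ_assoc]

end chi

section diag
variable {Y : Scheme.{u}} {𝒜 ℬ : _root_.RelProj.QCGrAlg Y}
  (u : _root_.RelProj.QGrHom (𝟙 Y) 𝒜 ℬ)
variable {PA PB : Scheme.{u}} (pA : PA ⟶ Y)
  (chartA : ∀ (U : Y.Opens) (hU : IsAffineOpen U), (((pA ⁻¹ᵁ U : PA.Opens) : Scheme.{u}) ≅ Proj (𝒜.deg U hU)))
  (hA : _root_.RelProj.IsRelProj 𝒜 pA chartA) (pB : PB ⟶ Y)
  (chartB : ∀ (U : Y.Opens) (hU : IsAffineOpen U), (((pB ⁻¹ᵁ U : PB.Opens) : Scheme.{u}) ≅ Proj (ℬ.deg U hU)))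
  (hB : _root_.RelProj.IsRelProj ℬ pB chartB)

include hB in
theorem cover_W_diag (z : ((_root_.RelProj.domQ u pB chartB : PB.Opens) : Scheme.{u})) :
    ∃ U : Y.affineOpens, z ∈ Set.range (cW u pB chartB (pairId U.1 U.2)) := by
  obtain ⟨U, hU, hzU, -⟩ := Opens.isBasis_iff_nbhd.1 Y.isBasis_affineOpens
    (show pB ((_root_.RelProj.domQ u pB chartB).ι z) ∈ (⊤ : Y.Opens) from trivial)
  exact ⟨⟨U, hU⟩, (mem_range_cW_iff u pB chartB hB (pairId U hU) z).2 hzU⟩

include hB in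
set_option backward.isDefEq.respectTransparency false in
/-- morphisms out of `G(u)` are determined on the diagonal charts -/
theorem hom_ext_W_diag {Z : Scheme.{u}}
    (v w : ((_root_.RelProj.domQ u pB chartB : PB.Opens) : Scheme.{u}) ⟶ Z)
    (h : ∀ (U : Y.Opens) (hU : IsAffineOpen U),
      cW u pB chartB (pairId U hU) ≫ v = cW u pB chartB (pairId U hU) ≫ w) : v = w := by
  let Wf : Y.affineOpens → Scheme.{u} := fun U =>
    ((D u (pairId U.1 U.2) : (Proj (ℬ.deg U.1 U.2)).Opens) : Scheme.{u})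
  let cf : ∀ U : Y.affineOpens, Wf U ⟶ ((_root_.RelProj.domQ u pB chartB : PB.Opens) : Scheme.{u}) :=
    fun U => cW u pB chartB (pairId U.1 U.2)
  have : ∀ U, IsOpenImmersion (cf U) := fun U => cW_isOpenImmersion u pB chartB (pairId U.1 U.2)
  refine (Glue.cov Wf cf (cover_W_diag u pB chartB hB)).hom_ext _ _ fun (U : Y.affineOpens) => ?_
  exact h U.1 U.2

include hA hB in
set_option backward.isDefEq.respectTransparency false in
/-- a morphism satisfying the standard-chart equations on the diagonal pairs (for a presentation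
`χ` of the graded homomorphisms) is the glued one -/
theorem glue_of_diag (r' : ((_root_.RelProj.domQ u pB chartB : PB.Opens) : Scheme.{u}) ⟶ PA)
    (χ : ∀ (U : Y.Opens) (hU : IsAffineOpen U), 𝒜.deg U hU →+*ᵍ ℬ.deg U hU)
    (hχ : ∀ (U : Y.Opens) (hU : IsAffineOpen U), φQ u (pairId U hU) = χ U hU)
    (H : ∀ (U : Y.Opens) (hU : IsAffineOpen U) (d : ℕ) (hd : 0 < d) (f : 𝒜.presheaf.obj (op U))
      (hf : f ∈ 𝒜.deg U hU d)
      (g : Spec (CommRingCat.of (Away (ℬ.deg U hU) (χ U hU f))) ⟶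
        ((_root_.RelProj.domQ u pB chartB : PB.Opens) : Scheme.{u})),
      g ≫ (_root_.RelProj.domQ u pB chartB).ι =
          Proj.awayι (ℬ.deg U hU) (χ U hU f) ((χ U hU).2 hf) hd ≫ _root_.RelProj.emb pB chartB U hU →
        g ≫ r' = Spec.map (CommRingCat.ofHom (Away.map (χ U hU) f)) ≫
          Proj.awayι (𝒜.deg U hU) f hf hd ≫ _root_.RelProj.emb pA chartA U hU) :
    ∀ t : AffPair (𝟙 Y), cW u pB chartB t ≫ r' = pieceW u pA chartA t := by
  obtain rfl : χ = fun U hU => φQ u (pairId U hU) := by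
    funext U hU; exact (hχ U hU).symm
  obtain ⟨v, hv, -⟩ := existsUnique_glueW u pA chartA hA pB chartB hB
  have : r' = v := by
    refine hom_ext_W_diag u pB chartB hB _ _ fun U hU => ?_
    rw [hv (pairId U hU)]
    refine ProjQ.hom_ext (φQ u (pairId U hU)) _ _ fun d f hd hf => ?_
    have h1 := H U hU d hd f hf (chartQ (φQ u (pairId U hU)) hf hd ≫ cW u pB chartB (pairId U hU))
      (by rw [Category.assoc, cW_ι, chartQ_ι_assoc]; rfl)
    rw [Category.assoc] at h1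
    rw [h1]
    unfold pieceW
    rw [chartQ_vQ_assoc]
    rfl
  rw [this]
  exact hv

end diag

end Groth.Agent.Lib.Helper28.ProjQRel
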