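import Groth.Agent.Lib.Helper28.PEPull
import Groth.Agent.Lib.Helper28.ProjQRel

set_option autoImplicit false
universe u
open CategoryTheory CategoryTheory.Limits AlgebraicGeometry Opposite TopologicalSpace
open HomogeneousLocalization
open scoped HomogeneousIdeal
noncomputable section

namespace Groth.Agent.Lib.Helper28.RLPsiV

open Groth.Agent.Lib.Helper28 Groth.Agent.Lib.Helper28.QCohLoc Groth.Agent.Lib.Helper28.TraceAlg
open Groth.Agent.Lib.Helper28.GenLocus Groth.Agent.Lib.Helper28.SymAlg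
open Groth.Agent.Lib.Helper28.RLPsi Groth.Agent.Lib.Helper28.RelTwistVal Groth.Agent.Lib.Helper28.RLPsiU
open Groth.Agent.Lib.Helper28.PullbackInv Groth.Agent.Lib.Helper28.TensorGen
open Groth.Agent.Lib.Helper28.RelProjBC (AffPair)
open Groth.Agent.Lib.Helper28.RelProjQ (φQ gradedAt_res)

section cov

variable {Y Y' P' : Scheme.{u}} {ψ : Y' ⟶ Y} {E : Y.Modules} [E.IsQuasicoherent]
  {𝒮 : RelProj.QCGrAlg Y} {j : E ⟶ 𝒮.toModule} (hS : RelProj.IsGrSymAlg E 𝒮 j)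
  {𝒮' : RelProj.QCGrAlg Y'} (u : RelProj.QGrHom ψ 𝒮 𝒮')
  {p' : P' ⟶ Y'}
  {chart' : ∀ (U' : Y'.Opens) (hU' : IsAffineOpen U'), (((p' ⁻¹ᵁ U' : P'.Opens) : Scheme.{u}) ≅ Proj (𝒮'.deg U' hU'))}

include hS in
/-- when the source is a graded symmetric algebra, the images of the degree-one generators define a covering of
the open of definition of `Proj(u)`. -/
theorem exists_deg_one_of_mem_domQ (z' : P') (hz : z' ∈ RelProj.domQ u p' chart') :
    ∃ (t : AffPair ψ) (F : 𝒮.presheaf.obj (op t.U)) (_ : F ∈ 𝒮.deg t.U t.hU 1),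
      z' ∈ WPU p' chart' t.hU' (φQ u t F) := by
  obtain ⟨t, x, hx, rfl⟩ := ProjQRel.exists_of_mem_domQ u p' chart' z' hz
  obtain ⟨d, hd, f, hf, hfx⟩ := (ProjQ.mem_dom_iff _ x).1 hx
  suffices hex : ∃ e : Γ(E, t.U), φQ u t (asR 𝒮.toQCAlg (j.app t.U e)) ∉ x.asHomogeneousIdeal by
    obtain ⟨e, he⟩ := hex
    exact ⟨t, asR 𝒮.toQCAlg (j.app t.U e), hS.2 t.U t.hU e, (mem_WPU_iff t.hU' _ x).2 he⟩
  by_contra hcon
  push Not at hcon
  have hf' := deg_le_monoGrp hS t.U t.hU d hf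
  apply hfx
  show φQ u t f ∈ x.asHomogeneousIdeal.toIdeal
  refine AddSubgroup.closure_induction (p := fun y _ => φQ u t y ∈ x.asHomogeneousIdeal.toIdeal)
    (fun y hy => ?_) ?_ (fun y y' _ _ hy hy' => ?_) (fun y _ hy => ?_) hf'
  · obtain ⟨a, l, hl, rfl⟩ := hy
    rw [map_mul]
    apply Ideal.mul_mem_left
    cases l with
    | nil => exact absurd hl (by simpa using hd.ne)
    | cons m l =>
      rw [List.map_cons, List.prod_cons, map_mul]
      exact Ideal.mul_mem_right _ _ (hcon m)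
  · rw [map_zero]
    exact Ideal.zero_mem _
  · rw [map_add]
    exact Ideal.add_mem _ hy hy'
  · rw [map_neg]
    exact neg_mem hy

end cov

section cor

variable {Y Y' P P' : Scheme.{u}} {ψ : Y' ⟶ Y} {E : Y.Modules} [E.IsQuasicoherent]
  {𝒮 : RelProj.QCGrAlg Y} {j : E ⟶ 𝒮.toModule} (hS : RelProj.IsGrSymAlg E 𝒮 j)
  {𝒮' : RelProj.QCGrAlg Y'} (u : RelProj.QGrHom ψ 𝒮 𝒮')
  {p : P ⟶ Y} {chart : ∀ (U : Y.Opens) (hU : IsAffineOpen U), (((p ⁻¹ᵁ U : P.Opens) : Scheme.{u}) ≅ Proj (𝒮.deg U hU))}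
  (hP : RelProj.IsRelProj 𝒮 p chart)
  {p' : P' ⟶ Y'}
  {chart' : ∀ (U' : Y'.Opens) (hU' : IsAffineOpen U'), (((p' ⁻¹ᵁ U' : P'.Opens) : Scheme.{u}) ≅ Proj (𝒮'.deg U' hU'))}
  (hP' : RelProj.IsRelProj 𝒮' p' chart')
  {O1 : P.Modules}
  {lam : ∀ (U : Y.Opens) (hU : IsAffineOpen U),
    O1 ⟶ (Scheme.Modules.pushforward (RelProj.emb p chart U hU)).obj (GrTwist.twist (𝒮.deg U hU) ((1 : ℕ) : ℤ))}
  (hO : RelProj.IsRelTwist 𝒮 p chart ((1 : ℕ) : ℤ) O1 lam)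
  {O1' : P'.Modules}
  {lam' : ∀ (U' : Y'.Opens) (hU' : IsAffineOpen U'),
    O1' ⟶ (Scheme.Modules.pushforward (RelProj.emb p' chart' U' hU')).obj
      (GrTwist.twist (𝒮'.deg U' hU') ((1 : ℕ) : ℤ))}
  (hO' : RelProj.IsRelTwist 𝒮' p' chart' ((1 : ℕ) : ℤ) O1' lam')
  (h : P' ⟶ P)

include hS hP hP' hO hO' in
/-- **`Proj(u)^* O_{P(E)}(1) ≅ O_{P'}(1)`** for an everywhere defined `Proj(u)` out of a projective bundle. -/
theorem nonempty_pullback_iso_of_isGrSymAlg (hh : RelProj.IsProjQMap u p chart p' chart' h) :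
    Nonempty ((Scheme.Modules.pullback h).obj O1 ≅ O1') :=
  nonempty_pullback_iso_of_isProjQMap u hP hP' hO hO' h hh fun z' =>
    exists_deg_one_of_mem_domQ hS u z' (by rw [hh.1]; trivial)

end cor

end Groth.Agent.Lib.Helper28.RLPsiV
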