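import Groth.Agent.Lib.Helper28.RLPsiV4
import Groth.Agent.Lib.Helper28.VeryAmpleImm
import Groth.Agent.Lib.Helper28.ImgAlg5
import Groth.Agent.Lib.Helper28.RelProjGen1

/-!
# `O_{P(E)}(1)` is very ample (projective-space form) for `E` of finite type over an affine base
-/

set_option autoImplicit false
universe u
open CategoryTheory CategoryTheory.Limits AlgebraicGeometry Opposite TopologicalSpace
open scoped HomogeneousIdeal
noncomputable section

namespace Groth.Agent.Lib.Helper28.PnBundle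

open Groth.Agent.Lib.Helper28 Groth.Agent.Lib.Helper28.QCohLoc Groth.Agent.Lib.Helper28.TraceAlg
open Groth.Agent.Lib.Helper28.GenLocus Groth.Agent.Lib.Helper28.SymAlg
open Groth.Agent.Lib.Helper28.RLPsi Groth.Agent.Lib.Helper28.RelTwistVal Groth.Agent.Lib.Helper28.RLPsiU
open Groth.Agent.Lib.Helper28.RLPsiV

variable {Y P : Scheme.{u}} {E : Y.Modules} [E.IsQuasicoherent]
  {𝒮 : RelProj.QCGrAlg Y} {j : E ⟶ 𝒮.toModule} (hS : RelProj.IsGrSymAlg E 𝒮 j)
  {p : P ⟶ Y}
  {chart : ∀ (U : Y.Opens) (hU : IsAffineOpen U), (((p ⁻¹ᵁ U : P.Opens) : Scheme.{u}) ≅ Proj (𝒮.deg U hU))}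
  (hP : RelProj.IsRelProj 𝒮 p chart)
  {O1 : P.Modules}
  {lam : ∀ (U : Y.Opens) (hU : IsAffineOpen U),
    O1 ⟶ (Scheme.Modules.pushforward (RelProj.emb p chart U hU)).obj (GrTwist.twist (𝒮.deg U hU) ((1 : ℕ) : ℤ))}
  (hO : RelProj.IsRelTwist 𝒮 p chart ((1 : ℕ) : ℤ) O1 lam)
  (hT : IsAffineOpen (⊤ : Y.Opens))

/-- the degree-one element attached to a global section of `E` -/
abbrev aE (e : Γ(E, ⊤)) : 𝒮.presheaf.obj (op (⊤ : Y.Opens)) := asR 𝒮.toQCAlg (j.app ⊤ e)

include hS in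
omit [E.IsQuasicoherent] in
theorem aE_mem (e : Γ(E, ⊤)) : aE (j := j) e ∈ 𝒮.deg ⊤ hT 1 := hS.2 ⊤ hT e

/-- the global section of `O_P(1)` attached to a global section of `E` -/
def σE (e : Γ(E, ⊤)) : Γ(O1, ⊤) := sig hO hT (aE (j := j) e) (aE_mem hS hT e)

/-- the corresponding morphism `O_P ⟶ O_P(1)` -/
def sE (e : Γ(E, ⊤)) : Coh.structureModule P ⟶ O1 := TwistGen.ofSection O1 (σE hS hO hT e)

theorem secOf_sE (e : Γ(E, ⊤)) : secOf (sE hS hO hT e) = σE hS hO hT e := secOf_ofSection _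

include hS in
/-- the standard opens of the global sections of `E` cover `P` -/
theorem exists_mem_WPU (x : P) : ∃ e : Γ(E, ⊤), x ∈ WPU p chart hT (aE (j := j) e) := by
  obtain ⟨y, rfl⟩ := (RelProjQ.mem_range_emb p chart ⊤ hT x).2 trivial
  obtain ⟨e, he⟩ := exists_deg_one_not_mem hS hT y
  exact ⟨e, (mem_WPU_iff hT _ y).2 he⟩

include hS in
/-- the locus where `σ_e` generates `O_P(1)` is `D₊(e)` -/
theorem genLocus_sE (e : Γ(E, ⊤)) :
    CohB1.genLocus O1 (sE hS hO hT e) = WPU p chart hT (aE (j := j) e) := by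
  ext x
  obtain ⟨e', hx'⟩ := exists_mem_WPU hS hT (p := p) (chart := chart) x
  obtain ⟨c, hc, hcoef⟩ := exists_coef hO hT (aE (j := j) e') (aE_mem hS hT e') (aE (j := j) e) (aE_mem hS hT e)
  have hgen := isGen_sig hO hT (aE (j := j) e') (aE_mem hS hT e')
  have h1 := GenLocus.genLocus_inf_eq (sE hS hO hT e) (WPU p chart hT (aE (j := j) e')) _ hgen c
    (by rw [secOf_sE]; exact hcoef)
  obtain ⟨y, rfl⟩ := (RelProjQ.mem_range_emb p chart ⊤ hT x).2 trivial
  have h2 : (RelProj.emb p chart ⊤ hT).base y ∈ CohB1.genLocus O1 (sE hS hO hT e) ↔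
      (RelProj.emb p chart ⊤ hT).base y ∈ P.basicOpen c := by
    rw [← h1]
    exact ⟨fun h => ⟨h, hx'⟩, fun h => h.1⟩
  show (RelProj.emb p chart ⊤ hT).base y ∈ CohB1.genLocus O1 (sE hS hO hT e) ↔ _
  rw [h2, hc.mem_basicOpen_iff le_rfl y hx']
  exact (mem_WPU_iff hT _ y).symm

section gen

variable {N : ℕ} (m : Fin (N + 1) → Γ(E, ⊤)) (hm : Submodule.span Γ(Y, ⊤) (Set.range m) = ⊤)
  (a : Fin (N + 1))

/-- the ratio functions and the functions from the base, on an open `W` of `P` -/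
def T (W : P.Opens) : Set Γ(P, W) :=
  {c | ∃ k, res O1 (le_top : W ≤ ⊤) (σE hS hO hT (m k)) =
      (c • res O1 (le_top : W ≤ ⊤) (σE hS hO hT (m a)) : Γ(O1, W))} ∪
    Set.range (p.appLE ⊤ W le_top)

include hP hm in
theorem exists_reads_one (e : Γ(E, ⊤)) :
    ∃ c ∈ Subring.closure (T hS hO hT m a (WPU p chart hT (aE (j := j) (m a)))),
      ReadsO p chart hT c (aE (j := j) e) (aE (j := j) (m a)) := by
  have he : e ∈ Submodule.span Γ(Y, ⊤) (Set.range m) := by rw [hm]; trivial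
  refine Submodule.span_induction (p := fun e _ =>
    ∃ c ∈ Subring.closure (T hS hO hT m a (WPU p chart hT (aE (j := j) (m a)))),
      ReadsO p chart hT c (aE (j := j) e) (aE (j := j) (m a))) ?_ ?_ ?_ ?_ he
  · rintro _ ⟨k, rfl⟩
    obtain ⟨c, hc, hcoef⟩ := exists_coef hO hT (aE (j := j) (m a)) (aE_mem hS hT (m a))
      (aE (j := j) (m k)) (aE_mem hS hT (m k))
    exact ⟨c, Subring.subset_closure (Or.inl ⟨k, hcoef⟩), hc⟩
  · refine ⟨0, Subring.zero_mem _, ?_⟩
    have h0 : aE (j := j) (0 : Γ(E, ⊤)) = 0 := by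
      show asR 𝒮.toQCAlg (j.app ⊤ 0) = 0
      rw [map_zero]
      rfl
    rw [h0]
    exact ReadsO.zero _
  · rintro e e' _ _ ⟨c, hc, hr⟩ ⟨c', hc', hr'⟩
    refine ⟨c + c', Subring.add_mem _ hc hc', ?_⟩
    have h0 : aE (j := j) (e + e') = aE (j := j) e + aE (j := j) e' := by
      show asR 𝒮.toQCAlg (j.app ⊤ (e + e')) = _
      rw [map_add]
      rfl
    rw [h0]
    exact hr.add hr'
  · rintro r e _ ⟨c, hc, hr⟩
    refine ⟨p.appLE ⊤ (WPU p chart hT (aE (j := j) (m a))) le_top r * c,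
      Subring.mul_mem _ (Subring.subset_closure (Or.inr ⟨r, rfl⟩)) hc, ?_⟩
    have h0 : aE (j := j) (r • e) = (𝒮.str.app (op ⊤)).hom r * aE (j := j) e := ImgAlg.jE_smul ⊤ r e
    rw [h0]
    have h1 := (ReadsO.base hP (hU := hT) (WPU_le hT (aE (j := j) (m a))) r).mul hr
    rwa [one_mul] at h1

include hP hm in
theorem exists_reads_list (l : List Γ(E, ⊤)) :
    ∃ c ∈ Subring.closure (T hS hO hT m a (WPU p chart hT (aE (j := j) (m a)))),
      ReadsO p chart hT c (l.map (fun e => aE (j := j) e)).prod (aE (j := j) (m a) ^ l.length) := by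
  induction l with
  | nil =>
    refine ⟨1, Subring.one_mem _, ?_⟩
    rw [List.map_nil, List.prod_nil, List.length_nil, pow_zero]
    exact ReadsO.one
  | cons e l ih =>
    obtain ⟨c, hc, hr⟩ := exists_reads_one hS hP hO hT m hm a e
    obtain ⟨c', hc', hr'⟩ := ih
    refine ⟨c * c', Subring.mul_mem _ hc hc', ?_⟩
    rw [List.map_cons, List.prod_cons, List.length_cons, pow_succ']
    exact hr.mul hr'

include hP hm in
theorem exists_reads_deg (n : ℕ) (G : 𝒮.presheaf.obj (op (⊤ : Y.Opens))) (hG : G ∈ monoGrp 𝒮 j ⊤ n) :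
    ∃ c ∈ Subring.closure (T hS hO hT m a (WPU p chart hT (aE (j := j) (m a)))),
      ReadsO p chart hT c G (aE (j := j) (m a) ^ n) := by
  refine AddSubgroup.closure_induction (p := fun G _ =>
    ∃ c ∈ Subring.closure (T hS hO hT m a (WPU p chart hT (aE (j := j) (m a)))),
      ReadsO p chart hT c G (aE (j := j) (m a) ^ n)) ?_ ?_ ?_ ?_ hG
  · rintro _ ⟨r, l, hl, rfl⟩
    obtain ⟨c, hc, hr⟩ := exists_reads_list hS hP hO hT m hm a l
    refine ⟨p.appLE ⊤ (WPU p chart hT (aE (j := j) (m a))) le_top r * c,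
      Subring.mul_mem _ (Subring.subset_closure (Or.inr ⟨r, rfl⟩)) hc, ?_⟩
    have h1 := (ReadsO.base hP (hU := hT) (WPU_le hT (aE (j := j) (m a))) r).mul hr
    rw [one_mul, hl] at h1
    exact h1
  · exact ⟨0, Subring.zero_mem _, ReadsO.zero _⟩
  · rintro G G' _ _ ⟨c, hc, hr⟩ ⟨c', hc', hr'⟩
    exact ⟨c + c', Subring.add_mem _ hc hc', hr.add hr'⟩
  · rintro G _ ⟨c, hc, hr⟩
    exact ⟨-c, Subring.neg_mem _ hc, hr.neg⟩

include hP hm in
/-- every function on `D₊(m_a)` is a polynomial in the ratios `m_k / m_a` with coefficients from the base -/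
theorem mem_closure_T (z : Γ(P, WPU p chart hT (aE (j := j) (m a)))) :
    z ∈ Subring.closure (T hS hO hT m a (WPU p chart hT (aE (j := j) (m a)))) := by
  obtain ⟨n, hn, G, hG, hz⟩ := exists_readsO_of_fn hT one_pos (aE (j := j) (m a)) (aE_mem hS hT (m a)) z
  have hG' := deg_le_monoGrp hS ⊤ hT (n * 1) hG
  rw [mul_one] at hG'
  obtain ⟨c, hc, hr⟩ := exists_reads_deg hS hP hO hT m hm a n G hG'
  have : z = c := ReadsO.unique (WPU_le_pow hT _ n) hz hr
  rw [this]
  exact hc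

include hP hm in
theorem mem_closure_T' (W : P.Opens) (hW : W = WPU p chart hT (aE (j := j) (m a))) (z : Γ(P, W)) :
    z ∈ Subring.closure (T hS hO hT m a W) := by
  subst hW
  exact mem_closure_T hS hP hO hT m hm a z

end gen

section main

include hS hP hO in
/-- **`O_{P(E)}(1)` is very ample in the projective-space sense**, for `E` quasi-coherent of finite type
over an affine base -/
theorem isRelVeryAmplePn [IsAffine Y] [SheafOfModules.IsFiniteType.{u} (R := Y.ringCatSheaf) E] :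
    RelAmple.IsRelVeryAmplePn p O1 := by
  classical
  have hT : IsAffineOpen (⊤ : Y.Opens) := isAffineOpen_top Y
  have hfin : Module.Finite Γ(Y, ⊤) Γ(E, ⊤) := FinType.finite_of_isAffineOpen E hT
  obtain ⟨G, hG⟩ := hfin.fg_top
  let m : Fin (G.card + 1) → Γ(E, ⊤) := Fin.cons 0 (fun i => ((G.equivFin.symm i : G) : Γ(E, ⊤)))
  have hm : Submodule.span Γ(Y, ⊤) (Set.range m) = ⊤ := by
    rw [eq_top_iff, ← hG]
    refine Submodule.span_mono ?_
    intro g hg
    refine ⟨Fin.succ (G.equivFin ⟨g, hg⟩), ?_⟩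
    show Fin.cons (α := fun _ => Γ(E, ⊤)) 0 (fun i => ((G.equivFin.symm i : G) : Γ(E, ⊤))) (Fin.succ (G.equivFin ⟨g, hg⟩)) = g
    rw [Fin.cons_succ, Equiv.symm_apply_apply]
  have hgen := ImgAlg.isGenDegOne_of_isGrSymAlg hS
  have hft := ImgAlg.isFTDeg_one_of_isGrSymAlg hS
  have hO' : RelProj.IsRelTwist 𝒮 p chart 1 O1 lam := hO
  have hM : PicF.IsInvertible O1 := (RelProjGen1.isInvertible_and_isRelAmple hgen hft hO').1
  refine VeryAmpleImm.isRelVeryAmplePn_of_sections p hM G.card (fun k => sE hS hO hT (m k)) Set.univ ?_ ?_ ?_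
  · intro x
    obtain ⟨y, rfl⟩ := (RelProjQ.mem_range_emb p chart ⊤ hT x).2 trivial
    by_contra hcon
    push_neg at hcon
    have hall : ∀ k, aE (j := j) (m k) ∈ y.asHomogeneousIdeal := by
      intro k
      by_contra hk
      apply hcon k (Set.mem_univ k)
      rw [genLocus_sE]
      exact (mem_WPU_iff hT _ y).2 hk
    obtain ⟨e, he⟩ := exists_deg_one_not_mem hS hT y
    apply he
    have hes : e ∈ Submodule.span Γ(Y, ⊤) (Set.range m) := by rw [hm]; trivial
    refine Submodule.span_induction (p := fun e _ => asR 𝒮.toQCAlg (j.app ⊤ e) ∈ y.asHomogeneousIdeal)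
      ?_ ?_ ?_ ?_ hes
    · rintro _ ⟨k, rfl⟩
      exact hall k
    · rw [map_zero]
      exact Ideal.zero_mem _
    · intro e e' _ _ h h'
      rw [map_add]
      exact Ideal.add_mem _ h h'
    · intro r e _ h
      rw [ImgAlg.jE_smul ⊤ r e]
      exact Ideal.mul_mem_left _ _ h
  · intro a _
    rw [genLocus_sE]
    exact (Proj.isAffineOpen_basicOpen _ _ (aE_mem hS hT (m a)) one_pos).image_of_isOpenImmersion _
  · intro a _ z
    have h := mem_closure_T' hS hP hO hT m hm a _ (genLocus_sE hS hO hT (m a)) z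
    simp only [secOf_sE]
    exact h

end main

end Groth.Agent.Lib.Helper28.PnBundle
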