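import Groth.Agent.Lib.Helper28.PnToVA2
import Groth.Agent.S3572

/-!
# `L ⊗ L'` is very ample (projective-space sense) over an affine base, for `L` very ample and `L'` generated by
finitely many global sections
-/

set_option autoImplicit false
universe u
open CategoryTheory CategoryTheory.Limits AlgebraicGeometry Opposite TopologicalSpace
noncomputable section

namespace Groth.Agent.Lib.Helper28.PnToVA

open Groth.Agent.Lib.Helper28 Groth.Agent.Lib.Helper28.GenLocus Groth.Agent.Lib.Helper28.PullbackInv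

theorem isInvertible_twistOver (n : ℕ) (S : Scheme.{u}) : PicF.IsInvertible (Twist.twistOver n S 1) := by
  have hcov : ∀ x : Proj (CohB1.polyGrading n (ULift.{u} ℤ)), ∃ f, f ∈ CohB1.polyGrading n (ULift.{u} ℤ) 1 ∧
      x ∈ Proj.basicOpen (CohB1.polyGrading n (ULift.{u} ℤ)) f := fun x => by
    obtain ⟨a, ha⟩ := cover n (ULift.{u} ℤ) x; exact ⟨_, hX n _ a, ha⟩
  exact isInvertible_pullback _ (TwistCov.isInvertible_twist _ hcov _)

set_option maxHeartbeats 1600000 in
theorem isRelVeryAmplePn_tensor {X S : Scheme.{u}} [IsAffine S] (q : X ⟶ S)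
    (L L' : X.Modules) (hL : PicF.IsInvertible L) (hva : RelAmple.IsRelVeryAmplePn q L)
    (hL' : PicF.IsInvertible L') {m : ℕ} (s : Fin m → ProjUP.Γm L') (hs : ProjUP.GeneratedBy L' s) :
    RelAmple.IsRelVeryAmplePn q (CohB1.tensorMod L L') := by
  classical
  obtain ⟨n, i, hi, hiq, ⟨eL⟩⟩ := hva
  let s' : Fin (m + 1) → ProjUP.Γm L' := Fin.snoc (α := fun _ => ProjUP.Γm L') s 0
  have hs' : ProjUP.GeneratedBy L' s' := by
    intro x
    refine top_le_iff.1 ((hs x).symm.le.trans (Submodule.span_mono ?_))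
    rintro _ ⟨a, rfl⟩
    exact ⟨Fin.castSucc a, by simp [s']⟩
  obtain ⟨r, -, τ, -⟩ := Groth.Agent.S3572.result (R := ULift.{u} ℤ) m (specULiftZIsTerminal.from X) L' hL' s' hs'
  let r' : X ⟶ CohB1.ProjSpaceOver m S := pullback.lift r q (specULiftZIsTerminal.hom_ext _ _)
  have hr'1 : r' ≫ pullback.fst (CohB1.ProjSpace.toSpec m (ULift.{u} ℤ)) (specULiftZIsTerminal.from S) = r :=
    pullback.lift_fst _ _ _
  have hr'2 : r' ≫ CohB1.ProjSpaceOver.toBase m S = q := pullback.lift_snd _ _ _
  have hiq' : i ≫ CohB1.ProjSpaceOver.toBase n S = q := hiq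
  let k : X ⟶ pullback (CohB1.ProjSpaceOver.toBase n S) (CohB1.ProjSpaceOver.toBase m S) :=
    pullback.lift i r' (hiq'.trans hr'2.symm)
  have hk1 : k ≫ pullback.fst (CohB1.ProjSpaceOver.toBase n S) (CohB1.ProjSpaceOver.toBase m S) = i :=
    pullback.lift_fst _ _ _
  have hk2 : k ≫ pullback.snd (CohB1.ProjSpaceOver.toBase n S) (CohB1.ProjSpaceOver.toBase m S) = r' :=
    pullback.lift_snd _ _ _
  have hkimm : IsImmersion k := by
    have : IsImmersion (k ≫ pullback.fst (CohB1.ProjSpaceOver.toBase n S) (CohB1.ProjSpaceOver.toBase m S)) := by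
      rw [hk1]; exact hi
    exact IsImmersion.of_comp k (pullback.fst (CohB1.ProjSpaceOver.toBase n S) (CohB1.ProjSpaceOver.toBase m S))
  have hO₁ := isInvertible_twistOver n S
  have hO₂ := isInvertible_twistOver m S
  have h4 := VAProd.isRelVeryAmple_extTensor (CohB1.ProjSpaceOver.toBase n S) (CohB1.ProjSpaceOver.toBase m S)
    (pullback.fst _ _) (pullback.snd _ _) (IsPullback.of_hasPullback _ _) (Twist.twistOver n S 1)
    (Twist.twistOver m S 1) hO₁ hO₂ (isRelVeryAmple_toBase n S) (isRelVeryAmple_toBase m S)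
  have hN₁ : PicF.IsInvertible ((Scheme.Modules.pullback
      (pullback.fst (CohB1.ProjSpaceOver.toBase n S) (CohB1.ProjSpaceOver.toBase m S))).obj
        (Twist.twistOver n S 1)) := isInvertible_pullback _ hO₁
  have hN₂ : PicF.IsInvertible ((Scheme.Modules.pullback
      (pullback.snd (CohB1.ProjSpaceOver.toBase n S) (CohB1.ProjSpaceOver.toBase m S))).obj
        (Twist.twistOver m S 1)) := isInvertible_pullback _ hO₂
  have hN := isInvertible_tensorMod hN₁ hN₂
  have hp1 : IsProper (CohB1.ProjSpaceOver.toBase n S) := ProjSpaceBasic.isProper_toBase n S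
  have hp2 : IsProper (CohB1.ProjSpaceOver.toBase m S) := ProjSpaceBasic.isProper_toBase m S
  have hp3 : IsProper (pullback.fst (CohB1.ProjSpaceOver.toBase n S) (CohB1.ProjSpaceOver.toBase m S) ≫
      CohB1.ProjSpaceOver.toBase n S) := inferInstance
  obtain ⟨N, c, hc, hcq, ⟨eN⟩⟩ := PnVA.isRelVeryAmplePn_of_isRelVeryAmple
    (pullback.fst (CohB1.ProjSpaceOver.toBase n S) (CohB1.ProjSpaceOver.toBase m S) ≫
      CohB1.ProjSpaceOver.toBase n S) _ hN h4
  have : IsImmersion c := hc
  obtain ⟨ψ, -⟩ := exists_pullback_tensorMod_iso k hN₁ hN₂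
  refine ⟨N, k ≫ c, inferInstance, ?_, ⟨?_⟩⟩
  · rw [Category.assoc, hcq, ← Category.assoc, hk1, hiq']
  · have e₁ : L ≅ (Scheme.Modules.pullback k).obj ((Scheme.Modules.pullback
        (pullback.fst (CohB1.ProjSpaceOver.toBase n S) (CohB1.ProjSpaceOver.toBase m S))).obj
          (Twist.twistOver n S 1)) :=
      eL ≪≫ (Scheme.Modules.pullbackCongr hk1.symm).app _ ≪≫
        ((Scheme.Modules.pullbackComp k (pullback.fst _ _)).app _).symm
    have e₂ : L' ≅ (Scheme.Modules.pullback k).obj ((Scheme.Modules.pullback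
        (pullback.snd (CohB1.ProjSpaceOver.toBase n S) (CohB1.ProjSpaceOver.toBase m S))).obj
          (Twist.twistOver m S 1)) :=
      τ.symm ≪≫ (Scheme.Modules.pullbackCongr hr'1.symm).app _ ≪≫
        ((Scheme.Modules.pullbackComp r' (pullback.fst _ _)).app _).symm ≪≫
        (Scheme.Modules.pullbackCongr hk2.symm).app _ ≪≫
        ((Scheme.Modules.pullbackComp k (pullback.snd _ _)).app _).symm
    exact PicGrp.tensorModIso e₁ e₂ ≪≫ ψ.symm ≪≫ (Scheme.Modules.pullback k).mapIso eN ≪≫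
      (Scheme.Modules.pullbackComp k c).app _

end Groth.Agent.Lib.Helper28.PnToVA
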