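import Groth.Agent.Lib.Helper28.PnBundle
import Groth.Agent.Lib.Helper28.AmpleIso
import Groth.Agent.S12486
import Groth.Agent.S12474

/-!
# Very ample (bundle form) implies very ample (projective-space form) over an affine base, for finite type morphisms
-/

set_option autoImplicit false
universe u
open CategoryTheory CategoryTheory.Limits AlgebraicGeometry Opposite TopologicalSpace
noncomputable section

namespace Groth.Agent.Lib.Helper28.PnVA

open Groth.Agent.Lib.Helper28

/-- relative very ampleness only depends on the isomorphism class of the module -/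
theorem isRelVeryAmple_of_iso {X Y : Scheme.{u}} (q : X ⟶ Y) {L L' : X.Modules} (e : L ≅ L')
    (h : RelProj.IsRelVeryAmple q L) : RelProj.IsRelVeryAmple q L' := by
  obtain ⟨E, hE, 𝒮, j, hj, P, p, chart, hP, O1, lam, hO, i, himm, hcomp, ⟨t⟩⟩ := h
  exact ⟨E, hE, 𝒮, j, hj, P, p, chart, hP, O1, lam, hO, i, himm, hcomp, ⟨e.symm ≪≫ t⟩⟩

/-- **EGA II 4.4.7-type**: over an affine base and for a morphism of finite type, very ample in the bundle sense implies
very ample in the projective-space sense -/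
theorem isRelVeryAmplePn_of_isRelVeryAmple {X S : Scheme.{u}} [IsAffine S] (f : X ⟶ S)
    [LocallyOfFiniteType f] [QuasiCompact f] (L : X.Modules) (hLinv : PicF.IsInvertible L)
    (hL : RelProj.IsRelVeryAmple f L) : RelAmple.IsRelVeryAmplePn f L := by
  classical
  have hY : (CompactSpace S ∧ S.IsSeparated) ∨ TopologicalSpace.NoetherianSpace S :=
    Or.inl ⟨inferInstance, inferInstance⟩
  obtain ⟨E, 𝒯, j, P, p, chart, O1, lam, i, hEq, hEft, hj, hP, hO, himm, hip, ⟨e⟩⟩ :=
    Groth.Agent.S12486.result hY f L hLinv hL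
  have : E.IsQuasicoherent := hEq
  have : SheafOfModules.IsFiniteType.{u} (R := S.ringCatSheaf) E := hEft
  have hO' : RelProj.IsRelTwist 𝒯 p chart ((1 : ℕ) : ℤ) O1 lam := hO
  obtain ⟨n, c, hc, hcp, ⟨τ⟩⟩ := PnBundle.isRelVeryAmplePn hj hP hO'
  refine ⟨n, i ≫ c, inferInstance, ?_, ⟨?_⟩⟩
  · rw [Category.assoc, hcp, hip]
  · exact e ≪≫ (Scheme.Modules.pullback i).mapIso τ ≪≫ (Scheme.Modules.pullbackComp i c).app _

/-- **(1) ⇒ (2)**: very ample in the bundle sense implies locally very ample in the projective-space sense -/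
theorem exists_cover_isRelVeryAmplePn {X S : Scheme.{u}} (f : X ⟶ S)
    [LocallyOfFiniteType f] [QuasiCompact f] (L : X.Modules) (hLinv : PicF.IsInvertible L)
    (hL : RelProj.IsRelVeryAmple f L) :
    ∃ (ι : Type u) (V : ι → S.Opens), (⨆ j, V j) = ⊤ ∧
      ∀ j, RelAmple.IsRelVeryAmplePn (f ∣_ V j) (L.restrict (f ⁻¹ᵁ V j).ι) := by
  classical
  have hcov : ∀ s : S, ∃ V : S.Opens, IsAffineOpen V ∧ s ∈ V := by
    intro s
    obtain ⟨_, ⟨V, hV, rfl⟩, hsV, -⟩ := S.isBasis_affineOpens.exists_subset_of_mem_open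
      (show s ∈ ((⊤ : S.Opens) : Set S) from trivial) (⊤ : S.Opens).isOpen
    exact ⟨V, hV, hsV⟩
  choose V hV hsV using hcov
  refine ⟨S, V, ?_, fun s => ?_⟩
  · rw [eq_top_iff]
    intro s _
    exact Opens.mem_iSup.2 ⟨s, hsV s⟩
  · have : IsAffine (V s : Scheme.{u}) := hV s
    have hsq : IsPullback (f ⁻¹ᵁ V s).ι (f ∣_ V s) f (V s).ι := (isPullback_morphismRestrict f (V s)).flip
    have h1 := Groth.Agent.S12474.result f (V s).ι (f ⁻¹ᵁ V s).ι (f ∣_ V s) hsq L hLinv hL
    have h2 : RelProj.IsRelVeryAmple (f ∣_ V s) (L.restrict (f ⁻¹ᵁ V s).ι) :=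
      isRelVeryAmple_of_iso _ ((Scheme.Modules.restrictFunctorIsoPullback (f ⁻¹ᵁ V s).ι).app L).symm h1
    exact isRelVeryAmplePn_of_isRelVeryAmple (f ∣_ V s) _
      (AmpleIso.isInvertible_restrict (f ⁻¹ᵁ V s).ι L hLinv) h2

end Groth.Agent.Lib.Helper28.PnVA
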