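import Groth.Agent.Lib.Helper28.TwistAmple
import Groth.Agent.Lib.Helper28.TwistCov
import Groth.Agent.Lib.Helper28.AmplePow

/-!
# Ampleness of `O(n)`, `n ≥ 1`, on a quasi-compact `Proj` covered by the `D₊(f)`, `f` of degree one
-/

set_option autoImplicit false
universe u
open CategoryTheory CategoryTheory.Limits AlgebraicGeometry Opposite TopologicalSpace
noncomputable section

namespace Groth.Agent.Lib.Helper28.TwistAmple

open Groth.Agent.Lib.Helper28 Groth.Agent.Lib.Helper28.QCohLoc Groth.Agent.Lib.Helper28.TwistMul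
  Groth.Agent.Lib.Helper28.TwistGen

variable {R A : Type u} [CommRing R] [CommRing A] [Algebra R A] (𝒜 : ℕ → Submodule R A) [GradedAlgebra 𝒜]

/-- where `f : O ⟶ O(1)` is an isomorphism, `f` does not vanish (covering hypothesis version) -/
theorem le_basicOpen_of_isIso_restrict_of_cov
    (hcov : ∀ x : Proj 𝒜, ∃ f : A, f ∈ 𝒜 1 ∧ x ∈ Proj.basicOpen 𝒜 f)
    {f : A} (hf : f ∈ 𝒜 1) (U : (Proj 𝒜).Opens)
    [IsIso ((Scheme.Modules.restrictFunctor U.ι).map (secHom 𝒜 hf))] : U ≤ Proj.basicOpen 𝒜 f := by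
  intro x hxU
  obtain ⟨W, ⟨g, h, e, hg, he, hh, rfl⟩, hxW, hWU⟩ := TwistCov.isChart_basis 𝒜 hcov U x hxU
  obtain ⟨c0, hc⟩ := (app_bijective_of_isIso_restrict (secHom 𝒜 hf) U _ hWU).2 (genW 𝒜 hg h ((1 : ℕ) : ℤ))
  let c : Γ(Proj 𝒜, Proj.basicOpen 𝒜 (g * h)) := c0
  have hc' : (c • res (Twist.twist 𝒜 ((1 : ℕ) : ℤ)) (le_top : Proj.basicOpen 𝒜 (g * h) ≤ ⊤) (gsec 𝒜 f hf) :
      Γ(Twist.twist 𝒜 ((1 : ℕ) : ℤ), Proj.basicOpen 𝒜 (g * h))) = genW 𝒜 hg h ((1 : ℕ) : ℤ) :=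
    (secHom_app 𝒜 hf _ c).symm.trans hc
  have hv := congrArg (fun t => TwistQC.val 𝒜 t ⟨x, hxW⟩) hc'
  simp only at hv
  rw [TwistQC.val_smul, val_genW] at hv
  have hv2 : TwistQC.val 𝒜 (res (Twist.twist 𝒜 ((1 : ℕ) : ℤ)) (le_top : Proj.basicOpen 𝒜 (g * h) ≤ ⊤)
      (gsec 𝒜 f hf)) ⟨x, hxW⟩ = Localization.mk f 1 := rfl
  rw [hv2] at hv
  rw [Proj.mem_basicOpen]
  intro hfx
  have hxg : x ∈ Proj.basicOpen 𝒜 g := basicOpen_mul_le 𝒜 g h hxW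
  rw [Proj.mem_basicOpen] at hxg
  apply hxg
  have hmem : (Localization.mk f 1 : Twist.Loc 𝒜 x) ∈
      IsLocalRing.maximalIdeal (Twist.Loc 𝒜 x) := by
    rw [Localization.mk_one_eq_algebraMap]
    exact (IsLocalization.AtPrime.to_map_mem_maximal_iff (Twist.Loc 𝒜 x)
      (show ProjectiveSpectrum 𝒜 from x).asHomogeneousIdeal.toIdeal f).2 hfx
  have hmem2 := Ideal.mul_mem_left _ ((GrTildeQC.valO 𝒜 c ⟨x, hxW⟩).val) hmem
  rw [hv, Localization.mk_eq_mk', IsLocalization.AtPrime.mk'_mem_maximal_iff (Twist.Loc 𝒜 x)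
    (show ProjectiveSpectrum 𝒜 from x).asHomogeneousIdeal.toIdeal] at hmem2
  exact (show ProjectiveSpectrum 𝒜 from x).isPrime.mem_of_pow_mem _ hmem2

/-- `O(1)` is ample on a quasi-compact `Proj` covered in degree one -/
theorem isAmple_twist_one_of_cov [CompactSpace (Proj 𝒜)]
    (hcov : ∀ x : Proj 𝒜, ∃ f : A, f ∈ 𝒜 1 ∧ x ∈ Proj.basicOpen 𝒜 f) :
    CohB1.IsAmple (Twist.twist 𝒜 1) := by
  refine ⟨TwistCov.isInvertible_twist 𝒜 hcov 1, inferInstance, ?_⟩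
  intro x
  obtain ⟨f, hf, hxf⟩ := hcov x
  obtain ⟨ι⟩ := TwistCov.nonempty_twist_iso_tensorPow 𝒜 hcov 1
  refine ⟨0, secHom 𝒜 hf ≫ ι.hom, ?_⟩
  have hloc : CohB1.genLocus _ (secHom 𝒜 hf ≫ ι.hom) = Proj.basicOpen 𝒜 f := by
    apply le_antisymm
    · refine sSup_le ?_
      intro U hU
      have hU' : IsIso ((Scheme.Modules.restrictFunctor U.ι).map (secHom 𝒜 hf ≫ ι.hom)) := hU
      rw [Functor.map_comp] at hU'
      haveI : IsIso ((Scheme.Modules.restrictFunctor U.ι).map (secHom 𝒜 hf)) :=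
        IsIso.of_isIso_comp_right _ ((Scheme.Modules.restrictFunctor U.ι).map ι.hom)
      exact le_basicOpen_of_isIso_restrict_of_cov 𝒜 hcov hf U
    · refine le_sSup ?_
      show IsIso ((Scheme.Modules.restrictFunctor (Proj.basicOpen 𝒜 f).ι).map (secHom 𝒜 hf ≫ ι.hom))
      rw [Functor.map_comp]
      haveI := isIso_restrict_secHom 𝒜 hf
      infer_instance
  rw [hloc]
  exact ⟨hxf, Proj.isAffineOpen_basicOpen 𝒜 f hf one_pos⟩

/-- `O(n)`, `n ≥ 1`, is ample on a quasi-compact `Proj` covered in degree one -/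
theorem isAmple_twist_of_cov [CompactSpace (Proj 𝒜)]
    (hcov : ∀ x : Proj 𝒜, ∃ f : A, f ∈ 𝒜 1 ∧ x ∈ Proj.basicOpen 𝒜 f) (n : ℕ) (hn : 0 < n) :
    CohB1.IsAmple (Twist.twist 𝒜 (n : ℤ)) := by
  obtain ⟨e⟩ := TwistCov.nonempty_twist_iso_tensorPow 𝒜 hcov n
  exact AmpleIso.isAmple_of_iso e.symm (GenLocus.isAmple_tensorPow (isAmple_twist_one_of_cov 𝒜 hcov) n hn)

end Groth.Agent.Lib.Helper28.TwistAmple
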