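import Groth.Agent.Lib.Helper28.ProjUPGeom3
import Groth.Agent.Lib.Helper28.TwistCovAmple
import Groth.Agent.Lib.Helper28.AmpleUnit
import Groth.Agent.Lib.Helper28.Segre5

set_option autoImplicit false
universe u
open CategoryTheory CategoryTheory.Limits AlgebraicGeometry Opposite TopologicalSpace HomogeneousLocalization
noncomputable section

namespace Groth.Agent.Lib.Helper28.ProjUPUniq

open Groth.Agent.Lib.Helper28 Groth.Agent.Lib.Helper28.QCohLoc Groth.Agent.Lib.Helper28.GenLocus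
  Groth.Agent.Lib.Helper28.ProjUPAlg Groth.Agent.Lib.Helper28.ProjUPChart Groth.Agent.Lib.Helper28.PullbackInv
  Groth.Agent.Lib.Helper28.ProjUPGeom

/-- morphisms with the same comorphism on an affine open of the target agree on the corresponding open of the
source -/
theorem ι_comp_eq_of_appLE_eq {X Y : Scheme.{u}} (r r' : X ⟶ Y) {V : Y.Opens} (hV : IsAffineOpen V)
    (W : X.Opens) (e : W ≤ r ⁻¹ᵁ V) (e' : W ≤ r' ⁻¹ᵁ V) (h : r.appLE V W e = r'.appLE V W e') :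
    W.ι ≫ r = W.ι ≫ r' := by
  have : IsAffine V := hV
  have h1 : r.resLE V W e = r'.resLE V W e' := by
    apply ext_of_isAffine
    show (r.resLE V W e).app ⊤ = (r'.resLE V W e').app ⊤
    rw [Scheme.Hom.resLE_app_top, Scheme.Hom.resLE_app_top, h]
  rw [← Scheme.Hom.resLE_comp_ι r e, ← Scheme.Hom.resLE_comp_ι r' e', h1]

/-- abstract coefficient comparison -/
theorem coef_eq_of_iso {X : Scheme.{u}} {M N : X.Modules} (τ : M ≅ N) (W : X.Opens) (Pk Pj : Γ(M, ⊤))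
    (Pk' Pj' : Γ(N, ⊤))
    (hk : τ.hom.app ⊤ Pk = Pk') (hj : τ.hom.app ⊤ Pj = Pj') (c c' : Γ(X, W))
    (hA : res M (le_top : W ≤ ⊤) Pk = (c • res M (le_top : W ≤ ⊤) Pj : Γ(M, W)))
    (hB : res N (le_top : W ≤ ⊤) Pk' = (c' • res N (le_top : W ≤ ⊤) Pj' : Γ(N, W)))
    (hgen : IsGen N W (res N (le_top : W ≤ ⊤) Pj')) : c = c' := by
  apply (hgen W le_rfl).1
  show (c • res N le_rfl (res N (le_top : W ≤ ⊤) Pj') : Γ(N, W)) =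
    (c' • res N le_rfl (res N (le_top : W ≤ ⊤) Pj') : Γ(N, W))
  rw [res_self, ← hB, ← hk, ← app_res, hA, Scheme.Modules.Hom.app_smul, app_res, hj]

section

variable {A : Type u} [CommRing A] {S : Type u} [CommRing S] [Algebra A S] (𝒮 : ℕ → Submodule A S)
  [GradedAlgebra 𝒮] {X : Scheme.{u}}

theorem genLocus_secHom (hcov : ∀ x : Proj 𝒮, ∃ f : S, f ∈ 𝒮 1 ∧ x ∈ Proj.basicOpen 𝒮 f)
    {f : S} (hf : f ∈ 𝒮 1) :
    CohB1.genLocus _ (TwistAmple.secHom 𝒮 hf) = Proj.basicOpen 𝒮 f := by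
  apply le_antisymm
  · refine sSup_le ?_
    intro U hU
    haveI : IsIso ((Scheme.Modules.restrictFunctor U.ι).map (TwistAmple.secHom 𝒮 hf)) := hU
    exact TwistAmple.le_basicOpen_of_isIso_restrict_of_cov 𝒮 hcov hf U
  · exact le_sSup (TwistAmple.isIso_restrict_secHom 𝒮 hf)

/-- on `r⁻¹ D₊(g)`, `r^*(f) = r^♯(f/g) • r^*(g)` -/
theorem pbs_gsec_coef (r : X ⟶ Proj 𝒮) {f g : S} (hf : f ∈ 𝒮 1) (hg : g ∈ 𝒮 1) (W : X.Opens)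
    (e : W ≤ r ⁻¹ᵁ Proj.basicOpen 𝒮 g) :
    res ((Scheme.Modules.pullback r).obj (Twist.twist 𝒮 ((1 : ℕ) : ℤ))) (le_top : W ≤ ⊤)
        (pbs r (Twist.twist 𝒮 ((1 : ℕ) : ℤ)) ⊤ (TwistGen.gsec 𝒮 f hf)) =
      (r.appLE (Proj.basicOpen 𝒮 g) W e (ProjFrac.fr 𝒮 hg 1 f hf) •
        res ((Scheme.Modules.pullback r).obj (Twist.twist 𝒮 ((1 : ℕ) : ℤ))) (le_top : W ≤ ⊤)
          (pbs r (Twist.twist 𝒮 ((1 : ℕ) : ℤ)) ⊤ (TwistGen.gsec 𝒮 g hg)) :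
        Γ((Scheme.Modules.pullback r).obj (Twist.twist 𝒮 ((1 : ℕ) : ℤ)), W)) := by
  have h1 := congrArg (pbs r (Twist.twist 𝒮 ((1 : ℕ) : ℤ)) (Proj.basicOpen 𝒮 g))
    (gsec_eq_fr_smul 𝒮 hf hg)
  rw [pbs_smul, pbs_res, pbs_res] at h1
  have h2 := congrArg (res _ e) h1
  rw [res_res, res_smul, res_res] at h2
  exact h2

theorem isGen_pbs_gsec (r : X ⟶ Proj 𝒮) {g : S} (hg : g ∈ 𝒮 1) (W : X.Opens)
    (e : W ≤ r ⁻¹ᵁ Proj.basicOpen 𝒮 g) :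
    IsGen ((Scheme.Modules.pullback r).obj (Twist.twist 𝒮 ((1 : ℕ) : ℤ))) W
      (res _ (le_top : W ≤ ⊤) (pbs r (Twist.twist 𝒮 ((1 : ℕ) : ℤ)) ⊤ (TwistGen.gsec 𝒮 g hg))) := by
  have h1 := isGen_pbs (f := r) (isGen_gsec 𝒮 hg)
  rw [pbs_res] at h1
  have h2 := h1.res e
  rw [res_res] at h2
  exact h2

theorem preimage_eq_of_iso (hcov : ∀ x : Proj 𝒮, ∃ f : S, f ∈ 𝒮 1 ∧ x ∈ Proj.basicOpen 𝒮 f)
    (r r' : X ⟶ Proj 𝒮)
    (τ : (Scheme.Modules.pullback r).obj (Twist.twist 𝒮 ((1 : ℕ) : ℤ)) ≅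
      (Scheme.Modules.pullback r').obj (Twist.twist 𝒮 ((1 : ℕ) : ℤ)))
    {f : S} (hf : f ∈ 𝒮 1)
    (hτ : τ.hom.app ⊤ (pbs r (Twist.twist 𝒮 ((1 : ℕ) : ℤ)) ⊤ (TwistGen.gsec 𝒮 f hf)) =
      pbs r' (Twist.twist 𝒮 ((1 : ℕ) : ℤ)) ⊤ (TwistGen.gsec 𝒮 f hf)) :
    r ⁻¹ᵁ Proj.basicOpen 𝒮 f = r' ⁻¹ᵁ Proj.basicOpen 𝒮 f := by
  have hO1 := TwistCov.isInvertible_twist 𝒮 hcov ((1 : ℕ) : ℤ)
  have h1 := genLocus_pbSec r hO1 (TwistAmple.secHom 𝒮 hf)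
  have h2 := genLocus_pbSec r' hO1 (TwistAmple.secHom 𝒮 hf)
  rw [genLocus_secHom 𝒮 hcov hf] at h1 h2
  rw [← h1, ← h2, ← AmpleUnit.genLocus_comp_iso (pbSec r (TwistAmple.secHom 𝒮 hf)) τ]
  congr 1
  rw [← ofSection_secOf (pbSec r (TwistAmple.secHom 𝒮 hf) ≫ τ.hom)]
  unfold pbSec
  congr 1
  have h3 : secOf (TwistAmple.secHom 𝒮 hf) = TwistGen.gsec 𝒮 f hf := secOf_ofSection _
  rw [h3]
  show τ.hom.app ⊤ (secOf (TwistGen.ofSection _ (pbs r (Twist.twist 𝒮 ((1 : ℕ) : ℤ)) ⊤ (TwistGen.gsec 𝒮 f hf)))) = _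
  rw [secOf_ofSection, hτ]

end

end Groth.Agent.Lib.Helper28.ProjUPUniq
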