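import Groth.Agent.Lib.Helper28.SecVA

/-!
# A criterion by sections for immersions into `P(F)`, for an arbitrary quasi-coherent `F` with `ψ : F → q_* M`
-/

set_option autoImplicit false
universe u
open CategoryTheory CategoryTheory.Limits AlgebraicGeometry TopologicalSpace Opposite
open scoped HomogeneousIdeal
noncomputable section

namespace Groth.Agent.Lib.Helper28.SecVAF

open Groth.Agent.Lib.Helper28 Groth.Agent.Lib.Helper28.QCohLoc Groth.Agent.Lib.Helper28.TraceAlg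
open Groth.Agent.Lib.Helper28.SymAlg Groth.Agent.Lib.Helper28.ImgAlg
open Groth.Agent.Lib.Helper28.RLPsi Groth.Agent.Lib.Helper28.RLPsiU Groth.Agent.Lib.Helper28.FTApprox
open Groth.Agent.Lib.Helper28.GenLocus Groth.Agent.Lib.Helper28.AmpleCompose

section fam

variable {Y X : Scheme.{u}} (q : X ⟶ Y) {M : X.Modules} [M.IsQuasicoherent]
  {𝒮L : RelProj.QCGrAlg X} {jL : M ⟶ 𝒮L.toModule}
  (hjL : RelProj.IsGrSymAlg M 𝒮L jL)
  {𝒜 : RelProj.QCGrAlg Y}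
  (u : RelProj.QGrHom q 𝒜 𝒮L)

/-- the element `a` of `𝒜(U)` maps to the section `s` of `M` over `q⁻¹ U` -/
def MapsTo (jL : M ⟶ 𝒮L.toModule) (u : RelProj.QGrHom q 𝒜 𝒮L) (U : Y.Opens) (a : 𝒜.presheaf.obj (op U))
    (s : Γ(M, q ⁻¹ᵁ U)) : Prop :=
  ∀ (W : X.Opens) (hW : W ≤ q ⁻¹ᵁ U), tauU u U a W hW = asR 𝒮L.toQCAlg (jL.app W (res M hW s))

include hjL in
/-- the nonvanishing locus of a degree-one element mapping to a section -/
theorem XTU_of_mapsTo (hM : PicF.IsInvertible M) (U : Y.Opens) (a : 𝒜.presheaf.obj (op U)) (s : Γ(M, q ⁻¹ᵁ U))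
    (ha : MapsTo q jL u U a s) (D : X.Opens) (hD : IsAffineOpen D)
    (hDU : D ≤ q ⁻¹ᵁ U) (hgen : IsGen M D (res M hDU s))
    (hmax : ∀ x : X, x ∈ q ⁻¹ᵁ U → SecGenAt M (q ⁻¹ᵁ U) s x → x ∈ D) :
    XTU u U 1 a = D := by
  apply le_antisymm
  · intro x hx
    have hxU : x ∈ q ⁻¹ᵁ U := XTU_le u 1 _ hx
    have hnv := (mem_XTU_iff u 1 _ x).1 hx
    obtain ⟨V, g, hxV, hV, hg, hVU⟩ := exists_isGen_affine_le hM x (q ⁻¹ᵁ U) hxU
    let b : Γ(X, V) := hg.coef le_rfl (res M hVU s)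
    have hb : res M hVU s = (b • g : Γ(M, V)) := by
      have := hg.coef_smul le_rfl (res M hVU s)
      rw [res_self] at this
      exact this.symm
    have hb' : tauU u U a V hVU = (𝒮L.str.app (op V)).hom b * asR 𝒮L.toQCAlg (jL.app V g) ^ 1 := by
      rw [ha V hVU, hb, jE_smul, pow_one]
    have h1 := (RLPsiV.nvu_iff_mem_basicOpen hjL u 1 _ hV hVU hg b hb' x hxV).1 hnv
    exact hmax x hxU ((secGenAt_iff_of_chart s hVU hg b hb x hxV).2 h1)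
  · intro x hx
    refine (mem_XTU_iff u 1 _ x).2 ⟨D, hD, hDU, hx, ?_⟩
    intro a' ha'
    obtain ⟨b', rfl⟩ := exists_eq_str_mul_pow hjL hD hgen 1 a' ha'
    rw [ha D hDU, pow_one]
    exact Ideal.mul_mem_left _ _ (Ideal.subset_span rfl)

omit [M.IsQuasicoherent] in
/-- condition (iii) for a degree-one element whose ratios generate the ring of functions -/
theorem cond3W_of_mapsTo (U : Y.Opens) (hU : IsAffineOpen U) (a : 𝒜.presheaf.obj (op U))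
    (ha1 : a ∈ 𝒜.deg U hU 1) (s : Γ(M, q ⁻¹ᵁ U)) (ha : MapsTo q jL u U a s) (D : X.Opens)
    (hDU : D ≤ q ⁻¹ᵁ U) (G : Set Γ(X, D))
    (hG : @Algebra.adjoin Γ(Y, U) Γ(X, D) _ _ (q.appLE U D hDU).hom.toAlgebra G = ⊤)
    (hrat : ∀ g ∈ G, ∃ (b : 𝒜.presheaf.obj (op U)) (_ : b ∈ 𝒜.deg U hU 1) (t : Γ(M, q ⁻¹ᵁ U)),
      MapsTo q jL u U b t ∧ res M hDU t = (g • res M hDU s : Γ(M, D))) :
    Cond3W u hU 1 a D hDU := by
  refine cond3W_of_adjoin u hU ha1 hDU G hG fun g hg => ?_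
  obtain ⟨b, hb1, t, hbt, ht⟩ := hrat g hg
  refine ⟨1, one_pos, b, hb1, ?_⟩
  show (𝒮L.str.app (op D)).hom g * tauU u U a D hDU ^ 1 = tauU u U b D hDU
  rw [ha D hDU, hbt D hDU, pow_one, ht, jE_smul]

end fam

section main

variable {Y X P : Scheme.{u}} (q : X ⟶ Y) {M : X.Modules}
  {F : Y.Modules} [F.IsQuasicoherent] (ψ : F ⟶ (Scheme.Modules.pushforward q).obj M)
  {𝒜 : RelProj.QCGrAlg Y} {jA : F ⟶ 𝒜.toModule} (h𝒜 : RelProj.IsGrSymAlg F 𝒜 jA)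
  (p : P ⟶ Y) (chart : ∀ (U : Y.Opens) (hU : IsAffineOpen U), (((p ⁻¹ᵁ U : P.Opens) : Scheme.{u}) ≅ Proj (𝒜.deg U hU)))
  (hP : RelProj.IsRelProj 𝒜 p chart)
  {O1 : P.Modules}
  {lam : ∀ (U : Y.Opens) (hU : IsAffineOpen U),
    O1 ⟶ (Scheme.Modules.pushforward (RelProj.emb p chart U hU)).obj (GrTwist.twist (𝒜.deg U hU) 1)}
  (hO : RelProj.IsRelTwist 𝒜 p chart 1 O1 lam)

/-- the section of `M` over `q⁻¹ U` attached to a section of `F` over `U` -/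
def sec (U : Y.Opens) (x : Γ(F, U)) : Γ(M, q ⁻¹ᵁ U) := ψ.app U x

include h𝒜 hP hO in
/-- **criterion by sections for an immersion into `P(F)`**: sections `e_a` of `F` over affine opens `V_a` whose images in
`M` have affine nonvanishing loci `D_a` covering `X`, such that the functions on `D_a` are generated over `Γ(V_a)` by
ratios `ψ(t) / ψ(e_a)` -/
theorem exists_immersion_of_sections (hM : PicF.IsInvertible M)
    {A : Type u} (V : A → Y.Opens) (hV : ∀ a, IsAffineOpen (V a)) (D : A → X.Opens) (hD : ∀ a, IsAffineOpen (D a))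
    (hDV : ∀ a, D a ≤ q ⁻¹ᵁ V a) (hcov : ∀ x : X, ∃ a, x ∈ D a)
    (e : ∀ a, Γ(F, V a)) (hgen : ∀ a, IsGen M (D a) (res M (hDV a) (sec q ψ (V a) (e a))))
    (hmax : ∀ a (x : X), x ∈ q ⁻¹ᵁ V a → SecGenAt M (q ⁻¹ᵁ V a) (sec q ψ (V a) (e a)) x → x ∈ D a)
    (G : ∀ a, Set Γ(X, D a))
    (hG : ∀ a, @Algebra.adjoin Γ(Y, V a) Γ(X, D a) _ _ (q.appLE (V a) (D a) (hDV a)).hom.toAlgebra (G a) = ⊤)
    (hrat : ∀ a, ∀ g ∈ G a, ∃ t : Γ(F, V a),
      res M (hDV a) (sec q ψ (V a) t) = (g • res M (hDV a) (sec q ψ (V a) (e a)) : Γ(M, D a))) :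
    ∃ i : X ⟶ P, IsImmersion i ∧ i ≫ p = q ∧ Nonempty (M ≅ (Scheme.Modules.pullback i).obj O1) := by
  classical
  have hMq : M.IsQuasicoherent := InvQC.isQuasicoherent_of_isInvertible M hM
  have hQCL := isQC_symPre_of_isQuasicoherent M
  have hjL := isGrSymAlg M hQCL
  have hPL := RelProjExists.isRelProj (grSymAlg M hQCL)
  let φ : F ⟶ (Scheme.Modules.pushforward q).obj (grSymAlg M hQCL).toModule :=
    ψ ≫ (Scheme.Modules.pushforward q).map (grJ M hQCL)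
  have hφ1 : ∀ (U : Y.Opens) (m : Γ(F, U)) (U' : X.Opens) (hU' : IsAffineOpen U')
      (hle : U' ≤ q ⁻¹ᵁ U),
      ((grSymAlg M hQCL).presheaf.map (homOfLE hle).op).hom (phiR q (grSymAlg M hQCL).toQCAlg φ U m) ∈
        (grSymAlg M hQCL).deg U' hU' 1 := by
    intro U m U' hU' hle
    have h1 : ((grSymAlg M hQCL).presheaf.map (homOfLE hle).op).hom
        (phiR q (grSymAlg M hQCL).toQCAlg φ U m) =
        asR (grSymAlg M hQCL).toQCAlg ((grJ M hQCL).app U' (res M hle (sec q ψ U m))) := by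
      rw [app_res]
      rfl
    rw [h1]
    exact hjL.2 U' hU' _
  let u := symQGr q h𝒜 (grSymAlg M hQCL) φ hφ1
  have hu : ∀ (U : Y.Opens) (x : Γ(F, U)),
      (u.app U).hom ((jA.app U) x) = asR (grSymAlg M hQCL).toQCAlg ((grJ M hQCL).app (q ⁻¹ᵁ U) (sec q ψ U x)) :=
    fun U x => symQGr_j q h𝒜 (grSymAlg M hQCL) φ hφ1 U x
  have hmaps : ∀ (U : Y.Opens) (x : Γ(F, U)),
      MapsTo q (grJ M hQCL) u U (asR 𝒜.toQCAlg (jA.app U x)) (sec q ψ U x) := by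
    intro U x W hW
    show rS (grSymAlg M hQCL) hW ((u.app U).hom (jA.app U x)) = _
    rw [hu]
    exact rS_j hW _
  obtain ⟨r, hr, -⟩ := ProjQRel.existsUnique_glueW u p chart hP _ _ hPL
  have hrOn := ProjQRel.isProjQMapOn_of_glue u _ _ _ _ r hr
  have hX : ∀ a, XTU u (V a) 1 (asR 𝒜.toQCAlg (jA.app (V a) (e a))) = D a := fun a =>
    XTU_of_mapsTo q hjL u hM (V a) _ (sec q ψ (V a) (e a)) (hmaps (V a) (e a)) (D a) (hD a) (hDV a) (hgen a) (hmax a)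
  have hfam : IsGoodFamily u V hV (fun _ => 1) (fun a => asR 𝒜.toQCAlg (jA.app (V a) (e a))) := by
    refine ⟨fun a => ⟨one_pos, h𝒜.2 _ (hV a) _⟩, ?_, fun a => ?_, fun a => ?_⟩
    · refine top_le_iff.1 fun x _ => ?_
      obtain ⟨a, ha⟩ := hcov x
      refine Opens.mem_iSup.2 ⟨a, ?_⟩
      rw [hX a]
      exact ha
    · rw [hX a]
      exact hD a
    · rw [cond3U_iff]
      refine cond3W_congr u (hV a) 1 _ (hX a).symm (hDV a) _
        (cond3W_of_mapsTo q u (V a) (hV a) _ (h𝒜.2 _ (hV a) _) (sec q ψ (V a) (e a)) (hmaps (V a) (e a)) (D a)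
          (hDV a) (G a) (hG a) fun g hg => ?_)
      obtain ⟨t, ht⟩ := hrat a g hg
      exact ⟨asR 𝒜.toQCAlg (jA.app (V a) t), h𝒜.2 _ (hV a) _, sec q ψ (V a) t, hmaps (V a) t, ht⟩
  obtain ⟨htop, himm⟩ := immersion_of_family hjL u _ _ hP _ _ hPL r hrOn hM V hV _ _ hfam
  have hs := surjCond_of_goodFamily hjL h𝒜 u _ _ hPL hM V hV _ _ hfam
  exact exists_immersion_of_surjCond hjL h𝒜 u p chart hP _ _ hPL r hrOn hO hM hs himm

end main

end Groth.Agent.Lib.Helper28.SecVAF
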