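import Groth.Agent.Lib.Helper28.LocGood
import Groth.Agent.Lib.Helper28.SecVAF
import Groth.Agent.Lib.Helper28.VeryAmpleProj
import Groth.Agent.Lib.Helper28.ProjUPUniq1
import Groth.Agent.Lib.Helper28.PnVA

/-!
# `O(1)` on projective space is relatively very ample in the bundle sense
-/

set_option autoImplicit false
universe u
open CategoryTheory CategoryTheory.Limits AlgebraicGeometry Opposite TopologicalSpace
open scoped HomogeneousIdeal
noncomputable section

namespace Groth.Agent.Lib.Helper28.PnToVA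

open Groth.Agent.Lib.Helper28 Groth.Agent.Lib.Helper28.QCohLoc Groth.Agent.Lib.Helper28.TraceAlg
open Groth.Agent.Lib.Helper28.SymAlg Groth.Agent.Lib.Helper28.SymPow
open Groth.Agent.Lib.Helper28.RLPsi Groth.Agent.Lib.Helper28.RLPsiU Groth.Agent.Lib.Helper28.FTApprox
open Groth.Agent.Lib.Helper28.GenLocus Groth.Agent.Lib.Helper28.AmpleCompose

variable (n : ℕ) (R : Type u) [CommRing R]

local notation "𝔓" => CohB1.polyGrading n R

theorem hX (a : Fin (n + 1)) : (MvPolynomial.X a : MvPolynomial (Fin (n + 1)) R) ∈ 𝔓 1 :=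
  MvPolynomial.isHomogeneous_X R a

theorem cover (x : Proj 𝔓) : ∃ a : Fin (n + 1), x ∈ Proj.basicOpen 𝔓 (MvPolynomial.X a) :=
  Segre5.cover_of_adjoin 𝔓 (fun k : Fin (n + 1) => (MvPolynomial.X k : MvPolynomial (Fin (n + 1)) R))
    (fun k => MvPolynomial.isHomogeneous_X R k) (MvPolynomial.adjoin_range_X) x

/-- ratio generation on `D₊(X_a)` -/
theorem mem_closure_ratios (a : Fin (n + 1)) (z : Γ(Proj 𝔓, Proj.basicOpen 𝔓 (MvPolynomial.X a))) :
    z ∈ Subring.closure
      (Set.range (fun b : Fin (n + 1) => ProjFrac.fr 𝔓 (hX n R a) 1 (MvPolynomial.X b) (hX n R b)) ∪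
        Set.range ((CohB1.ProjSpace.toSpec n R).appLE ⊤ (Proj.basicOpen 𝔓 (MvPolynomial.X a)) le_top).hom) := by
  refine VeryAmpleProj.mem_closure_degOne 𝔓 one_pos (hX n R a)
    (Set.range (fun k : Fin (n + 1) => (MvPolynomial.X k : MvPolynomial (Fin (n + 1)) R)))
    MvPolynomial.adjoin_range_X (MvPolynomial.X a) (hX n R a) (pow_one _).symm _ ?_ ?_ z
  · intro r
    refine Subring.subset_closure (Or.inr ⟨(Scheme.ΓSpecIso (CommRingCat.of R)).inv r, ?_⟩)
    exact VeryAmpleProj.toBase_appLE_apply 𝔓 one_pos (hX n R a) r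
  · rintro _ ⟨b, rfl⟩
    refine ⟨1, le_rfl, hX n R b, ?_⟩
    refine Subring.subset_closure (Or.inl ⟨b, ?_⟩)
    show Proj.awayToSection 𝔓 _ _ = Proj.awayToSection 𝔓 _ _
    congr 1
    refine VeryAmpleProj.away_mk_congr 𝔓 (hX n R a) 1 _ ?_
    simp

set_option maxHeartbeats 1600000 in
/-- **`O(1)` on `P^n_R` is very ample relative to `P^n_R → Spec R`, in the bundle sense** -/
theorem isRelVeryAmple_toSpec :
    RelProj.IsRelVeryAmple (CohB1.ProjSpace.toSpec n R) (Twist.twist 𝔓 ((1 : ℕ) : ℤ)) := by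
  classical
  have hcov : ∀ x : Proj 𝔓, ∃ f, f ∈ 𝔓 1 ∧ x ∈ Proj.basicOpen 𝔓 f := fun x => by
    obtain ⟨a, ha⟩ := cover n R x; exact ⟨_, hX n R a, ha⟩
  set q : Proj 𝔓 ⟶ Spec (CommRingCat.of R) := CohB1.ProjSpace.toSpec n R with hq
  set M := Twist.twist 𝔓 ((1 : ℕ) : ℤ) with hMdef
  have hM : PicF.IsInvertible M := TwistCov.isInvertible_twist 𝔓 hcov _
  have hMq : M.IsQuasicoherent := InvQC.isQuasicoherent_of_isInvertible M hM
  have hprop : IsProper q := ProjSpaceBasic.isProper_toSpec n R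
  have hFq : ((Scheme.Modules.pushforward q).obj M).IsQuasicoherent := isQuasicoherent_pushforward q M
  have hQC := isQC_symPre_of_isQuasicoherent ((Scheme.Modules.pushforward q).obj M)
  have h𝒜 := isGrSymAlg ((Scheme.Modules.pushforward q).obj M) hQC
  have hP := RelProjExists.isRelProj (grSymAlg ((Scheme.Modules.pushforward q).obj M) hQC)
  have hO := RelTwistEx.isRelTwist hP 1
  obtain ⟨i, hi, hcomp, ⟨e⟩⟩ := SecVAF.exists_immersion_of_sections q (𝟙 _) h𝒜 _ _ hP hO hM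
    (A := ULift.{u} (Fin (n + 1))) (fun _ => ⊤) (fun _ => isAffineOpen_top _)
    (fun a => Proj.basicOpen 𝔓 (MvPolynomial.X a.down))
    (fun a => Proj.isAffineOpen_basicOpen _ _ (hX n R a.down) one_pos)
    (fun a => le_top) (fun x => by obtain ⟨a, ha⟩ := cover n R x; exact ⟨⟨a⟩, ha⟩)
    (fun a => TwistGen.gsec 𝔓 _ (hX n R a.down))
    (fun a => ProjUPGeom.isGen_gsec 𝔓 (hX n R a.down))
    (fun a x hx hgx => by
      rw [← ProjUPUniq.genLocus_secHom 𝔓 hcov (hX n R a.down)]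
      refine (mem_genLocus_iff_secGenAt hM (TwistAmple.secHom 𝔓 (hX n R a.down)) x).2 ?_
      have h3 : secOf (TwistAmple.secHom 𝔓 (hX n R a.down)) = TwistGen.gsec 𝔓 _ (hX n R a.down) :=
        secOf_ofSection _
      rw [h3]
      exact hgx)
    (fun a => Set.range (fun b : Fin (n + 1) => ProjFrac.fr 𝔓 (hX n R a.down) 1 (MvPolynomial.X b) (hX n R b)))
    (fun a => by
      letI := (q.appLE ⊤ (Proj.basicOpen 𝔓 (MvPolynomial.X a.down)) le_top).hom.toAlgebra
      rw [eq_top_iff]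
      intro z _
      have hz := mem_closure_ratios n R a.down z
      show z ∈ (Algebra.adjoin Γ(Spec (CommRingCat.of R), ⊤) _).toSubring
      refine (Subring.closure_le (t := (Algebra.adjoin Γ(Spec (CommRingCat.of R), ⊤) _).toSubring)).2 ?_ hz
      rintro _ (⟨b, rfl⟩ | ⟨r, rfl⟩)
      · exact Algebra.subset_adjoin ⟨b, rfl⟩
      · exact Subalgebra.algebraMap_mem _ r)
    (fun a g hg => by
      obtain ⟨b, rfl⟩ := hg
      exact ⟨TwistGen.gsec 𝔓 _ (hX n R b), ProjUPGeom.gsec_eq_fr_smul 𝔓 (hX n R b) (hX n R a.down)⟩)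
  exact ⟨_, hFq, _, _, h𝒜, _, _, _, hP, _, _, hO, i, hi, hcomp, ⟨e⟩⟩

end Groth.Agent.Lib.Helper28.PnToVA
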