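import Groth.Agent.Lib.Helper28.RelTwistAlg
import Groth.Agent.Lib.Helper28.RelTwistVal

set_option autoImplicit false
universe u
open CategoryTheory CategoryTheory.Limits AlgebraicGeometry Opposite TopologicalSpace TopCat
open scoped HomogeneousIdeal
noncomputable section

namespace Groth.Agent.Lib.Helper28.RelTwistEx

open Groth.Agent.Lib.Helper28

variable {Y P : Scheme.{u}} (𝒮 : RelProj.QCGrAlg Y) (p : P ⟶ Y)
  (chart : ∀ (U : Y.Opens) (hU : IsAffineOpen U), (((p ⁻¹ᵁ U : P.Opens) : Scheme.{u}) ≅ Proj (𝒮.deg U hU)))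

/-- a chart at the point `x` of the relative `Proj`: an affine open of the base and a point of the `Proj` over it
mapping to `x` -/
structure Ch (x : P) : Type u where
  U : Y.Opens
  hU : IsAffineOpen U
  y : ProjectiveSpectrum (𝒮.deg U hU)
  hy : (RelProj.emb p chart U hU).base y = x

/-- the values at `x` of the sections of `O_P(n)`: one degree-`n` fraction for each chart at `x` -/
def T (n : ℤ) (x : P) : Type u := ∀ c : Ch 𝒮 p chart x, GrTwist.twistAt (𝒮.deg c.U c.hU) n c.y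

variable {𝒮 p chart}

theorem Ch.mem {x : P} (c : Ch 𝒮 p chart x) {W : P.Opens} (hx : x ∈ W) :
    (RelProj.emb p chart c.U c.hU).base c.y ∈ W := by
  rw [c.hy]; exact hx

variable (𝒮 p chart)

/-- the predicate cutting out the sections of `O_P(n)` -/
def IsSec (n : ℤ) {W : P.Opens} (f : ∀ x : W, T 𝒮 p chart n x.1) : Prop :=
  (∀ (U : Y.Opens) (hU : IsAffineOpen U),
    (GrTwist.isLocFracN (𝒮.deg U hU) n).pred
      (fun y : (RelProj.emb p chart U hU ⁻¹ᵁ W : (Proj (𝒮.deg U hU)).Opens) =>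
        f ⟨(RelProj.emb p chart U hU).base y.1, y.2⟩ ⟨U, hU, y.1, rfl⟩)) ∧
  (∀ (x : W) (c d : Ch 𝒮 p chart x.1) (r : Γ(Y, c.U)) (_ : d.U = Y.basicOpen r) (hle : d.U ≤ c.U)
    (h : c.y.asHomogeneousIdeal.toIdeal =
      Ideal.comap (𝒮.res c.hU d.hU hle).toRingHom d.y.asHomogeneousIdeal.toIdeal),
    ((f x d : GrTwist.twistAt (𝒮.deg d.U d.hU) n d.y) : GrTwist.Loc (𝒮.deg d.U d.hU) d.y) =
      RelTwistAlg.locMap' (𝒮.res c.hU d.hU hle).toRingHom c.y d.y h (f x c).1)

/-- the prelocal predicate -/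
def prelocal (n : ℤ) : PrelocalPredicate (X := P.carrier) (fun x : P => T 𝒮 p chart n x) where
  pred {W} f := IsSec 𝒮 p chart n (W := W) f
  res := by
    rintro W' W i f ⟨h1, h2⟩
    refine ⟨fun U hU => ?_, fun x c d r hr hle h => h2 (i x) c d r hr hle h⟩
    exact (GrTwist.isLocFracN (𝒮.deg U hU) n).res
      (homOfLE (show (RelProj.emb p chart U hU ⁻¹ᵁ W' : (Proj (𝒮.deg U hU)).Opens) ≤
        RelProj.emb p chart U hU ⁻¹ᵁ W from fun y hy => i.le hy)) _ (h1 U hU)

/-- the local predicate -/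
def localPred (n : ℤ) : LocalPredicate (X := P.carrier) (fun x : P => T 𝒮 p chart n x) where
  toPrelocalPredicate := prelocal 𝒮 p chart n
  locality := by
    intro W f hloc
    refine ⟨fun U hU => ?_, fun x c d r hr hle h => ?_⟩
    · intro y
      obtain ⟨V, hxV, i, hsec⟩ := hloc ⟨(RelProj.emb p chart U hU).base y.1, y.2⟩
      obtain ⟨V', hyV', i', hfrac⟩ := hsec.1 U hU ⟨y.1, hxV⟩
      exact ⟨V', hyV', i' ≫ homOfLE (show (RelProj.emb p chart U hU ⁻¹ᵁ V : (Proj (𝒮.deg U hU)).Opens) ≤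
        RelProj.emb p chart U hU ⁻¹ᵁ W from fun y hy => i.le hy), hfrac⟩
    · obtain ⟨V, hxV, i, hsec⟩ := hloc x
      exact hsec.2 ⟨x.1, hxV⟩ c d r hr hle h

instance instAddCommGroupT (n : ℤ) (x : P) : AddCommGroup (T 𝒮 p chart n x) :=
  inferInstanceAs (AddCommGroup (∀ c : Ch 𝒮 p chart x, GrTwist.twistAt (𝒮.deg c.U c.hU) n c.y))

variable {𝒮 p chart} in
/-- evaluation of a function on `W` at a chart of a point of `W` -/
def evO {W : P.Opens} (s : Γ(P, W)) (x : W) (c : Ch 𝒮 p chart x.1) : GrTwist.A0 (𝒮.deg c.U c.hU) c.y :=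
  GrModQC.valO (𝒮.deg c.U c.hU) ((RelProj.emb p chart c.U c.hU).app W s) ⟨c.y, c.mem x.2⟩

variable {𝒮 p chart} in
theorem evO_one {W : P.Opens} (x : W) (c : Ch 𝒮 p chart x.1) : evO (1 : Γ(P, W)) x c = 1 := by
  unfold evO
  rw [map_one]
  rfl

variable {𝒮 p chart} in
theorem evO_zero {W : P.Opens} (x : W) (c : Ch 𝒮 p chart x.1) : evO (0 : Γ(P, W)) x c = 0 := by
  unfold evO
  rw [map_zero]
  rfl

variable {𝒮 p chart} in
theorem evO_mul {W : P.Opens} (s t : Γ(P, W)) (x : W) (c : Ch 𝒮 p chart x.1) :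
    evO (s * t) x c = evO s x c * evO t x c := by
  unfold evO
  rw [map_mul]
  rfl

variable {𝒮 p chart} in
theorem evO_add {W : P.Opens} (s t : Γ(P, W)) (x : W) (c : Ch 𝒮 p chart x.1) :
    evO (s + t) x c = evO s x c + evO t x c := by
  unfold evO
  rw [map_add]
  rfl

variable {𝒮 p chart} in
theorem evO_res {W W' : P.Opens} (h : W' ≤ W) (s : Γ(P, W)) (x : W') (c : Ch 𝒮 p chart x.1) :
    evO (QCohLoc.resO h s) x c = evO s ⟨x.1, h x.2⟩ c := by
  unfold evO
  rw [QCohLoc.app_resO]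
  rfl

instance smulT (n : ℤ) (W : (Opens P)ᵒᵖ) : SMul (P.presheaf.obj W) (∀ x : W.unop, T 𝒮 p chart n x.1) :=
  ⟨fun s f x c => evO s x c • f x c⟩

theorem smulT_apply (n : ℤ) (W : (Opens P)ᵒᵖ) (s : P.presheaf.obj W) (f : ∀ x : W.unop, T 𝒮 p chart n x.1)
    (x : W.unop) (c : Ch 𝒮 p chart x.1) : (s • f) x c = evO s x c • f x c := rfl

instance modT (n : ℤ) (W : (Opens P)ᵒᵖ) : Module (P.presheaf.obj W) (∀ x : W.unop, T 𝒮 p chart n x.1) where
  one_smul f := by
    funext x c; rw [smulT_apply, evO_one]; exact one_smul _ (f x c)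
  mul_smul s t f := by
    funext x c; simp only [smulT_apply]; rw [evO_mul]; exact mul_smul _ _ (f x c)
  smul_zero s := by
    funext x c; rw [smulT_apply]; exact smul_zero _
  smul_add s f g := by
    funext x c; simp only [smulT_apply]; exact smul_add _ (f x c) (g x c)
  add_smul s t f := by
    funext x c; simp only [smulT_apply]; rw [evO_add]; exact add_smul _ _ (f x c)
  zero_smul f := by
    funext x c; rw [smulT_apply, evO_zero]; exact zero_smul _ (f x c)

variable {𝒮 p chart} in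
/-- values of functions on `P` read on a chart and on a chart over a basic open of it -/
theorem evO_compat (hP : RelProj.IsRelProj 𝒮 p chart) {W : P.Opens} (s : Γ(P, W)) (x : W)
    (c d : Ch 𝒮 p chart x.1) (r : Γ(Y, c.U)) (hr : d.U = Y.basicOpen r) (hle : d.U ≤ c.U)
    (h : c.y.asHomogeneousIdeal.toIdeal =
      Ideal.comap (𝒮.res c.hU d.hU hle).toRingHom d.y.asHomogeneousIdeal.toIdeal) :
    (evO s x d).val = RelTwistAlg.locMap' (𝒮.res c.hU d.hU hle).toRingHom c.y d.y h (evO s x c).val := by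
  obtain ⟨x, hx⟩ := x
  obtain ⟨V, hV, y, hy⟩ := c
  obtain ⟨D, hD, z, hz⟩ := d
  dsimp only at hy hz r hr hle h ⊢
  subst hz
  obtain rfl := RelTwistAlg.eq_comap (𝒮.res hV hD hle) (RelTwistVal.irrelevant_le_map_of_eq 𝒮 hV hD r hr hle) y z h
  have hy' : (RelProj.emb p chart V hV).base (ProjectiveSpectrum.comap (𝒮.res hV hD hle)
      (RelTwistVal.irrelevant_le_map_of_eq 𝒮 hV hD r hr hle) z) ∈ W := by
    rw [hy]; exact hx
  exact RelTwistVal.valO_basic hP hV hD r hr hle W s z hx hy'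

variable (hP : RelProj.IsRelProj 𝒮 p chart)

/-- the sections of `O_P(n)` over `W`, as a submodule of the dependent functions -/
def sectL (n : ℤ) (W : (Opens P)ᵒᵖ) : Submodule (P.presheaf.obj W) (∀ x : W.unop, T 𝒮 p chart n x.1) where
  carrier := {f | IsSec 𝒮 p chart n f}
  zero_mem' := by
    refine ⟨fun U hU => GrTwist.zero_memN n (op (RelProj.emb p chart U hU ⁻¹ᵁ W.unop)), ?_⟩
    intro x c d r hr hle h
    change ((0 : GrTwist.twistAt (𝒮.deg d.U d.hU) n d.y) : GrTwist.Loc (𝒮.deg d.U d.hU) d.y) =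
      RelTwistAlg.locMap' _ c.y d.y h ((0 : GrTwist.twistAt (𝒮.deg c.U c.hU) n c.y) : GrTwist.Loc _ c.y)
    simp only [ZeroMemClass.coe_zero, map_zero]
  add_mem' := by
    rintro f g ⟨hf1, hf2⟩ ⟨hg1, hg2⟩
    refine ⟨fun U hU => GrTwist.add_memN n (op (RelProj.emb p chart U hU ⁻¹ᵁ W.unop)) _ _ (hf1 U hU) (hg1 U hU), ?_⟩
    intro x c d r hr hle h
    change ((f x d + g x d : GrTwist.twistAt (𝒮.deg d.U d.hU) n d.y) : GrTwist.Loc (𝒮.deg d.U d.hU) d.y) =
      RelTwistAlg.locMap' _ c.y d.y h ((f x c + g x c : GrTwist.twistAt (𝒮.deg c.U c.hU) n c.y) : GrTwist.Loc _ c.y)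
    simp only [AddMemClass.coe_add, map_add]
    rw [hf2 x c d r hr hle h, hg2 x c d r hr hle h]
  smul_mem' := by
    rintro s f ⟨hf1, hf2⟩
    refine ⟨fun U hU => GrTwist.smul_memN n (op (RelProj.emb p chart U hU ⁻¹ᵁ W.unop))
      ((RelProj.emb p chart U hU).app W.unop s) _ (hf1 U hU), ?_⟩
    intro x c d r hr hle h
    change ((evO s x d • f x d : GrTwist.twistAt (𝒮.deg d.U d.hU) n d.y) : GrTwist.Loc (𝒮.deg d.U d.hU) d.y) =
      RelTwistAlg.locMap' _ c.y d.y h ((evO s x c • f x c : GrTwist.twistAt (𝒮.deg c.U c.hU) n c.y) : GrTwist.Loc _ c.y)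
    rw [GrTwist.coe_smul_val, GrTwist.coe_smul_val, map_mul, ← evO_compat hP s x c d r hr hle h,
      hf2 x c d r hr hle h]

/-- restriction of sections -/
def resL (n : ℤ) {W W' : (Opens P)ᵒᵖ} (i : W ⟶ W') (f : sectL 𝒮 p chart hP n W) : sectL 𝒮 p chart hP n W' :=
  ⟨fun x => f.1 (i.unop x), (prelocal 𝒮 p chart n).res i.unop f.1 f.2⟩

/-- the presheaf of abelian groups underlying `O_P(n)` -/
def LPre (n : ℤ) : TopCat.Presheaf AddCommGrpCat.{u} P.carrier where
  obj W := AddCommGrpCat.of (sectL 𝒮 p chart hP n W)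
  map i := AddCommGrpCat.ofHom
    { toFun := resL 𝒮 p chart hP n i
      map_zero' := rfl
      map_add' := fun _ _ => rfl }

/-- `O_P(n)` as a presheaf of modules -/
def LPMod (n : ℤ) : PresheafOfModules.{u} (P.presheaf ⋙ forget₂ CommRingCat RingCat) :=
  letI (X : (Opens P)ᵒᵖ) :
      Module ↑((P.presheaf ⋙ forget₂ CommRingCat RingCat).obj X) ↑((LPre 𝒮 p chart hP n).obj X) := by
    dsimp; exact (inferInstance : Module (P.presheaf.obj X) (sectL 𝒮 p chart hP n X))
  .ofPresheaf (LPre 𝒮 p chart hP n) fun W W' i r m => by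
    refine Subtype.ext (funext fun x => funext fun c => ?_)
    change evO r (i.unop x) c • m.1 (i.unop x) c = evO (P.presheaf.map i r) x c • m.1 (i.unop x) c
    exact congrArg (· • m.1 (i.unop x) c) (evO_res i.unop.le r x c).symm

/-- the twisting sheaf `O_P(n)` of a relative `Proj` -/
def L (n : ℤ) : P.Modules where
  val := LPMod 𝒮 p chart hP n
  isSheaf := (TopCat.Presheaf.isSheaf_iff_isSheaf_comp (forget AddCommGrpCat) _).2
    (subsheafToTypes (localPred 𝒮 p chart n)).2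

/-- the chart identification on sections -/
def lamApp (n : ℤ) (U : Y.Opens) (hU : IsAffineOpen U) (W : P.Opens) :
    sectL 𝒮 p chart hP n (op W) →+
      GrTwist.sectN (𝒜 := 𝒮.deg U hU) n (op (RelProj.emb p chart U hU ⁻¹ᵁ W)) where
  toFun f := ⟨fun y => f.1 ⟨(RelProj.emb p chart U hU).base y.1, y.2⟩ ⟨U, hU, y.1, rfl⟩, f.2.1 U hU⟩
  map_zero' := rfl
  map_add' _ _ := rfl

/-- the chart identifications of `O_P(n)` -/
def lam (n : ℤ) (U : Y.Opens) (hU : IsAffineOpen U) :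
    L 𝒮 p chart hP n ⟶
      (Scheme.Modules.pushforward (RelProj.emb p chart U hU)).obj (GrTwist.twist (𝒮.deg U hU) n) :=
  ⟨PresheafOfModules.homMk
    { app := fun W => AddCommGrpCat.ofHom (lamApp 𝒮 p chart hP n U hU W.unop)
      naturality := fun _ _ _ => rfl }
    fun _ _ _ => rfl⟩

theorem lam_app_val (n : ℤ) (U : Y.Opens) (hU : IsAffineOpen U) (W : P.Opens)
    (s : sectL 𝒮 p chart hP n (op W)) (y : (RelProj.emb p chart U hU ⁻¹ᵁ W : (Proj (𝒮.deg U hU)).Opens)) :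
    GrTwist.val (V := RelProj.emb p chart U hU ⁻¹ᵁ W) (((lam 𝒮 p chart hP n U hU).app W) s) y =
      (s.1 ⟨(RelProj.emb p chart U hU).base y.1, y.2⟩ ⟨U, hU, y.1, rfl⟩).1 := rfl

end Groth.Agent.Lib.Helper28.RelTwistEx
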