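import Groth.Agent.Lib.Helper28.ProdBundleVA
import Groth.Agent.Lib.Helper28.PnVA
import Groth.Agent.Lib.Helper28.RelTwistEx

/-!
# External tensor products of relatively very ample modules are relatively very ample
-/

set_option autoImplicit false
universe u
open CategoryTheory CategoryTheory.Limits AlgebraicGeometry TopologicalSpace Opposite
noncomputable section

namespace Groth.Agent.Lib.Helper28.VAProd

open Groth.Agent.Lib.Helper28 Groth.Agent.Lib.Helper28.QCohLoc
open Groth.Agent.Lib.Helper28.GenLocus Groth.Agent.Lib.Helper28.SymAlg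
open Groth.Agent.Lib.Helper28.AmpleLocal Groth.Agent.Lib.Helper28.PullbackInv
open Groth.Agent.Lib.Helper28.ProdBundleVA

/-- relative very ampleness is inherited by the inverse image along an immersion -/
theorem isRelVeryAmple_comp_immersion {X' X Y : Scheme.{u}} (k : X' ⟶ X) [IsImmersion k] (q : X ⟶ Y)
    (L : X.Modules) (h : RelProj.IsRelVeryAmple q L) :
    RelProj.IsRelVeryAmple (k ≫ q) ((Scheme.Modules.pullback k).obj L) := by
  obtain ⟨E, hE, 𝒮, j, hj, P, p, chart, hP, O1, lam, hO, i, himm, hcomp, ⟨t⟩⟩ := h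
  have : IsImmersion i := himm
  refine ⟨E, hE, 𝒮, j, hj, P, p, chart, hP, O1, lam, hO, k ≫ i, inferInstance, ?_, ⟨?_⟩⟩
  · rw [Category.assoc, hcomp]
  · exact (Scheme.Modules.pullback k).mapIso t ≪≫ (Scheme.Modules.pullbackComp k i).app O1

/-- **the external tensor product of two relatively very ample modules is relatively very ample** -/
theorem isRelVeryAmple_extTensor {X X' Y W : Scheme.{u}} (q : X ⟶ Y) (q' : X' ⟶ Y) (a : W ⟶ X) (a' : W ⟶ X')
    (hW : IsPullback a a' q q') (L : X.Modules) (L' : X'.Modules)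
    (hL : PicF.IsInvertible L) (hL' : PicF.IsInvertible L')
    (hva : RelProj.IsRelVeryAmple q L) (hva' : RelProj.IsRelVeryAmple q' L') :
    RelProj.IsRelVeryAmple (a ≫ q)
      (CohB1.tensorMod ((Scheme.Modules.pullback a).obj L) ((Scheme.Modules.pullback a').obj L')) := by
  classical
  obtain ⟨E, hE, 𝒮, j, hS, P, p, chart, hP, O1, lam, hO, i, himm, hi, ⟨eL⟩⟩ := hva
  obtain ⟨E', hE', 𝒮', j', hS', P', p', chart', hP', O1', lam', hO', i', himm', hi', ⟨eL'⟩⟩ := hva'
  have : E.IsQuasicoherent := hE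
  have : E'.IsQuasicoherent := hE'
  have hO₁ : RelProj.IsRelTwist 𝒮 p chart ((1 : ℕ) : ℤ) O1 lam := hO
  have hO₂ : RelProj.IsRelTwist 𝒮' p' chart' ((1 : ℕ) : ℤ) O1' lam' := hO'
  have hF : (CohB1.tensorMod E E').IsQuasicoherent := inferInstance
  have hQC := isQC_symPre_of_isQuasicoherent (CohB1.tensorMod E E')
  have h𝒜 := isGrSymAlg (CohB1.tensorMod E E') hQC
  have hQ := RelProjExists.isRelProj (grSymAlg (CohB1.tensorMod E E') hQC)
  have hOQ := RelTwistEx.isRelTwist hQ 1
  obtain ⟨s, hs_imm, hs_comp, ⟨eM⟩⟩ := exists_segre_immersion hS hP hO₁ hS' hP' hO₂ h𝒜 _ _ hQ hOQ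
  have hw : (a ≫ i) ≫ p = (a' ≫ i') ≫ p' := by
    rw [Category.assoc, hi, Category.assoc, hi', hW.w]
  let k : W ⟶ pullback p p' := pullback.lift (a ≫ i) (a' ≫ i') hw
  have hk1 : k ≫ pullback.fst p p' = a ≫ i := pullback.lift_fst _ _ _
  have hk2 : k ≫ pullback.snd p p' = a' ≫ i' := pullback.lift_snd _ _ _
  have hkimm : IsImmersion k := by
    have h1 : IsImmersion (pullback.map q q' p p' i i' (𝟙 Y) ((Category.comp_id _).trans hi.symm)
        ((Category.comp_id _).trans hi'.symm)) :=
      MorphismProperty.pullbackMap (P := @IsImmersion) himm himm' hi.symm hi'.symm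
    have h2 : k = hW.isoPullback.hom ≫ pullback.map q q' p p' i i' (𝟙 Y) ((Category.comp_id _).trans hi.symm)
        ((Category.comp_id _).trans hi'.symm) := by
      apply pullback.hom_ext
      · rw [hk1, Category.assoc, pullback.lift_fst, ← Category.assoc, IsPullback.isoPullback_hom_fst]
      · rw [hk2, Category.assoc, pullback.lift_snd, ← Category.assoc, IsPullback.isoPullback_hom_snd]
    rw [h2]
    infer_instance
  have : IsImmersion s := hs_imm
  have hN₁ : PicF.IsInvertible (N₁ p p' O1) := isInvertible_pullback _ (RLPsiV.isInvertible_O1 hS hO₁)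
  have hN₂ : PicF.IsInvertible (N₂ p p' O1') := isInvertible_pullback _ (RLPsiV.isInvertible_O1 hS' hO₂)
  obtain ⟨ψ, -⟩ := exists_pullback_tensorMod_iso k hN₁ hN₂
  refine ⟨CohB1.tensorMod E E', hF, _, _, h𝒜, _, _, _, hQ, _, _, hOQ, k ≫ s, inferInstance, ?_, ⟨?_⟩⟩
  · rw [Category.assoc, hs_comp, ← Category.assoc, hk1, Category.assoc, hi]
  · have e₁ : (Scheme.Modules.pullback a).obj L ≅ (Scheme.Modules.pullback k).obj (N₁ p p' O1) :=
      (Scheme.Modules.pullback a).mapIso eL ≪≫ (Scheme.Modules.pullbackComp a i).app O1 ≪≫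
        (Scheme.Modules.pullbackCongr hk1.symm).app O1 ≪≫
        ((Scheme.Modules.pullbackComp k (pullback.fst p p')).app O1).symm
    have e₂ : (Scheme.Modules.pullback a').obj L' ≅ (Scheme.Modules.pullback k).obj (N₂ p p' O1') :=
      (Scheme.Modules.pullback a').mapIso eL' ≪≫ (Scheme.Modules.pullbackComp a' i').app O1' ≪≫
        (Scheme.Modules.pullbackCongr hk2.symm).app O1' ≪≫
        ((Scheme.Modules.pullbackComp k (pullback.snd p p')).app O1').symm
    exact PicGrp.tensorModIso e₁ e₂ ≪≫ ψ.symm ≪≫ (Scheme.Modules.pullback k).mapIso eM ≪≫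
      (Scheme.Modules.pullbackComp k s).app _

end Groth.Agent.Lib.Helper28.VAProd
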