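import Groth.Agent.Lib.Helper28.PnToVA
import Groth.Agent.Lib.Helper28.VAProd
import Groth.Agent.S12474

/-!
# Very ample in the projective-space sense implies very ample in the bundle sense
-/

set_option autoImplicit false
universe u
open CategoryTheory CategoryTheory.Limits AlgebraicGeometry Opposite TopologicalSpace
noncomputable section

namespace Groth.Agent.Lib.Helper28.PnToVA

open Groth.Agent.Lib.Helper28

/-- `O(1)` on `P^n_S` is very ample relative to `P^n_S → S`, in the bundle sense -/
theorem isRelVeryAmple_toBase (n : ℕ) (S : Scheme.{u}) :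
    RelProj.IsRelVeryAmple (CohB1.ProjSpaceOver.toBase n S) (Twist.twistOver n S 1) := by
  have hcov : ∀ x : Proj (CohB1.polyGrading n (ULift.{u} ℤ)), ∃ f, f ∈ CohB1.polyGrading n (ULift.{u} ℤ) 1 ∧
      x ∈ Proj.basicOpen (CohB1.polyGrading n (ULift.{u} ℤ)) f := fun x => by
    obtain ⟨a, ha⟩ := cover n (ULift.{u} ℤ) x; exact ⟨_, hX n _ a, ha⟩
  exact Groth.Agent.S12474.result (CohB1.ProjSpace.toSpec n (ULift.{u} ℤ)) (specULiftZIsTerminal.from S)
    (pullback.fst _ _) (pullback.snd _ _) (IsPullback.of_hasPullback _ _) _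
    (TwistCov.isInvertible_twist _ hcov _) (isRelVeryAmple_toSpec n (ULift.{u} ℤ))

/-- **very ample for some projective space implies very ample for some projective bundle** -/
theorem isRelVeryAmple_of_isRelVeryAmplePn {X S : Scheme.{u}} (f : X ⟶ S) (L : X.Modules)
    (h : RelAmple.IsRelVeryAmplePn f L) : RelProj.IsRelVeryAmple f L := by
  obtain ⟨n, i, hi, hcomp, ⟨e⟩⟩ := h
  have : IsImmersion i := hi
  have h1 := VAProd.isRelVeryAmple_comp_immersion i (CohB1.ProjSpaceOver.toBase n S) (Twist.twistOver n S 1)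
    (isRelVeryAmple_toBase n S)
  have h2 : i ≫ CohB1.ProjSpaceOver.toBase n S = f := hcomp
  rw [h2] at h1
  exact PnVA.isRelVeryAmple_of_iso f e.symm h1

end Groth.Agent.Lib.Helper28.PnToVA
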