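import Groth.Agent.Lib.Helper28.Segre2

/-!
# Functions on a fibre product of affine schemes are generated by the functions on the factors
-/

set_option autoImplicit false
universe u
open CategoryTheory CategoryTheory.Limits AlgebraicGeometry Opposite TopologicalSpace TensorProduct
noncomputable section

namespace Groth.Agent.Lib.Helper28.ProdGen

/-- **the ring of functions of a fibre product of affine schemes is generated by the functions on the factors** -/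
theorem closure_range_appTop_eq_top {D U₁ U₂ S₀ : Scheme.{u}} [IsAffine U₁] [IsAffine U₂] [IsAffine S₀]
    {a : D ⟶ U₁} {b : D ⟶ U₂} {f : U₁ ⟶ S₀} {g : U₂ ⟶ S₀} (hsq : IsPullback a b f g) :
    Subring.closure (Set.range a.appTop.hom ∪ Set.range b.appTop.hom) = ⊤ := by
  let _ : Algebra Γ(S₀, ⊤) Γ(U₁, ⊤) := f.appTop.hom.toAlgebra
  let _ : Algebra Γ(S₀, ⊤) Γ(U₂, ⊤) := g.appTop.hom.toAlgebra
  have hT := Segre2.isPullback_tensor (R := Γ(S₀, ⊤)) Γ(U₁, ⊤) Γ(U₂, ⊤)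
  have h1 : IsPullback (a ≫ U₁.isoSpec.hom) (b ≫ U₂.isoSpec.hom)
      (Spec.map (CommRingCat.ofHom (algebraMap Γ(S₀, ⊤) Γ(U₁, ⊤))))
      (Spec.map (CommRingCat.ofHom (algebraMap Γ(S₀, ⊤) Γ(U₂, ⊤)))) := by
    refine IsPullback.of_iso hsq (Iso.refl D) U₁.isoSpec U₂.isoSpec S₀.isoSpec ?_ ?_ ?_ ?_
    · simp
    · simp
    · exact (Scheme.isoSpec_hom_naturality f).symm
    · exact (Scheme.isoSpec_hom_naturality g).symm
  let e := IsPullback.isoIsPullback _ _ h1 hT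
  have he1 : e.hom ≫ Spec.map (CommRingCat.ofHom
      (Algebra.TensorProduct.includeLeftRingHom : Γ(U₁, ⊤) →+* Γ(U₁, ⊤) ⊗[Γ(S₀, ⊤)] Γ(U₂, ⊤))) =
      a ≫ U₁.isoSpec.hom := IsPullback.isoIsPullback_hom_fst _ _ h1 hT
  have he2 : e.hom ≫ Spec.map (CommRingCat.ofHom
      (Algebra.TensorProduct.includeRight (R := Γ(S₀, ⊤)) (A := Γ(U₁, ⊤)) (B := Γ(U₂, ⊤))).toRingHom) =
      b ≫ U₂.isoSpec.hom := IsPullback.isoIsPullback_hom_snd _ _ h1 hT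
  let Φ : (Γ(U₁, ⊤) ⊗[Γ(S₀, ⊤)] Γ(U₂, ⊤)) →+* Γ(D, ⊤) :=
    e.hom.appTop.hom.comp (Scheme.ΓSpecIso (CommRingCat.of (Γ(U₁, ⊤) ⊗[Γ(S₀, ⊤)] Γ(U₂, ⊤)))).inv.hom
  have hΦ1 : ∀ b₁ : Γ(U₁, ⊤), Φ (b₁ ⊗ₜ 1) ∈ Set.range a.appTop.hom := by
    intro b₁
    have n1 := congrArg (fun φ => φ.hom b₁) (Scheme.ΓSpecIso_inv_naturality (CommRingCat.ofHom
      (Algebra.TensorProduct.includeLeftRingHom : Γ(U₁, ⊤) →+* Γ(U₁, ⊤) ⊗[Γ(S₀, ⊤)] Γ(U₂, ⊤))))
    have n2 := congrArg (fun φ => φ.appTop.hom ((Scheme.ΓSpecIso Γ(U₁, ⊤)).inv.hom b₁)) he1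
    refine ⟨U₁.isoSpec.hom.appTop.hom ((Scheme.ΓSpecIso Γ(U₁, ⊤)).inv.hom b₁), ?_⟩
    refine Eq.trans ?_ (n2.symm.trans ?_)
    · simp
    · show e.hom.appTop.hom _ = e.hom.appTop.hom _
      congr 1
      exact n1.symm
  have hΦ2 : ∀ b₂ : Γ(U₂, ⊤), Φ (1 ⊗ₜ b₂) ∈ Set.range b.appTop.hom := by
    intro b₂
    have n1 := congrArg (fun φ => φ.hom b₂) (Scheme.ΓSpecIso_inv_naturality (CommRingCat.ofHom
      (Algebra.TensorProduct.includeRight (R := Γ(S₀, ⊤)) (A := Γ(U₁, ⊤)) (B := Γ(U₂, ⊤))).toRingHom))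
    have n2 := congrArg (fun φ => φ.appTop.hom ((Scheme.ΓSpecIso Γ(U₂, ⊤)).inv.hom b₂)) he2
    refine ⟨U₂.isoSpec.hom.appTop.hom ((Scheme.ΓSpecIso Γ(U₂, ⊤)).inv.hom b₂), ?_⟩
    refine Eq.trans ?_ (n2.symm.trans ?_)
    · simp
    · show e.hom.appTop.hom _ = e.hom.appTop.hom _
      congr 1
      exact n1.symm
  have hΦ : ∀ w, Φ w ∈ Subring.closure (Set.range a.appTop.hom ∪ Set.range b.appTop.hom) := by
    intro w
    induction w using TensorProduct.induction_on with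
    | zero => rw [map_zero]; exact Subring.zero_mem _
    | tmul b₁ b₂ =>
      have : (b₁ ⊗ₜ[Γ(S₀, ⊤)] b₂ : Γ(U₁, ⊤) ⊗[Γ(S₀, ⊤)] Γ(U₂, ⊤)) = (b₁ ⊗ₜ 1) * (1 ⊗ₜ b₂) := by
        rw [Algebra.TensorProduct.tmul_mul_tmul, mul_one, one_mul]
      rw [this, map_mul]
      exact Subring.mul_mem _ (Subring.subset_closure (Or.inl (hΦ1 b₁))) (Subring.subset_closure (Or.inr (hΦ2 b₂)))
    | add x y hx hy => rw [map_add]; exact Subring.add_mem _ hx hy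
  rw [eq_top_iff]
  intro z _
  have hz : z = Φ ((Scheme.ΓSpecIso (CommRingCat.of (Γ(U₁, ⊤) ⊗[Γ(S₀, ⊤)] Γ(U₂, ⊤)))).hom.hom (e.inv.appTop.hom z)) := by
    show z = e.hom.appTop.hom ((Scheme.ΓSpecIso _).inv.hom ((Scheme.ΓSpecIso _).hom.hom (e.inv.appTop.hom z)))
    have h2 : (Scheme.ΓSpecIso (CommRingCat.of (Γ(U₁, ⊤) ⊗[Γ(S₀, ⊤)] Γ(U₂, ⊤)))).inv.hom
        ((Scheme.ΓSpecIso _).hom.hom (e.inv.appTop.hom z)) = e.inv.appTop.hom z := by
      have := congrArg (fun φ => φ.hom (e.inv.appTop.hom z))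
        (Scheme.ΓSpecIso (CommRingCat.of (Γ(U₁, ⊤) ⊗[Γ(S₀, ⊤)] Γ(U₂, ⊤)))).hom_inv_id
      exact this
    rw [h2]
    have h3 : e.inv.appTop ≫ e.hom.appTop = 𝟙 _ := by
      rw [← Scheme.Hom.comp_appTop, e.hom_inv_id]
      rfl
    exact (congrArg (fun φ => φ.hom z) h3).symm
  rw [hz]
  exact hΦ _

/-- restriction of functions along an open immersion onto its range is bijective -/
theorem appLE_bijective_of_opensRange {X Y : Scheme.{u}} (f : X ⟶ Y) [IsOpenImmersion f] (W : Y.Opens)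
    (hW : f.opensRange = W) (e : (⊤ : X.Opens) ≤ f ⁻¹ᵁ W) : Function.Bijective (f.appLE W ⊤ e).hom := by
  subst hW
  have h1 : IsIso (f.app f.opensRange) := Scheme.Hom.isIso_app f f.opensRange le_rfl
  have h2 : IsIso (homOfLE e) := ⟨homOfLE le_top, Subsingleton.elim _ _, Subsingleton.elim _ _⟩
  have h3 : IsIso (X.presheaf.map (homOfLE e).op) := inferInstance
  have h4 : IsIso (f.appLE f.opensRange ⊤ e) := by
    unfold Scheme.Hom.appLE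
    infer_instance
  exact ConcreteCategory.bijective_of_isIso (f.appLE f.opensRange ⊤ e)

section opens

variable {X Y S : Scheme.{u}} (f : X ⟶ S) (g : Y ⟶ S) (S₀ : S.Opens)
  (U₁ : X.Opens) (h₁ : U₁ ≤ f ⁻¹ᵁ S₀) (U₂ : Y.Opens) (h₂ : U₂ ≤ g ⁻¹ᵁ S₀)

/-- the open immersion `U₁ ×_{S₀} U₂ ⟶ X ×_S Y` -/
abbrev mapOpen : pullback (f.resLE S₀ U₁ h₁) (g.resLE S₀ U₂ h₂) ⟶ pullback f g :=
  pullback.map (f.resLE S₀ U₁ h₁) (g.resLE S₀ U₂ h₂) f g U₁.ι U₂.ι S₀.ι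
    (Scheme.Hom.resLE_comp_ι f h₁) (Scheme.Hom.resLE_comp_ι g h₂)

theorem opensRange_mapOpen :
    (mapOpen f g S₀ U₁ h₁ U₂ h₂).opensRange = pullback.fst f g ⁻¹ᵁ U₁ ⊓ pullback.snd f g ⁻¹ᵁ U₂ := by
  ext z
  show z ∈ Set.range (mapOpen f g S₀ U₁ h₁ U₂ h₂) ↔
    z ∈ (pullback.fst f g ⁻¹ᵁ U₁ ⊓ pullback.snd f g ⁻¹ᵁ U₂ : (pullback f g).Opens)
  rw [Scheme.Pullback.range_map, Scheme.Opens.range_ι, Scheme.Opens.range_ι]
  rfl

include h₁ h₂ in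
/-- **the functions on `pr₁⁻¹ U₁ ∩ pr₂⁻¹ U₂` are generated by the functions on `U₁` and on `U₂`** (all three opens and
the open `S₀` of the base being affine) -/
theorem closure_range_appLE_eq_top (hS₀ : IsAffineOpen S₀) (hU₁ : IsAffineOpen U₁) (hU₂ : IsAffineOpen U₂) :
    Subring.closure
      (Set.range ((pullback.fst f g).appLE U₁ (pullback.fst f g ⁻¹ᵁ U₁ ⊓ pullback.snd f g ⁻¹ᵁ U₂) inf_le_left).hom ∪
       Set.range ((pullback.snd f g).appLE U₂ (pullback.fst f g ⁻¹ᵁ U₁ ⊓ pullback.snd f g ⁻¹ᵁ U₂) inf_le_right).hom) =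
      ⊤ := by
  have : IsAffine (↑S₀ : Scheme.{u}) := hS₀
  have : IsAffine (↑U₁ : Scheme.{u}) := hU₁
  have : IsAffine (↑U₂ : Scheme.{u}) := hU₂
  set D := pullback.fst f g ⁻¹ᵁ U₁ ⊓ pullback.snd f g ⁻¹ᵁ U₂ with hD
  set m := mapOpen f g S₀ U₁ h₁ U₂ h₂ with hm
  have hrange : m.opensRange = D := opensRange_mapOpen f g S₀ U₁ h₁ U₂ h₂
  have hle : (⊤ : (pullback (f.resLE S₀ U₁ h₁) (g.resLE S₀ U₂ h₂)).Opens) ≤ m ⁻¹ᵁ D := by
    intro z _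
    show m z ∈ D
    rw [← hrange]
    exact ⟨z, rfl⟩
  have hbij := appLE_bijective_of_opensRange m D hrange hle
  have hG := closure_range_appTop_eq_top
    (IsPullback.of_hasPullback (f.resLE S₀ U₁ h₁) (g.resLE S₀ U₂ h₂))
  have hfst : m ≫ pullback.fst f g = pullback.fst _ _ ≫ U₁.ι := pullback.lift_fst _ _ _
  have hsnd : m ≫ pullback.snd f g = pullback.snd _ _ ≫ U₂.ι := pullback.lift_snd _ _ _
  have hb₁ := appLE_bijective_of_opensRange U₁.ι U₁ U₁.opensRange_ι (by intro z _; exact z.2)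
  have hb₂ := appLE_bijective_of_opensRange U₂.ι U₂ U₂.opensRange_ι (by intro z _; exact z.2)
  have key : Set.range (pullback.fst (f.resLE S₀ U₁ h₁) (g.resLE S₀ U₂ h₂)).appTop.hom ∪
      Set.range (pullback.snd (f.resLE S₀ U₁ h₁) (g.resLE S₀ U₂ h₂)).appTop.hom ⊆
      (m.appLE D ⊤ hle).hom '' (Set.range ((pullback.fst f g).appLE U₁ D inf_le_left).hom ∪
        Set.range ((pullback.snd f g).appLE U₂ D inf_le_right).hom) := by
    rintro _ (⟨c, rfl⟩ | ⟨c, rfl⟩)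
    · obtain ⟨c₀, rfl⟩ := hb₁.2 c
      refine ⟨((pullback.fst f g).appLE U₁ D inf_le_left).hom c₀, Or.inl ⟨c₀, rfl⟩, ?_⟩
      have e1 : (pullback.fst f g).appLE U₁ D inf_le_left ≫ m.appLE D ⊤ hle =
          (m ≫ pullback.fst f g).appLE U₁ ⊤ (by rw [hfst]; intro z _; exact (pullback.fst (f.resLE S₀ U₁ h₁) (g.resLE S₀ U₂ h₂) z).2) :=
        Scheme.Hom.appLE_comp_appLE _ _ _ _ _ _ _
      have e2 : (m ≫ pullback.fst f g).appLE U₁ ⊤ (by rw [hfst]; intro z _; exact (pullback.fst (f.resLE S₀ U₁ h₁) (g.resLE S₀ U₂ h₂) z).2) =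
          U₁.ι.appLE U₁ ⊤ (by intro z _; exact z.2) ≫
            (pullback.fst (f.resLE S₀ U₁ h₁) (g.resLE S₀ U₂ h₂)).appLE ⊤ ⊤ le_top := by
        rw [Scheme.Hom.appLE_comp_appLE]
        congr 1
      have := congrArg (fun φ => φ.hom c₀) (e1.trans e2)
      refine this.trans ?_
      simp [Scheme.Hom.appLE]
    · obtain ⟨c₀, rfl⟩ := hb₂.2 c
      refine ⟨((pullback.snd f g).appLE U₂ D inf_le_right).hom c₀, Or.inr ⟨c₀, rfl⟩, ?_⟩
      have e1 : (pullback.snd f g).appLE U₂ D inf_le_right ≫ m.appLE D ⊤ hle =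
          (m ≫ pullback.snd f g).appLE U₂ ⊤ (by rw [hsnd]; intro z _; exact (pullback.snd (f.resLE S₀ U₁ h₁) (g.resLE S₀ U₂ h₂) z).2) :=
        Scheme.Hom.appLE_comp_appLE _ _ _ _ _ _ _
      have e2 : (m ≫ pullback.snd f g).appLE U₂ ⊤ (by rw [hsnd]; intro z _; exact (pullback.snd (f.resLE S₀ U₁ h₁) (g.resLE S₀ U₂ h₂) z).2) =
          U₂.ι.appLE U₂ ⊤ (by intro z _; exact z.2) ≫
            (pullback.snd (f.resLE S₀ U₁ h₁) (g.resLE S₀ U₂ h₂)).appLE ⊤ ⊤ le_top := by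
        rw [Scheme.Hom.appLE_comp_appLE]
        congr 1
      have := congrArg (fun φ => φ.hom c₀) (e1.trans e2)
      refine this.trans ?_
      simp [Scheme.Hom.appLE]
  rw [eq_top_iff]
  intro z _
  have hz : (m.appLE D ⊤ hle).hom z ∈ Subring.closure
      (Set.range (pullback.fst (f.resLE S₀ U₁ h₁) (g.resLE S₀ U₂ h₂)).appTop.hom ∪
        Set.range (pullback.snd (f.resLE S₀ U₁ h₁) (g.resLE S₀ U₂ h₂)).appTop.hom) := by
    rw [hG]; trivial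
  have hz' := Subring.closure_mono key hz
  rw [← RingHom.map_closure] at hz'
  obtain ⟨z', hz'mem, hz'eq⟩ := hz'
  rw [← hbij.1 hz'eq]
  exact hz'mem

end opens

end Groth.Agent.Lib.Helper28.ProdGen
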