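import Groth.Agent.Lib.Helper28.RLPsiV7
import Groth.Agent.Lib.Helper28.AmpleBasis
import Groth.Agent.Lib.Helper28.PullbackInv2

set_option autoImplicit false
universe u
open CategoryTheory CategoryTheory.Limits AlgebraicGeometry Opposite TopologicalSpace
open HomogeneousLocalization
open scoped HomogeneousIdeal
noncomputable section

namespace Groth.Agent.Lib.Helper28.RLPsiV

open Groth.Agent.Lib.Helper28 Groth.Agent.Lib.Helper28.QCohLoc Groth.Agent.Lib.Helper28.TraceAlg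
open Groth.Agent.Lib.Helper28.GenLocus Groth.Agent.Lib.Helper28.SymAlg
open Groth.Agent.Lib.Helper28.RLPsi Groth.Agent.Lib.Helper28.RelTwistVal Groth.Agent.Lib.Helper28.RLPsiU
open Groth.Agent.Lib.Helper28.PullbackInv Groth.Agent.Lib.Helper28.TensorGen

section inv

variable {Y P' : Scheme.{u}} {p' : P' ⟶ Y}
  {E' : Y.Modules} [E'.IsQuasicoherent]
  {𝒮' : RelProj.QCGrAlg Y} {j' : E' ⟶ 𝒮'.toModule} (hS' : RelProj.IsGrSymAlg E' 𝒮' j')
  {chart' : ∀ (U : Y.Opens) (hU : IsAffineOpen U), (((p' ⁻¹ᵁ U : P'.Opens) : Scheme.{u}) ≅ Proj (𝒮'.deg U hU))}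
  {O1 : P'.Modules}
  {lam : ∀ (U : Y.Opens) (hU : IsAffineOpen U),
    O1 ⟶ (Scheme.Modules.pushforward (RelProj.emb p' chart' U hU)).obj (GrTwist.twist (𝒮'.deg U hU) ((1 : ℕ) : ℤ))}
  (hO : RelProj.IsRelTwist 𝒮' p' chart' ((1 : ℕ) : ℤ) O1 lam)

include hS' hO in
/-- the fundamental sheaf of a projective bundle is invertible -/
theorem isInvertible_O1 : PicF.IsInvertible O1 := by
  refine isInvertible_of_isGen _ fun w => ?_
  obtain ⟨_, ⟨U, hU0, rfl⟩, hwU, -⟩ := Y.isBasis_affineOpens.exists_subset_of_mem_open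
    (show p' w ∈ ((⊤ : Y.Opens) : Set Y) from trivial) (⊤ : Y.Opens).isOpen
  have hU : IsAffineOpen U := hU0
  obtain ⟨z, hz⟩ := (RelProjQ.mem_range_emb p' chart' U hU w).2 hwU
  have hz' : (RelProj.emb p' chart' U hU).base z = w := hz
  obtain ⟨e₀, he₀⟩ := exists_deg_one_not_mem hS' hU z
  refine ⟨WPU p' chart' hU (asR 𝒮'.toQCAlg (j'.app U e₀)), _, ?_,
    isGen_sig hO hU (asR 𝒮'.toQCAlg (j'.app U e₀)) (hS'.2 U hU e₀)⟩
  rw [← hz']
  exact (mem_WPU_iff hU _ z).2 he₀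

end inv

section emb

variable {X Y P' : Scheme.{u}} (i : X ⟶ P') {p' : P' ⟶ Y} {L : X.Modules}
  {E' : Y.Modules} [E'.IsQuasicoherent]
  {𝒮' : RelProj.QCGrAlg Y} {j' : E' ⟶ 𝒮'.toModule} (hS' : RelProj.IsGrSymAlg E' 𝒮' j')
  {chart' : ∀ (U : Y.Opens) (hU : IsAffineOpen U), (((p' ⁻¹ᵁ U : P'.Opens) : Scheme.{u}) ≅ Proj (𝒮'.deg U hU))}
  (hP' : RelProj.IsRelProj 𝒮' p' chart')
  {O1 : P'.Modules}
  {lam : ∀ (U : Y.Opens) (hU : IsAffineOpen U),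
    O1 ⟶ (Scheme.Modules.pushforward (RelProj.emb p' chart' U hU)).obj (GrTwist.twist (𝒮'.deg U hU) ((1 : ℕ) : ℤ))}
  (hO : RelProj.IsRelTwist 𝒮' p' chart' ((1 : ℕ) : ℤ) O1 lam)
  (e : L ≅ (Scheme.Modules.pullback i).obj O1)
  {U : Y.Opens} (hU : IsAffineOpen U)

include hS' hP' hO e hU in
/-- **`L ≅ i^*O(1)` is ample when `i` is a topological embedding into a projective bundle over an affine open** -/
theorem isAmple_of_embedding_data [CompactSpace X] (hL : PicF.IsInvertible L)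
    (hemb : Topology.IsEmbedding i.base) (hXU : ∀ x : X, p' (i x) ∈ U) : CohB1.IsAmple L := by
  rw [isAmple_iff_isBasis L hL, Opens.isBasis_iff_nbhd]
  intro W x hxW
  obtain ⟨W', hW'o, hW'⟩ := hemb.isInducing.isOpen_iff.1 W.isOpen
  obtain ⟨z, hz⟩ := (RelProjQ.mem_range_emb p' chart' U hU (i x)).2 (hXU x)
  have hz' : (RelProj.emb p' chart' U hU).base z = i x := hz
  have hxW' : i x ∈ W' := by
    have : x ∈ i.base ⁻¹' W' := by rw [hW']; exact hxW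
    exact this
  have hzc : z ∈ (RelProj.emb p' chart' U hU) ⁻¹ᵁ (⟨W', hW'o⟩ : P'.Opens) := by
    show (RelProj.emb p' chart' U hU).base z ∈ W'
    rw [hz']
    exact hxW'
  obtain ⟨d, H, hd, hH, hzH, hHle⟩ := exists_pos_basicOpen_le (𝒮'.deg U hU) _ z hzc
  have hxH : i x ∈ WPU p' chart' hU H := by
    rw [← hz']
    exact ⟨z, hzH, rfl⟩
  have hle : WPU p' chart' hU H ≤ (⟨W', hW'o⟩ : P'.Opens) := by
    rintro _ ⟨z', hz'H, rfl⟩
    exact hHle hz'H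
  obtain ⟨n, rfl⟩ := Nat.exists_eq_succ_of_ne_zero hd.ne'
  obtain ⟨τ, hτ⟩ := exists_readsT i hS' hP' hO e hU H hH
  have hloc : CohB1.genLocus _ (TwistGen.ofSection (CohB1.tensorPow L (n + 1))
      (res (CohB1.tensorPow L (n + 1)) (fun x _ => hXU x : (⊤ : X.Opens) ≤ (i ≫ p') ⁻¹ᵁ U) τ)) =
      i ⁻¹ᵁ WPU p' chart' hU H :=
    Opens.ext (Set.ext fun y => mem_genLocus_readsT_iff i hS' hO e hU hXU H τ hτ y)
  refine ⟨CohB1.genLocus _ (TwistGen.ofSection (CohB1.tensorPow L (n + 1))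
      (res (CohB1.tensorPow L (n + 1)) (fun x _ => hXU x : (⊤ : X.Opens) ≤ (i ≫ p') ⁻¹ᵁ U) τ)),
    ⟨n, TwistGen.ofSection (CohB1.tensorPow L (n + 1))
      (res (CohB1.tensorPow L (n + 1)) (fun x _ => hXU x : (⊤ : X.Opens) ≤ (i ≫ p') ⁻¹ᵁ U) τ), rfl⟩, ?_, ?_⟩
  · rw [hloc]
    exact hxH
  · rw [hloc]
    intro y hy
    have h1 : i y ∈ W' := hle hy
    have h2 : y ∈ i.base ⁻¹' W' := h1
    rw [hW'] at h2
    exact h2

end emb

section relemb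

variable {X Y P' : Scheme.{u}} (i : X ⟶ P') {p' : P' ⟶ Y} {L : X.Modules}
  {E' : Y.Modules} [E'.IsQuasicoherent]
  {𝒮' : RelProj.QCGrAlg Y} {j' : E' ⟶ 𝒮'.toModule} (hS' : RelProj.IsGrSymAlg E' 𝒮' j')
  {chart' : ∀ (U : Y.Opens) (hU : IsAffineOpen U), (((p' ⁻¹ᵁ U : P'.Opens) : Scheme.{u}) ≅ Proj (𝒮'.deg U hU))}
  (hP' : RelProj.IsRelProj 𝒮' p' chart')
  {O1 : P'.Modules}
  {lam : ∀ (U : Y.Opens) (hU : IsAffineOpen U),
    O1 ⟶ (Scheme.Modules.pushforward (RelProj.emb p' chart' U hU)).obj (GrTwist.twist (𝒮'.deg U hU) ((1 : ℕ) : ℤ))}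
  (hO : RelProj.IsRelTwist 𝒮' p' chart' ((1 : ℕ) : ℤ) O1 lam)
  (e : L ≅ (Scheme.Modules.pullback i).obj O1)

include hS' hP' hO e in
/-- the relative version for a topological embedding -/
theorem isRelAmple_of_embedding_data [QuasiCompact (i ≫ p')] (hL : PicF.IsInvertible L)
    (hemb : Topology.IsEmbedding i.base) : RelAmple.IsRelAmple (i ≫ p') L := by
  refine ⟨inferInstance, fun V => ?_⟩
  haveI : CompactSpace ((((i ≫ p') ⁻¹ᵁ V.1 : X.Opens) : Scheme.{u})) :=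
    isCompact_iff_compactSpace.mp
      (QuasiCompact.isCompact_preimage (f := i ≫ p') _ V.1.isOpen V.2.isCompact)
  have e' : L.restrict ((i ≫ p') ⁻¹ᵁ V.1).ι ≅
      (Scheme.Modules.pullback (((i ≫ p') ⁻¹ᵁ V.1).ι ≫ i)).obj O1 :=
    (Scheme.Modules.restrictFunctorIsoPullback ((i ≫ p') ⁻¹ᵁ V.1).ι).app L ≪≫
      (Scheme.Modules.pullback ((i ≫ p') ⁻¹ᵁ V.1).ι).mapIso e ≪≫
      (Scheme.Modules.pullbackComp ((i ≫ p') ⁻¹ᵁ V.1).ι i).app O1
  have hemb' : Topology.IsEmbedding (((i ≫ p') ⁻¹ᵁ V.1).ι ≫ i).base := by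
    have h1 : ⇑(((i ≫ p') ⁻¹ᵁ V.1).ι ≫ i).base = ⇑i.base ∘ ⇑((i ≫ p') ⁻¹ᵁ V.1).ι.base := by
      funext x
      rfl
    rw [h1]
    exact hemb.comp ((i ≫ p') ⁻¹ᵁ V.1).ι.isOpenEmbedding.isEmbedding
  exact isAmple_of_embedding_data (((i ≫ p') ⁻¹ᵁ V.1).ι ≫ i) hS' hP' hO e' V.2
    (AmpleIso.isInvertible_restrict _ L hL) hemb' (fun x => x.2)

end relemb

end Groth.Agent.Lib.Helper28.RLPsiV
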