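import Groth.Agent.Lib.Helper28.ExtTensorVA
import Groth.Agent.Lib.Helper28.PEGen
import Groth.Agent.Lib.Helper28.ProdGen
import Groth.Agent.Lib.Helper28.IotaE
import Groth.Agent.Lib.Helper28.RLPsiV8
import Groth.Agent.Lib.Helper28.AmpleExtTensor

/-!
# The Segre immersion `P(E) ×_Y P(E') → P(E ⊗ E')` and `O(1) ⊠ O(1)`
-/

set_option autoImplicit false
universe u
open CategoryTheory CategoryTheory.Limits AlgebraicGeometry TopologicalSpace Opposite
open scoped HomogeneousIdeal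
noncomputable section

namespace Groth.Agent.Lib.Helper28.ProdBundleVA

open Groth.Agent.Lib.Helper28 Groth.Agent.Lib.Helper28.QCohLoc Groth.Agent.Lib.Helper28.TraceAlg
open Groth.Agent.Lib.Helper28.GenLocus Groth.Agent.Lib.Helper28.AmpleCompose
open Groth.Agent.Lib.Helper28.TensorGen Groth.Agent.Lib.Helper28.InvTensor
open Groth.Agent.Lib.Helper28.AmpleLocal Groth.Agent.Lib.Helper28.PullbackInv
open Groth.Agent.Lib.Helper28.RLPsi Groth.Agent.Lib.Helper28.RelTwistVal Groth.Agent.Lib.Helper28.RLPsiU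
open Groth.Agent.Lib.Helper28.RLPsiV Groth.Agent.Lib.Helper28.PEGen Groth.Agent.Lib.Helper28.ExtTensorVA

theorem appLE_congr_hom {X Y : Scheme.{u}} {f g : X ⟶ Y} (h : f = g) (U : Y.Opens) (V : X.Opens)
    (e : V ≤ f ⁻¹ᵁ U) (e' : V ≤ g ⁻¹ᵁ U) : f.appLE U V e = g.appLE U V e' := by
  subst h
  rfl

section tsec

variable {X P : Scheme.{u}} (i : X ⟶ P) {L : X.Modules} {O1 : P.Modules}
  (e : L ≅ (Scheme.Modules.pullback i).obj O1)

/-- the locus where the inverse image of a section generates is the inverse image of the locus of the section -/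
theorem secGenAt_tsec_iff (hO1 : PicF.IsInvertible O1) (W : P.Opens) (σ : Γ(O1, W)) (x : X) (hx : x ∈ i ⁻¹ᵁ W) :
    SecGenAt L (i ⁻¹ᵁ W) (tsec i e W σ) x ↔ SecGenAt O1 W σ (i x) := by
  obtain ⟨W', g, hxW', -, hg, hW'W⟩ := exists_isGen_affine_le hO1 (i x) W hx
  let r : Γ(P, W') := hg.coef le_rfl (res O1 hW'W σ)
  have hr : res O1 hW'W σ = (r • g : Γ(O1, W')) := by
    have := hg.coef_smul le_rfl (res O1 hW'W σ)
    rw [res_self] at this
    exact this.symm
  have hr' : res L (i.preimage_mono hW'W) (tsec i e W σ) = (i.app W' r • tsec i e W' g : Γ(L, i ⁻¹ᵁ W')) := by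
    rw [← tsec_res i e hW'W, hr, tsec_smul]
  rw [secGenAt_iff_of_chart (tsec i e W σ) (i.preimage_mono hW'W) (isGen_tsec i e hg) (i.app W' r) hr' x hxW',
    secGenAt_iff_of_chart σ hW'W hg r hr (i x) hxW', ← Scheme.preimage_basicOpen]
  rfl

end tsec

section iota

variable {X Y P : Scheme.{u}} (i : X ⟶ P) {p : P ⟶ Y} {L : X.Modules}
  {E : Y.Modules} [E.IsQuasicoherent]
  {𝒮 : RelProj.QCGrAlg Y} {j : E ⟶ 𝒮.toModule} (hS : RelProj.IsGrSymAlg E 𝒮 j)
  {chart : ∀ (U : Y.Opens) (hU : IsAffineOpen U), (((p ⁻¹ᵁ U : P.Opens) : Scheme.{u}) ≅ Proj (𝒮.deg U hU))}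
  (hP : RelProj.IsRelProj 𝒮 p chart)
  {O1 : P.Modules}
  {lam : ∀ (U : Y.Opens) (hU : IsAffineOpen U),
    O1 ⟶ (Scheme.Modules.pushforward (RelProj.emb p chart U hU)).obj (GrTwist.twist (𝒮.deg U hU) ((1 : ℕ) : ℤ))}
  (hO : RelProj.IsRelTwist 𝒮 p chart ((1 : ℕ) : ℤ) O1 lam)
  (e : L ≅ (Scheme.Modules.pullback i).obj O1)
  {V : Y.Opens} (hV : IsAffineOpen V)

/-- the canonical homomorphism `E → q_* L` over an affine open, in terms of the sections `σ_a` -/
theorem sec_iotaE (a : Γ(E, V)) :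
    ExtTensorVA.sec (i ≫ p) (iotaE i hS hP hO e) V a = tsec i e (p ⁻¹ᵁ V) (σE hS hO hV a) :=
  iotaE_app i hS hP hO e hV a

end iota

section segre

variable {Y P P' Q : Scheme.{u}} {E E' : Y.Modules} [E.IsQuasicoherent] [E'.IsQuasicoherent]
  {𝒮 : RelProj.QCGrAlg Y} {j : E ⟶ 𝒮.toModule} (hS : RelProj.IsGrSymAlg E 𝒮 j)
  {p : P ⟶ Y}
  {chart : ∀ (U : Y.Opens) (hU : IsAffineOpen U), (((p ⁻¹ᵁ U : P.Opens) : Scheme.{u}) ≅ Proj (𝒮.deg U hU))}
  (hP : RelProj.IsRelProj 𝒮 p chart)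
  {O1 : P.Modules}
  {lam : ∀ (U : Y.Opens) (hU : IsAffineOpen U),
    O1 ⟶ (Scheme.Modules.pushforward (RelProj.emb p chart U hU)).obj (GrTwist.twist (𝒮.deg U hU) ((1 : ℕ) : ℤ))}
  (hO : RelProj.IsRelTwist 𝒮 p chart ((1 : ℕ) : ℤ) O1 lam)
  {𝒮' : RelProj.QCGrAlg Y} {j' : E' ⟶ 𝒮'.toModule} (hS' : RelProj.IsGrSymAlg E' 𝒮' j')
  {p' : P' ⟶ Y}
  {chart' : ∀ (U : Y.Opens) (hU : IsAffineOpen U), (((p' ⁻¹ᵁ U : P'.Opens) : Scheme.{u}) ≅ Proj (𝒮'.deg U hU))}
  (hP' : RelProj.IsRelProj 𝒮' p' chart')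
  {O1' : P'.Modules}
  {lam' : ∀ (U : Y.Opens) (hU : IsAffineOpen U),
    O1' ⟶ (Scheme.Modules.pushforward (RelProj.emb p' chart' U hU)).obj (GrTwist.twist (𝒮'.deg U hU) ((1 : ℕ) : ℤ))}
  (hO' : RelProj.IsRelTwist 𝒮' p' chart' ((1 : ℕ) : ℤ) O1' lam')

/-- `pr₁^* O(1)` on `P(E) ×_Y P(E')` -/
abbrev N₁ (p : P ⟶ Y) (p' : P' ⟶ Y) (O1 : P.Modules) : (pullback p p').Modules := (Scheme.Modules.pullback (pullback.fst p p')).obj O1

/-- `pr₂^* O(1)` on `P(E) ×_Y P(E')` -/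
abbrev N₂ (p : P ⟶ Y) (p' : P' ⟶ Y) (O1' : P'.Modules) : (pullback p p').Modules :=
  (Scheme.Modules.pullback (pullback.snd p p')).obj O1'

/-- `E → q_* pr₁^* O(1)` -/
def ψ₁ : E ⟶ (Scheme.Modules.pushforward (pullback.fst p p' ≫ p)).obj (N₁ p p' O1) :=
  iotaE (pullback.fst p p') hS hP hO (Iso.refl _)

/-- `E' → q_* pr₂^* O(1)` -/
def ψ₂ : E' ⟶ (Scheme.Modules.pushforward (pullback.fst p p' ≫ p)).obj (N₂ p p' O1') :=
  castPush pullback.condition.symm (iotaE (pullback.snd p p') hS' hP' hO' (Iso.refl _))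

theorem sec_ψ₁ {V : Y.Opens} (hV : IsAffineOpen V) (a : Γ(E, V)) :
    ExtTensorVA.sec (pullback.fst p p' ≫ p) (ψ₁ (p' := p') hS hP hO) V a =
      tsec (pullback.fst p p') (Iso.refl (N₁ p p' O1)) (p ⁻¹ᵁ V) (σE hS hO hV a) :=
  sec_iotaE (pullback.fst p p') hS hP hO (Iso.refl _) hV a

theorem sec_ψ₂ {V : Y.Opens} (hV : IsAffineOpen V) (a' : Γ(E', V)) :
    ExtTensorVA.sec (pullback.fst p p' ≫ p) (ψ₂ (p := p) hS' hP' hO') V a' =
      res (N₂ p p' O1') (preimage_le_of_eq pullback.condition.symm V)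
        (tsec (pullback.snd p p') (Iso.refl (N₂ p p' O1')) (p' ⁻¹ᵁ V) (σE hS' hO' hV a')) := by
  unfold ψ₂
  rw [castPush_sec]
  congr 1
  exact sec_iotaE (pullback.snd p p') hS' hP' hO' (Iso.refl _) hV a'

/-- the affine open `D₊(a) ×_V D₊(a')` -/
abbrev DD {V : Y.Opens} (hV : IsAffineOpen V) (a : Γ(E, V)) (a' : Γ(E', V)) : (pullback p p').Opens :=
  pullback.fst p p' ⁻¹ᵁ DE (p := p) (chart := chart) (j := j) hV a ⊓
    pullback.snd p p' ⁻¹ᵁ DE (p := p') (chart := chart') (j := j') hV a'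

include hS hS' in
theorem isAffineOpen_DD {V : Y.Opens} (hV : IsAffineOpen V) (a : Γ(E, V)) (a' : Γ(E', V)) :
    IsAffineOpen (DD (chart := chart) (chart' := chart') (j := j) (j' := j') hV a a') :=
  isAffineOpen_pullback_inf p p' V hV _ (isAffineOpen_WPU p chart hV one_pos _ (aE_mem hS hV a)) (WPU_le hV _)
    _ (isAffineOpen_WPU p' chart' hV one_pos _ (aE_mem hS' hV a')) (WPU_le hV _)

theorem DD_le {V : Y.Opens} (hV : IsAffineOpen V) (a : Γ(E, V)) (a' : Γ(E', V)) :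
    DD (chart := chart) (chart' := chart') (j := j) (j' := j') hV a a' ≤ (pullback.fst p p' ≫ p) ⁻¹ᵁ V :=
  inf_le_left.trans ((pullback.fst p p').preimage_mono (WPU_le hV _))

variable {𝒜 : RelProj.QCGrAlg Y} {jA : CohB1.tensorMod E E' ⟶ 𝒜.toModule}
  (h𝒜 : RelProj.IsGrSymAlg (CohB1.tensorMod E E') 𝒜 jA)
  (pQ : Q ⟶ Y)
  (chartQ : ∀ (U : Y.Opens) (hU : IsAffineOpen U), (((pQ ⁻¹ᵁ U : Q.Opens) : Scheme.{u}) ≅ Proj (𝒜.deg U hU)))
  (hQ : RelProj.IsRelProj 𝒜 pQ chartQ)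
  {OQ : Q.Modules}
  {lamQ : ∀ (U : Y.Opens) (hU : IsAffineOpen U),
    OQ ⟶ (Scheme.Modules.pushforward (RelProj.emb pQ chartQ U hU)).obj (GrTwist.twist (𝒜.deg U hU) 1)}
  (hOQ : RelProj.IsRelTwist 𝒜 pQ chartQ 1 OQ lamQ)

include hS hP hO hS' hP' hO' h𝒜 hQ hOQ in
/-- **the Segre immersion** `P(E) ×_Y P(E') → P(E ⊗ E')`, under which `O(1)` pulls back to `O(1) ⊠ O(1)` -/
theorem exists_segre_immersion :
    ∃ s : pullback p p' ⟶ Q, IsImmersion s ∧ s ≫ pQ = pullback.fst p p' ≫ p ∧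
      Nonempty (CohB1.tensorMod (N₁ p p' O1) (N₂ p p' O1') ≅ (Scheme.Modules.pullback s).obj OQ) := by
  classical
  have hN₁ : PicF.IsInvertible (N₁ p p' O1) := PullbackInv.isInvertible_pullback _ (isInvertible_O1 hS hO)
  have hN₂ : PicF.IsInvertible (N₂ p p' O1') := PullbackInv.isInvertible_pullback _ (isInvertible_O1 hS' hO')
  let A := Σ V : Y.affineOpens, Γ(E, V.1) × Γ(E', V.1)
  let G : ∀ t : A, Set Γ(pullback p p', DD (chart := chart) (chart' := chart') (j := j) (j' := j') t.1.2 t.2.1 t.2.2) :=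
    fun t => {g | (∃ b : Γ(E, t.1.1), res (N₁ p p' O1) (DD_le t.1.2 t.2.1 t.2.2)
          (ExtTensorVA.sec (pullback.fst p p' ≫ p) (ψ₁ (p' := p') hS hP hO) t.1.1 b) =
        (g • res (N₁ p p' O1) (DD_le t.1.2 t.2.1 t.2.2)
          (ExtTensorVA.sec (pullback.fst p p' ≫ p) (ψ₁ (p' := p') hS hP hO) t.1.1 t.2.1) : Γ(N₁ p p' O1, DD (chart := chart) (chart' := chart') (j := j) (j' := j') t.1.2 t.2.1 t.2.2))) ∨
      (∃ b' : Γ(E', t.1.1), res (N₂ p p' O1') (DD_le t.1.2 t.2.1 t.2.2)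
          (ExtTensorVA.sec (pullback.fst p p' ≫ p) (ψ₂ (p := p) hS' hP' hO') t.1.1 b') =
        (g • res (N₂ p p' O1') (DD_le t.1.2 t.2.1 t.2.2)
          (ExtTensorVA.sec (pullback.fst p p' ≫ p) (ψ₂ (p := p) hS' hP' hO') t.1.1 t.2.2) : Γ(N₂ p p' O1', DD (chart := chart) (chart' := chart') (j := j) (j' := j') t.1.2 t.2.1 t.2.2)))}
  refine exists_immersion_of_pair (q := pullback.fst p p' ≫ p) (ψ₁ (p' := p') hS hP hO) (ψ₂ (p := p) hS' hP' hO')
    h𝒜 pQ chartQ hQ hOQ hN₁ hN₂ (A := A) (fun t => t.1.1) (fun t => t.1.2)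
    (fun t => DD (chart := chart) (chart' := chart') (j := j) (j' := j') t.1.2 t.2.1 t.2.2)
    (fun t => isAffineOpen_DD hS hS' t.1.2 t.2.1 t.2.2) (fun t => DD_le t.1.2 t.2.1 t.2.2) ?_
    (fun t => t.2.1) (fun t => t.2.2) ?_ ?_ ?_
    G
    ?_ (fun t g hg => hg)
  · -- covering
    intro z
    obtain ⟨_, ⟨V, hV, rfl⟩, hzV, -⟩ := Y.isBasis_affineOpens.exists_subset_of_mem_open
      (show (pullback.fst p p' ≫ p) z ∈ ((⊤ : Y.Opens) : Set Y) from trivial) (⊤ : Y.Opens).isOpen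
    have hz1 : pullback.fst p p' z ∈ p ⁻¹ᵁ V := hzV
    have hz2 : pullback.snd p p' z ∈ p' ⁻¹ᵁ V := by
      show (pullback.snd p p' ≫ p') z ∈ V
      rw [← pullback.condition]
      exact hzV
    obtain ⟨a, ha⟩ := exists_mem_DE hS hV (p := p) (chart := chart) _ hz1
    obtain ⟨a', ha'⟩ := exists_mem_DE hS' hV (p := p') (chart := chart') _ hz2
    exact ⟨⟨⟨V, hV⟩, a, a'⟩, ha, ha'⟩
  · -- generation of `N₁`
    intro t
    rw [sec_ψ₁ hS hP hO t.1.2]
    have hW₁le : DE (p := p) (chart := chart) (j := j) t.1.2 t.2.1 ≤ p ⁻¹ᵁ t.1.1 := WPU_le t.1.2 _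
    have h1 : IsGen (N₁ p p' O1) (pullback.fst p p' ⁻¹ᵁ DE (p := p) (chart := chart) (j := j) t.1.2 t.2.1)
        (tsec (pullback.fst p p') (Iso.refl (N₁ p p' O1)) (DE (p := p) (chart := chart) (j := j) t.1.2 t.2.1)
          (res O1 hW₁le (σE hS hO t.1.2 t.2.1))) :=
      isGen_tsec _ _ (isGen_sig hO t.1.2 _ (aE_mem hS t.1.2 t.2.1))
    rw [tsec_res (pullback.fst p p') (Iso.refl (N₁ p p' O1)) hW₁le] at h1
    have h3 := h1.res (inf_le_left : DD (chart := chart) (chart' := chart') (j := j) (j' := j')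
      t.1.2 t.2.1 t.2.2 ≤ _)
    rw [res_res] at h3
    exact h3
  · -- generation of `N₂`
    intro t
    rw [sec_ψ₂ hS' hP' hO' t.1.2, res_res]
    have hW₂le : DE (p := p') (chart := chart') (j := j') t.1.2 t.2.2 ≤ p' ⁻¹ᵁ t.1.1 := WPU_le t.1.2 _
    have h1 : IsGen (N₂ p p' O1') (pullback.snd p p' ⁻¹ᵁ DE (p := p') (chart := chart') (j := j') t.1.2 t.2.2)
        (tsec (pullback.snd p p') (Iso.refl (N₂ p p' O1')) (DE (p := p') (chart := chart') (j := j') t.1.2 t.2.2)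
          (res O1' hW₂le (σE hS' hO' t.1.2 t.2.2))) :=
      isGen_tsec _ _ (isGen_sig hO' t.1.2 _ (aE_mem hS' t.1.2 t.2.2))
    rw [tsec_res (pullback.snd p p') (Iso.refl (N₂ p p' O1')) hW₂le] at h1
    have h3 := h1.res (inf_le_right : DD (chart := chart) (chart' := chart') (j := j) (j' := j')
      t.1.2 t.2.1 t.2.2 ≤ _)
    rw [res_res] at h3
    exact h3
  · -- maximality
    intro t x hx hg1 hg2
    rw [sec_ψ₁ hS hP hO t.1.2] at hg1
    rw [sec_ψ₂ hS' hP' hO' t.1.2] at hg2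
    have hx2 : x ∈ pullback.snd p p' ⁻¹ᵁ (p' ⁻¹ᵁ t.1.1) := preimage_le_of_eq pullback.condition.symm t.1.1 hx
    have hx1 : x ∈ pullback.fst p p' ⁻¹ᵁ (p ⁻¹ᵁ t.1.1) := hx
    have k1 := (secGenAt_tsec_iff (pullback.fst p p') (Iso.refl (N₁ p p' O1)) (isInvertible_O1 hS hO)
      (p ⁻¹ᵁ t.1.1) _ x hx1).1 hg1
    have k2 := (secGenAt_tsec_iff (pullback.snd p p') (Iso.refl (N₂ p p' O1')) (isInvertible_O1 hS' hO')
      (p' ⁻¹ᵁ t.1.1) _ x hx2).1 ((secGenAt_res_iff _ _ x hx).1 hg2)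
    exact ⟨(secGenAt_σE_iff hS hO t.1.2 t.2.1 _ hx).1 k1, (secGenAt_σE_iff hS' hO' t.1.2 t.2.2 _ hx2).1 k2⟩
  · -- generators
    rintro ⟨⟨V, hV⟩, a, a'⟩
    set D := DD (chart := chart) (chart' := chart') (j := j) (j' := j') hV a a' with hDdef
    have hW₁le : DE (p := p) (chart := chart) (j := j) hV a ≤ p ⁻¹ᵁ V := WPU_le hV _
    have hW₂le : DE (p := p') (chart := chart') (j := j') hV a' ≤ p' ⁻¹ᵁ V := WPU_le hV _
    letI := ((pullback.fst p p' ≫ p).appLE V D (DD_le hV a a')).hom.toAlgebra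
    rw [eq_top_iff]
    intro z _
    have hz : z ∈ Subring.closure
        (Set.range ((pullback.fst p p').appLE (DE (p := p) (chart := chart) (j := j) hV a) D inf_le_left).hom ∪
          Set.range ((pullback.snd p p').appLE (DE (p := p') (chart := chart') (j := j') hV a') D inf_le_right).hom) := by
      rw [ProdGen.closure_range_appLE_eq_top p p' V _ hW₁le _ hW₂le hV
        (isAffineOpen_WPU p chart hV one_pos _ (aE_mem hS hV a))
        (isAffineOpen_WPU p' chart' hV one_pos _ (aE_mem hS' hV a'))]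
      trivial
    show z ∈ (Algebra.adjoin Γ(Y, V) (G ⟨⟨V, hV⟩, a, a'⟩)).toSubring
    refine (Subring.closure_le (t := (Algebra.adjoin Γ(Y, V) (G ⟨⟨V, hV⟩, a, a'⟩)).toSubring)).2 ?_ hz
    rintro _ (⟨c, rfl⟩ | ⟨c, rfl⟩)
    · have hc := mem_closure_T hS hP hO hV a c
      have hle : Subring.closure (T hS hO hV a (DE (p := p) (chart := chart) (j := j) hV a) (WPU_le hV _)) ≤
          Subring.comap ((pullback.fst p p').appLE (DE (p := p) (chart := chart) (j := j) hV a) D inf_le_left).hom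
            (Algebra.adjoin Γ(Y, V) (G ⟨⟨V, hV⟩, a, a'⟩)).toSubring := by
        refine Subring.closure_le.2 ?_
        rintro c' (⟨b, hb⟩ | ⟨r, rfl⟩)
        · refine Algebra.subset_adjoin (Or.inl ⟨b, ?_⟩)
          rw [sec_ψ₁ hS hP hO hV, sec_ψ₁ hS hP hO hV]
          have h1 := congrArg (tsec (pullback.fst p p') (Iso.refl (N₁ p p' O1))
            (DE (p := p) (chart := chart) (j := j) hV a)) hb
          rw [tsec_smul, tsec_res (pullback.fst p p') (Iso.refl (N₁ p p' O1)) hW₁le,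
            tsec_res (pullback.fst p p') (Iso.refl (N₁ p p' O1)) hW₁le] at h1
          have h2 := congrArg (res (N₁ p p' O1) (inf_le_left : D ≤ _)) h1
          rw [res_smul, res_res, res_res] at h2
          exact h2
        · show ((pullback.fst p p').appLE _ D inf_le_left).hom ((p.appLE V _ (WPU_le hV _)).hom r) ∈
            Algebra.adjoin Γ(Y, V) (G ⟨⟨V, hV⟩, a, a'⟩)
          have h1 : ((pullback.fst p p').appLE _ D inf_le_left).hom ((p.appLE V _ (WPU_le hV _)).hom r) =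
              algebraMap Γ(Y, V) Γ(pullback p p', D) r := by
            have := congrArg (fun φ => φ.hom r) (Scheme.Hom.appLE_comp_appLE (pullback.fst p p') p V
              (DE (p := p) (chart := chart) (j := j) hV a) D (WPU_le hV _) inf_le_left)
            exact this
          rw [h1]
          exact Subalgebra.algebraMap_mem _ r
      exact hle hc
    · have hc := mem_closure_T hS' hP' hO' hV a' c
      have hle : Subring.closure (T hS' hO' hV a' (DE (p := p') (chart := chart') (j := j') hV a') (WPU_le hV _)) ≤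
          Subring.comap ((pullback.snd p p').appLE (DE (p := p') (chart := chart') (j := j') hV a') D inf_le_right).hom
            (Algebra.adjoin Γ(Y, V) (G ⟨⟨V, hV⟩, a, a'⟩)).toSubring := by
        refine Subring.closure_le.2 ?_
        rintro c' (⟨b, hb⟩ | ⟨r, rfl⟩)
        · refine Algebra.subset_adjoin (Or.inr ⟨b, ?_⟩)
          rw [sec_ψ₂ hS' hP' hO' hV, sec_ψ₂ hS' hP' hO' hV, res_res, res_res]
          have h1 := congrArg (tsec (pullback.snd p p') (Iso.refl (N₂ p p' O1'))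
            (DE (p := p') (chart := chart') (j := j') hV a')) hb
          rw [tsec_smul, tsec_res (pullback.snd p p') (Iso.refl (N₂ p p' O1')) hW₂le,
            tsec_res (pullback.snd p p') (Iso.refl (N₂ p p' O1')) hW₂le] at h1
          have h2 := congrArg (res (N₂ p p' O1') (inf_le_right : D ≤ _)) h1
          rw [res_smul, res_res, res_res] at h2
          exact h2
        · show ((pullback.snd p p').appLE _ D inf_le_right).hom ((p'.appLE V _ (WPU_le hV _)).hom r) ∈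
            Algebra.adjoin Γ(Y, V) (G ⟨⟨V, hV⟩, a, a'⟩)
          have h1 : ((pullback.snd p p').appLE _ D inf_le_right).hom ((p'.appLE V _ (WPU_le hV _)).hom r) =
              algebraMap Γ(Y, V) Γ(pullback p p', D) r := by
            have := congrArg (fun φ => φ.hom r) (Scheme.Hom.appLE_comp_appLE (pullback.snd p p') p' V
              (DE (p := p') (chart := chart') (j := j') hV a') D (WPU_le hV _) inf_le_right)
            refine this.trans ?_
            exact congrArg (fun φ => φ.hom r) (appLE_congr_hom pullback.condition.symm V D _ (DD_le hV a a'))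
          rw [h1]
          exact Subalgebra.algebraMap_mem _ r
      exact hle hc

end segre

end Groth.Agent.Lib.Helper28.ProdBundleVA
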