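import Mathlib.AlgebraicGeometry.ProjectiveSpectrum.Functor
import Mathlib.AlgebraicGeometry.Morphisms.ClosedImmersion
import Mathlib.AlgebraicGeometry.IdealSheaf.Subscheme
import Groth.Agent.Lib.Helper28.GrQuotRing

set_option autoImplicit false
universe u
open CategoryTheory CategoryTheory.Limits AlgebraicGeometry Opposite TopologicalSpace
open HomogeneousLocalization
noncomputable section

namespace Groth.Agent.Lib.Helper28.ProjClosed

variable {R A : Type u} [CommRing R] [CommRing A] [Algebra R A] (𝒜 : ℕ → Submodule R A)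
  [GradedAlgebra 𝒜]

/-- `g ^ n` as an element of the submonoid of powers -/
def pw (g : A) (n : ℕ) : Submonoid.powers g := ⟨g ^ n, n, rfl⟩

section fr
variable {g : A} (hg : g ∈ 𝒜 1)

/-- the fraction `c_n / g^n` in the degree zero localisation, for `g` of degree one -/
def fr (n : ℕ) (c : A) : Away 𝒜 g :=
  Away.mk 𝒜 hg n (DirectSum.decompose 𝒜 c n : A)
    (by rw [smul_eq_mul, mul_one]; exact SetLike.coe_mem _)

theorem val_fr (n : ℕ) (c : A) :
    (fr 𝒜 hg n c).val = Localization.mk (DirectSum.decompose 𝒜 c n : A) (pw g n) := rfl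

theorem val_fr_of_mem {n : ℕ} {c : A} (hc : c ∈ 𝒜 n) :
    (fr 𝒜 hg n c).val = Localization.mk c (pw g n) := by
  rw [val_fr, DirectSum.decompose_of_mem_same 𝒜 hc]

theorem fr_of_mem {n : ℕ} {c : A} (hc : c ∈ 𝒜 n) :
    fr 𝒜 hg n c = Away.mk 𝒜 hg n c (by rw [smul_eq_mul, mul_one]; exact hc) := by
  apply HomogeneousLocalization.val_injective
  rw [val_fr_of_mem 𝒜 hg hc, Away.val_mk]
  rfl

theorem fr_of_mem_ne {m n : ℕ} {c : A} (hc : c ∈ 𝒜 m) (hmn : m ≠ n) : fr 𝒜 hg n c = 0 := by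
  apply HomogeneousLocalization.val_injective
  rw [val_fr, DirectSum.decompose_of_mem_ne 𝒜 hc hmn, HomogeneousLocalization.val_zero,
    Localization.mk_zero]

theorem fr_add (n : ℕ) (c c' : A) : fr 𝒜 hg n (c + c') = fr 𝒜 hg n c + fr 𝒜 hg n c' := by
  apply HomogeneousLocalization.val_injective
  rw [HomogeneousLocalization.val_add, val_fr, val_fr, val_fr, DirectSum.decompose_add,
    DirectSum.add_apply, Submodule.coe_add, Localization.add_mk_self]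

theorem fr_zero (n : ℕ) : fr 𝒜 hg n 0 = 0 := by
  apply HomogeneousLocalization.val_injective
  rw [val_fr, DirectSum.decompose_zero, DirectSum.zero_apply, ZeroMemClass.coe_zero,
    HomogeneousLocalization.val_zero, Localization.mk_zero]

theorem fr_mul_of_mem {e m : ℕ} {r c : A} (hr : r ∈ 𝒜 e) (hc : c ∈ 𝒜 m) :
    fr 𝒜 hg (e + m) (r * c) = fr 𝒜 hg e r * fr 𝒜 hg m c := by
  apply HomogeneousLocalization.val_injective
  rw [HomogeneousLocalization.val_mul, val_fr_of_mem 𝒜 hg hr, val_fr_of_mem 𝒜 hg hc,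
    val_fr_of_mem 𝒜 hg (SetLike.mul_mem_graded hr hc), Localization.mk_mul]
  congr 1
  exact Subtype.ext (pow_add g e m)

theorem fr_mul_left_of_le {e n : ℕ} {r : A} (hr : r ∈ 𝒜 e) (hen : e ≤ n) (c : A) :
    fr 𝒜 hg n (r * c) = fr 𝒜 hg e r * fr 𝒜 hg (n - e) c := by
  apply HomogeneousLocalization.val_injective
  rw [HomogeneousLocalization.val_mul, val_fr_of_mem 𝒜 hg hr, val_fr, val_fr,
    DirectSum.coe_decompose_mul_of_left_mem_of_le 𝒜 hr hen, Localization.mk_mul]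
  congr 1
  apply Subtype.ext
  change g ^ n = g ^ e * g ^ (n - e)
  rw [← pow_add, Nat.add_sub_cancel' hen]

theorem fr_mul_left_of_not_le {e n : ℕ} {r : A} (hr : r ∈ 𝒜 e) (hen : ¬ e ≤ n) (c : A) :
    fr 𝒜 hg n (r * c) = 0 := by
  apply HomogeneousLocalization.val_injective
  rw [val_fr, DirectSum.coe_decompose_mul_of_left_mem_of_not_le 𝒜 hr hen,
    HomogeneousLocalization.val_zero, Localization.mk_zero]

theorem fr_pow_mul {n : ℕ} (k : ℕ) {a : A} (ha : a ∈ 𝒜 n) :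
    fr 𝒜 hg (k + n) (g ^ k * a) = fr 𝒜 hg n a := by
  have hgk : g ^ k ∈ 𝒜 k := by
    have := SetLike.pow_mem_graded k hg
    rwa [smul_eq_mul, mul_one] at this
  apply HomogeneousLocalization.val_injective
  rw [val_fr_of_mem 𝒜 hg ha, val_fr_of_mem 𝒜 hg (SetLike.mul_mem_graded hgk ha),
    Localization.mk_eq_mk_iff, Localization.r_iff_exists]
  refine ⟨1, ?_⟩
  simp only [OneMemClass.coe_one, one_mul]
  change g ^ n * (g ^ k * a) = g ^ (k + n) * a
  ring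

theorem fr_surjective (q : Away 𝒜 g) : ∃ (n : ℕ) (a : A), a ∈ 𝒜 n ∧ fr 𝒜 hg n a = q := by
  obtain ⟨n, a, ha, rfl⟩ := Away.mk_surjective 𝒜 hg q
  have ha' : a ∈ 𝒜 n := by rwa [smul_eq_mul, mul_one] at ha
  exact ⟨n, a, ha', fr_of_mem 𝒜 hg ha'⟩

end fr

section ideal
variable {𝒜} {Z : Scheme.{u}} (i : Z ⟶ Proj 𝒜)

/-- sections of `O_Z` over the preimage of `D₊(g)` defined by degree zero fractions -/
def θ (g : A) : Away 𝒜 g →+* Γ(Z, i ⁻¹ᵁ Proj.basicOpen 𝒜 g) :=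
  (Proj.awayToSection 𝒜 g ≫ i.app (Proj.basicOpen 𝒜 g)).hom

variable (s : Set A)

/-- the homogeneous ideal of `A` defined by a morphism to `Proj` -/
def I : Ideal A where
  carrier := {c | ∀ (n : ℕ) (g : A) (hg : g ∈ 𝒜 1), g ∈ s → θ i g (fr 𝒜 hg n c) = 0}
  add_mem' := fun hc hc' n g hg hgs => by
    rw [fr_add, map_add, hc n g hg hgs, hc' n g hg hgs, add_zero]
  zero_mem' := fun n g hg hgs => by rw [fr_zero, map_zero]
  smul_mem' := by
    intro r c hc n g hg hgs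
    rw [smul_eq_mul]
    induction r using DirectSum.Decomposition.inductionOn 𝒜 with
    | zero => rw [zero_mul, fr_zero, map_zero]
    | @homogeneous e r =>
      by_cases hen : e ≤ n
      · rw [fr_mul_left_of_le 𝒜 hg r.2 hen, map_mul, hc _ g hg hgs, mul_zero]
      · rw [fr_mul_left_of_not_le 𝒜 hg r.2 hen, map_zero]
    | add r r' hr hr' => rw [add_mul, fr_add, map_add, hr, hr', add_zero]

theorem mem_I_iff (c : A) :
    c ∈ I i s ↔ ∀ (n : ℕ) (g : A) (hg : g ∈ 𝒜 1), g ∈ s → θ i g (fr 𝒜 hg n c) = 0 := Iff.rfl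

theorem I_isHomogeneous : (I i s).IsHomogeneous 𝒜 := by
  intro m c hc n g hg hgs
  by_cases hmn : m = n
  · subst hmn
    have : fr 𝒜 hg m (DirectSum.decompose 𝒜 c m : A) = fr 𝒜 hg m c := by
      apply HomogeneousLocalization.val_injective
      rw [val_fr_of_mem 𝒜 hg (SetLike.coe_mem _), val_fr]
    rw [this]
    exact hc m g hg hgs
  · rw [fr_of_mem_ne 𝒜 hg (SetLike.coe_mem _) hmn, map_zero]

theorem mem_I_of_mem {m : ℕ} {a : A} (ha : a ∈ 𝒜 m)
    (h : ∀ (g : A) (hg : g ∈ 𝒜 1), g ∈ s → θ i g (fr 𝒜 hg m a) = 0) : a ∈ I i s := by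
  intro n g hg hgs
  by_cases hmn : m = n
  · subst hmn
    exact h g hg hgs
  · rw [fr_of_mem_ne 𝒜 hg ha hmn, map_zero]

end ideal

theorem notMem_of_isUnit_mapId (y : ProjectiveSpectrum 𝒜) {g h : A} (hg : g ∈ 𝒜 1) (hh : h ∈ 𝒜 1)
    (hy : h ∈ y.asHomogeneousIdeal.toIdeal.primeCompl)
    (hu : IsUnit (HomogeneousLocalization.mapId 𝒜 (Submonoid.powers_le.mpr hy)
      (Away.mk 𝒜 hh 1 g (by rw [smul_eq_mul, mul_one]; exact hg)) :
        AtPrime 𝒜 y.asHomogeneousIdeal.toIdeal)) : g ∉ y.asHomogeneousIdeal := by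
  have hden : h ^ 1 ∈ y.asHomogeneousIdeal.toIdeal.primeCompl := by
    rw [pow_one]; exact hy
  have hu3 : IsUnit (Localization.mk g ⟨h ^ 1, hden⟩ :
      Localization.AtPrime y.asHomogeneousIdeal.toIdeal) :=
    (HomogeneousLocalization.isUnit_iff_isUnit_val _ _ _).2 hu
  rw [Localization.mk_eq_mk', IsLocalization.AtPrime.isUnit_mk'_iff] at hu3
  exact hu3

theorem basicOpen_awayToSection_le {g h : A} (hg : g ∈ 𝒜 1) (hh : h ∈ 𝒜 1) :
    (Proj 𝒜).basicOpen ((Proj.awayToSection 𝒜 h).hom (fr 𝒜 hh 1 g)) ≤ Proj.basicOpen 𝒜 g := by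
  intro p hp
  have hpU : p ∈ Proj.basicOpen 𝒜 h := (Proj 𝒜).basicOpen_le _ hp
  have hu := ((Proj 𝒜).mem_basicOpen _ p hpU).1 hp
  have e := AlgebraicGeometry.Proj.stalkIso'_germ (𝒜 := 𝒜) (Proj.basicOpen 𝒜 h) p hpU
    ((Proj.awayToSection 𝒜 h).hom (fr 𝒜 hh 1 g))
  have hu2 : IsUnit (((Proj.awayToSection 𝒜 h).hom (fr 𝒜 hh 1 g)).1 ⟨p, hpU⟩) := by
    rw [← e]
    exact hu.map (AlgebraicGeometry.Proj.stalkIso' 𝒜 p)
  rw [fr_of_mem 𝒜 hh hg] at hu2
  exact notMem_of_isUnit_mapId 𝒜 p hg hh hpU hu2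

theorem awayMap_fr_eq {g h : A} (hg : g ∈ 𝒜 1) (hh : h ∈ 𝒜 1) {n : ℕ} {a : A} (ha : a ∈ 𝒜 n) :
    awayMap 𝒜 hg (mul_comm g h) (fr 𝒜 hh n a) =
      awayMap 𝒜 hh (rfl : g * h = g * h) (fr 𝒜 hg n a) *
        Away.mk 𝒜 (SetLike.mul_mem_graded hg hh) n (g ^ (2 * n)) (by
          have := SetLike.pow_mem_graded (2 * n) hg
          rw [smul_eq_mul, mul_one] at this
          rw [smul_eq_mul]
          have e : n * (1 + 1) = 2 * n := by ring
          rw [e]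
          exact this) := by
  apply HomogeneousLocalization.val_injective
  rw [fr_of_mem 𝒜 hh ha, fr_of_mem 𝒜 hg ha, awayMap_mk, awayMap_mk, HomogeneousLocalization.val_mul,
    Away.val_mk, Away.val_mk, Away.val_mk, Localization.mk_mul, Localization.mk_eq_mk_iff,
    Localization.r_iff_exists]
  refine ⟨1, ?_⟩
  simp only [OneMemClass.coe_one, one_mul, Submonoid.coe_mul]
  ring

theorem fr_pow {g h : A} (hg : g ∈ 𝒜 1) (hh : h ∈ 𝒜 1) (N : ℕ) :
    fr 𝒜 hh N (g ^ N) = fr 𝒜 hh 1 g ^ N := by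
  have hgN : g ^ N ∈ 𝒜 N := by
    have := SetLike.pow_mem_graded N hg
    rwa [smul_eq_mul, mul_one] at this
  apply HomogeneousLocalization.val_injective
  rw [HomogeneousLocalization.val_pow, val_fr_of_mem 𝒜 hh hgN, val_fr_of_mem 𝒜 hh hg,
    Localization.mk_pow]
  congr 1
  apply Subtype.ext
  change h ^ N = (h ^ 1) ^ N
  rw [pow_one]

section loc
variable {𝒜} {Z : Scheme.{u}} (i : Z ⟶ Proj 𝒜)

theorem θ_apply (g : A) (q : Away 𝒜 g) :
    θ i g q = (i.app (Proj.basicOpen 𝒜 g)).hom ((Proj.awayToSection 𝒜 g).hom q) := rfl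

/-- restriction of `θ f q` to the preimage of `D₊(x)`, `x = f * g'` -/
theorem θ_res {f g' x : A} (hg' : g' ∈ 𝒜 1) (hx : x = f * g') (q : Away 𝒜 f)
    (hle : i ⁻¹ᵁ Proj.basicOpen 𝒜 x ≤ i ⁻¹ᵁ Proj.basicOpen 𝒜 f) :
    (Z.presheaf.map (homOfLE hle).op).hom (θ i f q) = θ i x (awayMap 𝒜 hg' hx q) := by
  rw [θ_apply, θ_apply]
  have h1 := Proj.awayMap_awayToSection 𝒜 (f := f) hg' hx
  have h2 := congrArg (fun φ => φ.hom q) h1
  simp only [CommRingCat.hom_comp, RingHom.comp_apply, CommRingCat.hom_ofHom] at h2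
  rw [h2]
  have h3 := i.naturality (homOfLE (Proj.basicOpen_mono 𝒜 f x ⟨g', hx⟩)).op
  have h4 := congrArg (fun φ => φ.hom ((Proj.awayToSection 𝒜 f).hom q)) h3
  simp only [CommRingCat.hom_comp, RingHom.comp_apply] at h4
  exact h4.symm

theorem preimage_le_left (g h : A) :
    i ⁻¹ᵁ Proj.basicOpen 𝒜 (g * h) ≤ i ⁻¹ᵁ Proj.basicOpen 𝒜 g :=
  fun _ hx => Proj.basicOpen_mono 𝒜 g (g * h) ⟨h, rfl⟩ hx

theorem preimage_le_right (g h : A) :
    i ⁻¹ᵁ Proj.basicOpen 𝒜 (g * h) ≤ i ⁻¹ᵁ Proj.basicOpen 𝒜 h :=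
  fun _ hx => Proj.basicOpen_mono 𝒜 h (g * h) ⟨g, mul_comm g h⟩ hx

/-- **localisation**: if `a / g^n` dies on `Z ∩ D₊(g)` then `g^N a / h^(N+n)` dies on `Z ∩ D₊(h)` -/
theorem loc [QuasiCompact i] {g h : A} (hg : g ∈ 𝒜 1) (hh : h ∈ 𝒜 1) {n : ℕ} {a : A}
    (ha : a ∈ 𝒜 n) (h0 : θ i g (fr 𝒜 hg n a) = 0) :
    ∃ N : ℕ, θ i h (fr 𝒜 hh (N + n) (g ^ N * a)) = 0 := by
  have hU : IsCompact (i ⁻¹ᵁ Proj.basicOpen 𝒜 h).1 :=
    QuasiCompact.isCompact_preimage _ (Proj.basicOpen 𝒜 h).2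
      (Proj.isAffineOpen_basicOpen 𝒜 h hh Nat.one_pos).isCompact
  -- vanishing on the preimage of `D₊(g * h)`
  have hW : (Z.presheaf.map (homOfLE (preimage_le_right i g h)).op).hom (θ i h (fr 𝒜 hh n a)) = 0 := by
    rw [θ_res i hg (mul_comm g h) _ (preimage_le_right i g h), awayMap_fr_eq 𝒜 hg hh ha, map_mul,
      ← θ_res i hh rfl _ (preimage_le_left i g h), h0, map_zero, zero_mul]
  -- the basic open of `θ h (g / h)` lies in that preimage
  have hle : Z.basicOpen (θ i h (fr 𝒜 hh 1 g)) ≤ i ⁻¹ᵁ Proj.basicOpen 𝒜 (g * h) := by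
    rw [θ_apply, ← Scheme.preimage_basicOpen]
    intro x hx
    have h1 : i x ∈ Proj.basicOpen 𝒜 g := basicOpen_awayToSection_le 𝒜 hg hh hx
    have h2 : i x ∈ Proj.basicOpen 𝒜 h := (Proj 𝒜).basicOpen_le _ hx
    change i x ∈ Proj.basicOpen 𝒜 (g * h)
    rw [Proj.basicOpen_mul]
    exact ⟨h1, h2⟩
  have H : (θ i h (fr 𝒜 hh n a)) |_ (Z.basicOpen (θ i h (fr 𝒜 hh 1 g))) = 0 := by
    have e : (Z.presheaf.map (homOfLE (Z.basicOpen_le (θ i h (fr 𝒜 hh 1 g)))).op) =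
        Z.presheaf.map (homOfLE (preimage_le_right i g h)).op ≫
          Z.presheaf.map (homOfLE hle).op := by
      rw [← Functor.map_comp]
      rfl
    change (Z.presheaf.map (homOfLE (Z.basicOpen_le (θ i h (fr 𝒜 hh 1 g)))).op).hom _ = 0
    rw [e, CommRingCat.hom_comp, RingHom.comp_apply, hW, map_zero]
  obtain ⟨N, hN⟩ := exists_pow_mul_eq_zero_of_res_basicOpen_eq_zero_of_isCompact Z hU _ _ H
  refine ⟨N, ?_⟩
  have hgN : g ^ N ∈ 𝒜 N := by
    have := SetLike.pow_mem_graded N hg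
    rwa [smul_eq_mul, mul_one] at this
  rw [fr_mul_of_mem 𝒜 hh hgN ha, fr_pow 𝒜 hg hh, map_mul, map_pow]
  exact hN

end loc

end Groth.Agent.Lib.Helper28.ProjClosed
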