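import Groth.Agent.Lib.Helper28.ProjFrac
import Groth.Agent.Lib.Helper28.DecompProj
import Groth.Agent.Lib.Helper28.ModGlueHom

/-!
# The graded module of "twisted global sections" of a module on `Proj`, for degree one generators

For a finite set `s` of elements of degree one and a module `F` on `Proj 𝒜`, the graded `A`-module `M = ⊕ Mₙ`, where
`Mₙ` is the set of families `(m_f)`, `m_f ∈ Γ(F, D₊(f))`, `f ∈ s`, with `m_g = (f/g)^n m_f` on `D₊(f) ∩ D₊(g)`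
(the sections of `F(n)`), realized inside the product of the polynomial modules `Γ(F, D₊(f))[X]`, on which `A` acts
through `θ_f : A → Γ(D₊(f), O)[X]`.
-/

set_option autoImplicit false
universe u
open CategoryTheory AlgebraicGeometry Opposite TopologicalSpace HomogeneousLocalization
noncomputable section

namespace Groth.Agent.Lib.Helper28.GammaStar

open Groth.Agent.Lib.Helper28 Groth.Agent.Lib.Helper28.GrTildeQC Groth.Agent.Lib.Helper28.QCohLoc
  Groth.Agent.Lib.Helper28.ProjFrac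

variable {R A : Type u} [CommRing R] [CommRing A] [Algebra R A] (𝒜 : ℕ → Submodule R A) [GradedAlgebra 𝒜]
  (s : Finset A) (F : (Proj 𝒜).Modules)

/-- the index type: the elements of `s` of degree one -/
abbrev J : Type u := {f : A // f ∈ 𝒜 1 ∧ f ∈ s}

instance : Finite (J 𝒜 s) :=
  Finite.of_injective (fun f : J 𝒜 s => (⟨f.1, f.2.2⟩ : {f // f ∈ s})) (by
    intro a b h
    have h' : (⟨a.1, a.2.2⟩ : {f // f ∈ s}) = ⟨b.1, b.2.2⟩ := h
    exact Subtype.ext (show a.1 = b.1 from congrArg (fun t : {f // f ∈ s} => t.1) h'))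

/-- the standard open of an index -/
abbrev U (f : J 𝒜 s) : (Proj 𝒜).Opens := Proj.basicOpen 𝒜 f.1

/-- the polynomial module `Γ(F, D₊(f))[X]`, as a type synonym carrying the `A`-module structure through `θ` -/
def PM (f : J 𝒜 s) : Type u := PolynomialModule Γ(Proj 𝒜, U 𝒜 s f) Γ(F, U 𝒜 s f)

instance (f : J 𝒜 s) : AddCommGroup (PM 𝒜 s F f) :=
  inferInstanceAs (AddCommGroup (PolynomialModule Γ(Proj 𝒜, U 𝒜 s f) Γ(F, U 𝒜 s f)))

instance (f : J 𝒜 s) : Module A (PM 𝒜 s F f) :=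
  Module.compHom (PolynomialModule Γ(Proj 𝒜, U 𝒜 s f) Γ(F, U 𝒜 s f)) (θ 𝒜 f.2.1)

variable {𝒜 s F}

/-- the coefficients -/
def co {f : J 𝒜 s} (p : PM 𝒜 s F f) (n : ℕ) : Γ(F, U 𝒜 s f) :=
  (show PolynomialModule Γ(Proj 𝒜, U 𝒜 s f) Γ(F, U 𝒜 s f) from p).coeff n

theorem co_ext {f : J 𝒜 s} (p q : PM 𝒜 s F f) (h : ∀ n, co p n = co q n) : p = q :=
  PolynomialModule.coeff_injective (Finsupp.ext h)

theorem co_zero {f : J 𝒜 s} (n : ℕ) : co (0 : PM 𝒜 s F f) n = 0 := rfl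

theorem co_add {f : J 𝒜 s} (p q : PM 𝒜 s F f) (n : ℕ) : co (p + q) n = co p n + co q n := rfl

/-- the monomial `m Xⁿ` -/
def sg (f : J 𝒜 s) (n : ℕ) (m : Γ(F, U 𝒜 s f)) : PM 𝒜 s F f :=
  PolynomialModule.single Γ(Proj 𝒜, U 𝒜 s f) n m

theorem co_sg (f : J 𝒜 s) (n : ℕ) (m : Γ(F, U 𝒜 s f)) (k : ℕ) :
    co (sg f n m) k = if n = k then m else 0 := by
  change (Finsupp.single n m : ℕ →₀ Γ(F, U 𝒜 s f)) k = _
  rw [Finsupp.single_apply]

theorem smul_def {f : J 𝒜 s} (a : A) (p : PM 𝒜 s F f) :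
    a • p = (θ 𝒜 f.2.1 a • (show PolynomialModule Γ(Proj 𝒜, U 𝒜 s f) Γ(F, U 𝒜 s f) from p) :
      PolynomialModule Γ(Proj 𝒜, U 𝒜 s f) Γ(F, U 𝒜 s f)) := rfl

theorem co_smul_of_mem {f : J 𝒜 s} {d : ℕ} {a : A} (ha : a ∈ 𝒜 d) (p : PM 𝒜 s F f) (n : ℕ) :
    co (a • p) n = if d ≤ n then (fr 𝒜 f.2.1 d a ha • co p (n - d) : Γ(F, U 𝒜 s f)) else 0 := by
  rw [smul_def, θ_of_mem 𝒜 f.2.1 ha]
  exact PolynomialModule.monomial_smul_apply d _ _ n


variable (𝒜 s F) in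
/-- the ambient module -/
abbrev Mbig : Type u := ∀ f : J 𝒜 s, PM 𝒜 s F f

/-- the function `f/g` on `D₊(f) ∩ D₊(g)` -/
def rat (f g : J 𝒜 s) : Γ(Proj 𝒜, U 𝒜 s f ⊓ U 𝒜 s g) :=
  resO (inf_le_right : U 𝒜 s f ⊓ U 𝒜 s g ≤ U 𝒜 s g) (fr 𝒜 g.2.1 1 f.1 f.2.1)

/-- `a / g^d = (f/g)^d (a / f^d)` on `D₊(f) ∩ D₊(g)` -/
theorem fr_rat (f g : J 𝒜 s) (d : ℕ) (a : A) (ha : a ∈ 𝒜 d) :
    resO (inf_le_right : U 𝒜 s f ⊓ U 𝒜 s g ≤ U 𝒜 s g) (fr 𝒜 g.2.1 d a ha) =
      rat f g ^ d * resO (inf_le_left : U 𝒜 s f ⊓ U 𝒜 s g ≤ U 𝒜 s f) (fr 𝒜 f.2.1 d a ha) :=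
  fr_overlap 𝒜 f.2.1 g.2.1 inf_le_left inf_le_right d a ha

/-- the compatibility condition in degree `n`: `m_g = (f/g)^n m_f` on `D₊(f) ∩ D₊(g)` -/
def CompatAt (n : ℕ) (p : Mbig 𝒜 s F) : Prop :=
  ∀ f g : J 𝒜 s, res F (inf_le_right : U 𝒜 s f ⊓ U 𝒜 s g ≤ U 𝒜 s g) (co (p g) n) =
    (rat f g ^ n • res F (inf_le_left : U 𝒜 s f ⊓ U 𝒜 s g ≤ U 𝒜 s f) (co (p f) n) :
      Γ(F, U 𝒜 s f ⊓ U 𝒜 s g))

theorem compatAt_zero (n : ℕ) : CompatAt n (0 : Mbig 𝒜 s F) := by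
  intro f g
  change res F _ (co (0 : PM 𝒜 s F g) n) = (rat f g ^ n • res F _ (co (0 : PM 𝒜 s F f) n) : Γ(F, U 𝒜 s f ⊓ U 𝒜 s g))
  rw [co_zero, co_zero, res_zero, res_zero, smul_zero]

theorem compatAt_add (n : ℕ) {p q : Mbig 𝒜 s F} (hp : CompatAt n p) (hq : CompatAt n q) : CompatAt n (p + q) := by
  intro f g
  change res F _ (co (p g + q g) n) = (rat f g ^ n • res F _ (co (p f + q f) n) : Γ(F, U 𝒜 s f ⊓ U 𝒜 s g))
  rw [co_add, co_add, res_add, res_add, smul_add, hp f g, hq f g]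

theorem compatAt_smul_of_mem {d : ℕ} {a : A} (ha : a ∈ 𝒜 d) {p : Mbig 𝒜 s F} (hp : ∀ n, CompatAt n p) (n : ℕ) :
    CompatAt n (a • p) := by
  intro f g
  change res F _ (co (a • p g) n) = (rat f g ^ n • res F _ (co (a • p f) n) : Γ(F, U 𝒜 s f ⊓ U 𝒜 s g))
  rw [co_smul_of_mem ha, co_smul_of_mem ha]
  by_cases hdn : d ≤ n
  · rw [if_pos hdn, if_pos hdn, res_smul, res_smul, hp (n - d) f g, fr_rat f g d a ha, smul_smul, smul_smul]
    congr 1
    have : rat f g ^ n = rat f g ^ d * rat f g ^ (n - d) := by rw [← pow_add, Nat.add_sub_cancel' hdn]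
    rw [this]
    ring
  · rw [if_neg hdn, if_neg hdn, res_zero, res_zero, smul_zero]

variable (𝒜 s F) in
/-- the graded module, as a submodule of the ambient module -/
def Msub : Submodule A (Mbig 𝒜 s F) where
  carrier := {p | ∀ n, CompatAt n p}
  zero_mem' n := compatAt_zero n
  add_mem' hp hq n := compatAt_add n (hp n) (hq n)
  smul_mem' a p hp := by
    induction a using DirectSum.Decomposition.inductionOn 𝒜 with
    | zero => intro n; rw [zero_smul]; exact compatAt_zero n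
    | homogeneous x => exact fun n => compatAt_smul_of_mem x.2 hp n
    | add x y hx hy => intro n; rw [add_smul]; exact compatAt_add n (hx n) (hy n)

variable (𝒜 s F) in
/-- the graded module `M` -/
abbrev MM : Type u := ↥(Msub 𝒜 s F)

instance : Module R (MM 𝒜 s F) := Module.compHom (MM 𝒜 s F) (algebraMap R A)

instance : IsScalarTower R A (MM 𝒜 s F) := IsScalarTower.of_algebraMap_smul fun _ _ => rfl

theorem algebraMap_smul' (r : R) (p : MM 𝒜 s F) : r • p = algebraMap R A r • p := rfl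

/-- the coefficient maps -/
def cf (f : J 𝒜 s) (n : ℕ) (p : MM 𝒜 s F) : Γ(F, U 𝒜 s f) := co (p.1 f) n

theorem cf_add (f : J 𝒜 s) (n : ℕ) (p q : MM 𝒜 s F) : cf f n (p + q) = cf f n p + cf f n q := rfl

theorem cf_zero (f : J 𝒜 s) (n : ℕ) : cf f n (0 : MM 𝒜 s F) = 0 := rfl

theorem cf_ext (p q : MM 𝒜 s F) (h : ∀ f n, cf f n p = cf f n q) : p = q :=
  Subtype.ext (funext fun f => co_ext _ _ (h f))

theorem cf_smul_of_mem {d : ℕ} {a : A} (ha : a ∈ 𝒜 d) (f : J 𝒜 s) (n : ℕ) (p : MM 𝒜 s F) :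
    cf f n (a • p) = if d ≤ n then (fr 𝒜 f.2.1 d a ha • cf f (n - d) p : Γ(F, U 𝒜 s f)) else 0 :=
  co_smul_of_mem ha (p.1 f) n

theorem cf_compat (p : MM 𝒜 s F) (n : ℕ) (f g : J 𝒜 s) :
    res F (inf_le_right : U 𝒜 s f ⊓ U 𝒜 s g ≤ U 𝒜 s g) (cf g n p) =
      (rat f g ^ n • res F (inf_le_left : U 𝒜 s f ⊓ U 𝒜 s g ≤ U 𝒜 s f) (cf f n p) : Γ(F, U 𝒜 s f ⊓ U 𝒜 s g)) :=
  p.2 n f g


variable (𝒜 s F) in
/-- the homogeneous part of degree `n` -/
def grading (n : ℕ) : Submodule R (MM 𝒜 s F) where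
  carrier := {p | ∀ f k, k ≠ n → cf f k p = 0}
  zero_mem' := fun f k _ => cf_zero f k
  add_mem' hp hq f k hk := by rw [cf_add, hp f k hk, hq f k hk, add_zero]
  smul_mem' r p hp f k hk := by
    rw [algebraMap_smul', cf_smul_of_mem (SetLike.algebraMap_mem_graded 𝒜 r), if_pos (Nat.zero_le k), Nat.sub_zero,
      hp f k hk, smul_zero]

theorem mem_grading (n : ℕ) (p : MM 𝒜 s F) : p ∈ grading 𝒜 s F n ↔ ∀ f k, k ≠ n → cf f k p = 0 := Iff.rfl

instance : SetLike.GradedSMul 𝒜 (grading 𝒜 s F) where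
  smul_mem {d n a p} ha hp := by
    rw [vadd_eq_add, mem_grading]
    intro f k hk
    rw [cf_smul_of_mem ha]
    by_cases hdk : d ≤ k
    · rw [if_pos hdk, hp f (k - d) (by omega), smul_zero]
    · rw [if_neg hdk]

/-- the component of degree `n` of a family -/
def compBig (n : ℕ) (p : Mbig 𝒜 s F) : Mbig 𝒜 s F := fun f => sg f n (co (p f) n)

theorem co_compBig (n : ℕ) (p : Mbig 𝒜 s F) (f : J 𝒜 s) (k : ℕ) :
    co (compBig n p f) k = if n = k then co (p f) n else 0 := co_sg f n _ k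

theorem compBig_mem (n : ℕ) (p : Mbig 𝒜 s F) (hp : p ∈ Msub 𝒜 s F) : compBig n p ∈ Msub 𝒜 s F := by
  intro k f g
  rw [co_compBig, co_compBig]
  by_cases hnk : n = k
  · subst hnk
    rw [if_pos rfl, if_pos rfl]
    exact hp n f g
  · rw [if_neg hnk, if_neg hnk, res_zero, res_zero, smul_zero]

/-- the projection onto the homogeneous part of degree `n` -/
def proj (n : ℕ) : MM 𝒜 s F →+ MM 𝒜 s F where
  toFun p := ⟨compBig n p.1, compBig_mem n p.1 p.2⟩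
  map_zero' := by
    refine cf_ext _ _ fun f k => ?_
    change co (compBig n (0 : MM 𝒜 s F).1 f) k = 0
    rw [co_compBig]
    split_ifs
    · rfl
    · rfl
  map_add' p q := by
    refine cf_ext _ _ fun f k => ?_
    change co (compBig n (p + q).1 f) k = co (compBig n p.1 f) k + co (compBig n q.1 f) k
    rw [co_compBig, co_compBig, co_compBig]
    split_ifs
    · rfl
    · rw [add_zero]

theorem cf_proj (n : ℕ) (p : MM 𝒜 s F) (f : J 𝒜 s) (k : ℕ) :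
    cf f k (proj n p) = if n = k then cf f n p else 0 := co_compBig n p.1 f k

theorem proj_mem (n : ℕ) (p : MM 𝒜 s F) : proj n p ∈ grading 𝒜 s F n := by
  intro f k hk
  rw [cf_proj, if_neg (Ne.symm hk)]

theorem proj_of_mem (n : ℕ) (p : MM 𝒜 s F) (hp : p ∈ grading 𝒜 s F n) : proj n p = p := by
  refine cf_ext _ _ fun f k => ?_
  rw [cf_proj]
  by_cases hnk : n = k
  · subst hnk; rw [if_pos rfl]
  · rw [if_neg hnk, hp f k (Ne.symm hnk)]

theorem proj_of_mem_ne (n m : ℕ) (p : MM 𝒜 s F) (hmn : m ≠ n) (hp : p ∈ grading 𝒜 s F m) : proj n p = 0 := by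
  refine cf_ext _ _ fun f k => ?_
  rw [cf_proj, cf_zero]
  by_cases hnk : n = k
  · rw [if_pos hnk, hp f n (Ne.symm hmn)]
  · rw [if_neg hnk]

theorem exists_sum_proj (p : MM 𝒜 s F) : ∃ S : Finset ℕ, p = ∑ n ∈ S, proj n p := by
  classical
  haveI : Fintype (J 𝒜 s) := Fintype.ofFinite _
  let S : Finset ℕ := Finset.univ.biUnion fun f : J 𝒜 s =>
    (show PolynomialModule Γ(Proj 𝒜, U 𝒜 s f) Γ(F, U 𝒜 s f) from p.1 f).coeff.support
  refine ⟨S, cf_ext _ _ fun f k => ?_⟩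
  have hsum : ∀ (T : Finset ℕ), cf f k (∑ n ∈ T, proj n p) = ∑ n ∈ T, cf f k (proj n p) := by
    intro T
    induction T using Finset.induction_on with
    | empty => simp [cf_zero]
    | insert a T ha ih => rw [Finset.sum_insert ha, Finset.sum_insert ha, cf_add, ih]
  rw [hsum]
  simp_rw [cf_proj]
  rw [Finset.sum_ite_eq' S k]
  by_cases hk : k ∈ S
  · rw [if_pos hk]
  · rw [if_neg hk]
    by_contra hne
    apply hk
    refine Finset.mem_biUnion.mpr ⟨f, Finset.mem_univ _, ?_⟩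
    rw [Finsupp.mem_support_iff]
    exact hne

instance : DirectSum.Decomposition (grading 𝒜 s F) :=
  DecompProj.decomposition (grading 𝒜 s F) proj proj_mem proj_of_mem
    (fun n m x hmn hx => proj_of_mem_ne n m x hmn hx) exists_sum_proj

end Groth.Agent.Lib.Helper28.GammaStar
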