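import Groth.Agent.Lib.Helper28.RLPsiG

set_option autoImplicit false
universe u
open CategoryTheory CategoryTheory.Limits AlgebraicGeometry Opposite TopologicalSpace
open HomogeneousLocalization
noncomputable section

namespace Groth.Agent.Lib.Helper28.RLPsi

section generic

theorem isIso_of_isIso_specMap {R S : CommRingCat.{u}} (f : R ⟶ S) (h : IsIso (Spec.map f)) : IsIso f := by
  refine ⟨Spec.preimage (inv (Spec.map f)), ?_, ?_⟩
  · apply Spec.map_injective
    rw [Spec.map_comp, Spec.map_preimage, Spec.map_id, IsIso.inv_hom_id]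
  · apply Spec.map_injective
    rw [Spec.map_comp, Spec.map_preimage, Spec.map_id, IsIso.hom_inv_id]

theorem surjective_of_isClosedImmersion_specMap {R S : CommRingCat.{u}} (ψ : R ⟶ S)
    (h : IsClosedImmersion (Spec.map ψ)) : Function.Surjective ψ.hom := by
  have h1 := (IsClosedImmersion.isAffine_surjective_of_isAffine (Spec.map ψ)).2
  have h2 := Scheme.ΓSpecIso_naturality ψ
  intro y
  obtain ⟨x, hx⟩ := h1 ((Scheme.ΓSpecIso S).inv.hom y)
  refine ⟨(Scheme.ΓSpecIso R).hom.hom x, ?_⟩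
  have h3 := congrArg (fun k => k.hom x) h2
  simp only [CommRingCat.hom_comp, RingHom.comp_apply] at h3
  rw [← h3, hx]
  exact congrArg (fun k => k.hom y) (Scheme.ΓSpecIso S).inv_hom_id

theorem prop_of_charts (P : MorphismProperty Scheme.{u}) [IsZariskiLocalAtTarget P]
    [P.RespectsRight @IsOpenImmersion]
    {X Y : Scheme.{u}} (f : X ⟶ Y) {ι : Type*} (S T : ι → Scheme.{u}) (α : ∀ a, S a ⟶ X)
    (g : ∀ a, S a ⟶ T a) (β : ∀ a, T a ⟶ Y) [∀ a, IsOpenImmersion (β a)]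
    (hpb : ∀ a, IsPullback (α a) (g a) f (β a)) (hcov : ∀ x : X, ∃ a, x ∈ Set.range (α a))
    (hg : ∀ a, P (g a)) : P f := by
  refine IsZariskiLocalAtTarget.of_range_subset_iSup (fun a => (β a).opensRange) ?_ (fun a => ?_)
  · rintro _ ⟨x, rfl⟩
    obtain ⟨a, x', rfl⟩ := hcov x
    refine Opens.mem_iSup.2 ⟨a, g a x', ?_⟩
    exact (congrArg (fun k => k x') (hpb a).w).symm
  · rw [P.arrow_mk_iso_iff (morphismRestrictOpensRange f (β a))]
    have h1 : g a = (hpb a).isoPullback.hom ≫ pullback.snd f (β a) := ((hpb a).isoPullback_hom_snd).symm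
    rw [← P.cancel_left_of_respectsIso (hpb a).isoPullback.hom, ← h1]
    exact hg a

theorem prop_of_charts_cover (P : MorphismProperty Scheme.{u}) [IsZariskiLocalAtTarget P]
    {X Y : Scheme.{u}} (f : X ⟶ Y) {ι : Type*} (S T : ι → Scheme.{u}) (α : ∀ a, S a ⟶ X)
    (g : ∀ a, S a ⟶ T a) (β : ∀ a, T a ⟶ Y) [∀ a, IsOpenImmersion (β a)]
    (hpb : ∀ a, IsPullback (α a) (g a) f (β a)) (hcov : (⨆ a, (β a).opensRange) = ⊤)
    (hg : ∀ a, P (g a)) : P f := by
  refine IsZariskiLocalAtTarget.of_iSup_eq_top (fun a => (β a).opensRange) hcov (fun a => ?_)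
  rw [P.arrow_mk_iso_iff (morphismRestrictOpensRange f (β a))]
  have h1 : g a = (hpb a).isoPullback.hom ≫ pullback.snd f (β a) := ((hpb a).isoPullback_hom_snd).symm
  rw [← P.cancel_left_of_respectsIso (hpb a).isoPullback.hom, ← h1]
  exact hg a

theorem opensRange_congr {X Y : Scheme.{u}} {f g : X ⟶ Y} [IsOpenImmersion f] [IsOpenImmersion g] (h : f = g) :
    f.opensRange = g.opensRange := by
  subst h
  rfl

instance : MorphismProperty.RespectsRight @IsImmersion @IsOpenImmersion where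
  postcomp i hi f hf := by
    have : IsOpenImmersion i := hi
    have : IsImmersion f := hf
    infer_instance

instance : MorphismProperty.RespectsRight @IsOpenImmersion @IsOpenImmersion where
  postcomp i hi f hf := by
    have : IsOpenImmersion i := hi
    have : IsOpenImmersion f := hf
    infer_instance

end generic

open Groth.Agent.Lib.Helper28
open Groth.Agent.Lib.Helper28.RelProjBC (AffPair)
open Groth.Agent.Lib.Helper28.RelProjQ (φQ mem_range_emb)

section key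

variable {Y X P PL : Scheme.{u}} {q : X ⟶ Y} {L : X.Modules} [L.IsQuasicoherent]
  {𝒮 : RelProj.QCGrAlg Y} {𝒮L : RelProj.QCGrAlg X} {j : L ⟶ 𝒮L.toModule} (hj : RelProj.IsGrSymAlg L 𝒮L j)
  (u : RelProj.QGrHom q 𝒮 𝒮L)
  (p : P ⟶ Y) (chart : ∀ (U : Y.Opens) (hU : IsAffineOpen U), (((p ⁻¹ᵁ U : P.Opens) : Scheme.{u}) ≅ Proj (𝒮.deg U hU)))
  (pL : PL ⟶ X)
  (chartL : ∀ (U : X.Opens) (hU : IsAffineOpen U), (((pL ⁻¹ᵁ U : PL.Opens) : Scheme.{u}) ≅ Proj (𝒮L.deg U hU)))
  (hPL : RelProj.IsRelProj 𝒮L pL chartL)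
  (r : ((RelProj.domQ u pL chartL : PL.Opens) : Scheme.{u}) ⟶ P)
  (hr : RelProj.IsProjQMapOn u p chart pL chartL (RelProj.domQ u pL chartL) r)
  (hY : IsAffineOpen (⊤ : Y.Opens))

/-- the nonvanishing locus `X_t`, `t = ψ♭(s)` -/
def XTs (n : ℕ) (s : 𝒮.presheaf.obj (op ⊤)) : X.Opens :=
  ⨆ V : {V : X.affineOpens //
    ((𝒮L.deg V.1 V.2 n : AddSubgroup (𝒮L.presheaf.obj (op (V.1 : X.Opens)))) : Set (𝒮L.presheaf.obj (op (V.1 : X.Opens)))) ⊆
      (Ideal.span {tau u s (V.1 : X.Opens)} : Set (𝒮L.presheaf.obj (op (V.1 : X.Opens))))},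
    (V.1.1 : X.Opens)

omit [L.IsQuasicoherent] in
theorem mem_XTs_iff (n : ℕ) (s : 𝒮.presheaf.obj (op ⊤)) (x : X) : x ∈ XTs u n s ↔ NV u n s x := by
  constructor
  · intro h
    obtain ⟨⟨⟨V', hV'⟩, hsub⟩, hxV'⟩ := Opens.mem_iSup.1 h
    exact ⟨V', hV', hxV', hsub⟩
  · rintro ⟨V', hV', hxV', hsub⟩
    exact Opens.mem_iSup.2 ⟨⟨⟨V', hV'⟩, hsub⟩, hxV'⟩

/-- the standard open `D₊(s)` of `P` -/
def WP (s : 𝒮.presheaf.obj (op ⊤)) : P.Opens :=
  (RelProj.emb p chart ⊤ hY) ''ᵁ Proj.basicOpen (𝒮.deg ⊤ hY) s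

/-- condition (iii): every function on `X_t` is `ψ♭(s') t^{-m}` -/
def Cond3 (n : ℕ) (s : 𝒮.presheaf.obj (op ⊤)) : Prop :=
  ∀ t : Γ(X, XTs u n s), ∃ (m : ℕ) (_ : 0 < m) (s' : 𝒮.presheaf.obj (op ⊤)) (_ : s' ∈ 𝒮.deg ⊤ hY (m * n)),
    (𝒮L.str.app (op (XTs u n s))).hom t * (tau u s (XTs u n s)) ^ m = tau u s' (XTs u n s)

/-- condition (iv) -/
def Cond4 (n : ℕ) (s : 𝒮.presheaf.obj (op ⊤)) : Prop :=
  ∀ (m : ℕ), 0 < m → ∀ s' ∈ 𝒮.deg ⊤ hY (m * n), tau u s' (XTs u n s) = 0 → ∃ (k : ℕ), 0 < k ∧ s ^ k * s' = 0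

variable {n : ℕ} (hn : 0 < n) (s : 𝒮.presheaf.obj (op ⊤)) (hs : s ∈ 𝒮.deg ⊤ hY n)

include hj hPL hr hn hs in
theorem image_preimage_WP (hL : PicF.IsInvertible L) :
    (RelProj.domQ u pL chartL).ι ''ᵁ (r ⁻¹ᵁ WP p chart hY s) = pL ⁻¹ᵁ XTs u n s :=
  preimage_basicOpen_eq hj u p chart pL chartL hPL r hr hY hL hn s hs

variable (hV : IsAffineOpen (XTs u n s))

include hj hPL hr hn hs in
theorem basicOpen_tau_eq_top (hL : PicF.IsInvertible L) :
    Proj.basicOpen (𝒮L.deg (XTs u n s) hV) (tau u s (XTs u n s)) = ⊤ := by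
  refine top_le_iff.1 fun y _ => ?_
  have h1 : pL (RelProj.emb pL chartL (XTs u n s) hV y) ∈ XTs u n s :=
    (mem_range_emb pL chartL (XTs u n s) hV _).1 ⟨y, rfl⟩
  have h2 : RelProj.emb pL chartL (XTs u n s) hV y ∈
      (RelProj.domQ u pL chartL).ι ''ᵁ (r ⁻¹ᵁ WP p chart hY s) := by
    rw [image_preimage_WP hj u p chart pL chartL hPL r hr hY hn s hs hL]
    exact h1
  exact (mem_preimage_iff u p chart pL chartL hPL r hr hY hn s hs hV y).1 h2

/-- the graded map of the pair `(Y, X_t)` -/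
abbrev phiV : 𝒮.deg ⊤ hY →+*ᵍ 𝒮L.deg (XTs u n s) hV :=
  u.gradedAt ⊤ hY (XTs u n s) hV (le_preimage_top _)

/-- `S_(s)` -/
abbrev RA : CommRingCat.{u} := CommRingCat.of (Away (𝒮.deg ⊤ hY) s)

/-- `𝒮L(X_t)_(t)` -/
abbrev RB : CommRingCat.{u} := CommRingCat.of (Away (𝒮L.deg (XTs u n s) hV) (phiV u hY s hV s))

/-- the ring map `S_(s) → 𝒮L(X_t)_(t)` -/
def psiAway : RA hY s ⟶ RB u hY s hV := CommRingCat.ofHom (Away.map (phiV u hY s hV) s)

/-- the chart `Spec S_(s) → P` -/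
def betaP : Spec (RA hY s) ⟶ P := Proj.awayι (𝒮.deg ⊤ hY) s hs hn ≫ RelProj.emb p chart ⊤ hY

instance : IsOpenImmersion (betaP p chart hY hn s hs) := by
  unfold betaP
  infer_instance

/-- the chart `Spec 𝒮L(X_t)_(t) → PL` -/
def alphaE : Spec (RB u hY s hV) ⟶ PL :=
  RelProj.awayEmb u pL chartL ⊤ hY (XTs u n s) hV (le_preimage_top _) hn s hs

instance : IsOpenImmersion (alphaE u pL chartL hY hn s hs hV) := by
  unfold alphaE RelProj.awayEmb
  infer_instance

/-- the chart `Spec 𝒮L(X_t)_(t) → G(ψ)` -/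
def alphaD : Spec (RB u hY s hV) ⟶ ((RelProj.domQ u pL chartL : PL.Opens) : Scheme.{u}) :=
  IsOpenImmersion.lift (RelProj.domQ u pL chartL).ι (alphaE u pL chartL hY hn s hs hV)
    (RelProj.range_awayEmb_subset_domQ u pL chartL ⊤ hY (XTs u n s) hV (le_preimage_top _) hn s hs)

theorem alphaD_ι : alphaD u pL chartL hY hn s hs hV ≫ (RelProj.domQ u pL chartL).ι =
    alphaE u pL chartL hY hn s hs hV :=
  IsOpenImmersion.lift_fac _ _ _

instance : IsOpenImmersion (alphaD u pL chartL hY hn s hs hV) := by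
  have : IsOpenImmersion (alphaD u pL chartL hY hn s hs hV ≫ (RelProj.domQ u pL chartL).ι) := by
    rw [alphaD_ι]
    infer_instance
  exact IsOpenImmersion.of_comp _ (RelProj.domQ u pL chartL).ι

include hr in
theorem alphaD_r : alphaD u pL chartL hY hn s hs hV ≫ r =
    Spec.map (psiAway u hY s hV) ≫ betaP p chart hY hn s hs :=
  hr ⊤ hY (XTs u n s) hV (le_preimage_top _) n hn s hs
    (RelProj.range_awayEmb_subset_domQ u pL chartL ⊤ hY (XTs u n s) hV (le_preimage_top _) hn s hs)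

theorem opensRange_betaP : (betaP p chart hY hn s hs).opensRange = WP p chart hY s := by
  unfold betaP WP
  rw [Scheme.Hom.opensRange_comp, Proj.opensRange_awayι]

include hj hPL hr in
theorem opensRange_alphaD (hL : PicF.IsInvertible L) :
    (alphaD u pL chartL hY hn s hs hV).opensRange = r ⁻¹ᵁ WP p chart hY s := by
  apply (RelProj.domQ u pL chartL).ι.image_injective
  show (RelProj.domQ u pL chartL).ι ''ᵁ (alphaD u pL chartL hY hn s hs hV).opensRange =
    (RelProj.domQ u pL chartL).ι ''ᵁ (r ⁻¹ᵁ WP p chart hY s)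
  rw [image_preimage_WP hj u p chart pL chartL hPL r hr hY hn s hs hL, ← Scheme.Hom.opensRange_comp,
    opensRange_congr (alphaD_ι u pL chartL hY hn s hs hV)]
  have h0 : (alphaE u pL chartL hY hn s hs hV).opensRange =
      (Proj.awayι (𝒮L.deg (XTs u n s) hV) (u.gradedAt ⊤ hY (XTs u n s) hV (le_preimage_top _) s)
        ((u.gradedAt ⊤ hY (XTs u n s) hV (le_preimage_top _)).map_mem hs) hn ≫
          RelProj.emb pL chartL (XTs u n s) hV).opensRange := rfl
  rw [h0, Scheme.Hom.opensRange_comp, Proj.opensRange_awayι]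
  have h1 : Proj.basicOpen (𝒮L.deg (XTs u n s) hV) ((u.gradedAt ⊤ hY (XTs u n s) hV (le_preimage_top _)) s) = ⊤ :=
    basicOpen_tau_eq_top hj u p chart pL chartL hPL r hr hY hn s hs hV hL
  rw [h1, Scheme.Hom.image_top_eq_opensRange, RelProjBC.opensRange_emb]

include hj hPL hr in
/-- **the chart square of `r` over `D₊(s)` is cartesian** -/
theorem isPullback_chart (hL : PicF.IsInvertible L) :
    IsPullback (alphaD u pL chartL hY hn s hs hV) (Spec.map (psiAway u hY s hV)) r (betaP p chart hY hn s hs) := by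
  refine (IsOpenImmersion.isPullback (Spec.map (psiAway u hY s hV)) (alphaD u pL chartL hY hn s hs hV)
    (betaP p chart hY hn s hs) r (alphaD_r u p chart pL chartL r hr hY hn s hs hV) ?_).flip
  rw [opensRange_betaP, opensRange_alphaD hj u p chart pL chartL hPL r hr hY hn s hs hV hL]

include hj hPL hr in
theorem opensRange_alphaE (hL : PicF.IsInvertible L) :
    (alphaE u pL chartL hY hn s hs hV).opensRange = pL ⁻¹ᵁ XTs u n s := by
  have h0 : (alphaE u pL chartL hY hn s hs hV).opensRange =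
      (Proj.awayι (𝒮L.deg (XTs u n s) hV) (u.gradedAt ⊤ hY (XTs u n s) hV (le_preimage_top _) s)
        ((u.gradedAt ⊤ hY (XTs u n s) hV (le_preimage_top _)).map_mem hs) hn ≫
          RelProj.emb pL chartL (XTs u n s) hV).opensRange := rfl
  rw [h0, Scheme.Hom.opensRange_comp, Proj.opensRange_awayι]
  have h1 : Proj.basicOpen (𝒮L.deg (XTs u n s) hV) ((u.gradedAt ⊤ hY (XTs u n s) hV (le_preimage_top _)) s) = ⊤ :=
    basicOpen_tau_eq_top hj u p chart pL chartL hPL r hr hY hn s hs hV hL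
  rw [h1, Scheme.Hom.image_top_eq_opensRange, RelProjBC.opensRange_emb]

/-- the structure map `O(X_t) → 𝒮L(X_t)_(t)` -/
def strB : Γ(X, XTs u n s) ⟶ RB u hY s hV :=
  𝒮L.strZero (XTs u n s) hV ≫
    CommRingCat.ofHom (fromZeroRingHom (𝒮L.deg (XTs u n s) hV) (Submonoid.powers (phiV u hY s hV s)))

include hPL in
theorem specMap_strB_fromSpec :
    Spec.map (strB u hY s hV) ≫ hV.fromSpec = alphaE u pL chartL hY hn s hs hV ≫ pL := by
  unfold strB alphaE RelProj.awayEmb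
  rw [Spec.map_comp, Category.assoc, Category.assoc, emb_comp_pL hV pL chartL hPL,
    ← Proj.awayι_toSpecZero_assoc (𝒮L.deg (XTs u n s) hV) _
      ((u.gradedAt ⊤ hY (XTs u n s) hV (le_preimage_top _)).map_mem hs) hn]
  rfl

include hj hPL hr hn hs in
/-- `O(X_t) ≅ 𝒮L(X_t)_(t)` -/
theorem isIso_strB (hL : PicF.IsInvertible L) : IsIso (strB u hY s hV) := by
  have hiso : IsIso pL := SymAlg.isIso_proj_symLine hL hj pL chartL hPL
  apply isIso_of_isIso_specMap
  have hrange : Set.range (alphaE u pL chartL hY hn s hs hV ≫ pL) = Set.range hV.fromSpec := by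
    rw [hV.range_fromSpec]
    have h1 := opensRange_alphaE hj u p chart pL chartL hPL r hr hY hn s hs hV hL
    have h2 : (alphaE u pL chartL hY hn s hs hV ≫ pL).opensRange = XTs u n s := by
      rw [Scheme.Hom.opensRange_comp, h1, Scheme.Hom.image_preimage_eq_opensRange_inf]
      have : pL.opensRange = ⊤ := by
        apply top_le_iff.1
        intro x _
        exact pL.surjective x
      rw [this, top_inf_eq]
    exact congrArg (fun W : X.Opens => (W : Set X)) h2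
  have h3 : Spec.map (strB u hY s hV) =
      (IsOpenImmersion.isoOfRangeEq (alphaE u pL chartL hY hn s hs hV ≫ pL) hV.fromSpec hrange).hom := by
    rw [← cancel_mono hV.fromSpec, IsOpenImmersion.isoOfRangeEq_hom_fac]
    exact specMap_strB_fromSpec u pL chartL hPL hY hn s hs hV
  rw [h3]
  infer_instance

omit [L.IsQuasicoherent] in
theorem val_strB (t : Γ(X, XTs u n s)) :
    ((strB u hY s hV).hom t).val =
      Localization.mk ((𝒮L.str.app (op (XTs u n s))).hom t) (1 : Submonoid.powers (phiV u hY s hV s)) := rfl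

omit [L.IsQuasicoherent] in
theorem psiAway_mk (m : ℕ) (s' : 𝒮.presheaf.obj (op ⊤)) (hs' : s' ∈ 𝒮.deg ⊤ hY (m • n)) :
    (psiAway u hY s hV).hom (Away.mk (𝒮.deg ⊤ hY) hs m s' hs') =
      Away.mk (𝒮L.deg (XTs u n s) hV) ((phiV u hY s hV).map_mem hs) m (phiV u hY s hV s')
        ((phiV u hY s hV).map_mem hs') :=
  Away.map_mk (phiV u hY s hV) s hs m s' hs'

include hj hPL hr hn hs in
theorem surjective_psiAway_of_cond3 (hL : PicF.IsInvertible L) (h3 : Cond3 u hY n s) :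
    Function.Surjective (psiAway u hY s hV).hom := by
  have hiso := isIso_strB hj u p chart pL chartL hPL r hr hY hn s hs hV hL
  intro b
  obtain ⟨t, rfl⟩ := (ConcreteCategory.bijective_of_isIso (strB u hY s hV)).2 b
  obtain ⟨m, hm, s', hs', heq⟩ := h3 t
  have hs'' : s' ∈ 𝒮.deg ⊤ hY (m • n) := by rw [smul_eq_mul]; exact hs'
  refine ⟨Away.mk (𝒮.deg ⊤ hY) hs m s' hs'', ?_⟩
  rw [psiAway_mk u hY s hs hV m s' hs'', ext_iff_val, Away.val_mk]
  refine Eq.trans ?_ (val_strB u hY s hV t).symm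
  rw [Localization.mk_eq_mk_iff, Localization.r_iff_exists]
  refine ⟨1, ?_⟩
  have heq' : (𝒮L.str.app (op (XTs u n s))).hom t * (phiV u hY s hV s) ^ m = phiV u hY s hV s' := heq
  simp only [OneMemClass.coe_one, one_mul]
  rw [← heq']
  first | rfl | exact mul_comm _ _ | ring

omit [L.IsQuasicoherent] in
include hs in
theorem deg_pow_mul (k m : ℕ) (s' : 𝒮.presheaf.obj (op ⊤)) (hs' : s' ∈ 𝒮.deg ⊤ hY (m • n)) :
    s ^ k * s' ∈ 𝒮.deg ⊤ hY ((k + m) * n) := by
  have h := SetLike.mul_mem_graded (SetLike.pow_mem_graded k hs) hs'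
  have e : k • n + m • n = (k + m) * n := by
    simp only [smul_eq_mul]
    ring
  rw [e] at h
  exact h

omit [L.IsQuasicoherent] in
include hs in
theorem cond3_of_surjective_psiAway (hsurj : Function.Surjective (psiAway u hY s hV).hom) : Cond3 u hY n s := by
  intro t
  obtain ⟨a, ha⟩ := hsurj ((strB u hY s hV).hom t)
  obtain ⟨m, s', hs', rfl⟩ := Away.mk_surjective (𝒮.deg ⊤ hY) hs a
  rw [psiAway_mk u hY s hs hV m s' hs', ext_iff_val, Away.val_mk, val_strB,
    Localization.mk_eq_mk_iff, Localization.r_iff_exists] at ha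
  obtain ⟨⟨_, k, rfl⟩, hk⟩ := ha
  simp only [OneMemClass.coe_one, one_mul] at hk
  refine ⟨k + 1 + m, by omega, s ^ (k + 1) * s', deg_pow_mul hY s hs (k + 1) m s' hs', ?_⟩
  show (𝒮L.str.app (op (XTs u n s))).hom t * (phiV u hY s hV s) ^ (k + 1 + m) = phiV u hY s hV (s ^ (k + 1) * s')
  have hk' : (phiV u hY s hV s) ^ k * phiV u hY s hV s' =
      (phiV u hY s hV s) ^ k * ((phiV u hY s hV s) ^ m * (𝒮L.str.app (op (XTs u n s))).hom t) := hk
  rw [map_mul, map_pow, pow_succ, mul_assoc, mul_comm (phiV u hY s hV s) (phiV u hY s hV s'), ← mul_assoc, hk']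
  ring

omit [L.IsQuasicoherent] in
include hs in
theorem cond4_of_injective_psiAway (hinj : Function.Injective (psiAway u hY s hV).hom) : Cond4 u hY n s := by
  intro m hm s' hs' h0
  have hs'' : s' ∈ 𝒮.deg ⊤ hY (m • n) := by rw [smul_eq_mul]; exact hs'
  have h1 : (psiAway u hY s hV).hom (Away.mk (𝒮.deg ⊤ hY) hs m s' hs'') = 0 := by
    rw [psiAway_mk u hY s hs hV m s' hs'', ext_iff_val, Away.val_mk, val_zero]
    have h0' : phiV u hY s hV s' = 0 := h0
    rw [h0']
    exact Localization.mk_zero _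
  have h2 : Away.mk (𝒮.deg ⊤ hY) hs m s' hs'' = 0 := hinj (h1.trans (map_zero _).symm)
  rw [ext_iff_val, Away.val_mk, val_zero, Localization.mk_eq_mk', IsLocalization.mk'_eq_zero_iff] at h2
  obtain ⟨⟨_, k, rfl⟩, hk⟩ := h2
  refine ⟨k + 1, by omega, ?_⟩
  have hk' : s ^ k * s' = 0 := hk
  rw [pow_succ, mul_assoc, mul_comm s s', ← mul_assoc, hk', zero_mul]

omit [L.IsQuasicoherent] in
include hs in
theorem injective_psiAway_of_cond4 (h4 : Cond4 u hY n s) : Function.Injective (psiAway u hY s hV).hom := by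
  rw [injective_iff_map_eq_zero]
  intro a ha
  obtain ⟨m, s', hs', rfl⟩ := Away.mk_surjective (𝒮.deg ⊤ hY) hs a
  rw [psiAway_mk u hY s hs hV m s' hs', ext_iff_val, Away.val_mk, val_zero, Localization.mk_eq_mk',
    IsLocalization.mk'_eq_zero_iff] at ha
  obtain ⟨⟨_, k, rfl⟩, hk⟩ := ha
  have hk' : (phiV u hY s hV s) ^ k * phiV u hY s hV s' = 0 := hk
  have h1 : tau u (s ^ (k + 1) * s') (XTs u n s) = 0 := by
    show phiV u hY s hV (s ^ (k + 1) * s') = 0
    rw [map_mul, map_pow, pow_succ, mul_assoc, mul_comm (phiV u hY s hV s) (phiV u hY s hV s'), ← mul_assoc,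
      hk', zero_mul]
  obtain ⟨k', hk'pos, hk'0⟩ := h4 (k + 1 + m) (by omega) _ (deg_pow_mul hY s hs (k + 1) m s' hs') h1
  rw [ext_iff_val, Away.val_mk, val_zero, Localization.mk_eq_mk', IsLocalization.mk'_eq_zero_iff]
  refine ⟨⟨s ^ (k' + (k + 1)), _, rfl⟩, ?_⟩
  show s ^ (k' + (k + 1)) * s' = 0
  rw [pow_add, mul_assoc]
  exact hk'0

end key

end Groth.Agent.Lib.Helper28.RLPsi
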