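import Groth.Agent.Lib.Helper28.GrFinSub
import Groth.Agent.Lib.Helper28.ProjQ
import Groth.Agent.Lib.Helper28.RLPsiH
import Groth.Prelude.Def_PCone

/-!
# If `Proj T → Proj T'` is an isomorphism, `T' ⊆ T` the subalgebra generated by `T_1`, then `T_n = T_1^n` for large `n`
(EGA II 3.1.10-type statement)
-/

set_option autoImplicit false
universe u
open CategoryTheory CategoryTheory.Limits AlgebraicGeometry Opposite TopologicalSpace
open scoped HomogeneousIdeal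
open HomogeneousLocalization DirectSum
noncomputable section

namespace Groth.Agent.Lib.Helper28.ProjIsoTN

open Groth.Agent.Lib.Helper28

variable {R A B : Type u} [CommRing R] [CommRing A] [Algebra R A]
  (𝒜 : ℕ → Submodule R A) [GradedAlgebra 𝒜] [CommRing B] [Algebra R B] (ℬ : ℕ → Submodule R B) [GradedAlgebra ℬ]
  (φ : 𝒜 →+*ᵍ ℬ)

/-- the two descriptions of the open of definition agree -/
theorem dom_eq : PCone.dom φ = RelCone.domOpen φ := by
  ext x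
  rw [SetLike.mem_coe, SetLike.mem_coe, ProjQ.mem_dom_iff]
  constructor
  · intro hx
    obtain ⟨⟨f, d, hd, hf⟩, hxf⟩ := Opens.mem_iSup.1 hx
    exact ⟨d, hd, f, hf, (Proj.mem_basicOpen _ _ x).1 hxf⟩
  · rintro ⟨d, hd, f, hf, hxf⟩
    exact Opens.mem_iSup.2 ⟨⟨f, d, hd, hf⟩, (Proj.mem_basicOpen _ _ x).2 hxf⟩

variable {𝒜 ℬ}

/-- an isomorphism `p` compatible with the charts makes the maps of degree-zero localisations surjective -/
theorem away_map_surjective (p : (PCone.dom φ : Scheme.{u}) ⟶ Proj 𝒜)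
    (hp : ∀ (d : ℕ) (f : A) (hd : 0 < d) (hf : f ∈ 𝒜 d),
      PCone.chart φ hf hd ≫ p =
        Spec.map (CommRingCat.ofHom (HomogeneousLocalization.Away.map φ f)) ≫ Proj.awayι 𝒜 f hf hd)
    [IsIso p] {d : ℕ} (hd : 0 < d) {f : A} (hf : f ∈ 𝒜 d) :
    Function.Surjective (Away.map φ f) := by
  have he := dom_eq 𝒜 ℬ φ
  have hv : ((Proj ℬ).isoOfEq he).inv ≫ p = ProjQ.vQ φ := by
    refine ProjQ.vQ_unique φ _ fun d f hd hf => ?_
    rw [← hp d f hd hf, ← Category.assoc]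
    congr 1
    rw [← cancel_mono (PCone.dom φ).ι, Category.assoc, Scheme.isoOfEq_inv_ι, ProjQ.chartQ_ι]
    exact (IsOpenImmersion.lift_fac _ _ _).symm
  have hiso : IsIso (ProjQ.vQ φ) := by
    rw [← hv]
    infer_instance
  have hpb := ProjQ.isPullback_chart φ hd hf
  have hci : IsClosedImmersion (Spec.map (CommRingCat.ofHom (Away.map φ f))) :=
    MorphismProperty.of_isPullback (P := @IsClosedImmersion) hpb.flip inferInstance
  exact RLPsi.surjective_of_isClosedImmersion_specMap _ hci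

section alg

/-- the image of `φ`, as a subring -/
def Bp : Subring B := φ.toRingHom.range

theorem mem_Bp (a : A) : φ a ∈ Bp φ := ⟨a, rfl⟩

theorem Bp_hom {x : B} (hx : x ∈ Bp φ) (i : ℕ) : (decompose ℬ x i : B) ∈ Bp φ := by
  obtain ⟨a, rfl⟩ := hx
  refine ⟨(decompose 𝒜 a i : A), ?_⟩
  exact GradedRingHom.map_directSumDecompose 𝒜 ℬ φ

/-- the images of the elements of `𝒜 1 ^ n` lie in the `n`-th power of any ideal of the image containing the elements of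
degree one -/
theorem map_pow_mem (I : Ideal (Bp φ)) (hI : ∀ y : Bp φ, (y : B) ∈ ℬ 1 → y ∈ I) {n : ℕ} {a : A}
    (ha : a ∈ 𝒜 1 ^ n) : (⟨φ a, mem_Bp φ a⟩ : Bp φ) ∈ I ^ n := by
  refine Submodule.pow_induction_on_left' (𝒜 1)
    (C := fun n a _ => (⟨φ a, mem_Bp φ a⟩ : Bp φ) ∈ I ^ n) ?_ ?_ ?_ ha
  · intro r
    rw [pow_zero, Ideal.one_eq_top]
    trivial
  · intro x y i _ _ hx hy
    have : (⟨φ (x + y), mem_Bp φ (x + y)⟩ : Bp φ) = ⟨φ x, mem_Bp φ x⟩ + ⟨φ y, mem_Bp φ y⟩ :=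
      Subtype.ext (map_add φ x y)
    rw [this]
    exact Ideal.add_mem _ hx hy
  · intro m hm i x _ hx
    have : (⟨φ (m * x), mem_Bp φ (m * x)⟩ : Bp φ) = ⟨φ m, mem_Bp φ m⟩ * ⟨φ x, mem_Bp φ x⟩ :=
      Subtype.ext (map_mul φ m x)
    rw [this, pow_succ']
    exact Ideal.mul_mem_mul (hI _ (φ.map_mem hm)) hx

/-- the images of the elements of `𝒜 1 ^ (n+1)` lie in the ideal generated by the degree-one part -/
theorem map_mem_span {n : ℕ} {a : A} (ha : a ∈ 𝒜 1 ^ (n + 1)) :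
    φ a ∈ Ideal.span ((ℬ 1 : Submodule R B) : Set B) := by
  rw [pow_succ'] at ha
  refine Submodule.mul_induction_on ha (fun m hm x _ => ?_) (fun x y hx hy => ?_)
  · rw [map_mul]
    exact Ideal.mul_mem_right _ _ (Ideal.subset_span (φ.map_mem hm))
  · rw [map_add]
    exact Ideal.add_mem _ hx hy

variable (hgen : ∀ n : ℕ, 1 ≤ n → 𝒜 n = 𝒜 1 ^ n)

include hgen in
/-- if the morphism is everywhere defined, every homogeneous element of positive degree has a power in the ideal generated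
by the degree-one part -/
theorem exists_pow_mem_span (hdom : PCone.dom φ = ⊤) {d : ℕ} (hd : 0 < d) {t : B} (ht : t ∈ ℬ d) :
    ∃ M : ℕ, t ^ M ∈ Ideal.span ((ℬ 1 : Submodule R B) : Set B) := by
  classical
  have hJ : (Ideal.span ((ℬ 1 : Submodule R B) : Set B)).IsHomogeneous ℬ :=
    Ideal.homogeneous_span ℬ _ fun x hx => ⟨1, hx⟩
  by_contra hcon
  have hrad : t ∉ (Ideal.span ((ℬ 1 : Submodule R B) : Set B)).radical := hcon
  rw [hJ.radical_eq, Ideal.mem_sInf] at hrad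
  push Not at hrad
  obtain ⟨P, ⟨hPh, hJP, hPp⟩, htP⟩ := hrad
  let x : ProjectiveSpectrum ℬ := ⟨⟨P, hPh⟩, hPp, fun hle =>
    htP (hle (HomogeneousIdeal.mem_irrelevant_of_mem ℬ hd ht))⟩
  have hx : (x : Proj ℬ) ∈ PCone.dom φ := by rw [hdom]; trivial
  obtain ⟨⟨f, e, he, hf⟩, hxf⟩ := Opens.mem_iSup.1 hx
  have hxf' : φ f ∉ P := (Proj.mem_basicOpen _ _ x).1 hxf
  apply hxf'
  apply hJP
  obtain ⟨e', rfl⟩ : ∃ e', e = e' + 1 := ⟨e - 1, by omega⟩
  have hf' : f ∈ 𝒜 1 ^ (e' + 1) := by rw [← hgen (e' + 1) (by omega)]; exact hf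
  exact map_mem_span φ hf'

end alg

section main

/-- surjectivity of the maps of degree-zero localisations gives the localisation property of the image -/
theorem loc_of_surjective (h1 : Set.BijOn φ (𝒜 1) (ℬ 1))
    (hsurj : ∀ {f : A} (_ : f ∈ 𝒜 1), Function.Surjective (Away.map φ f)) :
    ∀ f ∈ ℬ 1, ∀ k, ∀ b ∈ ℬ k, ∃ N : ℕ, f ^ N * b ∈ Bp φ := by
  intro f hf k b hb
  obtain ⟨f₀, hf₀, rfl⟩ := h1.surjOn hf
  have hb' : b ∈ ℬ (k • 1) := by rw [smul_eq_mul, mul_one]; exact hb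
  obtain ⟨w, hw⟩ := hsurj hf₀ (Away.mk ℬ (φ.map_mem hf₀) k b hb')
  obtain ⟨m, a, ha, rfl⟩ := Away.mk_surjective 𝒜 hf₀ w
  rw [Away.map_mk] at hw
  have hw' := congrArg val hw
  rw [Away.val_mk, Away.val_mk, Localization.mk_eq_mk_iff, Localization.r_iff_exists] at hw'
  obtain ⟨⟨_, j, rfl⟩, hj⟩ := hw'
  refine ⟨j + m, ?_⟩
  have hj' : φ f₀ ^ j * (φ f₀ ^ k * φ a) = φ f₀ ^ j * (φ f₀ ^ m * b) := hj
  rw [pow_add, mul_assoc, ← hj', ← map_pow, ← map_pow, ← map_mul, ← map_mul]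
  exact mem_Bp φ _

/-- the images of the elements of `𝒜 1 ^ (n+1)` lie in `ℬ 1 ^ (n+1)` -/
theorem map_mem_pow : ∀ (n : ℕ) {a : A}, a ∈ 𝒜 1 ^ (n + 1) → φ a ∈ ℬ 1 ^ (n + 1) := by
  intro n
  induction n with
  | zero =>
    intro a ha
    rw [zero_add, pow_one] at ha ⊢
    exact φ.map_mem ha
  | succ n ih =>
    intro a ha
    rw [pow_succ'] at ha
    refine Submodule.mul_induction_on ha (fun m hm x hx => ?_) (fun x y hx hy => ?_)
    · rw [map_mul, pow_succ' (ℬ 1)]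
      exact Submodule.mul_mem_mul (φ.map_mem hm) (ih hx)
    · rw [map_add]
      exact Submodule.add_mem _ hx hy

omit [GradedAlgebra 𝒜] in
theorem pow_le_deg (ℬ : ℕ → Submodule R B) [GradedAlgebra ℬ] : ∀ n : ℕ, ℬ 1 ^ n ≤ ℬ n := by
  intro n
  induction n with
  | zero =>
    rw [pow_zero, Submodule.one_le]
    exact SetLike.GradedOne.one_mem
  | succ n ih =>
    rw [pow_succ', Submodule.mul_le]
    intro m hm x hx
    have := SetLike.mul_mem_graded hm (ih hx)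
    rwa [add_comm] at this

variable [Algebra.FiniteType (ℬ 0) B]

/-- **EGA II 3.1.10-type statement** -/
theorem exists_eventually_eq
    (h0 : Set.BijOn φ (𝒜 0) (ℬ 0)) (h1 : Set.BijOn φ (𝒜 1) (ℬ 1))
    (hgen : ∀ n : ℕ, 1 ≤ n → 𝒜 n = 𝒜 1 ^ n)
    (hdom : PCone.dom φ = ⊤)
    (p : (PCone.dom φ : Scheme.{u}) ⟶ Proj 𝒜)
    (hp : ∀ (d : ℕ) (f : A) (hd : 0 < d) (hf : f ∈ 𝒜 d),
      PCone.chart φ hf hd ≫ p =
        Spec.map (CommRingCat.ofHom (HomogeneousLocalization.Away.map φ f)) ≫ Proj.awayι 𝒜 f hf hd)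
    [IsIso p] :
    ∃ n₀ : ℕ, ∀ n : ℕ, n₀ ≤ n → ℬ n = ℬ 1 ^ n := by
  classical
  have p0 : ∀ x ∈ ℬ 0, x ∈ Bp φ := fun x hx => by
    obtain ⟨a, -, rfl⟩ := h0.surjOn hx
    exact mem_Bp φ a
  have p1 : ∀ x ∈ ℬ 1, x ∈ Bp φ := fun x hx => by
    obtain ⟨a, -, rfl⟩ := h1.surjOn hx
    exact mem_Bp φ a
  have hloc := loc_of_surjective φ h1 (fun {f} hf => away_map_surjective φ p hp Nat.one_pos hf)
  have hdom' : ∀ d, 0 < d → ∀ t ∈ ℬ d, ∃ M : ℕ, t ^ M ∈ Ideal.span ((ℬ 1 : Submodule R B) : Set B) :=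
    fun d hd t ht => exists_pow_mem_span φ hgen hdom hd ht
  have ppow : ∀ I : Ideal (Bp φ), (∀ y : Bp φ, (y : B) ∈ ℬ 1 → y ∈ I) →
      ∀ (k : ℕ) (x : Bp φ), (x : B) ∈ ℬ k → x ∈ I ^ k := by
    intro I hI k x hx
    rcases Nat.eq_zero_or_pos k with hk | hk
    · subst hk
      rw [pow_zero, Ideal.one_eq_top]
      trivial
    · obtain ⟨a, ha⟩ := x.2
      have ha' : φ a = (x : B) := ha
      have h2 : φ (decompose 𝒜 a k : A) = (x : B) := by
        rw [GradedRingHom.map_directSumDecompose 𝒜 ℬ φ, ha', decompose_of_mem_same ℬ hx]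
      have h3 : (decompose 𝒜 a k : A) ∈ 𝒜 1 ^ k := by
        rw [← hgen k hk]
        exact SetLike.coe_mem _
      have h4 := map_pow_mem φ I hI h3
      have h5 : (⟨φ (decompose 𝒜 a k : A), mem_Bp φ _⟩ : Bp φ) = x := Subtype.ext h2
      rwa [h5] at h4
  obtain ⟨n₀, hn₀⟩ := GrFinSub.eventually_le ℬ (Bp φ) p0 p1 (fun x hx i => Bp_hom φ hx i) hloc hdom' ppow
  refine ⟨max n₀ 1, fun n hn => le_antisymm ?_ (pow_le_deg ℬ n)⟩
  intro x hx
  obtain ⟨a, ha⟩ := hn₀ n (le_of_max_le_left hn) x hx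
  have ha' : φ a = x := ha
  have hn1 : 1 ≤ n := le_of_max_le_right hn
  have h2 : φ (decompose 𝒜 a n : A) = x := by
    rw [GradedRingHom.map_directSumDecompose 𝒜 ℬ φ, ha', decompose_of_mem_same ℬ hx]
  have h3 : (decompose 𝒜 a n : A) ∈ 𝒜 1 ^ n := by
    rw [← hgen n hn1]
    exact SetLike.coe_mem _
  obtain ⟨n', rfl⟩ : ∃ n', n = n' + 1 := ⟨n - 1, by omega⟩
  rw [← h2]
  exact map_mem_pow φ n' h3

end main

end Groth.Agent.Lib.Helper28.ProjIsoTN
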