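import Groth.Agent.Lib.Helper28.ProjLine

set_option autoImplicit false
universe u
open CategoryTheory CategoryTheory.Limits AlgebraicGeometry Opposite TopologicalSpace
open HomogeneousLocalization
noncomputable section

namespace Groth.Agent.Lib.Helper28.ProjLine

variable {A : Type u} [CommRing A] (𝒜 : ℕ → AddSubgroup A) [GradedRing 𝒜]
  (t : A) (ht : t ∈ 𝒜 1)
  (H1 : ∀ (d : ℕ) (a : A), a ∈ 𝒜 d → ∃ a₀ ∈ 𝒜 0, a = a₀ * t ^ d)

include ht H1 in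
theorem mem_basicOpen_iff (a₀ : A) (ha₀ : a₀ ∈ 𝒜 0) {n : ℕ} (hn : 0 < n) (y : Proj 𝒜) :
    y ∈ Proj.basicOpen 𝒜 (a₀ * t ^ n) ↔
      Proj.toSpecZero 𝒜 y ∈ PrimeSpectrum.basicOpen (⟨a₀, ha₀⟩ : 𝒜 0) := by
  have hg : a₀ * t ^ n ∈ 𝒜 n := by
    have h := SetLike.mul_mem_graded ha₀ (SetLike.pow_mem_graded n ht)
    rw [zero_add, smul_eq_mul, mul_one] at h
    exact h
  have hι : (Proj.awayι 𝒜 t ht Nat.one_pos).opensRange = ⊤ := by
    rw [Proj.opensRange_awayι, basicOpen_eq_top 𝒜 t H1]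
  have hy : y ∈ (Proj.awayι 𝒜 t ht Nat.one_pos).opensRange := by rw [hι]; trivial
  obtain ⟨w, rfl⟩ := hy
  have h1 : Proj.awayι 𝒜 t ht Nat.one_pos w ∈ Proj.basicOpen 𝒜 (a₀ * t ^ n) ↔
      w ∈ PrimeSpectrum.basicOpen (Away.isLocalizationElem ht hg) := by
    rw [← Proj.awayι_preimage_basicOpen 𝒜 ht Nat.one_pos hg hn]
    rfl
  have h2 : Proj.toSpecZero 𝒜 (Proj.awayι 𝒜 t ht Nat.one_pos w) =
      Spec.map (CommRingCat.ofHom (fromZeroRingHom 𝒜 (Submonoid.powers t))) w := by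
    rw [← Proj.awayι_toSpecZero 𝒜 t ht Nat.one_pos]
    rfl
  have h3 : Away.isLocalizationElem ht hg = fromZeroRingHom 𝒜 (Submonoid.powers t) ⟨a₀, ha₀⟩ := by
    rw [ext_iff_val, Away.val_mk]
    show _ = Localization.mk a₀ (1 : Submonoid.powers t)
    rw [Localization.mk_eq_mk_iff, Localization.r_iff_exists]
    refine ⟨1, ?_⟩
    simp only [OneMemClass.coe_one, one_mul, pow_one]
    ring
  rw [h1, h2, h3]
  rfl

end Groth.Agent.Lib.Helper28.ProjLine
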