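import Mathlib
import Groth.Agent.Lib.Helper28.ProjMapG

/-!
# `Proj.map` of a graded homomorphism that is bijective in large degrees (helper28)
-/

set_option autoImplicit false
universe u
open CategoryTheory CategoryTheory.Limits AlgebraicGeometry Opposite TopologicalSpace
open scoped HomogeneousIdeal
open HomogeneousLocalization

namespace Groth.Agent.Lib.Helper28.ProjMapEv

open Groth.Agent.Lib.Helper28.ProjMapG

variable {A B : Type u} [CommRing A] [CommRing B] {σ τ : Type u} [SetLike σ A] [AddSubgroupClass σ A]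
  [SetLike τ B] [AddSubgroupClass τ B] {𝒜 : ℕ → σ} {ℬ : ℕ → τ}
  [GradedRing 𝒜] [GradedRing ℬ] (φ : 𝒜 →+*ᵍ ℬ) (hφ : ℬ₊ ≤ (𝒜₊).map φ)

/-- `Away.map` of a graded homomorphism bijective in large degrees is bijective. -/
theorem away_map_bijective (n₀ : ℕ) (hev : ∀ n : ℕ, n₀ ≤ n → Set.BijOn φ (𝒜 n) (ℬ n)) {i : ℕ}
    (hi : 0 < i) (s : A) (hs : s ∈ 𝒜 i) : Function.Bijective (Away.map φ s) := by
  have hdeg : ∀ k n : ℕ, n₀ ≤ (k + n₀ + 1) • i + n • i := by
    intro k n
    rw [smul_eq_mul, smul_eq_mul]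
    nlinarith
  constructor
  · rw [injective_iff_map_eq_zero]
    intro z hz
    obtain ⟨n, x, hx, rfl⟩ := Away.mk_surjective 𝒜 hs z
    rw [Away.map_mk] at hz
    have hz' := congrArg val hz
    rw [Away.val_mk, val_zero, Localization.mk_eq_mk', IsLocalization.mk'_eq_zero_iff] at hz'
    obtain ⟨⟨_, k, rfl⟩, hk⟩ := hz'
    have hmem : s ^ (k + n₀ + 1) * x ∈ 𝒜 ((k + n₀ + 1) • i + n • i) :=
      SetLike.mul_mem_graded (SetLike.pow_mem_graded _ hs) hx
    have hφ0 : φ (s ^ (k + n₀ + 1) * x) = φ 0 := by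
      have : φ s ^ k * φ x = 0 := hk
      rw [map_zero, map_mul, map_pow, show k + n₀ + 1 = (n₀ + 1) + k by omega, pow_add, mul_assoc,
        this, mul_zero]
    have h0 := (hev _ (hdeg k n)).injOn hmem (zero_mem _) hφ0
    apply HomogeneousLocalization.val_injective
    rw [Away.val_mk, val_zero, Localization.mk_eq_mk', IsLocalization.mk'_eq_zero_iff]
    exact ⟨⟨s ^ (k + n₀ + 1), k + n₀ + 1, rfl⟩, h0⟩
  · intro z
    obtain ⟨n, y, hy, rfl⟩ := Away.mk_surjective ℬ (φ.2 hs) z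
    have hy' : φ s ^ (n₀ + 1) * y ∈ ℬ ((n + (n₀ + 1)) • i) := by
      have := SetLike.mul_mem_graded (A := ℬ) (SetLike.pow_mem_graded (n₀ + 1) (φ.2 hs)) hy
      rwa [show (n₀ + 1) • i + n • i = (n + (n₀ + 1)) • i by
        simp only [smul_eq_mul]; ring] at this
    have hd : n₀ ≤ (n + (n₀ + 1)) • i := by
      rw [smul_eq_mul]; nlinarith
    obtain ⟨x, hx, hxy⟩ := (hev _ hd).surjOn hy'
    refine ⟨Away.mk 𝒜 hs (n + (n₀ + 1)) x hx, ?_⟩
    rw [Away.map_mk]
    apply HomogeneousLocalization.val_injective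
    rw [Away.val_mk, Away.val_mk, Localization.mk_eq_mk_iff, Localization.r_iff_exists]
    refine ⟨1, ?_⟩
    simp only [OneMemClass.coe_one, one_mul]
    rw [hxy]
    change φ s ^ n * (φ s ^ (n₀ + 1) * y) = φ s ^ (n + (n₀ + 1)) * y
    ring

set_option backward.isDefEq.respectTransparency false in
/-- `Proj.map` of a graded homomorphism bijective in large degrees is an isomorphism. -/
theorem isIso_map (n₀ : ℕ) (hev : ∀ n : ℕ, n₀ ≤ n → Set.BijOn φ (𝒜 n) (ℬ n)) :
    IsIso (Proj.map φ hφ) := by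
  refine of_away φ hφ (MorphismProperty.isomorphisms Scheme.{u}) fun i hi s hs => ?_
  have hbij := away_map_bijective φ n₀ hev hi s hs
  have : IsIso (CommRingCat.ofHom (Away.map φ s)) :=
    (ConcreteCategory.isIso_iff_bijective _).2 hbij
  exact (inferInstance : IsIso (Spec.map (CommRingCat.ofHom (Away.map φ s))))

end Groth.Agent.Lib.Helper28.ProjMapEv
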