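import Groth.Prelude.Def_SGA1
import Groth.Agent.Lib.Helper28.ProjSect
import Groth.Agent.Lib.Helper28.QuotGlue
import Groth.Agent.Lib.Helper28.GrAlpha2
import Groth.Agent.Lib.Helper28.ProjQ

set_option autoImplicit false
set_option linter.unusedSectionVars false
universe u
open CategoryTheory CategoryTheory.Limits AlgebraicGeometry Opposite TopologicalSpace
open HomogeneousLocalization
noncomputable section

namespace Groth.Agent.Lib.Helper28.ProjQuot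

section compat
variable {R A B : Type u} [CommRing R] [CommRing A] [Algebra R A] [CommRing B] [Algebra R B]
  {𝒜 : ℕ → Submodule R A} [GradedAlgebra 𝒜] {ℬ : ℕ → Submodule R B} [GradedAlgebra ℬ]

/-- `Away.map` is compatible with `Localization.awayMap` -/
theorem compat_map (ψ : 𝒜 →+*ᵍ ℬ) (f : A) :
    (algebraMap (Away ℬ (ψ f)) (Localization.Away (ψ f))).comp (Away.map ψ f) =
      (Localization.awayMap (ψ : A →+* B) f).comp
        (algebraMap (Away 𝒜 f) (Localization.Away f)) := by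
  ext x
  obtain ⟨y, rfl⟩ := HomogeneousLocalization.mk_surjective x
  change (Away.map ψ f (HomogeneousLocalization.mk y)).val =
    Localization.awayMap (ψ : A →+* B) f (HomogeneousLocalization.mk y).val
  rw [Away.map, HomogeneousLocalization.map_mk, HomogeneousLocalization.val_mk,
    HomogeneousLocalization.val_mk, Localization.mk_eq_mk', Localization.mk_eq_mk']
  unfold Localization.awayMap IsLocalization.Away.map
  rw [IsLocalization.map_mk']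
  rfl

end compat

section main
variable {R A : Type u} [CommRing R] [CommRing A] [Algebra R A] (𝒜 : ℕ → Submodule R A) [GradedAlgebra 𝒜]
    {G : Type u} [Group G] [MulSemiringAction G A]
    (hGdeg : ∀ (σ : G) (i : ℕ) (a : A), a ∈ 𝒜 i → σ • a ∈ 𝒜 i)
    {C : Type u} [CommRing C] [Algebra R C] (𝒞 : ℕ → Submodule R C) [GradedAlgebra 𝒞]
    (ι : C →ₐ[R] A)
    (hιdeg : ∀ (i : ℕ) (a : A), a ∈ (𝒞 i).map ι.toLinearMap ↔ (a ∈ 𝒜 i ∧ ∀ σ : G, σ • a = a))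

include hιdeg in
theorem ι_mem {i : ℕ} {c : C} (hc : c ∈ 𝒞 i) : ι c ∈ 𝒜 i :=
  ((hιdeg i (ι c)).mp (Submodule.mem_map_of_mem hc)).1

include hιdeg in
theorem smul_ι {i : ℕ} {c : C} (hc : c ∈ 𝒞 i) (σ : G) : σ • ι c = ι c :=
  ((hιdeg i (ι c)).mp (Submodule.mem_map_of_mem hc)).2 σ

/-- `ι` as a graded ring homomorphism -/
def ιgr : 𝒞 →+*ᵍ 𝒜 where
  __ := (ι : C →+* A)
  map_mem := fun hx => ι_mem 𝒜 𝒞 ι hιdeg hx

@[simp] theorem ιgr_apply (c : C) : ιgr 𝒜 𝒞 ι hιdeg c = ι c := rfl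

/-- the action of `σ` as a graded ring homomorphism -/
def σgr (σ : G) : 𝒜 →+*ᵍ 𝒜 where
  __ := MulSemiringAction.toRingHom G A σ
  map_mem := fun hx => hGdeg σ _ _ hx

@[simp] theorem σgr_apply (σ : G) (a : A) : σgr 𝒜 hGdeg σ a = σ • a := rfl

section charts
variable (ρ : G →* Aut (Proj 𝒜))
    (hρ : ∀ (σ : G) (n : ℕ) (f : A) (hn : 0 < n) (hf : f ∈ 𝒜 n)
      (θ : CommRingCat.of (HomogeneousLocalization.Away 𝒜 f) ⟶ CommRingCat.of (HomogeneousLocalization.Away 𝒜 (σ • f))),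
      (algebraMap (HomogeneousLocalization.Away 𝒜 (σ • f)) (Localization.Away (σ • f))).comp θ.hom =
        (Localization.awayMap (MulSemiringAction.toRingHom G A σ) f).comp
          (algebraMap (HomogeneousLocalization.Away 𝒜 f) (Localization.Away f)) →
      Proj.awayι 𝒜 (σ • f) (hGdeg σ n f hf) hn ≫ (ρ σ).inv = Spec.map θ ≫ Proj.awayι 𝒜 f hf hn)
    (π : Proj 𝒜 ⟶ Proj 𝒞)
    (hπ : ∀ (n : ℕ) (c : C) (hn : 0 < n) (hc : c ∈ 𝒞 n)
      (θ : CommRingCat.of (HomogeneousLocalization.Away 𝒞 c) ⟶ CommRingCat.of (HomogeneousLocalization.Away 𝒜 (ι c))),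
      (algebraMap (HomogeneousLocalization.Away 𝒜 (ι c)) (Localization.Away (ι c))).comp θ.hom =
        (Localization.awayMap ι.toRingHom c).comp
          (algebraMap (HomogeneousLocalization.Away 𝒞 c) (Localization.Away c)) →
      Proj.awayι 𝒜 (ι c) ((hιdeg n (ι c)).mp (Submodule.mem_map_of_mem hc)).1 hn ≫ π =
        Spec.map θ ≫ Proj.awayι 𝒞 c hc hn)

include hπ in
theorem Eπ {n : ℕ} (hn : 0 < n) {c : C} (hc : c ∈ 𝒞 n) :
    Proj.awayι 𝒜 (ι c) (ι_mem 𝒜 𝒞 ι hιdeg hc) hn ≫ π =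
      Spec.map (CommRingCat.ofHom (Away.map (ιgr 𝒜 𝒞 ι hιdeg) c)) ≫ Proj.awayι 𝒞 c hc hn :=
  hπ n c hn hc (CommRingCat.ofHom (Away.map (ιgr 𝒜 𝒞 ι hιdeg) c))
    (compat_map (ιgr 𝒜 𝒞 ι hιdeg) c)

include hρ in
theorem Eρ (σ : G) {n : ℕ} (hn : 0 < n) {f : A} (hf : f ∈ 𝒜 n) :
    Proj.awayι 𝒜 (σ • f) (hGdeg σ n f hf) hn ≫ (ρ σ).inv =
      Spec.map (CommRingCat.ofHom (Away.map (σgr 𝒜 hGdeg σ) f)) ≫ Proj.awayι 𝒜 f hf hn :=
  hρ σ n f hn hf (CommRingCat.ofHom (Away.map (σgr 𝒜 hGdeg σ) f))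
    (compat_map (σgr 𝒜 hGdeg σ) f)

/-- the action of `σ` on the degree zero localisation at an invariant element -/
def θσ (σ : G) {f f' : A} (e : σ • f = f') : Away 𝒜 f →+* Away 𝒜 f' :=
  HomogeneousLocalization.map (σgr 𝒜 hGdeg σ) (by
    rintro _ ⟨k, rfl⟩
    exact ⟨k, by rw [map_pow, σgr_apply, e]⟩)

include hρ in
theorem Eρ' (σ : G) {n : ℕ} (hn : 0 < n) {f : A} (hf : f ∈ 𝒜 n) {f' : A} (e : σ • f = f')
    (hf' : f' ∈ 𝒜 n) :
    Proj.awayι 𝒜 f' hf' hn ≫ (ρ σ).inv =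
      Spec.map (CommRingCat.ofHom (θσ 𝒜 hGdeg σ e)) ≫ Proj.awayι 𝒜 f hf hn := by
  subst e
  exact Eρ 𝒜 hGdeg ρ hρ σ hn hf

end charts

section cov

include hGdeg in
theorem smul_mem_irrelevant (σ : G) {a : A} (ha : a ∈ HomogeneousIdeal.irrelevant 𝒜) :
    σ • a ∈ HomogeneousIdeal.irrelevant 𝒜 := by
  rw [HomogeneousIdeal.mem_irrelevant_iff, GradedRing.proj_apply] at ha ⊢
  have h := GradedRingHom.map_directSumDecompose (f := σgr 𝒜 hGdeg σ) (x := a) (i := 0)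
  rw [σgr_apply, σgr_apply] at h
  rw [← h, ha, smul_zero]

include hGdeg hιdeg in
/-- the standard opens of invariant elements cover `Proj 𝒜` -/
theorem cov [Finite G] (x : ProjectiveSpectrum 𝒜) :
    ∃ (n : ℕ) (c : C), 0 < n ∧ c ∈ 𝒞 n ∧ ι c ∉ x.asHomogeneousIdeal := by
  classical
  have : Fintype G := Fintype.ofFinite G
  let ps : Finset (Ideal A) := Finset.univ.image
    (fun σ : G => x.asHomogeneousIdeal.toIdeal.comap (MulSemiringAction.toRingHom G A σ))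
  have hprime : ∀ p ∈ ps, p.IsPrime := by
    intro p hp
    obtain ⟨σ, -, rfl⟩ := Finset.mem_image.1 hp
    exact Ideal.IsPrime.comap _
  have hirr : ∀ p ∈ ps, ¬ (HomogeneousIdeal.irrelevant 𝒜).toIdeal ≤ p := by
    intro p hp hle
    obtain ⟨σ, -, rfl⟩ := Finset.mem_image.1 hp
    apply x.not_irrelevant_le
    intro a ha
    have h1 : σ⁻¹ • a ∈ (HomogeneousIdeal.irrelevant 𝒜).toIdeal :=
      smul_mem_irrelevant 𝒜 hGdeg σ⁻¹ ha
    have h2 := hle h1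
    rw [Ideal.mem_comap, MulSemiringAction.toRingHom_apply, smul_inv_smul] at h2
    exact h2
  obtain ⟨e, he, f, hf, hfp⟩ := GrAlpha.exists_homogeneous_notMem 𝒜 _ ps rfl hprime hirr
  have hσf : ∀ σ : G, σ • f ∉ x.asHomogeneousIdeal := fun σ h =>
    hfp _ (Finset.mem_image.2 ⟨σ, Finset.mem_univ _, rfl⟩) h
  let N : A := ∏ σ : G, σ • f
  have hNx : N ∉ x.asHomogeneousIdeal := by
    intro h
    obtain ⟨σ, -, hσ⟩ := (Ideal.IsPrime.prod_mem_iff (hp := x.isPrime)).1 h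
    exact hσf σ hσ
  have hNdeg : N ∈ 𝒜 (∑ _σ : G, e) :=
    SetLike.prod_mem_graded 𝒜 (fun _ => e) (fun σ : G => σ • f) fun σ _ => hGdeg σ e f hf
  have hNinv : ∀ τ : G, τ • N = N := by
    intro τ
    change MulSemiringAction.toRingHom G A τ N = N
    rw [map_prod]
    refine Fintype.prod_equiv (Equiv.mulLeft τ) _ _ fun σ => ?_
    rw [MulSemiringAction.toRingHom_apply, smul_smul]
    rfl
  obtain ⟨c, hc, hcN⟩ := (hιdeg _ N).2 ⟨hNdeg, hNinv⟩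
  refine ⟨_, c, ?_, hc, ?_⟩
  · rw [Finset.sum_const, smul_eq_mul]
    exact Nat.mul_pos (Finset.card_pos.2 ⟨1, Finset.mem_univ _⟩) he
  · change ι.toLinearMap c ∉ _
    rw [hcN]
    exact hNx

end cov

section affine
variable (π : Proj 𝒜 ⟶ Proj 𝒞)
    (hπ : ∀ (n : ℕ) (c : C) (hn : 0 < n) (hc : c ∈ 𝒞 n)
      (θ : CommRingCat.of (HomogeneousLocalization.Away 𝒞 c) ⟶ CommRingCat.of (HomogeneousLocalization.Away 𝒜 (ι c))),
      (algebraMap (HomogeneousLocalization.Away 𝒜 (ι c)) (Localization.Away (ι c))).comp θ.hom =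
        (Localization.awayMap ι.toRingHom c).comp
          (algebraMap (HomogeneousLocalization.Away 𝒞 c) (Localization.Away c)) →
      Proj.awayι 𝒜 (ι c) ((hιdeg n (ι c)).mp (Submodule.mem_map_of_mem hc)).1 hn ≫ π =
        Spec.map θ ≫ Proj.awayι 𝒞 c hc hn)

include hGdeg in
theorem dom_eq_top [Finite G] : RelCone.domOpen (ιgr 𝒜 𝒞 ι hιdeg) = ⊤ := by
  rw [eq_top_iff]
  intro x _
  obtain ⟨n, c, hn, hc, hx⟩ := cov 𝒜 hGdeg 𝒞 ι hιdeg x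
  exact (ProjQ.mem_dom_iff (ιgr 𝒜 𝒞 ι hιdeg) x).2 ⟨n, hn, c, hc, hx⟩

include hπ in
theorem ι_comp_π : (RelCone.domOpen (ιgr 𝒜 𝒞 ι hιdeg)).ι ≫ π = ProjQ.vQ (ιgr 𝒜 𝒞 ι hιdeg) := by
  refine ProjQ.vQ_unique _ _ fun d f hd hf => ?_
  rw [ProjQ.chartQ_ι_assoc]
  exact Eπ 𝒜 𝒞 ι hιdeg π hπ hd hf

theorem isIso_ι_of_eq_top {X : Scheme.{u}} (T : X.Opens) (hT : T = ⊤) : IsIso T.ι := by
  subst hT; exact X.topIso.isIso_hom

include hGdeg hπ in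
theorem isAffineHom_π [Finite G] : IsAffineHom π := by
  have hT := dom_eq_top 𝒜 hGdeg 𝒞 ι hιdeg
  have h1 := ι_comp_π 𝒜 𝒞 ι hιdeg π hπ
  have hiso := isIso_ι_of_eq_top _ hT
  have e : π = inv (RelCone.domOpen (ιgr 𝒜 𝒞 ι hιdeg)).ι ≫ ProjQ.vQ (ιgr 𝒜 𝒞 ι hιdeg) := by
    rw [← h1, IsIso.inv_hom_id_assoc]
  rw [e]
  have := ProjQ.isAffineHom_vQ (ιgr 𝒜 𝒞 ι hιdeg)
  infer_instance

include hGdeg hπ in
theorem preimage_basicOpen_le [Finite G] {n : ℕ} {c : C} (hc : c ∈ 𝒞 n) :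
    π ⁻¹ᵁ Proj.basicOpen 𝒞 c ≤ Proj.basicOpen 𝒜 (ι c) := by
  intro x hx
  have hxT : x ∈ RelCone.domOpen (ιgr 𝒜 𝒞 ι hιdeg) := by
    rw [dom_eq_top 𝒜 hGdeg 𝒞 ι hιdeg]; trivial
  have h2 := ProjQ.preimage_basicOpen (ιgr 𝒜 𝒞 ι hιdeg) hc
  have h3 : (⟨x, hxT⟩ : RelCone.domOpen (ιgr 𝒜 𝒞 ι hιdeg)) ∈
      ProjQ.vQ (ιgr 𝒜 𝒞 ι hιdeg) ⁻¹ᵁ Proj.basicOpen 𝒞 c := by
    rw [← ι_comp_π 𝒜 𝒞 ι hιdeg π hπ]
    exact hx
  rw [h2] at h3
  exact h3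

end affine

section invariance
variable (ρ : G →* Aut (Proj 𝒜))
    (hρ : ∀ (σ : G) (n : ℕ) (f : A) (hn : 0 < n) (hf : f ∈ 𝒜 n)
      (θ : CommRingCat.of (HomogeneousLocalization.Away 𝒜 f) ⟶ CommRingCat.of (HomogeneousLocalization.Away 𝒜 (σ • f))),
      (algebraMap (HomogeneousLocalization.Away 𝒜 (σ • f)) (Localization.Away (σ • f))).comp θ.hom =
        (Localization.awayMap (MulSemiringAction.toRingHom G A σ) f).comp
          (algebraMap (HomogeneousLocalization.Away 𝒜 f) (Localization.Away f)) →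
      Proj.awayι 𝒜 (σ • f) (hGdeg σ n f hf) hn ≫ (ρ σ).inv = Spec.map θ ≫ Proj.awayι 𝒜 f hf hn)
    (π : Proj 𝒜 ⟶ Proj 𝒞)
    (hπ : ∀ (n : ℕ) (c : C) (hn : 0 < n) (hc : c ∈ 𝒞 n)
      (θ : CommRingCat.of (HomogeneousLocalization.Away 𝒞 c) ⟶ CommRingCat.of (HomogeneousLocalization.Away 𝒜 (ι c))),
      (algebraMap (HomogeneousLocalization.Away 𝒜 (ι c)) (Localization.Away (ι c))).comp θ.hom =
        (Localization.awayMap ι.toRingHom c).comp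
          (algebraMap (HomogeneousLocalization.Away 𝒞 c) (Localization.Away c)) →
      Proj.awayι 𝒜 (ι c) ((hιdeg n (ι c)).mp (Submodule.mem_map_of_mem hc)).1 hn ≫ π =
        Spec.map θ ≫ Proj.awayι 𝒞 c hc hn)

include hιdeg in
theorem smul_ι_all (σ : G) (c : C) : σ • ι c = ι c := by
  classical
  induction c using DirectSum.Decomposition.inductionOn 𝒞 with
  | zero => rw [map_zero, smul_zero]
  | @homogeneous i c => exact smul_ι 𝒜 𝒞 ι hιdeg c.2 σ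
  | add c c' hc hc' => rw [map_add, smul_add, hc, hc']

include hιdeg in
theorem smul_ιgr {i : ℕ} {c : C} (hc : c ∈ 𝒞 i) (σ : G) :
    σ • (ιgr 𝒜 𝒞 ι hιdeg) c = (ιgr 𝒜 𝒞 ι hιdeg) c := smul_ι 𝒜 𝒞 ι hιdeg hc σ

theorem θσ_comp_map (σ : G) {n : ℕ} {c : C} (hc : c ∈ 𝒞 n) :
    (θσ 𝒜 hGdeg σ (smul_ιgr 𝒜 𝒞 ι hιdeg hc σ)).comp (Away.map (ιgr 𝒜 𝒞 ι hιdeg) c) =
      Away.map (ιgr 𝒜 𝒞 ι hιdeg) c := by
  ext q
  obtain ⟨y, rfl⟩ := HomogeneousLocalization.mk_surjective q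
  rw [RingHom.comp_apply, Away.map, HomogeneousLocalization.map_mk, θσ,
    HomogeneousLocalization.map_mk, HomogeneousLocalization.val_mk, HomogeneousLocalization.val_mk]
  simp only [σgr_apply, ιgr_apply, smul_ι_all 𝒜 𝒞 ι hιdeg]

include hGdeg hρ hπ in
theorem inv_comp_π [Finite G] (σ : G) : (ρ σ).inv ≫ π = π := by
  have hT := dom_eq_top 𝒜 hGdeg 𝒞 ι hιdeg
  have hiso := isIso_ι_of_eq_top _ hT
  rw [← cancel_epi (RelCone.domOpen (ιgr 𝒜 𝒞 ι hιdeg)).ι]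
  refine ProjQ.hom_ext (ιgr 𝒜 𝒞 ι hιdeg) _ _ fun d c hd hc => ?_
  rw [ProjQ.chartQ_ι_assoc, ProjQ.chartQ_ι_assoc]
  have hmem : (ιgr 𝒜 𝒞 ι hιdeg) c ∈ 𝒜 d := ι_mem 𝒜 𝒞 ι hιdeg hc
  have e1 : Proj.awayι 𝒜 ((ιgr 𝒜 𝒞 ι hιdeg) c) hmem hd ≫ π =
      Spec.map (CommRingCat.ofHom (Away.map (ιgr 𝒜 𝒞 ι hιdeg) c)) ≫ Proj.awayι 𝒞 c hc hd :=
    Eπ 𝒜 𝒞 ι hιdeg π hπ hd hc
  have e2 := Eρ' 𝒜 hGdeg ρ hρ σ hd (f := (ιgr 𝒜 𝒞 ι hιdeg) c) hmem
    (smul_ιgr 𝒜 𝒞 ι hιdeg hc σ) hmem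
  rw [← Category.assoc, e2, Category.assoc, e1, ← Category.assoc, ← Spec.map_comp,
    ← CommRingCat.ofHom_comp, θσ_comp_map 𝒜 hGdeg 𝒞 ι hιdeg σ hc]

include hGdeg hρ hπ in
theorem hom_comp_π [Finite G] (σ : G) : (ρ σ).hom ≫ π = π := by
  have h := inv_comp_π 𝒜 hGdeg 𝒞 ι hιdeg ρ hρ π hπ σ
  calc (ρ σ).hom ≫ π = (ρ σ).hom ≫ (ρ σ).inv ≫ π := by rw [h]
    _ = π := by
      rw [← Category.assoc]
      exact (congrArg (· ≫ π) (Iso.hom_inv_id (ρ σ))).trans (Category.id_comp π)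

end invariance

end main

end Groth.Agent.Lib.Helper28.ProjQuot
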