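import Groth.Agent.Lib.Helper28.SubDegOne
import Groth.Agent.Lib.Helper28.ProjQ
import Groth.Agent.Lib.Helper28.ProjQuot
import Groth.Prelude.Def_RelProj

/-!
# A projective morphism to an affine scheme is the `Proj` of a graded algebra generated in degree one
-/

set_option autoImplicit false
universe u
open CategoryTheory CategoryTheory.Limits AlgebraicGeometry Opposite TopologicalSpace
open scoped HomogeneousIdeal
noncomputable section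

namespace Groth.Agent.Lib.Helper28.ProjOverAffine

open Groth.Agent.Lib.Helper28

set_option maxHeartbeats 1600000 in
theorem exists_proj_of_isProjective {A : Type u} [CommRing A] {X : Scheme.{u}}
    (f : X ⟶ Spec (CommRingCat.of A)) (hf : RelProj.IsProjective f) :
    ∃ (S : Type u) (_ : CommRing S) (_ : Algebra A S) (𝒮 : ℕ → Submodule A S) (_ : GradedAlgebra 𝒮) (s : Finset S),
      Function.Surjective (algebraMap A (𝒮 0)) ∧ (∀ g ∈ s, g ∈ 𝒮 1) ∧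
      (HomogeneousIdeal.irrelevant 𝒮).toIdeal = Ideal.span (s : Set S) ∧
      ∃ e : X ≅ Proj 𝒮, e.hom ≫ Proj.toSpecZero 𝒮 ≫ Spec.map (CommRingCat.ofHom (algebraMap A (𝒮 0))) = f := by
  classical
  obtain ⟨𝒮, P, p, chart, e, hgen, hft, hP, hcomp⟩ := hf
  have hU : IsAffineOpen (⊤ : (Spec (CommRingCat.of A)).Opens) := isAffineOpen_top _
  let σ : A →+* 𝒮.presheaf.obj (op ⊤) := ((Scheme.ΓSpecIso (CommRingCat.of A)).inv ≫ 𝒮.str.app (op ⊤)).hom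
  have hσ : ∀ a, σ a ∈ 𝒮.deg ⊤ hU 0 := fun a => 𝒮.str_mem ⊤ hU _
  obtain ⟨T, hT, hspan⟩ := hft ⊤ hU
  have hgenU := hgen ⊤ hU
  let emb : {t // t ∈ T} ↪ SubDegOne.S₁ (𝒮.deg ⊤ hU) σ :=
    ⟨fun t => ⟨t.1, SubDegOne.deg_one_le _ σ (hT t.2)⟩, fun a b h => Subtype.ext (congrArg (fun z : SubDegOne.S₁ (𝒮.deg ⊤ hU) σ => (z : 𝒮.presheaf.obj (op ⊤))) h)⟩
  let s : Finset (SubDegOne.S₁ (𝒮.deg ⊤ hU) σ) := T.attach.map emb
  letI := SubDegOne.gradedAlgebra (𝒮.deg ⊤ hU) σ hσ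
  have hs1 : ∀ t ∈ s, (t : 𝒮.presheaf.obj (op ⊤)) ∈ 𝒮.deg ⊤ hU 1 := by
    intro t ht
    obtain ⟨t', -, rfl⟩ := Finset.mem_map.1 ht
    exact hT t'.2
  have hspan' : ∀ x ∈ 𝒮.deg ⊤ hU 1, ∃ c : SubDegOne.S₁ (𝒮.deg ⊤ hU) σ → A,
      x = ∑ t ∈ s, σ (c t) * (t : 𝒮.presheaf.obj (op ⊤)) := by
    intro x hx
    obtain ⟨c, hc⟩ := hspan x hx
    refine ⟨fun t => (Scheme.ΓSpecIso (CommRingCat.of A)).hom.hom (c t.1), ?_⟩
    rw [Finset.sum_map, hc, ← Finset.sum_attach]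
    refine Finset.sum_congr rfl fun t _ => ?_
    congr 1
    show _ = (𝒮.str.app (op ⊤)).hom ((Scheme.ΓSpecIso (CommRingCat.of A)).inv.hom
      ((Scheme.ΓSpecIso (CommRingCat.of A)).hom.hom (c t.1)))
    congr 1
    exact (congrArg (fun k => k.hom (c t.1)) (Scheme.ΓSpecIso (CommRingCat.of A)).hom_inv_id).symm
  refine ⟨SubDegOne.S₁ (𝒮.deg ⊤ hU) σ, inferInstance, inferInstance, SubDegOne.degM (𝒮.deg ⊤ hU) σ hσ,
    SubDegOne.gradedAlgebra _ σ hσ, s, SubDegOne.algebraMap_zero_surjective _ σ hσ, hs1,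
    SubDegOne.irrelevant_eq_span _ σ hσ s hs1 hspan', ?_⟩
  -- the isomorphism
  have hsurj : ProjQ.TNSurj (SubDegOne.incl (𝒮.deg ⊤ hU) σ hσ) :=
    ⟨1, fun k hk y hy => ⟨⟨y, SubDegOne.deg_pos_le _ σ hgenU hk hy⟩, hy, rfl⟩⟩
  have hinj : ProjQ.TNInj (SubDegOne.incl (𝒮.deg ⊤ hU) σ hσ) :=
    ⟨0, fun k _ x _ hx0 => Subtype.ext hx0⟩
  have hdom := ProjQ.dom_eq_top_of_tnSurj _ hsurj
  have hiso1 : IsIso (RelCone.domOpen (SubDegOne.incl (𝒮.deg ⊤ hU) σ hσ)).ι := ProjQuot.isIso_ι_of_eq_top _ hdom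
  have hiso2 : IsIso (ProjQ.vQ (SubDegOne.incl (𝒮.deg ⊤ hU) σ hσ)) := ProjQ.isIso_vQ _ hsurj hinj
  have hiso3 : IsIso (p ⁻¹ᵁ ⊤).ι := ProjQuot.isIso_ι_of_eq_top _ rfl
  refine ⟨e ≪≫ (asIso (p ⁻¹ᵁ ⊤).ι).symm ≪≫ chart ⊤ hU ≪≫
    (asIso (RelCone.domOpen (SubDegOne.incl (𝒮.deg ⊤ hU) σ hσ)).ι).symm ≪≫
    asIso (ProjQ.vQ (SubDegOne.incl (𝒮.deg ⊤ hU) σ hσ)), ?_⟩
  have hover := hP.chart_over ⊤ hU
  have hzero : CommRingCat.ofHom (algebraMap A (SubDegOne.degM (𝒮.deg ⊤ hU) σ hσ 0)) ≫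
      CommRingCat.ofHom (ProjQ.zeroHom (SubDegOne.incl (𝒮.deg ⊤ hU) σ hσ)) =
      (Scheme.ΓSpecIso (CommRingCat.of A)).inv ≫ 𝒮.strZero ⊤ hU := by
    ext a
    rfl
  have hfrom : hU.fromSpec = Spec.map (Scheme.ΓSpecIso (CommRingCat.of A)).inv := by
    rw [IsAffineOpen.fromSpec_top, Scheme.isoSpec_Spec_inv]
  simp only [Iso.trans_hom, Iso.symm_hom, asIso_hom, asIso_inv, Category.assoc]
  rw [ProjQ.vQ_toSpecZero_assoc, IsIso.inv_hom_id_assoc, ← Spec.map_comp, hzero, Spec.map_comp, ← hfrom,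
    hover, IsIso.inv_hom_id_assoc, hcomp]

end Groth.Agent.Lib.Helper28.ProjOverAffine
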