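import Groth.Agent.Lib.Helper28.IotaE4
import Groth.Agent.Lib.Helper28.SymAlgProjBC
import Groth.Agent.Lib.Helper17.FinTypePushPull

/-!
# Permanence properties of projective morphisms (EGA II 5.5.5)
-/

set_option autoImplicit false
universe u
open CategoryTheory CategoryTheory.Limits AlgebraicGeometry Opposite TopologicalSpace
noncomputable section

namespace Groth.Agent.Lib.Helper28.ProjPerm

open Groth.Agent.Lib.Helper28 Groth.Agent.Lib.Helper28.QCohLoc Groth.Agent.Lib.Helper28.RLPsiV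

/-- base change of a projective bundle of a quasi-coherent module of finite type -/
theorem exists_bundle_pullback {Y Y' P : Scheme.{u}} (g : Y' ⟶ Y) (E : Y.Modules) [E.IsQuasicoherent]
    [SheafOfModules.IsFiniteType.{u} (R := Y.ringCatSheaf) E]
    (𝒯 : RelProj.QCGrAlg Y) (j : E ⟶ 𝒯.toModule) (hj : RelProj.IsGrSymAlg E 𝒯 j) (p : P ⟶ Y)
    (chart : ∀ (U : Y.Opens) (hU : IsAffineOpen U), ((p ⁻¹ᵁ U : P.Opens) : Scheme.{u}) ≅ Proj (𝒯.deg U hU))
    (hP : RelProj.IsRelProj 𝒯 p chart) :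
    ∃ (E' : Y'.Modules) (𝒯' : RelProj.QCGrAlg Y') (j' : E' ⟶ 𝒯'.toModule) (P' : Scheme.{u}) (p' : P' ⟶ Y')
      (chart' : ∀ (U : Y'.Opens) (hU : IsAffineOpen U), ((p' ⁻¹ᵁ U : P'.Opens) : Scheme.{u}) ≅ Proj (𝒯'.deg U hU))
      (G : P' ⟶ P),
      Coh.IsQCoh E' ∧ CohB1.IsFT E' ∧ RelProj.IsGrSymAlg E' 𝒯' j' ∧ RelProj.IsRelProj 𝒯' p' chart' ∧
        IsPullback G p' p g := by
  classical
  have hE'q : ((Scheme.Modules.pullback g).obj E).IsQuasicoherent :=
    Groth.Agent.Lib.Helper17.ModPullback.isQuasicoherent_pullback g E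
  have hE'ft : SheafOfModules.IsFiniteType.{u} (R := Y'.ringCatSheaf) ((Scheme.Modules.pullback g).obj E) :=
    Groth.Agent.Lib.Helper17.FinTypePushPull.isFiniteType_pullback g E
  have hQC := SymAlg.isQC_symPre_of_isQuasicoherent ((Scheme.Modules.pullback g).obj E)
  have hT := SymAlg.isGrSymAlg ((Scheme.Modules.pullback g).obj E) hQC
  have hPT := RelProjExists.isRelProj (SymAlg.grSymAlg ((Scheme.Modules.pullback g).obj E) hQC)
  obtain ⟨G, hG⟩ := SymAlg.exists_isPullback_projBundle g hj hT p chart hP _ _ hPT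
  exact ⟨_, _, _, _, _, _, G, hE'q, hE'ft, hT, hPT, hG⟩

/-- **EGA II 5.5.5 (iii)**: projective morphisms are stable under base change -/
theorem isProjective_pullback_snd {X Y Y' : Scheme.{u}} (f : X ⟶ Y) (hf : RelProj.IsProjective f) (g : Y' ⟶ Y) :
    RelProj.IsProjective (pullback.snd f g) := by
  classical
  obtain ⟨E, 𝒯, j, P, p, chart, i, h1, h2, h3, h4, h5, h6⟩ :=
    (isProjective_iff_closedImmersion_projBundle f).1 hf
  have : E.IsQuasicoherent := h1
  have : SheafOfModules.IsFiniteType.{u} (R := Y.ringCatSheaf) E := h2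
  obtain ⟨E', 𝒯', j', P', p', chart', G, k1, k2, k3, k4, hG⟩ := exists_bundle_pullback g E 𝒯 j h3 p chart h4
  have hc : (pullback.fst f g ≫ i) ≫ p = pullback.snd f g ≫ g := by
    rw [Category.assoc, h6, pullback.condition]
  have hbig : IsPullback (hG.lift (pullback.fst f g ≫ i) (pullback.snd f g) hc ≫ p') (pullback.fst f g) g (i ≫ p) := by
    rw [hG.lift_snd, h6]
    exact (IsPullback.of_hasPullback f g).flip
  have hsq : IsPullback (hG.lift (pullback.fst f g ≫ i) (pullback.snd f g) hc) (pullback.fst f g) G i :=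
    IsPullback.of_right hbig (hG.lift_fst _ _ _) hG.flip
  have hci : IsClosedImmersion (hG.lift (pullback.fst f g ≫ i) (pullback.snd f g) hc) :=
    MorphismProperty.of_isPullback hsq.flip h5
  exact (isProjective_iff_closedImmersion_projBundle _).2
    ⟨E', 𝒯', j', P', p', chart', _, k1, k2, k3, k4, hci, hG.lift_snd _ _ _⟩

/-- **EGA II 5.5.5 (v)**: if `f ≫ g` is projective and `g` separated, `f` is projective -/
theorem isProjective_of_comp {X Y Z : Scheme.{u}} (f : X ⟶ Y) (g : Y ⟶ Z) [IsSeparated g]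
    (h : RelProj.IsProjective (f ≫ g)) : RelProj.IsProjective f := by
  classical
  obtain ⟨E, 𝒯, j, P, p, chart, i, h1, h2, h3, h4, h5, h6⟩ :=
    (isProjective_iff_closedImmersion_projBundle (f ≫ g)).1 h
  have : E.IsQuasicoherent := h1
  have : SheafOfModules.IsFiniteType.{u} (R := Z.ringCatSheaf) E := h2
  obtain ⟨E', 𝒯', j', P', p', chart', G, k1, k2, k3, k4, hG⟩ := exists_bundle_pullback g E 𝒯 j h3 p chart h4
  have hGsep : IsSeparated G := MorphismProperty.of_isPullback hG.flip (inferInstanceAs (IsSeparated g))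
  have hci' : IsClosedImmersion (hG.lift i f h6 ≫ G) := by
    rw [hG.lift_fst]; exact h5
  have hci : IsClosedImmersion (hG.lift i f h6) := IsClosedImmersion.of_comp _ G
  exact (isProjective_iff_closedImmersion_projBundle _).2
    ⟨E', 𝒯', j', P', p', chart', _, k1, k2, k3, k4, hci, hG.lift_snd _ _ _⟩

/-- a closed immersion followed by a projective morphism is projective -/
theorem isProjective_closedImmersion_comp {X₀ X Y : Scheme.{u}} (j₀ : X₀ ⟶ X) [IsClosedImmersion j₀] (f : X ⟶ Y)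
    (hf : RelProj.IsProjective f) : RelProj.IsProjective (j₀ ≫ f) := by
  classical
  obtain ⟨E, 𝒯, j, P, p, chart, i, h1, h2, h3, h4, h5, h6⟩ :=
    (isProjective_iff_closedImmersion_projBundle f).1 hf
  exact (isProjective_iff_closedImmersion_projBundle _).2
    ⟨E, 𝒯, j, P, p, chart, j₀ ≫ i, h1, h2, h3, h4, inferInstance, by rw [Category.assoc, h6]⟩

end Groth.Agent.Lib.Helper28.ProjPerm
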