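import Groth.Agent.Lib.Helper28.IotaE4
import Groth.Agent.Lib.Helper28.ProdBundleVA
import Groth.Agent.Lib.Helper28.SymAlgProjBC
import Groth.Agent.Lib.Helper17.FinTypePushPull
import Groth.Agent.Lib.Helper17.TensorQC
import Groth.Agent.Lib.Helper17.ModPullback

/-!
# The product of two projective morphisms is projective (EGA II 5.5.5 (iv))
-/

set_option autoImplicit false
universe u
open CategoryTheory CategoryTheory.Limits AlgebraicGeometry TopologicalSpace Opposite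
open scoped HomogeneousIdeal
noncomputable section

namespace Groth.Agent.Lib.Helper28.ProjProd

open Groth.Agent.Lib.Helper28 Groth.Agent.Lib.Helper28.QCohLoc Groth.Agent.Lib.Helper28.TraceAlg
open Groth.Agent.Lib.Helper28.SymAlg Groth.Agent.Lib.Helper28.ImgAlg Groth.Agent.Lib.Helper28.RLPsiV

section segre

variable {Y P P' Q : Scheme.{u}} {E E' : Y.Modules} [E.IsQuasicoherent] [E'.IsQuasicoherent]
  [SheafOfModules.IsFiniteType.{u} (R := Y.ringCatSheaf) E]
  [SheafOfModules.IsFiniteType.{u} (R := Y.ringCatSheaf) E']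
  {𝒮 : RelProj.QCGrAlg Y} {j : E ⟶ 𝒮.toModule} (hS : RelProj.IsGrSymAlg E 𝒮 j)
  {p : P ⟶ Y}
  {chart : ∀ (U : Y.Opens) (hU : IsAffineOpen U), (((p ⁻¹ᵁ U : P.Opens) : Scheme.{u}) ≅ Proj (𝒮.deg U hU))}
  (hP : RelProj.IsRelProj 𝒮 p chart)
  {𝒮' : RelProj.QCGrAlg Y} {j' : E' ⟶ 𝒮'.toModule} (hS' : RelProj.IsGrSymAlg E' 𝒮' j')
  {p' : P' ⟶ Y}
  {chart' : ∀ (U : Y.Opens) (hU : IsAffineOpen U), (((p' ⁻¹ᵁ U : P'.Opens) : Scheme.{u}) ≅ Proj (𝒮'.deg U hU))}
  (hP' : RelProj.IsRelProj 𝒮' p' chart')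
  {𝒜 : RelProj.QCGrAlg Y} {jA : CohB1.tensorMod E E' ⟶ 𝒜.toModule}
  (h𝒜 : RelProj.IsGrSymAlg (CohB1.tensorMod E E') 𝒜 jA)
  (pQ : Q ⟶ Y)
  (chartQ : ∀ (U : Y.Opens) (hU : IsAffineOpen U), (((pQ ⁻¹ᵁ U : Q.Opens) : Scheme.{u}) ≅ Proj (𝒜.deg U hU)))
  (hQ : RelProj.IsRelProj 𝒜 pQ chartQ)

include hS hP hS' hP' h𝒜 hQ in
/-- **the Segre immersion of bundles of modules of finite type is a closed immersion** -/
theorem exists_segre_closedImmersion :
    ∃ s : pullback p p' ⟶ Q, IsClosedImmersion s ∧ s ≫ pQ = pullback.fst p p' ≫ p := by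
  classical
  have hO := RelTwistEx.isRelTwist hP 1
  have hO' := RelTwistEx.isRelTwist hP' 1
  have hOQ := RelTwistEx.isRelTwist hQ 1
  have hO₁ : RelProj.IsRelTwist 𝒮 p chart ((1 : ℕ) : ℤ) _ _ := hO
  have hO₂ : RelProj.IsRelTwist 𝒮' p' chart' ((1 : ℕ) : ℤ) _ _ := hO'
  have hOQ' : RelProj.IsRelTwist 𝒜 pQ chartQ ((1 : ℕ) : ℤ) _ _ := hOQ
  obtain ⟨s, hs_imm, hs_comp, -⟩ := ProdBundleVA.exists_segre_immersion hS hP hO₁ hS' hP' hO₂ h𝒜 pQ chartQ hQ hOQ'
  have hp : IsProper p := RelProjProper.isProper (isGenDegOne_of_isGrSymAlg hS) (isFTDeg_one_of_isGrSymAlg hS) hP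
  have hp' : IsProper p' :=
    RelProjProper.isProper (isGenDegOne_of_isGrSymAlg hS') (isFTDeg_one_of_isGrSymAlg hS') hP'
  have hft : SheafOfModules.IsFiniteType.{u} (R := Y.ringCatSheaf) (CohB1.tensorMod E E') :=
    Groth.Agent.Lib.Helper17.TensorQC.isFiniteType_tensorMod E E'
  have hpQ : IsProper pQ :=
    RelProjProper.isProper (isGenDegOne_of_isGrSymAlg h𝒜) (isFTDeg_one_of_isGrSymAlg h𝒜) hQ
  have h1 : IsProper (s ≫ pQ) := by rw [hs_comp]; infer_instance
  have h2 : IsProper s := IsProper.of_comp s pQ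
  have : IsImmersion s := hs_imm
  exact ⟨s, IsClosedImmersion.of_isPreimmersion s s.isClosedMap.isClosed_range, hs_comp⟩

end segre

set_option maxHeartbeats 1600000 in
/-- **EGA II 5.5.5 (iv)**: the product of two projective morphisms is projective -/
theorem isProjective_prod {X X' Y Y' S : Scheme.{u}} (a : Y ⟶ S) (a' : Y' ⟶ S) (f : X ⟶ Y) (f' : X' ⟶ Y')
    (hf : RelProj.IsProjective f) (hf' : RelProj.IsProjective f') :
    RelProj.IsProjective (pullback.map (f ≫ a) (f' ≫ a') a a' f f' (𝟙 S) (Category.comp_id (f ≫ a))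
      (Category.comp_id (f' ≫ a'))) := by
  classical
  obtain ⟨E, 𝒯, j, P, p, chart, i, hEq, hEft, hj, hP, hi, hip⟩ :=
    (isProjective_iff_closedImmersion_projBundle f).1 hf
  obtain ⟨E', 𝒯', j', P', p', chart', i', hE'q, hE'ft, hj', hP', hi', hip'⟩ :=
    (isProjective_iff_closedImmersion_projBundle f').1 hf'
  have : E.IsQuasicoherent := hEq
  have : E'.IsQuasicoherent := hE'q
  have : SheafOfModules.IsFiniteType.{u} (R := Y.ringCatSheaf) E := hEft
  have : SheafOfModules.IsFiniteType.{u} (R := Y'.ringCatSheaf) E' := hE'ft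
  -- the modules on `W = Y ×_S Y'`
  have hE₁q : ((Scheme.Modules.pullback (pullback.fst a a')).obj E).IsQuasicoherent :=
    Groth.Agent.Lib.Helper17.ModPullback.isQuasicoherent_pullback _ E
  have hE₂q : ((Scheme.Modules.pullback (pullback.snd a a')).obj E').IsQuasicoherent :=
    Groth.Agent.Lib.Helper17.ModPullback.isQuasicoherent_pullback _ E'
  have hE₁ft := Groth.Agent.Lib.Helper17.FinTypePushPull.isFiniteType_pullback (pullback.fst a a') E
  have hE₂ft := Groth.Agent.Lib.Helper17.FinTypePushPull.isFiniteType_pullback (pullback.snd a a') E'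
  have hQC₁ := isQC_symPre_of_isQuasicoherent ((Scheme.Modules.pullback (pullback.fst a a')).obj E)
  have hS₁ := isGrSymAlg _ hQC₁
  have hP₁ := RelProjExists.isRelProj (grSymAlg _ hQC₁)
  have hQC₂ := isQC_symPre_of_isQuasicoherent ((Scheme.Modules.pullback (pullback.snd a a')).obj E')
  have hS₂ := isGrSymAlg _ hQC₂
  have hP₂ := RelProjExists.isRelProj (grSymAlg _ hQC₂)
  have hTq : (CohB1.tensorMod ((Scheme.Modules.pullback (pullback.fst a a')).obj E)
      ((Scheme.Modules.pullback (pullback.snd a a')).obj E')).IsQuasicoherent := inferInstance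
  have hTft := Groth.Agent.Lib.Helper17.TensorQC.isFiniteType_tensorMod
    ((Scheme.Modules.pullback (pullback.fst a a')).obj E) ((Scheme.Modules.pullback (pullback.snd a a')).obj E')
  have hQCQ := isQC_symPre_of_isQuasicoherent (CohB1.tensorMod ((Scheme.Modules.pullback (pullback.fst a a')).obj E)
      ((Scheme.Modules.pullback (pullback.snd a a')).obj E'))
  have h𝒜 := isGrSymAlg _ hQCQ
  have hQ := RelProjExists.isRelProj (grSymAlg _ hQCQ)
  set p₁ := RelProjExists.p (grSymAlg _ hQC₁) with hp₁def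
  set p₂ := RelProjExists.p (grSymAlg _ hQC₂) with hp₂def
  -- base change maps
  obtain ⟨c₁, hc₁⟩ := RelProjQ.exists_isProjQMap (grQHom (pullback.fst a a') hj hS₁) p chart hP _ _ hP₁
    (isQBaseChange_grQHom (pullback.fst a a') hj hS₁)
  have hpb₁ : IsPullback c₁ _ p (pullback.fst a a') := RelProjQ.isPullback_of_isProjQMap
    (grQHom (pullback.fst a a') hj hS₁) p chart hP _ _ hP₁ (isQBaseChange_grQHom (pullback.fst a a') hj hS₁) c₁ hc₁
  obtain ⟨c₂, hc₂⟩ := RelProjQ.exists_isProjQMap (grQHom (pullback.snd a a') hj' hS₂) p' chart' hP' _ _ hP₂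
    (isQBaseChange_grQHom (pullback.snd a a') hj' hS₂)
  have hpb₂ : IsPullback c₂ _ p' (pullback.snd a a') := RelProjQ.isPullback_of_isProjQMap
    (grQHom (pullback.snd a a') hj' hS₂) p' chart' hP' _ _ hP₂ (isQBaseChange_grQHom (pullback.snd a a') hj' hS₂) c₂ hc₂
  -- Segre
  obtain ⟨s, hs, hs_comp⟩ := exists_segre_closedImmersion hS₁ hP₁ hS₂ hP₂ h𝒜 _ _ hQ
  have hp₁ : IsProper p₁ :=
    RelProjProper.isProper (isGenDegOne_of_isGrSymAlg hS₁) (isFTDeg_one_of_isGrSymAlg hS₁) hP₁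
  have hp₂ : IsProper p₂ :=
    RelProjProper.isProper (isGenDegOne_of_isGrSymAlg hS₂) (isFTDeg_one_of_isGrSymAlg hS₂) hP₂
  -- the maps out of `T = X ×_S X'`
  set Φ := pullback.map (f ≫ a) (f' ≫ a') a a' f f' (𝟙 S) (Category.comp_id (f ≫ a))
      (Category.comp_id (f' ≫ a')) with hΦ
  have hΦ1 : Φ ≫ pullback.fst a a' = pullback.fst (f ≫ a) (f' ≫ a') ≫ f := pullback.lift_fst _ _ _
  have hΦ2 : Φ ≫ pullback.snd a a' = pullback.snd (f ≫ a) (f' ≫ a') ≫ f' := pullback.lift_snd _ _ _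
  let k₁ := hpb₁.lift (pullback.fst (f ≫ a) (f' ≫ a') ≫ i) Φ (by rw [Category.assoc, hip, hΦ1])
  let k₂ := hpb₂.lift (pullback.snd (f ≫ a) (f' ≫ a') ≫ i') Φ (by rw [Category.assoc, hip', hΦ2])
  have hk₁c : k₁ ≫ c₁ = pullback.fst (f ≫ a) (f' ≫ a') ≫ i := hpb₁.lift_fst _ _ _
  have hk₁p : k₁ ≫ p₁ = Φ := hpb₁.lift_snd _ _ _
  have hk₂c : k₂ ≫ c₂ = pullback.snd (f ≫ a) (f' ≫ a') ≫ i' := hpb₂.lift_fst _ _ _
  have hk₂p : k₂ ≫ p₂ = Φ := hpb₂.lift_snd _ _ _
  let k : pullback (f ≫ a) (f' ≫ a') ⟶ pullback p₁ p₂ := pullback.lift k₁ k₂ (hk₁p.trans hk₂p.symm)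
  have hkf : k ≫ pullback.fst p₁ p₂ = k₁ := pullback.lift_fst _ _ _
  have hks : k ≫ pullback.snd p₁ p₂ = k₂ := pullback.lift_snd _ _ _
  have hθw : (pullback.fst p₁ p₂ ≫ c₁) ≫ (p ≫ a) = (pullback.snd p₁ p₂ ≫ c₂) ≫ (p' ≫ a') := by
    rw [Category.assoc, ← Category.assoc c₁, hpb₁.w, Category.assoc, Category.assoc, ← Category.assoc c₂, hpb₂.w,
      Category.assoc, ← pullback.condition (f := a) (g := a'), ← Category.assoc, ← Category.assoc,
      ← Category.assoc, ← Category.assoc, pullback.condition (f := p₁) (g := p₂)]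
  let θ : pullback p₁ p₂ ⟶ pullback (p ≫ a) (p' ≫ a') :=
    pullback.lift (pullback.fst p₁ p₂ ≫ c₁) (pullback.snd p₁ p₂ ≫ c₂) hθw
  have hθf : θ ≫ pullback.fst (p ≫ a) (p' ≫ a') = pullback.fst p₁ p₂ ≫ c₁ := pullback.lift_fst _ _ _
  have hθs : θ ≫ pullback.snd (p ≫ a) (p' ≫ a') = pullback.snd p₁ p₂ ≫ c₂ := pullback.lift_snd _ _ _
  have e₁ : f ≫ a = i ≫ (p ≫ a) := by rw [← Category.assoc, hip]
  have e₂ : f' ≫ a' = i' ≫ (p' ≫ a') := by rw [← Category.assoc, hip']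
  have hkθ : k ≫ θ = pullback.map (f ≫ a) (f' ≫ a') (p ≫ a) (p' ≫ a') i i' (𝟙 S)
      ((Category.comp_id _).trans e₁) ((Category.comp_id _).trans e₂) := by
    apply pullback.hom_ext
    · rw [Category.assoc, hθf, ← Category.assoc, hkf, hk₁c, pullback.lift_fst]
    · rw [Category.assoc, hθs, ← Category.assoc, hks, hk₂c, pullback.lift_snd]
  have hkθci : IsClosedImmersion (k ≫ θ) := by
    rw [hkθ]
    exact MorphismProperty.pullbackMap (P := @IsClosedImmersion) hi hi' e₁ e₂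
  let ππ : pullback (p ≫ a) (p' ≫ a') ⟶ pullback a a' :=
    pullback.map (p ≫ a) (p' ≫ a') a a' p p' (𝟙 S) (Category.comp_id _) (Category.comp_id _)
  have hθπ : θ ≫ ππ = pullback.fst p₁ p₂ ≫ p₁ := by
    apply pullback.hom_ext
    · rw [Category.assoc, pullback.lift_fst, ← Category.assoc, hθf, Category.assoc, hpb₁.w, Category.assoc]
    · rw [Category.assoc, pullback.lift_snd, ← Category.assoc, hθs, Category.assoc, hpb₂.w, Category.assoc,
        ← Category.assoc, ← pullback.condition (f := p₁) (g := p₂), Category.assoc]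
  have hθsep : IsSeparated θ := by
    have : IsSeparated (θ ≫ ππ) := by rw [hθπ]; infer_instance
    exact IsSeparated.of_comp θ ππ
  have hkci : IsClosedImmersion k := IsClosedImmersion.of_comp k θ
  have : IsClosedImmersion s := hs
  exact isProjective_of_closedImmersion_projBundle Φ _ _ _ h𝒜 _ _ hQ (k ≫ s) (by
    rw [Category.assoc, hs_comp, ← Category.assoc, hkf, hk₁p])

end Groth.Agent.Lib.Helper28.ProjProd
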