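import Groth.Agent.Lib.Helper28.ProjQuot
import Groth.Agent.Lib.Helper28.GrSectComap

set_option autoImplicit false
set_option linter.unusedSectionVars false
universe u
open CategoryTheory CategoryTheory.Limits AlgebraicGeometry Opposite TopologicalSpace
open HomogeneousLocalization
noncomputable section

namespace Groth.Agent.Lib.Helper28.ProjQuot

section alg
variable {R A : Type u} [CommRing R] [CommRing A] [Algebra R A] (𝒜 : ℕ → Submodule R A) [GradedAlgebra 𝒜]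
    {G : Type u} [Group G] [MulSemiringAction G A]
    (hGdeg : ∀ (σ : G) (i : ℕ) (a : A), a ∈ 𝒜 i → σ • a ∈ 𝒜 i)
    {C : Type u} [CommRing C] [Algebra R C] (𝒞 : ℕ → Submodule R C) [GradedAlgebra 𝒞]
    (ι : C →ₐ[R] A) (hι : Function.Injective ι)
    (hιdeg : ∀ (i : ℕ) (a : A), a ∈ (𝒞 i).map ι.toLinearMap ↔ (a ∈ 𝒜 i ∧ ∀ σ : G, σ • a = a))

include hι in
theorem map_ιgr_injective {n : ℕ} {c : C} (hc : c ∈ 𝒞 n) :
    Function.Injective (Away.map (ιgr 𝒜 𝒞 ι hιdeg) c) := by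
  rw [injective_iff_map_eq_zero]
  intro q hq
  obtain ⟨k, a, ha, rfl⟩ := Away.mk_surjective 𝒞 hc q
  rw [Away.map_mk, ← (HomogeneousLocalization.val_injective _).eq_iff, Away.val_mk,
    HomogeneousLocalization.val_zero, Localization.mk_eq_mk', IsLocalization.mk'_eq_zero_iff] at hq
  obtain ⟨⟨_, N, rfl⟩, hN⟩ := hq
  rw [← (HomogeneousLocalization.val_injective _).eq_iff, Away.val_mk,
    HomogeneousLocalization.val_zero, Localization.mk_eq_mk', IsLocalization.mk'_eq_zero_iff]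
  refine ⟨⟨c ^ N, N, rfl⟩, ?_⟩
  apply hι
  rw [map_mul, map_pow, map_zero]
  exact hN

theorem val_θσ_mk (σ : G) {n : ℕ} {f : A} (hf : f ∈ 𝒜 n) (e : σ • f = f) (k : ℕ) (b : A)
    (hb : b ∈ 𝒜 (k • n)) :
    (θσ 𝒜 hGdeg σ e (Away.mk 𝒜 hf k b hb)).val =
      Localization.mk (σ • b) (⟨f ^ k, k, rfl⟩ : Submonoid.powers f) := by
  rw [θσ, Away.mk, HomogeneousLocalization.map_mk, HomogeneousLocalization.val_mk]
  congr 1
  apply Subtype.ext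
  change σ • f ^ k = f ^ k
  rw [smul_pow', e]

include hGdeg in
theorem exists_invariant_rep [Finite G] {n : ℕ} {f : A} (hf : f ∈ 𝒜 n) (hσf : ∀ σ : G, σ • f = f)
    (q : Away 𝒜 f) (hq : ∀ σ : G, θσ 𝒜 hGdeg σ (hσf σ) q = q) :
    ∃ (m : ℕ) (b' : A) (hb' : b' ∈ 𝒜 (m • n)), (∀ σ : G, σ • b' = b') ∧
      q = Away.mk 𝒜 hf m b' hb' := by
  classical
  have : Fintype G := Fintype.ofFinite G
  obtain ⟨k, b, hb, rfl⟩ := Away.mk_surjective 𝒜 hf q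
  have hex : ∀ σ : G, ∃ N : ℕ, f ^ N * (f ^ k * (σ • b)) = f ^ N * (f ^ k * b) := by
    intro σ
    have h1 := congrArg HomogeneousLocalization.val (hq σ)
    rw [val_θσ_mk 𝒜 hGdeg σ hf (hσf σ) k b hb, Away.val_mk, Localization.mk_eq_mk_iff,
      Localization.r_iff_exists] at h1
    obtain ⟨⟨_, N, rfl⟩, hN⟩ := h1
    exact ⟨N, hN⟩
  choose Nσ hNσ using hex
  let N := Finset.univ.sup Nσ
  have hN : ∀ σ : G, f ^ (N + k) * (σ • b) = f ^ (N + k) * b := by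
    intro σ
    obtain ⟨j, hj⟩ := Nat.exists_eq_add_of_le (Finset.le_sup (f := Nσ) (Finset.mem_univ σ))
    have e1 : ∀ x : A, f ^ (N + k) * x = f ^ j * (f ^ Nσ σ * (f ^ k * x)) := by
      intro x
      change f ^ (Finset.univ.sup Nσ + k) * x = _
      rw [hj]; ring
    rw [e1, e1, hNσ σ]
  have hb'inv : ∀ σ : G, σ • (f ^ (N + k) * b) = f ^ (N + k) * b := by
    intro σ
    rw [smul_mul', smul_pow', hσf σ, hN σ]
  have hb'deg : f ^ (N + k) * b ∈ 𝒜 ((N + k + k) • n) := by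
    have h1 := SetLike.mul_mem_graded (SetLike.pow_mem_graded (N + k) hf) hb
    rwa [← add_smul] at h1
  refine ⟨N + k + k, f ^ (N + k) * b, hb'deg, hb'inv, ?_⟩
  apply HomogeneousLocalization.val_injective
  rw [Away.val_mk, Away.val_mk, Localization.mk_eq_mk_iff, Localization.r_iff_exists]
  refine ⟨1, ?_⟩
  simp only [OneMemClass.coe_one, one_mul]
  ring

include hGdeg hιdeg in
theorem exists_of_invariant [Finite G] {n : ℕ} {c : C} (hc : c ∈ 𝒞 n)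
    (q : Away 𝒜 ((ιgr 𝒜 𝒞 ι hιdeg) c))
    (hq : ∀ σ : G, θσ 𝒜 hGdeg σ (smul_ιgr 𝒜 𝒞 ι hιdeg hc σ) q = q) :
    ∃ p : Away 𝒞 c, Away.map (ιgr 𝒜 𝒞 ι hιdeg) c p = q := by
  have hf : (ιgr 𝒜 𝒞 ι hιdeg) c ∈ 𝒜 n := ι_mem 𝒜 𝒞 ι hιdeg hc
  obtain ⟨m, b', hb', hinv, rfl⟩ := exists_invariant_rep 𝒜 hGdeg hf
    (fun σ => smul_ιgr 𝒜 𝒞 ι hιdeg hc σ) q hq
  obtain ⟨c', hc', hcb⟩ := (hιdeg _ b').2 ⟨hb', hinv⟩
  refine ⟨Away.mk 𝒞 hc m c' hc', ?_⟩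
  rw [Away.map_mk]
  apply HomogeneousLocalization.val_injective
  rw [Away.val_mk, Away.val_mk]
  congr 1

end alg

section loc
variable {R A : Type u} [CommRing R] [CommRing A] [Algebra R A] (𝒜 : ℕ → Submodule R A) [GradedAlgebra 𝒜]
    {G : Type u} [Group G] [MulSemiringAction G A]
    (hGdeg : ∀ (σ : G) (i : ℕ) (a : A), a ∈ 𝒜 i → σ • a ∈ 𝒜 i)
    {C : Type u} [CommRing C] [Algebra R C] (𝒞 : ℕ → Submodule R C) [GradedAlgebra 𝒞]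
    (ι : C →ₐ[R] A) (hι : Function.Injective ι)
    (hιdeg : ∀ (i : ℕ) (a : A), a ∈ (𝒞 i).map ι.toLinearMap ↔ (a ∈ 𝒜 i ∧ ∀ σ : G, σ • a = a))
    (ρ : G →* Aut (Proj 𝒜))
    (hρ : ∀ (σ : G) (n : ℕ) (f : A) (hn : 0 < n) (hf : f ∈ 𝒜 n)
      (θ : CommRingCat.of (HomogeneousLocalization.Away 𝒜 f) ⟶ CommRingCat.of (HomogeneousLocalization.Away 𝒜 (σ • f))),
      (algebraMap (HomogeneousLocalization.Away 𝒜 (σ • f)) (Localization.Away (σ • f))).comp θ.hom =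
        (Localization.awayMap (MulSemiringAction.toRingHom G A σ) f).comp
          (algebraMap (HomogeneousLocalization.Away 𝒜 f) (Localization.Away f)) →
      Proj.awayι 𝒜 (σ • f) (hGdeg σ n f hf) hn ≫ (ρ σ).inv = Spec.map θ ≫ Proj.awayι 𝒜 f hf hn)
    (π : Proj 𝒜 ⟶ Proj 𝒞)
    (hπ : ∀ (n : ℕ) (c : C) (hn : 0 < n) (hc : c ∈ 𝒞 n)
      (θ : CommRingCat.of (HomogeneousLocalization.Away 𝒞 c) ⟶ CommRingCat.of (HomogeneousLocalization.Away 𝒜 (ι c))),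
      (algebraMap (HomogeneousLocalization.Away 𝒜 (ι c)) (Localization.Away (ι c))).comp θ.hom =
        (Localization.awayMap ι.toRingHom c).comp
          (algebraMap (HomogeneousLocalization.Away 𝒞 c) (Localization.Away c)) →
      Proj.awayι 𝒜 (ι c) ((hιdeg n (ι c)).mp (Submodule.mem_map_of_mem hc)).1 hn ≫ π =
        Spec.map θ ≫ Proj.awayι 𝒞 c hc hn)

include hπ in
theorem le_preimage {n : ℕ} (hn : 0 < n) {c : C} (hc : c ∈ 𝒞 n) :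
    Proj.basicOpen 𝒜 ((ιgr 𝒜 𝒞 ι hιdeg) c) ≤ π ⁻¹ᵁ Proj.basicOpen 𝒞 c :=
  ProjSect.basicOpen_le_preimage hn hn hc (ι_mem 𝒜 𝒞 ι hιdeg hc) _ (Eπ 𝒜 𝒞 ι hιdeg π hπ hn hc)

include hπ in
/-- the action of `π` on sections over a standard chart -/
theorem π_sections {n : ℕ} (hn : 0 < n) {c : C} (hc : c ∈ 𝒞 n) :
    Proj.awayToSection 𝒞 c ≫ π.appLE (Proj.basicOpen 𝒞 c) (Proj.basicOpen 𝒜 ((ιgr 𝒜 𝒞 ι hιdeg) c))
      (le_preimage 𝒜 𝒞 ι hιdeg π hπ hn hc) =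
      CommRingCat.ofHom (Away.map (ιgr 𝒜 𝒞 ι hιdeg) c) ≫
        Proj.awayToSection 𝒜 ((ιgr 𝒜 𝒞 ι hιdeg) c) :=
  ProjSect.awayToSection_comp_appLE hn hn hc (ι_mem 𝒜 𝒞 ι hιdeg hc) _
    (Eπ 𝒜 𝒞 ι hιdeg π hπ hn hc)

include hπ in
theorem π_sections_apply {n : ℕ} (hn : 0 < n) {c : C} (hc : c ∈ 𝒞 n) (q : Away 𝒞 c) :
    ((Proj 𝒜).presheaf.map (homOfLE (le_preimage 𝒜 𝒞 ι hιdeg π hπ hn hc)).op).hom
      ((π.app (Proj.basicOpen 𝒞 c)).hom ((Proj.awayToSection 𝒞 c).hom q)) =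
      (Proj.awayToSection 𝒜 ((ιgr 𝒜 𝒞 ι hιdeg) c)).hom (Away.map (ιgr 𝒜 𝒞 ι hιdeg) c q) := by
  have h2 := congrArg (fun φ => φ.hom q) (π_sections 𝒜 𝒞 ι hιdeg π hπ hn hc)
  simp only [CommRingCat.hom_comp, RingHom.comp_apply, CommRingCat.hom_ofHom] at h2
  exact h2

include hι hπ in
theorem app_basicOpen_injective {n : ℕ} (hn : 0 < n) {c : C} (hc : c ∈ 𝒞 n) :
    Function.Injective (π.app (Proj.basicOpen 𝒞 c)).hom := by
  rw [injective_iff_map_eq_zero]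
  intro s hs
  obtain ⟨q, rfl⟩ := (ConcreteCategory.bijective_of_isIso
    (Proj.basicOpenIsoAway 𝒞 c hc hn).hom).2 s
  have hs' : (π.app (Proj.basicOpen 𝒞 c)).hom ((Proj.awayToSection 𝒞 c).hom q) = 0 := hs
  have h1 := π_sections_apply 𝒜 𝒞 ι hιdeg π hπ hn hc q
  rw [hs', map_zero] at h1
  have hinjA := (ConcreteCategory.bijective_of_isIso
    (Proj.basicOpenIsoAway 𝒜 ((ιgr 𝒜 𝒞 ι hιdeg) c) (ι_mem 𝒜 𝒞 ι hιdeg hc) hn).hom).1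
  have h5 : Away.map (ιgr 𝒜 𝒞 ι hιdeg) c q = 0 := by
    apply hinjA
    exact h1.symm.trans (map_zero _).symm
  have h6 := map_ιgr_injective 𝒜 𝒞 ι hι hιdeg hc (h5.trans (map_zero _).symm)
  rw [h6]
  exact map_zero _

theorem res_injective_of_le {X : Scheme.{u}} {P V : X.Opens} (hVP : V ≤ P) (hPV : P ≤ V) :
    Function.Injective (X.presheaf.map (homOfLE hVP).op).hom := by
  intro a b hab
  have h1 := congrArg (X.presheaf.map (homOfLE hPV).op).hom hab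
  rw [← RingHom.comp_apply, ← RingHom.comp_apply, ← CommRingCat.hom_comp, ← Functor.map_comp] at h1
  have e : (homOfLE hVP).op ≫ (homOfLE hPV).op = 𝟙 (op P) := Subsingleton.elim _ _
  rw [e, X.presheaf.map_id] at h1
  exact h1

include hρ in
/-- the action of `(ρ σ).inv` on sections over the standard chart of an invariant element -/
theorem ρ_sections (σ : G) {n : ℕ} (hn : 0 < n) {f : A} (hf : f ∈ 𝒜 n) (e : σ • f = f) :
    ∃ hle : Proj.basicOpen 𝒜 f ≤ (ρ σ).inv ⁻¹ᵁ Proj.basicOpen 𝒜 f,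
      Proj.awayToSection 𝒜 f ≫ (ρ σ).inv.appLE (Proj.basicOpen 𝒜 f) (Proj.basicOpen 𝒜 f) hle =
        CommRingCat.ofHom (θσ 𝒜 hGdeg σ e) ≫ Proj.awayToSection 𝒜 f :=
  ⟨ProjSect.basicOpen_le_preimage hn hn hf hf _ (Eρ' 𝒜 hGdeg ρ hρ σ hn hf e hf),
    ProjSect.awayToSection_comp_appLE hn hn hf hf _ (Eρ' 𝒜 hGdeg ρ hρ σ hn hf e hf)⟩

theorem hom_inv_eq (σ : G) : (ρ σ⁻¹).hom = (ρ σ).inv := by
  rw [map_inv]
  rfl

include hGdeg hρ hπ in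
theorem app_basicOpen_range [Finite G] (hinv : ∀ g : G, (ρ g).hom ≫ π = π) {n : ℕ} (hn : 0 < n)
    {c : C} (hc : c ∈ 𝒞 n) (s : Γ(Proj 𝒜, π ⁻¹ᵁ Proj.basicOpen 𝒞 c))
    (hs : QuotGlue.IsInv ρ π hinv (Proj.basicOpen 𝒞 c) s) :
    s ∈ Set.range (π.app (Proj.basicOpen 𝒞 c)).hom := by
  have hf : (ιgr 𝒜 𝒞 ι hιdeg) c ∈ 𝒜 n := ι_mem 𝒜 𝒞 ι hιdeg hc
  have hVP := le_preimage 𝒜 𝒞 ι hιdeg π hπ hn hc
  have hPV : π ⁻¹ᵁ Proj.basicOpen 𝒞 c ≤ Proj.basicOpen 𝒜 ((ιgr 𝒜 𝒞 ι hιdeg) c) :=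
    preimage_basicOpen_le 𝒜 hGdeg 𝒞 ι hιdeg π hπ hc
  obtain ⟨q, hq⟩ := (ConcreteCategory.bijective_of_isIso
    (Proj.basicOpenIsoAway 𝒜 ((ιgr 𝒜 𝒞 ι hιdeg) c) hf hn).hom).2
    (((Proj 𝒜).presheaf.map (homOfLE hVP).op).hom s)
  replace hq : (Proj.awayToSection 𝒜 ((ιgr 𝒜 𝒞 ι hιdeg) c)).hom q =
    ((Proj 𝒜).presheaf.map (homOfLE hVP).op).hom s := hq
  have hinjA := (ConcreteCategory.bijective_of_isIso
    (Proj.basicOpenIsoAway 𝒜 ((ιgr 𝒜 𝒞 ι hιdeg) c) hf hn).hom).1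
  have hqinv : ∀ σ : G, θσ 𝒜 hGdeg σ (smul_ιgr 𝒜 𝒞 ι hιdeg hc σ) q = q := by
    intro σ
    obtain ⟨hle, hsec⟩ := ρ_sections 𝒜 hGdeg ρ hρ σ hn hf (smul_ιgr 𝒜 𝒞 ι hιdeg hc σ)
    have h2 := congrArg (fun φ => φ.hom q) hsec
    simp only [CommRingCat.hom_comp, RingHom.comp_apply, CommRingCat.hom_ofHom] at h2
    apply hinjA
    refine Eq.trans ?_ hq.symm
    refine h2.symm.trans ?_
    rw [hq]
    -- invariance of `s`, restricted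
    have h3 := hs σ⁻¹
    have hle' : Proj.basicOpen 𝒜 ((ιgr 𝒜 𝒞 ι hιdeg) c) ≤
        (ρ σ⁻¹).hom ⁻¹ᵁ Proj.basicOpen 𝒜 ((ιgr 𝒜 𝒞 ι hιdeg) c) := by
      rw [hom_inv_eq]; exact hle
    have e1 := Scheme.Hom.map_appLE (ρ σ⁻¹).hom hle' (homOfLE hVP).op
    have e2 := Scheme.Hom.appLE_map (ρ σ⁻¹).hom
      (SGA1.preimage_le_of_inv ρ π hinv σ⁻¹ (Proj.basicOpen 𝒞 c)) (homOfLE hVP).op
    have e3 := congrArg (fun φ => φ.hom s) (e1.trans e2.symm)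
    simp only [CommRingCat.hom_comp, RingHom.comp_apply] at e3
    rw [h3] at e3
    rw [← QuotGlue.appLE_congr' (hom_inv_eq 𝒜 ρ σ) _ _ hle' hle]
    exact e3
  obtain ⟨p, hp⟩ := exists_of_invariant 𝒜 hGdeg 𝒞 ι hιdeg hc q hqinv
  refine ⟨(Proj.awayToSection 𝒞 c).hom p, ?_⟩
  apply res_injective_of_le hVP hPV
  rw [π_sections_apply 𝒜 𝒞 ι hιdeg π hπ hn hc p, hp, hq]

include hι hGdeg hρ hπ in
/-- **`Proj 𝒜 ⟶ Proj 𝒜^G` is a quotient by `G`.** -/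
theorem isQuot [Finite G] : SGA1.IsQuot ρ π := by
  have hinv := hom_comp_π 𝒜 hGdeg 𝒞 ι hιdeg ρ hρ π hπ
  let P : (Proj 𝒞).Opens → Prop := fun W =>
    ∃ (n : ℕ) (c : C), 0 < n ∧ c ∈ 𝒞 n ∧ W = Proj.basicOpen 𝒞 c
  have hB : ∀ (U : (Proj 𝒞).Opens) (y : Proj 𝒞), y ∈ U → ∃ W, P W ∧ y ∈ W ∧ W ≤ U := by
    intro U y hy
    obtain ⟨e, g, he, hg, hgy, hgU⟩ := GrSectComap.exists_pos_basicOpen 𝒞 U y hy
    exact ⟨Proj.basicOpen 𝒞 g, ⟨e, g, he, hg, rfl⟩, hgy, fun z hz => hgU z hz⟩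
  have hinj : ∀ U : (Proj 𝒞).Opens, Function.Injective (π.app U).hom :=
    QuotGlue.injective_of_basis π P hB (by
      rintro W ⟨n, c, hn, hc, rfl⟩
      exact app_basicOpen_injective 𝒜 𝒞 ι hι hιdeg π hπ hn hc)
  refine ⟨isAffineHom_π 𝒜 hGdeg 𝒞 ι hιdeg π hπ, hinv, hinj, fun U s => ⟨?_, ?_⟩⟩
  · rintro ⟨t, rfl⟩
    exact QuotGlue.isInv_app ρ π hinv U t
  · intro hs
    exact QuotGlue.range_of_basis ρ π hinv P hB hinj (by
      rintro W ⟨n, c, hn, hc, rfl⟩ s hs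
      exact app_basicOpen_range 𝒜 hGdeg 𝒞 ι hιdeg ρ hρ π hπ hinv hn hc s hs) U s hs

end loc

end Groth.Agent.Lib.Helper28.ProjQuot
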