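import Groth.Agent.Lib.Helper28.ProjTildeSub
import Groth.Agent.Lib.Helper28.FinType

/-!
# Quasi-coherent modules of finite type on `Proj` come from finitely generated graded modules
-/

set_option autoImplicit false
universe u
open CategoryTheory AlgebraicGeometry Opposite TopologicalSpace HomogeneousLocalization
noncomputable section

namespace Groth.Agent.Lib.Helper28.GammaStar

open Groth.Agent.Lib.Helper28 Groth.Agent.Lib.Helper28.GrTildeQC Groth.Agent.Lib.Helper28.QCohLoc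
  Groth.Agent.Lib.Helper28.ProjFrac

variable {R A : Type u} [CommRing R] [CommRing A] [Algebra R A] {𝒜 : ℕ → Submodule R A} [GradedAlgebra 𝒜]
  {s : Finset A} {F : (Proj 𝒜).Modules}

theorem proj_smul_of_mem {d : ℕ} {a : A} (ha : a ∈ 𝒜 d) (n : ℕ) (p : MM 𝒜 s F) :
    proj n (a • p) = if d ≤ n then a • proj (n - d) p else 0 := by
  refine cf_ext _ _ fun g k => ?_
  rw [cf_proj, cf_smul_of_mem ha]
  by_cases hdn : d ≤ n
  · rw [if_pos hdn, if_pos hdn, cf_smul_of_mem ha, cf_proj]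
    by_cases hnk : n = k
    · subst hnk
      rw [if_pos rfl, if_pos hdn, if_pos rfl]
    · rw [if_neg hnk]
      by_cases hdk : d ≤ k
      · rw [if_pos hdk, if_neg (by omega), smul_zero]
      · rw [if_neg hdk]
  · rw [if_neg hdn, if_neg hdn, cf_zero]
    split_ifs <;> rfl

/-- the submodule generated by homogeneous elements is homogeneous -/
theorem span_homogeneous (G : Set (MM 𝒜 s F)) (hG : ∀ μ ∈ G, ∃ k, μ ∈ grading 𝒜 s F k) :
    ∀ p ∈ Submodule.span A G, ∀ n, proj n p ∈ Submodule.span A G := by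
  intro p hp
  induction hp using Submodule.span_induction with
  | mem μ hμ =>
    intro n
    obtain ⟨k, hk⟩ := hG μ hμ
    by_cases hnk : k = n
    · subst hnk
      rw [proj_of_mem k μ hk]
      exact Submodule.subset_span hμ
    · rw [proj_of_mem_ne n k μ hnk hk]
      exact zero_mem _
  | zero => intro n; rw [map_zero]; exact zero_mem _
  | add p q _ _ hp hq => intro n; rw [map_add]; exact add_mem (hp n) (hq n)
  | smul a p _ hp =>
    intro n
    induction a using DirectSum.Decomposition.inductionOn 𝒜 with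
    | zero => rw [zero_smul, map_zero]; exact zero_mem _
    | homogeneous x =>
      rw [proj_smul_of_mem x.2]
      split_ifs
      · exact Submodule.smul_mem _ _ (hp _)
      · exact zero_mem _
    | add x y hx hy => rw [add_smul, map_add]; exact add_mem hx hy

/-- the homogeneous submodule generated by a set of homogeneous elements -/
def hsubSpan (G : Set (MM 𝒜 s F)) (hG : ∀ μ ∈ G, ∃ k, μ ∈ grading 𝒜 s F k) : HSub 𝒜 s F where
  P := Submodule.span A G
  hP := span_homogeneous G hG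

theorem finite_hsubSpan (G : Finset (MM 𝒜 s F)) (hG : ∀ μ ∈ (G : Set (MM 𝒜 s F)), ∃ k, μ ∈ grading 𝒜 s F k) :
    Module.Finite A (NN (hsubSpan (G : Set (MM 𝒜 s F)) hG)) := by
  have : Module.Finite A ↥(Submodule.span A (G : Set (MM 𝒜 s F))) :=
    Module.Finite.iff_fg.2 ⟨G, rfl⟩
  exact this

/-- the range of `ψ_f` contains the coefficients of the homogeneous elements of the submodule -/
theorem cf_mem_range_psiN (H : HSub 𝒜 s F) (f : J 𝒜 s) {k : ℕ} {μ : MM 𝒜 s F} (hμ : μ ∈ grading 𝒜 s F k)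
    (hμP : μ ∈ H.P) : ∃ t, psiN H f t = cf f k μ :=
  ⟨mkSN H f k (mkN μ hμP) hμ, psiN_mkSN H f k (mkN μ hμP) hμ⟩

theorem psiN_surjective_of_span (H : HSub 𝒜 s F) (f : J 𝒜 s) (Y : Set Γ(F, U 𝒜 s f))
    (hY : Submodule.span Γ(Proj 𝒜, U 𝒜 s f) Y = ⊤)
    (hYr : ∀ y ∈ Y, ∃ t, psiN H f t = y) : Function.Surjective (psiN H f) := by
  intro y
  have hy : y ∈ Submodule.span Γ(Proj 𝒜, U 𝒜 s f) Y := by rw [hY]; trivial
  induction hy using Submodule.span_induction with
  | mem y hy => exact hYr y hy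
  | zero => exact ⟨0, map_zero _⟩
  | add a b _ _ ha hb =>
    obtain ⟨t, ht⟩ := ha
    obtain ⟨t', ht'⟩ := hb
    exact ⟨t + t', by rw [map_add, ht, ht']⟩
  | smul c a _ ha =>
    obtain ⟨t, ht⟩ := ha
    exact ⟨c • t, by rw [psiN_smul, ht]⟩

/-- **Every quasi-coherent module of finite type on `Proj` (degree one generators) is the module of a finitely
generated graded module.** -/
theorem exists_hsub_finite [F.IsQuasicoherent] [SheafOfModules.IsFiniteType.{u} (R := (Proj 𝒜).ringCatSheaf) F]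
    (hs1 : ∀ f ∈ s, f ∈ 𝒜 1) (hs : (HomogeneousIdeal.irrelevant 𝒜).toIdeal = Ideal.span (s : Set A)) :
    ∃ H : HSub 𝒜 s F, Module.Finite A (NN H) ∧ Nonempty (GrTilde.tilde 𝒜 (gradingN H) 0 ≅ F) := by
  classical
  haveI : Fintype (J 𝒜 s) := Fintype.ofFinite _
  have hloc : ∀ g : J 𝒜 s, IsLocOn F (U 𝒜 s g) := fun g => isLocOn_of_isQuasicoherent F (isAffineOpen_U g)
  have hloc2 : ∀ g g' : J 𝒜 s, IsLocOn F (U 𝒜 s g ⊓ U 𝒜 s g') := by
    intro g g'
    refine isLocOn_of_isQuasicoherent F ?_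
    have : U 𝒜 s g ⊓ U 𝒜 s g' = Proj.basicOpen 𝒜 (g.1 * g'.1) := (Proj.basicOpen_mul 𝒜 g.1 g'.1).symm
    rw [this]
    exact Proj.isAffineOpen_basicOpen 𝒜 (g.1 * g'.1) (SetLike.mul_mem_graded g.2.1 g'.2.1) (by norm_num)
  -- finite generating sets of the sections over the charts
  have hfin : ∀ f : J 𝒜 s, ∃ Y : Finset Γ(F, U 𝒜 s f),
      Submodule.span Γ(Proj 𝒜, U 𝒜 s f) (Y : Set Γ(F, U 𝒜 s f)) = ⊤ := fun f =>
    (FinType.finite_of_isAffineOpen F (isAffineOpen_U f)).1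
  choose Y hY using hfin
  -- homogeneous elements with these coefficients
  have hμ : ∀ (f : J 𝒜 s) (y : Γ(F, U 𝒜 s f)), ∃ (μ : MM 𝒜 s F) (n : ℕ),
      μ ∈ grading 𝒜 s F n ∧ cf f n μ = y := by
    intro f y
    obtain ⟨n, μ, h1, h2⟩ := exists_cf_eq hloc hloc2 f y
    exact ⟨μ, n, h1, h2⟩
  choose μ n hμn hcf using hμ
  let G : Finset (MM 𝒜 s F) := Finset.univ.biUnion fun f : J 𝒜 s => (Y f).image (μ f)
  have hG : ∀ m ∈ (G : Set (MM 𝒜 s F)), ∃ k, m ∈ grading 𝒜 s F k := by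
    intro m hm
    obtain ⟨f, -, hm'⟩ := Finset.mem_biUnion.1 (Finset.mem_coe.1 hm)
    obtain ⟨y, -, rfl⟩ := Finset.mem_image.1 hm'
    exact ⟨n f y, hμn f y⟩
  refine ⟨hsubSpan (G : Set (MM 𝒜 s F)) hG, finite_hsubSpan G hG, ?_⟩
  have hcov := cover_of_span (𝒜 := 𝒜) (s := s) hs1 hs
  haveI := isIso_comparisonN (hsubSpan (G : Set (MM 𝒜 s F)) hG) hcov (fun f => by
    refine psiN_surjective_of_span _ f (Y f : Set Γ(F, U 𝒜 s f)) (hY f) ?_
    intro y hy
    have hmem : μ f y ∈ (hsubSpan (G : Set (MM 𝒜 s F)) hG).P := by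
      refine Submodule.subset_span (Finset.mem_coe.2 (Finset.mem_biUnion.2 ⟨f, Finset.mem_univ _, ?_⟩))
      exact Finset.mem_image_of_mem _ hy
    obtain ⟨t, ht⟩ := cf_mem_range_psiN (hsubSpan (G : Set (MM 𝒜 s F)) hG) f (hμn f y) hmem
    exact ⟨t, ht.trans (hcf f y)⟩)
  exact ⟨asIso (comparisonN (hsubSpan (G : Set (MM 𝒜 s F)) hG) hcov)⟩

end Groth.Agent.Lib.Helper28.GammaStar
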