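import Groth.Agent.Lib.Helper28.ProjGammaStar
import Groth.Agent.Lib.Helper28.ModIsoCover

/-!
# `M~ ≅ F` for the graded module of twisted sections of a quasi-coherent module on `Proj`
-/

set_option autoImplicit false
universe u
open CategoryTheory AlgebraicGeometry Opposite TopologicalSpace HomogeneousLocalization
noncomputable section

namespace Groth.Agent.Lib.Helper28.GammaStar

open Groth.Agent.Lib.Helper28 Groth.Agent.Lib.Helper28.GrTildeQC Groth.Agent.Lib.Helper28.QCohLoc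
  Groth.Agent.Lib.Helper28.ProjFrac

variable {R A : Type u} [CommRing R] [CommRing A] [Algebra R A] {𝒜 : ℕ → Submodule R A} [GradedAlgebra 𝒜]
  {s : Finset A} {F : (Proj 𝒜).Modules}

theorem pow_mem' (f : J 𝒜 s) (j : ℕ) : f.1 ^ j ∈ 𝒜 j := by
  simpa using SetLike.pow_mem_graded j f.2.1

theorem fr_pow (f g : J 𝒜 s) (j : ℕ) :
    fr 𝒜 g.2.1 j (f.1 ^ j) (pow_mem' f j) = fr 𝒜 g.2.1 1 f.1 f.2.1 ^ j := by
  refine valO_ext 𝒜 _ _ fun x => ?_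
  rw [valO_pow, HomogeneousLocalization.val_pow, val_fr, val_fr, Localization.mk_pow]
  congr 1
  exact Subtype.ext (by simp [pow_mul, ← pow_mul, mul_comm])

theorem cf_pow_smul (f : J 𝒜 s) (j n : ℕ) (p : MM 𝒜 s F) : cf f (j + n) (f.1 ^ j • p) = cf f n p := by
  rw [cf_smul_of_mem (pow_mem' f j), if_pos (Nat.le_add_right j n), Nat.add_sub_cancel_left]
  have : fr 𝒜 f.2.1 j (f.1 ^ j) (pow_mem' f j) = 1 := fr_pow_self 𝒜 f.2.1 j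
  rw [this, one_smul]

variable (𝒜 s F) in
/-- the module `M~` -/
abbrev T : (Proj 𝒜).Modules := GrTilde.tilde 𝒜 (grading 𝒜 s F) 0

/-- `t = μ / f^k` on `D₊(f)` -/
def IsRep (f : J 𝒜 s) (t : Γ(T 𝒜 s F, U 𝒜 s f)) (k : ℕ) (μ : MM 𝒜 s F) : Prop :=
  μ ∈ grading 𝒜 s F k ∧ ∀ x : U 𝒜 s f, val 𝒜 (grading 𝒜 s F) t x =
    LocalizedModule.mk μ ⟨f.1 ^ k, GrSectMod.pow_nin 𝒜 k x⟩

theorem exists_rep (f : J 𝒜 s) (t : Γ(T 𝒜 s F, U 𝒜 s f)) : ∃ (k : ℕ) (μ : MM 𝒜 s F), IsRep f t k μ := by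
  obtain ⟨k, i, m, hm, hi, hval⟩ := exists_frac 𝒜 (grading 𝒜 s F) f.2.1 Nat.one_pos 0 t
  have hik : i = k := by
    have : (i : ℤ) = (k : ℤ) := by rw [hi]; ring
    exact_mod_cast this
  subst hik
  exact ⟨i, m, hm, hval⟩

theorem smul_pow_mem (f : J 𝒜 s) (j : ℕ) {k : ℕ} {μ : MM 𝒜 s F} (hμ : μ ∈ grading 𝒜 s F k) :
    f.1 ^ j • μ ∈ grading 𝒜 s F (j + k) :=
  SetLike.GradedSMul.smul_mem (pow_mem' f j) hμ

/-- well-definedness of the coefficient of a representation -/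
theorem cf_eq_of_isRep (f : J 𝒜 s) (t : Γ(T 𝒜 s F, U 𝒜 s f)) {k k' : ℕ} {μ μ' : MM 𝒜 s F}
    (h : IsRep f t k μ) (h' : IsRep f t k' μ') : cf f k μ = cf f k' μ' := by
  have hν : f.1 ^ k' • μ - f.1 ^ k • μ' ∈ grading 𝒜 s F (k' + k) := by
    refine sub_mem (smul_pow_mem f k' h.1) ?_
    rw [add_comm]
    exact smul_pow_mem f k h'.1
  obtain ⟨N, hN⟩ := GrSect.pow_smul_eq_zero 𝒜 (grading 𝒜 s F) Nat.one_pos f.2.1 _ hν (by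
    intro x hx
    have hxf : x ∈ U 𝒜 s f := (Proj.mem_basicOpen 𝒜 f.1 x).2 hx
    have e := (h.2 ⟨x, hxf⟩).symm.trans (h'.2 ⟨x, hxf⟩)
    rw [LocalizedModule.mk_eq] at e
    obtain ⟨u, hu⟩ := e
    refine GrSectComap.mk_eq_zero_of_smul 𝒜 x _ 1 u.1 u.2 ?_
    rw [smul_sub]
    exact sub_eq_zero.2 hu)
  rw [smul_sub, sub_eq_zero, smul_smul, smul_smul, ← pow_add, ← pow_add] at hN
  have e1 := cf_pow_smul f (N + k') k μ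
  have e2 := cf_pow_smul f (N + k) k' μ'
  rw [← e1, ← e2, hN]
  congr 1
  ring

/-- the map `μ / f^k ↦ μ_f` on the sections over `D₊(f)` -/
def psiFun (f : J 𝒜 s) (t : Γ(T 𝒜 s F, U 𝒜 s f)) : Γ(F, U 𝒜 s f) :=
  cf f (exists_rep f t).choose (exists_rep f t).choose_spec.choose

theorem psiFun_eq (f : J 𝒜 s) (t : Γ(T 𝒜 s F, U 𝒜 s f)) {k : ℕ} {μ : MM 𝒜 s F} (h : IsRep f t k μ) :
    psiFun f t = cf f k μ :=
  cf_eq_of_isRep f t (exists_rep f t).choose_spec.choose_spec h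


theorem val_add {V : (Proj 𝒜).Opens} (t t' : Γ(T 𝒜 s F, V)) (x : V) :
    val 𝒜 (grading 𝒜 s F) (t + t') x = val 𝒜 (grading 𝒜 s F) t x + val 𝒜 (grading 𝒜 s F) t' x := rfl

theorem isRep_add (f : J 𝒜 s) {t t' : Γ(T 𝒜 s F, U 𝒜 s f)} {k k' : ℕ} {μ μ' : MM 𝒜 s F}
    (h : IsRep f t k μ) (h' : IsRep f t' k' μ') :
    IsRep f (t + t') (k' + k) (f.1 ^ k' • μ + f.1 ^ k • μ') := by
  refine ⟨add_mem (smul_pow_mem f k' h.1) ?_, fun x => ?_⟩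
  · rw [add_comm k' k]
    exact smul_pow_mem f k h'.1
  · rw [val_add, h.2 x, h'.2 x, LocalizedModule.mk_add_mk]
    congr 1
    exact Subtype.ext (by simp [pow_add, mul_comm])

theorem psiFun_add (f : J 𝒜 s) (t t' : Γ(T 𝒜 s F, U 𝒜 s f)) :
    psiFun f (t + t') = psiFun f t + psiFun f t' := by
  obtain ⟨k, μ, h⟩ := exists_rep f t
  obtain ⟨k', μ', h'⟩ := exists_rep f t'
  rw [psiFun_eq f _ (isRep_add f h h'), psiFun_eq f t h, psiFun_eq f t' h', cf_add, cf_pow_smul]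
  congr 1
  rw [add_comm k' k, cf_pow_smul]

/-- `ψ_f` as an additive map -/
def psi (f : J 𝒜 s) : Γ(T 𝒜 s F, U 𝒜 s f) →+ Γ(F, U 𝒜 s f) :=
  AddMonoidHom.mk' (psiFun f) (psiFun_add f)

theorem psi_eq (f : J 𝒜 s) (t : Γ(T 𝒜 s F, U 𝒜 s f)) {k : ℕ} {μ : MM 𝒜 s F} (h : IsRep f t k μ) :
    psi f t = cf f k μ := psiFun_eq f t h

theorem exists_fr (f : J 𝒜 s) (c : Γ(Proj 𝒜, U 𝒜 s f)) :
    ∃ (j : ℕ) (a : A) (ha : a ∈ 𝒜 j), fr 𝒜 f.2.1 j a ha = c := by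
  obtain ⟨j, a, ha, h⟩ := exists_awayToSection 𝒜 Nat.one_pos f.2.1 c
  have ha' : a ∈ 𝒜 j := by simpa using ha
  exact ⟨j, a, ha', h⟩

theorem isRep_smul (f : J 𝒜 s) {t : Γ(T 𝒜 s F, U 𝒜 s f)} {k : ℕ} {μ : MM 𝒜 s F} (h : IsRep f t k μ)
    (j : ℕ) (a : A) (ha : a ∈ 𝒜 j) :
    IsRep f (fr 𝒜 f.2.1 j a ha • t) (j + k) (a • μ) := by
  refine ⟨SetLike.GradedSMul.smul_mem ha h.1, fun x => ?_⟩
  rw [GrTildeQC.val_smul, val_fr, h.2 x, LocalizedModule.mk_smul_mk]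
  congr 1
  exact Subtype.ext (by simp [pow_add])

theorem psi_smul (f : J 𝒜 s) (c : Γ(Proj 𝒜, U 𝒜 s f)) (t : Γ(T 𝒜 s F, U 𝒜 s f)) :
    psi f (c • t) = c • psi f t := by
  obtain ⟨j, a, ha, rfl⟩ := exists_fr f c
  obtain ⟨k, μ, h⟩ := exists_rep f t
  rw [psi_eq f _ (isRep_smul f h j a ha), psi_eq f t h, cf_smul_of_mem ha, if_pos (Nat.le_add_right j k),
    Nat.add_sub_cancel_left]

/-- the section `μ / f^k` -/
def mkS (f : J 𝒜 s) (k : ℕ) (μ : MM 𝒜 s F) (hμ : μ ∈ grading 𝒜 s F k) : Γ(T 𝒜 s F, U 𝒜 s f) :=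
  mkSect 𝒜 (grading 𝒜 s F) f.2.1 0 k k μ hμ (by simp)

theorem isRep_mkS (f : J 𝒜 s) (k : ℕ) (μ : MM 𝒜 s F) (hμ : μ ∈ grading 𝒜 s F k) :
    IsRep f (mkS f k μ hμ) k μ :=
  ⟨hμ, fun x => val_mkSect 𝒜 (grading 𝒜 s F) f.2.1 0 k k μ hμ (by simp) x⟩

theorem psi_mkS (f : J 𝒜 s) (k : ℕ) (μ : MM 𝒜 s F) (hμ : μ ∈ grading 𝒜 s F k) :
    psi f (mkS f k μ hμ) = cf f k μ := psi_eq f _ (isRep_mkS f k μ hμ)


theorem res_eq_zero_of_le {X : Scheme.{u}} (G : X.Modules) {V V' W : X.Opens} (hV : V ≤ W) (hV' : V' ≤ W)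
    (h : V' ≤ V) (x : Γ(G, W)) (h0 : res G hV x = 0) : res G hV' x = 0 := by
  rw [← res_res G hV h x, h0, res_zero]

/-- a homogeneous element whose `f`-coefficient vanishes is killed by a power of `f` -/
theorem exists_pow_smul_eq_zero (hloc : ∀ g : J 𝒜 s, IsLocOn F (U 𝒜 s g)) (f : J 𝒜 s) {k : ℕ} {μ : MM 𝒜 s F}
    (hμ : μ ∈ grading 𝒜 s F k) (h0 : cf f k μ = 0) : ∃ N : ℕ, f.1 ^ N • μ = 0 := by
  classical
  haveI : Fintype (J 𝒜 s) := Fintype.ofFinite _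
  have h1 : ∀ g : J 𝒜 s, ∃ N : ℕ, (fr 𝒜 g.2.1 1 f.1 f.2.1 ^ N • cf g k μ : Γ(F, U 𝒜 s g)) = 0 := by
    intro g
    refine (hloc g).inj (fr 𝒜 g.2.1 1 f.1 f.2.1) (cf g k μ) ?_
    have hle : (Proj 𝒜).basicOpen (fr 𝒜 g.2.1 1 f.1 f.2.1) ≤ U 𝒜 s f ⊓ U 𝒜 s g := by
      rw [basicOpen_fr]
      exact le_inf inf_le_right inf_le_left
    refine res_eq_zero_of_le F (inf_le_right : U 𝒜 s f ⊓ U 𝒜 s g ≤ U 𝒜 s g) _ hle _ ?_
    rw [cf_compat μ k f g, h0, res_zero, smul_zero]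
  choose N hN using h1
  refine ⟨Finset.univ.sup N, cf_ext _ _ fun g n => ?_⟩
  rw [cf_zero, cf_smul_of_mem (pow_mem' f _)]
  by_cases hn : Finset.univ.sup N ≤ n
  · rw [if_pos hn]
    by_cases hk : n - Finset.univ.sup N = k
    · rw [hk, fr_pow]
      have hle : N g ≤ Finset.univ.sup N := Finset.le_sup (Finset.mem_univ g)
      rw [← tsub_add_cancel_of_le hle, pow_add, mul_smul, hN g, smul_zero]
    · rw [hμ g _ hk, smul_zero]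
  · rw [if_neg hn]

theorem psi_injective (hloc : ∀ g : J 𝒜 s, IsLocOn F (U 𝒜 s g)) (f : J 𝒜 s) :
    Function.Injective (psi (F := F) f) := by
  rw [injective_iff_map_eq_zero]
  intro t ht
  obtain ⟨k, μ, h⟩ := exists_rep f t
  rw [psi_eq f t h] at ht
  obtain ⟨N, hN⟩ := exists_pow_smul_eq_zero hloc f h.1 ht
  apply ext_val
  intro x
  rw [h.2 x, GrTildeQC.val_zero]
  exact GrSectComap.mk_eq_zero_of_smul 𝒜 x.1 μ _ (f.1 ^ N) (GrSectMod.pow_nin 𝒜 N x) hN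


theorem rat_eq (f g : J 𝒜 s) {V : (Proj 𝒜).Opens} (hV : V ≤ U 𝒜 s f ⊓ U 𝒜 s g) :
    resO hV (rat f g) = resO (hV.trans inf_le_right) (fr 𝒜 g.2.1 1 f.1 f.2.1) :=
  resO_resO _ _ _

/-- first extension step: a section over `D₊(f)` times a power of `f/g` extends to `D₊(g)`, with a common exponent -/
theorem exists_ext_common (hloc : ∀ g : J 𝒜 s, IsLocOn F (U 𝒜 s g)) (f : J 𝒜 s) (y : Γ(F, U 𝒜 s f)) :
    ∃ (n : ℕ) (z : ∀ g : J 𝒜 s, Γ(F, U 𝒜 s g)), ∀ g : J 𝒜 s,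
      res F (inf_le_right : U 𝒜 s f ⊓ U 𝒜 s g ≤ U 𝒜 s g) (z g) =
        (rat f g ^ n • res F (inf_le_left : U 𝒜 s f ⊓ U 𝒜 s g ≤ U 𝒜 s f) y : Γ(F, U 𝒜 s f ⊓ U 𝒜 s g)) := by
  classical
  haveI : Fintype (J 𝒜 s) := Fintype.ofFinite _
  have h1 : ∀ g : J 𝒜 s, ∃ (n : ℕ) (z : Γ(F, U 𝒜 s g)),
      res F (inf_le_right : U 𝒜 s f ⊓ U 𝒜 s g ≤ U 𝒜 s g) z =
        (rat f g ^ n • res F (inf_le_left : U 𝒜 s f ⊓ U 𝒜 s g ≤ U 𝒜 s f) y : Γ(F, U 𝒜 s f ⊓ U 𝒜 s g)) := by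
    intro g
    have hbo : (Proj 𝒜).basicOpen (fr 𝒜 g.2.1 1 f.1 f.2.1) = U 𝒜 s g ⊓ U 𝒜 s f := basicOpen_fr 𝒜 f.2.1 g.2.1
    have hle : (Proj 𝒜).basicOpen (fr 𝒜 g.2.1 1 f.1 f.2.1) ≤ U 𝒜 s f := by rw [hbo]; exact inf_le_right
    have hge : U 𝒜 s f ⊓ U 𝒜 s g ≤ (Proj 𝒜).basicOpen (fr 𝒜 g.2.1 1 f.1 f.2.1) := by
      rw [hbo]; exact le_inf inf_le_right inf_le_left
    obtain ⟨n, z, hnz⟩ := (hloc g).surj (fr 𝒜 g.2.1 1 f.1 f.2.1) (res F hle y)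
    refine ⟨n, z, ?_⟩
    have h2 := congrArg (res F hge) hnz
    rw [res_smul, resO_pow, res_res, res_res, resO_resO] at h2
    exact h2.symm
  choose n z hz using h1
  refine ⟨Finset.univ.sup n, fun g => fr 𝒜 g.2.1 1 f.1 f.2.1 ^ (Finset.univ.sup n - n g) • z g, fun g => ?_⟩
  have hle : n g ≤ Finset.univ.sup n := Finset.le_sup (Finset.mem_univ g)
  rw [res_smul, resO_pow, hz g, smul_smul]
  congr 1
  change rat f g ^ (Finset.univ.sup n - n g) * rat f g ^ n g = _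
  rw [← pow_add, tsub_add_cancel_of_le hle]


/-- `(f/g') = (g/g') (f/g)` on the opens inside `D₊(f) ∩ D₊(g) ∩ D₊(g')` -/
theorem rat_mul (f g g' : J 𝒜 s) {V : (Proj 𝒜).Opens} (hVg : V ≤ U 𝒜 s g) (hVg' : V ≤ U 𝒜 s g') :
    resO hVg' (fr 𝒜 g'.2.1 1 f.1 f.2.1) =
      resO hVg' (fr 𝒜 g'.2.1 1 g.1 g.2.1) * resO hVg (fr 𝒜 g.2.1 1 f.1 f.2.1) := by
  have := fr_overlap 𝒜 g.2.1 g'.2.1 hVg hVg' 1 f.1 f.2.1
  rwa [pow_one] at this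

/-- the relation of `exists_ext_common` on every open inside `D₊(f) ∩ D₊(g)` -/
theorem ext_rel_of_le (f : J 𝒜 s) (y : Γ(F, U 𝒜 s f)) (n : ℕ) (g : J 𝒜 s) (z : Γ(F, U 𝒜 s g))
    (hz : res F (inf_le_right : U 𝒜 s f ⊓ U 𝒜 s g ≤ U 𝒜 s g) z =
        (rat f g ^ n • res F (inf_le_left : U 𝒜 s f ⊓ U 𝒜 s g ≤ U 𝒜 s f) y : Γ(F, U 𝒜 s f ⊓ U 𝒜 s g)))
    {V : (Proj 𝒜).Opens} (hVf : V ≤ U 𝒜 s f) (hVg : V ≤ U 𝒜 s g) :
    res F hVg z = (resO hVg (fr 𝒜 g.2.1 1 f.1 f.2.1) ^ n • res F hVf y : Γ(F, V)) := by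
  have h := congrArg (res F (le_inf hVf hVg)) hz
  rw [res_smul, resO_pow, res_res, res_res, rat_eq] at h
  exact h

/-- second step: the cocycle defect is killed by a power of `f/g'` -/
theorem exists_pow_smul_defect (hloc2 : ∀ g g' : J 𝒜 s, IsLocOn F (U 𝒜 s g ⊓ U 𝒜 s g')) (f : J 𝒜 s)
    (y : Γ(F, U 𝒜 s f)) (n : ℕ) (z : ∀ g : J 𝒜 s, Γ(F, U 𝒜 s g))
    (hz : ∀ g : J 𝒜 s, res F (inf_le_right : U 𝒜 s f ⊓ U 𝒜 s g ≤ U 𝒜 s g) (z g) =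
        (rat f g ^ n • res F (inf_le_left : U 𝒜 s f ⊓ U 𝒜 s g ≤ U 𝒜 s f) y : Γ(F, U 𝒜 s f ⊓ U 𝒜 s g)))
    (g g' : J 𝒜 s) :
    ∃ N : ℕ, ((resO (inf_le_right : U 𝒜 s g ⊓ U 𝒜 s g' ≤ U 𝒜 s g') (fr 𝒜 g'.2.1 1 f.1 f.2.1)) ^ N •
      (res F (inf_le_right : U 𝒜 s g ⊓ U 𝒜 s g' ≤ U 𝒜 s g') (z g') -
        (rat g g' ^ n • res F (inf_le_left : U 𝒜 s g ⊓ U 𝒜 s g' ≤ U 𝒜 s g) (z g) : Γ(F, U 𝒜 s g ⊓ U 𝒜 s g'))) :
      Γ(F, U 𝒜 s g ⊓ U 𝒜 s g')) = 0 := by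
  refine (hloc2 g g').inj _ _ ?_
  set r' := resO (inf_le_right : U 𝒜 s g ⊓ U 𝒜 s g' ≤ U 𝒜 s g') (fr 𝒜 g'.2.1 1 f.1 f.2.1) with hr'
  have hbo : (Proj 𝒜).basicOpen r' = (U 𝒜 s g ⊓ U 𝒜 s g') ⊓ (U 𝒜 s g' ⊓ U 𝒜 s f) := by
    rw [hr', basicOpen_resO, basicOpen_fr]
  have hV3f : (Proj 𝒜).basicOpen r' ≤ U 𝒜 s f := by rw [hbo]; exact inf_le_right.trans inf_le_right
  have hV3g : (Proj 𝒜).basicOpen r' ≤ U 𝒜 s g := ((Proj 𝒜).basicOpen_le r').trans inf_le_left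
  have hV3g' : (Proj 𝒜).basicOpen r' ≤ U 𝒜 s g' := ((Proj 𝒜).basicOpen_le r').trans inf_le_right
  rw [res_sub, res_smul, resO_pow, res_res, res_res, rat_eq,
    ext_rel_of_le f y n g' (z g') (hz g') hV3f hV3g', ext_rel_of_le f y n g (z g) (hz g) hV3f hV3g,
    rat_mul f g g' hV3g hV3g', mul_pow, smul_smul, sub_self]


/-- every section of `F` over `D₊(f)` is the `f`-coefficient of a homogeneous element -/
theorem exists_cf_eq (hloc : ∀ g : J 𝒜 s, IsLocOn F (U 𝒜 s g))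
    (hloc2 : ∀ g g' : J 𝒜 s, IsLocOn F (U 𝒜 s g ⊓ U 𝒜 s g')) (f : J 𝒜 s) (y : Γ(F, U 𝒜 s f)) :
    ∃ (n' : ℕ) (μ : MM 𝒜 s F), μ ∈ grading 𝒜 s F n' ∧ cf f n' μ = y := by
  classical
  haveI : Fintype (J 𝒜 s) := Fintype.ofFinite _
  obtain ⟨n, z, hz⟩ := exists_ext_common hloc f y
  choose N hN using fun gg : J 𝒜 s × J 𝒜 s => exists_pow_smul_defect hloc2 f y n z hz gg.1 gg.2
  let m : ∀ g : J 𝒜 s, Γ(F, U 𝒜 s g) := fun g => fr 𝒜 g.2.1 1 f.1 f.2.1 ^ (Finset.univ.sup N) • z g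
  let p : Mbig 𝒜 s F := fun g => sg g (Finset.univ.sup N + n) (m g)
  have hp : p ∈ Msub 𝒜 s F := by
    intro k g g'
    change res F _ (co (sg g' (Finset.univ.sup N + n) (m g')) k) =
      (rat g g' ^ k • res F _ (co (sg g (Finset.univ.sup N + n) (m g)) k) : Γ(F, U 𝒜 s g ⊓ U 𝒜 s g'))
    rw [co_sg, co_sg]
    by_cases hk : Finset.univ.sup N + n = k
    · subst hk
      rw [if_pos rfl, if_pos rfl]
      change res F _ (fr 𝒜 g'.2.1 1 f.1 f.2.1 ^ (Finset.univ.sup N) • z g') =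
        (rat g g' ^ (Finset.univ.sup N + n) • res F _ (fr 𝒜 g.2.1 1 f.1 f.2.1 ^ (Finset.univ.sup N) • z g) :
          Γ(F, U 𝒜 s g ⊓ U 𝒜 s g'))
      rw [res_smul, res_smul, resO_pow, resO_pow]
      have hmul : resO (inf_le_right : U 𝒜 s g ⊓ U 𝒜 s g' ≤ U 𝒜 s g') (fr 𝒜 g'.2.1 1 f.1 f.2.1) =
          rat g g' * resO (inf_le_left : U 𝒜 s g ⊓ U 𝒜 s g' ≤ U 𝒜 s g) (fr 𝒜 g.2.1 1 f.1 f.2.1) :=
        rat_mul f g g' inf_le_left inf_le_right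
      have hle : N (g, g') ≤ Finset.univ.sup N := Finset.le_sup (Finset.mem_univ (g, g'))
      have h0 := hN (g, g')
      have h1 : ((resO (inf_le_right : U 𝒜 s g ⊓ U 𝒜 s g' ≤ U 𝒜 s g') (fr 𝒜 g'.2.1 1 f.1 f.2.1)) ^
          (Finset.univ.sup N) •
          (res F (inf_le_right : U 𝒜 s g ⊓ U 𝒜 s g' ≤ U 𝒜 s g') (z g') -
            (rat g g' ^ n • res F (inf_le_left : U 𝒜 s g ⊓ U 𝒜 s g' ≤ U 𝒜 s g) (z g) :
              Γ(F, U 𝒜 s g ⊓ U 𝒜 s g'))) : Γ(F, U 𝒜 s g ⊓ U 𝒜 s g')) = 0 := by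
        rw [← tsub_add_cancel_of_le hle, pow_add, mul_smul, h0, smul_zero]
      rw [smul_sub, sub_eq_zero] at h1
      rw [h1, hmul, smul_smul, smul_smul]
      congr 1
      ring
    · rw [if_neg hk, if_neg hk, res_zero, res_zero, smul_zero]
  refine ⟨Finset.univ.sup N + n, ⟨p, hp⟩, ?_, ?_⟩
  · intro g k hk
    change co (sg g (Finset.univ.sup N + n) (m g)) k = 0
    rw [co_sg, if_neg (Ne.symm hk)]
  · change co (sg f (Finset.univ.sup N + n) (m f)) (Finset.univ.sup N + n) = y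
    rw [co_sg, if_pos rfl]
    change (fr 𝒜 f.2.1 1 f.1 f.2.1 ^ (Finset.univ.sup N) • z f : Γ(F, U 𝒜 s f)) = y
    rw [fr_self, one_pow, one_smul]
    have h2 := hz f
    have hrat : rat f f = 1 := by
      change resO _ (fr 𝒜 f.2.1 1 f.1 f.2.1) = 1
      rw [fr_self]
      exact map_one _
    rw [hrat, one_pow, one_smul] at h2
    have h3 := congrArg (res F (le_inf le_rfl le_rfl : U 𝒜 s f ≤ U 𝒜 s f ⊓ U 𝒜 s f)) h2
    rw [res_res, res_res, res_self, res_self] at h3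
    exact h3

theorem psi_surjective (hloc : ∀ g : J 𝒜 s, IsLocOn F (U 𝒜 s g))
    (hloc2 : ∀ g g' : J 𝒜 s, IsLocOn F (U 𝒜 s g ⊓ U 𝒜 s g')) (f : J 𝒜 s) :
    Function.Surjective (psi (F := F) f) := by
  intro y
  obtain ⟨n', μ, hμ, hy⟩ := exists_cf_eq hloc hloc2 f y
  exact ⟨mkS f n' μ hμ, (psi_mkS f n' μ hμ).trans hy⟩


/-- `μ / g^k = (f/g)^k (μ / f^k)` on `D₊(f) ∩ D₊(g)` -/
theorem res_eq_rat_smul (f g : J 𝒜 s) (m : Γ(T 𝒜 s F, U 𝒜 s g)) {k : ℕ} {μ : MM 𝒜 s F} (h : IsRep g m k μ) :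
    res (T 𝒜 s F) (inf_le_right : U 𝒜 s f ⊓ U 𝒜 s g ≤ U 𝒜 s g) m =
      (rat f g ^ k • res (T 𝒜 s F) (inf_le_left : U 𝒜 s f ⊓ U 𝒜 s g ≤ U 𝒜 s f) (mkS f k μ h.1) :
        Γ(T 𝒜 s F, U 𝒜 s f ⊓ U 𝒜 s g)) := by
  apply ext_val
  intro x
  rw [GrTildeQC.val_smul, valO_pow, HomogeneousLocalization.val_pow, val_res, val_res]
  change _ = (valO 𝒜 (resO _ (fr 𝒜 g.2.1 1 f.1 f.2.1)) x).val ^ k • _
  rw [valO_resO, val_fr, h.2 ⟨x.1, _⟩, (isRep_mkS f k μ h.1).2 ⟨x.1, _⟩, pow_smul_mk, LocalizedModule.mk_eq]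
  refine ⟨1, ?_⟩
  simp only [one_smul, Submonoid.smul_def, Submonoid.coe_mul, SubmonoidClass.coe_pow, smul_smul]
  congr 1
  ring

theorem isLocOn_T (f : J 𝒜 s) : IsLocOn (T 𝒜 s F) (U 𝒜 s f) :=
  isLocOn_basicOpen 𝒜 (grading 𝒜 s F) Nat.one_pos f.2.1 0

theorem isAffineOpen_U (f : J 𝒜 s) : IsAffineOpen (U 𝒜 s f) :=
  Proj.isAffineOpen_basicOpen 𝒜 f.1 f.2.1 Nat.one_pos

/-- the extension of `ψ_f` to the opens inside `D₊(f)` -/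
def ex (f : J 𝒜 s) {W : (Proj 𝒜).Opens} (hW : W ≤ U 𝒜 s f) (x : Γ(T 𝒜 s F, W)) : Γ(F, W) :=
  ext (isLocOn_T f) (psi f) (psi_smul f) (isAffineOpen_U f) hW x

theorem ex_top (f : J 𝒜 s) (x : Γ(T 𝒜 s F, U 𝒜 s f)) : ex f le_rfl x = psi f x :=
  ext_top (isLocOn_T f) (psi f) (psi_smul f) (isAffineOpen_U f) x

theorem ex_res (f : J 𝒜 s) {W W' : (Proj 𝒜).Opens} (hW : W ≤ U 𝒜 s f) (h : W' ≤ W) (x : Γ(T 𝒜 s F, W)) :
    ex f (h.trans hW) (res (T 𝒜 s F) h x) = res F h (ex f hW x) :=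
  ext_res (isLocOn_T f) (psi f) (psi_smul f) (isAffineOpen_U f) hW h x

theorem ex_add (f : J 𝒜 s) {W : (Proj 𝒜).Opens} (hW : W ≤ U 𝒜 s f) (x y : Γ(T 𝒜 s F, W)) :
    ex f hW (x + y) = ex f hW x + ex f hW y :=
  ext_add (isLocOn_T f) (psi f) (psi_smul f) (isAffineOpen_U f) hW x y

theorem ex_smul (f : J 𝒜 s) {W : (Proj 𝒜).Opens} (hW : W ≤ U 𝒜 s f) (a : Γ(Proj 𝒜, W)) (x : Γ(T 𝒜 s F, W)) :
    ex f hW (a • x) = a • ex f hW x :=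
  ext_smul (isLocOn_T f) (psi f) (psi_smul f) (isAffineOpen_U f) hW a x

/-- the extensions do not depend on the chart -/
theorem ex_indep (f g : J 𝒜 s) {W : (Proj 𝒜).Opens} (hWf : W ≤ U 𝒜 s f) (hWg : W ≤ U 𝒜 s g)
    (x : Γ(T 𝒜 s F, W)) : ex f hWf x = ex g hWg x := by
  symm
  refine ext_eq_of_family (isLocOn_T g) (psi g) (psi_smul g) (isAffineOpen_U g)
    (inf_le_right : U 𝒜 s f ⊓ U 𝒜 s g ≤ U 𝒜 s g)
    (fun W hW => ex f (hW.trans inf_le_left)) ?_ ?_ ?_ W (le_inf hWf hWg) x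
  · intro W hW a x
    exact ex_smul f _ a x
  · intro W hW W' h x
    exact ex_res f _ h x
  · intro m
    obtain ⟨k, μ, h⟩ := exists_rep g m
    change ex f _ (res (T 𝒜 s F) _ m) = _
    rw [res_eq_rat_smul f g m h, ex_smul, ex_res f le_rfl, ex_top, psi_mkS, psi_eq g m h, cf_compat μ k f g]

/-- the local data of the comparison morphism `M~ ⟶ F` -/
def locData (hcov : ∀ x : Proj 𝒜, ∃ f : J 𝒜 s, x ∈ U 𝒜 s f) : LocalHomData (T 𝒜 s F) F where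
  B W := ∃ f : J 𝒜 s, W ≤ U 𝒜 s f
  down V V' h := fun ⟨f, hf⟩ => ⟨f, h.trans hf⟩
  cov x := by
    obtain ⟨f, hf⟩ := hcov x
    exact ⟨U 𝒜 s f, ⟨f, le_rfl⟩, hf⟩
  φ W hW := ex hW.choose hW.choose_spec
  add W hW x y := ex_add _ _ x y
  smul W hW a x := ex_smul _ _ a x
  nat W hW W' h x := by
    rw [← ex_res hW.choose hW.choose_spec h x]
    exact ex_indep _ _ _ _ _

/-- the comparison morphism `M~ ⟶ F` -/
def comparison (hcov : ∀ x : Proj 𝒜, ∃ f : J 𝒜 s, x ∈ U 𝒜 s f) : T 𝒜 s F ⟶ F := (locData hcov).hom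

theorem comparison_app (hcov : ∀ x : Proj 𝒜, ∃ f : J 𝒜 s, x ∈ U 𝒜 s f) (f : J 𝒜 s)
    (x : Γ(T 𝒜 s F, U 𝒜 s f)) : (comparison hcov).app (U 𝒜 s f) x = psi f x := by
  have hB : (locData (F := F) hcov).B (U 𝒜 s f) := ⟨f, le_rfl⟩
  have h := (locData (F := F) hcov).hom_app (U 𝒜 s f) hB x
  refine h.trans ?_
  change ex hB.choose hB.choose_spec x = _
  rw [ex_indep hB.choose f hB.choose_spec le_rfl x, ex_top]

theorem isIso_comparison [F.IsQuasicoherent] (hcov : ∀ x : Proj 𝒜, ∃ f : J 𝒜 s, x ∈ U 𝒜 s f) :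
    IsIso (comparison (F := F) hcov) := by
  have hloc : ∀ g : J 𝒜 s, IsLocOn F (U 𝒜 s g) := fun g => isLocOn_of_isQuasicoherent F (isAffineOpen_U g)
  have hloc2 : ∀ g g' : J 𝒜 s, IsLocOn F (U 𝒜 s g ⊓ U 𝒜 s g') := by
    intro g g'
    refine isLocOn_of_isQuasicoherent F ?_
    have : U 𝒜 s g ⊓ U 𝒜 s g' = Proj.basicOpen 𝒜 (g.1 * g'.1) := (Proj.basicOpen_mul 𝒜 g.1 g'.1).symm
    rw [this]
    exact Proj.isAffineOpen_basicOpen 𝒜 (g.1 * g'.1) (SetLike.mul_mem_graded g.2.1 g'.2.1) (by norm_num)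
  refine isIso_of_affine_cover (comparison hcov) (fun f : J 𝒜 s => U 𝒜 s f) isAffineOpen_U hcov isLocOn_T hloc ?_
  intro f
  have : ((comparison (F := F) hcov).app (U 𝒜 s f) : Γ(T 𝒜 s F, U 𝒜 s f) → Γ(F, U 𝒜 s f)) = psi f :=
    funext (comparison_app hcov f)
  rw [this]
  exact ⟨psi_injective hloc f, psi_surjective hloc hloc2 f⟩


/-- the standard opens of the generators cover `Proj` -/
theorem cover_of_span (hs1 : ∀ f ∈ s, f ∈ 𝒜 1)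
    (hs : (HomogeneousIdeal.irrelevant 𝒜).toIdeal = Ideal.span (s : Set A)) (x : Proj 𝒜) :
    ∃ f : J 𝒜 s, x ∈ U 𝒜 s f := by
  by_contra hcon
  push_neg at hcon
  have hx : ¬ HomogeneousIdeal.irrelevant 𝒜 ≤ (show ProjectiveSpectrum 𝒜 from x).asHomogeneousIdeal :=
    (show ProjectiveSpectrum 𝒜 from x).not_irrelevant_le
  apply hx
  intro a ha
  have ha' : a ∈ (HomogeneousIdeal.irrelevant 𝒜).toIdeal := ha
  rw [hs] at ha'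
  refine (Ideal.span_le.2 ?_) ha'
  intro f hf
  by_contra hfx
  exact hcon ⟨f, hs1 f hf, hf⟩ ((Proj.mem_basicOpen 𝒜 f x).2 hfx)

/-- **Every quasi-coherent module on `Proj` (degree one generators) is the module of a graded module.** -/
theorem exists_iso_tilde (hs1 : ∀ f ∈ s, f ∈ 𝒜 1)
    (hs : (HomogeneousIdeal.irrelevant 𝒜).toIdeal = Ideal.span (s : Set A)) [F.IsQuasicoherent] :
    Nonempty (GrTilde.tilde 𝒜 (grading 𝒜 s F) 0 ≅ F) := by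
  haveI := isIso_comparison (F := F) (cover_of_span hs1 hs)
  exact ⟨asIso (comparison (F := F) (cover_of_span hs1 hs))⟩

end Groth.Agent.Lib.Helper28.GammaStar
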