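import Groth.Agent.Lib.Helper28.ProjTildeIso

/-!
# `N~ ≅ F` for homogeneous submodules `N` of the graded module of twisted sections hitting all sections of `F`
-/

set_option autoImplicit false
universe u
open CategoryTheory AlgebraicGeometry Opposite TopologicalSpace HomogeneousLocalization
noncomputable section

namespace Groth.Agent.Lib.Helper28.GammaStar

open Groth.Agent.Lib.Helper28 Groth.Agent.Lib.Helper28.GrTildeQC Groth.Agent.Lib.Helper28.QCohLoc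
  Groth.Agent.Lib.Helper28.ProjFrac

variable {R A : Type u} [CommRing R] [CommRing A] [Algebra R A] {𝒜 : ℕ → Submodule R A} [GradedAlgebra 𝒜]
  {s : Finset A} {F : (Proj 𝒜).Modules}

variable (𝒜 s F) in
/-- a homogeneous `A`-submodule of the graded module of twisted sections -/
structure HSub where
  P : Submodule A (MM 𝒜 s F)
  hP : ∀ p ∈ P, ∀ n, proj n p ∈ P

variable (H : HSub 𝒜 s F)

/-- the submodule as a type (a type synonym with its own instances, so that all instance paths agree) -/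
def NN : Type u := ↥H.P

instance : AddCommGroup (NN H) := Submodule.addCommGroup H.P

instance : Module A (NN H) := Submodule.module H.P

instance : Module R (NN H) := Module.compHom (NN H) (algebraMap R A)

instance : IsScalarTower R A (NN H) := IsScalarTower.of_algebraMap_smul fun _ _ => rfl

variable {H}

/-- the underlying element of the ambient graded module -/
def vl (p : NN H) : MM 𝒜 s F := Subtype.val p

theorem vl_mem (p : NN H) : vl p ∈ H.P := Subtype.property p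

/-- an element of the submodule -/
def mkN (m : MM 𝒜 s F) (hm : m ∈ H.P) : NN H := (⟨m, hm⟩ : ↥H.P)

theorem vl_mkN (m : MM 𝒜 s F) (hm : m ∈ H.P) : vl (mkN (H := H) m hm) = m := rfl

theorem vl_injective : Function.Injective (vl (H := H)) := Subtype.val_injective

theorem vl_add (p q : NN H) : vl (p + q) = vl p + vl q := rfl

theorem vl_sub (p q : NN H) : vl (p - q) = vl p - vl q := rfl

theorem vl_zero : vl (0 : NN H) = 0 := rfl

theorem vl_smul (a : A) (p : NN H) : vl (a • p) = a • vl p := rfl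

theorem vl_smulR (r : R) (p : NN H) : vl (r • p) = r • vl p := rfl

variable (H)

/-- the induced grading -/
def gradingN (n : ℕ) : Submodule R (NN H) where
  carrier := {p | vl p ∈ grading 𝒜 s F n}
  zero_mem' := zero_mem (grading 𝒜 s F n)
  add_mem' hp hq := (grading 𝒜 s F n).add_mem hp hq
  smul_mem' r _ hp := (grading 𝒜 s F n).smul_mem r hp

theorem mem_gradingN (n : ℕ) (p : NN H) : p ∈ gradingN H n ↔ vl p ∈ grading 𝒜 s F n := Iff.rfl

instance : SetLike.GradedSMul 𝒜 (gradingN H) where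
  smul_mem {d n a p} ha hp := by
    rw [mem_gradingN]
    exact (SetLike.GradedSMul.smul_mem ha hp : a • vl p ∈ grading 𝒜 s F (d +ᵥ n))

/-- the projections -/
def projN (n : ℕ) : NN H →+ NN H where
  toFun p := mkN (proj n (vl p)) (H.hP (vl p) (vl_mem p) n)
  map_zero' := vl_injective (map_zero (proj n))
  map_add' p q := vl_injective (map_add (proj n) (vl p) (vl q))

theorem vl_projN (n : ℕ) (p : NN H) : vl (projN H n p) = proj n (vl p) := rfl

theorem vl_sum (S : Finset ℕ) (g : ℕ → NN H) : vl (∑ n ∈ S, g n) = ∑ n ∈ S, vl (g n) := by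
  classical
  induction S using Finset.induction_on with
  | empty => simp [vl_zero]
  | insert a T ha ih => rw [Finset.sum_insert ha, Finset.sum_insert ha, vl_add, ih]

theorem exists_sum_projN (p : NN H) : ∃ S : Finset ℕ, p = ∑ n ∈ S, projN H n p := by
  obtain ⟨S, hS⟩ := exists_sum_proj (vl p)
  refine ⟨S, vl_injective ?_⟩
  rw [vl_sum]
  exact hS

instance : DirectSum.Decomposition (gradingN H) :=
  DecompProj.decomposition (gradingN H) (projN H) (fun n p => proj_mem n (vl p))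
    (fun n p hp => vl_injective (proj_of_mem n (vl p) hp))
    (fun n m p hmn hp => vl_injective (proj_of_mem_ne n m (vl p) hmn hp)) (exists_sum_projN H)

/-- the module `N~` -/
abbrev TN : (Proj 𝒜).Modules := GrTilde.tilde 𝒜 (gradingN H) 0

theorem smul_pow_memN (f : J 𝒜 s) (j : ℕ) {k : ℕ} {μ : NN H} (hμ : μ ∈ gradingN H k) :
    f.1 ^ j • μ ∈ gradingN H (j + k) :=
  SetLike.GradedSMul.smul_mem (pow_mem' f j) hμ

/-- `t = μ / f^k` on `D₊(f)` -/
def IsRepN (f : J 𝒜 s) (t : Γ(TN H, U 𝒜 s f)) (k : ℕ) (μ : NN H) : Prop :=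
  μ ∈ gradingN H k ∧ ∀ x : U 𝒜 s f, val 𝒜 (gradingN H) t x =
    LocalizedModule.mk μ ⟨f.1 ^ k, GrSectMod.pow_nin 𝒜 k x⟩

theorem exists_repN (f : J 𝒜 s) (t : Γ(TN H, U 𝒜 s f)) : ∃ (k : ℕ) (μ : NN H), IsRepN H f t k μ := by
  obtain ⟨k, i, m, hm, hi, hval⟩ := exists_frac 𝒜 (gradingN H) f.2.1 Nat.one_pos 0 t
  have hik : i = k := by
    have : (i : ℤ) = (k : ℤ) := by rw [hi]; ring
    exact_mod_cast this
  subst hik
  exact ⟨i, m, hm, hval⟩

theorem cf_eq_of_isRepN (f : J 𝒜 s) (t : Γ(TN H, U 𝒜 s f)) {k k' : ℕ} {μ μ' : NN H}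
    (h : IsRepN H f t k μ) (h' : IsRepN H f t k' μ') : cf f k (vl μ) = cf f k' (vl μ') := by
  have hν : f.1 ^ k' • μ - f.1 ^ k • μ' ∈ gradingN H (k' + k) := by
    refine sub_mem (smul_pow_memN H f k' h.1) ?_
    rw [add_comm]
    exact smul_pow_memN H f k h'.1
  obtain ⟨N, hN⟩ := GrSect.pow_smul_eq_zero 𝒜 (gradingN H) Nat.one_pos f.2.1 _ hν (by
    intro x hx
    have hxf : x ∈ U 𝒜 s f := (Proj.mem_basicOpen 𝒜 f.1 x).2 hx
    have e := (h.2 ⟨x, hxf⟩).symm.trans (h'.2 ⟨x, hxf⟩)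
    rw [LocalizedModule.mk_eq] at e
    obtain ⟨u, hu⟩ := e
    refine GrSectComap.mk_eq_zero_of_smul 𝒜 x _ 1 u.1 u.2 ?_
    rw [smul_sub]
    exact sub_eq_zero.2 hu)
  rw [smul_sub, sub_eq_zero, smul_smul, smul_smul, ← pow_add, ← pow_add] at hN
  have hN' : f.1 ^ (N + k') • vl μ = f.1 ^ (N + k) • vl μ' := congrArg vl hN
  have e1 := cf_pow_smul f (N + k') k (vl μ)
  have e2 := cf_pow_smul f (N + k) k' (vl μ')
  rw [← e1, ← e2, hN']
  congr 1
  ring

/-- the map `μ / f^k ↦ μ_f` on the sections over `D₊(f)` -/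
def psiFunN (f : J 𝒜 s) (t : Γ(TN H, U 𝒜 s f)) : Γ(F, U 𝒜 s f) :=
  cf f (exists_repN H f t).choose (vl (exists_repN H f t).choose_spec.choose)

theorem psiFunN_eq (f : J 𝒜 s) (t : Γ(TN H, U 𝒜 s f)) {k : ℕ} {μ : NN H} (h : IsRepN H f t k μ) :
    psiFunN H f t = cf f k (vl μ) :=
  cf_eq_of_isRepN H f t (exists_repN H f t).choose_spec.choose_spec h

theorem val_addN {V : (Proj 𝒜).Opens} (t t' : Γ(TN H, V)) (x : V) :
    val 𝒜 (gradingN H) (t + t') x = val 𝒜 (gradingN H) t x + val 𝒜 (gradingN H) t' x := rfl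

theorem isRepN_add (f : J 𝒜 s) {t t' : Γ(TN H, U 𝒜 s f)} {k k' : ℕ} {μ μ' : NN H}
    (h : IsRepN H f t k μ) (h' : IsRepN H f t' k' μ') :
    IsRepN H f (t + t') (k' + k) (f.1 ^ k' • μ + f.1 ^ k • μ') := by
  refine ⟨add_mem (smul_pow_memN H f k' h.1) ?_, fun x => ?_⟩
  · rw [add_comm k' k]
    exact smul_pow_memN H f k h'.1
  · rw [val_addN, h.2 x, h'.2 x, LocalizedModule.mk_add_mk]
    congr 1
    exact Subtype.ext (by simp [pow_add, mul_comm])

theorem psiFunN_add (f : J 𝒜 s) (t t' : Γ(TN H, U 𝒜 s f)) :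
    psiFunN H f (t + t') = psiFunN H f t + psiFunN H f t' := by
  obtain ⟨k, μ, h⟩ := exists_repN H f t
  obtain ⟨k', μ', h'⟩ := exists_repN H f t'
  rw [psiFunN_eq H f _ (isRepN_add H f h h'), psiFunN_eq H f t h, psiFunN_eq H f t' h']
  change cf f (k' + k) (f.1 ^ k' • vl μ + f.1 ^ k • vl μ') = _
  rw [cf_add, cf_pow_smul]
  congr 1
  rw [add_comm k' k, cf_pow_smul]

/-- `ψ_f` as an additive map -/
def psiN (f : J 𝒜 s) : Γ(TN H, U 𝒜 s f) →+ Γ(F, U 𝒜 s f) :=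
  AddMonoidHom.mk' (psiFunN H f) (psiFunN_add H f)

theorem psiN_eq (f : J 𝒜 s) (t : Γ(TN H, U 𝒜 s f)) {k : ℕ} {μ : NN H} (h : IsRepN H f t k μ) :
    psiN H f t = cf f k (vl μ) := psiFunN_eq H f t h

theorem isRepN_smul (f : J 𝒜 s) {t : Γ(TN H, U 𝒜 s f)} {k : ℕ} {μ : NN H} (h : IsRepN H f t k μ)
    (j : ℕ) (a : A) (ha : a ∈ 𝒜 j) :
    IsRepN H f (fr 𝒜 f.2.1 j a ha • t) (j + k) (a • μ) := by
  refine ⟨SetLike.GradedSMul.smul_mem ha h.1, fun x => ?_⟩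
  rw [GrTildeQC.val_smul, val_fr, h.2 x, LocalizedModule.mk_smul_mk]
  congr 1
  exact Subtype.ext (by simp [pow_add])

theorem psiN_smul (f : J 𝒜 s) (c : Γ(Proj 𝒜, U 𝒜 s f)) (t : Γ(TN H, U 𝒜 s f)) :
    psiN H f (c • t) = c • psiN H f t := by
  obtain ⟨j, a, ha, rfl⟩ := exists_fr f c
  obtain ⟨k, μ, h⟩ := exists_repN H f t
  rw [psiN_eq H f _ (isRepN_smul H f h j a ha), psiN_eq H f t h]
  change cf f (j + k) (a • vl μ) = _
  rw [cf_smul_of_mem ha, if_pos (Nat.le_add_right j k), Nat.add_sub_cancel_left]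

/-- the section `μ / f^k` -/
def mkSN (f : J 𝒜 s) (k : ℕ) (μ : NN H) (hμ : μ ∈ gradingN H k) : Γ(TN H, U 𝒜 s f) :=
  mkSect 𝒜 (gradingN H) f.2.1 0 k k μ hμ (by simp)

theorem isRepN_mkSN (f : J 𝒜 s) (k : ℕ) (μ : NN H) (hμ : μ ∈ gradingN H k) :
    IsRepN H f (mkSN H f k μ hμ) k μ :=
  ⟨hμ, fun x => val_mkSect 𝒜 (gradingN H) f.2.1 0 k k μ hμ (by simp) x⟩

theorem psiN_mkSN (f : J 𝒜 s) (k : ℕ) (μ : NN H) (hμ : μ ∈ gradingN H k) :
    psiN H f (mkSN H f k μ hμ) = cf f k (vl μ) := psiN_eq H f _ (isRepN_mkSN H f k μ hμ)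

theorem psiN_injective (hloc : ∀ g : J 𝒜 s, IsLocOn F (U 𝒜 s g)) (f : J 𝒜 s) :
    Function.Injective (psiN H f) := by
  rw [injective_iff_map_eq_zero]
  intro t ht
  obtain ⟨k, μ, h⟩ := exists_repN H f t
  rw [psiN_eq H f t h] at ht
  obtain ⟨N, hN⟩ := exists_pow_smul_eq_zero hloc f h.1 ht
  have hN' : f.1 ^ N • μ = 0 := vl_injective hN
  apply ext_val
  intro x
  rw [h.2 x, GrTildeQC.val_zero]
  exact GrSectComap.mk_eq_zero_of_smul 𝒜 x.1 μ _ (f.1 ^ N) (GrSectMod.pow_nin 𝒜 N x) hN'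


/-- `μ / g^k = (f/g)^k (μ / f^k)` on `D₊(f) ∩ D₊(g)` -/
theorem res_eq_rat_smulN (f g : J 𝒜 s) (m : Γ(TN H, U 𝒜 s g)) {k : ℕ} {μ : NN H} (h : IsRepN H g m k μ) :
    res (TN H) (inf_le_right : U 𝒜 s f ⊓ U 𝒜 s g ≤ U 𝒜 s g) m =
      (rat f g ^ k • res (TN H) (inf_le_left : U 𝒜 s f ⊓ U 𝒜 s g ≤ U 𝒜 s f) (mkSN H f k μ h.1) :
        Γ(TN H, U 𝒜 s f ⊓ U 𝒜 s g)) := by
  apply ext_val
  intro x
  rw [GrTildeQC.val_smul, valO_pow, HomogeneousLocalization.val_pow, val_res, val_res]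
  change _ = (valO 𝒜 (resO _ (fr 𝒜 g.2.1 1 f.1 f.2.1)) x).val ^ k • _
  rw [valO_resO, val_fr, h.2 ⟨x.1, _⟩, (isRepN_mkSN H f k μ h.1).2 ⟨x.1, _⟩, pow_smul_mk, LocalizedModule.mk_eq]
  refine ⟨1, ?_⟩
  simp only [one_smul, Submonoid.smul_def, Submonoid.coe_mul, SubmonoidClass.coe_pow, smul_smul]
  congr 1
  ring

theorem isLocOn_TN (f : J 𝒜 s) : IsLocOn (TN H) (U 𝒜 s f) :=
  isLocOn_basicOpen 𝒜 (gradingN H) Nat.one_pos f.2.1 0

/-- the extension of `ψ_f` to the opens inside `D₊(f)` -/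
def exN (f : J 𝒜 s) {W : (Proj 𝒜).Opens} (hW : W ≤ U 𝒜 s f) (x : Γ(TN H, W)) : Γ(F, W) :=
  ext (isLocOn_TN H f) (psiN H f) (psiN_smul H f) (isAffineOpen_U f) hW x

theorem exN_top (f : J 𝒜 s) (x : Γ(TN H, U 𝒜 s f)) : exN H f le_rfl x = psiN H f x :=
  ext_top (isLocOn_TN H f) (psiN H f) (psiN_smul H f) (isAffineOpen_U f) x

theorem exN_res (f : J 𝒜 s) {W W' : (Proj 𝒜).Opens} (hW : W ≤ U 𝒜 s f) (h : W' ≤ W) (x : Γ(TN H, W)) :
    exN H f (h.trans hW) (res (TN H) h x) = res F h (exN H f hW x) :=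
  ext_res (isLocOn_TN H f) (psiN H f) (psiN_smul H f) (isAffineOpen_U f) hW h x

theorem exN_add (f : J 𝒜 s) {W : (Proj 𝒜).Opens} (hW : W ≤ U 𝒜 s f) (x y : Γ(TN H, W)) :
    exN H f hW (x + y) = exN H f hW x + exN H f hW y :=
  ext_add (isLocOn_TN H f) (psiN H f) (psiN_smul H f) (isAffineOpen_U f) hW x y

theorem exN_smul (f : J 𝒜 s) {W : (Proj 𝒜).Opens} (hW : W ≤ U 𝒜 s f) (a : Γ(Proj 𝒜, W)) (x : Γ(TN H, W)) :
    exN H f hW (a • x) = a • exN H f hW x :=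
  ext_smul (isLocOn_TN H f) (psiN H f) (psiN_smul H f) (isAffineOpen_U f) hW a x

/-- the extensions do not depend on the chart -/
theorem exN_indep (f g : J 𝒜 s) {W : (Proj 𝒜).Opens} (hWf : W ≤ U 𝒜 s f) (hWg : W ≤ U 𝒜 s g)
    (x : Γ(TN H, W)) : exN H f hWf x = exN H g hWg x := by
  symm
  refine ext_eq_of_family (isLocOn_TN H g) (psiN H g) (psiN_smul H g) (isAffineOpen_U g)
    (inf_le_right : U 𝒜 s f ⊓ U 𝒜 s g ≤ U 𝒜 s g)
    (fun W hW => exN H f (hW.trans inf_le_left)) ?_ ?_ ?_ W (le_inf hWf hWg) x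
  · intro W hW a x
    exact exN_smul H f _ a x
  · intro W hW W' h x
    exact exN_res H f _ h x
  · intro m
    obtain ⟨k, μ, h⟩ := exists_repN H g m
    change exN H f _ (res (TN H) _ m) = _
    rw [res_eq_rat_smulN H f g m h, exN_smul, exN_res H f le_rfl, exN_top, psiN_mkSN, psiN_eq H g m h,
      cf_compat (vl μ) k f g]

/-- the local data of the comparison morphism `N~ ⟶ F` -/
def locDataN (hcov : ∀ x : Proj 𝒜, ∃ f : J 𝒜 s, x ∈ U 𝒜 s f) : LocalHomData (TN H) F where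
  B W := ∃ f : J 𝒜 s, W ≤ U 𝒜 s f
  down V V' h := fun ⟨f, hf⟩ => ⟨f, h.trans hf⟩
  cov x := by
    obtain ⟨f, hf⟩ := hcov x
    exact ⟨U 𝒜 s f, ⟨f, le_rfl⟩, hf⟩
  φ W hW := exN H hW.choose hW.choose_spec
  add W hW x y := exN_add H _ _ x y
  smul W hW a x := exN_smul H _ _ a x
  nat W hW W' h x := by
    rw [← exN_res H hW.choose hW.choose_spec h x]
    exact exN_indep H _ _ _ _ _

/-- the comparison morphism `N~ ⟶ F` -/
def comparisonN (hcov : ∀ x : Proj 𝒜, ∃ f : J 𝒜 s, x ∈ U 𝒜 s f) : TN H ⟶ F := (locDataN H hcov).hom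

theorem comparisonN_app (hcov : ∀ x : Proj 𝒜, ∃ f : J 𝒜 s, x ∈ U 𝒜 s f) (f : J 𝒜 s)
    (x : Γ(TN H, U 𝒜 s f)) : (comparisonN H hcov).app (U 𝒜 s f) x = psiN H f x := by
  have hB : (locDataN H hcov).B (U 𝒜 s f) := ⟨f, le_rfl⟩
  have h := (locDataN H hcov).hom_app (U 𝒜 s f) hB x
  refine h.trans ?_
  change exN H hB.choose hB.choose_spec x = _
  rw [exN_indep H hB.choose f hB.choose_spec le_rfl x, exN_top]

theorem isIso_comparisonN [F.IsQuasicoherent] (hcov : ∀ x : Proj 𝒜, ∃ f : J 𝒜 s, x ∈ U 𝒜 s f)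
    (hsurj : ∀ f : J 𝒜 s, Function.Surjective (psiN H f)) :
    IsIso (comparisonN H hcov) := by
  have hloc : ∀ g : J 𝒜 s, IsLocOn F (U 𝒜 s g) := fun g => isLocOn_of_isQuasicoherent F (isAffineOpen_U g)
  refine isIso_of_affine_cover (comparisonN H hcov) (fun f : J 𝒜 s => U 𝒜 s f) isAffineOpen_U hcov
    (isLocOn_TN H) hloc ?_
  intro f
  have : ((comparisonN H hcov).app (U 𝒜 s f) : Γ(TN H, U 𝒜 s f) → Γ(F, U 𝒜 s f)) = psiN H f :=
    funext (comparisonN_app H hcov f)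
  rw [this]
  exact ⟨psiN_injective H hloc f, hsurj f⟩

end Groth.Agent.Lib.Helper28.GammaStar
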