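import Mathlib
import Groth.Agent.Lib.Helper28.Segre1

set_option autoImplicit false
universe u
open CategoryTheory AlgebraicGeometry Opposite TopologicalSpace HomogeneousLocalization
noncomputable section

namespace Groth.Agent.Lib.Helper28.ProjUPAlg

variable {A S : Type u} [CommRing A] [CommRing S] [Algebra A S] (𝒮 : ℕ → Submodule A S) [GradedAlgebra 𝒮]
variable {T : Type u} [CommRing T] [Algebra A T] (G : S →ₐ[A] T)

/-- the maps on graded pieces: `x ↦ G(x) X^n` -/
def piece (n : ℕ) : 𝒮 n →+ Polynomial T where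
  toFun x := Polynomial.monomial n (G x.1)
  map_zero' := by simp
  map_add' x y := by simp

theorem piece_apply (n : ℕ) (x : 𝒮 n) : piece 𝒮 G n x = Polynomial.monomial n (G x.1) := rfl

theorem piece_one : piece 𝒮 G 0 (GradedMonoid.GOne.one (A := fun i => 𝒮 i)) = 1 := by
  rw [piece_apply]
  change Polynomial.monomial 0 (G 1) = 1
  rw [map_one]
  rfl

theorem piece_mul {i j : ℕ} (x : 𝒮 i) (y : 𝒮 j) :
    piece 𝒮 G (i + j) (GradedMonoid.GMul.mul (A := fun i => 𝒮 i) x y) =
      piece 𝒮 G i x * piece 𝒮 G j y := by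
  rw [piece_apply, piece_apply, piece_apply, Polynomial.monomial_mul_monomial]
  change Polynomial.monomial (i + j) (G (x.1 * y.1)) = _
  rw [map_mul]

/-- `a ↦ G(a) X^n` for `a` of degree `n` -/
def gradedPoly : S →+* Polynomial T :=
  (DirectSum.toSemiring (piece 𝒮 G) (piece_one 𝒮 G) (piece_mul 𝒮 G)).comp
    (DirectSum.decomposeRingEquiv 𝒮).toRingHom

theorem gradedPoly_of_mem {n : ℕ} {x : S} (hx : x ∈ 𝒮 n) :
    gradedPoly 𝒮 G x = Polynomial.monomial n (G x) := by
  have : gradedPoly 𝒮 G x = piece 𝒮 G n ⟨x, hx⟩ := by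
    change DirectSum.toSemiring (piece 𝒮 G) (piece_one 𝒮 G) (piece_mul 𝒮 G)
      (DirectSum.decompose 𝒮 x) = _
    rw [DirectSum.decompose_of_mem 𝒮 hx, DirectSum.toSemiring_of]
  rw [this, piece_apply]

/-- `gradedPoly` as an algebra homomorphism -/
def gradedPolyAlg : S →ₐ[A] Polynomial T :=
  { gradedPoly 𝒮 G with
    commutes' := fun a => by
      change gradedPoly 𝒮 G (algebraMap A S a) = _
      rw [gradedPoly_of_mem 𝒮 G (SetLike.algebraMap_mem_graded 𝒮 a), AlgHom.commutes]
      rfl }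

theorem gradedPolyAlg_of_mem {n : ℕ} {x : S} (hx : x ∈ 𝒮 n) :
    gradedPolyAlg 𝒮 G x = Polynomial.monomial n (G x) := gradedPoly_of_mem 𝒮 G hx

/-- substitution `X ↦ u X` -/
def scale (u : T) : Polynomial T →ₐ[A] Polynomial T :=
  (Polynomial.aeval (Polynomial.C u * Polynomial.X : Polynomial T)).restrictScalars A

theorem scale_monomial (u : T) (k : ℕ) (c : T) :
    scale (A := A) u (Polynomial.monomial k c) = Polynomial.monomial k (u ^ k * c) := by
  change Polynomial.aeval (Polynomial.C u * Polynomial.X : Polynomial T) (Polynomial.monomial k c) = _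
  rw [Polynomial.aeval_monomial, mul_pow, ← Polynomial.C_pow, Polynomial.algebraMap_eq,
    ← mul_assoc, ← Polynomial.C_mul, Polynomial.C_mul_X_pow_eq_monomial, mul_comm]

variable {M : Type u} [AddCommGroup M] [Module A M] (ι : M →ₗ[A] S) (hι : ∀ m : M, ι m ∈ 𝒮 1)
  (hsym : IsSymmetricAlgebra ι)

include hι hsym in
/-- two algebra homomorphisms out of a symmetric algebra whose values on the generators differ by a fixed
factor `u` differ by `u ^ k` in degree `k` -/
theorem sym_twist (G G' : S →ₐ[A] T) (u : T) (h : ∀ m, G' (ι m) = u * G (ι m)) (k : ℕ) (a : S)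
    (ha : a ∈ 𝒮 k) : G' a = u ^ k * G a := by
  have h1 : gradedPolyAlg 𝒮 G' = (scale (A := A) u).comp (gradedPolyAlg 𝒮 G) := by
    apply hsym.algHom_ext
    refine LinearMap.ext fun m => ?_
    change gradedPolyAlg 𝒮 G' (ι m) = scale (A := A) u (gradedPolyAlg 𝒮 G (ι m))
    rw [gradedPolyAlg_of_mem 𝒮 G' (hι m), gradedPolyAlg_of_mem 𝒮 G (hι m), scale_monomial, h, pow_one]
  have h2 := congr_arg (fun φ : S →ₐ[A] Polynomial T => φ a) h1
  change gradedPolyAlg 𝒮 G' a = scale (A := A) u (gradedPolyAlg 𝒮 G a) at h2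
  rw [gradedPolyAlg_of_mem 𝒮 G' ha, gradedPolyAlg_of_mem 𝒮 G ha, scale_monomial] at h2
  exact Polynomial.monomial_injective k h2

section RingHom

variable {T' : Type u} [CommRing T'] (ρ : A →+* T')

include hsym in
/-- the universal property of the symmetric algebra, for ring homomorphisms -/
theorem existsUnique_ringHom (c : M →+ T') (hc : ∀ (a : A) (m : M), c (a • m) = ρ a * c m) :
    ∃! φ : S →+* T', (∀ m, φ (ι m) = c m) ∧ (∀ a, φ (algebraMap A S a) = ρ a) := by
  let _ : Algebra A T' := ρ.toAlgebra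
  let cl : M →ₗ[A] T' :=
    { toFun := c
      map_add' := c.map_add
      map_smul' := fun a m => by
        change c (a • m) = a • c m
        rw [hc, Algebra.smul_def]
        rfl }
  refine ⟨(hsym.lift cl).toRingHom, ⟨fun m => hsym.lift_eq cl m, fun a => (hsym.lift cl).commutes a⟩, ?_⟩
  rintro φ ⟨h1, h2⟩
  let φa : S →ₐ[A] T' := { φ with commutes' := h2 }
  have : φa = hsym.lift cl := by
    apply hsym.lift_unique
    refine LinearMap.ext fun m => ?_
    exact h1 m
  rw [← this]

include hι hsym in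
theorem ringHom_twist (φ φ' : S →+* T') (hφ : ∀ a, φ (algebraMap A S a) = ρ a)
    (hφ' : ∀ a, φ' (algebraMap A S a) = ρ a) (u : T') (h : ∀ m, φ' (ι m) = u * φ (ι m)) (k : ℕ) (a : S)
    (ha : a ∈ 𝒮 k) : φ' a = u ^ k * φ a := by
  let _ : Algebra A T' := ρ.toAlgebra
  let G : S →ₐ[A] T' := { φ with commutes' := hφ }
  let G' : S →ₐ[A] T' := { φ' with commutes' := hφ' }
  exact sym_twist 𝒮 ι hι hsym G G' u h k a ha

end RingHom

end Groth.Agent.Lib.Helper28.ProjUPAlg
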