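import Groth.Agent.Lib.Helper28.ImmBasic

/-!
# Quasi-affine schemes of finite type embed into `Spec` of finitely generated subrings of their functions

`exists_finset_isImmersion`: let `Z` be a quasi-affine scheme and `φ : A ⟶ Γ(Z, ⊤)` a ring homomorphism such that the
functions on every affine open of `Z` form an `A`-algebra of finite type.  Then there is a finite set `F` of functions
on `Z` such that for every ring homomorphism `ρ : R' ⟶ Γ(Z, ⊤)` whose range contains `F` and the image of `A`, the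
morphism `Z ⟶ Spec Γ(Z, ⊤) ⟶ Spec R'` is an immersion.
-/

set_option autoImplicit false
universe u
open CategoryTheory CategoryTheory.Limits AlgebraicGeometry Opposite TopologicalSpace
noncomputable section

namespace Groth.Agent.Lib.Helper28.ImmCover

/-- restriction of functions from the whole scheme -/
abbrev resT {Z : Scheme.{u}} (U : Z.Opens) : Γ(Z, ⊤) ⟶ Γ(Z, U) := Z.presheaf.map (homOfLE (le_top : U ≤ ⊤)).op

theorem appTop_toSpecΓ_SpecMap {Z : Scheme.{u}} {R' : CommRingCat.{u}} (ρ : R' ⟶ Γ(Z, ⊤)) (b : R') :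
    (Z.toSpecΓ ≫ Spec.map ρ).appTop ((Scheme.ΓSpecIso R').inv b) = ρ b := by
  rw [Scheme.Hom.comp_appTop, CommRingCat.comp_apply, Scheme.toSpecΓ_appTop]
  have h := Scheme.ΓSpecIso_inv_naturality ρ
  have h2 := congrArg (fun χ => χ.hom b) h
  simp only [CommRingCat.hom_comp, RingHom.comp_apply] at h2
  erw [← h2]
  exact Iso.inv_hom_id_apply (Scheme.ΓSpecIso Γ(Z, ⊤)) (ρ b)

/-- the finite data attached to an affine basic open -/
theorem exists_finset_gen {Z : Scheme.{u}} [CompactSpace Z] [QuasiSeparatedSpace Z] {A : CommRingCat.{u}}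
    (φ : A ⟶ Γ(Z, ⊤)) (r : Γ(Z, ⊤)) (hft : (φ ≫ resT (Z.basicOpen r)).hom.FiniteType) :
    ∃ F : Finset Γ(Z, ⊤), ∀ (R' : CommRingCat.{u}) (ρ : R' ⟶ Γ(Z, ⊤)), (∀ x ∈ F, x ∈ Set.range ρ) →
      (∀ a, φ a ∈ Set.range ρ) → r ∈ Set.range ρ →
      ∀ t : Γ(Z, Z.basicOpen r), ∃ (a : R') (n : ℕ),
        t * (resT (Z.basicOpen r) r) ^ n = resT (Z.basicOpen r) (ρ a) := by
  classical
  letI alg : Algebra A Γ(Z, Z.basicOpen r) := (φ ≫ resT (Z.basicOpen r)).hom.toAlgebra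
  have hft' : Algebra.FiniteType A Γ(Z, Z.basicOpen r) := hft
  obtain ⟨T, hT⟩ := hft'.out
  have hex : ∀ t : Γ(Z, Z.basicOpen r), ∃ (n : ℕ) (y : Γ(Z, ⊤)),
      resT (Z.basicOpen r) y = (resT (Z.basicOpen r) r) ^ n * t := fun t =>
    exists_eq_pow_mul_of_isCompact_of_isQuasiSeparated Z ⊤ CompactSpace.isCompact_univ isQuasiSeparated_univ r t
  choose nn yy hyy using hex
  refine ⟨T.image yy, fun R' ρ hF hA hr t => ?_⟩
  obtain ⟨br, hbr⟩ := hr
  have hmem : t ∈ Algebra.adjoin A (T : Set Γ(Z, Z.basicOpen r)) := by rw [hT]; trivial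
  induction hmem using Algebra.adjoin_induction with
  | mem x hx =>
    obtain ⟨a, ha⟩ := hF (yy x) (Finset.mem_image_of_mem _ (Finset.mem_coe.1 hx))
    refine ⟨a, nn x, ?_⟩
    rw [ha, hyy, mul_comm]
  | algebraMap a₀ =>
    obtain ⟨a, ha⟩ := hA a₀
    refine ⟨a, 0, ?_⟩
    rw [pow_zero, mul_one, ha]
    rfl
  | add x y _ _ hx hy =>
    obtain ⟨a, n, ha⟩ := hx
    obtain ⟨b, m, hb⟩ := hy
    refine ⟨a * br ^ m + b * br ^ n, n + m, ?_⟩
    rw [map_add, map_add, map_mul, map_mul, map_mul, map_mul, map_pow, map_pow, map_pow, map_pow, hbr,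
      ← ha, ← hb]
    ring
  | mul x y _ _ hx hy =>
    obtain ⟨a, n, ha⟩ := hx
    obtain ⟨b, m, hb⟩ := hy
    refine ⟨a * b, n + m, ?_⟩
    rw [map_mul, map_mul, ← ha, ← hb]
    ring

set_option backward.isDefEq.respectTransparency false in
theorem exists_finset_isImmersion {Z : Scheme.{u}} [Z.IsQuasiAffine] {A : CommRingCat.{u}} (φ : A ⟶ Γ(Z, ⊤))
    (hft : ∀ U : Z.Opens, IsAffineOpen U → (φ ≫ resT U).hom.FiniteType) :
    ∃ F : Finset Γ(Z, ⊤), ∀ (R' : CommRingCat.{u}) (ρ : R' ⟶ Γ(Z, ⊤)), (∀ x ∈ F, x ∈ Set.range ρ) →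
      (∀ a, φ a ∈ Set.range ρ) → IsImmersion (Z.toSpecΓ ≫ Spec.map ρ) := by
  classical
  -- a finite cover by affine basic opens
  have hcov : ∀ z : Z, ∃ r : Γ(Z, ⊤), IsAffineOpen (Z.basicOpen r) ∧ z ∈ Z.basicOpen r := by
    intro z
    obtain ⟨_, ⟨_, ⟨r, hr, rfl⟩, rfl⟩, hzr, -⟩ :=
      (Scheme.IsQuasiAffine.isBasis_basicOpen Z).exists_subset_of_mem_open (Set.mem_univ z) isOpen_univ
    exact ⟨r, hr, hzr⟩
  choose rr hrr hzrr using hcov
  obtain ⟨s, hs⟩ := CompactSpace.elim_nhds_subcover (fun z => ((Z.basicOpen (rr z) : Z.Opens) : Set Z))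
    (fun z => (Z.basicOpen (rr z)).isOpen.mem_nhds (hzrr z))
  have hF := fun z => exists_finset_gen φ (rr z) (hft _ (hrr z))
  choose FF hFF using hF
  refine ⟨s.image rr ∪ s.biUnion FF, fun R' ρ hFρ hA => ?_⟩
  have hrρ : ∀ z ∈ s, rr z ∈ Set.range ρ := fun z hz =>
    hFρ _ (Finset.mem_union_left _ (Finset.mem_image_of_mem _ hz))
  have hFFρ : ∀ z ∈ s, ∀ x ∈ FF z, x ∈ Set.range ρ := fun z hz x hx =>
    hFρ _ (Finset.mem_union_right _ (Finset.mem_biUnion.2 ⟨z, hz, hx⟩))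
  let j := Z.toSpecΓ ≫ Spec.map ρ
  refine isImmersion_of_basicOpen_cover j
    {γ | ∃ z ∈ s, j.appTop γ = rr z} ?_ ?_ ?_
  · intro z
    have hz : z ∈ ⋃ x ∈ s, ((Z.basicOpen (rr x) : Z.Opens) : Set Z) := by rw [hs]; trivial
    simp only [Set.mem_iUnion] at hz
    obtain ⟨x, hx, hzx⟩ := hz
    obtain ⟨b, hb⟩ := hrρ x hx
    refine ⟨(Scheme.ΓSpecIso R').inv b, ⟨x, hx, ?_⟩, ?_⟩
    · rw [appTop_toSpecΓ_SpecMap, hb]
    · rw [appTop_toSpecΓ_SpecMap, hb]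
      exact hzx
  · rintro γ ⟨z, hz, hγ⟩
    rw [hγ]
    exact hrr z
  · rintro γ ⟨z, hz, hγ⟩
    have key : ∀ (r' : Γ(Z, ⊤)) (_ : r' = rr z) (t : Γ(Z, Z.basicOpen r')), ∃ (a : Γ(Spec R', ⊤)) (n : ℕ),
        t * (resT (Z.basicOpen r') r') ^ n = resT (Z.basicOpen r') (j.appTop a) := by
      rintro r' rfl t
      obtain ⟨a, n, ha⟩ := hFF z R' ρ (hFFρ z hz) hA (hrρ z hz) t
      refine ⟨(Scheme.ΓSpecIso R').inv a, n, ?_⟩
      rw [appTop_toSpecΓ_SpecMap]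
      exact ha
    exact key _ hγ

end Groth.Agent.Lib.Helper28.ImmCover
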