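import Groth.Agent.Lib.Helper28.ProjSymLine
import Groth.Agent.Lib.Helper28.ProjLineB
import Groth.Agent.Lib.Helper28.ProjQComp
import Groth.Agent.Lib.Helper28.SymAlgCrit

set_option autoImplicit false
universe u
open CategoryTheory CategoryTheory.Limits AlgebraicGeometry Opposite TopologicalSpace
noncomputable section

namespace Groth.Agent.Lib.Helper28.RLPsi

open Groth.Agent.Lib.Helper28 Groth.Agent.Lib.Helper28.QCohLoc Groth.Agent.Lib.Helper28.TraceAlg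
open Groth.Agent.Lib.Helper28.GenLocus Groth.Agent.Lib.Helper28.SymAlg

attribute [local instance] algAt

section line

variable {X : Scheme.{u}} {L : X.Modules} [L.IsQuasicoherent]
    {𝒮 : RelProj.QCGrAlg X} {j : L ⟶ 𝒮.toModule} (hS : RelProj.IsGrSymAlg L 𝒮 j)
    {U : X.Opens} (hU : IsAffineOpen U) {g : Γ(L, U)} (hg : IsGen L U g)
    {PL : Scheme.{u}} (pL : PL ⟶ X)
    (chartL : ∀ (U : X.Opens) (hU : IsAffineOpen U), (((pL ⁻¹ᵁ U : PL.Opens) : Scheme.{u}) ≅ Proj (𝒮.deg U hU)))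
    (hPL : RelProj.IsRelProj 𝒮 pL chartL)

include hPL in
theorem emb_comp_pL : RelProj.emb pL chartL U hU ≫ pL =
    Proj.toSpecZero (𝒮.deg U hU) ≫ Spec.map (𝒮.strZero U hU) ≫ hU.fromSpec := by
  have h := hPL.chart_over U hU
  unfold RelProj.emb
  rw [Category.assoc, ← h, Iso.inv_hom_id_assoc]

include hS hg hPL in
/-- K1: on a trivializing affine open, `D₊(b e^n)` is the inverse image of `D(b)` -/
theorem mem_basicOpen_line_iff (b : Γ(X, U)) {n : ℕ} (hn : 0 < n) (y : Proj (𝒮.deg U hU)) :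
    y ∈ Proj.basicOpen (𝒮.deg U hU) ((𝒮.str.app (op U)).hom b * asR 𝒮.toQCAlg (j.app U g) ^ n) ↔
      pL (RelProj.emb pL chartL U hU y) ∈ X.basicOpen b := by
  have H1 : ∀ (d : ℕ) (a : 𝒮.presheaf.obj (op U)), a ∈ 𝒮.deg U hU d →
      ∃ a₀ ∈ 𝒮.deg U hU 0, a = a₀ * asR 𝒮.toQCAlg (j.app U g) ^ d := by
    intro d a ha
    obtain ⟨b', rfl⟩ := exists_eq_str_mul_pow hS hU hg d a ha
    exact ⟨_, 𝒮.str_mem U hU b', rfl⟩
  rw [ProjLine.mem_basicOpen_iff (𝒮.deg U hU) (asR 𝒮.toQCAlg (j.app U g)) (hS.2 U hU g) H1 _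
    (𝒮.str_mem U hU b) hn y]
  have h1 : pL (RelProj.emb pL chartL U hU y) =
      hU.fromSpec (Spec.map (𝒮.strZero U hU) (Proj.toSpecZero (𝒮.deg U hU) y)) :=
    congrArg (fun k => k y) (emb_comp_pL hU pL chartL hPL)
  rw [h1]
  have h2 := SetLike.ext_iff.1 (hU.fromSpec_preimage_basicOpen b)
    (Spec.map (𝒮.strZero U hU) (Proj.toSpecZero (𝒮.deg U hU) y))
  exact h2.symm

/-- restriction of ring sections -/
abbrev rS (𝒮 : RelProj.QCGrAlg X) {V W : X.Opens} (h : W ≤ V) (z : 𝒮.presheaf.obj (op V)) : 𝒮.presheaf.obj (op W) :=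
  (𝒮.presheaf.map (homOfLE h).op).hom z

omit [L.IsQuasicoherent] in
theorem smul_asR (V : X.Opens) (a : Γ(X, V)) (y : Γ(𝒮.toModule, V)) :
    asR 𝒮.toQCAlg (a • y) = (𝒮.str.app (op V)).hom a * asR 𝒮.toQCAlg y := rfl

omit [L.IsQuasicoherent] in
theorem rS_mul {V W : X.Opens} (h : W ≤ V) (p q : 𝒮.presheaf.obj (op V)) :
    rS 𝒮 h (p * q) = rS 𝒮 h p * rS 𝒮 h q := map_mul _ p q

omit [L.IsQuasicoherent] in
theorem rS_pow {V W : X.Opens} (h : W ≤ V) (p : 𝒮.presheaf.obj (op V)) (n : ℕ) :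
    rS 𝒮 h (p ^ n) = rS 𝒮 h p ^ n := map_pow _ p n

omit [L.IsQuasicoherent] in
theorem rS_j {V W : X.Opens} (h : W ≤ V) (m : Γ(L, V)) :
    rS 𝒮 h (asR 𝒮.toQCAlg (j.app V m)) = asR 𝒮.toQCAlg (j.app W (res L h m)) := by
  rw [app_res]
  rfl

omit [L.IsQuasicoherent] in
theorem rS_str {V W : X.Opens} (h : W ≤ V) (a : Γ(X, V)) :
    rS 𝒮 h ((𝒮.str.app (op V)).hom a) = (𝒮.str.app (op W)).hom (resO h a) :=
  (str_res 𝒮.toQCAlg h a).symm

omit [L.IsQuasicoherent] in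
theorem rS_elem {V W : X.Opens} (h : W ≤ V) (a : Γ(X, V)) (m : Γ(L, V)) (n : ℕ) :
    rS 𝒮 h ((𝒮.str.app (op V)).hom a * asR 𝒮.toQCAlg (j.app V m) ^ n) =
      (𝒮.str.app (op W)).hom (resO h a) * asR 𝒮.toQCAlg (j.app W (res L h m)) ^ n := by
  unfold rS
  rw [map_mul, map_pow]
  exact congrArg₂ (fun p q => p * q ^ n) (rS_str h a) (rS_j h m)

include hS hg in
/-- K2a: over the basic open `D(b)`, every section of degree `n` is a multiple of `b e^n` -/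
theorem subset_span_of_basicOpen (b : Γ(X, U)) (n : ℕ) :
    ((𝒮.deg (X.basicOpen b) (hU.basicOpen b) n : AddSubgroup _) : Set (𝒮.presheaf.obj (op (X.basicOpen b)))) ⊆
      (Ideal.span {rS 𝒮 (X.basicOpen_le b)
        ((𝒮.str.app (op U)).hom b * asR 𝒮.toQCAlg (j.app U g) ^ n)} : Set _) := by
  intro a ha
  obtain ⟨b', rfl⟩ := exists_eq_str_mul_pow hS (hU.basicOpen b) (hg.res (X.basicOpen_le b)) n a ha
  obtain ⟨c, hc⟩ := (isUnit_ur b).exists_left_inv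
  have hc' : c * resO (X.basicOpen_le b) b = 1 := hc
  rw [rS_elem]
  refine Ideal.mem_span_singleton'.2 ⟨(𝒮.str.app (op (X.basicOpen b))).hom (b' * c), ?_⟩
  rw [← mul_assoc, ← map_mul, mul_assoc b' c, hc', mul_one]

include hS hg in
/-- K2b: if over some affine neighbourhood of `x` every section of degree `n` is a multiple of (the restriction of)
`b e^n`, then `b` does not vanish at `x` -/
theorem mem_basicOpen_of_subset_span (b : Γ(X, U)) (n : ℕ) (x : X) (hxU : x ∈ U)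
    (V' : X.Opens) (hV' : IsAffineOpen V') (hxV' : x ∈ V') (τ' : 𝒮.presheaf.obj (op V'))
    (hτ : ∀ (W : X.Opens) (h1 : W ≤ U) (h2 : W ≤ V'),
      rS 𝒮 h2 τ' = rS 𝒮 h1 ((𝒮.str.app (op U)).hom b * asR 𝒮.toQCAlg (j.app U g) ^ n))
    (hsub : ((𝒮.deg V' hV' n : AddSubgroup _) : Set (𝒮.presheaf.obj (op V'))) ⊆
      (Ideal.span {τ'} : Set _)) : x ∈ X.basicOpen b := by
  obtain ⟨r, hr, hxr⟩ := hV'.exists_basicOpen_le (V := U ⊓ V') ⟨x, ⟨hxU, hxV'⟩⟩ hxV'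
  have h1 : X.basicOpen r ≤ U := hr.trans inf_le_left
  have h2 : X.basicOpen r ≤ V' := X.basicOpen_le r
  have hV'' : IsAffineOpen (X.basicOpen r) := hV'.basicOpen r
  have hg'' := hg.res h1
  obtain ⟨k, m, hm⟩ := (isLocOn_of_isQuasicoherent L hV').surj r (res L h1 g)
  obtain ⟨ev, hev1, hev2⟩ := exists_ev hS hV'' hg''
  -- `j(m)^n` is of degree `n`, hence a multiple of `τ'`
  have hjm : asR 𝒮.toQCAlg (j.app V' m) ^ n ∈ 𝒮.deg V' hV' n := by
    have h := SetLike.pow_mem_graded n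
      (show asR 𝒮.toQCAlg (j.app V' m) ∈ 𝒮.deg V' hV' 1 from hS.2 V' hV' m)
    rw [smul_eq_mul, mul_one] at h
    exact h
  obtain ⟨c, hc⟩ := Ideal.mem_span_singleton'.1 (hsub hjm)
  have hres := congrArg (rS 𝒮 h2) hc
  rw [rS_mul, hτ _ h1 h2, rS_elem, rS_pow, rS_j, ← hm, Scheme.Modules.Hom.app_smul, smul_asR] at hres
  have hev := congrArg ev hres
  rw [map_mul, map_mul, map_pow, map_pow, map_mul, hev1, hev1, hev2, one_pow, mul_one, mul_one] at hev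
  have hu : IsUnit (resO h1 b) := by
    have hur : IsUnit ((resO (X.basicOpen_le r) r ^ k) ^ n) := ((isUnit_ur r).pow k).pow n
    rw [← hev] at hur
    exact isUnit_of_mul_isUnit_right hur
  exact le_basicOpen_of_isUnit_resO b h1 hu hxr

end line

section upart

open Groth.Agent.Lib.Helper28.RelProjBC (AffPair)
open Groth.Agent.Lib.Helper28.RelProjQ (φQ mem_range_emb)
open Groth.Agent.Lib.Helper28.ProjQ (mem_dom_iff)
open Groth.Agent.Lib.Helper28.ProjQRel (D)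
open Groth.Agent.Lib.Helper28.ProjQComp (emb_mem_domQ_iff)

variable {Y X PL : Scheme.{u}} {q : X ⟶ Y} {L : X.Modules} [L.IsQuasicoherent]
  {𝒮 : RelProj.QCGrAlg Y} {𝒮L : RelProj.QCGrAlg X} {j : L ⟶ 𝒮L.toModule} (hj : RelProj.IsGrSymAlg L 𝒮L j)
  (u : RelProj.QGrHom q 𝒮 𝒮L)
  (pL : PL ⟶ X)
  (chartL : ∀ (U : X.Opens) (hU : IsAffineOpen U), (((pL ⁻¹ᵁ U : PL.Opens) : Scheme.{u}) ≅ Proj (𝒮L.deg U hU)))
  (hPL : RelProj.IsRelProj 𝒮L pL chartL)
  (hY : IsAffineOpen (⊤ : Y.Opens))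

omit [L.IsQuasicoherent] in
theorem le_preimage_top (W : X.Opens) : W ≤ q ⁻¹ᵁ (⊤ : Y.Opens) :=
  le_top.trans (Scheme.Hom.preimage_top q).ge

/-- the section `ψ♭(s)` over an open of `X` -/
def tau (s : 𝒮.presheaf.obj (op ⊤)) (W : X.Opens) : 𝒮L.presheaf.obj (op W) :=
  (u.appLE ⊤ W (le_preimage_top W)).hom s

omit [L.IsQuasicoherent] in
theorem rS_tau (s : 𝒮.presheaf.obj (op ⊤)) {V W : X.Opens} (h : W ≤ V) :
    rS 𝒮L h (tau u s V) = tau u s W :=
  congrArg (fun k => k.hom s) (u.toQHom.appLE_map (le_preimage_top V) h)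

/-- the pair `(Y, V)` -/
def pairTop (V : X.Opens) (hV : IsAffineOpen V) : AffPair q := ⟨⊤, hY, V, hV, le_preimage_top V⟩

/-- the nonvanishing condition at a point -/
def NV (n : ℕ) (s : 𝒮.presheaf.obj (op ⊤)) (x : X) : Prop :=
  ∃ (V : X.Opens) (hV : IsAffineOpen V), x ∈ V ∧
    ((𝒮L.deg V hV n : AddSubgroup (𝒮L.presheaf.obj (op V))) : Set (𝒮L.presheaf.obj (op V))) ⊆
      (Ideal.span {tau u s V} : Set (𝒮L.presheaf.obj (op V)))

include hj hPL in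
/-- the pointwise lemma: `D₊(ψ♭(s))` over a trivializing affine open is the nonvanishing locus -/
theorem mem_basicOpen_tau_iff {n : ℕ} (hn : 0 < n) (s : 𝒮.presheaf.obj (op ⊤)) (hs : s ∈ 𝒮.deg ⊤ hY n)
    {V : X.Opens} (hV : IsAffineOpen V) {g : Γ(L, V)} (hg : IsGen L V g) (y : Proj (𝒮L.deg V hV)) :
    y ∈ Proj.basicOpen (𝒮L.deg V hV) (tau u s V) ↔ NV u n s (pL (RelProj.emb pL chartL V hV y)) := by
  have hmem : tau u s V ∈ 𝒮L.deg V hV n := u.map_mem ⊤ hY V hV (le_preimage_top V) hs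
  obtain ⟨b, hb⟩ := exists_eq_str_mul_pow hj hV hg n _ hmem
  have hxV : pL (RelProj.emb pL chartL V hV y) ∈ V := (mem_range_emb pL chartL V hV _).1 ⟨y, rfl⟩
  rw [hb, mem_basicOpen_line_iff hj hV hg pL chartL hPL b hn y]
  constructor
  · intro hx
    refine ⟨X.basicOpen b, hV.basicOpen b, hx, ?_⟩
    have h := subset_span_of_basicOpen hj hV hg b n
    rw [← hb, rS_tau] at h
    exact h
  · rintro ⟨V', hV', hxV', hsub⟩
    refine mem_basicOpen_of_subset_span hj hg b n _ hxV V' hV' hxV' (tau u s V') (fun W h1 h2 => ?_) hsub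
    rw [← hb, rS_tau, rS_tau]

include hj hPL in
/-- **`r_{L,ψ}` is everywhere defined iff the sections `ψ♭(s)` have no common zero** -/
theorem domQ_eq_top_iff (hL : PicF.IsInvertible L) :
    RelProj.domQ u pL chartL = ⊤ ↔
      ∀ x : X, ∃ (n : ℕ) (_ : 0 < n) (s : 𝒮.presheaf.obj (op ⊤)) (_ : s ∈ 𝒮.deg ⊤ hY n), NV u n s x := by
  have hiso : IsIso pL := isIso_proj_symLine hL hj pL chartL hPL
  constructor
  · intro h x
    obtain ⟨z, rfl⟩ := pL.surjective x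
    obtain ⟨V, g, hxV, hV, hg⟩ := exists_isGen_affine L hL (pL z)
    obtain ⟨y, hy⟩ := (mem_range_emb pL chartL V hV z).2 hxV
    have hz : RelProj.emb pL chartL V hV y ∈ RelProj.domQ u pL chartL := by
      rw [h]
      trivial
    have hyD : y ∈ D u (pairTop hY V hV) := (emb_mem_domQ_iff u pL chartL hPL (pairTop hY V hV) y).1 hz
    obtain ⟨d, hd, f, hf, hfy⟩ := (mem_dom_iff _ y).1 hyD
    refine ⟨d, hd, f, hf, ?_⟩
    have h2 := (mem_basicOpen_tau_iff hj u pL chartL hPL hY hd f hf hV hg y).1 hfy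
    rw [hy] at h2
    exact h2
  · intro H
    refine top_le_iff.1 (fun z _ => ?_)
    obtain ⟨n, hn, s, hs, hNV⟩ := H (pL z)
    obtain ⟨V, g, hxV, hV, hg⟩ := exists_isGen_affine L hL (pL z)
    obtain ⟨y, hy⟩ := (mem_range_emb pL chartL V hV z).2 hxV
    have hy' : y ∈ Proj.basicOpen (𝒮L.deg V hV) (tau u s V) :=
      (mem_basicOpen_tau_iff hj u pL chartL hPL hY hn s hs hV hg y).2 (by rw [hy]; exact hNV)
    have hyD : y ∈ D u (pairTop hY V hV) := (mem_dom_iff _ y).2 ⟨n, hn, s, hs, hy'⟩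
    have h2 := (emb_mem_domQ_iff u pL chartL hPL (pairTop hY V hV) y).2 hyD
    have hy2 : RelProj.emb pL chartL V hV y = z := hy
    rw [← hy2]
    exact h2

end upart

end Groth.Agent.Lib.Helper28.RLPsi
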