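import Groth.Agent.Lib.Helper28.RLPsi

set_option autoImplicit false
universe u
open CategoryTheory CategoryTheory.Limits AlgebraicGeometry Opposite TopologicalSpace
noncomputable section

namespace Groth.Agent.Lib.Helper28.RLPsi

open Groth.Agent.Lib.Helper28 Groth.Agent.Lib.Helper28.QCohLoc Groth.Agent.Lib.Helper28.TraceAlg
open Groth.Agent.Lib.Helper28.GenLocus Groth.Agent.Lib.Helper28.SymAlg

open Groth.Agent.Lib.Helper28.RelProjBC (AffPair)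
open Groth.Agent.Lib.Helper28.RelProjQ (φQ mem_range_emb)
open Groth.Agent.Lib.Helper28.ProjQ (mem_dom_iff basicOpen_le_dom vQ preimage_basicOpen)
open Groth.Agent.Lib.Helper28.ProjQRel (D cW cW_apply pieceW glue_of_isProjQMapOn)
open Groth.Agent.Lib.Helper28.ProjQComp (emb_mem_domQ_iff)

section rpart

variable {Y X P PL : Scheme.{u}} {q : X ⟶ Y} {L : X.Modules} [L.IsQuasicoherent]
  {𝒮 : RelProj.QCGrAlg Y} {𝒮L : RelProj.QCGrAlg X} {j : L ⟶ 𝒮L.toModule} (hj : RelProj.IsGrSymAlg L 𝒮L j)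
  (u : RelProj.QGrHom q 𝒮 𝒮L)
  (p : P ⟶ Y) (chart : ∀ (U : Y.Opens) (hU : IsAffineOpen U), (((p ⁻¹ᵁ U : P.Opens) : Scheme.{u}) ≅ Proj (𝒮.deg U hU)))
  (hP : RelProj.IsRelProj 𝒮 p chart)
  (pL : PL ⟶ X)
  (chartL : ∀ (U : X.Opens) (hU : IsAffineOpen U), (((pL ⁻¹ᵁ U : PL.Opens) : Scheme.{u}) ≅ Proj (𝒮L.deg U hU)))
  (hPL : RelProj.IsRelProj 𝒮L pL chartL)
  (r : ((RelProj.domQ u pL chartL : PL.Opens) : Scheme.{u}) ⟶ P)
  (hr : RelProj.IsProjQMapOn u p chart pL chartL (RelProj.domQ u pL chartL) r)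
  (hY : IsAffineOpen (⊤ : Y.Opens))

omit [L.IsQuasicoherent] in
include hr hPL in
/-- the pointwise description of `r⁻¹(D₊(f))` in a chart -/
theorem mem_preimage_iff {d : ℕ} (hd : 0 < d) (f : 𝒮.presheaf.obj (op ⊤)) (hf : f ∈ 𝒮.deg ⊤ hY d)
    {V : X.Opens} (hV : IsAffineOpen V) (y : Proj (𝒮L.deg V hV)) :
    RelProj.emb pL chartL V hV y ∈
        (RelProj.domQ u pL chartL).ι ''ᵁ (r ⁻¹ᵁ ((RelProj.emb p chart ⊤ hY) ''ᵁ Proj.basicOpen (𝒮.deg ⊤ hY) f)) ↔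
      y ∈ Proj.basicOpen (𝒮L.deg V hV) (tau u f V) := by
  have hglue := glue_of_isProjQMapOn u p chart pL chartL r hr (pairTop hY V hV)
  have key : ∀ (hy : y ∈ D u (pairTop hY V hV)),
      r (cW u pL chartL (pairTop hY V hV) ⟨y, hy⟩) =
        RelProj.emb p chart ⊤ hY (vQ (φQ u (pairTop hY V hV)) ⟨y, hy⟩) := by
    intro hy
    have := congrArg (fun k => k ⟨y, hy⟩) hglue
    exact this
  have hpre := SetLike.ext_iff.1 (preimage_basicOpen (φQ u (pairTop hY V hV)) hf)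
  constructor
  · rintro ⟨w, hw, hwz'⟩
    have hwz : (RelProj.domQ u pL chartL).ι w = RelProj.emb pL chartL V hV y := hwz'
    have hz : RelProj.emb pL chartL V hV y ∈ RelProj.domQ u pL chartL := by
      have : (RelProj.domQ u pL chartL).ι w ∈ RelProj.domQ u pL chartL := w.2
      rw [hwz] at this
      exact this
    have hyD : y ∈ D u (pairTop hY V hV) := (emb_mem_domQ_iff u pL chartL hPL (pairTop hY V hV) y).1 hz
    have hw' : cW u pL chartL (pairTop hY V hV) ⟨y, hyD⟩ = w := by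
      apply (RelProj.domQ u pL chartL).ι.isOpenEmbedding.injective
      exact (cW_apply u pL chartL (pairTop hY V hV) ⟨y, hyD⟩).trans hwz.symm
    obtain ⟨y₀, hy₀, hy₀w⟩ := hw
    rw [← hw', key hyD] at hy₀w
    have h1 := (RelProj.emb p chart ⊤ hY).isOpenEmbedding.injective hy₀w
    rw [h1] at hy₀
    exact (hpre ⟨y, hyD⟩).1 hy₀
  · intro hy
    have hyD : y ∈ D u (pairTop hY V hV) := basicOpen_le_dom (φQ u (pairTop hY V hV)) hf hd hy
    refine ⟨cW u pL chartL (pairTop hY V hV) ⟨y, hyD⟩, ?_, cW_apply u pL chartL (pairTop hY V hV) ⟨y, hyD⟩⟩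
    refine ⟨vQ (φQ u (pairTop hY V hV)) ⟨y, hyD⟩, (hpre ⟨y, hyD⟩).2 hy, (key hyD).symm⟩

include hj hPL hr in
/-- **`r⁻¹(D₊(f)) = X_t`, `t = ψ♭(f)`** -/
theorem preimage_basicOpen_eq (hL : PicF.IsInvertible L) {d : ℕ} (hd : 0 < d) (f : 𝒮.presheaf.obj (op ⊤))
    (hf : f ∈ 𝒮.deg ⊤ hY d) :
    (RelProj.domQ u pL chartL).ι ''ᵁ (r ⁻¹ᵁ ((RelProj.emb p chart ⊤ hY) ''ᵁ Proj.basicOpen (𝒮.deg ⊤ hY) f)) =
      pL ⁻¹ᵁ
        (⨆ V : {V : X.affineOpens //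
          ((𝒮L.deg V.1 V.2 d : AddSubgroup (𝒮L.presheaf.obj (op (V.1 : X.Opens)))) : Set (𝒮L.presheaf.obj (op (V.1 : X.Opens)))) ⊆
            (Ideal.span {tau u f (V.1 : X.Opens)} : Set (𝒮L.presheaf.obj (op (V.1 : X.Opens))))},
          (V.1.1 : X.Opens)) := by
  ext z
  obtain ⟨V, g, hxV, hV, hg⟩ := exists_isGen_affine L hL (pL z)
  obtain ⟨y, hy⟩ := (mem_range_emb pL chartL V hV z).2 hxV
  have hy2 : RelProj.emb pL chartL V hV y = z := hy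
  have h1 := mem_preimage_iff u p chart pL chartL hPL r hr hY hd f hf hV y
  have h2 := mem_basicOpen_tau_iff hj u pL chartL hPL hY hd f hf hV hg y
  rw [hy2] at h1 h2
  refine h1.trans (h2.trans ?_)
  constructor
  · rintro ⟨V', hV', hxV', hsub⟩
    exact Opens.mem_iSup.2 ⟨⟨⟨V', hV'⟩, hsub⟩, hxV'⟩
  · intro h
    obtain ⟨⟨⟨V', hV'⟩, hsub⟩, hxV'⟩ := Opens.mem_iSup.1 h
    exact ⟨V', hV', hxV', hsub⟩

end rpart

end Groth.Agent.Lib.Helper28.RLPsi
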