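import Groth.Agent.Lib.Helper28.RLPsiB
import Groth.Agent.Lib.Helper28.GrSect

set_option autoImplicit false
universe u
open CategoryTheory CategoryTheory.Limits AlgebraicGeometry Opposite TopologicalSpace
open HomogeneousLocalization
noncomputable section

namespace Groth.Agent.Lib.Helper28.RLPsi

open Groth.Agent.Lib.Helper28 Groth.Agent.Lib.Helper28.QCohLoc Groth.Agent.Lib.Helper28.TraceAlg
open Groth.Agent.Lib.Helper28.GenLocus Groth.Agent.Lib.Helper28.SymAlg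

open Groth.Agent.Lib.Helper28.RelProjBC (AffPair)
open Groth.Agent.Lib.Helper28.RelProjQ (φQ mem_range_emb)
open Groth.Agent.Lib.Helper28.ProjQ (mem_dom_iff basicOpen_le_dom vQ preimage_basicOpen exists_basicOpen)
open Groth.Agent.Lib.Helper28.ProjQRel (D cW cW_apply pieceW glue_of_isProjQMapOn)
open Groth.Agent.Lib.Helper28.ProjQComp (emb_mem_domQ_iff)

attribute [local instance] algAt

section gr

variable {A : Type u} [CommRing A] (𝒜 : ℕ → AddSubgroup A) [GradedRing 𝒜]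

/-- a homogeneous element of positive degree which is not nilpotent has a nonempty `D₊` -/
theorem exists_mem_basicOpen_of_not_isNilpotent {n : ℕ} (hn : 0 < n) {s : A} (hs : s ∈ 𝒜 n)
    (hns : ¬ IsNilpotent s) : ∃ y : Proj 𝒜, y ∈ Proj.basicOpen 𝒜 s := by
  have hnt : Nontrivial (Away 𝒜 s) := by
    refine ⟨⟨0, 1, fun h01 => hns ?_⟩⟩
    have h1 : (0 : Away 𝒜 s).val = (1 : Away 𝒜 s).val := congrArg _ h01
    rw [val_zero, val_one] at h1
    have h2 : (Localization.mk (1 : A) (1 : Submonoid.powers s)) = 0 := by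
      rw [Localization.mk_one]
      exact h1.symm
    rw [Localization.mk_eq_mk', IsLocalization.mk'_eq_zero_iff] at h2
    obtain ⟨⟨_, k, rfl⟩, hk⟩ := h2
    exact ⟨k, by simpa using hk⟩
  obtain ⟨w⟩ : Nonempty (PrimeSpectrum (Away 𝒜 s)) := inferInstance
  refine ⟨Proj.awayι 𝒜 s hs hn w, ?_⟩
  rw [← Proj.opensRange_awayι 𝒜 s hs hn]
  exact ⟨w, rfl⟩

/-- homogeneous basic opens of positive degree form a basis -/
theorem exists_pos_basicOpen_le (V : (Proj 𝒜).Opens) (y : Proj 𝒜) (hy : y ∈ V) :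
    ∃ (d : ℕ) (f : A), 0 < d ∧ f ∈ 𝒜 d ∧ y ∈ Proj.basicOpen 𝒜 f ∧ Proj.basicOpen 𝒜 f ≤ V := by
  obtain ⟨k, g₀, hg₀, hg₀y, hg₀V⟩ := GrSect.exists_homogeneous_basicOpen 𝒜 V y hy
  obtain ⟨d', f', hd', hf', hyf'⟩ := exists_basicOpen y
  refine ⟨k + d', g₀ * f', by omega, SetLike.mul_mem_graded hg₀ hf', ?_, ?_⟩
  · intro h
    rcases (y.isPrime.mem_or_mem h) with h1 | h1
    · exact hg₀y h1
    · exact hyf' h1
  · intro y' hy'
    refine hg₀V y' (fun h => hy' ?_)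
    exact Ideal.mul_mem_right _ _ h

end gr

section nilline

variable {X : Scheme.{u}} {L : X.Modules} [L.IsQuasicoherent]
    {𝒮 : RelProj.QCGrAlg X} {j : L ⟶ 𝒮.toModule} (hS : RelProj.IsGrSymAlg L 𝒮 j)
    {U : X.Opens} (hU : IsAffineOpen U) {g : Γ(L, U)} (hg : IsGen L U g)

include hS hU hg in
theorem isNilpotent_coef (b : Γ(X, U)) (n : ℕ)
    (h : IsNilpotent ((𝒮.str.app (op U)).hom b * asR 𝒮.toQCAlg (j.app U g) ^ n)) : IsNilpotent b := by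
  obtain ⟨ev, hev1, hev2⟩ := exists_ev hS hU hg
  have h2 := h.map ev
  rw [map_mul, map_pow, hev1, hev2, one_pow, mul_one] at h2
  exact h2

end nilline

section nilp

variable {Y X P PL : Scheme.{u}} {q : X ⟶ Y} {L : X.Modules} [L.IsQuasicoherent]
  {𝒮 : RelProj.QCGrAlg Y} {𝒮L : RelProj.QCGrAlg X} {j : L ⟶ 𝒮L.toModule} (hj : RelProj.IsGrSymAlg L 𝒮L j)
  (u : RelProj.QGrHom q 𝒮 𝒮L)
  (p : P ⟶ Y) (chart : ∀ (U : Y.Opens) (hU : IsAffineOpen U), (((p ⁻¹ᵁ U : P.Opens) : Scheme.{u}) ≅ Proj (𝒮.deg U hU)))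
  (hP : RelProj.IsRelProj 𝒮 p chart)
  (pL : PL ⟶ X)
  (chartL : ∀ (U : X.Opens) (hU : IsAffineOpen U), (((pL ⁻¹ᵁ U : PL.Opens) : Scheme.{u}) ≅ Proj (𝒮L.deg U hU)))
  (hPL : RelProj.IsRelProj 𝒮L pL chartL)
  (r : ((RelProj.domQ u pL chartL : PL.Opens) : Scheme.{u}) ⟶ P)
  (hr : RelProj.IsProjQMapOn u p chart pL chartL (RelProj.domQ u pL chartL) r)
  (hY : IsAffineOpen (⊤ : Y.Opens))

/-- `ψ♭(s)` is locally nilpotent -/
def LocNil (s : 𝒮.presheaf.obj (op ⊤)) : Prop :=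
  ∀ x : X, ∃ (V : X.Opens) (_ : IsAffineOpen V), x ∈ V ∧ IsNilpotent (tau u s V)

include hj in
theorem not_NV_of_locNil (hL : PicF.IsInvertible L) {n : ℕ} (s : 𝒮.presheaf.obj (op ⊤)) (hs : s ∈ 𝒮.deg ⊤ hY n)
    (hnil : LocNil u s) (x : X) : ¬ NV u n s x := by
  rintro ⟨V', hV', hxV', hsub⟩
  obtain ⟨V₁, hV₁, hxV₁, hnil₁⟩ := hnil x
  obtain ⟨V, g, hxV, hV, hg⟩ := exists_isGen_affine L hL x
  have hmem : tau u s V ∈ 𝒮L.deg V hV n := u.map_mem ⊤ hY V hV (le_preimage_top V) hs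
  obtain ⟨b, hb⟩ := exists_eq_str_mul_pow hj hV hg n _ hmem
  have hxb : x ∈ X.basicOpen b :=
    mem_basicOpen_of_subset_span hj hg b n x hxV V' hV' hxV' (tau u s V')
      (fun W h1 h2 => by rw [← hb, rS_tau, rS_tau]) hsub
  obtain ⟨_, ⟨W, hW, rfl⟩, hxW, hWle⟩ := X.isBasis_affineOpens.exists_subset_of_mem_open
    (show x ∈ ((V ⊓ V₁ : X.Opens) : Set X) from ⟨hxV, hxV₁⟩) (V ⊓ V₁).isOpen
  have h1 : W ≤ V := fun a ha => (hWle ha).1
  have h2 : W ≤ V₁ := fun a ha => (hWle ha).2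
  have hnilW : IsNilpotent (tau u s W) := by
    rw [← rS_tau u s h2]
    exact hnil₁.map _
  have hW2 : tau u s W = (𝒮L.str.app (op W)).hom (resO h1 b) * asR 𝒮L.toQCAlg (j.app W (res L h1 g)) ^ n := by
    rw [← rS_tau u s h1, hb, rS_elem]
  rw [hW2] at hnilW
  have hbn : IsNilpotent (resO h1 b) := isNilpotent_coef hj hW (hg.res h1) _ n hnilW
  have hbot : X.basicOpen (resO h1 b) = ⊥ := X.basicOpen_eq_bot_of_isNilpotent W _ hbn
  have hmem2 : x ∈ X.basicOpen (resO h1 b) := by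
    have e : X.basicOpen (resO h1 b) = W ⊓ X.basicOpen b := Scheme.basicOpen_res _ _ _
    rw [e]
    exact ⟨hxW, hxb⟩
  rw [hbot] at hmem2
  exact hmem2

include hj in
theorem locNil_of_forall_not_NV (hL : PicF.IsInvertible L) {n : ℕ} (s : 𝒮.presheaf.obj (op ⊤))
    (hs : s ∈ 𝒮.deg ⊤ hY n) (h : ∀ x, ¬ NV u n s x) : LocNil u s := by
  intro x
  obtain ⟨V, g, hxV, hV, hg⟩ := exists_isGen_affine L hL x
  refine ⟨V, hV, hxV, ?_⟩
  have hmem : tau u s V ∈ 𝒮L.deg V hV n := u.map_mem ⊤ hY V hV (le_preimage_top V) hs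
  obtain ⟨b, hb⟩ := exists_eq_str_mul_pow hj hV hg n _ hmem
  rw [hb]
  refine (Commute.all _ _).isNilpotent_mul_right ?_
  refine IsNilpotent.map ?_ _
  rw [Scheme.isNilpotent_iff_basicOpen_eq_bot_of_isCompact hV.isCompact]
  refine eq_bot_iff.2 (fun x' hx' => ?_)
  exfalso
  apply h x'
  refine ⟨X.basicOpen b, hV.basicOpen b, hx', ?_⟩
  have h3 := subset_span_of_basicOpen hj hV hg b n
  rw [← hb, rS_tau] at h3
  exact h3

include hj hPL hr in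
/-- **`r_{L,ψ}` is dominant iff locally nilpotent images force nilpotency** -/
theorem isDominant_iff (hL : PicF.IsInvertible L) :
    IsDominant r ↔
      ∀ (n : ℕ), 0 < n → ∀ s ∈ 𝒮.deg ⊤ hY n, LocNil u s → IsNilpotent s := by
  have hiso : IsIso pL := isIso_proj_symLine hL hj pL chartL hPL
  constructor
  · intro hdom n hn s hs hnil
    by_contra hns
    obtain ⟨y₀, hy₀⟩ := exists_mem_basicOpen_of_not_isNilpotent (𝒮.deg ⊤ hY) hn hs hns
    obtain ⟨w, hw⟩ := hdom.denseRange.exists_mem_open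
      ((RelProj.emb p chart ⊤ hY) ''ᵁ Proj.basicOpen (𝒮.deg ⊤ hY) s).isOpen
      ⟨RelProj.emb p chart ⊤ hY y₀, ⟨y₀, hy₀, rfl⟩⟩
    have heq := preimage_basicOpen_eq hj u p chart pL chartL hPL r hr hY hL hn s hs
    have hz : (RelProj.domQ u pL chartL).ι w ∈ (RelProj.domQ u pL chartL).ι ''ᵁ
        (r ⁻¹ᵁ ((RelProj.emb p chart ⊤ hY) ''ᵁ Proj.basicOpen (𝒮.deg ⊤ hY) s)) := ⟨w, hw, rfl⟩
    rw [heq] at hz
    obtain ⟨⟨⟨V', hV'⟩, hsub⟩, hxV'⟩ := Opens.mem_iSup.1 hz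
    exact not_NV_of_locNil hj u hY hL s hs hnil _ ⟨V', hV', hxV', hsub⟩
  · intro H
    refine ⟨?_⟩
    show Dense (Set.range r)
    rw [dense_iff_inter_open]
    rintro O hO ⟨p₀, hp₀⟩
    obtain ⟨y₀, hy₀⟩ := (mem_range_emb p chart ⊤ hY p₀).2 trivial
    have hy₀' : RelProj.emb p chart ⊤ hY y₀ = p₀ := hy₀
    obtain ⟨d, f, hd, hf, hy₀f, hfle⟩ := exists_pos_basicOpen_le (𝒮.deg ⊤ hY)
      ((RelProj.emb p chart ⊤ hY) ⁻¹ᵁ ⟨O, hO⟩) y₀ (by
        show RelProj.emb p chart ⊤ hY y₀ ∈ O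
        rw [hy₀']
        exact hp₀)
    have hfn : ¬ IsNilpotent f := by
      rintro ⟨m, hm⟩
      apply hy₀f
      refine y₀.isPrime.mem_of_pow_mem m ?_
      rw [hm]
      exact Ideal.zero_mem _
    have hnl : ¬ LocNil u f := fun hl => hfn (H d hd f hf hl)
    have hex : ∃ x, NV u d f x := by
      by_contra hcon
      push Not at hcon
      exact hnl (locNil_of_forall_not_NV hj u hY hL f hf hcon)
    obtain ⟨x, V', hV', hxV', hsub⟩ := hex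
    obtain ⟨z, rfl⟩ := pL.surjective x
    have heq := preimage_basicOpen_eq hj u p chart pL chartL hPL r hr hY hL hd f hf
    have hz : z ∈ pL ⁻¹ᵁ
        (⨆ V : {V : X.affineOpens //
          ((𝒮L.deg V.1 V.2 d : AddSubgroup (𝒮L.presheaf.obj (op (V.1 : X.Opens)))) : Set (𝒮L.presheaf.obj (op (V.1 : X.Opens)))) ⊆
            (Ideal.span {tau u f (V.1 : X.Opens)} : Set (𝒮L.presheaf.obj (op (V.1 : X.Opens))))},
          (V.1.1 : X.Opens)) := Opens.mem_iSup.2 ⟨⟨⟨V', hV'⟩, hsub⟩, hxV'⟩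
    rw [← heq] at hz
    obtain ⟨w, ⟨y₁, hy₁, hy₁w⟩, -⟩ := hz
    refine ⟨r w, ?_, ⟨w, rfl⟩⟩
    have h3 : y₁ ∈ (RelProj.emb p chart ⊤ hY) ⁻¹ᵁ ⟨O, hO⟩ := hfle hy₁
    have h4 : RelProj.emb p chart ⊤ hY y₁ ∈ O := h3
    have h5 : RelProj.emb p chart ⊤ hY y₁ = r w := hy₁w
    rw [← h5]
    exact h4

end nilp

end Groth.Agent.Lib.Helper28.RLPsi
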