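import Groth.Agent.Lib.Helper28.RLPsiC

set_option autoImplicit false
universe u
open CategoryTheory CategoryTheory.Limits AlgebraicGeometry Opposite TopologicalSpace
noncomputable section

namespace Groth.Agent.Lib.Helper28.RLPsi

open Groth.Agent.Lib.Helper28
open Groth.Agent.Lib.Helper28.RelProjBC (AffPair)
open Groth.Agent.Lib.Helper28.RelProjQ (φQ mem_range_emb)
open Groth.Agent.Lib.Helper28.ProjQ (mem_dom_iff)
open Groth.Agent.Lib.Helper28.ProjQRel (D emb_mem_domQ exists_of_mem_domQ)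
open Groth.Agent.Lib.Helper28.ProjQComp (emb_mem_domQ_iff domQ_comp_le)

section colim

variable {Y X PL : Scheme.{u}} {q : X ⟶ Y}
  {𝒮 : RelProj.QCGrAlg Y} {𝒮L : RelProj.QCGrAlg X}
  (u : RelProj.QGrHom q 𝒮 𝒮L)
  (pL : PL ⟶ X)
  (chartL : ∀ (U : X.Opens) (hU : IsAffineOpen U), (((pL ⁻¹ᵁ U : PL.Opens) : Scheme.{u}) ≅ Proj (𝒮L.deg U hU)))
  {Λ : Type u} [Preorder Λ]
  (𝒮i : Λ → RelProj.QCGrAlg Y) (φ : ∀ i, (𝒮i i).toQCAlg ⟶ 𝒮.toQCAlg) (hφ : ∀ i, RelProj.IsGradedHom (φ i))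
  (t : ∀ i j, i ≤ j → ((𝒮i i).toQCAlg ⟶ (𝒮i j).toQCAlg)) (ht : ∀ i j (h : i ≤ j), RelProj.IsGradedHom (t i j h))
  (hφt : ∀ i j (h : i ≤ j), t i j h ≫ φ j = φ i)
  (hsurj : ∀ (U : Y.Opens), IsAffineOpen U → ∀ x : 𝒮.presheaf.obj (op U),
    ∃ (i : Λ) (y : (𝒮i i).presheaf.obj (op U)), ((φ i).hom.app (op U)).hom y = x)
  (ui : ∀ i, RelProj.QGrHom q (𝒮i i) 𝒮L) (hui : ∀ i (U : Y.Opens), (ui i).app U = (φ i).hom.app (op U) ≫ u.app U)

include hφt hui in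
theorem hui_t (i j : Λ) (h : i ≤ j) (U : Y.Opens) :
    (ui i).app U = (t i j h).hom.app (op U) ≫ (ui j).app U := by
  rw [hui i, hui j, ← Category.assoc]
  have e : (φ i).hom.app (op U) = (t i j h).hom.app (op U) ≫ (φ j).hom.app (op U) := by
    rw [← hφt i j h]
    rfl
  rw [e]

include hφ hsurj in
theorem exists_homog_lift (U : Y.Opens) (hU : IsAffineOpen U) {d : ℕ} (f : 𝒮.presheaf.obj (op U))
    (hf : f ∈ 𝒮.deg U hU d) :
    ∃ (i : Λ) (y : (𝒮i i).presheaf.obj (op U)), y ∈ (𝒮i i).deg U hU d ∧ ((φ i).hom.app (op U)).hom y = f := by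
  classical
  obtain ⟨i, y, hy⟩ := hsurj U hU f
  refine ⟨i, DirectSum.decompose ((𝒮i i).deg U hU) y d, SetLike.coe_mem _, ?_⟩
  have h1 := (RelProj.gradedHomAt (φ i) (hφ i) U hU).map_directSumDecompose (x := y) (i := d)
  have h2 : (RelProj.gradedHomAt (φ i) (hφ i) U hU) y = f := hy
  rw [h2, DirectSum.decompose_of_mem_same _ hf] at h1
  exact h1

include hφ hsurj hui in
theorem mem_domQ_ui (z : PL) (hz : z ∈ RelProj.domQ u pL chartL) : ∃ i, z ∈ RelProj.domQ (ui i) pL chartL := by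
  obtain ⟨t', x, hx, rfl⟩ := exists_of_mem_domQ u pL chartL z hz
  obtain ⟨d, hd, f, hf, hfx⟩ := (mem_dom_iff _ x).1 hx
  obtain ⟨i, y, hy, rfl⟩ := exists_homog_lift 𝒮i φ hφ hsurj t'.U t'.hU f hf
  refine ⟨i, emb_mem_domQ (ui i) pL chartL t' x ((mem_dom_iff _ x).2 ⟨d, hd, y, hy, ?_⟩)⟩
  have e : φQ (ui i) t' y = φQ u t' (((φ i).hom.app (op t'.U)).hom y) := by
    change (𝒮L.presheaf.map (homOfLE t'.hle).op).hom (((ui i).app t'.U).hom y) =
      (𝒮L.presheaf.map (homOfLE t'.hle).op).hom ((u.app t'.U).hom (((φ i).hom.app (op t'.U)).hom y))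
    rw [hui]
    rfl
  rw [e]
  exact hfx

variable [IsDirected Λ (· ≤ ·)] [Nonempty Λ]

include hφ ht hφt hsurj hui in
/-- **`r_{L,ψ}` is everywhere defined iff some `r_{L,ψ_i}` is** -/
theorem domQ_colim [CompactSpace PL] :
    (RelProj.domQ u pL chartL = ⊤ ↔ ∃ i, RelProj.domQ (ui i) pL chartL = ⊤) ∧
      ∀ i, RelProj.domQ (ui i) pL chartL = ⊤ → ∀ j, i ≤ j → RelProj.domQ (ui j) pL chartL = ⊤ := by
  have hmono : ∀ i j, i ≤ j → RelProj.domQ (ui i) pL chartL ≤ RelProj.domQ (ui j) pL chartL := fun i j h =>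
    domQ_comp_le (ui j) (t i j h) (ht i j h) (ui i) (hui_t u 𝒮i φ t hφt ui hui i j h) pL chartL
  have hle : ∀ i, RelProj.domQ (ui i) pL chartL ≤ RelProj.domQ u pL chartL := fun i =>
    domQ_comp_le u (φ i) (hφ i) (ui i) (hui i) pL chartL
  refine ⟨⟨fun h => ?_, fun ⟨i, hi⟩ => top_le_iff.1 (hi ▸ hle i)⟩, fun i hi j hij => top_le_iff.1 (hi ▸ hmono i j hij)⟩
  obtain ⟨i, hi⟩ := isCompact_univ.elim_directed_cover (fun i => ((RelProj.domQ (ui i) pL chartL : PL.Opens) : Set PL))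
    (fun i => (RelProj.domQ (ui i) pL chartL).isOpen)
    (fun z _ => by
      obtain ⟨i, hi⟩ := mem_domQ_ui u pL chartL 𝒮i φ hφ hsurj ui hui z (by rw [h]; trivial)
      exact Set.mem_iUnion.2 ⟨i, hi⟩)
    (fun i j => by
      obtain ⟨k, hik, hjk⟩ := directed_of (· ≤ ·) i j
      exact ⟨k, hmono i k hik, hmono j k hjk⟩)
  exact ⟨i, top_le_iff.1 fun z _ => hi (Set.mem_univ z)⟩

end colim

end Groth.Agent.Lib.Helper28.RLPsi
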