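import Groth.Agent.Lib.Helper28.RLPsiE

set_option autoImplicit false
universe u
open CategoryTheory CategoryTheory.Limits AlgebraicGeometry Opposite TopologicalSpace
noncomputable section

namespace Groth.Agent.Lib.Helper28.RLPsi

open Groth.Agent.Lib.Helper28

section colimdom

variable {Y X P PL : Scheme.{u}} {q : X ⟶ Y} {L : X.Modules} [L.IsQuasicoherent]
  {𝒮 : RelProj.QCGrAlg Y} {𝒮L : RelProj.QCGrAlg X} {j : L ⟶ 𝒮L.toModule} (hj : RelProj.IsGrSymAlg L 𝒮L j)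
  (u : RelProj.QGrHom q 𝒮 𝒮L)
  (p : P ⟶ Y) (chart : ∀ (U : Y.Opens) (hU : IsAffineOpen U), (((p ⁻¹ᵁ U : P.Opens) : Scheme.{u}) ≅ Proj (𝒮.deg U hU)))
  (hP : RelProj.IsRelProj 𝒮 p chart)
  (pL : PL ⟶ X)
  (chartL : ∀ (U : X.Opens) (hU : IsAffineOpen U), (((pL ⁻¹ᵁ U : PL.Opens) : Scheme.{u}) ≅ Proj (𝒮L.deg U hU)))
  (hPL : RelProj.IsRelProj 𝒮L pL chartL)
  (r : ((RelProj.domQ u pL chartL : PL.Opens) : Scheme.{u}) ⟶ P)
  (hr : RelProj.IsProjQMapOn u p chart pL chartL (RelProj.domQ u pL chartL) r)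
  {Λ : Type u} [Preorder Λ]
  (𝒮i : Λ → RelProj.QCGrAlg Y) (φ : ∀ i, (𝒮i i).toQCAlg ⟶ 𝒮.toQCAlg) (hφ : ∀ i, RelProj.IsGradedHom (φ i))
  (hsurj : ∀ (U : Y.Opens), IsAffineOpen U → ∀ x : 𝒮.presheaf.obj (op U),
    ∃ (i : Λ) (y : (𝒮i i).presheaf.obj (op U)), ((φ i).hom.app (op U)).hom y = x)
  (ui : ∀ i, RelProj.QGrHom q (𝒮i i) 𝒮L) (hui : ∀ i (U : Y.Opens), (ui i).app U = (φ i).hom.app (op U) ≫ u.app U)
  (Pi : Λ → Scheme.{u}) (pi : ∀ i, Pi i ⟶ Y)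
  (charti : ∀ i (U : Y.Opens) (hU : IsAffineOpen U), ((((pi i) ⁻¹ᵁ U : (Pi i).Opens) : Scheme.{u}) ≅ Proj ((𝒮i i).deg U hU)))
  (hPi : ∀ i, RelProj.IsRelProj (𝒮i i) (pi i) (charti i))
  (ri : ∀ i, ((RelProj.domQ (ui i) pL chartL : PL.Opens) : Scheme.{u}) ⟶ Pi i)
  (hri : ∀ i, RelProj.IsProjQMapOn (ui i) (pi i) (charti i) pL chartL (RelProj.domQ (ui i) pL chartL) (ri i))

omit [L.IsQuasicoherent] in
include hui in
theorem appLE_ui (i : Λ) (U : Y.Opens) (V : X.Opens) (hVU : V ≤ q ⁻¹ᵁ U) (y : (𝒮i i).presheaf.obj (op U)) :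
    ((ui i).appLE U V hVU).hom y = (u.appLE U V hVU).hom (((φ i).hom.app (op U)).hom y) := by
  change (𝒮L.presheaf.map (homOfLE hVU).op).hom (((ui i).app U).hom y) =
    (𝒮L.presheaf.map (homOfLE hVU).op).hom ((u.app U).hom (((φ i).hom.app (op U)).hom y))
  rw [hui]
  rfl

omit [L.IsQuasicoherent] in
include hui in
theorem locNilU_ui_iff (i : Λ) (U : Y.Opens) (y : (𝒮i i).presheaf.obj (op U)) :
    LocNilU (ui i) U y ↔ LocNilU u U (((φ i).hom.app (op U)).hom y) := by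
  unfold LocNilU
  simp only [appLE_ui u 𝒮i φ ui hui]

include hj hP hPL hr hφ hsurj hui hPi hri in
/-- **dominance of `r_{L,ψ}` and of the `r_{L,ψ_i}`** -/
theorem dominant_colim (hL : PicF.IsInvertible L) :
    ((∀ i, IsDominant (ri i)) → IsDominant r) ∧
      ((∀ i (U : Y.Opens), IsAffineOpen U → Function.Injective ((φ i).hom.app (op U)).hom) →
        IsDominant r → ∀ i, IsDominant (ri i)) := by
  constructor
  · intro hdi
    rw [isDominant_iffU hj u p chart hP pL chartL hPL r hr hL]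
    intro U hU n hn s hs hnil
    obtain ⟨i, y, hy, rfl⟩ := exists_homog_lift 𝒮i φ hφ hsurj U hU s hs
    have h1 := (isDominant_iffU hj (ui i) (pi i) (charti i) (hPi i) pL chartL hPL (ri i) (hri i) hL).1 (hdi i)
      U hU n hn y hy ((locNilU_ui_iff u 𝒮i φ ui hui i U y).2 hnil)
    exact h1.map _
  · intro hinj hdom i
    rw [isDominant_iffU hj (ui i) (pi i) (charti i) (hPi i) pL chartL hPL (ri i) (hri i) hL]
    intro U hU n hn y hy hnil
    have h1 := (isDominant_iffU hj u p chart hP pL chartL hPL r hr hL).1 hdom U hU n hn _ (hφ i U hU n y hy)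
      ((locNilU_ui_iff u 𝒮i φ ui hui i U y).1 hnil)
    obtain ⟨m, hm⟩ := h1
    refine ⟨m, hinj i U hU ?_⟩
    rw [map_pow, hm, map_zero]

end colimdom

end Groth.Agent.Lib.Helper28.RLPsi
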