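import Groth.Agent.Lib.Helper28.RLPsiC

set_option autoImplicit false
universe u
open CategoryTheory CategoryTheory.Limits AlgebraicGeometry Opposite TopologicalSpace
noncomputable section

namespace Groth.Agent.Lib.Helper28.RLPsi

open Groth.Agent.Lib.Helper28
open Groth.Agent.Lib.Helper28.RelProjQ (mem_range_emb)

section qc

variable {Y X P PL : Scheme.{u}} {q : X ⟶ Y} {L : X.Modules} [L.IsQuasicoherent]
  {𝒮 : RelProj.QCGrAlg Y} {𝒮L : RelProj.QCGrAlg X} {j : L ⟶ 𝒮L.toModule} (hj : RelProj.IsGrSymAlg L 𝒮L j)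
  (u : RelProj.QGrHom q 𝒮 𝒮L)
  (p : P ⟶ Y) (chart : ∀ (U : Y.Opens) (hU : IsAffineOpen U), (((p ⁻¹ᵁ U : P.Opens) : Scheme.{u}) ≅ Proj (𝒮.deg U hU)))
  (hP : RelProj.IsRelProj 𝒮 p chart)
  (pL : PL ⟶ X)
  (chartL : ∀ (U : X.Opens) (hU : IsAffineOpen U), (((pL ⁻¹ᵁ U : PL.Opens) : Scheme.{u}) ≅ Proj (𝒮L.deg U hU)))
  (hPL : RelProj.IsRelProj 𝒮L pL chartL)
  (r : ((RelProj.domQ u pL chartL : PL.Opens) : Scheme.{u}) ⟶ P)
  (hr : RelProj.IsProjQMapOn u p chart pL chartL (RelProj.domQ u pL chartL) r)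
  (hY : IsAffineOpen (⊤ : Y.Opens))

omit [L.IsQuasicoherent] in
/-- on a quasi-compact scheme, a locally nilpotent section is nilpotent -/
theorem isNilpotent_of_locNil [CompactSpace X] (s : 𝒮.presheaf.obj (op ⊤)) (h : LocNil u s) :
    IsNilpotent ((u.app ⊤).hom s) := by
  choose V hV hxV hnil using h
  choose N hN using hnil
  obtain ⟨T, hT⟩ := CompactSpace.elim_nhds_subcover (fun x => ((V x : X.Opens) : Set X))
    (fun x => (V x).isOpen.mem_nhds (hxV x))
  refine ⟨T.sup N, ?_⟩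
  let F : TopCat.Sheaf CommRingCat X.carrier := ⟨𝒮L.presheaf, 𝒮L.isSheaf⟩
  refine TopCat.Sheaf.eq_of_locally_eq' F (fun x : T => V x.1) (q ⁻¹ᵁ ⊤)
    (fun x => homOfLE (le_preimage_top (V x.1))) ?_ _ _ (fun x => ?_)
  · intro a _
    have ha : a ∈ ⋃ x ∈ T, ((V x : X.Opens) : Set X) := by rw [hT]; trivial
    simp only [Set.mem_iUnion] at ha
    obtain ⟨x, hxT, hax⟩ := ha
    exact Opens.mem_iSup.2 ⟨⟨x, hxT⟩, hax⟩
  · show (𝒮L.presheaf.map (homOfLE (le_preimage_top (V x.1))).op).hom (((u.app ⊤).hom s) ^ T.sup N) =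
      (𝒮L.presheaf.map (homOfLE (le_preimage_top (V x.1))).op).hom 0
    rw [map_pow, map_zero]
    have h1 : (𝒮L.presheaf.map (homOfLE (le_preimage_top (V x.1))).op).hom ((u.app ⊤).hom s) = tau u s (V x.1) := rfl
    rw [h1]
    exact pow_eq_zero_of_le (Finset.le_sup x.2) (hN x.1)

include hj hPL hr hY in
/-- **`r` is quasi-compact with dense image when `Γ(Y, 𝒜) = ⊕ Γ(X, L^d)`** -/
theorem quasiCompact_dominant [CompactSpace X] (hL : PicF.IsInvertible L)
    (hu : Function.Bijective (u.app ⊤).hom) (htop : RelProj.domQ u pL chartL = ⊤) :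
    QuasiCompact r ∧ IsDominant r := by
  have hiso : IsIso pL := SymAlg.isIso_proj_symLine hL hj pL chartL hPL
  constructor
  · have hι : IsIso (RelProj.domQ u pL chartL).ι := by
      rw [htop]
      exact (Scheme.topIso PL).isIso_hom
    have hc : CompactSpace ((RelProj.domQ u pL chartL : PL.Opens) : Scheme.{u}) :=
      QuasiCompact.compactSpace_of_compactSpace ((RelProj.domQ u pL chartL).ι ≫ pL)
    have he : IsIso (RelProj.emb p chart ⊤ hY) := by
      apply isIso_of_isOpenImmersion_of_opensRange_eq_top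
      rw [RelProjBC.opensRange_emb]
      rfl
    have hqs : QuasiSeparatedSpace P :=
      quasiSeparatedSpace_of_quasiSeparated (inv (RelProj.emb p chart ⊤ hY))
    infer_instance
  · rw [isDominant_iff hj u p chart pL chartL hPL r hr hY hL]
    intro n hn s hs hnil
    obtain ⟨m, hm⟩ := isNilpotent_of_locNil u s hnil
    refine ⟨m, hu.1 ?_⟩
    rw [map_pow, hm, map_zero]

end qc

end Groth.Agent.Lib.Helper28.RLPsi
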