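import Groth.Agent.Lib.Helper28.RLPsiH

set_option autoImplicit false
universe u
open CategoryTheory CategoryTheory.Limits AlgebraicGeometry Opposite TopologicalSpace
open HomogeneousLocalization
noncomputable section

namespace Groth.Agent.Lib.Helper28.RLPsi

open Groth.Agent.Lib.Helper28
open Groth.Agent.Lib.Helper28.RelProjBC (AffPair)
open Groth.Agent.Lib.Helper28.RelProjQ (φQ mem_range_emb)
open Groth.Agent.Lib.Helper28.ProjQ (exists_basicOpen)

theorem isPullback_cancel_mono {C : Type*} [Category C] {W X Y Z Z' : C} {fst : W ⟶ X} {snd : W ⟶ Y}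
    {f : X ⟶ Z} {g : Y ⟶ Z} (i : Z ⟶ Z') [Mono i] (h : IsPullback fst snd (f ≫ i) (g ≫ i)) :
    IsPullback fst snd f g := by
  have hw : fst ≫ f = snd ≫ g := by
    rw [← cancel_mono i, Category.assoc, Category.assoc]
    exact h.w
  refine ⟨⟨hw⟩, ⟨PullbackCone.IsLimit.mk _
    (fun s => h.lift s.fst s.snd (by rw [reassoc_of% s.condition]))
    (fun s => h.lift_fst _ _ _) (fun s => h.lift_snd _ _ _)
    (fun s m h1 h2 => h.hom_ext (by rw [h.lift_fst]; exact h1) (by rw [h.lift_snd]; exact h2))⟩⟩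

section main

variable {Y X P PL : Scheme.{u}} {q : X ⟶ Y} {L : X.Modules} [L.IsQuasicoherent]
  {𝒮 : RelProj.QCGrAlg Y} {𝒮L : RelProj.QCGrAlg X} {j : L ⟶ 𝒮L.toModule} (hj : RelProj.IsGrSymAlg L 𝒮L j)
  (u : RelProj.QGrHom q 𝒮 𝒮L)
  (p : P ⟶ Y) (chart : ∀ (U : Y.Opens) (hU : IsAffineOpen U), (((p ⁻¹ᵁ U : P.Opens) : Scheme.{u}) ≅ Proj (𝒮.deg U hU)))
  (pL : PL ⟶ X)
  (chartL : ∀ (U : X.Opens) (hU : IsAffineOpen U), (((pL ⁻¹ᵁ U : PL.Opens) : Scheme.{u}) ≅ Proj (𝒮L.deg U hU)))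
  (hPL : RelProj.IsRelProj 𝒮L pL chartL)
  (r : ((RelProj.domQ u pL chartL : PL.Opens) : Scheme.{u}) ⟶ P)
  (hr : RelProj.IsProjQMapOn u p chart pL chartL (RelProj.domQ u pL chartL) r)
  (hY : IsAffineOpen (⊤ : Y.Opens))

include hj hPL hr in
/-- `X_t` is affine as soon as `r⁻¹(D₊(s))` is -/
theorem isAffineOpen_XTs (hL : PicF.IsInvertible L) {n : ℕ} (hn : 0 < n) (s : 𝒮.presheaf.obj (op ⊤))
    (hs : s ∈ 𝒮.deg ⊤ hY n) (h : IsAffineOpen (r ⁻¹ᵁ WP p chart hY s)) : IsAffineOpen (XTs u n s) := by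
  have hiso : IsIso pL := SymAlg.isIso_proj_symLine hL hj pL chartL hPL
  have h1 := h.image_of_isOpenImmersion ((RelProj.domQ u pL chartL).ι ≫ pL)
  rw [Scheme.Hom.comp_image, image_preimage_WP hj u p chart pL chartL hPL r hr hY hn s hs hL,
    Scheme.Hom.image_preimage_eq_opensRange_inf] at h1
  have h2 : pL.opensRange = ⊤ := top_le_iff.1 fun x _ => pL.surjective x
  rw [h2, top_inf_eq] at h1
  exact h1

include hj hPL hr in
/-- the loci `X_{t_a}` cover `X` if the `r⁻¹(D₊(s_a))` cover the source -/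
theorem iSup_XTs_eq_top (hL : PicF.IsInvertible L) (htop : RelProj.domQ u pL chartL = ⊤)
    {ι : Type*} (n : ι → ℕ) (s : ι → 𝒮.presheaf.obj (op ⊤)) (hns : ∀ a, 0 < n a ∧ s a ∈ 𝒮.deg ⊤ hY (n a))
    (h : ∀ w : ((RelProj.domQ u pL chartL : PL.Opens) : Scheme.{u}), ∃ a, r w ∈ WP p chart hY (s a)) :
    (⨆ a, XTs u (n a) (s a)) = ⊤ := by
  have hiso : IsIso pL := SymAlg.isIso_proj_symLine hL hj pL chartL hPL
  refine top_le_iff.1 fun x _ => ?_
  obtain ⟨z, rfl⟩ := pL.surjective x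
  have hz : z ∈ RelProj.domQ u pL chartL := by rw [htop]; trivial
  obtain ⟨a, ha⟩ := h ⟨z, hz⟩
  refine Opens.mem_iSup.2 ⟨a, ?_⟩
  have h1 : z ∈ (RelProj.domQ u pL chartL).ι ''ᵁ (r ⁻¹ᵁ WP p chart hY (s a)) := ⟨⟨z, hz⟩, ha, rfl⟩
  rw [image_preimage_WP hj u p chart pL chartL hPL r hr hY (hns a).1 (s a) (hns a).2 hL] at h1
  exact h1

include hj hPL hr in
/-- the charts cover the source if the loci `X_{t_a}` cover `X` -/
theorem exists_mem_range_alphaD (hL : PicF.IsInvertible L)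
    {ι : Type*} (n : ι → ℕ) (s : ι → 𝒮.presheaf.obj (op ⊤)) (hns : ∀ a, 0 < n a ∧ s a ∈ 𝒮.deg ⊤ hY (n a))
    (hV : ∀ a, IsAffineOpen (XTs u (n a) (s a)))
    (hcov : (⨆ a, XTs u (n a) (s a)) = ⊤) (w : ((RelProj.domQ u pL chartL : PL.Opens) : Scheme.{u})) :
    ∃ a, w ∈ Set.range (alphaD u pL chartL hY (hns a).1 (s a) (hns a).2 (hV a)) := by
  have hx : pL ((RelProj.domQ u pL chartL).ι w) ∈ (⨆ a, XTs u (n a) (s a)) := by rw [hcov]; trivial
  obtain ⟨a, ha⟩ := Opens.mem_iSup.1 hx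
  refine ⟨a, ?_⟩
  have h1 : (RelProj.domQ u pL chartL).ι w ∈ pL ⁻¹ᵁ XTs u (n a) (s a) := ha
  rw [← image_preimage_WP hj u p chart pL chartL hPL r hr hY (hns a).1 (s a) (hns a).2 hL] at h1
  obtain ⟨w', hw', hww'⟩ := h1
  have : w' = w := (RelProj.domQ u pL chartL).ι.isOpenEmbedding.injective hww'
  rw [this] at hw'
  have h2 : w ∈ (alphaD u pL chartL hY (hns a).1 (s a) (hns a).2 (hV a)).opensRange := by
    rw [opensRange_alphaD hj u p chart pL chartL hPL r hr hY (hns a).1 (s a) (hns a).2 (hV a) hL]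
    exact hw'
  exact h2

include hj hPL hr in
/-- everywhere-definedness from the covering condition -/
theorem domQ_eq_top_of_iSup (hL : PicF.IsInvertible L)
    {ι : Type*} (n : ι → ℕ) (s : ι → 𝒮.presheaf.obj (op ⊤)) (hns : ∀ a, 0 < n a ∧ s a ∈ 𝒮.deg ⊤ hY (n a))
    (hcov : (⨆ a, XTs u (n a) (s a)) = ⊤) : RelProj.domQ u pL chartL = ⊤ := by
  rw [domQ_eq_top_iff hj u pL chartL hPL hY hL]
  intro x
  have hx : x ∈ (⨆ a, XTs u (n a) (s a)) := by rw [hcov]; trivial
  obtain ⟨a, ha⟩ := Opens.mem_iSup.1 hx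
  exact ⟨n a, (hns a).1, s a, (hns a).2, (mem_XTs_iff u (n a) (s a) x).1 ha⟩

omit [L.IsQuasicoherent] in
theorem isAffineOpen_WP {n : ℕ} (hn : 0 < n) (s : 𝒮.presheaf.obj (op ⊤)) (hs : s ∈ 𝒮.deg ⊤ hY n) :
    IsAffineOpen (WP p chart hY s) :=
  (Proj.isAffineOpen_basicOpen (𝒮.deg ⊤ hY) s hs hn).image_of_isOpenImmersion (RelProj.emb p chart ⊤ hY)

include hj hPL hr in
/-- **`r_{L,ψ}` is everywhere defined and a closed immersion iff (i), (ii), (iii) and the `D₊(s_a)` cover `P`** -/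
theorem closedImmersion_iff (hL : PicF.IsInvertible L) :
    (RelProj.domQ u pL chartL = ⊤ ∧ IsClosedImmersion r) ↔
      ∃ (ι : Type u) (n : ι → ℕ) (s : ι → 𝒮.presheaf.obj (op ⊤)),
        (∀ a, 0 < n a ∧ s a ∈ 𝒮.deg ⊤ hY (n a)) ∧ (⨆ a, XTs u (n a) (s a)) = ⊤ ∧
          (∀ a, IsAffineOpen (XTs u (n a) (s a))) ∧ (∀ a, Cond3 u hY (n a) (s a)) ∧
            (⨆ a, Proj.basicOpen (𝒮.deg ⊤ hY) (s a)) = ⊤ := by
  constructor
  · rintro ⟨htop, hci⟩
    have hex : ∀ y : Proj (𝒮.deg ⊤ hY), ∃ (d : ℕ) (f : 𝒮.presheaf.obj (op ⊤)), 0 < d ∧ f ∈ 𝒮.deg ⊤ hY d ∧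
        y ∈ Proj.basicOpen (𝒮.deg ⊤ hY) f := by
      intro y
      obtain ⟨d, f, hd, hf, hy⟩ := exists_basicOpen y
      exact ⟨d, f, hd, hf, hy⟩
    choose n s hn hs hy using hex
    have hns : ∀ a, 0 < n a ∧ s a ∈ 𝒮.deg ⊤ hY (n a) := fun a => ⟨hn a, hs a⟩
    have haff : ∀ a, IsAffineOpen (XTs u (n a) (s a)) := fun a =>
      isAffineOpen_XTs hj u p chart pL chartL hPL r hr hY hL (hn a) (s a) (hs a)
        ((isAffineOpen_WP p chart hY (hn a) (s a) (hs a)).preimage r)
    refine ⟨Proj (𝒮.deg ⊤ hY), n, s, hns, ?_, haff, fun a => ?_, ?_⟩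
    · refine iSup_XTs_eq_top hj u p chart pL chartL hPL r hr hY hL htop n s hns fun w => ?_
      obtain ⟨y, hyw⟩ := (mem_range_emb p chart ⊤ hY (r w)).2 trivial
      exact ⟨y, y, hy y, hyw⟩
    · refine cond3_of_surjective_psiAway u hY (s a) (hs a) (haff a) ?_
      refine surjective_of_isClosedImmersion_specMap _ ?_
      exact IsZariskiLocalAtTarget.of_isPullback (P := @IsClosedImmersion)
        (isPullback_chart hj u p chart pL chartL hPL r hr hY (hn a) (s a) (hs a) (haff a) hL) hci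
    · exact top_le_iff.1 fun y _ => Opens.mem_iSup.2 ⟨y, hy y⟩
  · rintro ⟨ι, n, s, hns, hcov, haff, h3, hD⟩
    refine ⟨domQ_eq_top_of_iSup hj u p chart pL chartL hPL r hr hY hL n s hns hcov, ?_⟩
    refine prop_of_charts_cover @IsClosedImmersion r
      (fun a => Spec (RB u hY (s a) (haff a))) (fun a => Spec (RA hY (s a)))
      (fun a => alphaD u pL chartL hY (hns a).1 (s a) (hns a).2 (haff a))
      (fun a => Spec.map (psiAway u hY (s a) (haff a)))
      (fun a => betaP p chart hY (hns a).1 (s a) (hns a).2)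
      (fun a => isPullback_chart hj u p chart pL chartL hPL r hr hY (hns a).1 (s a) (hns a).2 (haff a) hL)
      ?_ (fun a => ?_)
    · refine top_le_iff.1 fun z _ => ?_
      obtain ⟨y, hyz⟩ := (mem_range_emb p chart ⊤ hY z).2 trivial
      have hy : y ∈ (⨆ a, Proj.basicOpen (𝒮.deg ⊤ hY) (s a)) := by rw [hD]; trivial
      obtain ⟨a, ha⟩ := Opens.mem_iSup.1 hy
      refine Opens.mem_iSup.2 ⟨a, ?_⟩
      rw [opensRange_betaP]
      exact ⟨y, ha, hyz⟩
    · exact IsClosedImmersion.spec_of_surjective _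
        (surjective_psiAway_of_cond3 hj u p chart pL chartL hPL r hr hY (hns a).1 (s a) (hns a).2 (haff a) hL (h3 a))

include hj hPL hr in
/-- **`r_{L,ψ}` is everywhere defined and an immersion iff (i), (ii), (iii)** -/
theorem immersion_iff (hL : PicF.IsInvertible L) :
    (RelProj.domQ u pL chartL = ⊤ ∧ IsImmersion r) ↔
      ∃ (ι : Type u) (n : ι → ℕ) (s : ι → 𝒮.presheaf.obj (op ⊤)),
        (∀ a, 0 < n a ∧ s a ∈ 𝒮.deg ⊤ hY (n a)) ∧ (⨆ a, XTs u (n a) (s a)) = ⊤ ∧
          (∀ a, IsAffineOpen (XTs u (n a) (s a))) ∧ (∀ a, Cond3 u hY (n a) (s a)) := by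
  constructor
  · rintro ⟨htop, himm⟩
    have hr' : r.liftCoborder ≫ r.coborderRange.ι = r := r.liftCoborder_ι
    have hex : ∀ w : ((RelProj.domQ u pL chartL : PL.Opens) : Scheme.{u}),
        ∃ (d : ℕ) (f : 𝒮.presheaf.obj (op ⊤)), 0 < d ∧ f ∈ 𝒮.deg ⊤ hY d ∧ r w ∈ WP p chart hY f ∧
          WP p chart hY f ≤ r.coborderRange := by
      intro w
      have hrw : r w ∈ r.coborderRange := by
        have h1 : r.coborderRange.ι (r.liftCoborder w) = r w := congrArg (fun k => k w) hr'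
        rw [← h1]
        exact (r.liftCoborder w).2
      obtain ⟨y₀, hy₀⟩ := (mem_range_emb p chart ⊤ hY (r w)).2 trivial
      have hy₀' : RelProj.emb p chart ⊤ hY y₀ = r w := hy₀
      obtain ⟨d, f, hd, hf, hy₀f, hfle⟩ := exists_pos_basicOpen_le (𝒮.deg ⊤ hY)
        ((RelProj.emb p chart ⊤ hY) ⁻¹ᵁ r.coborderRange) y₀ (by
          show RelProj.emb p chart ⊤ hY y₀ ∈ r.coborderRange
          rw [hy₀']
          exact hrw)
      refine ⟨d, f, hd, hf, ⟨y₀, hy₀f, hy₀'⟩, ?_⟩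
      rintro _ ⟨y, hy, rfl⟩
      exact hfle hy
    choose n s hn hs hmem hle using hex
    have hns : ∀ a, 0 < n a ∧ s a ∈ 𝒮.deg ⊤ hY (n a) := fun a => ⟨hn a, hs a⟩
    have hpre : ∀ a, r ⁻¹ᵁ WP p chart hY (s a) =
        r.liftCoborder ⁻¹ᵁ (r.coborderRange.ι ⁻¹ᵁ WP p chart hY (s a)) := by
      intro a
      rw [← Scheme.Hom.comp_preimage]
      exact congrArg (fun k : _ ⟶ P => k ⁻¹ᵁ WP p chart hY (s a)) hr'.symm
    have haff : ∀ a, IsAffineOpen (XTs u (n a) (s a)) := fun a => by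
      refine isAffineOpen_XTs hj u p chart pL chartL hPL r hr hY hL (hn a) (s a) (hs a) ?_
      rw [hpre a]
      refine IsAffineOpen.preimage ?_ r.liftCoborder
      refine (isAffineOpen_WP p chart hY (hn a) (s a) (hs a)).preimage_of_isOpenImmersion _ ?_
      rw [Scheme.Opens.opensRange_ι]
      exact hle a
    refine ⟨_, n, s, hns, ?_, haff, fun a => ?_⟩
    · exact iSup_XTs_eq_top hj u p chart pL chartL hPL r hr hY hL htop n s hns fun w => ⟨w, hmem w⟩
    · refine cond3_of_surjective_psiAway u hY (s a) (hs a) (haff a) ?_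
      refine surjective_of_isClosedImmersion_specMap _ ?_
      have hpb := isPullback_chart hj u p chart pL chartL hPL r hr hY (hn a) (s a) (hs a) (haff a) hL
      have hβ : Set.range (betaP p chart hY (hn a) (s a) (hs a)) ⊆ Set.range r.coborderRange.ι := by
        rw [Scheme.Opens.range_ι]
        have h1 := opensRange_betaP p chart hY (hn a) (s a) (hs a)
        rintro _ ⟨y, rfl⟩
        have h2 : betaP p chart hY (hn a) (s a) (hs a) y ∈
            (betaP p chart hY (hn a) (s a) (hs a)).opensRange := ⟨y, rfl⟩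
        rw [h1] at h2
        exact hle a h2
      have hβ' : IsOpenImmersion.lift r.coborderRange.ι (betaP p chart hY (hn a) (s a) (hs a)) hβ ≫
          r.coborderRange.ι = betaP p chart hY (hn a) (s a) (hs a) := IsOpenImmersion.lift_fac _ _ _
      have hoi : IsOpenImmersion
          (IsOpenImmersion.lift r.coborderRange.ι (betaP p chart hY (hn a) (s a) (hs a)) hβ) := by
        have : IsOpenImmersion (IsOpenImmersion.lift r.coborderRange.ι
            (betaP p chart hY (hn a) (s a) (hs a)) hβ ≫ r.coborderRange.ι) := by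
          rw [hβ']
          infer_instance
        exact IsOpenImmersion.of_comp _ r.coborderRange.ι
      have hpb2 : IsPullback (alphaD u pL chartL hY (hn a) (s a) (hs a) (haff a))
          (Spec.map (psiAway u hY (s a) (haff a))) r.liftCoborder
          (IsOpenImmersion.lift r.coborderRange.ι (betaP p chart hY (hn a) (s a) (hs a)) hβ) := by
        refine isPullback_cancel_mono r.coborderRange.ι ?_
        rw [hr', hβ']
        exact hpb
      exact IsZariskiLocalAtTarget.of_isPullback (P := @IsClosedImmersion) hpb2 inferInstance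
  · rintro ⟨ι, n, s, hns, hcov, haff, h3⟩
    refine ⟨domQ_eq_top_of_iSup hj u p chart pL chartL hPL r hr hY hL n s hns hcov, ?_⟩
    refine prop_of_charts @IsImmersion r
      (fun a => Spec (RB u hY (s a) (haff a))) (fun a => Spec (RA hY (s a)))
      (fun a => alphaD u pL chartL hY (hns a).1 (s a) (hns a).2 (haff a))
      (fun a => Spec.map (psiAway u hY (s a) (haff a)))
      (fun a => betaP p chart hY (hns a).1 (s a) (hns a).2)
      (fun a => isPullback_chart hj u p chart pL chartL hPL r hr hY (hns a).1 (s a) (hns a).2 (haff a) hL)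
      (exists_mem_range_alphaD hj u p chart pL chartL hPL r hr hY hL n s hns haff hcov) (fun a => ?_)
    have hci : IsClosedImmersion (Spec.map (psiAway u hY (s a) (haff a))) :=
      IsClosedImmersion.spec_of_surjective _
        (surjective_psiAway_of_cond3 hj u p chart pL chartL hPL r hr hY (hns a).1 (s a) (hns a).2 (haff a) hL (h3 a))
    infer_instance

include hj hPL hr in
/-- **`r_{L,ψ}` is everywhere defined and an open immersion iff (i), (ii), (iii), (iv)** -/
theorem openImmersion_iff (hL : PicF.IsInvertible L) :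
    (RelProj.domQ u pL chartL = ⊤ ∧ IsOpenImmersion r) ↔
      ∃ (ι : Type u) (n : ι → ℕ) (s : ι → 𝒮.presheaf.obj (op ⊤)),
        (∀ a, 0 < n a ∧ s a ∈ 𝒮.deg ⊤ hY (n a)) ∧ (⨆ a, XTs u (n a) (s a)) = ⊤ ∧
          (∀ a, IsAffineOpen (XTs u (n a) (s a))) ∧ (∀ a, Cond3 u hY (n a) (s a)) ∧
            (∀ a, Cond4 u hY (n a) (s a)) := by
  constructor
  · rintro ⟨htop, hoi⟩
    have hex : ∀ w : ((RelProj.domQ u pL chartL : PL.Opens) : Scheme.{u}),
        ∃ (d : ℕ) (f : 𝒮.presheaf.obj (op ⊤)), 0 < d ∧ f ∈ 𝒮.deg ⊤ hY d ∧ r w ∈ WP p chart hY f ∧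
          WP p chart hY f ≤ r.opensRange := by
      intro w
      have hrw : r w ∈ r.opensRange := ⟨w, rfl⟩
      obtain ⟨y₀, hy₀⟩ := (mem_range_emb p chart ⊤ hY (r w)).2 trivial
      have hy₀' : RelProj.emb p chart ⊤ hY y₀ = r w := hy₀
      obtain ⟨d, f, hd, hf, hy₀f, hfle⟩ := exists_pos_basicOpen_le (𝒮.deg ⊤ hY)
        ((RelProj.emb p chart ⊤ hY) ⁻¹ᵁ r.opensRange) y₀ (by
          show RelProj.emb p chart ⊤ hY y₀ ∈ r.opensRange
          rw [hy₀']
          exact hrw)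
      refine ⟨d, f, hd, hf, ⟨y₀, hy₀f, hy₀'⟩, ?_⟩
      rintro _ ⟨y, hy, rfl⟩
      exact hfle hy
    choose n s hn hs hmem hle using hex
    have hns : ∀ a, 0 < n a ∧ s a ∈ 𝒮.deg ⊤ hY (n a) := fun a => ⟨hn a, hs a⟩
    have haff : ∀ a, IsAffineOpen (XTs u (n a) (s a)) := fun a =>
      isAffineOpen_XTs hj u p chart pL chartL hPL r hr hY hL (hn a) (s a) (hs a)
        ((isAffineOpen_WP p chart hY (hn a) (s a) (hs a)).preimage_of_isOpenImmersion r (hle a))
    have hbij : ∀ a, Function.Bijective (psiAway u hY (s a) (haff a)).hom := by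
      intro a
      have hpb := isPullback_chart hj u p chart pL chartL hPL r hr hY (hn a) (s a) (hs a) (haff a) hL
      have hβ : Set.range (betaP p chart hY (hn a) (s a) (hs a)) ⊆ Set.range r := by
        have h1 := opensRange_betaP p chart hY (hn a) (s a) (hs a)
        rintro _ ⟨y, rfl⟩
        have h2 : betaP p chart hY (hn a) (s a) (hs a) y ∈
            (betaP p chart hY (hn a) (s a) (hs a)).opensRange := ⟨y, rfl⟩
        rw [h1] at h2
        exact hle a h2
      have hg : IsOpenImmersion (Spec.map (psiAway u hY (s a) (haff a))) :=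
        IsZariskiLocalAtTarget.of_isPullback (P := @IsOpenImmersion) hpb hoi
      have hsec : (hpb.lift (IsOpenImmersion.lift r (betaP p chart hY (hn a) (s a) (hs a)) hβ) (𝟙 _)
          (by rw [IsOpenImmersion.lift_fac, Category.id_comp])) ≫ Spec.map (psiAway u hY (s a) (haff a)) = 𝟙 _ :=
        hpb.lift_snd _ _ _
      have hiso : IsIso (Spec.map (psiAway u hY (s a) (haff a))) := by
        refine ⟨hpb.lift (IsOpenImmersion.lift r (betaP p chart hY (hn a) (s a) (hs a)) hβ) (𝟙 _)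
          (by rw [IsOpenImmersion.lift_fac, Category.id_comp]), ?_, hsec⟩
        rw [← cancel_mono (Spec.map (psiAway u hY (s a) (haff a))), Category.assoc, hsec, Category.comp_id,
          Category.id_comp]
      have := isIso_of_isIso_specMap _ hiso
      exact ConcreteCategory.bijective_of_isIso (psiAway u hY (s a) (haff a))
    refine ⟨_, n, s, hns, ?_, haff, fun a => ?_, fun a => ?_⟩
    · exact iSup_XTs_eq_top hj u p chart pL chartL hPL r hr hY hL htop n s hns fun w => ⟨w, hmem w⟩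
    · exact cond3_of_surjective_psiAway u hY (s a) (hs a) (haff a) (hbij a).2
    · exact cond4_of_injective_psiAway u hY (s a) (hs a) (haff a) (hbij a).1
  · rintro ⟨ι, n, s, hns, hcov, haff, h3, h4⟩
    refine ⟨domQ_eq_top_of_iSup hj u p chart pL chartL hPL r hr hY hL n s hns hcov, ?_⟩
    refine prop_of_charts @IsOpenImmersion r
      (fun a => Spec (RB u hY (s a) (haff a))) (fun a => Spec (RA hY (s a)))
      (fun a => alphaD u pL chartL hY (hns a).1 (s a) (hns a).2 (haff a))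
      (fun a => Spec.map (psiAway u hY (s a) (haff a)))
      (fun a => betaP p chart hY (hns a).1 (s a) (hns a).2)
      (fun a => isPullback_chart hj u p chart pL chartL hPL r hr hY (hns a).1 (s a) (hns a).2 (haff a) hL)
      (exists_mem_range_alphaD hj u p chart pL chartL hPL r hr hY hL n s hns haff hcov) (fun a => ?_)
    have hbij : Function.Bijective (psiAway u hY (s a) (haff a)).hom :=
      ⟨injective_psiAway_of_cond4 u hY (s a) (hns a).2 (haff a) (h4 a),
        surjective_psiAway_of_cond3 hj u p chart pL chartL hPL r hr hY (hns a).1 (s a) (hns a).2 (haff a) hL (h3 a)⟩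
    have hiso : IsIso (psiAway u hY (s a) (haff a)) := (ConcreteCategory.isIso_iff_bijective _).2 hbij
    infer_instance

end main

end Groth.Agent.Lib.Helper28.RLPsi
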