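import Groth.Agent.Lib.Helper28.RLPsiI
import Groth.Agent.Lib.Helper28.RLPsiF

set_option autoImplicit false
universe u
open CategoryTheory CategoryTheory.Limits AlgebraicGeometry Opposite TopologicalSpace
noncomputable section

namespace Groth.Agent.Lib.Helper28.RLPsiU

open Groth.Agent.Lib.Helper28 Groth.Agent.Lib.Helper28.QCohLoc Groth.Agent.Lib.Helper28.TraceAlg
open Groth.Agent.Lib.Helper28.GenLocus Groth.Agent.Lib.Helper28.SymAlg
open Groth.Agent.Lib.Helper28.RLPsi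
open Groth.Agent.Lib.Helper28.RelProjBC (AffPair)
open Groth.Agent.Lib.Helper28.RelProjQ (φQ mem_range_emb)
open Groth.Agent.Lib.Helper28.ProjQ (mem_dom_iff basicOpen_le_dom vQ preimage_basicOpen exists_basicOpen)
open Groth.Agent.Lib.Helper28.ProjQRel (D cW cW_apply pieceW glue_of_isProjQMapOn glue_comp_p)
open Groth.Agent.Lib.Helper28.ProjQComp (emb_mem_domQ_iff)

attribute [local instance] algAt

section basic

variable {Y X P PL : Scheme.{u}} {q : X ⟶ Y} {L : X.Modules} [L.IsQuasicoherent]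
  {𝒮 : RelProj.QCGrAlg Y} {𝒮L : RelProj.QCGrAlg X} {j : L ⟶ 𝒮L.toModule} (hj : RelProj.IsGrSymAlg L 𝒮L j)
  (u : RelProj.QGrHom q 𝒮 𝒮L)
  (p : P ⟶ Y) (chart : ∀ (U : Y.Opens) (hU : IsAffineOpen U), (((p ⁻¹ᵁ U : P.Opens) : Scheme.{u}) ≅ Proj (𝒮.deg U hU)))
  (hP : RelProj.IsRelProj 𝒮 p chart)
  (pL : PL ⟶ X)
  (chartL : ∀ (U : X.Opens) (hU : IsAffineOpen U), (((pL ⁻¹ᵁ U : PL.Opens) : Scheme.{u}) ≅ Proj (𝒮L.deg U hU)))
  (hPL : RelProj.IsRelProj 𝒮L pL chartL)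
  (r : ((RelProj.domQ u pL chartL : PL.Opens) : Scheme.{u}) ⟶ P)
  (hr : RelProj.IsProjQMapOn u p chart pL chartL (RelProj.domQ u pL chartL) r)
  {U : Y.Opens} (hU : IsAffineOpen U)

/-- the section `ψ♭(s)` over an open of `q⁻¹ U` -/
def tauU (U : Y.Opens) (s : 𝒮.presheaf.obj (op U)) (W : X.Opens) (hW : W ≤ q ⁻¹ᵁ U) : 𝒮L.presheaf.obj (op W) :=
  (u.appLE U W hW).hom s

omit [L.IsQuasicoherent] in
theorem rS_tauU (s : 𝒮.presheaf.obj (op U)) {V W : X.Opens} (hV : V ≤ q ⁻¹ᵁ U) (h : W ≤ V) :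
    rS 𝒮L h (tauU u U s V hV) = tauU u U s W (h.trans hV) :=
  rS_appLE u U s hV h

/-- the nonvanishing condition at a point -/
def NVU (U : Y.Opens) (n : ℕ) (s : 𝒮.presheaf.obj (op U)) (x : X) : Prop :=
  ∃ (V : X.Opens) (hV : IsAffineOpen V) (hVU : V ≤ q ⁻¹ᵁ U), x ∈ V ∧
    ((𝒮L.deg V hV n : AddSubgroup (𝒮L.presheaf.obj (op V))) : Set (𝒮L.presheaf.obj (op V))) ⊆
      (Ideal.span {tauU u U s V hVU} : Set (𝒮L.presheaf.obj (op V)))

/-- the nonvanishing locus `X_t ⊆ q⁻¹ U`, `t = ψ♭(s)` -/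
def XTU (U : Y.Opens) (n : ℕ) (s : 𝒮.presheaf.obj (op U)) : X.Opens :=
  ⨆ V : {V : X.affineOpens // ∃ hVU : (V.1 : X.Opens) ≤ q ⁻¹ᵁ U,
    ((𝒮L.deg V.1 V.2 n : AddSubgroup (𝒮L.presheaf.obj (op (V.1 : X.Opens)))) : Set (𝒮L.presheaf.obj (op (V.1 : X.Opens)))) ⊆
      (Ideal.span {tauU u U s (V.1 : X.Opens) hVU} : Set (𝒮L.presheaf.obj (op (V.1 : X.Opens))))},
    (V.1.1 : X.Opens)

omit [L.IsQuasicoherent] in
theorem mem_XTU_iff (n : ℕ) (s : 𝒮.presheaf.obj (op U)) (x : X) : x ∈ XTU u U n s ↔ NVU u U n s x := by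
  constructor
  · intro h
    obtain ⟨⟨⟨V', hV'⟩, hVU, hsub⟩, hxV'⟩ := Opens.mem_iSup.1 h
    exact ⟨V', hV', hVU, hxV', hsub⟩
  · rintro ⟨V', hV', hVU, hxV', hsub⟩
    exact Opens.mem_iSup.2 ⟨⟨⟨V', hV'⟩, hVU, hsub⟩, hxV'⟩

omit [L.IsQuasicoherent] in
theorem XTU_le (n : ℕ) (s : 𝒮.presheaf.obj (op U)) : XTU u U n s ≤ q ⁻¹ᵁ U := by
  intro x hx
  obtain ⟨V', hV', hVU, hxV', -⟩ := (mem_XTU_iff u n s x).1 hx
  exact hVU hxV'

include hj hPL hU in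
/-- the pointwise lemma: `D₊(ψ♭(s))` over a trivializing affine open is the nonvanishing locus -/
theorem mem_basicOpen_tauU_iff {n : ℕ} (hn : 0 < n) (s : 𝒮.presheaf.obj (op U)) (hs : s ∈ 𝒮.deg U hU n)
    {V : X.Opens} (hV : IsAffineOpen V) (hVU : V ≤ q ⁻¹ᵁ U) {g : Γ(L, V)} (hg : IsGen L V g)
    (y : Proj (𝒮L.deg V hV)) :
    y ∈ Proj.basicOpen (𝒮L.deg V hV) (tauU u U s V hVU) ↔ NVU u U n s (pL (RelProj.emb pL chartL V hV y)) := by
  have hmem : tauU u U s V hVU ∈ 𝒮L.deg V hV n := u.map_mem U hU V hV hVU hs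
  obtain ⟨b, hb⟩ := exists_eq_str_mul_pow hj hV hg n _ hmem
  have hxV : pL (RelProj.emb pL chartL V hV y) ∈ V := (mem_range_emb pL chartL V hV _).1 ⟨y, rfl⟩
  rw [hb, mem_basicOpen_line_iff hj hV hg pL chartL hPL b hn y]
  constructor
  · intro hx
    refine ⟨X.basicOpen b, hV.basicOpen b, (X.basicOpen_le b).trans hVU, hx, ?_⟩
    have h := subset_span_of_basicOpen hj hV hg b n
    rw [← hb, rS_tauU] at h
    exact h
  · rintro ⟨V', hV', hV'U, hxV', hsub⟩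
    refine mem_basicOpen_of_subset_span hj hg b n _ hxV V' hV' hxV' (tauU u U s V' hV'U) (fun W h1 h2 => ?_) hsub
    rw [← hb, rS_tauU, rS_tauU]

/-- the standard open `D₊(s)` of `P` over `U` -/
def WPU (s : 𝒮.presheaf.obj (op U)) : P.Opens :=
  (RelProj.emb p chart U hU) ''ᵁ Proj.basicOpen (𝒮.deg U hU) s

include hj hP hPL hr in
/-- **`r⁻¹(D₊(f)) = X_t`, `t = ψ♭(f)`**, over an affine open of the base -/
theorem preimage_basicOpenU_eq (hL : PicF.IsInvertible L) {d : ℕ} (hd : 0 < d) (f : 𝒮.presheaf.obj (op U))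
    (hf : f ∈ 𝒮.deg U hU d) :
    (RelProj.domQ u pL chartL).ι ''ᵁ (r ⁻¹ᵁ WPU p chart hU f) = pL ⁻¹ᵁ XTU u U d f := by
  have hover : r ≫ p = (RelProj.domQ u pL chartL).ι ≫ pL ≫ q :=
    glue_comp_p u p chart hP pL chartL hPL r (glue_of_isProjQMapOn u p chart pL chartL r hr)
  have key : ∀ z : PL, pL z ∈ q ⁻¹ᵁ U →
      (z ∈ (RelProj.domQ u pL chartL).ι ''ᵁ (r ⁻¹ᵁ WPU p chart hU f) ↔ z ∈ pL ⁻¹ᵁ XTU u U d f) := by
    intro z hxU
    obtain ⟨V, g, hxV, hV, hg, hVU⟩ := exists_isGen_affine_le hL _ _ hxU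
    obtain ⟨y, hy⟩ := (mem_range_emb pL chartL V hV z).2 hxV
    have hy2 : RelProj.emb pL chartL V hV y = z := hy
    have h1 := mem_preimage_iff_pair u p chart pL chartL hPL r hr ⟨U, hU, V, hV, hVU⟩ hd f hf y
    have h2 := mem_basicOpen_tauU_iff hj u pL chartL hPL hU hd f hf hV hVU hg y
    rw [hy2] at h1 h2
    exact h1.trans (h2.trans (mem_XTU_iff u d f (pL z)).symm)
  ext z
  constructor
  · intro hz
    refine (key z ?_).1 hz
    obtain ⟨w, ⟨y₁, -, hy₁⟩, rfl⟩ := hz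
    have h1 : p (r w) = q (pL ((RelProj.domQ u pL chartL).ι w)) := congrArg (fun k => k w) hover
    show q (pL ((RelProj.domQ u pL chartL).ι w)) ∈ U
    rw [← h1]
    have hy₁' : RelProj.emb p chart U hU y₁ = r w := hy₁
    exact (mem_range_emb p chart U hU (r w)).1 ⟨y₁, hy₁'⟩
  · intro hz
    exact (key z (XTU_le u d f hz)).2 hz

end basic

end Groth.Agent.Lib.Helper28.RLPsiU
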