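import Groth.Agent.Lib.Helper28.RLPsiU9

set_option autoImplicit false
universe u
open CategoryTheory CategoryTheory.Limits AlgebraicGeometry Opposite TopologicalSpace
open HomogeneousLocalization
noncomputable section

namespace Groth.Agent.Lib.Helper28.RLPsiU

open Groth.Agent.Lib.Helper28 Groth.Agent.Lib.Helper28.QCohLoc Groth.Agent.Lib.Helper28.TraceAlg
open Groth.Agent.Lib.Helper28.GenLocus Groth.Agent.Lib.Helper28.SymAlg
open Groth.Agent.Lib.Helper28.RLPsi Groth.Agent.Lib.Helper28.SymPow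

open Groth.Agent.Lib.Helper28.ProjQRel (glue_of_isProjQMapOn glue_comp_p)

attribute [local instance] algAt

section uc

variable {Y X P PL : Scheme.{u}} {q : X ⟶ Y} {L : X.Modules} [L.IsQuasicoherent]
  {𝒮 : RelProj.QCGrAlg Y} {𝒮L : RelProj.QCGrAlg X} {j : L ⟶ 𝒮L.toModule} (hj : RelProj.IsGrSymAlg L 𝒮L j)
  (u : RelProj.QGrHom q 𝒮 𝒮L)
  (p : P ⟶ Y) (chart : ∀ (U : Y.Opens) (hU : IsAffineOpen U), (((p ⁻¹ᵁ U : P.Opens) : Scheme.{u}) ≅ Proj (𝒮.deg U hU)))
  (hP : RelProj.IsRelProj 𝒮 p chart)
  (pL : PL ⟶ X)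
  (chartL : ∀ (U : X.Opens) (hU : IsAffineOpen U), (((pL ⁻¹ᵁ U : PL.Opens) : Scheme.{u}) ≅ Proj (𝒮L.deg U hU)))
  (hPL : RelProj.IsRelProj 𝒮L pL chartL)
  (r : ((RelProj.domQ u pL chartL : PL.Opens) : Scheme.{u}) ⟶ P)
  (hr : RelProj.IsProjQMapOn u p chart pL chartL (RelProj.domQ u pL chartL) r)

include hj hP hPL hr in
/-- **`L` relatively ample and `q` universally closed ⟹ `r_{L,σ}` is an isomorphism** -/
theorem isIso_of_relAmple_of_universallyClosed [UniversallyClosed q] (hL : PicF.IsInvertible L)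
    (hu : ∀ (U : Y.Opens), IsAffineOpen U → Function.Bijective (u.app U).hom)
    (h : RelAmple.IsRelAmple q L) :
    RelProj.domQ u pL chartL = ⊤ ∧ IsIso r := by
  obtain ⟨htop, hoi⟩ := openImmersion_of_relAmple hj u p chart hP pL chartL hPL r hr hL hu h
  have hqc : QuasiCompact q := h.1
  have hdom : IsDominant r := isDominant_of_injective hj u p chart hP pL chartL hPL r hr hL
    (fun U hU => (hu U hU).1)
  refine ⟨htop, ?_⟩
  have hiso : IsIso pL := isIso_proj_symLine hL hj pL chartL hPL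
  have hover : r ≫ p = (RelProj.domQ u pL chartL).ι ≫ pL ≫ q :=
    glue_comp_p u p chart hP pL chartL hPL r (glue_of_isProjQMapOn u p chart pL chartL r hr)
  have hι : IsIso (RelProj.domQ u pL chartL).ι := by
    rw [htop]
    exact (Scheme.topIso PL).isIso_hom
  have hsep : IsSeparated p := Groth.Agent.S8259.result 𝒮 p chart hP
  have huc : UniversallyClosed (r ≫ p) := by
    rw [hover]
    infer_instance
  have hr_uc : UniversallyClosed r := UniversallyClosed.of_comp_of_isSeparated r p
  have hsurj : Surjective r := by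
    constructor
    have hcl : IsClosedMap r := r.isClosedMap
    have h1 : IsClosed (Set.range r) := hcl.isClosed_range
    have h2 : Set.range r = Set.univ := by
      rw [← h1.closure_eq]
      exact hdom.denseRange.closure_range
    exact Set.range_eq_univ.1 h2
  exact (isIso_iff_isOpenImmersion_and_surjective r).2 ⟨hoi, hsurj⟩

end uc

end Groth.Agent.Lib.Helper28.RLPsiU
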