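import Groth.Agent.Lib.Helper28.RLPsiU10
import Groth.Agent.Lib.Helper28.ProjSect
import Groth.Agent.Lib.Helper28.RestrictAmple

set_option autoImplicit false
universe u
open CategoryTheory CategoryTheory.Limits AlgebraicGeometry Opposite TopologicalSpace
open HomogeneousLocalization
noncomputable section

namespace Groth.Agent.Lib.Helper28.RLPsiU

open Groth.Agent.Lib.Helper28 Groth.Agent.Lib.Helper28.QCohLoc Groth.Agent.Lib.Helper28.TraceAlg
open Groth.Agent.Lib.Helper28.GenLocus Groth.Agent.Lib.Helper28.SymAlg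
open Groth.Agent.Lib.Helper28.RLPsi Groth.Agent.Lib.Helper28.SymPow
open Groth.Agent.Lib.Helper28.ProjQRel (glue_of_isProjQMapOn glue_comp_p)
open Groth.Agent.Lib.Helper28.RelProjQ (mem_range_emb)

attribute [local instance] algAt

section sd

variable {Y X P PL : Scheme.{u}} {q : X ⟶ Y}
  {𝒮 : RelProj.QCGrAlg Y} {𝒮L : RelProj.QCGrAlg X}
  (u : RelProj.QGrHom q 𝒮 𝒮L)
  (p : P ⟶ Y) (chart : ∀ (U : Y.Opens) (hU : IsAffineOpen U), (((p ⁻¹ᵁ U : P.Opens) : Scheme.{u}) ≅ Proj (𝒮.deg U hU)))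
  (hP : RelProj.IsRelProj 𝒮 p chart)
  (pL : PL ⟶ X)
  (chartL : ∀ (U : X.Opens) (hU : IsAffineOpen U), (((pL ⁻¹ᵁ U : PL.Opens) : Scheme.{u}) ≅ Proj (𝒮L.deg U hU)))
  (r : ((RelProj.domQ u pL chartL : PL.Opens) : Scheme.{u}) ⟶ P)
  (hr : RelProj.IsProjQMapOn u p chart pL chartL (RelProj.domQ u pL chartL) r)
  (hY : IsAffineOpen (⊤ : Y.Opens))

/-- an element of `A_(g)` killed by all the maps `A_(g) → 𝒮L(V)_(ψ g)` vanishes, when `ψ` is injective
and `X` is quasi-compact -/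
theorem away_eq_zero_of_forall [CompactSpace X] (hinj : Function.Injective (u.app ⊤).hom) {d : ℕ}
    (g : 𝒮.presheaf.obj (op ⊤)) (hg : g ∈ 𝒮.deg ⊤ hY d) (y : Away (𝒮.deg ⊤ hY) g)
    (h : ∀ (V : X.Opens) (hV : IsAffineOpen V),
      Away.map (u.gradedAt ⊤ hY V hV (le_preimage_top V)) g y = 0) : y = 0 := by
  obtain ⟨n, a, ha, rfl⟩ := Away.mk_surjective _ hg y
  have h1 : ∀ (V : X.Opens) (hV : IsAffineOpen V), ∃ m : ℕ,
      (u.appLE ⊤ V (le_preimage_top V)).hom (g ^ m * a) = 0 := by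
    intro V hV
    have h2 := congrArg HomogeneousLocalization.val (h V hV)
    rw [Away.map_mk, Away.val_mk, HomogeneousLocalization.val_zero, Localization.mk_eq_mk',
      IsLocalization.mk'_eq_zero_iff] at h2
    obtain ⟨⟨c, m, rfl⟩, hc⟩ := h2
    refine ⟨m, ?_⟩
    rw [map_mul, map_pow]
    exact hc
  have hex : ∀ x : X, ∃ (V : X.Opens), IsAffineOpen V ∧ x ∈ V := by
    intro x
    obtain ⟨_, ⟨V, hV, rfl⟩, hxV, -⟩ := X.isBasis_affineOpens.exists_subset_of_mem_open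
      (Set.mem_univ x) isOpen_univ
    exact ⟨V, hV, hxV⟩
  choose V hV hxV using hex
  choose N hN using fun x => h1 (V x) (hV x)
  obtain ⟨T, hT⟩ := CompactSpace.elim_nhds_subcover (fun x => ((V x : X.Opens) : Set X))
    (fun x => (V x).isOpen.mem_nhds (hxV x))
  have hz : (u.app ⊤).hom (g ^ T.sup N * a) = 0 := by
    let F : TopCat.Sheaf CommRingCat X.carrier := ⟨𝒮L.presheaf, 𝒮L.isSheaf⟩
    refine TopCat.Sheaf.eq_of_locally_eq' F (fun x : T => V x.1) (q ⁻¹ᵁ ⊤)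
      (fun x => homOfLE (le_preimage_top (V x.1))) ?_ _ _ (fun x => ?_)
    · intro b _
      have hb : b ∈ ⋃ x ∈ T, ((V x : X.Opens) : Set X) := by rw [hT]; trivial
      simp only [Set.mem_iUnion] at hb
      obtain ⟨x, hxT, hbx⟩ := hb
      exact Opens.mem_iSup.2 ⟨⟨x, hxT⟩, hbx⟩
    · show (𝒮L.presheaf.map (homOfLE (le_preimage_top (V x.1))).op).hom ((u.app ⊤).hom (g ^ T.sup N * a)) =
        (𝒮L.presheaf.map (homOfLE (le_preimage_top (V x.1))).op).hom 0
      rw [map_zero]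
      have h2 : (𝒮L.presheaf.map (homOfLE (le_preimage_top (V x.1))).op).hom ((u.app ⊤).hom (g ^ T.sup N * a)) =
          (u.appLE ⊤ (V x.1) (le_preimage_top (V x.1))).hom (g ^ T.sup N * a) := rfl
      rw [h2]
      have h3 : g ^ T.sup N * a = g ^ (T.sup N - N x.1) * (g ^ N x.1 * a) := by
        rw [← mul_assoc, ← pow_add, Nat.sub_add_cancel (Finset.le_sup x.2)]
      rw [h3, map_mul, hN x.1, mul_zero]
  have hz' : g ^ T.sup N * a = 0 := hinj (hz.trans (map_zero _).symm)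
  apply HomogeneousLocalization.val_injective
  rw [Away.val_mk, HomogeneousLocalization.val_zero, Localization.mk_eq_mk', IsLocalization.mk'_eq_zero_iff]
  exact ⟨⟨g ^ T.sup N, T.sup N, rfl⟩, hz'⟩

include hr in
set_option backward.isDefEq.respectTransparency false in
/-- sections over `D₊(g) ⊆ P` vanishing on `r⁻¹ D₊(g)` vanish -/
theorem app_injective_WPU [CompactSpace X] (hinj : Function.Injective (u.app ⊤).hom) {d : ℕ} (hd : 0 < d)
    (g : 𝒮.presheaf.obj (op ⊤)) (hg : g ∈ 𝒮.deg ⊤ hY d) :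
    Function.Injective (r.app (WPU p chart hY g)).hom := by
  rw [injective_iff_map_eq_zero]
  intro x hx
  have hβr : (betaP p chart hY hd g hg).opensRange = WPU p chart hY g := by
    unfold betaP WPU
    rw [Scheme.Hom.opensRange_comp, Proj.opensRange_awayι]
  have hpre : (betaP p chart hY hd g hg) ⁻¹ᵁ WPU p chart hY g = ⊤ := by
    rw [← hβr]
    exact top_le_iff.1 fun z _ => ⟨z, rfl⟩
  have hle : (⊤ : (Spec (RA hY g)).Opens) ≤ (betaP p chart hY hd g hg) ⁻¹ᵁ WPU p chart hY g := hpre.ge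
  -- the corresponding element of `A_(g)` vanishes
  have hy : (Scheme.ΓSpecIso (RA hY g)).hom.hom
      (((betaP p chart hY hd g hg).appLE (WPU p chart hY g) ⊤ hle).hom x) = 0 := by
    apply away_eq_zero_of_forall u hY hinj g hg
    intro V hV
    have hsq := hr ⊤ hY V hV (le_preimage_top V) d hd g hg
      (RelProj.range_awayEmb_subset_domQ u pL chartL ⊤ hY V hV (le_preimage_top V) hd g hg)
    set α := IsOpenImmersion.lift (RelProj.domQ u pL chartL).ι
      (RelProj.awayEmb u pL chartL ⊤ hY V hV (le_preimage_top V) hd g hg)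
      (RelProj.range_awayEmb_subset_domQ u pL chartL ⊤ hY V hV (le_preimage_top V) hd g hg) with hα
    set m := CommRingCat.ofHom (HomogeneousLocalization.Away.map (u.gradedAt ⊤ hY V hV (le_preimage_top V)) g)
      with hm
    have hsq' : α ≫ r = Spec.map m ≫ betaP p chart hY hd g hg := hsq
    have hle2 : (⊤ : (Spec _).Opens) ≤ (α ≫ r) ⁻¹ᵁ WPU p chart hY g := by
      rw [hsq', Scheme.Hom.comp_preimage, hpre, Scheme.Hom.preimage_top]
    have h1 : ((α ≫ r).appLE (WPU p chart hY g) ⊤ hle2).hom x = 0 := by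
      rw [Scheme.Hom.comp_appLE, CommRingCat.comp_apply, hx, map_zero]
    rw [ProjSect.appLE_congr' hsq' (WPU p chart hY g) ⊤ hle2
      (by rw [Scheme.Hom.comp_preimage, hpre, Scheme.Hom.preimage_top]),
      ← Scheme.Hom.appLE_comp_appLE _ _ (WPU p chart hY g) ⊤ ⊤ hle le_top, CommRingCat.comp_apply] at h1
    have h2 := Scheme.ΓSpecIso_naturality m
    have h3 : (Scheme.ΓSpecIso _).hom.hom ((Spec.map m).appTop.hom
        (((betaP p chart hY hd g hg).appLE (WPU p chart hY g) ⊤ hle).hom x)) = 0 := by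
      have : (Spec.map m).appTop.hom
          (((betaP p chart hY hd g hg).appLE (WPU p chart hY g) ⊤ hle).hom x) = 0 := h1
      rw [this, map_zero]
    rw [← CommRingCat.comp_apply, h2, CommRingCat.comp_apply] at h3
    exact h3
  have hx' : ((betaP p chart hY hd g hg).appLE (WPU p chart hY g) ⊤ hle).hom x = 0 :=
    (ConcreteCategory.bijective_of_isIso (Scheme.ΓSpecIso (RA hY g)).hom).1 (hy.trans (map_zero _).symm)
  -- `β.app W` is an isomorphism
  have hiso : IsIso ((betaP p chart hY hd g hg).app (WPU p chart hY g)) :=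
    Scheme.Hom.isIso_app _ _ hβr.ge
  unfold Scheme.Hom.appLE at hx'
  rw [CommRingCat.comp_apply] at hx'
  have h4 : ((betaP p chart hY hd g hg).app (WPU p chart hY g)).hom x = 0 := by
    have h5 := congrArg ((Spec (RA hY g)).presheaf.map (homOfLE hpre.le).op).hom hx'
    rw [map_zero, ← CommRingCat.comp_apply, ← Functor.map_comp] at h5
    have h6 : ((homOfLE hle).op ≫ (homOfLE hpre.le).op) = 𝟙 _ := Subsingleton.elim _ _
    rw [h6, CategoryTheory.Functor.map_id] at h5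
    exact h5
  exact (ConcreteCategory.bijective_of_isIso ((betaP p chart hY hd g hg).app (WPU p chart hY g))).1
    (h4.trans (map_zero _).symm)

include hr hY in
/-- **`r` is scheme-theoretically dominant when `ψ` is injective on global sections**
(`Y` affine, `X` quasi-compact, `r` quasi-compact) -/
theorem isSchemeTheoreticallyDominant_of_injective [CompactSpace X] [QuasiCompact r]
    (hinj : Function.Injective (u.app ⊤).hom) : IsSchemeTheoreticallyDominant r := by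
  refine ⟨?_⟩
  refine Scheme.IdealSheafData.ext_of_iSup_eq_top
    (fun s : Σ d : {d : ℕ // 0 < d}, {g : 𝒮.presheaf.obj (op ⊤) // g ∈ 𝒮.deg ⊤ hY d.1} =>
      (⟨WPU p chart hY s.2.1, isAffineOpen_WPU p chart hY s.1.2 s.2.1 s.2.2⟩ : P.affineOpens)) ?_ fun s => ?_
  · refine top_le_iff.1 fun z _ => ?_
    obtain ⟨y₀, hy₀⟩ := (mem_range_emb p chart ⊤ hY z).2 trivial
    have hy₀' : RelProj.emb p chart ⊤ hY y₀ = z := hy₀
    obtain ⟨d, f, hd, hf, hy₀f, -⟩ := exists_pos_basicOpen_le (𝒮.deg ⊤ hY) ⊤ y₀ trivial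
    exact Opens.mem_iSup.2 ⟨⟨⟨d, hd⟩, ⟨f, hf⟩⟩, ⟨y₀, hy₀f, hy₀'⟩⟩
  · rw [Scheme.Hom.ker_apply, Scheme.IdealSheafData.ideal_bot]
    exact (RingHom.injective_iff_ker_eq_bot _).1
      (app_injective_WPU u p chart pL chartL r hr hY hinj s.1.2 s.2.1 s.2.2)

end sd

section amp

variable {Y X P PL : Scheme.{u}} {q : X ⟶ Y} {L : X.Modules} [L.IsQuasicoherent]
  {𝒮 : RelProj.QCGrAlg Y} {𝒮L : RelProj.QCGrAlg X} {j : L ⟶ 𝒮L.toModule} (hj : RelProj.IsGrSymAlg L 𝒮L j)
  (u : RelProj.QGrHom q 𝒮 𝒮L)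
  (p : P ⟶ Y) (chart : ∀ (U : Y.Opens) (hU : IsAffineOpen U), (((p ⁻¹ᵁ U : P.Opens) : Scheme.{u}) ≅ Proj (𝒮.deg U hU)))
  (hP : RelProj.IsRelProj 𝒮 p chart)
  (pL : PL ⟶ X)
  (chartL : ∀ (U : X.Opens) (hU : IsAffineOpen U), (((pL ⁻¹ᵁ U : PL.Opens) : Scheme.{u}) ≅ Proj (𝒮L.deg U hU)))
  (hPL : RelProj.IsRelProj 𝒮L pL chartL)
  (r : ((RelProj.domQ u pL chartL : PL.Opens) : Scheme.{u}) ⟶ P)
  (hr : RelProj.IsProjQMapOn u p chart pL chartL (RelProj.domQ u pL chartL) r)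
  (hY : IsAffineOpen (⊤ : Y.Opens))

include hj hP hPL hr hY in
/-- **`L` ample on quasi-compact `X`: `X → Proj ⊕ Γ(X, L^d)` is a quasi-compact scheme-theoretically
dominant open immersion** -/
theorem openImmersion_of_isAmple [CompactSpace X] (hL : PicF.IsInvertible L) (hLa : CohB1.IsAmple L)
    (hu : Function.Bijective (u.app ⊤).hom) :
    RelProj.domQ u pL chartL = ⊤ ∧ IsOpenImmersion r ∧ QuasiCompact r ∧ IsSchemeTheoreticallyDominant r := by
  have hc : IsCompact ((q ⁻¹ᵁ (⊤ : Y.Opens) : X.Opens) : Set X) := by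
    have h1 : ((q ⁻¹ᵁ (⊤ : Y.Opens) : X.Opens) : Set X) = Set.univ := by
      rw [Scheme.Hom.preimage_top]
      rfl
    rw [h1]
    exact isCompact_univ
  have hA : CohB1.IsAmple (L.restrict (q ⁻¹ᵁ (⊤ : Y.Opens)).ι) := GenLocus.isAmple_restrict hLa _ hc
  have hex : ∀ x : X, ∃ (d : ℕ) (f : 𝒮.presheaf.obj (op ⊤)),
      0 < d ∧ f ∈ 𝒮.deg ⊤ hY d ∧ x ∈ XTU u ⊤ d f ∧ IsAffineOpen (XTU u ⊤ d f) ∧ Cond3U u hY d f ∧
        Cond4U u hY d f := fun x =>
    exists_good_of_isAmple hj u hL hY hc hA hu x (le_preimage_top (q := q) ⊤ (Set.mem_univ x))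
  choose d f hd hf hx haff h3 h4 using hex
  obtain ⟨htop, hoi⟩ := openImmersion_of_family hj u p chart hP pL chartL hPL r hr hL (fun _ : X => ⊤)
    (fun _ => hY) d f
    ⟨fun a => ⟨hd a, hf a⟩, top_le_iff.1 fun x _ => Opens.mem_iSup.2 ⟨x, hx x⟩, haff, h3⟩ h4
  have hqc : QuasiCompact r := (quasiCompact_dominant hj u p chart pL chartL hPL r hr hY hL hu htop).1
  exact ⟨htop, hoi, hqc, isSchemeTheoreticallyDominant_of_injective u p chart pL chartL r hr hY hu.1⟩

end amp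

end Groth.Agent.Lib.Helper28.RLPsiU
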