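import Groth.Agent.Lib.Helper28.RLPsiU1

set_option autoImplicit false
universe u
open CategoryTheory CategoryTheory.Limits AlgebraicGeometry Opposite TopologicalSpace
open HomogeneousLocalization
noncomputable section

namespace Groth.Agent.Lib.Helper28.RLPsiU

open Groth.Agent.Lib.Helper28
open Groth.Agent.Lib.Helper28.RLPsi
open Groth.Agent.Lib.Helper28.RelProjBC (AffPair)
open Groth.Agent.Lib.Helper28.RelProjQ (φQ mem_range_emb)

section key

variable {Y X P PL : Scheme.{u}} {q : X ⟶ Y} {L : X.Modules} [L.IsQuasicoherent]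
  {𝒮 : RelProj.QCGrAlg Y} {𝒮L : RelProj.QCGrAlg X} {j : L ⟶ 𝒮L.toModule} (hj : RelProj.IsGrSymAlg L 𝒮L j)
  (u : RelProj.QGrHom q 𝒮 𝒮L)
  (p : P ⟶ Y) (chart : ∀ (U : Y.Opens) (hU : IsAffineOpen U), (((p ⁻¹ᵁ U : P.Opens) : Scheme.{u}) ≅ Proj (𝒮.deg U hU)))
  (hP : RelProj.IsRelProj 𝒮 p chart)
  (pL : PL ⟶ X)
  (chartL : ∀ (U : X.Opens) (hU : IsAffineOpen U), (((pL ⁻¹ᵁ U : PL.Opens) : Scheme.{u}) ≅ Proj (𝒮L.deg U hU)))
  (hPL : RelProj.IsRelProj 𝒮L pL chartL)
  (r : ((RelProj.domQ u pL chartL : PL.Opens) : Scheme.{u}) ⟶ P)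
  (hr : RelProj.IsProjQMapOn u p chart pL chartL (RelProj.domQ u pL chartL) r)
  {U : Y.Opens} (hU : IsAffineOpen U)

/-- condition (iii): every function on `X_t` is `ψ♭(s') t^{-m}` -/
def Cond3U (n : ℕ) (s : 𝒮.presheaf.obj (op U)) : Prop :=
  ∀ t : Γ(X, XTU u U n s), ∃ (m : ℕ) (_ : 0 < m) (s' : 𝒮.presheaf.obj (op U)) (_ : s' ∈ 𝒮.deg U hU (m * n)),
    (𝒮L.str.app (op (XTU u U n s))).hom t * (tauU u U s (XTU u U n s) (XTU_le u n s)) ^ m = tauU u U s' (XTU u U n s) (XTU_le u n s)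

/-- condition (iv) -/
def Cond4U (n : ℕ) (s : 𝒮.presheaf.obj (op U)) : Prop :=
  ∀ (m : ℕ), 0 < m → ∀ s' ∈ 𝒮.deg U hU (m * n), tauU u U s' (XTU u U n s) (XTU_le u n s) = 0 → ∃ (k : ℕ), 0 < k ∧ s ^ k * s' = 0

variable {n : ℕ} (hn : 0 < n) (s : 𝒮.presheaf.obj (op U)) (hs : s ∈ 𝒮.deg U hU n)

include hj hP hPL hr hn hs in
theorem image_preimage_WP (hL : PicF.IsInvertible L) :
    (RelProj.domQ u pL chartL).ι ''ᵁ (r ⁻¹ᵁ WPU p chart hU s) = pL ⁻¹ᵁ XTU u U n s :=
  preimage_basicOpenU_eq hj u p chart hP pL chartL hPL r hr hU hL hn s hs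

variable (hV : IsAffineOpen (XTU u U n s))

include hj hP hPL hr hn hs in
theorem basicOpen_tau_eq_top (hL : PicF.IsInvertible L) :
    Proj.basicOpen (𝒮L.deg (XTU u U n s) hV) (tauU u U s (XTU u U n s) (XTU_le u n s)) = ⊤ := by
  refine top_le_iff.1 fun y _ => ?_
  have h1 : pL (RelProj.emb pL chartL (XTU u U n s) hV y) ∈ XTU u U n s :=
    (mem_range_emb pL chartL (XTU u U n s) hV _).1 ⟨y, rfl⟩
  have h2 : RelProj.emb pL chartL (XTU u U n s) hV y ∈
      (RelProj.domQ u pL chartL).ι ''ᵁ (r ⁻¹ᵁ WPU p chart hU s) := by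
    rw [image_preimage_WP hj u p chart hP pL chartL hPL r hr hU hn s hs hL]
    exact h1
  exact (mem_preimage_iff_pair u p chart pL chartL hPL r hr ⟨U, hU, XTU u U n s, hV, XTU_le u n s⟩ hn s hs y).1 h2

/-- the graded map of the pair `(Y, X_t)` -/
abbrev phiV : 𝒮.deg U hU →+*ᵍ 𝒮L.deg (XTU u U n s) hV :=
  u.gradedAt U hU (XTU u U n s) hV (XTU_le u n s)

/-- `S_(s)` -/
abbrev RA : CommRingCat.{u} := CommRingCat.of (Away (𝒮.deg U hU) s)

/-- `𝒮L(X_t)_(t)` -/
abbrev RB : CommRingCat.{u} := CommRingCat.of (Away (𝒮L.deg (XTU u U n s) hV) (phiV u hU s hV s))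

/-- the ring map `S_(s) → 𝒮L(X_t)_(t)` -/
def psiAway : RA hU s ⟶ RB u hU s hV := CommRingCat.ofHom (Away.map (phiV u hU s hV) s)

/-- the chart `Spec S_(s) → P` -/
def betaP : Spec (RA hU s) ⟶ P := Proj.awayι (𝒮.deg U hU) s hs hn ≫ RelProj.emb p chart U hU

instance : IsOpenImmersion (betaP p chart hU hn s hs) := by
  unfold betaP
  infer_instance

/-- the chart `Spec 𝒮L(X_t)_(t) → PL` -/
def alphaE : Spec (RB u hU s hV) ⟶ PL :=
  RelProj.awayEmb u pL chartL U hU (XTU u U n s) hV (XTU_le u n s) hn s hs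

instance : IsOpenImmersion (alphaE u pL chartL hU hn s hs hV) := by
  unfold alphaE RelProj.awayEmb
  infer_instance

/-- the chart `Spec 𝒮L(X_t)_(t) → G(ψ)` -/
def alphaD : Spec (RB u hU s hV) ⟶ ((RelProj.domQ u pL chartL : PL.Opens) : Scheme.{u}) :=
  IsOpenImmersion.lift (RelProj.domQ u pL chartL).ι (alphaE u pL chartL hU hn s hs hV)
    (RelProj.range_awayEmb_subset_domQ u pL chartL U hU (XTU u U n s) hV (XTU_le u n s) hn s hs)

theorem alphaD_ι : alphaD u pL chartL hU hn s hs hV ≫ (RelProj.domQ u pL chartL).ι =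
    alphaE u pL chartL hU hn s hs hV :=
  IsOpenImmersion.lift_fac _ _ _

instance : IsOpenImmersion (alphaD u pL chartL hU hn s hs hV) := by
  have : IsOpenImmersion (alphaD u pL chartL hU hn s hs hV ≫ (RelProj.domQ u pL chartL).ι) := by
    rw [alphaD_ι]
    infer_instance
  exact IsOpenImmersion.of_comp _ (RelProj.domQ u pL chartL).ι

include hr in
theorem alphaD_r : alphaD u pL chartL hU hn s hs hV ≫ r =
    Spec.map (psiAway u hU s hV) ≫ betaP p chart hU hn s hs :=
  hr U hU (XTU u U n s) hV (XTU_le u n s) n hn s hs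
    (RelProj.range_awayEmb_subset_domQ u pL chartL U hU (XTU u U n s) hV (XTU_le u n s) hn s hs)

theorem opensRange_betaP : (betaP p chart hU hn s hs).opensRange = WPU p chart hU s := by
  unfold betaP WPU
  rw [Scheme.Hom.opensRange_comp, Proj.opensRange_awayι]

include hj hP hPL hr in
theorem opensRange_alphaD (hL : PicF.IsInvertible L) :
    (alphaD u pL chartL hU hn s hs hV).opensRange = r ⁻¹ᵁ WPU p chart hU s := by
  apply (RelProj.domQ u pL chartL).ι.image_injective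
  show (RelProj.domQ u pL chartL).ι ''ᵁ (alphaD u pL chartL hU hn s hs hV).opensRange =
    (RelProj.domQ u pL chartL).ι ''ᵁ (r ⁻¹ᵁ WPU p chart hU s)
  rw [image_preimage_WP hj u p chart hP pL chartL hPL r hr hU hn s hs hL, ← Scheme.Hom.opensRange_comp,
    opensRange_congr (alphaD_ι u pL chartL hU hn s hs hV)]
  have h0 : (alphaE u pL chartL hU hn s hs hV).opensRange =
      (Proj.awayι (𝒮L.deg (XTU u U n s) hV) (u.gradedAt U hU (XTU u U n s) hV (XTU_le u n s) s)
        ((u.gradedAt U hU (XTU u U n s) hV (XTU_le u n s)).map_mem hs) hn ≫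
          RelProj.emb pL chartL (XTU u U n s) hV).opensRange := rfl
  rw [h0, Scheme.Hom.opensRange_comp, Proj.opensRange_awayι]
  have h1 : Proj.basicOpen (𝒮L.deg (XTU u U n s) hV) ((u.gradedAt U hU (XTU u U n s) hV (XTU_le u n s)) s) = ⊤ :=
    basicOpen_tau_eq_top hj u p chart hP pL chartL hPL r hr hU hn s hs hV hL
  rw [h1, Scheme.Hom.image_top_eq_opensRange, RelProjBC.opensRange_emb]

include hj hP hPL hr in
/-- **the chart square of `r` over `D₊(s)` is cartesian** -/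
theorem isPullback_chart (hL : PicF.IsInvertible L) :
    IsPullback (alphaD u pL chartL hU hn s hs hV) (Spec.map (psiAway u hU s hV)) r (betaP p chart hU hn s hs) := by
  refine (IsOpenImmersion.isPullback (Spec.map (psiAway u hU s hV)) (alphaD u pL chartL hU hn s hs hV)
    (betaP p chart hU hn s hs) r (alphaD_r u p chart pL chartL r hr hU hn s hs hV) ?_).flip
  rw [opensRange_betaP, opensRange_alphaD hj u p chart hP pL chartL hPL r hr hU hn s hs hV hL]

include hj hP hPL hr in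
theorem opensRange_alphaE (hL : PicF.IsInvertible L) :
    (alphaE u pL chartL hU hn s hs hV).opensRange = pL ⁻¹ᵁ XTU u U n s := by
  have h0 : (alphaE u pL chartL hU hn s hs hV).opensRange =
      (Proj.awayι (𝒮L.deg (XTU u U n s) hV) (u.gradedAt U hU (XTU u U n s) hV (XTU_le u n s) s)
        ((u.gradedAt U hU (XTU u U n s) hV (XTU_le u n s)).map_mem hs) hn ≫
          RelProj.emb pL chartL (XTU u U n s) hV).opensRange := rfl
  rw [h0, Scheme.Hom.opensRange_comp, Proj.opensRange_awayι]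
  have h1 : Proj.basicOpen (𝒮L.deg (XTU u U n s) hV) ((u.gradedAt U hU (XTU u U n s) hV (XTU_le u n s)) s) = ⊤ :=
    basicOpen_tau_eq_top hj u p chart hP pL chartL hPL r hr hU hn s hs hV hL
  rw [h1, Scheme.Hom.image_top_eq_opensRange, RelProjBC.opensRange_emb]

/-- the structure map `O(X_t) → 𝒮L(X_t)_(t)` -/
def strB : Γ(X, XTU u U n s) ⟶ RB u hU s hV :=
  𝒮L.strZero (XTU u U n s) hV ≫
    CommRingCat.ofHom (fromZeroRingHom (𝒮L.deg (XTU u U n s) hV) (Submonoid.powers (phiV u hU s hV s)))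

include hPL in
theorem specMap_strB_fromSpec :
    Spec.map (strB u hU s hV) ≫ hV.fromSpec = alphaE u pL chartL hU hn s hs hV ≫ pL := by
  unfold strB alphaE RelProj.awayEmb
  rw [Spec.map_comp, Category.assoc, Category.assoc, emb_comp_pL hV pL chartL hPL,
    ← Proj.awayι_toSpecZero_assoc (𝒮L.deg (XTU u U n s) hV) _
      ((u.gradedAt U hU (XTU u U n s) hV (XTU_le u n s)).map_mem hs) hn]
  rfl

include hj hP hPL hr hn hs in
/-- `O(X_t) ≅ 𝒮L(X_t)_(t)` -/
theorem isIso_strB (hL : PicF.IsInvertible L) : IsIso (strB u hU s hV) := by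
  have hiso : IsIso pL := SymAlg.isIso_proj_symLine hL hj pL chartL hPL
  apply isIso_of_isIso_specMap
  have hrange : Set.range (alphaE u pL chartL hU hn s hs hV ≫ pL) = Set.range hV.fromSpec := by
    rw [hV.range_fromSpec]
    have h1 := opensRange_alphaE hj u p chart hP pL chartL hPL r hr hU hn s hs hV hL
    have h2 : (alphaE u pL chartL hU hn s hs hV ≫ pL).opensRange = XTU u U n s := by
      rw [Scheme.Hom.opensRange_comp, h1, Scheme.Hom.image_preimage_eq_opensRange_inf]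
      have : pL.opensRange = ⊤ := by
        apply top_le_iff.1
        intro x _
        exact pL.surjective x
      rw [this, top_inf_eq]
    exact congrArg (fun W : X.Opens => (W : Set X)) h2
  have h3 : Spec.map (strB u hU s hV) =
      (IsOpenImmersion.isoOfRangeEq (alphaE u pL chartL hU hn s hs hV ≫ pL) hV.fromSpec hrange).hom := by
    rw [← cancel_mono hV.fromSpec, IsOpenImmersion.isoOfRangeEq_hom_fac]
    exact specMap_strB_fromSpec u pL chartL hPL hU hn s hs hV
  rw [h3]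
  infer_instance

omit [L.IsQuasicoherent] in
theorem val_strB (t : Γ(X, XTU u U n s)) :
    ((strB u hU s hV).hom t).val =
      Localization.mk ((𝒮L.str.app (op (XTU u U n s))).hom t) (1 : Submonoid.powers (phiV u hU s hV s)) := rfl

omit [L.IsQuasicoherent] in
theorem psiAway_mk (m : ℕ) (s' : 𝒮.presheaf.obj (op U)) (hs' : s' ∈ 𝒮.deg U hU (m • n)) :
    (psiAway u hU s hV).hom (Away.mk (𝒮.deg U hU) hs m s' hs') =
      Away.mk (𝒮L.deg (XTU u U n s) hV) ((phiV u hU s hV).map_mem hs) m (phiV u hU s hV s')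
        ((phiV u hU s hV).map_mem hs') :=
  Away.map_mk (phiV u hU s hV) s hs m s' hs'

include hj hP hPL hr hn hs in
theorem surjective_psiAway_of_cond3 (hL : PicF.IsInvertible L) (h3 : Cond3U u hU n s) :
    Function.Surjective (psiAway u hU s hV).hom := by
  have hiso := isIso_strB hj u p chart hP pL chartL hPL r hr hU hn s hs hV hL
  intro b
  obtain ⟨t, rfl⟩ := (ConcreteCategory.bijective_of_isIso (strB u hU s hV)).2 b
  obtain ⟨m, hm, s', hs', heq⟩ := h3 t
  have hs'' : s' ∈ 𝒮.deg U hU (m • n) := by rw [smul_eq_mul]; exact hs'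
  refine ⟨Away.mk (𝒮.deg U hU) hs m s' hs'', ?_⟩
  rw [psiAway_mk u hU s hs hV m s' hs'', ext_iff_val, Away.val_mk]
  refine Eq.trans ?_ (val_strB u hU s hV t).symm
  rw [Localization.mk_eq_mk_iff, Localization.r_iff_exists]
  refine ⟨1, ?_⟩
  have heq' : (𝒮L.str.app (op (XTU u U n s))).hom t * (phiV u hU s hV s) ^ m = phiV u hU s hV s' := heq
  simp only [OneMemClass.coe_one, one_mul]
  rw [← heq']
  first | rfl | exact mul_comm _ _ | ring

omit [L.IsQuasicoherent] in
include hs in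
theorem deg_pow_mul (k m : ℕ) (s' : 𝒮.presheaf.obj (op U)) (hs' : s' ∈ 𝒮.deg U hU (m • n)) :
    s ^ k * s' ∈ 𝒮.deg U hU ((k + m) * n) := by
  have h := SetLike.mul_mem_graded (SetLike.pow_mem_graded k hs) hs'
  have e : k • n + m • n = (k + m) * n := by
    simp only [smul_eq_mul]
    ring
  rw [e] at h
  exact h

omit [L.IsQuasicoherent] in
include hs in
theorem cond3_of_surjective_psiAway (hsurj : Function.Surjective (psiAway u hU s hV).hom) : Cond3U u hU n s := by
  intro t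
  obtain ⟨a, ha⟩ := hsurj ((strB u hU s hV).hom t)
  obtain ⟨m, s', hs', rfl⟩ := Away.mk_surjective (𝒮.deg U hU) hs a
  rw [psiAway_mk u hU s hs hV m s' hs', ext_iff_val, Away.val_mk, val_strB,
    Localization.mk_eq_mk_iff, Localization.r_iff_exists] at ha
  obtain ⟨⟨_, k, rfl⟩, hk⟩ := ha
  simp only [OneMemClass.coe_one, one_mul] at hk
  refine ⟨k + 1 + m, by omega, s ^ (k + 1) * s', deg_pow_mul hU s hs (k + 1) m s' hs', ?_⟩
  show (𝒮L.str.app (op (XTU u U n s))).hom t * (phiV u hU s hV s) ^ (k + 1 + m) = phiV u hU s hV (s ^ (k + 1) * s')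
  have hk' : (phiV u hU s hV s) ^ k * phiV u hU s hV s' =
      (phiV u hU s hV s) ^ k * ((phiV u hU s hV s) ^ m * (𝒮L.str.app (op (XTU u U n s))).hom t) := hk
  rw [map_mul, map_pow, pow_succ, mul_assoc, mul_comm (phiV u hU s hV s) (phiV u hU s hV s'), ← mul_assoc, hk']
  ring

omit [L.IsQuasicoherent] in
include hs in
theorem cond4_of_injective_psiAway (hinj : Function.Injective (psiAway u hU s hV).hom) : Cond4U u hU n s := by
  intro m hm s' hs' h0
  have hs'' : s' ∈ 𝒮.deg U hU (m • n) := by rw [smul_eq_mul]; exact hs'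
  have h1 : (psiAway u hU s hV).hom (Away.mk (𝒮.deg U hU) hs m s' hs'') = 0 := by
    rw [psiAway_mk u hU s hs hV m s' hs'', ext_iff_val, Away.val_mk, val_zero]
    have h0' : phiV u hU s hV s' = 0 := h0
    rw [h0']
    exact Localization.mk_zero _
  have h2 : Away.mk (𝒮.deg U hU) hs m s' hs'' = 0 := hinj (h1.trans (map_zero _).symm)
  rw [ext_iff_val, Away.val_mk, val_zero, Localization.mk_eq_mk', IsLocalization.mk'_eq_zero_iff] at h2
  obtain ⟨⟨_, k, rfl⟩, hk⟩ := h2
  refine ⟨k + 1, by omega, ?_⟩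
  have hk' : s ^ k * s' = 0 := hk
  rw [pow_succ, mul_assoc, mul_comm s s', ← mul_assoc, hk', zero_mul]

omit [L.IsQuasicoherent] in
include hs in
theorem injective_psiAway_of_cond4 (h4 : Cond4U u hU n s) : Function.Injective (psiAway u hU s hV).hom := by
  rw [injective_iff_map_eq_zero]
  intro a ha
  obtain ⟨m, s', hs', rfl⟩ := Away.mk_surjective (𝒮.deg U hU) hs a
  rw [psiAway_mk u hU s hs hV m s' hs', ext_iff_val, Away.val_mk, val_zero, Localization.mk_eq_mk',
    IsLocalization.mk'_eq_zero_iff] at ha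
  obtain ⟨⟨_, k, rfl⟩, hk⟩ := ha
  have hk' : (phiV u hU s hV s) ^ k * phiV u hU s hV s' = 0 := hk
  have h1 : tauU u U (s ^ (k + 1) * s') (XTU u U n s) (XTU_le u n s) = 0 := by
    show phiV u hU s hV (s ^ (k + 1) * s') = 0
    rw [map_mul, map_pow, pow_succ, mul_assoc, mul_comm (phiV u hU s hV s) (phiV u hU s hV s'), ← mul_assoc,
      hk', zero_mul]
  obtain ⟨k', hk'pos, hk'0⟩ := h4 (k + 1 + m) (by omega) _ (deg_pow_mul hU s hs (k + 1) m s' hs') h1
  rw [ext_iff_val, Away.val_mk, val_zero, Localization.mk_eq_mk', IsLocalization.mk'_eq_zero_iff]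
  refine ⟨⟨s ^ (k' + (k + 1)), _, rfl⟩, ?_⟩
  show s ^ (k' + (k + 1)) * s' = 0
  rw [pow_add, mul_assoc]
  exact hk'0

end key

end Groth.Agent.Lib.Helper28.RLPsiU
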