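import Groth.Agent.Lib.Helper28.RLPsiU4

set_option autoImplicit false
universe u
open CategoryTheory CategoryTheory.Limits AlgebraicGeometry Opposite TopologicalSpace
noncomputable section

namespace Groth.Agent.Lib.Helper28.RLPsiU

open Groth.Agent.Lib.Helper28
open Groth.Agent.Lib.Helper28.RLPsi

section colim

variable {Y X : Scheme.{u}} {q : X ⟶ Y}
  {𝒮 : RelProj.QCGrAlg Y} {𝒮L : RelProj.QCGrAlg X}
  (u : RelProj.QGrHom q 𝒮 𝒮L)
  {Λ : Type u} [Preorder Λ] [IsDirected Λ (· ≤ ·)] [Nonempty Λ]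
  (𝒮i : Λ → RelProj.QCGrAlg Y) (φ : ∀ i, (𝒮i i).toQCAlg ⟶ 𝒮.toQCAlg) (hφ : ∀ i, RelProj.IsGradedHom (φ i))
  (t : ∀ i j, i ≤ j → ((𝒮i i).toQCAlg ⟶ (𝒮i j).toQCAlg)) (ht : ∀ i j (h : i ≤ j), RelProj.IsGradedHom (t i j h))
  (hφt : ∀ i j (h : i ≤ j), t i j h ≫ φ j = φ i)
  (hsurj : ∀ (U : Y.Opens), IsAffineOpen U → ∀ x : 𝒮.presheaf.obj (op U),
    ∃ (i : Λ) (y : (𝒮i i).presheaf.obj (op U)), ((φ i).hom.app (op U)).hom y = x)
  (ui : ∀ i, RelProj.QGrHom q (𝒮i i) 𝒮L) (hui : ∀ i (U : Y.Opens), (ui i).app U = (φ i).hom.app (op U) ≫ u.app U)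

include ht hφt in
theorem lift_le {U : Y.Opens} (hU : IsAffineOpen U) {d : ℕ} {f : 𝒮.presheaf.obj (op U)} {i₁ i : Λ} (h : i₁ ≤ i)
    (y : (𝒮i i₁).presheaf.obj (op U)) (hy : y ∈ (𝒮i i₁).deg U hU d) (hyf : ((φ i₁).hom.app (op U)).hom y = f) :
    ∃ y' : (𝒮i i).presheaf.obj (op U), y' ∈ (𝒮i i).deg U hU d ∧ ((φ i).hom.app (op U)).hom y' = f := by
  refine ⟨((t i₁ i h).hom.app (op U)).hom y, ht i₁ i h U hU d y hy, ?_⟩
  have e : (φ i₁).hom.app (op U) = (t i₁ i h).hom.app (op U) ≫ (φ i).hom.app (op U) := by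
    rw [← hφt i₁ i h]
    rfl
  rw [← hyf, e]
  rfl

include hφ ht hφt hsurj in
/-- finitely many homogeneous sections over an affine open lift simultaneously, at all large indices -/
theorem exists_lift_finite {U : Y.Opens} (hU : IsAffineOpen U) {K : Type*} [Finite K] (d : K → ℕ)
    (f : K → 𝒮.presheaf.obj (op U)) (hf : ∀ k, f k ∈ 𝒮.deg U hU (d k)) :
    ∃ i₀ : Λ, ∀ i, i₀ ≤ i → ∀ k, ∃ y : (𝒮i i).presheaf.obj (op U), y ∈ (𝒮i i).deg U hU (d k) ∧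
      ((φ i).hom.app (op U)).hom y = f k := by
  have h1 : ∀ k, ∃ (i : Λ) (y : (𝒮i i).presheaf.obj (op U)), y ∈ (𝒮i i).deg U hU (d k) ∧
      ((φ i).hom.app (op U)).hom y = f k := fun k => exists_homog_lift 𝒮i φ hφ hsurj U hU (f k) (hf k)
  choose ik yk hyk hyfk using h1
  obtain ⟨i₀, hi₀⟩ := Finite.exists_le ik
  refine ⟨i₀, fun i hi k => ?_⟩
  exact lift_le 𝒮i φ t ht hφt hU ((hi₀ k).trans hi) (yk k) (hyk k) (hyfk k)

include hφ ht hφt hsurj hui in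
/-- condition (iii) descends to all large indices, for `q` locally of finite type -/
theorem exists_cond3W_lift [LocallyOfFiniteType q] {U : Y.Opens} (hU : IsAffineOpen U) {n : ℕ}
    (s : 𝒮.presheaf.obj (op U)) (hs : s ∈ 𝒮.deg U hU n) (hV : IsAffineOpen (XTU u U n s))
    (h3 : Cond3U u hU n s) :
    ∃ i₀ : Λ, ∀ i, i₀ ≤ i → ∃ y : (𝒮i i).presheaf.obj (op U), y ∈ (𝒮i i).deg U hU n ∧
      ((φ i).hom.app (op U)).hom y = s ∧ Cond3W (ui i) hU n y (XTU u U n s) (XTU_le u n s) := by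
  classical
  have hft : (q.appLE U (XTU u U n s) (XTU_le u n s)).hom.FiniteType :=
    HasRingHomProperty.appLE @LocallyOfFiniteType q inferInstance ⟨U, hU⟩ ⟨XTU u U n s, hV⟩ (XTU_le u n s)
  obtain ⟨G, hG⟩ := @Algebra.FiniteType.out _ _ _ _ (q.appLE U (XTU u U n s) (XTU_le u n s)).hom.toAlgebra hft
  have hg : ∀ g : G, Good u hU n s (XTU u U n s) (XTU_le u n s) g.1 := fun g => h3 g.1
  choose m hm s' hs' heq using hg
  -- the finite family to lift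
  let d : Option G → ℕ := fun k => k.elim n (fun g => m g * n)
  let f : Option G → 𝒮.presheaf.obj (op U) := fun k => k.elim s (fun g => s' g)
  have hf : ∀ k, f k ∈ 𝒮.deg U hU (d k) := by
    intro k
    cases k with
    | none => exact hs
    | some g => exact hs' g
  obtain ⟨i₀, hi₀⟩ := exists_lift_finite 𝒮i φ hφ t ht hφt hsurj hU d f hf
  refine ⟨i₀, fun i hi => ?_⟩
  have H := hi₀ i hi
  obtain ⟨y, hy, hys⟩ := H none
  have hys' : ((φ i).hom.app (op U)).hom y = s := hys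
  refine ⟨y, hy, hys', ?_⟩
  refine cond3W_of_adjoin (ui i) hU hy (XTU_le u n s) (G : Set _) hG ?_
  intro g hgG
  obtain ⟨y', hy', hy's⟩ := H (some ⟨g, hgG⟩)
  have hy's' : ((φ i).hom.app (op U)).hom y' = s' ⟨g, hgG⟩ := hy's
  refine ⟨m ⟨g, hgG⟩, hm ⟨g, hgG⟩, y', hy', ?_⟩
  rw [tauU_push u (ui i) (φ i) (hui i), tauU_push u (ui i) (φ i) (hui i), hys', hy's']
  exact heq ⟨g, hgG⟩

include hφ ht hφt hsurj hui in
/-- **a family satisfying (i), (ii), (iii) for the colimit comes from all large indices** -/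
theorem exists_goodFamily_lift [LocallyOfFiniteType q] [CompactSpace X] {ι : Type u} (U : ι → Y.Opens)
    (hU : ∀ a, IsAffineOpen (U a)) (n : ι → ℕ) (s : ∀ a, 𝒮.presheaf.obj (op (U a)))
    (h : IsGoodFamily u U hU n s) :
    ∃ i₀ : Λ, ∀ i, i₀ ≤ i → ∃ (ι' : Type u) (U' : ι' → Y.Opens) (hU' : ∀ a, IsAffineOpen (U' a)) (n' : ι' → ℕ)
      (s' : ∀ a, (𝒮i i).presheaf.obj (op (U' a))), IsGoodFamily (ui i) U' hU' n' s' := by
  classical
  obtain ⟨hns, hcov, haff, h3⟩ := h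
  obtain ⟨F, hF⟩ := isCompact_univ.elim_finite_subcover (fun a => ((XTU u (U a) (n a) (s a) : X.Opens) : Set X))
    (fun a => (XTU u (U a) (n a) (s a)).isOpen) (fun x _ => by
      have hx : x ∈ (⨆ a, XTU u (U a) (n a) (s a)) := by rw [hcov]; trivial
      obtain ⟨a, ha⟩ := Opens.mem_iSup.1 hx
      exact Set.mem_iUnion.2 ⟨a, ha⟩)
  have h1 : ∀ a : F, ∃ i₀ : Λ, ∀ i, i₀ ≤ i → ∃ y : (𝒮i i).presheaf.obj (op (U a.1)),
      y ∈ (𝒮i i).deg (U a.1) (hU a.1) (n a.1) ∧ ((φ i).hom.app (op (U a.1))).hom y = s a.1 ∧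
        Cond3W (ui i) (hU a.1) (n a.1) y (XTU u (U a.1) (n a.1) (s a.1)) (XTU_le u (n a.1) (s a.1)) :=
    fun a => exists_cond3W_lift u 𝒮i φ hφ t ht hφt hsurj ui hui (hU a.1) (s a.1) (hns a.1).2 (haff a.1) (h3 a.1)
  choose i₀a hi₀a using h1
  obtain ⟨i₀, hi₀⟩ := Finite.exists_le i₀a
  refine ⟨i₀, fun i hi => ?_⟩
  have h2 : ∀ a : F, ∃ y : (𝒮i i).presheaf.obj (op (U a.1)),
      y ∈ (𝒮i i).deg (U a.1) (hU a.1) (n a.1) ∧ ((φ i).hom.app (op (U a.1))).hom y = s a.1 ∧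
        Cond3W (ui i) (hU a.1) (n a.1) y (XTU u (U a.1) (n a.1) (s a.1)) (XTU_le u (n a.1) (s a.1)) :=
    fun a => hi₀a a i ((hi₀ a).trans hi)
  choose y hy hys hy3 using h2
  have hX : ∀ a : F, XTU (ui i) (U a.1) (n a.1) (y a) = XTU u (U a.1) (n a.1) (s a.1) := by
    intro a
    rw [XTU_push u (ui i) (φ i) (hui i), hys a]
  refine ⟨F, fun a => U a.1, fun a => hU a.1, fun a => n a.1, y,
    fun a => ⟨(hns a.1).1, hy a⟩, ?_, fun a => ?_, fun a => ?_⟩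
  · refine top_le_iff.1 fun x _ => ?_
    obtain ⟨a, haF, hxa⟩ : ∃ a, a ∈ F ∧ x ∈ XTU u (U a) (n a) (s a) := by
      have := hF (Set.mem_univ x)
      simp only [Set.mem_iUnion] at this
      obtain ⟨a, haF, hxa⟩ := this
      exact ⟨a, haF, hxa⟩
    refine Opens.mem_iSup.2 ⟨⟨a, haF⟩, ?_⟩
    rw [hX ⟨a, haF⟩]
    exact hxa
  · rw [hX a]
    exact haff a.1
  · exact cond3W_congr (ui i) (hU a.1) (n a.1) (y a) (hX a).symm _ _ (hy3 a)

end colim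

end Groth.Agent.Lib.Helper28.RLPsiU
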