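import Groth.Agent.Lib.Helper28.RLPsiU6

set_option autoImplicit false
universe u
open CategoryTheory CategoryTheory.Limits AlgebraicGeometry Opposite TopologicalSpace
open HomogeneousLocalization
noncomputable section

namespace Groth.Agent.Lib.Helper28.RLPsiU

open Groth.Agent.Lib.Helper28 Groth.Agent.Lib.Helper28.QCohLoc Groth.Agent.Lib.Helper28.TraceAlg
open Groth.Agent.Lib.Helper28.GenLocus Groth.Agent.Lib.Helper28.SymAlg
open Groth.Agent.Lib.Helper28.RLPsi Groth.Agent.Lib.Helper28.SymPow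
open Groth.Agent.Lib.Helper28.RelProjBC (AffPair)
open Groth.Agent.Lib.Helper28.RelProjQ (φQ mem_range_emb)
open Groth.Agent.Lib.Helper28.ProjQ (mem_dom_iff exists_basicOpen)
open Groth.Agent.Lib.Helper28.ProjQRel (D glue_of_isProjQMapOn glue_comp_p)

attribute [local instance] algAt

section pt

variable {Y X P PL : Scheme.{u}} {q : X ⟶ Y} {L : X.Modules} [L.IsQuasicoherent]
  {𝒮 : RelProj.QCGrAlg Y} {𝒮L : RelProj.QCGrAlg X} {j : L ⟶ 𝒮L.toModule} (hj : RelProj.IsGrSymAlg L 𝒮L j)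
  (u : RelProj.QGrHom q 𝒮 𝒮L)
  (p : P ⟶ Y) (chart : ∀ (U : Y.Opens) (hU : IsAffineOpen U), (((p ⁻¹ᵁ U : P.Opens) : Scheme.{u}) ≅ Proj (𝒮.deg U hU)))
  (hP : RelProj.IsRelProj 𝒮 p chart)
  (pL : PL ⟶ X)
  (chartL : ∀ (U : X.Opens) (hU : IsAffineOpen U), (((pL ⁻¹ᵁ U : PL.Opens) : Scheme.{u}) ≅ Proj (𝒮L.deg U hU)))
  (hPL : RelProj.IsRelProj 𝒮L pL chartL)
  (r : ((RelProj.domQ u pL chartL : PL.Opens) : Scheme.{u}) ⟶ P)
  (hr : RelProj.IsProjQMapOn u p chart pL chartL (RelProj.domQ u pL chartL) r)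

include hj in
/-- relative ampleness from affine loci `X_t` -/
theorem isRelAmple_of_forall_exists_affine_XTU [QuasiCompact q] (hL : PicF.IsInvertible L)
    (H : ∀ (U : Y.Opens) (hU : IsAffineOpen U) (x : X), x ∈ q ⁻¹ᵁ U →
      ∃ (d : ℕ) (f : 𝒮.presheaf.obj (op U)), 0 < d ∧ f ∈ 𝒮.deg U hU d ∧ x ∈ XTU u U d f ∧
        IsAffineOpen (XTU u U d f)) : RelAmple.IsRelAmple q L := by
  refine ⟨inferInstance, fun V => ?_⟩
  have hLV := AmpleIso.isInvertible_restrict (q ⁻¹ᵁ V.1).ι L hL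
  have hc : IsCompact ((q ⁻¹ᵁ V.1 : X.Opens) : Set X) :=
    QuasiCompact.isCompact_preimage (f := q) _ V.1.isOpen V.2.isCompact
  refine ⟨hLV, isCompact_iff_compactSpace.1 hc, fun y => ?_⟩
  obtain ⟨d, f, hd, hf, hxf, haff⟩ := H V.1 V.2 ((q ⁻¹ᵁ V.1).ι y) y.2
  obtain ⟨n, rfl⟩ : ∃ n, d = n + 1 := ⟨d - 1, by omega⟩
  obtain ⟨s, hs⟩ := exists_section_of_locDeg hj hL (n + 1) (q ⁻¹ᵁ V.1) (tauU u V.1 f (q ⁻¹ᵁ V.1) le_rfl)
    (locDeg_tauU u V.2 hf _ le_rfl)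
  refine ⟨n, s, ?_, ?_⟩
  · rw [hs, ← XTU_eq_NVloc]
    exact hxf
  · rw [hs, ← XTU_eq_NVloc]
    refine haff.preimage_of_isOpenImmersion _ ?_
    rw [Scheme.Opens.opensRange_ι]
    exact XTU_le u (n + 1) f

include hj hP hPL hr in
/-- if `r_{L,ψ}` is everywhere defined and a topological embedding, every point of `q⁻¹ U` lies in an affine `X_t` -/
theorem exists_affine_XTU_of_embedding (hL : PicF.IsInvertible L) (htop : RelProj.domQ u pL chartL = ⊤)
    (hemb : Topology.IsEmbedding r.base) {U : Y.Opens} (hU : IsAffineOpen U) (x : X) (hxU : x ∈ q ⁻¹ᵁ U) :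
    ∃ (d : ℕ) (f : 𝒮.presheaf.obj (op U)), 0 < d ∧ f ∈ 𝒮.deg U hU d ∧ x ∈ XTU u U d f ∧
      IsAffineOpen (XTU u U d f) := by
  have hiso : IsIso pL := SymAlg.isIso_proj_symLine hL hj pL chartL hPL
  have hover : r ≫ p = (RelProj.domQ u pL chartL).ι ≫ pL ≫ q :=
    glue_comp_p u p chart hP pL chartL hPL r (glue_of_isProjQMapOn u p chart pL chartL r hr)
  obtain ⟨W₀, g, hxW₀, hW₀, hg, hW₀U⟩ := exists_isGen_affine_le hL x _ hxU
  obtain ⟨z, rfl⟩ := pL.surjective x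
  have hz : z ∈ RelProj.domQ u pL chartL := by rw [htop]; trivial
  let w : ((RelProj.domQ u pL chartL : PL.Opens) : Scheme.{u}) := ⟨z, hz⟩
  have hpU : p (r w) ∈ U := by
    have h1 : p (r w) = q (pL ((RelProj.domQ u pL chartL).ι w)) := congrArg (fun k => k w) hover
    rw [h1]
    exact hxU
  -- the open of `P` cutting out the preimage of `W₀`
  let A : ((RelProj.domQ u pL chartL : PL.Opens) : Scheme.{u}).Opens := ((RelProj.domQ u pL chartL).ι ≫ pL) ⁻¹ᵁ W₀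
  obtain ⟨t, ht, htA⟩ := hemb.isInducing.isOpen_iff.1 A.isOpen
  have hwt : r w ∈ t := by
    have : w ∈ (r.base ⁻¹' t) := by
      rw [htA]
      exact hxW₀
    exact this
  obtain ⟨y₀, hy₀⟩ := (mem_range_emb p chart U hU (r w)).2 hpU
  have hy₀' : RelProj.emb p chart U hU y₀ = r w := hy₀
  obtain ⟨d, f, hd, hf, hy₀f, hfle⟩ := exists_pos_basicOpen_le (𝒮.deg U hU)
    ((RelProj.emb p chart U hU) ⁻¹ᵁ ⟨t, ht⟩) y₀ (by
      show RelProj.emb p chart U hU y₀ ∈ t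
      rw [hy₀']
      exact hwt)
  have hmem : r w ∈ WPU p chart hU f := ⟨y₀, hy₀f, hy₀'⟩
  have hxf : pL z ∈ XTU u U d f := by
    have h1 : z ∈ (RelProj.domQ u pL chartL).ι ''ᵁ (r ⁻¹ᵁ WPU p chart hU f) := ⟨w, hmem, rfl⟩
    rw [image_preimage_WP hj u p chart hP pL chartL hPL r hr hU hd f hf hL] at h1
    exact h1
  have hXW : XTU u U d f ≤ W₀ := by
    intro x' hx'
    obtain ⟨z', rfl⟩ := pL.surjective x'
    have h1 : z' ∈ pL ⁻¹ᵁ XTU u U d f := hx'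
    rw [← image_preimage_WP hj u p chart hP pL chartL hPL r hr hU hd f hf hL] at h1
    obtain ⟨w', ⟨y', hy', hy'w⟩, rfl⟩ := h1
    have h2 : r w' ∈ t := by
      have h3 : RelProj.emb p chart U hU y' = r w' := hy'w
      rw [← h3]
      exact hfle hy'
    have h3 : w' ∈ (r.base ⁻¹' t) := h2
    rw [htA] at h3
    exact h3
  refine ⟨d, f, hd, hf, hxf, ?_⟩
  -- `X_t` is a basic open of `W₀`
  have hmemdeg : tauU u U f W₀ hW₀U ∈ 𝒮L.deg W₀ hW₀ d := u.map_mem U hU W₀ hW₀ hW₀U hf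
  obtain ⟨b, hb⟩ := exists_eq_str_mul_pow hj hW₀ hg d _ hmemdeg
  have hb' : rS 𝒮L hW₀U (tauU u U f (q ⁻¹ᵁ U) le_rfl) =
      (𝒮L.str.app (op W₀)).hom b * asR 𝒮L.toQCAlg (j.app W₀ g) ^ d := by
    rw [rS_tauU]
    exact hb
  have heq : XTU u U d f = X.basicOpen b := by
    refine Opens.ext (Set.ext fun x' => ?_)
    show x' ∈ XTU u U d f ↔ x' ∈ X.basicOpen b
    constructor
    · intro hx'
      have h1 := hx'
      rw [XTU_eq_NVloc] at h1
      exact (mem_NVloc_iff_mem_basicOpen hj d _ _ hW₀ hg hW₀U b hb' x' (hXW hx')).1 h1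
    · intro hx'
      rw [XTU_eq_NVloc]
      exact (mem_NVloc_iff_mem_basicOpen hj d _ _ hW₀ hg hW₀U b hb' x' (X.basicOpen_le b hx')).2 hx'
  rw [heq]
  exact hW₀.basicOpen b

include hj hP hPL hr in
/-- **if `r_{L,ψ}` is everywhere defined and a topological embedding then `L` is relatively ample** -/
theorem isRelAmple_of_embedding [QuasiCompact q] (hL : PicF.IsInvertible L)
    (htop : RelProj.domQ u pL chartL = ⊤) (hemb : Topology.IsEmbedding r.base) : RelAmple.IsRelAmple q L :=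
  isRelAmple_of_forall_exists_affine_XTU hj u hL fun U hU x hx =>
    exists_affine_XTU_of_embedding hj u p chart hP pL chartL hPL r hr hL htop hemb hU x hx

end pt

end Groth.Agent.Lib.Helper28.RLPsiU
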