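import Groth.Agent.Lib.Helper28.RLPsiV9
import Mathlib.GroupTheory.CosetCover

set_option autoImplicit false
universe u
open CategoryTheory CategoryTheory.Limits AlgebraicGeometry Opposite TopologicalSpace
open HomogeneousLocalization
open scoped HomogeneousIdeal
noncomputable section

namespace Groth.Agent.Lib.Helper28.RLPsiV

open Groth.Agent.Lib.Helper28 Groth.Agent.Lib.Helper28.QCohLoc Groth.Agent.Lib.Helper28.TraceAlg
open Groth.Agent.Lib.Helper28.GenLocus Groth.Agent.Lib.Helper28.SymAlg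
open Groth.Agent.Lib.Helper28.RLPsi Groth.Agent.Lib.Helper28.RelTwistVal Groth.Agent.Lib.Helper28.RLPsiU
open Groth.Agent.Lib.Helper28.PullbackInv Groth.Agent.Lib.Helper28.TensorGen

section one

variable {X Y P' : Scheme.{u}} (i : X ⟶ P') {p' : P' ⟶ Y} {L : X.Modules}
  {E' : Y.Modules} [E'.IsQuasicoherent]
  {𝒮' : RelProj.QCGrAlg Y} {j' : E' ⟶ 𝒮'.toModule} (hS' : RelProj.IsGrSymAlg E' 𝒮' j')
  {chart' : ∀ (U : Y.Opens) (hU : IsAffineOpen U), (((p' ⁻¹ᵁ U : P'.Opens) : Scheme.{u}) ≅ Proj (𝒮'.deg U hU))}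
  {O1 : P'.Modules}
  {lam : ∀ (U : Y.Opens) (hU : IsAffineOpen U),
    O1 ⟶ (Scheme.Modules.pushforward (RelProj.emb p' chart' U hU)).obj (GrTwist.twist (𝒮'.deg U hU) ((1 : ℕ) : ℤ))}
  (hO : RelProj.IsRelTwist 𝒮' p' chart' ((1 : ℕ) : ℤ) O1 lam)
  (e : L ≅ (Scheme.Modules.pullback i).obj O1)
  {U : Y.Opens} (hU : IsAffineOpen U)

/-- the locus where the global section `t_{e₁}` generates `L`, when `X` lies over `U` -/
theorem mem_genLocus_tE_iff (hXU : ∀ x : X, p' (i x) ∈ U) (e₁ : Γ(E', U)) (y : X)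
    (z : Proj (𝒮'.deg U hU)) (hz : (RelProj.emb p' chart' U hU).base z = i y) :
    y ∈ CohB1.genLocus L (TwistGen.ofSection L
      (res L (fun x _ => hXU x : (⊤ : X.Opens) ≤ (i ≫ p') ⁻¹ᵁ U)
        (tE i hO e hU (asR 𝒮'.toQCAlg (j'.app U e₁)) (hS'.2 U hU e₁)))) ↔
      asR 𝒮'.toQCAlg (j'.app U e₁) ∉ z.asHomogeneousIdeal := by
  obtain ⟨e₀, he₀⟩ := exists_deg_one_not_mem hS' hU z
  have hzW : (RelProj.emb p' chart' U hU).base z ∈ WPU p' chart' hU (asR 𝒮'.toQCAlg (j'.app U e₀)) :=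
    (mem_WPU_iff hU _ z).2 he₀
  have hix : i y ∈ WPU p' chart' hU (asR 𝒮'.toQCAlg (j'.app U e₀)) := by
    rw [← hz]
    exact hzW
  have hyW : y ∈ i ⁻¹ᵁ WPU p' chart' hU (asR 𝒮'.toQCAlg (j'.app U e₀)) := hix
  obtain ⟨c, hr, hc⟩ := exists_coef hO hU (asR 𝒮'.toQCAlg (j'.app U e₀)) (hS'.2 U hU e₀)
    (asR 𝒮'.toQCAlg (j'.app U e₁)) (hS'.2 U hU e₁)
  have hF := res_tE_eq i hS' hO e hU e₀
    (le_refl (i ⁻¹ᵁ WPU p' chart' hU (asR 𝒮'.toQCAlg (j'.app U e₀)))) _ (hS'.2 U hU e₁) c hc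
  have hgen := isGen_g0 i hS' hO e hU e₀
    (le_refl (i ⁻¹ᵁ WPU p' chart' hU (asR 𝒮'.toQCAlg (j'.app U e₀))))
  have key := genLocus_inf_eq (TwistGen.ofSection L
      (res L (fun x _ => hXU x : (⊤ : X.Opens) ≤ (i ≫ p') ⁻¹ᵁ U)
        (tE i hO e hU (asR 𝒮'.toQCAlg (j'.app U e₁)) (hS'.2 U hU e₁))))
    (i ⁻¹ᵁ WPU p' chart' hU (asR 𝒮'.toQCAlg (j'.app U e₀))) _ hgen
    ((i.appLE _ _ (le_refl (i ⁻¹ᵁ WPU p' chart' hU (asR 𝒮'.toQCAlg (j'.app U e₀))))).hom c) (by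
      rw [secOf_ofSection, res_res]
      exact hF)
  have h1 : X.basicOpen ((i.appLE _ _ (le_refl (i ⁻¹ᵁ WPU p' chart' hU (asR 𝒮'.toQCAlg (j'.app U e₀))))).hom c) =
      i ⁻¹ᵁ WPU p' chart' hU (asR 𝒮'.toQCAlg (j'.app U e₀)) ⊓ i ⁻¹ᵁ (P'.basicOpen c) := by
    unfold Scheme.Hom.appLE
    rw [CommRingCat.comp_apply, Scheme.basicOpen_res, Scheme.preimage_basicOpen]
  have h2 : y ∈ CohB1.genLocus L (TwistGen.ofSection L
      (res L (fun x _ => hXU x : (⊤ : X.Opens) ≤ (i ≫ p') ⁻¹ᵁ U)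
        (tE i hO e hU (asR 𝒮'.toQCAlg (j'.app U e₁)) (hS'.2 U hU e₁)))) ↔
      y ∈ CohB1.genLocus L (TwistGen.ofSection L
        (res L (fun x _ => hXU x : (⊤ : X.Opens) ≤ (i ≫ p') ⁻¹ᵁ U)
          (tE i hO e hU (asR 𝒮'.toQCAlg (j'.app U e₁)) (hS'.2 U hU e₁)))) ⊓
          i ⁻¹ᵁ WPU p' chart' hU (asR 𝒮'.toQCAlg (j'.app U e₀)) :=
    ⟨fun h => ⟨h, hyW⟩, fun h => h.1⟩
  rw [h2, key, h1, ← hr.mem_basicOpen_iff le_rfl z hzW]
  constructor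
  · rintro ⟨-, h3⟩
    have h4 : i y ∈ P'.basicOpen c := h3
    rw [← hz] at h4
    exact h4
  · intro h3
    refine ⟨hyW, ?_⟩
    show i y ∈ P'.basicOpen c
    rw [← hz]
    exact h3

end one

section field

variable (k : Type u) [Field k] [Infinite k] {X P' : Scheme.{u}} (i : X ⟶ P')
  {p' : P' ⟶ Spec (CommRingCat.of k)} {L : X.Modules}
  {E' : (Spec (CommRingCat.of k)).Modules} [E'.IsQuasicoherent]
  {𝒮' : RelProj.QCGrAlg (Spec (CommRingCat.of k))} {j' : E' ⟶ 𝒮'.toModule} (hS' : RelProj.IsGrSymAlg E' 𝒮' j')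
  {chart' : ∀ (U : (Spec (CommRingCat.of k)).Opens) (hU : IsAffineOpen U),
    (((p' ⁻¹ᵁ U : P'.Opens) : Scheme.{u}) ≅ Proj (𝒮'.deg U hU))}
  {O1 : P'.Modules}
  {lam : ∀ (U : (Spec (CommRingCat.of k)).Opens) (hU : IsAffineOpen U),
    O1 ⟶ (Scheme.Modules.pushforward (RelProj.emb p' chart' U hU)).obj (GrTwist.twist (𝒮'.deg U hU) ((1 : ℕ) : ℤ))}
  (hO : RelProj.IsRelTwist 𝒮' p' chart' ((1 : ℕ) : ℤ) O1 lam)
  (e : L ≅ (Scheme.Modules.pullback i).obj O1)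

include hS' hO e in
/-- over an infinite field, a single section `t_e` generates `L ≅ i^*O(1)` at finitely many given points -/
theorem exists_section_genLocus (ι : Type) [Finite ι] (y : ι → X) :
    ∃ s : Coh.structureModule X ⟶ L, ∀ a : ι, y a ∈ CohB1.genLocus L s := by
  classical
  have hU : IsAffineOpen (⊤ : (Spec (CommRingCat.of k)).Opens) := isAffineOpen_top _
  have hXU : ∀ x : X, p' (i x) ∈ (⊤ : (Spec (CommRingCat.of k)).Opens) := fun _ => trivial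
  have hz : ∀ a : ι, ∃ z : Proj (𝒮'.deg ⊤ hU), (RelProj.emb p' chart' ⊤ hU).base z = i (y a) := fun a =>
    (RelProjQ.mem_range_emb p' chart' ⊤ hU (i (y a))).2 trivial
  choose z hz using hz
  let ρ : k →+* Γ(Spec (CommRingCat.of k), ⊤) := (Scheme.ΓSpecIso (CommRingCat.of k)).inv.hom
  letI : Module k Γ(E', ⊤) := Module.compHom _ ρ
  let H : ι → Submodule k Γ(E', ⊤) := fun a =>
    { carrier := {e₁ | asR 𝒮'.toQCAlg (j'.app ⊤ e₁) ∈ (z a).asHomogeneousIdeal}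
      add_mem' := by
        intro e₁ e₂ h₁ h₂
        have h3 : asR 𝒮'.toQCAlg (j'.app ⊤ (e₁ + e₂)) =
            asR 𝒮'.toQCAlg (j'.app ⊤ e₁) + asR 𝒮'.toQCAlg (j'.app ⊤ e₂) := by
          rw [map_add]
          rfl
        show asR 𝒮'.toQCAlg (j'.app ⊤ (e₁ + e₂)) ∈ (z a).asHomogeneousIdeal
        rw [h3]
        exact Ideal.add_mem _ h₁ h₂
      zero_mem' := by
        show asR 𝒮'.toQCAlg (j'.app ⊤ 0) ∈ (z a).asHomogeneousIdeal
        rw [map_zero]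
        exact Ideal.zero_mem _
      smul_mem' := by
        intro c e₁ h₁
        have h3 : asR 𝒮'.toQCAlg (j'.app ⊤ (ρ c • e₁)) =
            (𝒮'.str.app (op ⊤)).hom (ρ c) * asR 𝒮'.toQCAlg (j'.app ⊤ e₁) := by
          rw [Scheme.Modules.Hom.app_smul]
          rfl
        show asR 𝒮'.toQCAlg (j'.app ⊤ (ρ c • e₁)) ∈ (z a).asHomogeneousIdeal
        rw [h3]
        exact Ideal.mul_mem_left _ _ h₁ }
  have hex : ∃ e₁ : Γ(E', ⊤), ∀ a : ι, asR 𝒮'.toQCAlg (j'.app ⊤ e₁) ∉ (z a).asHomogeneousIdeal := by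
    by_contra hcon
    push_neg at hcon
    have hcov : ⋃ a, (H a : Set Γ(E', ⊤)) = Set.univ := by
      refine Set.eq_univ_of_forall fun e₁ => ?_
      obtain ⟨a, ha⟩ := hcon e₁
      exact Set.mem_iUnion.2 ⟨a, ha⟩
    obtain ⟨a, ha⟩ := Subspace.exists_eq_top_of_iUnion_eq_univ hcov
    obtain ⟨e₀, he₀⟩ := exists_deg_one_not_mem hS' hU (z a)
    have : e₀ ∈ H a := by rw [ha]; trivial
    exact he₀ this
  obtain ⟨e₁, he₁⟩ := hex
  refine ⟨TwistGen.ofSection L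
      (res L (fun x _ => hXU x : (⊤ : X.Opens) ≤ (i ≫ p') ⁻¹ᵁ ⊤)
        (tE i hO e hU (asR 𝒮'.toQCAlg (j'.app ⊤ e₁)) (hS'.2 ⊤ hU e₁))), fun a => ?_⟩
  exact (mem_genLocus_tE_iff i hS' hO e hU hXU e₁ (y a) (z a) (hz a)).2 (he₁ a)

end field

end Groth.Agent.Lib.Helper28.RLPsiV
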