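import Groth.Agent.Lib.Helper28.RLPsiV1

set_option autoImplicit false
universe u
open CategoryTheory CategoryTheory.Limits AlgebraicGeometry Opposite TopologicalSpace
open HomogeneousLocalization
open scoped HomogeneousIdeal
noncomputable section

namespace Groth.Agent.Lib.Helper28.RLPsiV

open Groth.Agent.Lib.Helper28 Groth.Agent.Lib.Helper28.QCohLoc Groth.Agent.Lib.Helper28.TraceAlg
open Groth.Agent.Lib.Helper28.GenLocus Groth.Agent.Lib.Helper28.SymAlg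
open Groth.Agent.Lib.Helper28.RLPsi Groth.Agent.Lib.Helper28.RelTwistVal Groth.Agent.Lib.Helper28.RLPsiU
open Groth.Agent.Lib.Helper28.PullbackInv

section tsec

variable {X P' : Scheme.{u}} (i : X ⟶ P') {L : X.Modules} {O1 : P'.Modules}
  (e : L ≅ (Scheme.Modules.pullback i).obj O1)

/-- the section of `L ≅ i^* O1` obtained from a section of `O1` -/
def tsec (W : P'.Opens) (σ : Γ(O1, W)) : Γ(L, i ⁻¹ᵁ W) :=
  e.inv.app (i ⁻¹ᵁ W) (pbs i O1 W σ)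

theorem tsec_add (W : P'.Opens) (σ τ : Γ(O1, W)) : tsec i e W (σ + τ) = tsec i e W σ + tsec i e W τ := by
  unfold tsec
  rw [pbs_add, map_add]

theorem tsec_smul (W : P'.Opens) (c : Γ(P', W)) (σ : Γ(O1, W)) :
    tsec i e W (c • σ : Γ(O1, W)) = (i.app W c • tsec i e W σ : Γ(L, i ⁻¹ᵁ W)) := by
  unfold tsec
  rw [pbs_smul, Scheme.Modules.Hom.app_smul]

theorem tsec_res {W W' : P'.Opens} (h : W' ≤ W) (σ : Γ(O1, W)) :
    tsec i e W' (res O1 h σ) = res L (i.preimage_mono h) (tsec i e W σ) := by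
  unfold tsec
  rw [pbs_res, app_res]

theorem isGen_tsec {W : P'.Opens} {σ : Γ(O1, W)} (hσ : IsGen O1 W σ) : IsGen L (i ⁻¹ᵁ W) (tsec i e W σ) :=
  VeryAmpleImm.isGen_app_iso e.symm (isGen_pbs hσ)

end tsec

section main

variable {X Y P' : Scheme.{u}} (i : X ⟶ P') {p' : P' ⟶ Y} {L : X.Modules}
  {E' : Y.Modules} [E'.IsQuasicoherent]
  {𝒮' : RelProj.QCGrAlg Y} {j' : E' ⟶ 𝒮'.toModule} (hS' : RelProj.IsGrSymAlg E' 𝒮' j')
  {chart' : ∀ (U : Y.Opens) (hU : IsAffineOpen U), (((p' ⁻¹ᵁ U : P'.Opens) : Scheme.{u}) ≅ Proj (𝒮'.deg U hU))}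
  (hP' : RelProj.IsRelProj 𝒮' p' chart')
  {O1 : P'.Modules}
  {lam : ∀ (U : Y.Opens) (hU : IsAffineOpen U),
    O1 ⟶ (Scheme.Modules.pushforward (RelProj.emb p' chart' U hU)).obj (GrTwist.twist (𝒮'.deg U hU) ((1 : ℕ) : ℤ))}
  (hO : RelProj.IsRelTwist 𝒮' p' chart' ((1 : ℕ) : ℤ) O1 lam)
  (e : L ≅ (Scheme.Modules.pullback i).obj O1)
  {𝒮L : RelProj.QCGrAlg X} {jL : L ⟶ 𝒮L.toModule}
  {𝒜 : RelProj.QCGrAlg Y} {jE : (Scheme.Modules.pushforward (i ≫ p')).obj L ⟶ 𝒜.toModule}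
  (h𝒜 : RelProj.IsGrSymAlg ((Scheme.Modules.pushforward (i ≫ p')).obj L) 𝒜 jE)
  (u : RelProj.QGrHom (i ≫ p') 𝒜 𝒮L)
  (hu : ∀ (U : Y.Opens) (x : Γ((Scheme.Modules.pushforward (i ≫ p')).obj L, U)),
      (u.app U).hom ((jE.app U) x) = (jL.app ((i ≫ p') ⁻¹ᵁ U)) x)
  {U : Y.Opens} (hU : IsAffineOpen U)

/-- the section of `L` over `q⁻¹U` attached to an element of degree one of `𝒮'(U)` -/
def tE (a : 𝒮'.presheaf.obj (op U)) (ha : a ∈ 𝒮'.deg U hU 1) : Γ(L, (i ≫ p') ⁻¹ᵁ U) :=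
  tsec i e (p' ⁻¹ᵁ U) (sig hO hU a ha)

theorem tE_congr {a b : 𝒮'.presheaf.obj (op U)} (h : a = b) (ha : a ∈ 𝒮'.deg U hU 1) (hb : b ∈ 𝒮'.deg U hU 1) :
    tE i hO e hU a ha = tE i hO e hU b hb := by
  subst h
  rfl

theorem tE_add (a b : 𝒮'.presheaf.obj (op U)) (ha : a ∈ 𝒮'.deg U hU 1) (hb : b ∈ 𝒮'.deg U hU 1) :
    tE i hO e hU (a + b) (add_mem ha hb) = tE i hO e hU a ha + tE i hO e hU b hb := by
  unfold tE
  rw [sig_add hO hU a b ha hb, tsec_add]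
  rfl

include hP' in
theorem tE_smul (r : Γ(Y, U)) (a : 𝒮'.presheaf.obj (op U)) (ha : a ∈ 𝒮'.deg U hU 1)
    (hra : (𝒮'.str.app (op U)).hom r * a ∈ 𝒮'.deg U hU 1) :
    tE i hO e hU ((𝒮'.str.app (op U)).hom r * a) hra =
      ((i ≫ p').app U r • tE i hO e hU a ha : Γ(L, (i ≫ p') ⁻¹ᵁ U)) := by
  unfold tE
  rw [sig_smul hP' hO hU r a ha hra, tsec_smul]
  rfl

/-- `t` as a section of the direct image -/
def tEp (a : 𝒮'.presheaf.obj (op U)) (ha : a ∈ 𝒮'.deg U hU 1) :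
    Γ((Scheme.Modules.pushforward (i ≫ p')).obj L, U) := tE i hO e hU a ha

include hS' in
/-- the additive map `E'(U) → 𝒜(U)`, `e' ↦ jE(t_{j' e'})` -/
def lamE : Γ(E', U) →+ 𝒜.presheaf.obj (op U) :=
  AddMonoidHom.mk' (fun e' => asR 𝒜.toQCAlg (jE.app U (tEp i hO e hU (asR 𝒮'.toQCAlg (j'.app U e')) (hS'.2 U hU e'))))
    (fun e₁ e₂ => by
      have h1 : asR 𝒮'.toQCAlg (j'.app U (e₁ + e₂)) =
          asR 𝒮'.toQCAlg (j'.app U e₁) + asR 𝒮'.toQCAlg (j'.app U e₂) := by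
        rw [map_add]
        rfl
      have h2 : tEp i hO e hU (asR 𝒮'.toQCAlg (j'.app U (e₁ + e₂))) (hS'.2 U hU (e₁ + e₂)) =
          tEp i hO e hU (asR 𝒮'.toQCAlg (j'.app U e₁)) (hS'.2 U hU e₁) +
            tEp i hO e hU (asR 𝒮'.toQCAlg (j'.app U e₂)) (hS'.2 U hU e₂) := by
        unfold tEp
        rw [tE_congr i hO e hU h1 _ (add_mem (hS'.2 U hU e₁) (hS'.2 U hU e₂)),
          tE_add i hO e hU _ _ (hS'.2 U hU e₁) (hS'.2 U hU e₂)]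
        rfl
      show asR 𝒜.toQCAlg (jE.app U _) = asR 𝒜.toQCAlg (jE.app U _) + asR 𝒜.toQCAlg (jE.app U _)
      rw [h2, map_add]
      rfl)

include hP' in
theorem lamE_smul (r : Γ(Y, U)) (e' : Γ(E', U)) :
    lamE i hS' hO e (jE := jE) hU (r • e') = (𝒜.str.app (op U)).hom r * lamE i hS' hO e (jE := jE) hU e' := by
  have h1 : asR 𝒮'.toQCAlg (j'.app U (r • e')) = (𝒮'.str.app (op U)).hom r * asR 𝒮'.toQCAlg (j'.app U e') := by
    rw [Scheme.Modules.Hom.app_smul]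
    rfl
  have hra : (𝒮'.str.app (op U)).hom r * asR 𝒮'.toQCAlg (j'.app U e') ∈ 𝒮'.deg U hU 1 := by
    rw [← h1]
    exact hS'.2 U hU (r • e')
  have h2 : tEp i hO e hU (asR 𝒮'.toQCAlg (j'.app U (r • e'))) (hS'.2 U hU (r • e')) =
      (r • tEp i hO e hU (asR 𝒮'.toQCAlg (j'.app U e')) (hS'.2 U hU e') :
        Γ((Scheme.Modules.pushforward (i ≫ p')).obj L, U)) := by
    unfold tEp
    rw [tE_congr i hO e hU h1 _ hra, tE_smul i hP' hO e hU r _ (hS'.2 U hU e') hra]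
    rfl
  show asR 𝒜.toQCAlg (jE.app U _) = (𝒜.str.app (op U)).hom r * asR 𝒜.toQCAlg (jE.app U _)
  rw [h2, Scheme.Modules.Hom.app_smul]
  rfl

include hP' in
theorem exists_theta : ∃ Θ : 𝒮'.presheaf.obj (op U) →+* 𝒜.presheaf.obj (op U),
    (∀ r : Γ(Y, U), Θ ((𝒮'.str.app (op U)).hom r) = (𝒜.str.app (op U)).hom r) ∧
      ∀ e' : Γ(E', U), Θ (asR 𝒮'.toQCAlg (j'.app U e')) =
        asR 𝒜.toQCAlg (jE.app U (tEp i hO e hU (asR 𝒮'.toQCAlg (j'.app U e')) (hS'.2 U hU e'))) :=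
  exists_ringHom_sec hS'.1 U hU (𝒜.str.app (op U)).hom (lamE i hS' hO e (jE := jE) hU)
    (lamE_smul i hS' hP' hO e hU)

/-- the comparison homomorphism `Sym(E')(U) → Sym(q_*L)(U)` -/
def theta : 𝒮'.presheaf.obj (op U) →+* 𝒜.presheaf.obj (op U) :=
  Classical.choose (exists_theta i hS' hP' hO e (jE := jE) hU)

theorem theta_str (r : Γ(Y, U)) :
    theta i hS' hP' hO e (jE := jE) hU ((𝒮'.str.app (op U)).hom r) = (𝒜.str.app (op U)).hom r :=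
  (Classical.choose_spec (exists_theta i hS' hP' hO e (jE := jE) hU)).1 r

theorem theta_j (e' : Γ(E', U)) :
    theta i hS' hP' hO e (jE := jE) hU (asR 𝒮'.toQCAlg (j'.app U e')) =
      asR 𝒜.toQCAlg (jE.app U (tEp i hO e hU (asR 𝒮'.toQCAlg (j'.app U e')) (hS'.2 U hU e'))) :=
  (Classical.choose_spec (exists_theta i hS' hP' hO e (jE := jE) hU)).2 e'

include h𝒜 in
theorem theta_mem {d : ℕ} {x : 𝒮'.presheaf.obj (op U)} (hx : x ∈ 𝒮'.deg U hU d) :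
    theta i hS' hP' hO e (jE := jE) hU x ∈ 𝒜.deg U hU d :=
  map_mem_of_gens hS' U hU (𝒜.deg U hU) (theta i hS' hP' hO e (jE := jE) hU)
    (fun a => by rw [theta_str]; exact 𝒜.str_mem U hU a)
    (fun m => by rw [theta_j]; exact h𝒜.2 U hU _) hx

end main

end Groth.Agent.Lib.Helper28.RLPsiV
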