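import Groth.Agent.Lib.Helper28.RLPsiV2

set_option autoImplicit false
universe u
open CategoryTheory CategoryTheory.Limits AlgebraicGeometry Opposite TopologicalSpace
open HomogeneousLocalization
open scoped HomogeneousIdeal
noncomputable section

namespace Groth.Agent.Lib.Helper28.RLPsiV

open Groth.Agent.Lib.Helper28 Groth.Agent.Lib.Helper28.QCohLoc Groth.Agent.Lib.Helper28.TraceAlg
open Groth.Agent.Lib.Helper28.GenLocus Groth.Agent.Lib.Helper28.SymAlg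
open Groth.Agent.Lib.Helper28.RLPsi Groth.Agent.Lib.Helper28.RelTwistVal Groth.Agent.Lib.Helper28.RLPsiU
open Groth.Agent.Lib.Helper28.PullbackInv

section zero

variable {Y P : Scheme.{u}} {𝒮 : RelProj.QCGrAlg Y} {p : P ⟶ Y}
  {chart : ∀ (U : Y.Opens) (hU : IsAffineOpen U), (((p ⁻¹ᵁ U : P.Opens) : Scheme.{u}) ≅ Proj (𝒮.deg U hU))}
  {U : Y.Opens} {hU : IsAffineOpen U}

theorem ReadsO.zero {W₁ : P.Opens} (b : 𝒮.presheaf.obj (op U)) : ReadsO p chart hU (0 : Γ(P, W₁)) 0 b := by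
  intro y hy
  have h1 : cvO p chart hU (0 : Γ(P, W₁)) y hy = 0 := by
    unfold cvO
    rw [map_zero]
    exact HomogeneousLocalization.val_zero
  rw [h1, zero_mul, Localization.mk_zero]

theorem ReadsO.neg {W₁ : P.Opens} {c : Γ(P, W₁)} {a b : 𝒮.presheaf.obj (op U)}
    (h : ReadsO p chart hU c a b) : ReadsO p chart hU (-c) (-a) b := by
  intro y hy
  have h1 : cvO p chart hU (-c) y hy = - cvO p chart hU c y hy := by
    unfold cvO
    rw [map_neg]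
    exact HomogeneousLocalization.val_neg _
  rw [h1, neg_mul, h y hy, Localization.neg_mk]

end zero

section loc

variable {X Y P' : Scheme.{u}} (i : X ⟶ P') {p' : P' ⟶ Y} {L : X.Modules}
  {E' : Y.Modules} [E'.IsQuasicoherent]
  {𝒮' : RelProj.QCGrAlg Y} {j' : E' ⟶ 𝒮'.toModule} (hS' : RelProj.IsGrSymAlg E' 𝒮' j')
  {chart' : ∀ (U : Y.Opens) (hU : IsAffineOpen U), (((p' ⁻¹ᵁ U : P'.Opens) : Scheme.{u}) ≅ Proj (𝒮'.deg U hU))}
  (hP' : RelProj.IsRelProj 𝒮' p' chart')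
  {O1 : P'.Modules}
  {lam : ∀ (U : Y.Opens) (hU : IsAffineOpen U),
    O1 ⟶ (Scheme.Modules.pushforward (RelProj.emb p' chart' U hU)).obj (GrTwist.twist (𝒮'.deg U hU) ((1 : ℕ) : ℤ))}
  (hO : RelProj.IsRelTwist 𝒮' p' chart' ((1 : ℕ) : ℤ) O1 lam)
  (e : L ≅ (Scheme.Modules.pullback i).obj O1)
  {𝒮L : RelProj.QCGrAlg X} {jL : L ⟶ 𝒮L.toModule}
  {𝒜 : RelProj.QCGrAlg Y} (jE : (Scheme.Modules.pushforward (i ≫ p')).obj L ⟶ 𝒜.toModule)
  (h𝒜 : RelProj.IsGrSymAlg ((Scheme.Modules.pushforward (i ≫ p')).obj L) 𝒜 jE)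
  (u : RelProj.QGrHom (i ≫ p') 𝒜 𝒮L)
  (hu : ∀ (U : Y.Opens) (x : Γ((Scheme.Modules.pushforward (i ≫ p')).obj L, U)),
      (u.app U).hom ((jE.app U) x) = (jL.app ((i ≫ p') ⁻¹ᵁ U)) x)
  {U : Y.Opens} (hU : IsAffineOpen U)
  (e₀ : Γ(E', U)) {V : X.Opens}
  (hV1 : V ≤ i ⁻¹ᵁ WPU p' chart' hU (asR 𝒮'.toQCAlg (j'.app U e₀)))

include hV1 in
theorem le_of_hV1 : V ≤ (i ≫ p') ⁻¹ᵁ U :=
  hV1.trans (i.preimage_mono (WPU_le hU _))

/-- the local generator of `L` over `V` -/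
def g0 : Γ(L, V) :=
  res L (le_of_hV1 i hU e₀ hV1) (tE i hO e hU (asR 𝒮'.toQCAlg (j'.app U e₀)) (hS'.2 U hU e₀))

theorem isGen_g0 : IsGen L V (g0 i hS' hO e hU e₀ hV1) := by
  have h1 := isGen_tsec i e (isGen_sig hO hU (asR 𝒮'.toQCAlg (j'.app U e₀)) (hS'.2 U hU e₀))
  rw [tsec_res] at h1
  have h2 := h1.res hV1
  rw [res_res] at h2
  exact h2

/-- the basic formula: `t_a = i^♯(a/m) • t_m` over `V` -/
theorem res_tE_eq (a : 𝒮'.presheaf.obj (op U)) (ha : a ∈ 𝒮'.deg U hU 1)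
    (c : Γ(P', WPU p' chart' hU (asR 𝒮'.toQCAlg (j'.app U e₀))))
    (hc : res O1 (WPU_le hU _) (sig hO hU a ha) =
      (c • res O1 (WPU_le hU _) (sig hO hU (asR 𝒮'.toQCAlg (j'.app U e₀)) (hS'.2 U hU e₀)) :
        Γ(O1, WPU p' chart' hU (asR 𝒮'.toQCAlg (j'.app U e₀))))) :
    res L (le_of_hV1 i hU e₀ hV1) (tE i hO e hU a ha) =
      ((i.appLE _ V hV1).hom c • g0 i hS' hO e hU e₀ hV1 : Γ(L, V)) := by
  have h1 : res L (le_of_hV1 i hU e₀ hV1) (tE i hO e hU a ha) =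
      res L hV1 (tsec i e _ (res O1 (WPU_le hU _) (sig hO hU a ha))) := by
    rw [tsec_res, res_res]
    rfl
  have h2 : g0 i hS' hO e hU e₀ hV1 =
      res L hV1 (tsec i e _ (res O1 (WPU_le hU _) (sig hO hU (asR 𝒮'.toQCAlg (j'.app U e₀)) (hS'.2 U hU e₀)))) := by
    unfold g0
    rw [tsec_res, res_res]
    rfl
  rw [h1, h2, hc, tsec_smul, res_smul]
  rfl

/-- `ψ♭ ∘ Θ` restricted to `V` -/
def FV : 𝒮'.presheaf.obj (op U) →+* 𝒮L.presheaf.obj (op V) :=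
  (u.appLE U V (le_of_hV1 i hU e₀ hV1)).hom.comp (theta i hS' hP' hO e (jE := jE) hU)

theorem FV_apply (a : 𝒮'.presheaf.obj (op U)) :
    FV i hS' hP' hO e jE u hU e₀ hV1 a =
      tauU u U (theta i hS' hP' hO e (jE := jE) hU a) V (le_of_hV1 i hU e₀ hV1) := rfl

theorem FV_str (r : Γ(Y, U)) :
    FV i hS' hP' hO e jE u hU e₀ hV1 ((𝒮'.str.app (op U)).hom r) =
      (𝒮L.str.app (op V)).hom (((i ≫ p').appLE U V (le_of_hV1 i hU e₀ hV1)).hom r) := by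
  show (u.appLE U V (le_of_hV1 i hU e₀ hV1)).hom (theta i hS' hP' hO e (jE := jE) hU ((𝒮'.str.app (op U)).hom r)) = _
  rw [theta_str]
  have h1 : (u.app U).hom ((𝒜.str.app (op U)).hom r) =
      (𝒮L.str.app (op ((i ≫ p') ⁻¹ᵁ U))).hom ((i ≫ p').app U r) :=
    congrArg (fun k => k.hom r) (u.toQHom.str_app U)
  show rS 𝒮L (le_of_hV1 i hU e₀ hV1) ((u.app U).hom ((𝒜.str.app (op U)).hom r)) = _
  rw [h1, rS_str]
  rfl

include hu in
theorem FV_j (e' : Γ(E', U))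
    (c : Γ(P', WPU p' chart' hU (asR 𝒮'.toQCAlg (j'.app U e₀))))
    (hc : res O1 (WPU_le hU _) (sig hO hU (asR 𝒮'.toQCAlg (j'.app U e')) (hS'.2 U hU e')) =
      (c • res O1 (WPU_le hU _) (sig hO hU (asR 𝒮'.toQCAlg (j'.app U e₀)) (hS'.2 U hU e₀)) :
        Γ(O1, WPU p' chart' hU (asR 𝒮'.toQCAlg (j'.app U e₀))))) :
    FV i hS' hP' hO e jE u hU e₀ hV1 (asR 𝒮'.toQCAlg (j'.app U e')) =
      (𝒮L.str.app (op V)).hom ((i.appLE _ V hV1).hom c) *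
        asR 𝒮L.toQCAlg (jL.app V (g0 i hS' hO e hU e₀ hV1)) := by
  show (u.appLE U V (le_of_hV1 i hU e₀ hV1)).hom (theta i hS' hP' hO e (jE := jE) hU (asR 𝒮'.toQCAlg (j'.app U e'))) = _
  rw [theta_j]
  show rS 𝒮L (le_of_hV1 i hU e₀ hV1) ((u.app U).hom (jE.app U (tEp i hO e hU _ (hS'.2 U hU e')))) = _
  rw [hu U]
  have h1 : rS 𝒮L (le_of_hV1 i hU e₀ hV1)
      (jL.app ((i ≫ p') ⁻¹ᵁ U) (tEp i hO e hU (asR 𝒮'.toQCAlg (j'.app U e')) (hS'.2 U hU e'))) =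
      asR 𝒮L.toQCAlg (jL.app V (res L (le_of_hV1 i hU e₀ hV1)
        (tE i hO e hU (asR 𝒮'.toQCAlg (j'.app U e')) (hS'.2 U hU e')))) :=
    rS_j (le_of_hV1 i hU e₀ hV1) _
  rw [h1, res_tE_eq i hS' hO e hU e₀ hV1 _ (hS'.2 U hU e') c hc, Scheme.Modules.Hom.app_smul]
  rfl

include hu in
theorem exists_reads_list (l : List Γ(E', U)) :
    ∃ c : Γ(P', WPU p' chart' hU (asR 𝒮'.toQCAlg (j'.app U e₀))),
      ReadsO p' chart' hU c ((l.map fun m => asR 𝒮'.toQCAlg (j'.app U m)).prod)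
        (asR 𝒮'.toQCAlg (j'.app U e₀) ^ l.length) ∧
      FV i hS' hP' hO e jE u hU e₀ hV1 ((l.map fun m => asR 𝒮'.toQCAlg (j'.app U m)).prod) =
        (𝒮L.str.app (op V)).hom ((i.appLE _ V hV1).hom c) *
          asR 𝒮L.toQCAlg (jL.app V (g0 i hS' hO e hU e₀ hV1)) ^ l.length := by
  induction l with
  | nil =>
    refine ⟨1, ?_, ?_⟩
    · rw [List.map_nil, List.prod_nil, List.length_nil, pow_zero]
      exact ReadsO.one
    · rw [List.map_nil, List.prod_nil, List.length_nil, pow_zero, map_one, map_one, map_one, mul_one]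
  | cons e' l ih =>
    obtain ⟨cl, hrl, hFl⟩ := ih
    obtain ⟨ce, hre, hce⟩ := exists_coef hO hU (asR 𝒮'.toQCAlg (j'.app U e₀)) (hS'.2 U hU e₀)
      (asR 𝒮'.toQCAlg (j'.app U e')) (hS'.2 U hU e')
    refine ⟨ce * cl, ?_, ?_⟩
    · rw [List.map_cons, List.prod_cons, List.length_cons, pow_succ']
      exact hre.mul hrl
    · rw [List.map_cons, List.prod_cons, List.length_cons, map_mul, hFl,
        FV_j i hS' hP' hO e jE u hu hU e₀ hV1 e' ce hce, map_mul, map_mul, pow_succ]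
      ring

include hu in
/-- **the local formula**: `ψ♭(Θ a) = i^♯(a / m^k) · t_m^k` over `V`, for `a` of degree `k` -/
theorem exists_reads_FV {k : ℕ} (a : 𝒮'.presheaf.obj (op U)) (ha : a ∈ 𝒮'.deg U hU k) :
    ∃ c : Γ(P', WPU p' chart' hU (asR 𝒮'.toQCAlg (j'.app U e₀))),
      ReadsO p' chart' hU c a (asR 𝒮'.toQCAlg (j'.app U e₀) ^ k) ∧
      FV i hS' hP' hO e jE u hU e₀ hV1 a =
        (𝒮L.str.app (op V)).hom ((i.appLE _ V hV1).hom c) *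
          asR 𝒮L.toQCAlg (jL.app V (g0 i hS' hO e hU e₀ hV1)) ^ k := by
  have ha' := deg_le_monoGrp hS' U hU k ha
  refine AddSubgroup.closure_induction
    (p := fun a _ => ∃ c : Γ(P', WPU p' chart' hU (asR 𝒮'.toQCAlg (j'.app U e₀))),
      ReadsO p' chart' hU c a (asR 𝒮'.toQCAlg (j'.app U e₀) ^ k) ∧
      FV i hS' hP' hO e jE u hU e₀ hV1 a =
        (𝒮L.str.app (op V)).hom ((i.appLE _ V hV1).hom c) *
          asR 𝒮L.toQCAlg (jL.app V (g0 i hS' hO e hU e₀ hV1)) ^ k)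
    (fun x hx => ?_) ?_ (fun x x' _ _ hx hx' => ?_) (fun x _ hx => ?_) ha'
  · obtain ⟨r, l, hl, rfl⟩ := hx
    obtain ⟨cl, hrl, hFl⟩ := exists_reads_list i hS' hP' hO e jE u hu hU e₀ hV1 l
    rw [hl] at hrl hFl
    refine ⟨(p'.appLE U _ (WPU_le hU _)).hom r * cl, ?_, ?_⟩
    · have h1 := (ReadsO.base hP' (WPU_le hU (asR 𝒮'.toQCAlg (j'.app U e₀))) r).mul hrl
      rw [one_mul] at h1
      exact h1
    · rw [map_mul, hFl, FV_str, map_mul, map_mul, mul_assoc]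
      congr 2
      rw [← CommRingCat.comp_apply, Scheme.Hom.appLE_comp_appLE]
  · refine ⟨0, ReadsO.zero _, ?_⟩
    rw [map_zero, map_zero, map_zero, zero_mul]
  · obtain ⟨c, hr, hF⟩ := hx
    obtain ⟨c', hr', hF'⟩ := hx'
    refine ⟨c + c', hr.add hr', ?_⟩
    rw [map_add, hF, hF', map_add, map_add, add_mul]
  · obtain ⟨c, hr, hF⟩ := hx
    refine ⟨-c, hr.neg, ?_⟩
    rw [map_neg, hF, map_neg, map_neg, neg_mul]

end loc

end Groth.Agent.Lib.Helper28.RLPsiV
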