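import Groth.Agent.Lib.Helper28.RLPsiV3

set_option autoImplicit false
universe u
open CategoryTheory CategoryTheory.Limits AlgebraicGeometry Opposite TopologicalSpace
open HomogeneousLocalization
open scoped HomogeneousIdeal
noncomputable section

namespace Groth.Agent.Lib.Helper28.RLPsiV

open Groth.Agent.Lib.Helper28 Groth.Agent.Lib.Helper28.QCohLoc Groth.Agent.Lib.Helper28.TraceAlg
open Groth.Agent.Lib.Helper28.GenLocus Groth.Agent.Lib.Helper28.SymAlg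
open Groth.Agent.Lib.Helper28.RLPsi Groth.Agent.Lib.Helper28.RelTwistVal Groth.Agent.Lib.Helper28.RLPsiU
open Groth.Agent.Lib.Helper28.PullbackInv

attribute [local instance] algAt

section gennv

variable {Y X : Scheme.{u}} {q : X ⟶ Y} {L : X.Modules} [L.IsQuasicoherent]
  {𝒮 : RelProj.QCGrAlg Y} {𝒮L : RelProj.QCGrAlg X} {j : L ⟶ 𝒮L.toModule} (hj : RelProj.IsGrSymAlg L 𝒮L j)
  (u : RelProj.QGrHom q 𝒮 𝒮L) {U : Y.Opens}

include hj in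
/-- the nonvanishing condition read on a trivializing affine open -/
theorem nvu_iff_mem_basicOpen (n : ℕ) (s : 𝒮.presheaf.obj (op U))
    {V : X.Opens} (hV : IsAffineOpen V) (hVU : V ≤ q ⁻¹ᵁ U) {g : Γ(L, V)} (hg : IsGen L V g) (b : Γ(X, V))
    (hb : tauU u U s V hVU = (𝒮L.str.app (op V)).hom b * asR 𝒮L.toQCAlg (j.app V g) ^ n)
    (x : X) (hxV : x ∈ V) : NVU u U n s x ↔ x ∈ X.basicOpen b := by
  constructor
  · rintro ⟨V', hV', hV'U, hxV', hsub⟩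
    refine mem_basicOpen_of_subset_span hj hg b n _ hxV V' hV' hxV' (tauU u U s V' hV'U) (fun W h1 h2 => ?_) hsub
    rw [← hb, rS_tauU, rS_tauU]
  · intro hx
    refine ⟨X.basicOpen b, hV.basicOpen b, (X.basicOpen_le b).trans hVU, hx, ?_⟩
    have h := subset_span_of_basicOpen hj hV hg b n
    rw [← hb, rS_tauU] at h
    exact h

end gennv

section nv

variable {X Y P' : Scheme.{u}} (i : X ⟶ P') {p' : P' ⟶ Y} {L : X.Modules} [L.IsQuasicoherent]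
  {E' : Y.Modules} [E'.IsQuasicoherent]
  {𝒮' : RelProj.QCGrAlg Y} {j' : E' ⟶ 𝒮'.toModule} (hS' : RelProj.IsGrSymAlg E' 𝒮' j')
  {chart' : ∀ (U : Y.Opens) (hU : IsAffineOpen U), (((p' ⁻¹ᵁ U : P'.Opens) : Scheme.{u}) ≅ Proj (𝒮'.deg U hU))}
  (hP' : RelProj.IsRelProj 𝒮' p' chart')
  {O1 : P'.Modules}
  {lam : ∀ (U : Y.Opens) (hU : IsAffineOpen U),
    O1 ⟶ (Scheme.Modules.pushforward (RelProj.emb p' chart' U hU)).obj (GrTwist.twist (𝒮'.deg U hU) ((1 : ℕ) : ℤ))}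
  (hO : RelProj.IsRelTwist 𝒮' p' chart' ((1 : ℕ) : ℤ) O1 lam)
  (e : L ≅ (Scheme.Modules.pullback i).obj O1)
  {𝒮L : RelProj.QCGrAlg X} {jL : L ⟶ 𝒮L.toModule} (hjL : RelProj.IsGrSymAlg L 𝒮L jL)
  {𝒜 : RelProj.QCGrAlg Y} (jE : (Scheme.Modules.pushforward (i ≫ p')).obj L ⟶ 𝒜.toModule)
  (h𝒜 : RelProj.IsGrSymAlg ((Scheme.Modules.pushforward (i ≫ p')).obj L) 𝒜 jE)
  (u : RelProj.QGrHom (i ≫ p') 𝒜 𝒮L)
  (hu : ∀ (U : Y.Opens) (x : Γ((Scheme.Modules.pushforward (i ≫ p')).obj L, U)),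
      (u.app U).hom ((jE.app U) x) = (jL.app ((i ≫ p') ⁻¹ᵁ U)) x)
  {U : Y.Opens} (hU : IsAffineOpen U)

theorem WPU_le_pow (m : 𝒮'.presheaf.obj (op U)) (k : ℕ) :
    WPU p' chart' hU m ≤ WPU p' chart' hU (m ^ k) := by
  rintro _ ⟨y, hy, rfl⟩
  have h1 : m ∉ y.asHomogeneousIdeal := (Proj.mem_basicOpen _ m y).1 hy
  exact (mem_WPU_iff hU (m ^ k) y).2 (fun h => h1 (y.isPrime.mem_of_pow_mem _ h))

include hjL hu in
/-- the nonvanishing condition for `Θ(H)` at a point of a small affine open -/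
theorem nvu_theta_iff (e₀ : Γ(E', U)) {V : X.Opens} (hV : IsAffineOpen V)
    (hV1 : V ≤ i ⁻¹ᵁ WPU p' chart' hU (asR 𝒮'.toQCAlg (j'.app U e₀)))
    {d : ℕ} (H : 𝒮'.presheaf.obj (op U)) (hH : H ∈ 𝒮'.deg U hU d) (x : X) (hxV : x ∈ V) :
    NVU u U d (theta i hS' hP' hO e (jE := jE) hU H) x ↔ i x ∈ WPU p' chart' hU H := by
  obtain ⟨c, hr, hF⟩ := exists_reads_FV i hS' hP' hO e jE u hu hU e₀ hV1 H hH
  rw [nvu_iff_mem_basicOpen hjL u d _ hV (le_of_hV1 i hU e₀ hV1) (isGen_g0 i hS' hO e hU e₀ hV1) _ hF x hxV]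
  obtain ⟨z, hz, hzx⟩ := hV1 hxV
  have hzx' : (RelProj.emb p' chart' U hU).base z = i x := hzx
  have hzW : (RelProj.emb p' chart' U hU).base z ∈ WPU p' chart' hU (asR 𝒮'.toQCAlg (j'.app U e₀)) :=
    ⟨z, hz, rfl⟩
  have h1 : X.basicOpen ((i.appLE _ V hV1).hom c) = V ⊓ i ⁻¹ᵁ (P'.basicOpen c) := by
    unfold Scheme.Hom.appLE
    rw [CommRingCat.comp_apply, Scheme.basicOpen_res, Scheme.preimage_basicOpen]
  rw [h1, ← hzx', mem_WPU_iff hU H z,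
    ← hr.mem_basicOpen_iff (WPU_le_pow hU _ d) z hzW]
  constructor
  · rintro ⟨-, h2⟩
    have h3 : i x ∈ P'.basicOpen c := h2
    rw [← hzx'] at h3
    exact h3
  · intro h2
    refine ⟨hxV, ?_⟩
    show i x ∈ P'.basicOpen c
    rw [← hzx']
    exact h2

include hjL hu in
theorem mem_XTU_theta_iff {d : ℕ} (H : 𝒮'.presheaf.obj (op U)) (hH : H ∈ 𝒮'.deg U hU d) (x : X)
    (hx : x ∈ (i ≫ p') ⁻¹ᵁ U) :
    x ∈ XTU u U d (theta i hS' hP' hO e (jE := jE) hU H) ↔ i x ∈ WPU p' chart' hU H := by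
  have hx' : p' (i x) ∈ U := hx
  obtain ⟨z, hz⟩ := (RelProjQ.mem_range_emb p' chart' U hU (i x)).2 hx'
  have hz' : (RelProj.emb p' chart' U hU).base z = i x := hz
  obtain ⟨e₀, he₀⟩ := exists_deg_one_not_mem hS' hU z
  have hix : i x ∈ WPU p' chart' hU (asR 𝒮'.toQCAlg (j'.app U e₀)) := by
    rw [← hz']
    exact (mem_WPU_iff hU _ z).2 he₀
  obtain ⟨_, ⟨V, hV, rfl⟩, hxV, hVle⟩ := X.isBasis_affineOpens.exists_subset_of_mem_open
    (show x ∈ ((i ⁻¹ᵁ WPU p' chart' hU (asR 𝒮'.toQCAlg (j'.app U e₀)) : X.Opens) : Set X) from hix)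
    (i ⁻¹ᵁ WPU p' chart' hU (asR 𝒮'.toQCAlg (j'.app U e₀))).isOpen
  rw [mem_XTU_iff]
  exact nvu_theta_iff i hS' hP' hO e hjL jE u hu hU e₀ hV hVle H hH x hxV

include hjL hu in
/-- **`X_{ψ♭(Θ H)} = i⁻¹ D₊(H)`** -/
theorem XTU_theta_eq {d : ℕ} (H : 𝒮'.presheaf.obj (op U)) (hH : H ∈ 𝒮'.deg U hU d) :
    XTU u U d (theta i hS' hP' hO e (jE := jE) hU H) = i ⁻¹ᵁ WPU p' chart' hU H := by
  refine Opens.ext (Set.ext fun x => ?_)
  show x ∈ XTU u U d (theta i hS' hP' hO e (jE := jE) hU H) ↔ x ∈ i ⁻¹ᵁ WPU p' chart' hU H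
  constructor
  · intro hx
    exact (mem_XTU_theta_iff i hS' hP' hO e hjL jE u hu hU H hH x (XTU_le u d _ hx)).1 hx
  · intro hx
    have hx' : i x ∈ WPU p' chart' hU H := hx
    have hxU : x ∈ (i ≫ p') ⁻¹ᵁ U := by
      have h1 : i x ∈ p' ⁻¹ᵁ U := WPU_le hU H hx'
      exact h1
    exact (mem_XTU_theta_iff i hS' hP' hO e hjL jE u hu hU H hH x hxU).2 hx'

end nv

end Groth.Agent.Lib.Helper28.RLPsiV
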