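import Groth.Agent.Lib.Helper28.RLPsiV5
import Groth.Agent.Lib.Helper28.CounitGen
import Groth.Agent.Lib.Helper28.QCohGen

set_option autoImplicit false
universe u
open CategoryTheory CategoryTheory.Limits AlgebraicGeometry Opposite TopologicalSpace
open HomogeneousLocalization
open scoped HomogeneousIdeal
noncomputable section

namespace Groth.Agent.Lib.Helper28.RLPsiV

open Groth.Agent.Lib.Helper28 Groth.Agent.Lib.Helper28.QCohLoc Groth.Agent.Lib.Helper28.TraceAlg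
open Groth.Agent.Lib.Helper28.GenLocus Groth.Agent.Lib.Helper28.SymAlg
open Groth.Agent.Lib.Helper28.RLPsi Groth.Agent.Lib.Helper28.RelTwistVal Groth.Agent.Lib.Helper28.RLPsiU
open Groth.Agent.Lib.Helper28.PullbackInv

section counit

variable {X Y P' : Scheme.{u}} (i : X ⟶ P') {p' : P' ⟶ Y} {L : X.Modules}
  {E' : Y.Modules} [E'.IsQuasicoherent]
  {𝒮' : RelProj.QCGrAlg Y} {j' : E' ⟶ 𝒮'.toModule} (hS' : RelProj.IsGrSymAlg E' 𝒮' j')
  {chart' : ∀ (U : Y.Opens) (hU : IsAffineOpen U), (((p' ⁻¹ᵁ U : P'.Opens) : Scheme.{u}) ≅ Proj (𝒮'.deg U hU))}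
  {O1 : P'.Modules}
  {lam : ∀ (U : Y.Opens) (hU : IsAffineOpen U),
    O1 ⟶ (Scheme.Modules.pushforward (RelProj.emb p' chart' U hU)).obj (GrTwist.twist (𝒮'.deg U hU) ((1 : ℕ) : ℤ))}
  (hO : RelProj.IsRelTwist 𝒮' p' chart' ((1 : ℕ) : ℤ) O1 lam)
  (e : L ≅ (Scheme.Modules.pullback i).obj O1)

include hS' hO e in
/-- **for `L ≅ i^*O(1)` the counit `q^*q_*L ⟶ L` is an epimorphism** -/
theorem epi_counit_of_veryAmple_data :
    Epi ((Scheme.Modules.pullbackPushforwardAdjunction (i ≫ p')).counit.app L) := by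
  apply QCohLoc.epi_of_locally_in_range
  intro U₀ y pt hpt
  obtain ⟨_, ⟨V, hV0, rfl⟩, hxV, -⟩ := Y.isBasis_affineOpens.exists_subset_of_mem_open
    (show p' (i pt) ∈ ((⊤ : Y.Opens) : Set Y) from trivial) (⊤ : Y.Opens).isOpen
  have hV : IsAffineOpen V := hV0
  obtain ⟨z, hz⟩ := (RelProjQ.mem_range_emb p' chart' V hV (i pt)).2 hxV
  have hz' : (RelProj.emb p' chart' V hV).base z = i pt := hz
  obtain ⟨e₀, he₀⟩ := exists_deg_one_not_mem hS' hV z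
  have hix : i pt ∈ WPU p' chart' hV (asR 𝒮'.toQCAlg (j'.app V e₀)) := by
    rw [← hz']
    exact (mem_WPU_iff hV _ z).2 he₀
  have hW1 : U₀ ⊓ i ⁻¹ᵁ WPU p' chart' hV (asR 𝒮'.toQCAlg (j'.app V e₀)) ≤
      i ⁻¹ᵁ WPU p' chart' hV (asR 𝒮'.toQCAlg (j'.app V e₀)) := inf_le_right
  have hg := isGen_g0 i hS' hO e hV e₀ hW1
  refine ⟨U₀ ⊓ i ⁻¹ᵁ WPU p' chart' hV (asR 𝒮'.toQCAlg (j'.app V e₀)), inf_le_left, ⟨hpt, hix⟩, ?_⟩
  refine ⟨(hg.coef le_rfl (res L inf_le_left y) •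
    res ((Scheme.Modules.pullback (i ≫ p')).obj ((Scheme.Modules.pushforward (i ≫ p')).obj L))
      (le_of_hV1 i hV e₀ hW1)
      (pbs (i ≫ p') ((Scheme.Modules.pushforward (i ≫ p')).obj L) V
        (tE i hO e hV (asR 𝒮'.toQCAlg (j'.app V e₀)) (hS'.2 V hV e₀))) :
    Γ((Scheme.Modules.pullback (i ≫ p')).obj ((Scheme.Modules.pushforward (i ≫ p')).obj L), _)), ?_⟩
  have h1 : ((Scheme.Modules.pullbackPushforwardAdjunction (i ≫ p')).counit.app L).app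
      (U₀ ⊓ i ⁻¹ᵁ WPU p' chart' hV (asR 𝒮'.toQCAlg (j'.app V e₀)))
      (res ((Scheme.Modules.pullback (i ≫ p')).obj ((Scheme.Modules.pushforward (i ≫ p')).obj L))
        (le_of_hV1 i hV e₀ hW1)
        (pbs (i ≫ p') ((Scheme.Modules.pushforward (i ≫ p')).obj L) V
          (tE i hO e hV (asR 𝒮'.toQCAlg (j'.app V e₀)) (hS'.2 V hV e₀)))) =
      g0 i hS' hO e hV e₀ hW1 := by
    have h2 := app_res ((Scheme.Modules.pullbackPushforwardAdjunction (i ≫ p')).counit.app L)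
      (le_of_hV1 i hV e₀ hW1)
      (pbs (i ≫ p') ((Scheme.Modules.pushforward (i ≫ p')).obj L) V
        (tE i hO e hV (asR 𝒮'.toQCAlg (j'.app V e₀)) (hS'.2 V hV e₀)))
    rw [CounitGen.counit_app_pbs] at h2
    exact h2
  rw [Scheme.Modules.Hom.app_smul]
  have h := hg.coef_smul le_rfl (res L inf_le_left y)
  rw [res_self] at h
  exact (congrArg (fun t => (hg.coef le_rfl (res L inf_le_left y) • t :
    Γ(L, U₀ ⊓ i ⁻¹ᵁ WPU p' chart' hV (asR 𝒮'.toQCAlg (j'.app V e₀))))) h1).trans h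

end counit

end Groth.Agent.Lib.Helper28.RLPsiV
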