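import Groth.Agent.Lib.Helper28.RLPsiV8

set_option autoImplicit false
universe u
open CategoryTheory CategoryTheory.Limits AlgebraicGeometry Opposite TopologicalSpace
open HomogeneousLocalization
open scoped HomogeneousIdeal
noncomputable section

namespace Groth.Agent.Lib.Helper28.RLPsiV

open Groth.Agent.Lib.Helper28 Groth.Agent.Lib.Helper28.QCohLoc Groth.Agent.Lib.Helper28.TraceAlg
open Groth.Agent.Lib.Helper28.GenLocus Groth.Agent.Lib.Helper28.SymAlg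
open Groth.Agent.Lib.Helper28.RLPsi Groth.Agent.Lib.Helper28.RelTwistVal Groth.Agent.Lib.Helper28.RLPsiU
open Groth.Agent.Lib.Helper28.PullbackInv Groth.Agent.Lib.Helper28.TensorGen

section canon

variable {Y P' : Scheme.{u}} {p' : P' ⟶ Y}
  {E' : Y.Modules} [E'.IsQuasicoherent]
  {𝒮' : RelProj.QCGrAlg Y} {j' : E' ⟶ 𝒮'.toModule} (hS' : RelProj.IsGrSymAlg E' 𝒮' j')
  {chart' : ∀ (U : Y.Opens) (hU : IsAffineOpen U), (((p' ⁻¹ᵁ U : P'.Opens) : Scheme.{u}) ≅ Proj (𝒮'.deg U hU))}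
  {O1 : P'.Modules}
  {lam : ∀ (U : Y.Opens) (hU : IsAffineOpen U),
    O1 ⟶ (Scheme.Modules.pushforward (RelProj.emb p' chart' U hU)).obj (GrTwist.twist (𝒮'.deg U hU) ((1 : ℕ) : ℤ))}
  (hO : RelProj.IsRelTwist 𝒮' p' chart' ((1 : ℕ) : ℤ) O1 lam)
  (φ : E' ⟶ (Scheme.Modules.pushforward p').obj O1)
  (hφ : ∀ (U : Y.Opens) (hU : IsAffineOpen U) (e : Γ(E', U))
      (y : ↥(RelProj.emb p' chart' U hU ⁻¹ᵁ (p' ⁻¹ᵁ U))),
      GrTwist.val (V := RelProj.emb p' chart' U hU ⁻¹ᵁ (p' ⁻¹ᵁ U))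
          ((lam U hU).app (p' ⁻¹ᵁ U) ((φ.app U) e)) y =
        algebraMap (𝒮'.presheaf.obj (op U)) (GrTwist.Loc (𝒮'.deg U hU) y.1)
          ((j'.app U) e : 𝒮'.presheaf.obj (op U)))

include hS' hφ in
/-- the canonical map `E ⟶ p_*O(1)` sends `e` to the section `σ_{j(e)}` -/
theorem canon_app_eq_sig {U : Y.Opens} (hU : IsAffineOpen U) (e : Γ(E', U)) :
    (φ.app U e : Γ(O1, p' ⁻¹ᵁ U)) = sig hO hU (asR 𝒮'.toQCAlg (j'.app U e)) (hS'.2 U hU e) := by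
  refine ext_cv hO hU le_rfl _ _ fun y hy => ?_
  rw [cv_sig]
  exact (hφ U hU e ⟨y, hy⟩).trans (Localization.mk_one_eq_algebraMap _).symm

include hS' hO hφ in
/-- **the canonical `p^*E ⟶ O_P(1)` is an epimorphism** -/
theorem epi_pbLift_canon : Epi (pbLift p' φ) := by
  apply QCohLoc.epi_of_locally_in_range
  intro U₀ y pt hpt
  obtain ⟨_, ⟨U, hU0, rfl⟩, hxU, -⟩ := Y.isBasis_affineOpens.exists_subset_of_mem_open
    (show p' pt ∈ ((⊤ : Y.Opens) : Set Y) from trivial) (⊤ : Y.Opens).isOpen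
  have hU : IsAffineOpen U := hU0
  obtain ⟨z, hz⟩ := (RelProjQ.mem_range_emb p' chart' U hU pt).2 hxU
  have hz' : (RelProj.emb p' chart' U hU).base z = pt := hz
  obtain ⟨e₀, he₀⟩ := exists_deg_one_not_mem hS' hU z
  have hix : pt ∈ WPU p' chart' hU (asR 𝒮'.toQCAlg (j'.app U e₀)) := by
    rw [← hz']
    exact (mem_WPU_iff hU _ z).2 he₀
  have hg := (isGen_sig hO hU (asR 𝒮'.toQCAlg (j'.app U e₀)) (hS'.2 U hU e₀)).res
    (inf_le_right : U₀ ⊓ WPU p' chart' hU (asR 𝒮'.toQCAlg (j'.app U e₀)) ≤ _)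
  rw [res_res] at hg
  refine ⟨U₀ ⊓ WPU p' chart' hU (asR 𝒮'.toQCAlg (j'.app U e₀)), inf_le_left, ⟨hpt, hix⟩, ?_⟩
  have hle : U₀ ⊓ WPU p' chart' hU (asR 𝒮'.toQCAlg (j'.app U e₀)) ≤ p' ⁻¹ᵁ U :=
    inf_le_right.trans (WPU_le hU _)
  refine ⟨(hg.coef le_rfl (res O1 inf_le_left y) •
    res ((Scheme.Modules.pullback p').obj E') hle (pbs p' E' U e₀) :
    Γ((Scheme.Modules.pullback p').obj E', _)), ?_⟩
  have h1 : (pbLift p' φ).app (U₀ ⊓ WPU p' chart' hU (asR 𝒮'.toQCAlg (j'.app U e₀)))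
      (res ((Scheme.Modules.pullback p').obj E') hle (pbs p' E' U e₀)) =
      res O1 hle (sig hO hU (asR 𝒮'.toQCAlg (j'.app U e₀)) (hS'.2 U hU e₀)) := by
    rw [app_res, pbLift_pbs, canon_app_eq_sig hS' hO φ hφ hU e₀]
  rw [Scheme.Modules.Hom.app_smul, h1]
  have h := hg.coef_smul le_rfl (res O1 inf_le_left y)
  rw [res_self] at h
  exact h

end canon

end Groth.Agent.Lib.Helper28.RLPsiV
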