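import Groth.Agent.Lib.Helper28.RLPsiV1

/-!
# The action of `r_{L,ψ}` on functions, on a standard chart with affine `X_t` (helper28)
-/

set_option autoImplicit false
universe u
open CategoryTheory CategoryTheory.Limits AlgebraicGeometry Opposite TopologicalSpace
open HomogeneousLocalization
open scoped HomogeneousIdeal
noncomputable section

namespace Groth.Agent.Lib.Helper28.RSharp

open Groth.Agent.Lib.Helper28 Groth.Agent.Lib.Helper28.QCohLoc Groth.Agent.Lib.Helper28.TraceAlg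
open Groth.Agent.Lib.Helper28.GenLocus Groth.Agent.Lib.Helper28.SymAlg
open Groth.Agent.Lib.Helper28.RLPsi Groth.Agent.Lib.Helper28.RelTwistVal Groth.Agent.Lib.Helper28.RLPsiU
open Groth.Agent.Lib.Helper28.RLPsiV

section gen

theorem fromSpec_appLE_top {X : Scheme.{u}} {U : X.Opens} (hU : IsAffineOpen U) (h : ⊤ ≤ hU.fromSpec ⁻¹ᵁ U) :
    hU.fromSpec.appLE U ⊤ h = (Scheme.ΓSpecIso Γ(X, U)).inv := by
  unfold Scheme.Hom.appLE
  rw [hU.fromSpec_app_self, Category.assoc, ← Functor.map_comp]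
  have : ((eqToHom hU.fromSpec_preimage_self).op ≫ (homOfLE h).op) = 𝟙 _ := Subsingleton.elim _ _
  rw [this, CategoryTheory.Functor.map_id, Category.comp_id]

theorem appLE_top_injective {X Z : Scheme.{u}} (α : Z ⟶ X) [IsOpenImmersion α] (N : X.Opens)
    (hN : N ≤ α.opensRange) (hle : ⊤ ≤ α ⁻¹ᵁ N) : Function.Injective (α.appLE N ⊤ hle).hom := by
  have hiso : IsIso (α.app N) := Scheme.Hom.isIso_app _ _ hN
  have h1 : IsIso (homOfLE hle) := ⟨homOfLE le_top, Subsingleton.elim _ _, Subsingleton.elim _ _⟩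
  have hiso2 : IsIso (α.appLE N ⊤ hle) := by
    unfold Scheme.Hom.appLE
    infer_instance
  exact (ConcreteCategory.bijective_of_isIso (α.appLE N ⊤ hle)).1

end gen

section pp

variable {Y P : Scheme.{u}} {𝒮 : RelProj.QCGrAlg Y} {p : P ⟶ Y}
  {chart : ∀ (U : Y.Opens) (hU : IsAffineOpen U), (((p ⁻¹ᵁ U : P.Opens) : Scheme.{u}) ≅ Proj (𝒮.deg U hU))}
  {U : Y.Opens} (hU : IsAffineOpen U)

set_option backward.isDefEq.respectTransparency false in
/-- a function on `D₊(s) ⊆ P` reading as `A / s^k` is the element `A / s^k` of `S_(s)` on the chart `Spec S_(s)` -/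
theorem betaP_appLE_of_readsO {n : ℕ} (hn : 0 < n) (s : 𝒮.presheaf.obj (op U)) (hs : s ∈ 𝒮.deg U hU n)
    (c : Γ(P, WPU p chart hU s)) (k : ℕ) (A : 𝒮.presheaf.obj (op U)) (hA : A ∈ 𝒮.deg U hU (k • n))
    (hread : ReadsO p chart hU c A (s ^ k)) (hle : ⊤ ≤ (RLPsiU.betaP p chart hU hn s hs) ⁻¹ᵁ WPU p chart hU s) :
    ((RLPsiU.betaP p chart hU hn s hs).appLE (WPU p chart hU s) ⊤ hle).hom c =
      (Scheme.ΓSpecIso (RA hU s)).inv.hom (Away.mk (𝒮.deg U hU) hs k A hA) := by
  have hleD : Proj.basicOpen (𝒮.deg U hU) s ≤ (RelProj.emb p chart U hU) ⁻¹ᵁ WPU p chart hU s :=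
    fun z hz => ⟨z, hz, rfl⟩
  have h1 : ((RelProj.emb p chart U hU).appLE (WPU p chart hU s) (Proj.basicOpen (𝒮.deg U hU) s) hleD).hom c =
      (Proj.awayToSection (𝒮.deg U hU) s).hom (Away.mk (𝒮.deg U hU) hs k A hA) := by
    apply GrTwistGenD.valO_ext
    intro x
    rw [GrModQC.val_valO_awayToSection]
    have hx : (RelProj.emb p chart U hU).base x.1 ∈ WPU p chart hU s := hleD x.2
    have h2 : (GrModQC.valO (𝒮.deg U hU)
        (((RelProj.emb p chart U hU).appLE (WPU p chart hU s) (Proj.basicOpen (𝒮.deg U hU) s) hleD).hom c) x).val =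
        cvO p chart hU c x.1 hx := rfl
    rw [h2]
    have h3 := hread x.1 hx
    have hsx : s ^ k ∉ x.1.asHomogeneousIdeal := GrSectMod.pow_nin (𝒮.deg U hU) k x
    have hu : IsUnit (Localization.mk (s ^ k) 1 : GrTwist.Loc (𝒮.deg U hU) x.1) :=
      (GrModQC.isUnit_mk_iff (𝒮.deg U hU) x.1 (s ^ k) 1).2 hsx
    apply hu.mul_left_injective
    show cvO p chart hU c x.1 hx * Localization.mk (s ^ k) 1 = _ * Localization.mk (s ^ k) 1
    rw [h3, Localization.mk_mul, Localization.mk_eq_mk_iff, Localization.r_iff_exists]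
    refine ⟨1, ?_⟩
    simp only [OneMemClass.coe_one, one_mul, mul_one]
    ring
  have hK := ProjSect.awayToSection_appLE (𝒮.deg U hU) hn hs
  have h4 : (RLPsiU.betaP p chart hU hn s hs).appLE (WPU p chart hU s) ⊤ hle =
      (RelProj.emb p chart U hU).appLE (WPU p chart hU s) (Proj.basicOpen (𝒮.deg U hU) s) hleD ≫
        (Proj.awayι (𝒮.deg U hU) s hs hn).appLE (Proj.basicOpen (𝒮.deg U hU) s) ⊤
          (by rw [ProjSect.awayι_preimage_self]) := by
    unfold RLPsiU.betaP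
    rw [Scheme.Hom.appLE_comp_appLE]
  rw [h4, CommRingCat.comp_apply, h1, ← CommRingCat.comp_apply, hK]

end pp

end Groth.Agent.Lib.Helper28.RSharp
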