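import Groth.Agent.Lib.Helper28.RSharpA

/-!
# `r^♯(A / s^k) = e^♯(a)` when `ψ♭(A) = a · ψ♭(s)^k` on the affine `X_t` (helper28)
-/

set_option autoImplicit false
universe u
open CategoryTheory CategoryTheory.Limits AlgebraicGeometry Opposite TopologicalSpace
open HomogeneousLocalization
open scoped HomogeneousIdeal
noncomputable section

namespace Groth.Agent.Lib.Helper28.RSharp

open Groth.Agent.Lib.Helper28 Groth.Agent.Lib.Helper28.QCohLoc Groth.Agent.Lib.Helper28.TraceAlg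
open Groth.Agent.Lib.Helper28.GenLocus Groth.Agent.Lib.Helper28.SymAlg
open Groth.Agent.Lib.Helper28.RelTwistVal Groth.Agent.Lib.Helper28.RLPsiU
open Groth.Agent.Lib.Helper28.RLPsiV

section core

variable {Y X P PL : Scheme.{u}} {q : X ⟶ Y} {L : X.Modules} [L.IsQuasicoherent]
  {𝒮 : RelProj.QCGrAlg Y} {𝒮L : RelProj.QCGrAlg X} {j : L ⟶ 𝒮L.toModule} (hj : RelProj.IsGrSymAlg L 𝒮L j)
  (u : RelProj.QGrHom q 𝒮 𝒮L)
  (p : P ⟶ Y) (chart : ∀ (U : Y.Opens) (hU : IsAffineOpen U), (((p ⁻¹ᵁ U : P.Opens) : Scheme.{u}) ≅ Proj (𝒮.deg U hU)))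
  (hP : RelProj.IsRelProj 𝒮 p chart)
  (pL : PL ⟶ X)
  (chartL : ∀ (U : X.Opens) (hU : IsAffineOpen U), (((pL ⁻¹ᵁ U : PL.Opens) : Scheme.{u}) ≅ Proj (𝒮L.deg U hU)))
  (hPL : RelProj.IsRelProj 𝒮L pL chartL)
  (r : ((RelProj.domQ u pL chartL : PL.Opens) : Scheme.{u}) ⟶ P)
  (hr : RelProj.IsProjQMapOn u p chart pL chartL (RelProj.domQ u pL chartL) r)
  {U : Y.Opens} (hU : IsAffineOpen U)
  {n : ℕ} (hn : 0 < n) (s : 𝒮.presheaf.obj (op U)) (hs : s ∈ 𝒮.deg U hU n)

include hj hP hPL hr hn hs in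
theorem preimage_WPU_le (hL : PicF.IsInvertible L) :
    r ⁻¹ᵁ WPU p chart hU s ≤ ((RelProj.domQ u pL chartL).ι ≫ pL) ⁻¹ᵁ XTU u U n s := by
  intro z hz
  have h1 : (RelProj.domQ u pL chartL).ι z ∈ (RelProj.domQ u pL chartL).ι ''ᵁ (r ⁻¹ᵁ WPU p chart hU s) :=
    ⟨z, hz, rfl⟩
  rw [image_preimage_WP hj u p chart hP pL chartL hPL r hr hU hn s hs hL] at h1
  exact h1

include hj hP hPL hr hn hs in
theorem preimage_XTU_le (hL : PicF.IsInvertible L) :
    ((RelProj.domQ u pL chartL).ι ≫ pL) ⁻¹ᵁ XTU u U n s ≤ r ⁻¹ᵁ WPU p chart hU s := by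
  intro z hz
  have h1 : (RelProj.domQ u pL chartL).ι z ∈ pL ⁻¹ᵁ XTU u U n s := hz
  rw [← image_preimage_WP hj u p chart hP pL chartL hPL r hr hU hn s hs hL] at h1
  obtain ⟨z', hz', hzz'⟩ := h1
  have : z' = z := (RelProj.domQ u pL chartL).ι.isOpenEmbedding.injective hzz'
  rwa [← this]

variable (hV : IsAffineOpen (XTU u U n s))

include hj hP hPL hr hV in
set_option backward.isDefEq.respectTransparency false in
/-- **the action of `r` on functions**, on a chart `D₊(s)` with `X_t` affine -/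
theorem app_r_eq_appLE (hL : PicF.IsInvertible L) (c : Γ(P, WPU p chart hU s)) (k : ℕ)
    (A : 𝒮.presheaf.obj (op U)) (hA : A ∈ 𝒮.deg U hU (k • n)) (hread : ReadsO p chart hU c A (s ^ k))
    (a : Γ(X, XTU u U n s))
    (ha : tauU u U A (XTU u U n s) (XTU_le u n s) =
      (𝒮L.str.app (op (XTU u U n s))).hom a * (tauU u U s (XTU u U n s) (XTU_le u n s)) ^ k) :
    (r.app (WPU p chart hU s)).hom c =
      (((RelProj.domQ u pL chartL).ι ≫ pL).appLE (XTU u U n s) (r ⁻¹ᵁ WPU p chart hU s)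
        (preimage_WPU_le hj u p chart hP pL chartL hPL r hr hU hn s hs hL)).hom a := by
  have hrange : (alphaD u pL chartL hU hn s hs hV).opensRange = r ⁻¹ᵁ WPU p chart hU s :=
    opensRange_alphaD hj u p chart hP pL chartL hPL r hr hU hn s hs hV hL
  have hpreN : (alphaD u pL chartL hU hn s hs hV) ⁻¹ᵁ (r ⁻¹ᵁ WPU p chart hU s) = ⊤ := by
    rw [← hrange]
    exact Scheme.Hom.preimage_opensRange _
  have hleN : ⊤ ≤ (alphaD u pL chartL hU hn s hs hV) ⁻¹ᵁ (r ⁻¹ᵁ WPU p chart hU s) := hpreN.ge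
  apply appLE_top_injective (alphaD u pL chartL hU hn s hs hV) _ hrange.ge hleN
  -- the left-hand side
  have hβr := opensRange_betaP p chart hU hn s hs
  have hpreβ : (RLPsiU.betaP p chart hU hn s hs) ⁻¹ᵁ WPU p chart hU s = ⊤ := by
    rw [← hβr]
    exact Scheme.Hom.preimage_opensRange _
  have hsq : alphaD u pL chartL hU hn s hs hV ≫ r =
      Spec.map (psiAway u hU s hV) ≫ RLPsiU.betaP p chart hU hn s hs :=
    alphaD_r u p chart pL chartL r hr hU hn s hs hV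
  have hle2 : ⊤ ≤ (alphaD u pL chartL hU hn s hs hV ≫ r) ⁻¹ᵁ WPU p chart hU s := by
    rw [Scheme.Hom.comp_preimage]
    exact hleN
  have hL1 : ((alphaD u pL chartL hU hn s hs hV).appLE (r ⁻¹ᵁ WPU p chart hU s) ⊤ hleN).hom
        ((r.app (WPU p chart hU s)).hom c) =
      ((alphaD u pL chartL hU hn s hs hV ≫ r).appLE (WPU p chart hU s) ⊤ hle2).hom c := by
    rw [Scheme.Hom.comp_appLE, CommRingCat.comp_apply]
  have hL2 : ((alphaD u pL chartL hU hn s hs hV ≫ r).appLE (WPU p chart hU s) ⊤ hle2).hom c =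
      (Spec.map (psiAway u hU s hV)).appTop.hom
        (((RLPsiU.betaP p chart hU hn s hs).appLE (WPU p chart hU s) ⊤ hpreβ.ge).hom c) := by
    rw [ProjSect.appLE_congr' hsq (WPU p chart hU s) ⊤ hle2
      (by rw [Scheme.Hom.comp_preimage, hpreβ, Scheme.Hom.preimage_top]),
      ← Scheme.Hom.appLE_comp_appLE _ _ (WPU p chart hU s) ⊤ ⊤ hpreβ.ge le_top, CommRingCat.comp_apply]
    rfl
  rw [hL1, hL2, betaP_appLE_of_readsO hU hn s hs c k A hA hread hpreβ.ge]
  -- the right-hand side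
  have hcomp : alphaD u pL chartL hU hn s hs hV ≫ ((RelProj.domQ u pL chartL).ι ≫ pL) =
      Spec.map (strB u hU s hV) ≫ hV.fromSpec := by
    rw [← Category.assoc, alphaD_ι, specMap_strB_fromSpec u pL chartL hPL hU hn s hs hV]
  have hleV : ⊤ ≤ (alphaD u pL chartL hU hn s hs hV ≫ ((RelProj.domQ u pL chartL).ι ≫ pL)) ⁻¹ᵁ XTU u U n s := by
    rw [hcomp, Scheme.Hom.comp_preimage, hV.fromSpec_preimage_self, Scheme.Hom.preimage_top]
  have hR1 : ((alphaD u pL chartL hU hn s hs hV).appLE (r ⁻¹ᵁ WPU p chart hU s) ⊤ hleN).hom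
        ((((RelProj.domQ u pL chartL).ι ≫ pL).appLE (XTU u U n s) (r ⁻¹ᵁ WPU p chart hU s)
          (preimage_WPU_le hj u p chart hP pL chartL hPL r hr hU hn s hs hL)).hom a) =
      ((alphaD u pL chartL hU hn s hs hV ≫ ((RelProj.domQ u pL chartL).ι ≫ pL)).appLE
        (XTU u U n s) ⊤ hleV).hom a := by
    rw [← CommRingCat.comp_apply, Scheme.Hom.appLE_comp_appLE]
  have hR2 : ((alphaD u pL chartL hU hn s hs hV ≫ ((RelProj.domQ u pL chartL).ι ≫ pL)).appLE
        (XTU u U n s) ⊤ hleV).hom a =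
      (Spec.map (strB u hU s hV)).appTop.hom
        ((hV.fromSpec.appLE (XTU u U n s) ⊤ hV.fromSpec_preimage_self.ge).hom a) := by
    rw [ProjSect.appLE_congr' hcomp (XTU u U n s) ⊤ hleV
      (by rw [Scheme.Hom.comp_preimage, hV.fromSpec_preimage_self, Scheme.Hom.preimage_top]),
      ← Scheme.Hom.appLE_comp_appLE _ _ (XTU u U n s) ⊤ ⊤ hV.fromSpec_preimage_self.ge le_top,
      CommRingCat.comp_apply]
    rfl
  rw [hR1, hR2, fromSpec_appLE_top]
  -- naturality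
  have hn1 := Scheme.ΓSpecIso_inv_naturality (psiAway u hU s hV)
  have hn2 := Scheme.ΓSpecIso_inv_naturality (strB u hU s hV)
  rw [← CommRingCat.comp_apply, ← hn1, ← CommRingCat.comp_apply (Scheme.ΓSpecIso _).inv, ← hn2,
    CommRingCat.comp_apply, CommRingCat.comp_apply]
  congr 1
  rw [psiAway_mk u hU s hs hV k A hA, ext_iff_val, Away.val_mk]
  refine Eq.trans ?_ (val_strB u hU s hV a).symm
  rw [Localization.mk_eq_mk_iff, Localization.r_iff_exists]
  refine ⟨1, ?_⟩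
  have ha' : phiV u hU s hV A = (𝒮L.str.app (op (XTU u U n s))).hom a * (phiV u hU s hV s) ^ k := ha
  simp only [OneMemClass.coe_one, one_mul]
  rw [ha']
  first | rfl | exact mul_comm _ _ | ring

end core

end Groth.Agent.Lib.Helper28.RSharp
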