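import Groth.Agent.Lib.Helper28.RTwMain

/-!
# `r^*O_P(n) ≅ L^{⊗n}` for `L` ample relative to `f`: the isomorphism (helper28)
-/

set_option autoImplicit false
universe u
open CategoryTheory CategoryTheory.Limits AlgebraicGeometry Opposite TopologicalSpace
open HomogeneousLocalization
open scoped HomogeneousIdeal
noncomputable section

namespace Groth.Agent.Lib.Helper28.RTw

open Groth.Agent.Lib.Helper28 Groth.Agent.Lib.Helper28.QCohLoc Groth.Agent.Lib.Helper28.TraceAlg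
open Groth.Agent.Lib.Helper28.GenLocus Groth.Agent.Lib.Helper28.SymAlg
open Groth.Agent.Lib.Helper28.RelTwistVal Groth.Agent.Lib.Helper28.RLPsiU
open Groth.Agent.Lib.Helper28.RLPsiV Groth.Agent.Lib.Helper28.SymPow
open Groth.Agent.Lib.Helper28.RLPsi (rS rS_mul rS_pow rS_j rS_str smul_asR)
open Groth.Agent.Lib.Helper28.RelTwistFrac Groth.Agent.Lib.Helper28.RSharp
open Groth.Agent.Lib.Helper28.PullbackInv

section final

variable {Y X P PL : Scheme.{u}} {q : X ⟶ Y} {L : X.Modules} [L.IsQuasicoherent]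
  {𝒮 : RelProj.QCGrAlg Y} {𝒮L : RelProj.QCGrAlg X} {j : L ⟶ 𝒮L.toModule} (hj : RelProj.IsGrSymAlg L 𝒮L j)
  (u : RelProj.QGrHom q 𝒮 𝒮L)
  (p : P ⟶ Y) (chart : ∀ (U : Y.Opens) (hU : IsAffineOpen U), (((p ⁻¹ᵁ U : P.Opens) : Scheme.{u}) ≅ Proj (𝒮.deg U hU)))
  (hP : RelProj.IsRelProj 𝒮 p chart)
  (pL : PL ⟶ X)
  (chartL : ∀ (U : X.Opens) (hU : IsAffineOpen U), (((pL ⁻¹ᵁ U : PL.Opens) : Scheme.{u}) ≅ Proj (𝒮L.deg U hU)))
  (hPL : RelProj.IsRelProj 𝒮L pL chartL)
  (r : ((RelProj.domQ u pL chartL : PL.Opens) : Scheme.{u}) ⟶ P)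
  (hr : RelProj.IsProjQMapOn u p chart pL chartL (RelProj.domQ u pL chartL) r)
  {n : ℕ} {On : P.Modules}
  {lamn : ∀ (U : Y.Opens) (hU : IsAffineOpen U),
    On ⟶ (Scheme.Modules.pushforward (RelProj.emb p chart U hU)).obj (GrTwist.twist (𝒮.deg U hU) (n : ℤ))}
  (hOn : RelProj.IsRelTwist 𝒮 p chart (n : ℤ) On lamn)

include hj hP hPL hr hOn in
/-- **`r^*O_P(n) ≅ L^{⊗n}`** on `G(σ)`, when `L` is `f`-ample and `𝒮 = ⊕ f_*L^{⊗m}` -/
theorem nonempty_pullback_iso (hL : PicF.IsInvertible L)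
    (hu : ∀ (U : Y.Opens), IsAffineOpen U → Function.Bijective (u.app U).hom)
    (h : RelAmple.IsRelAmple q L) :
    Nonempty ((Scheme.Modules.pullback r).obj On ≅
      (Scheme.Modules.pullback ((RelProj.domQ u pL chartL).ι ≫ pL)).obj (CohB1.tensorPow L n)) := by
  classical
  have hqc : QuasiCompact q := h.1
  have hγex : ∀ i : Idx u j n, ∃ g : Γ(On, WPU p chart i.hU i.F),
      IsGen On (WPU p chart i.hU i.F) g ∧ ReadsFrac lamn i.hU g i.b i.F i.k := fun i =>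
    exists_gen_readsFrac hOn i.hU i.hF i.hD i.k i.i i.b i.hb i.hi i.k' i.i' i.b' i.hb' i.hi' i.hbb
  choose γ hγgen hγread using hγex
  let Wd : Idx u j n → ((RelProj.domQ u pL chartL : PL.Opens) : Scheme.{u}).Opens :=
    fun i => r ⁻¹ᵁ WPU p chart i.hU i.F
  have hWd : ∀ i : Idx u j n, Wd i ≤ ((RelProj.domQ u pL chartL).ι ≫ pL) ⁻¹ᵁ XTU u i.U i.D i.F := fun i =>
    preimage_WPU_le hj u p chart hP pL chartL hPL r hr i.hU i.hD i.F i.hF hL
  let gM : ∀ i : Idx u j n, Γ((Scheme.Modules.pullback r).obj On, Wd i) := fun i => pbs r On _ (γ i)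
  let gN : ∀ i : Idx u j n,
      Γ((Scheme.Modules.pullback ((RelProj.domQ u pL chartL).ι ≫ pL)).obj (CohB1.tensorPow L n), Wd i) :=
    fun i => res _ (hWd i) (pbs ((RelProj.domQ u pL chartL).ι ≫ pL) (CohB1.tensorPow L n) _ (gpow L i.t n))
  have hgM : ∀ i, IsGen ((Scheme.Modules.pullback r).obj On) (Wd i) (gM i) := fun i => isGen_pbs (hγgen i)
  have hgN : ∀ i, IsGen ((Scheme.Modules.pullback ((RelProj.domQ u pL chartL).ι ≫ pL)).obj (CohB1.tensorPow L n))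
      (Wd i) (gN i) := fun i => (isGen_pbs (isGen_gpow i.ht n)).res (hWd i)
  have hcov : ∀ z : ((RelProj.domQ u pL chartL : PL.Opens) : Scheme.{u}), ∃ i : Idx u j n, z ∈ Wd i := by
    intro z
    obtain ⟨_, ⟨U, hU0, rfl⟩, hyU, -⟩ := Y.isBasis_affineOpens.exists_subset_of_mem_open
      (show q (((RelProj.domQ u pL chartL).ι ≫ pL) z) ∈ ((⊤ : Y.Opens) : Set Y) from trivial) (⊤ : Y.Opens).isOpen
    have hU : IsAffineOpen U := hU0
    have hc : IsCompact ((q ⁻¹ᵁ U : X.Opens) : Set X) :=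
      QuasiCompact.isCompact_preimage (f := q) _ U.isOpen hU.isCompact
    obtain ⟨D, F, t, k, i, k', i', b, b', hD, hF, hxF, haff, ht, hb, hi, hb', hi', hbb, hτ, hτ'⟩ :=
      exists_index hj u hL hU hc (h.2 ⟨U, hU⟩) (hu U hU) n _ hyU
    refine ⟨⟨U, hU, D, hD, F, hF, haff, t, ht, k, i, k', i', b, b', hb, hi, hb', hi', hbb, hτ, hτ'⟩, ?_⟩
    exact preimage_XTU_le hj u p chart hP pL chartL hPL r hr hU hD F hF hL hxF
  have hcoc : ∀ i k : Idx u j n, ∃ c : Γ(((RelProj.domQ u pL chartL : PL.Opens) : Scheme.{u}), Wd i ⊓ Wd k),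
      res ((Scheme.Modules.pullback r).obj On) inf_le_left (gM i) =
        (c • res ((Scheme.Modules.pullback r).obj On) inf_le_right (gM k) :
          Γ((Scheme.Modules.pullback r).obj On, Wd i ⊓ Wd k)) ∧
      res ((Scheme.Modules.pullback ((RelProj.domQ u pL chartL).ι ≫ pL)).obj (CohB1.tensorPow L n))
          inf_le_left (gN i) =
        (c • res ((Scheme.Modules.pullback ((RelProj.domQ u pL chartL).ι ≫ pL)).obj (CohB1.tensorPow L n))
          inf_le_right (gN k) :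
          Γ((Scheme.Modules.pullback ((RelProj.domQ u pL chartL).ι ≫ pL)).obj (CohB1.tensorPow L n),
            Wd i ⊓ Wd k)) := by
    intro i k
    refine exists_coef_of_local (gM i) (gM k) (gN i) (gN k) (hgM k) (hgN k) fun z hz => ?_
    exact local_compare_idx hj u p chart hP pL chartL hPL r hr hOn hL hu h i k (γ i) (hγread i) (γ k) (hγgen k)
      (hγread k) z hz
  obtain ⟨ψ, -⟩ := exists_iso_of_cocycle_gen Wd gM gN hgM hgN hcov hcoc
  exact ⟨ψ⟩

end final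

end Groth.Agent.Lib.Helper28.RTw
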