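import Groth.Agent.Lib.Helper28.SymPowJ

/-!
# Local data trivializing both `O_P(n)` and `L^{⊗n}` from relative ampleness (helper28)
-/

set_option autoImplicit false
universe u
open CategoryTheory CategoryTheory.Limits AlgebraicGeometry Opposite TopologicalSpace
noncomputable section

namespace Groth.Agent.Lib.Helper28.RTw

open Groth.Agent.Lib.Helper28 Groth.Agent.Lib.Helper28.QCohLoc Groth.Agent.Lib.Helper28.TraceAlg
open Groth.Agent.Lib.Helper28.GenLocus Groth.Agent.Lib.Helper28.SymAlg Groth.Agent.Lib.Helper28.AmpleUnit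
open Groth.Agent.Lib.Helper28.RLPsi Groth.Agent.Lib.Helper28.RLPsiU Groth.Agent.Lib.Helper28.SymPow

attribute [local instance] algAt

section idx

variable {Y X : Scheme.{u}} {q : X ⟶ Y} {L : X.Modules} [L.IsQuasicoherent]
  {𝒮 : RelProj.QCGrAlg Y} {𝒮L : RelProj.QCGrAlg X} {j : L ⟶ 𝒮L.toModule} (hj : RelProj.IsGrSymAlg L 𝒮L j)
  (u : RelProj.QGrHom q 𝒮 𝒮L)

include hj in
/-- **the local data**: `F` with `X_F` affine, a generator `t` of `L` over `X_F`, and fractions `b / F^k`, `b' / F^k'`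
inverse to each other with `ψ♭(b) = t^n ψ♭(F)^k` -/
theorem exists_index (hL : PicF.IsInvertible L) {U : Y.Opens} (hU : IsAffineOpen U)
    (hc : IsCompact ((q ⁻¹ᵁ U : X.Opens) : Set X)) (hA : CohB1.IsAmple (L.restrict (q ⁻¹ᵁ U).ι))
    (huU : Function.Bijective (u.app U).hom) (n : ℕ) (x : X) (hx : x ∈ q ⁻¹ᵁ U) :
    ∃ (D : ℕ) (F : 𝒮.presheaf.obj (op U)) (t : Γ(L, XTU u U D F)) (k i k' i' : ℕ)
      (b b' : 𝒮.presheaf.obj (op U)),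
      0 < D ∧ F ∈ 𝒮.deg U hU D ∧ x ∈ XTU u U D F ∧ IsAffineOpen (XTU u U D F) ∧ IsGen L (XTU u U D F) t ∧
      b ∈ 𝒮.deg U hU i ∧ (i : ℤ) = k * D + n ∧ b' ∈ 𝒮.deg U hU i' ∧ (i' : ℤ) = k' * D - n ∧
      b * b' = F ^ (k + k') ∧
      tauU u U b (XTU u U D F) (XTU_le u D F) =
        asR 𝒮L.toQCAlg (j.app (XTU u U D F) t) ^ n * (tauU u U F (XTU u U D F) (XTU_le u D F)) ^ k ∧
      asR 𝒮L.toQCAlg (j.app (XTU u U D F) t) ^ n * tauU u U b' (XTU u U D F) (XTU_le u D F) =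
        (tauU u U F (XTU u U D F) (XTU_le u D F)) ^ k' := by
  obtain ⟨W₀, g₀, hxW₀, hW₀, hg₀, hW₀U⟩ := exists_isGen_affine_le hL x (q ⁻¹ᵁ U) hx
  obtain ⟨D₁, F₁, hD₁, hF₁, hxF₁, hleF₁, haffF₁⟩ := exists_small_affine_XTU hj u hL hU hc hA huU x hx W₀ hxW₀
  have hqs : IsQuasiSeparated ((q ⁻¹ᵁ U : X.Opens) : Set X) := by
    rw [isQuasiSeparated_iff_quasiSeparatedSpace _ (q ⁻¹ᵁ U).isOpen]
    have : ((q ⁻¹ᵁ U : X.Opens) : Scheme.{u}).IsSeparated := isSeparated_of_isAmple hA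
    exact (inferInstance : QuasiSeparatedSpace ((q ⁻¹ᵁ U : X.Opens) : Scheme.{u}))
  -- the section `τ₁ = ψ(F₁)`
  have hτ₁ : LocDeg 𝒮L D₁ (q ⁻¹ᵁ U) ((u.app U).hom F₁) := by
    rw [← tauU_top_eq u U F₁]
    exact locDeg_tauU u hU hF₁ _ le_rfl
  have hXT₁ : XTU u U D₁ F₁ = NVloc 𝒮L D₁ (q ⁻¹ᵁ U) ((u.app U).hom F₁) := XTU_eq_NVloc_app u U D₁ F₁
  have hNle : NVloc 𝒮L D₁ (q ⁻¹ᵁ U) ((u.app U).hom F₁) ≤ W₀ := by rw [← hXT₁]; exact hleF₁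
  -- the generator over the nonvanishing locus
  have hgN : IsGen L _ (res L hNle g₀) := hg₀.res hNle
  have hσ : LocDeg 𝒮L 1 (NVloc 𝒮L D₁ (q ⁻¹ᵁ U) ((u.app U).hom F₁))
      (asR 𝒮L.toQCAlg (j.app _ (res L hNle g₀))) := by
    intro W hW hWN
    rw [rS_j]
    exact hj.2 W hW _
  obtain ⟨m, τG, hm, hτG, hres⟩ := exists_extension_sec_of_NVloc hj hL hc hqs D₁ 1 _ hτ₁ _ hσ
  obtain ⟨G, rfl⟩ := huU.2 τG
  have hG : G ∈ 𝒮.deg U hU (1 + m * D₁) := mem_deg_of_locDeg u hU huU.1 _ G hτG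
  -- `X_G ⊇ X_{F₁}`
  have hXG : XTU u U (1 + m * D₁) G ⊓ XTU u U D₁ F₁ = XTU u U D₁ F₁ := by
    rw [XTU_eq_NVloc_app u U (1 + m * D₁) G, hXT₁,
      NVloc_inf_of_res_eq hj hL hm hτ₁ hτG _ hσ hres, NVloc_gen hj hL hgN]
  have hXF : XTU u U (D₁ + (1 + m * D₁)) (F₁ * G) = XTU u U D₁ F₁ := by
    rw [XTU_mul hj u hL hU hF₁ hG, inf_comm, hXG]
  have hFdeg : F₁ * G ∈ 𝒮.deg U hU (D₁ + (1 + m * D₁)) := SetLike.mul_mem_graded hF₁ hG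
  have hleW₀ : XTU u U (D₁ + (1 + m * D₁)) (F₁ * G) ≤ W₀ := by rw [hXF]; exact hleF₁
  have hleN : XTU u U (D₁ + (1 + m * D₁)) (F₁ * G) ≤ NVloc 𝒮L D₁ (q ⁻¹ᵁ U) ((u.app U).hom F₁) := by
    rw [hXF, hXT₁]
  -- the key relation `ψ♭(G) = t ψ♭(F₁)^m` on `X_F`
  have hrel : tauU u U G (XTU u U (D₁ + (1 + m * D₁)) (F₁ * G)) (XTU_le u _ _) =
      asR 𝒮L.toQCAlg (j.app _ (res L hleW₀ g₀)) *
        (tauU u U F₁ (XTU u U (D₁ + (1 + m * D₁)) (F₁ * G)) (XTU_le u _ _)) ^ m := by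
    have h1 := congrArg (rS 𝒮L hleN) hres
    rw [rS_rS, rS_mul, rS_pow, rS_rS, rS_j, res_res] at h1
    rw [← rS_tauU u G le_rfl (XTU_le u _ _), ← rS_tauU u F₁ le_rfl (XTU_le u _ _), tauU_top_eq, tauU_top_eq]
    exact h1
  refine ⟨D₁ + (1 + m * D₁), F₁ * G, res L hleW₀ g₀, n * m, n * (m + 1) * (1 + m * D₁), n,
    n * (m + 1) * D₁, G ^ (n * (m + 1)), F₁ ^ (n * (m + 1)), by omega, hFdeg, ?_, ?_, hg₀.res hleW₀, ?_, ?_, ?_, ?_,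
    ?_, ?_, ?_⟩
  · rw [hXF]; exact hxF₁
  · rw [hXF]; exact haffF₁
  · have := SetLike.pow_mem_graded (n * (m + 1)) hG
    rwa [smul_eq_mul] at this
  · push_cast; ring
  · have := SetLike.pow_mem_graded (n * (m + 1)) hF₁
    rwa [smul_eq_mul] at this
  · push_cast; ring
  · rw [mul_pow]
    have e : n * m + n = n * (m + 1) := by ring
    rw [e, mul_comm]
  · rw [tauU_pow, tauU_mul, hrel]
    ring
  · rw [tauU_pow, tauU_mul, hrel]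
    ring

end idx

end Groth.Agent.Lib.Helper28.RTw
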