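import Groth.Agent.Lib.Helper28.GrTwistFrac
import Groth.Agent.Lib.Helper28.RelTwistVal

/-!
# Sections of `O_P(κ)` reading as a fraction `b / F^k` on a chart (helper28)
-/

set_option autoImplicit false
universe u
open CategoryTheory CategoryTheory.Limits AlgebraicGeometry Opposite TopologicalSpace
open scoped HomogeneousIdeal
noncomputable section

namespace Groth.Agent.Lib.Helper28.RelTwistFrac

open Groth.Agent.Lib.Helper28 Groth.Agent.Lib.Helper28.QCohLoc Groth.Agent.Lib.Helper28.GenLocus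
open Groth.Agent.Lib.Helper28.RelTwistVal

variable {Y P : Scheme.{u}} {𝒮 : RelProj.QCGrAlg Y} {p : P ⟶ Y}
  {chart : ∀ (U : Y.Opens) (hU : IsAffineOpen U), (((p ⁻¹ᵁ U : P.Opens) : Scheme.{u}) ≅ Proj (𝒮.deg U hU))}

section reads

variable {κ : ℤ} {L : P.Modules}
  (lam : ∀ (U : Y.Opens) (hU : IsAffineOpen U),
    L ⟶ (Scheme.Modules.pushforward (RelProj.emb p chart U hU)).obj (GrTwist.twist (𝒮.deg U hU) κ))

/-- the section `g` reads as the fraction `b / F^k` on the chart over `V` -/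
def ReadsFrac {V : Y.Opens} (hV : IsAffineOpen V) {T : P.Opens} (g : Γ(L, T)) (b F : 𝒮.presheaf.obj (op V)) (k : ℕ) :
    Prop :=
  ∀ (z : Proj (𝒮.deg V hV)) (hz : (RelProj.emb p chart V hV).base z ∈ T),
    F ∉ z.asHomogeneousIdeal ∧
      cv lam hV g z hz * (Localization.mk (F ^ k) 1 : GrTwist.Loc (𝒮.deg V hV) z) = Localization.mk b 1

variable {lam}

theorem ReadsFrac.res {V : Y.Opens} {hV : IsAffineOpen V} {T T' : P.Opens} {g : Γ(L, T)}
    {b F : 𝒮.presheaf.obj (op V)} {k : ℕ} (h : ReadsFrac lam hV g b F k) (hT : T' ≤ T) :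
    ReadsFrac lam hV (res L hT g) b F k := by
  intro z hz
  obtain ⟨hFz, hval⟩ := h z (hT hz)
  exact ⟨hFz, by rw [cv_res, hval]⟩

variable (hP : RelProj.IsRelProj 𝒮 p chart) (hL : RelProj.IsRelTwist 𝒮 p chart κ L lam)

include hP hL in
theorem ReadsFrac.basic {V W : Y.Opens} {hV : IsAffineOpen V} (hW : IsAffineOpen W) (r : Γ(Y, V))
    (e : W = Y.basicOpen r) (hle : W ≤ V) {T : P.Opens} {g : Γ(L, T)}
    {b F : 𝒮.presheaf.obj (op V)} {k : ℕ} (h : ReadsFrac lam hV g b F k) :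
    ReadsFrac lam hW g (𝒮.res hV hW hle b) (𝒮.res hV hW hle F) k := by
  intro y hy
  have hy' : (RelProj.emb p chart V hV).base (ProjectiveSpectrum.comap (𝒮.res hV hW hle)
        (irrelevant_le_map_of_eq 𝒮 hV hW r e hle) y) ∈ T := by
    rw [← emb_eq_of_eq hP hV hW r e hle y]; exact hy
  obtain ⟨hFz, hval⟩ := h _ hy'
  refine ⟨hFz, ?_⟩
  unfold cv at hval ⊢
  rw [val_basic hL hV hW r e hle T g y hy hy']
  have h1 := congrArg (GrTwist.locMap (𝒮.res hV hW hle) (irrelevant_le_map_of_eq 𝒮 hV hW r e hle) y) hval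
  rw [map_mul, GrTwist.locMap_mk, GrTwist.locMap_mk] at h1
  simp only [map_pow, OneMemClass.coe_one, map_one] at h1
  exact h1

end reads

section gens

variable {κ : ℤ} {L : P.Modules}
  {lam : ∀ (U : Y.Opens) (hU : IsAffineOpen U),
    L ⟶ (Scheme.Modules.pushforward (RelProj.emb p chart U hU)).obj (GrTwist.twist (𝒮.deg U hU) κ)}
  (hL : RelProj.IsRelTwist 𝒮 p chart κ L lam)

include hL in
/-- the generator `b / F^k` of `O_P(κ)` over the image of `D₊(F)`, when `b b' = F^(k+k')` -/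
theorem exists_gen_readsFrac {V : Y.Opens} (hV : IsAffineOpen V) {F : 𝒮.presheaf.obj (op V)} {d : ℕ}
    (hF : F ∈ 𝒮.deg V hV d) (hd : 0 < d) (k i : ℕ) (b : 𝒮.presheaf.obj (op V)) (hb : b ∈ 𝒮.deg V hV i)
    (hi : (i : ℤ) = k * d + κ) (k' i' : ℕ) (b' : 𝒮.presheaf.obj (op V)) (hb' : b' ∈ 𝒮.deg V hV i')
    (hi' : (i' : ℤ) = k' * d - κ) (hbb : b * b' = F ^ (k + k')) :
    ∃ g : Γ(L, RelProj.emb p chart V hV ''ᵁ Proj.basicOpen (𝒮.deg V hV) F),
      IsGen L (RelProj.emb p chart V hV ''ᵁ Proj.basicOpen (𝒮.deg V hV) F) g ∧ ReadsFrac lam hV g b F k := by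
  obtain ⟨γ, hγval, hγgen⟩ := GrTwistFrac.exists_generator_frac (𝒮.deg V hV) hF κ k i b hb hi k' i' b' hb' hi' hbb hd
  obtain ⟨g, hg, hlg⟩ := exists_gen_of_chart (RelProj.emb p chart V hV) L (GrTwist.twist (𝒮.deg V hV) κ)
    (lam V hV)
    (fun W hW => hL.bijective V hV W (hW.trans (RelProjQC.opensRange_emb p chart V hV).le))
    (Proj.basicOpen (𝒮.deg V hV) F) γ hγgen
  refine ⟨g, hg, fun z hz => ?_⟩
  have hzF : z ∈ Proj.basicOpen (𝒮.deg V hV) F := by
    obtain ⟨z', hz', hzz'⟩ := hz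
    have : z' = z := (RelProj.emb p chart V hV).isOpenEmbedding.injective hzz'
    rwa [← this]
  refine ⟨(Proj.mem_basicOpen _ F z).1 hzF, ?_⟩
  have h1 : cv lam hV g z hz = Localization.mk b ⟨F ^ k, GrSectMod.pow_nin (𝒮.deg V hV) k ⟨z, hzF⟩⟩ := by
    unfold cv
    rw [hlg]
    exact hγval ⟨z, hzF⟩
  rw [h1, Localization.mk_mul, Localization.mk_eq_mk_iff, Localization.r_iff_exists]
  refine ⟨1, ?_⟩
  simp only [OneMemClass.coe_one, one_mul, mul_one]
  ring

end gens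

end Groth.Agent.Lib.Helper28.RelTwistFrac
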