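import Groth.Agent.Lib.Helper28.SymPowI
import Groth.Agent.Lib.Helper28.SymPowG

/-!
# Small affine nonvanishing loci from ampleness (helper28)
-/

set_option autoImplicit false
universe u
open CategoryTheory CategoryTheory.Limits AlgebraicGeometry Opposite TopologicalSpace
noncomputable section

namespace Groth.Agent.Lib.Helper28.SymPow

open Groth.Agent.Lib.Helper28 Groth.Agent.Lib.Helper28.QCohLoc Groth.Agent.Lib.Helper28.TraceAlg
open Groth.Agent.Lib.Helper28.GenLocus Groth.Agent.Lib.Helper28.SymAlg Groth.Agent.Lib.Helper28.AmpleUnit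
open Groth.Agent.Lib.Helper28.RLPsi Groth.Agent.Lib.Helper28.RLPsiU

attribute [local instance] algAt

section small

variable {X : Scheme.{u}} {L : X.Modules} [L.IsQuasicoherent]
  {𝒮 : RelProj.QCGrAlg X} {j : L ⟶ 𝒮.toModule} (hS : RelProj.IsGrSymAlg L 𝒮 j) (hL : PicF.IsInvertible L)

omit [L.IsQuasicoherent] in
theorem locDeg_str {V : X.Opens} (a : Γ(X, V)) : LocDeg 𝒮 0 V ((𝒮.str.app (op V)).hom a) := by
  intro W hW hWV
  rw [rS_str]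
  exact 𝒮.str_mem W hW _

include hS hL in
/-- ampleness on a quasi-compact open `V` gives arbitrarily small affine nonvanishing loci -/
theorem exists_small_affine_NVloc {V : X.Opens} (hVc : IsCompact (V : Set X))
    (hA : CohB1.IsAmple (L.restrict V.ι)) (x : X) (hx : x ∈ V) (O : X.Opens) (hxO : x ∈ O) :
    ∃ (d : ℕ) (τ : 𝒮.presheaf.obj (op V)), 0 < d ∧ LocDeg 𝒮 d V τ ∧ x ∈ NVloc 𝒮 d V τ ∧
      NVloc 𝒮 d V τ ≤ O ∧ IsAffineOpen (NVloc 𝒮 d V τ) := by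
  obtain ⟨n, s', hys', haff⟩ := hA.2.2 ⟨x, hx⟩
  obtain ⟨τ₀, hτ₀, hloc⟩ := exists_locDeg_of_section hS hL (n + 1) V s'
  have hqs : IsQuasiSeparated (V : Set X) := by
    rw [isQuasiSeparated_iff_quasiSeparatedSpace _ V.isOpen]
    have : ((V : X.Opens) : Scheme.{u}).IsSeparated := isSeparated_of_isAmple hA
    exact (inferInstance : QuasiSeparatedSpace ((V : X.Opens) : Scheme.{u}))
  have hx0 : x ∈ NVloc 𝒮 (n + 1) V τ₀ := by
    have h1 : (⟨x, hx⟩ : ((V : X.Opens) : Scheme.{u})) ∈ V.ι ⁻¹ᵁ NVloc 𝒮 (n + 1) V τ₀ := by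
      rw [hloc]
      exact hys'
    exact h1
  have haff0 : IsAffineOpen (NVloc 𝒮 (n + 1) V τ₀) := by
    have h1 := haff.image_of_isOpenImmersion V.ι
    rw [← hloc, Scheme.Hom.image_preimage_eq_opensRange_inf, Scheme.Opens.opensRange_ι,
      inf_eq_right.2 (NVloc_le (n + 1) V _)] at h1
    exact h1
  obtain ⟨h, hhle, hxh⟩ := haff0.exists_basicOpen_le (V := O) ⟨x, hxO⟩ hx0
  obtain ⟨m, τ', hm, hτ', hres⟩ := exists_extension_of_NVloc hS hL hVc hqs (n + 1) τ₀ hτ₀ h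
  have hτ'' : LocDeg 𝒮 (0 + m * (n + 1)) V τ' := by rw [zero_add]; exact hτ'
  have key : NVloc 𝒮 (0 + m * (n + 1) + (n + 1)) V (τ' * τ₀) = X.basicOpen h := by
    rw [NVloc_mul hS hL hτ'' hτ₀,
      NVloc_inf_of_res_eq hS hL hm hτ₀ hτ'' ((𝒮.str.app (op (NVloc 𝒮 (n + 1) V τ₀))).hom h) (locDeg_str h) hres,
      NVloc_str hS hL]
  refine ⟨0 + m * (n + 1) + (n + 1), τ' * τ₀, by omega, hτ''.mul hτ₀, ?_, ?_, ?_⟩
  · rw [key]; exact hxh
  · rw [key]; exact hhle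
  · rw [key]; exact haff0.basicOpen h

end small

section rel

variable {Y X : Scheme.{u}} {q : X ⟶ Y} {L : X.Modules} [L.IsQuasicoherent]
  {𝒮 : RelProj.QCGrAlg Y} {𝒮L : RelProj.QCGrAlg X} {j : L ⟶ 𝒮L.toModule} (hj : RelProj.IsGrSymAlg L 𝒮L j)
  (u : RelProj.QGrHom q 𝒮 𝒮L)

omit [L.IsQuasicoherent] in
theorem XTU_eq_NVloc_app (U : Y.Opens) (n : ℕ) (s : 𝒮.presheaf.obj (op U)) :
    XTU u U n s = NVloc 𝒮L n (q ⁻¹ᵁ U) ((u.app U).hom s) := by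
  rw [XTU_eq_NVloc, tauU_top_eq]

include hj in
theorem XTU_mul (hL : PicF.IsInvertible L) {U : Y.Opens} (hU : IsAffineOpen U) {d₁ d₂ : ℕ}
    {s₁ s₂ : 𝒮.presheaf.obj (op U)} (h₁ : s₁ ∈ 𝒮.deg U hU d₁) (h₂ : s₂ ∈ 𝒮.deg U hU d₂) :
    XTU u U (d₁ + d₂) (s₁ * s₂) = XTU u U d₁ s₁ ⊓ XTU u U d₂ s₂ := by
  rw [XTU_eq_NVloc_app, XTU_eq_NVloc_app, XTU_eq_NVloc_app, map_mul]
  refine NVloc_mul hj hL ?_ ?_
  · rw [← tauU_top_eq u U s₁]
    exact locDeg_tauU u hU h₁ _ le_rfl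
  · rw [← tauU_top_eq u U s₂]
    exact locDeg_tauU u hU h₂ _ le_rfl

include hj in
/-- **relative ampleness gives arbitrarily small affine `X_t`**, inside a given `X_H` -/
theorem exists_small_affine_XTU (hL : PicF.IsInvertible L) {U : Y.Opens} (hU : IsAffineOpen U)
    (hc : IsCompact ((q ⁻¹ᵁ U : X.Opens) : Set X)) (hA : CohB1.IsAmple (L.restrict (q ⁻¹ᵁ U).ι))
    (huU : Function.Bijective (u.app U).hom) (x : X) (hx : x ∈ q ⁻¹ᵁ U) (O : X.Opens) (hxO : x ∈ O) :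
    ∃ (d : ℕ) (f : 𝒮.presheaf.obj (op U)), 0 < d ∧ f ∈ 𝒮.deg U hU d ∧ x ∈ XTU u U d f ∧
      XTU u U d f ≤ O ∧ IsAffineOpen (XTU u U d f) := by
  obtain ⟨d, τ, hd, hτ, hxτ, hle, haff⟩ := exists_small_affine_NVloc hj hL hc hA x hx O hxO
  obtain ⟨f, rfl⟩ := huU.2 τ
  have hf : f ∈ 𝒮.deg U hU d := mem_deg_of_locDeg u hU huU.1 d f hτ
  refine ⟨d, f, hd, hf, ?_, ?_, ?_⟩
  · rw [XTU_eq_NVloc_app]; exact hxτ
  · rw [XTU_eq_NVloc_app]; exact hle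
  · rw [XTU_eq_NVloc_app]; exact haff

include hj in
/-- small affine `X_{f H}` for a given `H` nonvanishing at the point -/
theorem exists_small_affine_XTU_mul (hL : PicF.IsInvertible L) {U : Y.Opens} (hU : IsAffineOpen U)
    (hc : IsCompact ((q ⁻¹ᵁ U : X.Opens) : Set X)) (hA : CohB1.IsAmple (L.restrict (q ⁻¹ᵁ U).ι))
    (huU : Function.Bijective (u.app U).hom) (x : X) (hx : x ∈ q ⁻¹ᵁ U) (O : X.Opens) (hxO : x ∈ O)
    {E : ℕ} (H : 𝒮.presheaf.obj (op U)) (hH : H ∈ 𝒮.deg U hU E) (hxH : x ∈ XTU u U E H) :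
    ∃ (d : ℕ) (f : 𝒮.presheaf.obj (op U)), 0 < d ∧ f ∈ 𝒮.deg U hU d ∧ x ∈ XTU u U (d + E) (f * H) ∧
      XTU u U (d + E) (f * H) ≤ O ∧ IsAffineOpen (XTU u U (d + E) (f * H)) := by
  obtain ⟨d, f, hd, hf, hxf, hle, haff⟩ := exists_small_affine_XTU hj u hL hU hc hA huU x hx
    (O ⊓ XTU u U E H) ⟨hxO, hxH⟩
  have e : XTU u U (d + E) (f * H) = XTU u U d f := by
    rw [XTU_mul hj u hL hU hf hH]
    exact inf_eq_left.2 (hle.trans inf_le_right)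
  refine ⟨d, f, hd, hf, ?_, ?_, ?_⟩
  · rw [e]; exact hxf
  · rw [e]; exact hle.trans inf_le_left
  · rw [e]; exact haff

end rel

end Groth.Agent.Lib.Helper28.SymPow
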