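import Groth.Agent.Lib.Helper28.RSharpB
import Groth.Agent.Lib.Helper28.RelTwistFrac
import Groth.Agent.Lib.Helper28.SymPowJ

/-!
# Restriction lemmas for `ψ♭`, `X_t`, `D₊` along basic opens of the base (helper28)
-/

set_option autoImplicit false
universe u
open CategoryTheory CategoryTheory.Limits AlgebraicGeometry Opposite TopologicalSpace
open HomogeneousLocalization
open scoped HomogeneousIdeal
noncomputable section

namespace Groth.Agent.Lib.Helper28.RTw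

open Groth.Agent.Lib.Helper28 Groth.Agent.Lib.Helper28.QCohLoc Groth.Agent.Lib.Helper28.TraceAlg
open Groth.Agent.Lib.Helper28.GenLocus Groth.Agent.Lib.Helper28.SymAlg
open Groth.Agent.Lib.Helper28.RelTwistVal Groth.Agent.Lib.Helper28.RLPsiU
open Groth.Agent.Lib.Helper28.RLPsiV Groth.Agent.Lib.Helper28.SymPow
open Groth.Agent.Lib.Helper28.RLPsi (rS rS_mul rS_pow rS_j rS_str)

/-- the algebra behind the comparison of two fractions -/
theorem frac_algebra {R : Type*} [CommRing R] {x g g' h₁ h₂ h₂' β₁ β₂ β₂' α φ : R} (hu₁ : IsUnit h₁)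
    (hu₂ : IsUnit h₂) (hu₂' : IsUnit h₂') (e1 : g = x * g') (e2 : g * h₁ = β₁) (e3 : g' * h₂ = β₂)
    (e4 : β₂ * β₂' = h₂ * h₂') (e5 : α * h₁ * h₂' = β₁ * β₂' * φ) : x * φ = α := by
  have k1 : g' * β₂' = h₂' := by
    apply hu₂.mul_left_cancel
    linear_combination β₂' * e3 + e4
  apply (hu₁.mul hu₂').mul_left_cancel
  linear_combination (-1 : R) * e5 + β₂' * φ * e2 - h₁ * β₂' * φ * e1 - x * h₁ * φ * k1

section rel

variable {Y X : Scheme.{u}} {q : X ⟶ Y} {L : X.Modules} [L.IsQuasicoherent]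
  {𝒮 : RelProj.QCGrAlg Y} {𝒮L : RelProj.QCGrAlg X} {j : L ⟶ 𝒮L.toModule} (hj : RelProj.IsGrSymAlg L 𝒮L j)
  (u : RelProj.QGrHom q 𝒮 𝒮L)

omit [L.IsQuasicoherent] in
theorem tauU_res {V W : Y.Opens} (hV : IsAffineOpen V) (hW : IsAffineOpen W) (hle : W ≤ V)
    (s : 𝒮.presheaf.obj (op V)) (T : X.Opens) (hT : T ≤ q ⁻¹ᵁ W) :
    tauU u W (𝒮.res hV hW hle s) T hT = tauU u V s T (hT.trans (q.preimage_mono hle)) :=
  congrArg (fun k => k.hom s) (u.toQHom.map_appLE hle hT)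

omit [L.IsQuasicoherent] in
theorem app_res_eq {V W : Y.Opens} (hV : IsAffineOpen V) (hW : IsAffineOpen W) (hle : W ≤ V)
    (s : 𝒮.presheaf.obj (op V)) :
    (u.app W).hom (𝒮.res hV hW hle s) = rS 𝒮L (q.preimage_mono hle) ((u.app V).hom s) := by
  have h1 := tauU_res u hV hW hle s (q ⁻¹ᵁ W) le_rfl
  rw [tauU_top_eq] at h1
  rw [h1, ← tauU_top_eq u V s, rS_tauU]

include hj in
theorem XTU_res (hL : PicF.IsInvertible L) {V W : Y.Opens} (hV : IsAffineOpen V) (hW : IsAffineOpen W)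
    (hle : W ≤ V) {d : ℕ} (s : 𝒮.presheaf.obj (op V)) (hs : s ∈ 𝒮.deg V hV d) :
    XTU u W d (𝒮.res hV hW hle s) = XTU u V d s ⊓ q ⁻¹ᵁ W := by
  have hτ : LocDeg 𝒮L d (q ⁻¹ᵁ V) ((u.app V).hom s) := by
    rw [← tauU_top_eq u V s]
    exact locDeg_tauU u hV hs _ le_rfl
  rw [XTU_eq_NVloc_app, XTU_eq_NVloc_app, app_res_eq u hV hW hle s,
    NVloc_res hj hL hτ (q.preimage_mono hle)]

end rel

section wpu

variable {Y P : Scheme.{u}} {𝒮 : RelProj.QCGrAlg Y} {p : P ⟶ Y}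
  {chart : ∀ (U : Y.Opens) (hU : IsAffineOpen U), (((p ⁻¹ᵁ U : P.Opens) : Scheme.{u}) ≅ Proj (𝒮.deg U hU))}
  (hP : RelProj.IsRelProj 𝒮 p chart)

include hP in
theorem WPU_res_le {V W : Y.Opens} (hV : IsAffineOpen V) (hW : IsAffineOpen W) (r : Γ(Y, V))
    (e : W = Y.basicOpen r) (hle : W ≤ V) (s : 𝒮.presheaf.obj (op V)) :
    WPU p chart hW (𝒮.res hV hW hle s) ≤ WPU p chart hV s := by
  rintro _ ⟨y, hy, rfl⟩
  have h1 := emb_eq_of_eq hP hV hW r e hle y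
  show (RelProj.emb p chart W hW).base y ∈ WPU p chart hV s
  rw [h1]
  exact (mem_WPU_iff hV s _).2 ((Proj.mem_basicOpen _ _ y).1 hy)

theorem WPU_mul_le_left {U : Y.Opens} (hU : IsAffineOpen U) (a b : 𝒮.presheaf.obj (op U)) :
    WPU p chart hU (a * b) ≤ WPU p chart hU a := by
  rintro _ ⟨y, hy, rfl⟩
  have h1 : a * b ∉ y.asHomogeneousIdeal := (Proj.mem_basicOpen _ _ y).1 hy
  exact (mem_WPU_iff hU a y).2 fun h => h1 (Ideal.mul_mem_right _ _ h)

theorem WPU_mul_le_right {U : Y.Opens} (hU : IsAffineOpen U) (a b : 𝒮.presheaf.obj (op U)) :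
    WPU p chart hU (a * b) ≤ WPU p chart hU b := by
  rw [mul_comm]
  exact WPU_mul_le_left hU b a

end wpu

end Groth.Agent.Lib.Helper28.RTw
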