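import Groth.Agent.Lib.Helper28.RTwLCa
import Groth.Agent.Lib.Helper28.PullbackInv
import Groth.Agent.Lib.Helper28.TensorPowGen
import Groth.Agent.Lib.Helper28.GenIso

/-!
# Local comparison of the generators of `r^*O_P(n)` and of `L^{⊗n}` on a standard chart (helper28)
-/

set_option autoImplicit false
universe u
open CategoryTheory CategoryTheory.Limits AlgebraicGeometry Opposite TopologicalSpace
open HomogeneousLocalization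
open scoped HomogeneousIdeal
noncomputable section

namespace Groth.Agent.Lib.Helper28.RTw

open Groth.Agent.Lib.Helper28 Groth.Agent.Lib.Helper28.QCohLoc Groth.Agent.Lib.Helper28.TraceAlg
open Groth.Agent.Lib.Helper28.GenLocus Groth.Agent.Lib.Helper28.SymAlg
open Groth.Agent.Lib.Helper28.RelTwistVal Groth.Agent.Lib.Helper28.RLPsiU
open Groth.Agent.Lib.Helper28.RLPsiV Groth.Agent.Lib.Helper28.SymPow
open Groth.Agent.Lib.Helper28.RLPsi (rS rS_mul rS_pow rS_j rS_str smul_asR)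
open Groth.Agent.Lib.Helper28.RelTwistFrac Groth.Agent.Lib.Helper28.RSharp
open Groth.Agent.Lib.Helper28.PullbackInv

section lc

variable {Y X P PL : Scheme.{u}} {q : X ⟶ Y} {L : X.Modules} [L.IsQuasicoherent]
  {𝒮 : RelProj.QCGrAlg Y} {𝒮L : RelProj.QCGrAlg X} {j : L ⟶ 𝒮L.toModule} (hj : RelProj.IsGrSymAlg L 𝒮L j)
  (u : RelProj.QGrHom q 𝒮 𝒮L)
  (p : P ⟶ Y) (chart : ∀ (U : Y.Opens) (hU : IsAffineOpen U), (((p ⁻¹ᵁ U : P.Opens) : Scheme.{u}) ≅ Proj (𝒮.deg U hU)))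
  (hP : RelProj.IsRelProj 𝒮 p chart)
  (pL : PL ⟶ X)
  (chartL : ∀ (U : X.Opens) (hU : IsAffineOpen U), (((pL ⁻¹ᵁ U : PL.Opens) : Scheme.{u}) ≅ Proj (𝒮L.deg U hU)))
  (hPL : RelProj.IsRelProj 𝒮L pL chartL)
  (r : ((RelProj.domQ u pL chartL : PL.Opens) : Scheme.{u}) ⟶ P)
  (hr : RelProj.IsProjQMapOn u p chart pL chartL (RelProj.domQ u pL chartL) r)
  {n : ℕ} {On : P.Modules}
  {lamn : ∀ (U : Y.Opens) (hU : IsAffineOpen U),
    On ⟶ (Scheme.Modules.pushforward (RelProj.emb p chart U hU)).obj (GrTwist.twist (𝒮.deg U hU) (n : ℤ))}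
  (hOn : RelProj.IsRelTwist 𝒮 p chart (n : ℤ) On lamn)
  {U : Y.Opens} (hU : IsAffineOpen U)

include hOn in
/-- the coefficient of two sections reading as fractions reads as the quotient fraction -/
theorem readsO_coef (F₀ H₁ H₂ : 𝒮.presheaf.obj (op U))
    (γ γ' : Γ(On, WPU p chart hU (F₀ * (H₁ * H₂)))) (c : Γ(P, WPU p chart hU (F₀ * (H₁ * H₂))))
    (hc : γ = (c • γ' : Γ(On, WPU p chart hU (F₀ * (H₁ * H₂)))))
    {k₁ k₂ k₂' : ℕ} {b₁ b₂ b₂' : 𝒮.presheaf.obj (op U)}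
    (hbb : b₂ * b₂' = H₂ ^ (k₂ + k₂'))
    (hr₁ : ReadsFrac lamn hU γ b₁ H₁ k₁) (hr₂ : ReadsFrac lamn hU γ' b₂ H₂ k₂) :
    ReadsO p chart hU c (b₁ * b₂' * H₁ ^ k₂' * H₂ ^ k₁ * F₀ ^ (k₁ + k₂')) ((F₀ * (H₁ * H₂)) ^ (k₁ + k₂')) := by
  intro z hz
  obtain ⟨hH₁z, e2⟩ := hr₁ z hz
  obtain ⟨hH₂z, e3⟩ := hr₂ z hz
  have e1 : cv lamn hU γ z hz = cvO p chart hU c z hz * cv lamn hU γ' z hz := by
    rw [hc, cv_smul]
  have key : ∀ a : 𝒮.presheaf.obj (op U), (Localization.mk a 1 : GrTwist.Loc (𝒮.deg U hU) z) =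
      algebraMap _ (GrTwist.Loc (𝒮.deg U hU) z) a := fun a => Localization.mk_one_eq_algebraMap a
  have hu : ∀ (H : 𝒮.presheaf.obj (op U)) (k : ℕ), H ∉ z.asHomogeneousIdeal →
      IsUnit (Localization.mk (H ^ k) 1 : GrTwist.Loc (𝒮.deg U hU) z) := fun H k hH =>
    (GrModQC.isUnit_mk_iff (𝒮.deg U hU) z (H ^ k) 1).2 fun h => hH (z.isPrime.mem_of_pow_mem _ h)
  refine frac_algebra (β₂' := Localization.mk b₂' 1) (hu H₁ k₁ hH₁z) (hu H₂ k₂ hH₂z) (hu H₂ k₂' hH₂z) e1 e2 e3 ?_ ?_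
  · rw [key, key, key, key, ← map_mul, ← map_mul, hbb, pow_add]
  · rw [key, key, key, key, key, key, ← map_mul, ← map_mul, ← map_mul, ← map_mul]
    congr 1
    ring

include hj hP hPL hr hOn in
/-- **the local comparison** on a standard chart `D₊(F₀ H₁ H₂)` with `X_{F₀ H₁ H₂}` affine -/
theorem local_compare (hL : PicF.IsInvertible L) {D d₀ E₁ E₂ : ℕ} (hD : 0 < D)
    (F₀ H₁ H₂ : 𝒮.presheaf.obj (op U)) (hF₀ : F₀ ∈ 𝒮.deg U hU d₀) (hH₁ : H₁ ∈ 𝒮.deg U hU E₁)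
    (hH₂ : H₂ ∈ 𝒮.deg U hU E₂) (hDe : D = d₀ + (E₁ + E₂))
    (hF : F₀ * (H₁ * H₂) ∈ 𝒮.deg U hU D)
    (hV : IsAffineOpen (XTU u U D (F₀ * (H₁ * H₂))))
    (γ γ' : Γ(On, WPU p chart hU (F₀ * (H₁ * H₂)))) (hγ' : IsGen On (WPU p chart hU (F₀ * (H₁ * H₂))) γ')
    {k₁ i₁ k₂ k₂' i₂' : ℕ} {b₁ b₂ b₂' : 𝒮.presheaf.obj (op U)}
    (hb₁ : b₁ ∈ 𝒮.deg U hU i₁) (hi₁ : (i₁ : ℤ) = k₁ * E₁ + n)
    (hb₂' : b₂' ∈ 𝒮.deg U hU i₂') (hi₂' : (i₂' : ℤ) = k₂' * E₂ - n)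
    (hbb : b₂ * b₂' = H₂ ^ (k₂ + k₂'))
    (hr₁ : ReadsFrac lamn hU γ b₁ H₁ k₁) (hr₂ : ReadsFrac lamn hU γ' b₂ H₂ k₂)
    (t t' : Γ(L, XTU u U D (F₀ * (H₁ * H₂)))) (ht' : IsGen L (XTU u U D (F₀ * (H₁ * H₂))) t')
    (hτ₁ : tauU u U b₁ (XTU u U D (F₀ * (H₁ * H₂))) (XTU_le u D _) =
      asR 𝒮L.toQCAlg (j.app _ t) ^ n * (tauU u U H₁ (XTU u U D (F₀ * (H₁ * H₂))) (XTU_le u D _)) ^ k₁)
    (hτ₂ : asR 𝒮L.toQCAlg (j.app _ t') ^ n * tauU u U b₂' (XTU u U D (F₀ * (H₁ * H₂))) (XTU_le u D _) =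
      (tauU u U H₂ (XTU u U D (F₀ * (H₁ * H₂))) (XTU_le u D _)) ^ k₂') :
    ∃ w : Γ(((RelProj.domQ u pL chartL : PL.Opens) : Scheme.{u}), r ⁻¹ᵁ WPU p chart hU (F₀ * (H₁ * H₂))),
      pbs r On _ γ = (w • pbs r On _ γ' :
        Γ((Scheme.Modules.pullback r).obj On, r ⁻¹ᵁ WPU p chart hU (F₀ * (H₁ * H₂)))) ∧
      res ((Scheme.Modules.pullback ((RelProj.domQ u pL chartL).ι ≫ pL)).obj (CohB1.tensorPow L n))
          (preimage_WPU_le hj u p chart hP pL chartL hPL r hr hU hD _ hF hL)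
          (pbs ((RelProj.domQ u pL chartL).ι ≫ pL) (CohB1.tensorPow L n) _ (gpow L t n)) =
        (w • res ((Scheme.Modules.pullback ((RelProj.domQ u pL chartL).ι ≫ pL)).obj (CohB1.tensorPow L n))
          (preimage_WPU_le hj u p chart hP pL chartL hPL r hr hU hD _ hF hL)
          (pbs ((RelProj.domQ u pL chartL).ι ≫ pL) (CohB1.tensorPow L n) _ (gpow L t' n)) :
        Γ((Scheme.Modules.pullback ((RelProj.domQ u pL chartL).ι ≫ pL)).obj (CohB1.tensorPow L n),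
          r ⁻¹ᵁ WPU p chart hU (F₀ * (H₁ * H₂)))) := by
  -- the coefficients
  have hc : γ = (hγ'.coef le_rfl γ • γ' : Γ(On, WPU p chart hU (F₀ * (H₁ * H₂)))) := by
    have h1 := hγ'.coef_smul le_rfl γ
    rw [res_self] at h1
    exact h1.symm
  have hρ : t = (ht'.coef le_rfl t • t' : Γ(L, XTU u U D (F₀ * (H₁ * H₂)))) := by
    have h1 := ht'.coef_smul le_rfl t
    rw [res_self] at h1
    exact h1.symm
  set c := hγ'.coef le_rfl γ with hcdef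
  set ρ := ht'.coef le_rfl t with hρdef
  have hread := readsO_coef p chart hOn hU F₀ H₁ H₂ γ γ' c hc hbb hr₁ hr₂
  -- the degree of the numerator
  have hA : b₁ * b₂' * H₁ ^ k₂' * H₂ ^ k₁ * F₀ ^ (k₁ + k₂') ∈ 𝒮.deg U hU ((k₁ + k₂') • D) := by
    have h1 : H₁ ^ k₂' ∈ 𝒮.deg U hU (k₂' * E₁) := by simpa using SetLike.pow_mem_graded k₂' hH₁
    have h2 : H₂ ^ k₁ ∈ 𝒮.deg U hU (k₁ * E₂) := by simpa using SetLike.pow_mem_graded k₁ hH₂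
    have h3 : F₀ ^ (k₁ + k₂') ∈ 𝒮.deg U hU ((k₁ + k₂') * d₀) := by
      simpa using SetLike.pow_mem_graded (k₁ + k₂') hF₀
    have h4 := SetLike.mul_mem_graded (SetLike.mul_mem_graded (SetLike.mul_mem_graded
      (SetLike.mul_mem_graded hb₁ hb₂') h1) h2) h3
    have e : i₁ + i₂' + k₂' * E₁ + k₁ * E₂ + (k₁ + k₂') * d₀ = (k₁ + k₂') • D := by
      rw [smul_eq_mul, hDe]
      zify
      rw [hi₁, hi₂']
      ring
    rwa [e] at h4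
  -- the relation on `X_F`
  have hT : asR 𝒮L.toQCAlg (j.app _ t) =
      (𝒮L.str.app (op (XTU u U D (F₀ * (H₁ * H₂))))).hom ρ * asR 𝒮L.toQCAlg (j.app _ t') := by
    conv_lhs => rw [hρ]
    rw [Scheme.Modules.Hom.app_smul, smul_asR]
  have ha : tauU u U (b₁ * b₂' * H₁ ^ k₂' * H₂ ^ k₁ * F₀ ^ (k₁ + k₂')) (XTU u U D (F₀ * (H₁ * H₂)))
        (XTU_le u D _) =
      (𝒮L.str.app (op (XTU u U D (F₀ * (H₁ * H₂))))).hom (ρ ^ n) *
        (tauU u U (F₀ * (H₁ * H₂)) (XTU u U D (F₀ * (H₁ * H₂))) (XTU_le u D _)) ^ (k₁ + k₂') := by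
    simp only [tauU_mul, tauU_pow]
    rw [hτ₁, hT, map_pow, mul_pow]
    calc _ = (𝒮L.str.app (op (XTU u U D (F₀ * (H₁ * H₂))))).hom ρ ^ n *
          (asR 𝒮L.toQCAlg (j.app _ t') ^ n * tauU u U b₂' (XTU u U D (F₀ * (H₁ * H₂))) (XTU_le u D _)) *
          (tauU u U H₁ (XTU u U D (F₀ * (H₁ * H₂))) (XTU_le u D _)) ^ (k₁ + k₂') *
          (tauU u U H₂ (XTU u U D (F₀ * (H₁ * H₂))) (XTU_le u D _)) ^ k₁ *
          (tauU u U F₀ (XTU u U D (F₀ * (H₁ * H₂))) (XTU_le u D _)) ^ (k₁ + k₂') := by ring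
      _ = _ := by rw [hτ₂]; ring
  have hcore := app_r_eq_appLE hj u p chart hP pL chartL hPL r hr hU hD _ hF hV hL c (k₁ + k₂') _ hA hread
    (ρ ^ n) ha
  refine ⟨(r.app (WPU p chart hU (F₀ * (H₁ * H₂)))).hom c, ?_, ?_⟩
  · conv_lhs => rw [hc]
    rw [pbs_smul]
  · rw [hcore]
    conv_lhs => rw [hρ]
    rw [gpow_smul, pbs_smul, res_smul]
    rfl

end lc

end Groth.Agent.Lib.Helper28.RTw
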