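import Groth.Agent.Lib.Helper28.RTwLCb
import Groth.Agent.Lib.Helper28.RTwIdx
import Groth.Agent.Lib.Helper28.GenCoefLocal

/-!
# `r^*O_P(n) ≅ L^{⊗n}` for `L` ample relative to `f` (helper28)
-/

set_option autoImplicit false
universe u
open CategoryTheory CategoryTheory.Limits AlgebraicGeometry Opposite TopologicalSpace
open HomogeneousLocalization
open scoped HomogeneousIdeal
noncomputable section

namespace Groth.Agent.Lib.Helper28.RTw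

open Groth.Agent.Lib.Helper28 Groth.Agent.Lib.Helper28.QCohLoc Groth.Agent.Lib.Helper28.TraceAlg
open Groth.Agent.Lib.Helper28.GenLocus Groth.Agent.Lib.Helper28.SymAlg
open Groth.Agent.Lib.Helper28.RelTwistVal Groth.Agent.Lib.Helper28.RLPsiU
open Groth.Agent.Lib.Helper28.RLPsiV Groth.Agent.Lib.Helper28.SymPow
open Groth.Agent.Lib.Helper28.RLPsi (rS rS_mul rS_pow rS_j rS_str smul_asR)
open Groth.Agent.Lib.Helper28.RelTwistFrac Groth.Agent.Lib.Helper28.RSharp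
open Groth.Agent.Lib.Helper28.PullbackInv

section main

variable {Y X P PL : Scheme.{u}} {q : X ⟶ Y} {L : X.Modules} [L.IsQuasicoherent]
  {𝒮 : RelProj.QCGrAlg Y} {𝒮L : RelProj.QCGrAlg X} {j : L ⟶ 𝒮L.toModule} (hj : RelProj.IsGrSymAlg L 𝒮L j)
  (u : RelProj.QGrHom q 𝒮 𝒮L)

/-- the local data: a chart `D₊(F)` with `X_F` affine, trivializing `L` and `O_P(n)` compatibly -/
structure Idx (u : RelProj.QGrHom q 𝒮 𝒮L) (j : L ⟶ 𝒮L.toModule) (n : ℕ) where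
  U : Y.Opens
  hU : IsAffineOpen U
  D : ℕ
  hD : 0 < D
  F : 𝒮.presheaf.obj (op U)
  hF : F ∈ 𝒮.deg U hU D
  hV : IsAffineOpen (XTU u U D F)
  t : Γ(L, XTU u U D F)
  ht : IsGen L (XTU u U D F) t
  k : ℕ
  i : ℕ
  k' : ℕ
  i' : ℕ
  b : 𝒮.presheaf.obj (op U)
  b' : 𝒮.presheaf.obj (op U)
  hb : b ∈ 𝒮.deg U hU i
  hi : (i : ℤ) = k * D + n
  hb' : b' ∈ 𝒮.deg U hU i'
  hi' : (i' : ℤ) = k' * D - n
  hbb : b * b' = F ^ (k + k')
  hτ : tauU u U b (XTU u U D F) (XTU_le u D F) =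
    asR 𝒮L.toQCAlg (j.app (XTU u U D F) t) ^ n * (tauU u U F (XTU u U D F) (XTU_le u D F)) ^ k
  hτ' : asR 𝒮L.toQCAlg (j.app (XTU u U D F) t) ^ n * tauU u U b' (XTU u U D F) (XTU_le u D F) =
    (tauU u U F (XTU u U D F) (XTU_le u D F)) ^ k'

variable
  (p : P ⟶ Y) (chart : ∀ (U : Y.Opens) (hU : IsAffineOpen U), (((p ⁻¹ᵁ U : P.Opens) : Scheme.{u}) ≅ Proj (𝒮.deg U hU)))
  (hP : RelProj.IsRelProj 𝒮 p chart)
  (pL : PL ⟶ X)
  (chartL : ∀ (U : X.Opens) (hU : IsAffineOpen U), (((pL ⁻¹ᵁ U : PL.Opens) : Scheme.{u}) ≅ Proj (𝒮L.deg U hU)))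
  (hPL : RelProj.IsRelProj 𝒮L pL chartL)
  (r : ((RelProj.domQ u pL chartL : PL.Opens) : Scheme.{u}) ⟶ P)
  (hr : RelProj.IsProjQMapOn u p chart pL chartL (RelProj.domQ u pL chartL) r)
  {n : ℕ} {On : P.Modules}
  {lamn : ∀ (U : Y.Opens) (hU : IsAffineOpen U),
    On ⟶ (Scheme.Modules.pushforward (RelProj.emb p chart U hU)).obj (GrTwist.twist (𝒮.deg U hU) (n : ℤ))}
  (hOn : RelProj.IsRelTwist 𝒮 p chart (n : ℤ) On lamn)

include hj hP hPL hr hOn in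
/-- the local comparison for two indices, near a point of the overlap -/
theorem local_compare_idx (hL : PicF.IsInvertible L)
    (hu : ∀ (U : Y.Opens), IsAffineOpen U → Function.Bijective (u.app U).hom)
    (h : RelAmple.IsRelAmple q L) (i k : Idx u j n)
    (γi : Γ(On, WPU p chart i.hU i.F)) (hγi : ReadsFrac lamn i.hU γi i.b i.F i.k)
    (γk : Γ(On, WPU p chart k.hU k.F)) (hγkgen : IsGen On (WPU p chart k.hU k.F) γk)
    (hγk : ReadsFrac lamn k.hU γk k.b k.F k.k)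
    (z : ((RelProj.domQ u pL chartL : PL.Opens) : Scheme.{u}))
    (hz : z ∈ r ⁻¹ᵁ WPU p chart i.hU i.F ⊓ r ⁻¹ᵁ WPU p chart k.hU k.F) :
    ∃ (T : ((RelProj.domQ u pL chartL : PL.Opens) : Scheme.{u}).Opens)
      (hTi : T ≤ r ⁻¹ᵁ WPU p chart i.hU i.F) (hTk : T ≤ r ⁻¹ᵁ WPU p chart k.hU k.F), z ∈ T ∧
      ∃ w : Γ(((RelProj.domQ u pL chartL : PL.Opens) : Scheme.{u}), T),
        res ((Scheme.Modules.pullback r).obj On) hTi (pbs r On _ γi) =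
          (w • res ((Scheme.Modules.pullback r).obj On) hTk (pbs r On _ γk) :
            Γ((Scheme.Modules.pullback r).obj On, T)) ∧
        res ((Scheme.Modules.pullback ((RelProj.domQ u pL chartL).ι ≫ pL)).obj (CohB1.tensorPow L n)) hTi
            (res _ (preimage_WPU_le hj u p chart hP pL chartL hPL r hr i.hU i.hD i.F i.hF hL)
              (pbs ((RelProj.domQ u pL chartL).ι ≫ pL) (CohB1.tensorPow L n) _ (gpow L i.t n))) =
          (w • res ((Scheme.Modules.pullback ((RelProj.domQ u pL chartL).ι ≫ pL)).obj (CohB1.tensorPow L n)) hTk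
            (res _ (preimage_WPU_le hj u p chart hP pL chartL hPL r hr k.hU k.hD k.F k.hF hL)
              (pbs ((RelProj.domQ u pL chartL).ι ≫ pL) (CohB1.tensorPow L n) _ (gpow L k.t n))) :
            Γ((Scheme.Modules.pullback ((RelProj.domQ u pL chartL).ι ≫ pL)).obj (CohB1.tensorPow L n), T)) := by
  have hqc : QuasiCompact q := h.1
  have hWi := preimage_WPU_le hj u p chart hP pL chartL hPL r hr i.hU i.hD i.F i.hF hL
  have hWk := preimage_WPU_le hj u p chart hP pL chartL hPL r hr k.hU k.hD k.F k.hF hL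
  -- the point
  have hxi : ((RelProj.domQ u pL chartL).ι ≫ pL) z ∈ XTU u i.U i.D i.F := hWi hz.1
  have hxk : ((RelProj.domQ u pL chartL).ι ≫ pL) z ∈ XTU u k.U k.D k.F := hWk hz.2
  set x := ((RelProj.domQ u pL chartL).ι ≫ pL) z with hxdef
  have hyi : q x ∈ i.U := XTU_le u i.D i.F hxi
  have hyk : q x ∈ k.U := XTU_le u k.D k.F hxk
  obtain ⟨f, g, hfg, hy⟩ := exists_basicOpen_le_affine_inter i.hU k.hU (q x) ⟨hyi, hyk⟩
  have hU₃ : IsAffineOpen (Y.basicOpen f) := i.hU.basicOpen f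
  have le_i : Y.basicOpen f ≤ i.U := Y.basicOpen_le f
  have le_k : Y.basicOpen f ≤ k.U := by rw [hfg]; exact Y.basicOpen_le g
  have hxU₃ : x ∈ q ⁻¹ᵁ Y.basicOpen f := hy
  have hc : IsCompact ((q ⁻¹ᵁ Y.basicOpen f : X.Opens) : Set X) :=
    QuasiCompact.isCompact_preimage (f := q) _ (Y.basicOpen f).isOpen hU₃.isCompact
  have hA := h.2 ⟨Y.basicOpen f, hU₃⟩
  -- the restricted data
  have hH₁ : 𝒮.res i.hU hU₃ le_i i.F ∈ 𝒮.deg (Y.basicOpen f) hU₃ i.D := (𝒮.res i.hU hU₃ le_i).map_mem i.hF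
  have hH₂ : 𝒮.res k.hU hU₃ le_k k.F ∈ 𝒮.deg (Y.basicOpen f) hU₃ k.D := (𝒮.res k.hU hU₃ le_k).map_mem k.hF
  have hH : 𝒮.res i.hU hU₃ le_i i.F * 𝒮.res k.hU hU₃ le_k k.F ∈ 𝒮.deg (Y.basicOpen f) hU₃ (i.D + k.D) :=
    SetLike.mul_mem_graded hH₁ hH₂
  have hxH : x ∈ XTU u (Y.basicOpen f) (i.D + k.D) (𝒮.res i.hU hU₃ le_i i.F * 𝒮.res k.hU hU₃ le_k k.F) := by
    rw [XTU_mul hj u hL hU₃ hH₁ hH₂, XTU_res hj u hL i.hU hU₃ le_i i.F i.hF,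
      XTU_res hj u hL k.hU hU₃ le_k k.F k.hF]
    exact ⟨⟨hxi, hxU₃⟩, ⟨hxk, hxU₃⟩⟩
  obtain ⟨d₀, F₀, hd₀, hF₀, hxF, hleF, haffF⟩ := exists_small_affine_XTU_mul hj u hL hU₃ hc hA
    (hu _ hU₃) x hxU₃ (XTU u i.U i.D i.F ⊓ XTU u k.U k.D k.F) ⟨hxi, hxk⟩ _ hH hxH
  have hF : F₀ * (𝒮.res i.hU hU₃ le_i i.F * 𝒮.res k.hU hU₃ le_k k.F) ∈
      𝒮.deg (Y.basicOpen f) hU₃ (d₀ + (i.D + k.D)) := SetLike.mul_mem_graded hF₀ hH
  have hD : 0 < d₀ + (i.D + k.D) := by omega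
  have hlei : XTU u (Y.basicOpen f) (d₀ + (i.D + k.D))
      (F₀ * (𝒮.res i.hU hU₃ le_i i.F * 𝒮.res k.hU hU₃ le_k k.F)) ≤ XTU u i.U i.D i.F := hleF.trans inf_le_left
  have hlek : XTU u (Y.basicOpen f) (d₀ + (i.D + k.D))
      (F₀ * (𝒮.res i.hU hU₃ le_i i.F * 𝒮.res k.hU hU₃ le_k k.F)) ≤ XTU u k.U k.D k.F := hleF.trans inf_le_right
  -- the chart on `P`
  have hPi : WPU p chart hU₃ (F₀ * (𝒮.res i.hU hU₃ le_i i.F * 𝒮.res k.hU hU₃ le_k k.F)) ≤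
      WPU p chart i.hU i.F :=
    ((WPU_mul_le_right hU₃ _ _).trans (WPU_mul_le_left hU₃ _ _)).trans (WPU_res_le hP i.hU hU₃ f rfl le_i i.F)
  have hPk : WPU p chart hU₃ (F₀ * (𝒮.res i.hU hU₃ le_i i.F * 𝒮.res k.hU hU₃ le_k k.F)) ≤
      WPU p chart k.hU k.F :=
    ((WPU_mul_le_right hU₃ _ _).trans (WPU_mul_le_right hU₃ _ _)).trans (WPU_res_le hP k.hU hU₃ g hfg le_k k.F)
  have hr₁ : ReadsFrac lamn hU₃ (res On hPi γi) (𝒮.res i.hU hU₃ le_i i.b) (𝒮.res i.hU hU₃ le_i i.F) i.k :=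
    (ReadsFrac.basic hP hOn hU₃ f rfl le_i hγi).res hPi
  have hr₂ : ReadsFrac lamn hU₃ (res On hPk γk) (𝒮.res k.hU hU₃ le_k k.b) (𝒮.res k.hU hU₃ le_k k.F) k.k :=
    (ReadsFrac.basic hP hOn hU₃ g hfg le_k hγk).res hPk
  have hbb : 𝒮.res k.hU hU₃ le_k k.b * 𝒮.res k.hU hU₃ le_k k.b' = (𝒮.res k.hU hU₃ le_k k.F) ^ (k.k + k.k') := by
    rw [← map_mul, k.hbb, map_pow]
  -- the relations on `X_F`
  have hτ₁ : tauU u (Y.basicOpen f) (𝒮.res i.hU hU₃ le_i i.b) _ (XTU_le u (d₀ + (i.D + k.D)) _) =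
      asR 𝒮L.toQCAlg (j.app _ (res L hlei i.t)) ^ n *
        (tauU u (Y.basicOpen f) (𝒮.res i.hU hU₃ le_i i.F) _ (XTU_le u (d₀ + (i.D + k.D)) _)) ^ i.k := by
    rw [tauU_res u i.hU hU₃ le_i, tauU_res u i.hU hU₃ le_i, ← rS_tauU u i.b (XTU_le u i.D i.F) hlei,
      ← rS_tauU u i.F (XTU_le u i.D i.F) hlei, i.hτ, rS_mul, rS_pow, rS_pow, rS_j]
  have hτ₂ : asR 𝒮L.toQCAlg (j.app _ (res L hlek k.t)) ^ n *
        tauU u (Y.basicOpen f) (𝒮.res k.hU hU₃ le_k k.b') _ (XTU_le u (d₀ + (i.D + k.D)) _) =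
      (tauU u (Y.basicOpen f) (𝒮.res k.hU hU₃ le_k k.F) _ (XTU_le u (d₀ + (i.D + k.D)) _)) ^ k.k' := by
    rw [tauU_res u k.hU hU₃ le_k, tauU_res u k.hU hU₃ le_k, ← rS_tauU u k.b' (XTU_le u k.D k.F) hlek,
      ← rS_tauU u k.F (XTU_le u k.D k.F) hlek, ← rS_j, ← rS_pow, ← rS_mul, k.hτ', rS_pow]
  obtain ⟨w, hw1, hw2⟩ := local_compare hj u p chart hP pL chartL hPL r hr hOn hU₃ hL hD F₀ _ _ hF₀ hH₁ hH₂ rfl hF
    haffF (res On hPi γi) (res On hPk γk) (hγkgen.res hPk)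
    ((𝒮.res i.hU hU₃ le_i).map_mem i.hb) i.hi ((𝒮.res k.hU hU₃ le_k).map_mem k.hb') k.hi' hbb hr₁ hr₂
    (res L hlei i.t) (res L hlek k.t) (k.ht.res hlek) hτ₁ hτ₂
  refine ⟨_, r.preimage_mono hPi, r.preimage_mono hPk, ?_, w, ?_, ?_⟩
  · exact preimage_XTU_le hj u p chart hP pL chartL hPL r hr hU₃ hD _ hF hL hxF
  · rw [← pbs_res, ← pbs_res]
    exact hw1
  · rw [res_res, res_res]
    rw [← gpow_res, ← gpow_res, pbs_res, pbs_res, res_res, res_res] at hw2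
    exact hw2

end main

end Groth.Agent.Lib.Helper28.RTw
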