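import Groth.Agent.Lib.Helper28.RelTwistVal

set_option autoImplicit false
universe u
open CategoryTheory CategoryTheory.Limits AlgebraicGeometry Opposite TopologicalSpace
open scoped HomogeneousIdeal
noncomputable section

namespace Groth.Agent.Lib.Helper28.RelProjFT

open Groth.Agent.Lib.Helper28 Groth.Agent.Lib.Helper28.QCohLoc Groth.Agent.Lib.Helper28.GenLocus

section cover

variable {A σ : Type u} [CommRing A] [SetLike σ A] [AddSubgroupClass σ A] (𝒜 : ℕ → σ) [GradedRing 𝒜]

/-- if `A` is generated by `A₀` and a set `G` of homogeneous elements of positive degrees, every element is congruent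
to its degree zero part modulo `(G)` -/
theorem sub_projZero_mem_span (G : Set A) (hG : ∀ g ∈ G, ∃ e : ℕ, 0 < e ∧ g ∈ 𝒜 e)
    (hgen : Subring.closure ((𝒜 0 : Set A) ∪ G) = ⊤) (a : A) :
    a - GradedRing.projZeroRingHom 𝒜 a ∈ Ideal.span G := by
  have ha : a ∈ Subring.closure ((𝒜 0 : Set A) ∪ G) := by rw [hgen]; trivial
  induction ha using Subring.closure_induction with
  | mem x hx =>
    rcases hx with hx | hx
    · have : GradedRing.projZeroRingHom 𝒜 x = x := by
        show ((DirectSum.decompose 𝒜 x) 0 : A) = x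
        rw [DirectSum.decompose_of_mem_same 𝒜 hx]
      rw [this, sub_self]
      exact Ideal.zero_mem _
    · obtain ⟨e, he, hxe⟩ := hG x hx
      have : GradedRing.projZeroRingHom 𝒜 x = 0 := by
        show ((DirectSum.decompose 𝒜 x) 0 : A) = 0
        rw [DirectSum.decompose_of_mem_ne 𝒜 hxe (by omega)]
      rw [this, sub_zero]
      exact Ideal.subset_span hx
  | zero => simp
  | one =>
    rw [map_one, sub_self]
    exact Ideal.zero_mem _
  | add x y _ _ hx hy =>
    have : x + y - GradedRing.projZeroRingHom 𝒜 (x + y) =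
        (x - GradedRing.projZeroRingHom 𝒜 x) + (y - GradedRing.projZeroRingHom 𝒜 y) := by
      rw [map_add]; ring
    rw [this]
    exact Ideal.add_mem _ hx hy
  | neg x _ hx =>
    have : -x - GradedRing.projZeroRingHom 𝒜 (-x) = -(x - GradedRing.projZeroRingHom 𝒜 x) := by
      rw [map_neg]; ring
    rw [this]
    exact neg_mem hx
  | mul x y _ _ hx hy =>
    have : x * y - GradedRing.projZeroRingHom 𝒜 (x * y) =
        (x - GradedRing.projZeroRingHom 𝒜 x) * y +
          GradedRing.projZeroRingHom 𝒜 x * (y - GradedRing.projZeroRingHom 𝒜 y) := by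
      rw [map_mul]; ring
    rw [this]
    exact Ideal.add_mem _ (Ideal.mul_mem_right _ _ hx) (Ideal.mul_mem_left _ _ hy)

/-- generation by `A₀` and `G` gives the cover of `Proj` by the `D₊(g)`, `g ∈ G` -/
theorem cover_of_closure (G : Set A) (hG : ∀ g ∈ G, ∃ e : ℕ, 0 < e ∧ g ∈ 𝒜 e)
    (hgen : Subring.closure ((𝒜 0 : Set A) ∪ G) = ⊤) (x : Proj 𝒜) :
    ∃ g ∈ G, x ∈ Proj.basicOpen 𝒜 g := by
  by_contra hcon
  push Not at hcon
  have hx : ¬ HomogeneousIdeal.irrelevant 𝒜 ≤ (show ProjectiveSpectrum 𝒜 from x).asHomogeneousIdeal :=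
    (show ProjectiveSpectrum 𝒜 from x).not_irrelevant_le
  apply hx
  intro a ha
  have h0 : GradedRing.projZeroRingHom 𝒜 a = 0 := ha
  have h1 := sub_projZero_mem_span 𝒜 G hG hgen a
  rw [h0, sub_zero] at h1
  refine (Ideal.span_le.2 ?_) h1
  intro f hf
  by_contra hfx
  exact hcon f hf ((Proj.mem_basicOpen 𝒜 f x).2 hfx)

/-- a graded ring of finite type over a ring mapping to degree zero is generated over `A₀` by finitely many homogeneous
elements of positive degrees -/
theorem exists_finset_generators {R : Type u} [CommRing R] (φ : R →+* A) (hφ : ∀ r, φ r ∈ 𝒜 0)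
    (hft : φ.FiniteType) :
    ∃ G : Finset A, (∀ g ∈ G, ∃ e : ℕ, 0 < e ∧ g ∈ 𝒜 e) ∧
      Subring.closure ((𝒜 0 : Set A) ∪ (G : Set A)) = ⊤ := by
  classical
  let _ := φ.toAlgebra
  obtain ⟨T, hT⟩ := (hft : Algebra.FiniteType R A).1
  let G : Finset A := T.biUnion fun t =>
    ((DirectSum.decompose 𝒜 t).support.filter fun i => 0 < i).image fun i => (DirectSum.decompose 𝒜 t i : A)
  refine ⟨G, ?_, ?_⟩
  · intro g hg
    obtain ⟨t, -, hg⟩ := Finset.mem_biUnion.1 hg
    obtain ⟨i, hi, rfl⟩ := Finset.mem_image.1 hg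
    exact ⟨i, (Finset.mem_filter.1 hi).2, SetLike.coe_mem _⟩
  · rw [eq_top_iff]
    intro a _
    have ha : a ∈ Algebra.adjoin R (T : Set A) := by rw [hT]; trivial
    clear * - ha hφ
    induction ha using Algebra.adjoin_induction with
    | mem x hx =>
      rw [← DirectSum.sum_support_decompose 𝒜 x]
      refine Subring.sum_mem _ fun i hi => ?_
      by_cases h0 : 0 < i
      · refine Subring.subset_closure (Or.inr ?_)
        refine Finset.mem_coe.2 (Finset.mem_biUnion.2 ⟨x, hx, Finset.mem_image.2 ⟨i, ?_, rfl⟩⟩)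
        exact Finset.mem_filter.2 ⟨hi, h0⟩
      · have hi0 : i = 0 := by omega
        subst hi0
        exact Subring.subset_closure (Or.inl (SetLike.coe_mem _))
    | algebraMap r => exact Subring.subset_closure (Or.inl (hφ r))
    | add x y _ _ hx hy => exact Subring.add_mem _ hx hy
    | mul x y _ _ hx hy => exact Subring.mul_mem _ hx hy

end cover


section rel

variable {Y P : Scheme.{u}} {𝒮 : RelProj.QCGrAlg Y} {p : P ⟶ Y}
  {chart : ∀ (U : Y.Opens) (hU : IsAffineOpen U), (((p ⁻¹ᵁ U : P.Opens) : Scheme.{u}) ≅ Proj (𝒮.deg U hU))}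
  (hft : ∀ (U : Y.Opens) (_ : IsAffineOpen U), (𝒮.str.app (op U)).hom.FiniteType)

include hft in
/-- finitely many homogeneous elements of positive degrees whose `D₊` cover the chart -/
theorem exists_finset_cover (U : Y.Opens) (hU : IsAffineOpen U) :
    ∃ G : Finset (𝒮.presheaf.obj (op U)), (∀ g ∈ G, ∃ e : ℕ, 0 < e ∧ g ∈ 𝒮.deg U hU e) ∧
      ∀ x : Proj (𝒮.deg U hU), ∃ g ∈ G, x ∈ Proj.basicOpen (𝒮.deg U hU) g := by
  have h1 := hft U hU
  have h2 := exists_finset_generators (A := 𝒮.presheaf.obj (op U)) (R := Γ(Y, U))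
    (𝒮.deg U hU) (𝒮.str.app (op U)).hom (fun r => 𝒮.str_mem U hU r)
  obtain ⟨G, hG, hgen⟩ := h2 h1
  refine ⟨G, hG, fun x => ?_⟩
  exact cover_of_closure (A := 𝒮.presheaf.obj (op U)) (𝒮.deg U hU) (G : Set (𝒮.presheaf.obj (op U))) hG hgen x

include hft in
theorem compactSpace_proj (U : Y.Opens) (hU : IsAffineOpen U) : CompactSpace (Proj (𝒮.deg U hU)) := by
  obtain ⟨G, hG, hcov⟩ := exists_finset_cover hft U hU
  have h1 : (Set.univ : Set (Proj (𝒮.deg U hU))) =
      ⋃ g ∈ G, ((Proj.basicOpen (𝒮.deg U hU) g : (Proj (𝒮.deg U hU)).Opens) : Set (Proj (𝒮.deg U hU))) := by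
    ext x
    simp only [Set.mem_univ, Set.mem_iUnion, true_iff]
    obtain ⟨g, hg, hx⟩ := hcov x
    exact ⟨g, hg, hx⟩
  refine ⟨?_⟩
  rw [h1]
  refine G.isCompact_biUnion fun g hg => ?_
  obtain ⟨e, he, hge⟩ := hG g hg
  exact (Proj.isAffineOpen_basicOpen (𝒮.deg U hU) g hge he).isCompact

include hft in
theorem isCompact_preimage (chart : ∀ (U : Y.Opens) (hU : IsAffineOpen U),
    (((p ⁻¹ᵁ U : P.Opens) : Scheme.{u}) ≅ Proj (𝒮.deg U hU))) (U : Y.Opens) (hU : IsAffineOpen U) :
    IsCompact ((p ⁻¹ᵁ U : P.Opens) : Set P) := by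
  have := compactSpace_proj (𝒮 := 𝒮) hft U hU
  rw [← RelProjQC.opensRange_emb p chart U hU]
  show IsCompact (Set.range (RelProj.emb p chart U hU).base)
  exact isCompact_range (RelProj.emb p chart U hU).continuous

include hft in
theorem quasiCompact (chart : ∀ (U : Y.Opens) (hU : IsAffineOpen U),
    (((p ⁻¹ᵁ U : P.Opens) : Scheme.{u}) ≅ Proj (𝒮.deg U hU))) : QuasiCompact p :=
  quasiCompact_iff_forall_isAffineOpen.2 fun U hU => isCompact_preimage hft chart U hU

end rel

end Groth.Agent.Lib.Helper28.RelProjFT
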