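import Groth.Agent.Lib.Helper28.RelTildeEx3
import Groth.Agent.Lib.Helper28.RLPsiV1
import Groth.Agent.Lib.Helper28.QCohGlobal
import Groth.Agent.Lib.Helper28.RelProjFT
import Groth.Agent.Lib.Helper28.RelProjExists

/-!
# The maps `α_n` of a graded module over a quasi-coherent graded algebra, read on the relative `Proj`:
values of sections of `(ℳ(n))~` on charts, sections represented by an element of `ℳ(U)`
-/

set_option autoImplicit false
universe u
open CategoryTheory CategoryTheory.Limits AlgebraicGeometry Opposite TopologicalSpace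
open scoped HomogeneousIdeal
noncomputable section

namespace Groth.Agent.Lib.Helper28.RelAlpha

open Groth.Agent.Lib.Helper28 Groth.Agent.Lib.Helper28.QCohLoc Groth.Agent.Lib.Helper28.RelTwistVal

variable {Y P : Scheme.{u}} {𝒮 : RelProj.QCGrAlg Y} {p : P ⟶ Y}
  {chart : ∀ (U : Y.Opens) (hU : IsAffineOpen U), (((p ⁻¹ᵁ U : P.Opens) : Scheme.{u}) ≅ Proj (𝒮.deg U hU))}
  {ℳ : RelProj.GrModule 𝒮} {κ : ℤ} {F : P.Modules}
  (lam : ∀ (U : Y.Opens) (hU : IsAffineOpen U),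
    F ⟶ (Scheme.Modules.pushforward (RelProj.emb p chart U hU)).obj (GrMod.tilde (𝒮.deg U hU) (ℳ.deg U hU) κ))

/-- the value of a section of `(ℳ(κ))~` at a point of a chart -/
def cvM {U : Y.Opens} (hU : IsAffineOpen U) {W : P.Opens} (s : Γ(F, W)) (y : Proj (𝒮.deg U hU))
    (hy : (RelProj.emb p chart U hU).base y ∈ W) : GrMod.LocMod (𝒮.deg U hU) (M := ℳ.mod.val.obj (op U)) y :=
  GrMod.val (V := RelProj.emb p chart U hU ⁻¹ᵁ W) ((lam U hU).app W s) ⟨y, hy⟩

theorem cvM_res {U : Y.Opens} (hU : IsAffineOpen U) {W W' : P.Opens} (h : W' ≤ W) (s : Γ(F, W))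
    (y : Proj (𝒮.deg U hU)) (hy : (RelProj.emb p chart U hU).base y ∈ W') :
    cvM lam hU (res F h s) y hy = cvM lam hU s y (h hy) := by
  unfold cvM
  rw [lam_res]
  rfl

theorem cvM_smul {U : Y.Opens} (hU : IsAffineOpen U) {W : P.Opens} (c : Γ(P, W)) (s : Γ(F, W))
    (y : Proj (𝒮.deg U hU)) (hy : (RelProj.emb p chart U hU).base y ∈ W) :
    cvM lam hU (c • s) y hy = cvO p chart hU c y hy • cvM lam hU s y hy := by
  unfold cvM cvO
  rw [lam_smul]
  rfl

theorem cvM_zero {U : Y.Opens} (hU : IsAffineOpen U) {W : P.Opens}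
    (y : Proj (𝒮.deg U hU)) (hy : (RelProj.emb p chart U hU).base y ∈ W) :
    cvM lam hU (0 : Γ(F, W)) y hy = 0 := by
  unfold cvM
  rw [map_zero]
  rfl

theorem cvM_sub {U : Y.Opens} (hU : IsAffineOpen U) {W : P.Opens} (s t : Γ(F, W))
    (y : Proj (𝒮.deg U hU)) (hy : (RelProj.emb p chart U hU).base y ∈ W) :
    cvM lam hU (s - t) y hy = cvM lam hU s y hy - cvM lam hU t y hy := by
  unfold cvM
  rw [map_sub]
  rfl

variable {lam}

theorem cvM_basic (hF : RelProj.IsRelTilde 𝒮 p chart ℳ κ F lam) {V D : Y.Opens} (hV : IsAffineOpen V)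
    (hD : IsAffineOpen D) (r : Γ(Y, V)) (e : D = Y.basicOpen r) (hle : D ≤ V) {W : P.Opens} (s : Γ(F, W))
    (y : Proj (𝒮.deg D hD)) (hy : (RelProj.emb p chart D hD).base y ∈ W)
    (hy' : (RelProj.emb p chart V hV).base (ProjectiveSpectrum.comap (𝒮.res hV hD hle)
        (irrelevant_le_map_of_eq 𝒮 hV hD r e hle) y) ∈ W) :
    cvM lam hD s y hy =
      GrMod.locModMap (𝒮.res hV hD hle) (irrelevant_le_map_of_eq 𝒮 hV hD r e hle) (ℳ.res hV hD hle) y
        (cvM lam hV s _ hy') := by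
  subst e
  exact hF.compat V hV r W s y hy hy'

theorem ext_cvM (hF : RelProj.IsRelTilde 𝒮 p chart ℳ κ F lam) {U : Y.Opens} (hU : IsAffineOpen U) {W : P.Opens}
    (hle : W ≤ p ⁻¹ᵁ U) (s t : Γ(F, W))
    (h : ∀ (y : Proj (𝒮.deg U hU)) (hy : (RelProj.emb p chart U hU).base y ∈ W),
      cvM lam hU s y hy = cvM lam hU t y hy) : s = t := by
  apply (hF.bijective U hU W hle).1
  exact GrModQC.ext_val (𝒮.deg U hU) (ℳ.deg U hU) (V := RelProj.emb p chart U hU ⁻¹ᵁ W) _ _ (fun x => h x.1 x.2)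

variable (lam)

/-- the section `s` over `W` reads, on the chart over `U`, as the constant fraction `m / 1` -/
def Rep {U : Y.Opens} (hU : IsAffineOpen U) (W : P.Opens) (s : Γ(F, W)) (m : ℳ.mod.val.obj (op U)) : Prop :=
  ∀ (y : Proj (𝒮.deg U hU)) (hy : (RelProj.emb p chart U hU).base y ∈ W),
    cvM lam hU s y hy = LocalizedModule.mk m 1

variable {lam}

theorem Rep.res {U : Y.Opens} {hU : IsAffineOpen U} {W W' : P.Opens} {s : Γ(F, W)} {m : ℳ.mod.val.obj (op U)}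
    (h : Rep lam hU W s m) (hle : W' ≤ W) : Rep lam hU W' (res F hle s) m := by
  intro y hy
  rw [cvM_res]
  exact h y (hle hy)

theorem Rep.zero {U : Y.Opens} (hU : IsAffineOpen U) (W : P.Opens) : Rep lam hU W (0 : Γ(F, W)) 0 := by
  intro y hy
  rw [cvM_zero, LocalizedModule.zero_mk]

theorem Rep.sub {U : Y.Opens} {hU : IsAffineOpen U} {W : P.Opens} {s t : Γ(F, W)} {m m' : ℳ.mod.val.obj (op U)}
    (h : Rep lam hU W s m) (h' : Rep lam hU W t m') : Rep lam hU W (s - t) (m - m') := by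
  intro y hy
  rw [cvM_sub, h y hy, h' y hy]
  exact ((LocalizedModule.mkLinearMap _ _).map_sub m m').symm

theorem Rep.congr {U : Y.Opens} {hU : IsAffineOpen U} {W : P.Opens} {s t : Γ(F, W)} {m m' : ℳ.mod.val.obj (op U)}
    (h : Rep lam hU W s m) (e : s = t) (e' : m = m') : Rep lam hU W t m' := by
  subst e e'
  exact h

theorem Rep.smul (hP : RelProj.IsRelProj 𝒮 p chart) {U : Y.Opens} {hU : IsAffineOpen U} {W : P.Opens}
    {s : Γ(F, W)} {m : ℳ.mod.val.obj (op U)} (h : Rep lam hU W s m) (hle : W ≤ p ⁻¹ᵁ U) (a : Γ(Y, U)) :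
    Rep lam hU W ((p.appLE U W hle).hom a • s) ((𝒮.str.app (op U)).hom a • m) := by
  intro y hy
  rw [cvM_smul, h y hy, RLPsiV.cvO_base hP hU hle a y hy]
  exact (LocalizedModule.mk_smul_mk _ m 1 1).trans (by rw [one_mul])

theorem Rep.basic (hP : RelProj.IsRelProj 𝒮 p chart) (hF : RelProj.IsRelTilde 𝒮 p chart ℳ κ F lam)
    {V D : Y.Opens} {hV : IsAffineOpen V} (hD : IsAffineOpen D) (r : Γ(Y, V)) (e : D = Y.basicOpen r) (hle : D ≤ V)
    {W : P.Opens} {s : Γ(F, W)} {m : ℳ.mod.val.obj (op V)} (h : Rep lam hV W s m) :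
    Rep lam hD W s (ℳ.res hV hD hle m) := by
  intro y hy
  have hy' : (RelProj.emb p chart V hV).base (ProjectiveSpectrum.comap (𝒮.res hV hD hle)
      (irrelevant_le_map_of_eq 𝒮 hV hD r e hle) y) ∈ W := by
    rw [← emb_eq_of_eq hP hV hD r e hle y]
    exact hy
  rw [cvM_basic hF hV hD r e hle s y hy hy', h _ hy', GrMod.locModMap_mk]
  congr 1
  exact Subtype.ext (map_one _)

theorem Rep.unique (hF : RelProj.IsRelTilde 𝒮 p chart ℳ κ F lam) {U : Y.Opens} {hU : IsAffineOpen U} {W : P.Opens}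
    {s t : Γ(F, W)} {m : ℳ.mod.val.obj (op U)} (h : Rep lam hU W s m) (h' : Rep lam hU W t m)
    (hle : W ≤ p ⁻¹ᵁ U) : s = t :=
  ext_cvM hF hU hle s t fun y hy => (h y hy).trans (h' y hy).symm

end Groth.Agent.Lib.Helper28.RelAlpha
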