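import Groth.Agent.Lib.Helper28.RelAlphaA

/-!
# The maps `α_n` read on the relative `Proj`: bijectivity is local on the base (gluing part)
-/

set_option autoImplicit false
universe u
open CategoryTheory CategoryTheory.Limits AlgebraicGeometry Opposite TopologicalSpace
open scoped HomogeneousIdeal
noncomputable section

namespace Groth.Agent.Lib.Helper28.RelAlpha

open Groth.Agent.Lib.Helper28 Groth.Agent.Lib.Helper28.QCohLoc Groth.Agent.Lib.Helper28.RelTwistVal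
open Groth.Agent.Lib.Helper28.RelProjQC DirectSum

variable {Y P : Scheme.{u}} {𝒮 : RelProj.QCGrAlg Y} {p : P ⟶ Y}
  {chart : ∀ (U : Y.Opens) (hU : IsAffineOpen U), (((p ⁻¹ᵁ U : P.Opens) : Scheme.{u}) ≅ Proj (𝒮.deg U hU))}
  {ℳ : RelProj.GrModule 𝒮} {n : ℕ} {F : P.Modules}
  {lam : ∀ (U : Y.Opens) (hU : IsAffineOpen U),
    F ⟶ (Scheme.Modules.pushforward (RelProj.emb p chart U hU)).obj
      (GrMod.tilde (𝒮.deg U hU) (ℳ.deg U hU) (n : ℤ))}

theorem emb_mem (U : Y.Opens) (hU : IsAffineOpen U) (y : Proj (𝒮.deg U hU)) :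
    (RelProj.emb p chart U hU).base y ∈ p ⁻¹ᵁ U := by
  rw [← opensRange_emb p chart U hU]
  exact ⟨y, rfl⟩

theorem Rep.exists (hF : RelProj.IsRelTilde 𝒮 p chart ℳ (n : ℤ) F lam) {U : Y.Opens} (hU : IsAffineOpen U)
    {W : P.Opens} (hle : W ≤ p ⁻¹ᵁ U) (m : ℳ.mod.val.obj (op U)) (hm : m ∈ ℳ.deg U hU n) :
    ∃ s : Γ(F, W), Rep lam hU W s m := by
  obtain ⟨s, hs⟩ := (hF.bijective U hU W hle).2
    (QCohLoc.res (GrMod.tilde (𝒮.deg U hU) (ℳ.deg U hU) (n : ℤ)) (le_top : RelProj.emb p chart U hU ⁻¹ᵁ W ≤ ⊤)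
      (GrMod.alpha (𝒮.deg U hU) (ℳ.deg U hU) n ⟨m, hm⟩))
  refine ⟨s, fun y hy => ?_⟩
  unfold cvM
  rw [hs]
  rfl

variable (lam) in
/-- injectivity of `α_n` over the affine open `U`, read on the relative `Proj` -/
def Inj {U : Y.Opens} (hU : IsAffineOpen U) : Prop :=
  ∀ m : ℳ.mod.val.obj (op U), m ∈ ℳ.deg U hU n → Rep lam hU (p ⁻¹ᵁ U) 0 m → m = 0

variable (lam) in
/-- surjectivity of `α_n` over the affine open `U`, read on the relative `Proj` -/
def Surj {U : Y.Opens} (hU : IsAffineOpen U) : Prop :=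
  ∀ s : Γ(F, p ⁻¹ᵁ U), ∃ m : ℳ.mod.val.obj (op U), m ∈ ℳ.deg U hU n ∧ Rep lam hU (p ⁻¹ᵁ U) s m

theorem Inj.congr {U U' : Y.Opens} {hU : IsAffineOpen U} (h : Inj lam hU) (e : U = U') (hU' : IsAffineOpen U') :
    Inj lam hU' := by
  subst e
  exact h

theorem Surj.congr {U U' : Y.Opens} {hU : IsAffineOpen U} (h : Surj lam hU) (e : U = U') (hU' : IsAffineOpen U') :
    Surj lam hU' := by
  subst e
  exact h

theorem alpha_bijective_of (hF : RelProj.IsRelTilde 𝒮 p chart ℳ (n : ℤ) F lam) {U : Y.Opens} (hU : IsAffineOpen U)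
    (hI : Inj lam hU) (hS : Surj lam hU) :
    Function.Bijective (GrMod.alpha (𝒮.deg U hU) (ℳ.deg U hU) n) := by
  constructor
  · rw [injective_iff_map_eq_zero]
    intro m hm
    apply Subtype.ext
    rw [ZeroMemClass.coe_zero]
    refine hI m.1 m.2 fun y hy => ?_
    rw [cvM_zero]
    have h1 : GrMod.val (GrMod.alpha (𝒮.deg U hU) (ℳ.deg U hU) n m) ⟨y, trivial⟩ = 0 := by
      rw [hm]
      rfl
    exact h1.symm
  · intro t
    obtain ⟨s, hs⟩ := (hF.bijective U hU (p ⁻¹ᵁ U) le_rfl).2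
      (res (GrMod.tilde (𝒮.deg U hU) (ℳ.deg U hU) (n : ℤ))
        (le_top : RelProj.emb p chart U hU ⁻¹ᵁ (p ⁻¹ᵁ U) ≤ ⊤) t)
    obtain ⟨m, hm, hrep⟩ := hS s
    refine ⟨⟨m, hm⟩, ?_⟩
    refine GrModQC.ext_val (𝒮.deg U hU) (ℳ.deg U hU) _ _ fun x => ?_
    have h1 := hrep x.1 (emb_mem U hU x.1)
    unfold cvM at h1
    rw [hs] at h1
    exact h1.symm

theorem inj_surj_of_alpha_bijective {U : Y.Opens} (hU : IsAffineOpen U)
    (h : Function.Bijective (GrMod.alpha (𝒮.deg U hU) (ℳ.deg U hU) n)) : Inj lam hU ∧ Surj lam hU := by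
  constructor
  · intro m hm hrep
    have h0 : GrMod.alpha (𝒮.deg U hU) (ℳ.deg U hU) n ⟨m, hm⟩ = 0 := by
      refine GrModQC.ext_val (𝒮.deg U hU) (ℳ.deg U hU) _ _ fun x => ?_
      have h1 := hrep x.1 (emb_mem U hU x.1)
      rw [cvM_zero] at h1
      exact h1.symm
    have h2 := h.1 (h0.trans (map_zero _).symm)
    exact congrArg Subtype.val h2
  · intro s
    have htop : (⊤ : (Proj (𝒮.deg U hU)).Opens) ≤ RelProj.emb p chart U hU ⁻¹ᵁ (p ⁻¹ᵁ U) :=
      fun y _ => emb_mem U hU y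
    obtain ⟨m, hm⟩ := h.2 (res (GrMod.tilde (𝒮.deg U hU) (ℳ.deg U hU) (n : ℤ)) htop ((lam U hU).app (p ⁻¹ᵁ U) s))
    refine ⟨m.1, m.2, fun y hy => ?_⟩
    have h1 := congrArg (fun t : Γ(GrMod.tilde (𝒮.deg U hU) (ℳ.deg U hU) (n : ℤ), (⊤ : (Proj (𝒮.deg U hU)).Opens)) =>
      GrMod.val t ⟨y, trivial⟩) hm
    exact h1.symm

section glue

variable (hP : RelProj.IsRelProj 𝒮 p chart) (hF : RelProj.IsRelTilde 𝒮 p chart ℳ (n : ℤ) F lam)

/-- the degree of a section of `ℳ` over an affine open can be tested on an affine open cover -/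
theorem mem_deg_of_cover {U : Y.Opens} (hU : IsAffineOpen U) {ι : Type*} (D : ι → Y.Opens)
    (hD : ∀ i, IsAffineOpen (D i)) (hle : ∀ i, D i ≤ U) (hcov : U ≤ iSup D) (m : ℳ.mod.val.obj (op U)) (k : ℕ)
    (h : ∀ i, ℳ.res hU (hD i) (hle i) m ∈ ℳ.deg (D i) (hD i) k) : m ∈ ℳ.deg U hU k := by
  have e : m = (decompose (ℳ.deg U hU) m k : ℳ.mod.val.obj (op U)) := by
    refine eq_of_locally_eq (osMod ℳ) D U hle hcov m _ fun i => ?_
    have h1 := decompose_res ℳ hU (hD i) (hle i) m k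
    rw [decompose_of_mem_same _ (h i)] at h1
    exact h1
  rw [e]
  exact SetLike.coe_mem _

include hP hF in
theorem inj_glue {U : Y.Opens} (hU : IsAffineOpen U) {ι : Type*} (f : ι → Γ(Y, U))
    (hcov : U ≤ ⨆ i, Y.basicOpen (f i)) (hI : ∀ i, Inj lam (hU.basicOpen (f i))) : Inj lam hU := by
  intro m hm hrep
  refine eq_of_locally_eq (osMod ℳ) (fun i => Y.basicOpen (f i)) U (fun i => Y.basicOpen_le (f i)) hcov m 0
    fun i => ?_
  rw [res_zero]
  refine hI i _ (ℳ.res_mem hU (hU.basicOpen (f i)) (Y.basicOpen_le (f i)) n m hm) ?_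
  have h1 := (hrep.res (p.preimage_mono (Y.basicOpen_le (f i)))).basic hP hF (hU.basicOpen (f i)) (f i) rfl
    (Y.basicOpen_le (f i))
  exact h1.congr (res_zero F _) rfl

include hP hF in
theorem surj_glue {U : Y.Opens} (hU : IsAffineOpen U) {ι : Type*} (f : ι → Γ(Y, U))
    (hcov : U ≤ ⨆ i, Y.basicOpen (f i)) (hS : ∀ i, Surj lam (hU.basicOpen (f i)))
    (hI : ∀ (i j : ι) (hD : IsAffineOpen (Y.basicOpen (f i) ⊓ Y.basicOpen (f j))), Inj lam hD) : Surj lam hU := by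
  intro s
  have hle : ∀ i, Y.basicOpen (f i) ≤ U := fun i => Y.basicOpen_le (f i)
  have hD : ∀ i, IsAffineOpen (Y.basicOpen (f i)) := fun i => hU.basicOpen (f i)
  have hple : ∀ i, p ⁻¹ᵁ Y.basicOpen (f i) ≤ p ⁻¹ᵁ U := fun i => p.preimage_mono (hle i)
  choose m hm hrep using fun i => hS i (res F (hple i) s)
  -- the local elements agree on overlaps
  have hcompat : ∀ i j, res (osMod ℳ) (inf_le_left : Y.basicOpen (f i) ⊓ Y.basicOpen (f j) ≤ Y.basicOpen (f i)) (m i) =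
      res (osMod ℳ) (inf_le_right : Y.basicOpen (f i) ⊓ Y.basicOpen (f j) ≤ Y.basicOpen (f j)) (m j) := by
    intro i j
    have e1 : Y.basicOpen (f i) ⊓ Y.basicOpen (f j) = Y.basicOpen (resO (hle i) (f j)) :=
      (basicOpen_resO (hle i) (f j)).symm
    have e2 : Y.basicOpen (f i) ⊓ Y.basicOpen (f j) = Y.basicOpen (resO (hle j) (f i)) := by
      rw [basicOpen_resO, inf_comm]
    have hDD : IsAffineOpen (Y.basicOpen (f i) ⊓ Y.basicOpen (f j)) := by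
      rw [e1]; exact (hD i).basicOpen _
    have hp1 : p ⁻¹ᵁ (Y.basicOpen (f i) ⊓ Y.basicOpen (f j)) ≤ p ⁻¹ᵁ Y.basicOpen (f i) := p.preimage_mono inf_le_left
    have hp2 : p ⁻¹ᵁ (Y.basicOpen (f i) ⊓ Y.basicOpen (f j)) ≤ p ⁻¹ᵁ Y.basicOpen (f j) := p.preimage_mono inf_le_right
    have r1 := ((hrep i).res hp1).basic hP hF hDD _ e1 inf_le_left
    have r2 := ((hrep j).res hp2).basic hP hF hDD _ e2 inf_le_right
    have r1' := r1.congr (res_res F (hple i) hp1 s) rfl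
    have r2' := r2.congr (res_res F (hple j) hp2 s) rfl
    have r3 := (r1'.sub r2').congr (sub_self _) rfl
    have h0 := hI i j hDD _ (sub_mem (ℳ.res_mem (hD i) hDD inf_le_left n _ (hm i))
      (ℳ.res_mem (hD j) hDD inf_le_right n _ (hm j))) r3
    exact sub_eq_zero.1 h0
  obtain ⟨m₀, hm₀⟩ := exists_gluing (osMod ℳ) (fun i => Y.basicOpen (f i)) U hle hcov m hcompat
  have hm₀n : m₀ ∈ ℳ.deg U hU n := by
    refine mem_deg_of_cover hU (fun i => Y.basicOpen (f i)) hD hle hcov m₀ n fun i => ?_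
    have : ℳ.res hU (hD i) (hle i) m₀ = m i := hm₀ i
    rw [this]
    exact hm i
  refine ⟨m₀, hm₀n, ?_⟩
  obtain ⟨s', hs'⟩ := Rep.exists hF hU (le_refl (p ⁻¹ᵁ U)) m₀ hm₀n
  have hss' : s' = s := by
    refine eq_of_locally_eq F (fun i => p ⁻¹ᵁ Y.basicOpen (f i)) (p ⁻¹ᵁ U) hple ?_ s' s fun i => ?_
    · intro x hx
      obtain ⟨i, hi⟩ := Opens.mem_iSup.mp (hcov hx)
      exact Opens.mem_iSup.mpr ⟨i, hi⟩
    · have r1 := ((hs'.res (hple i)).basic hP hF (hD i) (f i) rfl (hle i)).congr rfl (hm₀ i)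
      exact r1.unique hF (hrep i) le_rfl
  rw [← hss']
  exact hs'

end glue

end Groth.Agent.Lib.Helper28.RelAlpha
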