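import Groth.Agent.Lib.Helper28.RelAlphaB

/-!
# The maps `α_n` read on the relative `Proj`: bijectivity passes to basic opens (localization part)
-/

set_option autoImplicit false
universe u
open CategoryTheory CategoryTheory.Limits AlgebraicGeometry Opposite TopologicalSpace
open scoped HomogeneousIdeal
noncomputable section

namespace Groth.Agent.Lib.Helper28.RelAlpha

open Groth.Agent.Lib.Helper28 Groth.Agent.Lib.Helper28.QCohLoc Groth.Agent.Lib.Helper28.RelTwistVal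
open Groth.Agent.Lib.Helper28.RelProjQC DirectSum

section alg

variable {A σ : Type u} [CommRing A] [SetLike σ A] [AddSubgroupClass σ A] (𝒜 : ℕ → σ) [GradedRing 𝒜]
variable {M τ : Type u} [AddCommGroup M] [Module A M] [SetLike τ M] [AddSubgroupClass τ M] (ℳ : ℕ → τ)
  [DirectSum.Decomposition ℳ] [SetLike.GradedSMul 𝒜 ℳ]

/-- multiplication by a degree-zero element commutes with taking homogeneous components -/
theorem decompose_smul_zero {c : A} (hc : c ∈ 𝒜 0) (x : M) (k : ℕ) :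
    (decompose ℳ (c • x) k : M) = c • (decompose ℳ x k : M) := by
  classical
  have hmem : ∀ d, c • (decompose ℳ x d : M) ∈ ℳ d := fun d => by
    have := SetLike.GradedSMul.smul_mem hc (SetLike.coe_mem (decompose ℳ x d))
    simpa using this
  have hsum : c • x = ∑ d ∈ (decompose ℳ x).support, c • (decompose ℳ x d : M) := by
    conv_lhs => rw [← DirectSum.sum_support_decompose ℳ x, Finset.smul_sum]
  rw [hsum, decompose_sum, DFinsupp.finsetSum_apply, AddSubmonoidClass.coe_finsetSum]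
  by_cases hk : k ∈ (decompose ℳ x).support
  · rw [Finset.sum_eq_single k]
    · rw [decompose_of_mem_same _ (hmem k)]
    · intro j _ hjk
      rw [decompose_of_mem_ne _ (hmem j) hjk]
    · intro h'
      exact absurd hk h'
  · rw [Finset.sum_eq_zero]
    · rw [DFinsupp.notMem_support_iff] at hk
      rw [hk]
      exact (smul_zero _).symm
    · intro j hj
      have hjk : j ≠ k := fun h' => hk (h' ▸ hj)
      rw [decompose_of_mem_ne _ (hmem j) hjk]

/-- an element that becomes homogeneous of degree `k` after multiplication by a degree-zero unit is homogeneous of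
degree `k` -/
theorem mem_of_isUnit_smul_mem {c : A} (hc : c ∈ 𝒜 0) (hu : IsUnit c) {x : M} {k : ℕ} (h : c • x ∈ ℳ k) :
    x ∈ ℳ k := by
  have h1 := decompose_smul_zero 𝒜 ℳ hc x k
  rw [decompose_of_mem_same _ h] at h1
  have h2 : x = (decompose ℳ x k : M) := hu.smul_left_cancel.1 h1
  rw [h2]
  exact SetLike.coe_mem _

end alg

variable {Y P : Scheme.{u}} {𝒮 : RelProj.QCGrAlg Y} {p : P ⟶ Y}
  {chart : ∀ (U : Y.Opens) (hU : IsAffineOpen U), (((p ⁻¹ᵁ U : P.Opens) : Scheme.{u}) ≅ Proj (𝒮.deg U hU))}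
  {ℳ : RelProj.GrModule 𝒮} {n : ℕ} {F : P.Modules}
  {lam : ∀ (U : Y.Opens) (hU : IsAffineOpen U),
    F ⟶ (Scheme.Modules.pushforward (RelProj.emb p chart U hU)).obj
      (GrMod.tilde (𝒮.deg U hU) (ℳ.deg U hU) (n : ℤ))}

section basic

variable (hP : RelProj.IsRelProj 𝒮 p chart) (hF : RelProj.IsRelTilde 𝒮 p chart ℳ (n : ℤ) F lam)
  (hℳ : (osMod ℳ).IsQuasicoherent) [F.IsQuasicoherent]

theorem str_resO {U D : Y.Opens} (hU : IsAffineOpen U) (hD : IsAffineOpen D) (hle : D ≤ U) (r : Γ(Y, U)) :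
    (𝒮.str.app (op D)).hom (resO hle r) = 𝒮.res hU hD hle ((𝒮.str.app (op U)).hom r) :=
  congrArg (fun t => t.hom r) (𝒮.str.naturality (homOfLE hle).op)

theorem appLE_resO {U D : Y.Opens} (hle : D ≤ U) (r : Γ(Y, U)) (W : P.Opens) (hW1 : W ≤ p ⁻¹ᵁ D)
    (hW2 : W ≤ p ⁻¹ᵁ U) :
    (p.appLE D W hW1).hom (resO hle r) = resO hW2 ((p.app U).hom r) := by
  have h := Scheme.Hom.map_appLE p hW1 (homOfLE hle).op
  exact congrArg (fun g => g.hom r) h

theorem res_smul_pow {U D : Y.Opens} (hU : IsAffineOpen U) (hD : IsAffineOpen D) (hle : D ≤ U)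
    (c : 𝒮.presheaf.obj (op U)) (e : ℕ) (a : ℳ.mod.val.obj (op U)) :
    ℳ.res hU hD hle (c ^ e • a) = 𝒮.res hU hD hle c ^ e • ℳ.res hU hD hle a := by
  rw [LinearMap.map_smulₛₗ, map_pow]
  rfl

include hP hF hℳ in
theorem inj_basic {U : Y.Opens} (hU : IsAffineOpen U) (hc : IsCompact ((p ⁻¹ᵁ U : P.Opens) : Set P))
    (r : Γ(Y, U)) (hI : Inj lam hU) : Inj lam (hU.basicOpen r) := by
  intro m' hm' h0
  have hle : Y.basicOpen r ≤ U := Y.basicOpen_le r
  obtain ⟨hu, -, -⟩ := RelTwistEx.res_facts 𝒮 hU (hU.basicOpen r) r rfl hle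
  obtain ⟨h2M, -⟩ := RelTildeEx.res_factsM hℳ hU (hU.basicOpen r) r rfl hle
  obtain ⟨a, ha, k, hak⟩ := RelTildeAlg.exists_homogeneous_liftM (𝒮.res hU (hU.basicOpen r) hle)
    (ℳ.res hU (hU.basicOpen r) hle) (fun i m hm => ℳ.res_mem hU (hU.basicOpen r) hle i m hm) _
    (𝒮.str_mem U hU r) h2M hm'
  obtain ⟨sa, hsa⟩ := Rep.exists hF hU (le_refl (p ⁻¹ᵁ U)) a ha
  have hWD : P.basicOpen ((p.app U).hom r) = p ⁻¹ᵁ Y.basicOpen r := (Scheme.preimage_basicOpen p r).symm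
  have hW1 : P.basicOpen ((p.app U).hom r) ≤ p ⁻¹ᵁ Y.basicOpen r := hWD.le
  have hW2 : P.basicOpen ((p.app U).hom r) ≤ p ⁻¹ᵁ U := P.basicOpen_le _
  have r1 : Rep lam (hU.basicOpen r) (P.basicOpen ((p.app U).hom r)) (res F hW2 sa)
      (ℳ.res hU (hU.basicOpen r) hle a) := (hsa.res hW2).basic hP hF (hU.basicOpen r) r rfl hle
  have r2 : Rep lam (hU.basicOpen r) (P.basicOpen ((p.app U).hom r)) 0
      (𝒮.res hU (hU.basicOpen r) hle ((𝒮.str.app (op U)).hom r) ^ k • m') := by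
    refine ((h0.res hW1).smul hP hW1 (resO hle r ^ k)).congr ?_ ?_
    · rw [res_zero, smul_zero]
    · rw [map_pow, str_resO hU (hU.basicOpen r) hle r]
  have h1 : res F hW2 sa = 0 := r1.unique hF (r2.congr rfl hak) hW1
  obtain ⟨e, he⟩ := exists_pow_smul_eq_zero_of_isCompact F hc ((p.app U).hom r) sa h1
  have r3 : Rep lam hU (p ⁻¹ᵁ U) 0 ((𝒮.str.app (op U)).hom r ^ e • a) := by
    refine (hsa.smul hP (le_refl (p ⁻¹ᵁ U)) (r ^ e)).congr ?_ ?_
    · rw [map_pow, Scheme.Hom.appLE_eq_app]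
      exact he
    · rw [map_pow]
  have h2 := hI _ (RelTildeAlg.pow_smul_mem _ (𝒮.str_mem U hU r) ha e) r3
  have h3 : 𝒮.res hU (hU.basicOpen r) hle ((𝒮.str.app (op U)).hom r) ^ e •
      𝒮.res hU (hU.basicOpen r) hle ((𝒮.str.app (op U)).hom r) ^ k • m' = 0 := by
    rw [hak, ← res_smul_pow, h2, map_zero]
  exact ((hu.pow k).smul_eq_zero).1 (((hu.pow e).smul_eq_zero).1 h3)

include hP hF in
theorem surj_basic {U : Y.Opens} (hU : IsAffineOpen U) (hc : IsCompact ((p ⁻¹ᵁ U : P.Opens) : Set P))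
    (hqs : IsQuasiSeparated ((p ⁻¹ᵁ U : P.Opens) : Set P))
    (r : Γ(Y, U)) (hS : Surj lam hU) : Surj lam (hU.basicOpen r) := by
  intro s
  have hle : Y.basicOpen r ≤ U := Y.basicOpen_le r
  obtain ⟨hu, -, -⟩ := RelTwistEx.res_facts 𝒮 hU (hU.basicOpen r) r rfl hle
  have hWD : P.basicOpen ((p.app U).hom r) = p ⁻¹ᵁ Y.basicOpen r := (Scheme.preimage_basicOpen p r).symm
  have hW1 : P.basicOpen ((p.app U).hom r) ≤ p ⁻¹ᵁ Y.basicOpen r := hWD.le
  have hW1' : p ⁻¹ᵁ Y.basicOpen r ≤ P.basicOpen ((p.app U).hom r) := hWD.ge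
  have hW2 : P.basicOpen ((p.app U).hom r) ≤ p ⁻¹ᵁ U := P.basicOpen_le _
  obtain ⟨e, t, ht⟩ := exists_pow_smul_eq_res_of_qcqs F hc hqs ((p.app U).hom r) (res F hW1 s)
  obtain ⟨a, ha, hrep⟩ := hS t
  have r1 : Rep lam (hU.basicOpen r) (P.basicOpen ((p.app U).hom r)) (res F hW2 t)
      (ℳ.res hU (hU.basicOpen r) hle a) := (hrep.res hW2).basic hP hF (hU.basicOpen r) r rfl hle
  obtain ⟨v, hv⟩ := hu.pow e
  obtain ⟨m', hm'def⟩ : ∃ m' : ℳ.mod.val.obj (op (Y.basicOpen r)),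
      m' = ((v⁻¹ : (𝒮.presheaf.obj (op (Y.basicOpen r)))ˣ) : 𝒮.presheaf.obj (op (Y.basicOpen r))) •
        ℳ.res hU (hU.basicOpen r) hle a := ⟨_, rfl⟩
  have hm'e : 𝒮.res hU (hU.basicOpen r) hle ((𝒮.str.app (op U)).hom r) ^ e • m' =
      ℳ.res hU (hU.basicOpen r) hle a := by
    rw [hm'def, ← hv, smul_smul, Units.mul_inv, one_smul]
  have hc0 : 𝒮.res hU (hU.basicOpen r) hle ((𝒮.str.app (op U)).hom r) ^ e ∈
      𝒮.deg (Y.basicOpen r) (hU.basicOpen r) 0 := by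
    have := SetLike.pow_mem_graded e ((𝒮.res hU (hU.basicOpen r) hle).map_mem (𝒮.str_mem U hU r))
    simpa using this
  have hm' : m' ∈ ℳ.deg (Y.basicOpen r) (hU.basicOpen r) n := by
    refine mem_of_isUnit_smul_mem (𝒮.deg (Y.basicOpen r) (hU.basicOpen r)) (ℳ.deg (Y.basicOpen r) (hU.basicOpen r))
      hc0 (hu.pow e) ?_
    rw [hm'e]
    exact ℳ.res_mem hU (hU.basicOpen r) hle n a ha
  obtain ⟨s', hs'⟩ := Rep.exists hF (hU.basicOpen r) (le_refl (p ⁻¹ᵁ Y.basicOpen r)) m' hm'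
  have r2 : Rep lam (hU.basicOpen r) (P.basicOpen ((p.app U).hom r))
      ((p.appLE (Y.basicOpen r) (P.basicOpen ((p.app U).hom r)) hW1).hom (resO hle r ^ e) • res F hW1 s')
      (ℳ.res hU (hU.basicOpen r) hle a) := by
    refine ((hs'.res hW1).smul hP hW1 (resO hle r ^ e)).congr rfl ?_
    rw [map_pow, str_resO hU (hU.basicOpen r) hle r]
    exact hm'e
  have h1 := r2.unique hF r1 hW1
  rw [map_pow, appLE_resO hle r _ hW1 hW2] at h1
  have hunit : IsUnit (resO hW2 ((p.app U).hom r)) := RingedSpace.isUnit_res_basicOpen _ ((p.app U).hom r)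
  have h2 : res F hW1 s' = res F hW1 s := by
    apply ((hunit.pow e).smul_left_cancel).1
    rw [h1]
    exact ht
  have h3 : s' = s := by
    have h4 := congrArg (res F hW1') h2
    rwa [res_res, res_res, res_self, res_self] at h4
  exact ⟨m', hm', h3 ▸ hs'⟩

end basic

end Groth.Agent.Lib.Helper28.RelAlpha
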