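import Groth.Agent.Lib.Helper28.RelAlphaC

/-!
# Bijectivity of the maps `α_n` of a quasi-coherent graded module is local on the base
-/

set_option autoImplicit false
universe u
open CategoryTheory CategoryTheory.Limits AlgebraicGeometry Opposite TopologicalSpace
open scoped HomogeneousIdeal
noncomputable section

namespace Groth.Agent.Lib.Helper28.RelAlpha

open Groth.Agent.Lib.Helper28 Groth.Agent.Lib.Helper28.QCohLoc Groth.Agent.Lib.Helper28.RelTwistVal
open Groth.Agent.Lib.Helper28.RelProjQC DirectSum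

variable {Y P : Scheme.{u}} {𝒮 : RelProj.QCGrAlg Y} {p : P ⟶ Y}
  {chart : ∀ (U : Y.Opens) (hU : IsAffineOpen U), (((p ⁻¹ᵁ U : P.Opens) : Scheme.{u}) ≅ Proj (𝒮.deg U hU))}
  {ℳ : RelProj.GrModule 𝒮} {n : ℕ} {F : P.Modules}
  {lam : ∀ (U : Y.Opens) (hU : IsAffineOpen U),
    F ⟶ (Scheme.Modules.pushforward (RelProj.emb p chart U hU)).obj
      (GrMod.tilde (𝒮.deg U hU) (ℳ.deg U hU) (n : ℤ))}

theorem quasiSeparatedSpace_proj {A σ : Type u} [CommRing A] [SetLike σ A] [AddSubgroupClass σ A] (𝒜 : ℕ → σ)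
    [GradedRing 𝒜] : QuasiSeparatedSpace (Proj 𝒜) :=
  quasiSeparatedSpace_of_quasiSeparated (Proj.toSpecZero 𝒜)

theorem isQuasiSeparated_preimage
    (chart : ∀ (U : Y.Opens) (hU : IsAffineOpen U), (((p ⁻¹ᵁ U : P.Opens) : Scheme.{u}) ≅ Proj (𝒮.deg U hU)))
    (U : Y.Opens) (hU : IsAffineOpen U) : IsQuasiSeparated ((p ⁻¹ᵁ U : P.Opens) : Set P) := by
  have h1 : QuasiSeparatedSpace (Proj (𝒮.deg U hU)) := quasiSeparatedSpace_proj _
  have h2 : QuasiSeparatedSpace (((p ⁻¹ᵁ U : P.Opens) : Scheme.{u})) :=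
    quasiSeparatedSpace_of_quasiSeparated (chart U hU).hom
  exact (isQuasiSeparated_iff_quasiSeparatedSpace _ (p ⁻¹ᵁ U).isOpen).2 h2

theorem isQuasicoherent_of_isRelTilde {κ : ℤ} {F : P.Modules}
    {lam : ∀ (U : Y.Opens) (hU : IsAffineOpen U),
      F ⟶ (Scheme.Modules.pushforward (RelProj.emb p chart U hU)).obj (GrMod.tilde (𝒮.deg U hU) (ℳ.deg U hU) κ)}
    (hF : RelProj.IsRelTilde 𝒮 p chart ℳ κ F lam) : F.IsQuasicoherent := by
  haveI : ∀ i : Y.affineOpens, (GrMod.tilde (𝒮.deg i.1 i.2) (ℳ.deg i.1 i.2) κ).IsQuasicoherent :=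
    fun i => GrModQC.isQuasicoherent_tilde (𝒮.deg i.1 i.2) (ℳ.deg i.1 i.2) κ
  exact QCohLoc.isQuasicoherent_of_charts F (fun i : Y.affineOpens => Proj (𝒮.deg i.1 i.2))
    (fun i => RelProj.emb p chart i.1 i.2) (fun i => GrMod.tilde (𝒮.deg i.1 i.2) (ℳ.deg i.1 i.2) κ)
    (fun i => lam i.1 i.2)
    (fun i W hW => hF.bijective i.1 i.2 W (hW.trans (RelProjQC.opensRange_emb p chart i.1 i.2).le))
    (RelProjQC.exists_mem_opensRange_emb p chart)

/-- **bijectivity of `α_n` is local on the base** (for a quasi-coherent graded algebra of finite type) -/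
theorem alpha_bijective_of_local
    (hft : ∀ (U : Y.Opens) (_ : IsAffineOpen U), (𝒮.str.app (op U)).hom.FiniteType)
    (hP : RelProj.IsRelProj 𝒮 p chart) (hF : RelProj.IsRelTilde 𝒮 p chart ℳ (n : ℤ) F lam)
    (hℳ : (osMod ℳ).IsQuasicoherent) {U : Y.Opens} (hU : IsAffineOpen U)
    (H : ∀ x ∈ U, ∃ (V : Y.Opens) (hV : IsAffineOpen V), x ∈ V ∧
      Function.Bijective (GrMod.alpha (𝒮.deg V hV) (ℳ.deg V hV) n)) :
    Function.Bijective (GrMod.alpha (𝒮.deg U hU) (ℳ.deg U hU) n) := by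
  haveI : F.IsQuasicoherent := isQuasicoherent_of_isRelTilde hF
  have hc : ∀ (V : Y.Opens) (hV : IsAffineOpen V), IsCompact ((p ⁻¹ᵁ V : P.Opens) : Set P) :=
    fun V hV => RelProjFT.isCompact_preimage hft chart V hV
  have hqs : ∀ (V : Y.Opens) (hV : IsAffineOpen V), IsQuasiSeparated ((p ⁻¹ᵁ V : P.Opens) : Set P) :=
    fun V hV => isQuasiSeparated_preimage chart V hV
  have H' : ∀ x : U, ∃ f : Γ(Y, U), x.1 ∈ Y.basicOpen f ∧ Inj lam (hU.basicOpen f) ∧ Surj lam (hU.basicOpen f) := by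
    intro x
    obtain ⟨V, hV, hxV, hbij⟩ := H x.1 x.2
    obtain ⟨f, g, hfg, hxf⟩ := exists_basicOpen_le_affine_inter hU hV x.1 ⟨x.2, hxV⟩
    obtain ⟨hI, hS⟩ := inj_surj_of_alpha_bijective (lam := lam) hV hbij
    exact ⟨f, hxf, (inj_basic hP hF hℳ hV (hc V hV) g hI).congr hfg.symm (hU.basicOpen f),
      (surj_basic hP hF hV (hc V hV) (hqs V hV) g hS).congr hfg.symm (hU.basicOpen f)⟩
  choose f hxf hIf hSf using H'
  have hcov : U ≤ ⨆ x : U, Y.basicOpen (f x) := by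
    intro x hx
    exact Opens.mem_iSup.mpr ⟨⟨x, hx⟩, hxf ⟨x, hx⟩⟩
  refine alpha_bijective_of hF hU (inj_glue hP hF hU f hcov hIf) (surj_glue hP hF hU f hcov hSf ?_)
  intro x x' hD
  have h1 := inj_basic hP hF hℳ (hU.basicOpen (f x)) (hc _ (hU.basicOpen (f x)))
    (resO (Y.basicOpen_le (f x)) (f x')) (hIf x)
  exact h1.congr (basicOpen_resO (Y.basicOpen_le (f x)) (f x')) hD

/-- sections of a quasi-coherent algebra of finite type over a Noetherian affine open form a Noetherian ring -/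
theorem isNoetherianRing_sections [IsLocallyNoetherian Y]
    (hft : ∀ (U : Y.Opens) (_ : IsAffineOpen U), (𝒮.str.app (op U)).hom.FiniteType)
    (U : Y.Opens) (hU : IsAffineOpen U) : IsNoetherianRing (𝒮.presheaf.obj (op U)) := by
  haveI : IsNoetherianRing Γ(Y, U) := IsLocallyNoetherian.component_noetherian ⟨U, hU⟩
  letI := (𝒮.str.app (op U)).hom.toAlgebra
  have h : Algebra.FiniteType Γ(Y, U) (𝒮.presheaf.obj (op U)) := hft U hU
  exact Algebra.FiniteType.isNoetherianRing Γ(Y, U) _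

end Groth.Agent.Lib.Helper28.RelAlpha
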