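import Groth.Agent.Lib.Helper28.SecVA
import Groth.Agent.Lib.Helper28.VeryAmpleGen
import Groth.Agent.Lib.Helper28.RestrictGen
import Groth.Agent.Lib.Helper28.AmpleExtTensor2
import Groth.Agent.Lib.Helper28.AmpleSep

/-!
# Sections of `L^n ⊗ L'` over the inverse image of an affine open, for a relatively ample `L`
-/

set_option autoImplicit false
universe u
open CategoryTheory CategoryTheory.Limits AlgebraicGeometry TopologicalSpace Opposite
noncomputable section

namespace Groth.Agent.Lib.Helper28.RelAmpSec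

open Groth.Agent.Lib.Helper28 Groth.Agent.Lib.Helper28.QCohLoc
open Groth.Agent.Lib.Helper28.GenLocus Groth.Agent.Lib.Helper28.AmpleCompose Groth.Agent.Lib.Helper28.AmpleLocal
open Groth.Agent.Lib.Helper28.TensorGen Groth.Agent.Lib.Helper28.VeryAmpleImm

variable {Y X : Scheme.{u}}

/-- generation in closure form gives generation as an algebra -/
theorem adjoin_eq_top_of_closure {A B : Type u} [CommRing A] [CommRing B] (φ : A →+* B) (G : Set B)
    (h : ∀ z : B, z ∈ Subring.closure (G ∪ Set.range φ)) :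
    @Algebra.adjoin A B _ _ φ.toAlgebra G = ⊤ := by
  let _ := φ.toAlgebra
  rw [eq_top_iff]
  intro z _
  have h1 : z ∈ (Algebra.adjoin A G).toSubring := by
    rw [Algebra.adjoin_eq_ring_closure, Set.union_comm]
    exact h z
  exact h1

/-- generation at a point transfers along a propositional equality of the open -/
theorem isGen_of_genLocus_eq {M : X.Modules} (σ : Coh.structureModule X ⟶ M) (W : X.Opens)
    (h : CohB1.genLocus M σ = W) : IsGen M W (res M le_top (secOf σ)) := by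
  subst h
  exact isGen_genLocus σ

section main

variable (q : X ⟶ Y) [LocallyOfFiniteType q] {L L' : X.Modules}

/-- **sections of `L^n ⊗ L'` over `q⁻¹ V`**: for `L` ample over the inverse image of the affine open `V`, and all large `n`,
there are finitely many sections of `L^n ⊗ L'` over `q⁻¹ V` whose loci are affine, cover `q⁻¹ V`, and on each of which
the functions are generated over `Γ(V)` by ratios of such sections -/
theorem exists_sections_over (hL : PicF.IsInvertible L) (hL' : PicF.IsInvertible L') {V : Y.Opens}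
    (hV : IsAffineOpen V) (hA : CohB1.IsAmple (L.restrict (q ⁻¹ᵁ V).ι)) :
    ∃ n₀ : ℕ, ∀ n : ℕ, n₀ ≤ n →
      ∃ (I : Type u) (D : I → X.Opens) (_ : ∀ i, IsAffineOpen (D i)) (hDV : ∀ i, D i ≤ q ⁻¹ᵁ V)
        (s : I → Γ(CohB1.tensorMod (CohB1.tensorPow L n) L', q ⁻¹ᵁ V)) (G : ∀ i, Set Γ(X, D i)),
        (∀ x : X, x ∈ q ⁻¹ᵁ V → ∃ i, x ∈ D i) ∧
        (∀ i, IsGen (CohB1.tensorMod (CohB1.tensorPow L n) L') (D i)
          (res (CohB1.tensorMod (CohB1.tensorPow L n) L') (hDV i) (s i))) ∧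
        (∀ i (x : X), x ∈ q ⁻¹ᵁ V →
          SecGenAt (CohB1.tensorMod (CohB1.tensorPow L n) L') (q ⁻¹ᵁ V) (s i) x → x ∈ D i) ∧
        (∀ i, @Algebra.adjoin Γ(Y, V) Γ(X, D i) _ _ (q.appLE V (D i) (hDV i)).hom.toAlgebra (G i) = ⊤) ∧
        (∀ i, ∀ g ∈ G i, ∃ t : Γ(CohB1.tensorMod (CohB1.tensorPow L n) L', q ⁻¹ᵁ V),
          res (CohB1.tensorMod (CohB1.tensorPow L n) L') (hDV i) t =
            (g • res (CohB1.tensorMod (CohB1.tensorPow L n) L') (hDV i) (s i) :
              Γ(CohB1.tensorMod (CohB1.tensorPow L n) L', D i))) := by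
  classical
  let Ω : X.Opens := q ⁻¹ᵁ V
  have hcpt : CompactSpace (↑Ω : Scheme.{u}) := hA.2.1
  have hLV : PicF.IsInvertible (L.restrict Ω.ι) := hA.1
  have hL'V : PicF.IsInvertible (L'.restrict Ω.ι) := AmpleIso.isInvertible_restrict Ω.ι L' hL'
  have hle : ∀ U : (↑Ω : Scheme.{u}).Opens, U ≤ (Ω.ι ≫ q) ⁻¹ᵁ V := by
    intro U y _
    show q (Ω.ι y) ∈ V
    exact y.2
  have hsel : ∀ U : (↑Ω : Scheme.{u}).affineOpens, ∃ (k : ℕ) (b : Fin k → Γ((↑Ω : Scheme.{u}), U.1)),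
      ∀ z : Γ((↑Ω : Scheme.{u}), U.1),
        z ∈ Subring.closure (Set.range b ∪ Set.range ((Ω.ι ≫ q).appLE V U.1 (hle U.1))) :=
    fun U => exists_generators (Ω.ι ≫ q) hV U.2 (hle U.1)
  choose k b hb using hsel
  obtain ⟨I, hI, U, hUcov, -, n₀, hn₀⟩ := VeryAmpleSec.exists_cover_sections_le hA hL'V k b
    (fun _ => ⊤) (fun _ => trivial)
  refine ⟨n₀, fun n hn => ?_⟩
  have key := hn₀ n hn
  choose s' sk hloc hratio using key
  -- the comparison isomorphism
  obtain ⟨ψ₁⟩ := exists_restrict_tensorMod_iso (CohB1.tensorPow L n) L' Ω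
    (AmpleIso.isInvertible_restrict Ω.ι _ (isInvertible_tensorPow hL n)) hL'V
  obtain ⟨ψ₂⟩ := exists_restrict_tensorPow_iso L Ω hLV n
  let ψ : (CohB1.tensorMod (CohB1.tensorPow L n) L').restrict Ω.ι ≅
      CohB1.tensorMod (CohB1.tensorPow (L.restrict Ω.ι) n) (L'.restrict Ω.ι) :=
    ψ₁ ≪≫ PicGrp.tensorModIso ψ₂ (Iso.refl _)
  have hMninv : PicF.IsInvertible (CohB1.tensorMod (CohB1.tensorPow L n) L') :=
    isInvertible_tensorMod (isInvertible_tensorPow hL n) hL'
  let τ : I → (Coh.structureModule (↑Ω : Scheme.{u}) ⟶ (CohB1.tensorMod (CohB1.tensorPow L n) L').restrict Ω.ι) :=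
    fun i => s' i ≫ ψ.inv
  let τk : ∀ i, Fin (k (U i)) →
      (Coh.structureModule (↑Ω : Scheme.{u}) ⟶ (CohB1.tensorMod (CohB1.tensorPow L n) L').restrict Ω.ι) :=
    fun i j => sk i j ≫ ψ.inv
  have hτ : ∀ i, CohB1.genLocus _ (τ i) = (U i).1 := fun i =>
    (AmpleUnit.genLocus_comp_iso (s' i) ψ.symm).trans (hloc i)
  have htop : Ω.ι ''ᵁ ⊤ = Ω := Scheme.Opens.ι_image_top Ω
  let σ : I → Γ(CohB1.tensorMod (CohB1.tensorPow L n) L', Ω.ι ''ᵁ ⊤) := fun i =>
    upSec (CohB1.tensorMod (CohB1.tensorPow L n) L') Ω (secOf (τ i))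
  let σk : ∀ i, Fin (k (U i)) → Γ(CohB1.tensorMod (CohB1.tensorPow L n) L', Ω.ι ''ᵁ ⊤) := fun i j =>
    upSec (CohB1.tensorMod (CohB1.tensorPow L n) L') Ω (secOf (τk i j))
  have hDle : ∀ i, Ω.ι ''ᵁ (U i).1 ≤ Ω.ι ''ᵁ ⊤ := fun i => Ω.ι.image_mono le_top
  refine ⟨I, fun i => Ω.ι ''ᵁ (U i).1, fun i => (U i).2.image_of_isOpenImmersion Ω.ι,
    fun i => (hDle i).trans htop.le, fun i => res _ htop.ge (σ i),
    fun i => Set.range (fun j => (Ω.ι.appIso (U i).1).inv (b (U i) j)), ?_, ?_, ?_, ?_, ?_⟩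
  · -- cover
    intro x hx
    obtain ⟨i, hi⟩ := hUcov ⟨x, hx⟩
    exact ⟨i, ⟨⟨x, hx⟩, hi, rfl⟩⟩
  · -- generation
    intro i
    have h1 := isGen_of_genLocus_eq (τ i) (U i).1 (hτ i)
    have h2 := isGen_of_isGen_restrict _ Ω _ h1
    rw [res_res]
    exact h2
  · -- maximality
    intro i x hx hgen
    have h1 := (secGenAt_res_iff htop.ge (σ i) x hx).1 hgen
    have h2 := (mem_genLocus_restrict_iff hMninv Ω (τ i) ⟨x, hx⟩).2 h1
    rw [hτ i] at h2
    exact ⟨⟨x, hx⟩, h2, rfl⟩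
  · -- ring generation
    intro i
    refine adjoin_eq_top_of_closure _ _ fun z => ?_
    have hz := hb (U i) ((Ω.ι.appIso (U i).1).hom z)
    have hle2 : Subring.closure (Set.range (b (U i)) ∪ Set.range ((Ω.ι ≫ q).appLE V (U i).1 (hle (U i).1))) ≤
        (Subring.closure (Set.range (fun j => (Ω.ι.appIso (U i).1).inv (b (U i) j)) ∪
          Set.range (q.appLE V (Ω.ι ''ᵁ (U i).1) ((hDle i).trans htop.le)).hom)).comap
            (Ω.ι.appIso (U i).1).inv.hom := by
      refine Subring.closure_le.2 ?_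
      rintro c (⟨j, rfl⟩ | ⟨a, rfl⟩)
      · exact Subring.subset_closure (Or.inl ⟨j, rfl⟩)
      · refine Subring.subset_closure (Or.inr ⟨a, ?_⟩)
        have h3 : (Ω.ι ≫ q).appLE V (U i).1 (hle (U i).1) =
            q.appLE V (Ω.ι ''ᵁ (U i).1) ((hDle i).trans htop.le) ≫ (Ω.ι.appIso (U i).1).hom := by
          rw [Scheme.Hom.appIso_hom', Scheme.Hom.appLE_comp_appLE]
        show (q.appLE V (Ω.ι ''ᵁ (U i).1) ((hDle i).trans htop.le)).hom a =
          (Ω.ι.appIso (U i).1).inv.hom (((Ω.ι ≫ q).appLE V (U i).1 (hle (U i).1)).hom a)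
        rw [h3]
        exact (Iso.hom_inv_id_apply (Ω.ι.appIso (U i).1) _).symm
    have h4 := hle2 hz
    have h5 : (Ω.ι.appIso (U i).1).inv.hom ((Ω.ι.appIso (U i).1).hom z) = z :=
      Iso.hom_inv_id_apply (Ω.ι.appIso (U i).1) z
    rw [Subring.mem_comap, h5] at h4
    exact h4
  · -- ratios
    rintro i _ ⟨j, rfl⟩
    refine ⟨res _ htop.ge (σk i j), ?_⟩
    rw [res_res, res_res]
    have h1 := congrArg (fun y => ψ.inv.app (U i).1 y) (hratio i j)
    simp only at h1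
    rw [app_res, Scheme.Modules.Hom.app_smul, app_res] at h1
    exact h1

end main

end Groth.Agent.Lib.Helper28.RelAmpSec
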