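import Groth.Agent.Lib.Helper28.FlatGr
import Groth.Agent.Lib.Helper28.RelProjProper

/-!
# The relative `Proj` of a graded algebra with eventually flat graded pieces is flat
-/

set_option autoImplicit false
universe u
open CategoryTheory CategoryTheory.Limits AlgebraicGeometry Opposite TopologicalSpace
open HomogeneousLocalization
noncomputable section

namespace Groth.Agent.Lib.Helper28.RelProjFlat

open Groth.Agent.Lib.Helper28

variable {Y P : Scheme.{u}} (𝒮 : RelProj.QCGrAlg Y)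

/-- the hypothesis: the graded pieces are eventually flat -/
def EvFlat : Prop :=
  ∃ d₀ : ℕ, ∀ d : ℕ, d₀ ≤ d → ∀ (U : Y.Opens) (hU : IsAffineOpen U),
    letI := (𝒮.str.app (op U)).hom.toAlgebra
    Module.Flat Γ(Y, U) ↥(Submodule.span Γ(Y, U) (𝒮.deg U hU d : Set (𝒮.presheaf.obj (op U))))

variable {𝒮}

set_option backward.isDefEq.respectTransparency false in
/-- chartwise, the structure morphism is flat -/
theorem flat_chart (hflat : EvFlat 𝒮) (U : Y.Opens) (hU : IsAffineOpen U) :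
    Flat (Proj.toSpecZero (𝒮.deg U hU) ≫ Spec.map (𝒮.strZero U hU)) := by
  classical
  obtain ⟨d₀, hd₀⟩ := hflat
  rw [IsZariskiLocalAtSource.iff_of_openCover (P := @Flat) (Proj.affineOpenCover (𝒮.deg U hU)).openCover]
  intro i
  show Flat (Proj.awayι (𝒮.deg U hU) i.2.1 i.2.2 i.1.2 ≫ Proj.toSpecZero (𝒮.deg U hU) ≫ Spec.map (𝒮.strZero U hU))
  rw [Proj.awayι_toSpecZero_assoc, ← Spec.map_comp, Flat.SpecMap_iff]
  letI := (𝒮.str.app (op U)).hom.toAlgebra
  refine FlatGr.flat_away (R := Γ(Y, U)) (𝒮.deg U hU) (𝒮.str_mem U hU) d₀ (fun d hd => hd₀ d hd U hU)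
    i.2.2 i.1.2 _ (fun r => ?_)
  rfl

variable {p : P ⟶ Y}
  {chart : ∀ (U : Y.Opens) (hU : IsAffineOpen U), (((p ⁻¹ᵁ U : P.Opens) : Scheme.{u}) ≅ Proj (𝒮.deg U hU))}
  (hP : RelProj.IsRelProj 𝒮 p chart)

include hP in
set_option backward.isDefEq.respectTransparency false in
/-- the relative `Proj` of an algebra with eventually flat graded pieces is flat over the base -/
theorem flat (hflat : EvFlat 𝒮) : Flat p := by
  refine IsZariskiLocalAtTarget.of_iSup_eq_top (P := @Flat) (fun U : Y.affineOpens => U.1)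
    (iSup_affineOpens_eq_top Y) fun U => ?_
  have h1 := flat_chart hflat U.1 U.2
  have h2 : p ∣_ U.1 = (chart U.1 U.2).hom ≫
      (Proj.toSpecZero (𝒮.deg U.1 U.2) ≫ Spec.map (𝒮.strZero U.1 U.2)) ≫ U.2.isoSpec.inv := by
    rw [← cancel_mono U.1.ι, morphismRestrict_ι]
    simp only [Category.assoc]
    rw [U.2.isoSpec_inv_ι]
    exact (hP.chart_over U.1 U.2).symm
  rw [h2]
  infer_instance

end Groth.Agent.Lib.Helper28.RelProjFlat
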