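import Groth.Agent.Lib.Helper28.RelProjFlat
import Groth.Agent.Lib.Helper28.RLPsiV1
import Groth.Agent.Lib.Helper17.FlatDict

/-!
# The twisting sheaves of a relative `Proj` with eventually flat graded pieces are flat over the base
-/

set_option autoImplicit false
universe u
open CategoryTheory CategoryTheory.Limits AlgebraicGeometry Opposite TopologicalSpace
open HomogeneousLocalization
noncomputable section

namespace Groth.Agent.Lib.Helper28.RelProjFlat

open Groth.Agent.Lib.Helper28 Groth.Agent.Lib.Helper28.QCohLoc Groth.Agent.Lib.Helper28.RelTwistVal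
open Groth.Agent.Lib.Helper28.RLPsiV

variable {Y P : Scheme.{u}} {𝒮 : RelProj.QCGrAlg Y} {p : P ⟶ Y}
  {chart : ∀ (U : Y.Opens) (hU : IsAffineOpen U), (((p ⁻¹ᵁ U : P.Opens) : Scheme.{u}) ≅ Proj (𝒮.deg U hU))}
  (hP : RelProj.IsRelProj 𝒮 p chart)
  {n : ℤ} {L : P.Modules}
  {lam : ∀ (U : Y.Opens) (hU : IsAffineOpen U),
    L ⟶ (Scheme.Modules.pushforward (RelProj.emb p chart U hU)).obj (GrTwist.twist (𝒮.deg U hU) n)}
  (hL : RelProj.IsRelTwist 𝒮 p chart n L lam)
  {U : Y.Opens} (hU : IsAffineOpen U) (f : 𝒮.presheaf.obj (op U))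

variable (p chart) in
/-- the image in `P` of the basic open `D₊(f)` of the chart over `U` -/
def TT : P.Opens := RelProj.emb p chart U hU ''ᵁ Proj.basicOpen (𝒮.deg U hU) f

theorem preimage_TT : RelProj.emb p chart U hU ⁻¹ᵁ TT p chart hU f = Proj.basicOpen (𝒮.deg U hU) f :=
  Scheme.Hom.preimage_image_eq _ _

theorem mem_basicOpen_of_mem (y : Proj (𝒮.deg U hU)) (hy : (RelProj.emb p chart U hU).base y ∈ TT p chart hU f) :
    y ∈ Proj.basicOpen (𝒮.deg U hU) f := by
  have : y ∈ RelProj.emb p chart U hU ⁻¹ᵁ TT p chart hU f := hy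
  rwa [preimage_TT] at this

theorem TT_le : TT p chart hU f ≤ p ⁻¹ᵁ U :=
  (Scheme.Hom.image_le_opensRange _ _).trans (RelProjQC.opensRange_emb p chart U hU).le

theorem pow_nin (k : ℕ) (y : Proj (𝒮.deg U hU)) (hy : (RelProj.emb p chart U hU).base y ∈ TT p chart hU f) :
    f ^ k ∈ y.asHomogeneousIdeal.toIdeal.primeCompl :=
  GrSectMod.pow_nin (𝒮.deg U hU) k ⟨y, mem_basicOpen_of_mem hU f y hy⟩

variable {f} {e : ℕ} (hf : f ∈ 𝒮.deg U hU e) (he : 0 < e)

include hL hf in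
/-- the section `m / f^k` of `O_P(n)` over `T` -/
theorem exists_sec (k i : ℕ) (m : 𝒮.presheaf.obj (op U)) (hm : m ∈ 𝒮.deg U hU i) (hi : (i : ℤ) = k * e + n) :
    ∃ σ : Γ(L, TT p chart hU f), ∀ (y : Proj (𝒮.deg U hU))
      (hy : (RelProj.emb p chart U hU).base y ∈ TT p chart hU f),
      cv lam hU σ y hy = Localization.mk m ⟨f ^ k, pow_nin hU f k y hy⟩ := by
  let τ0 : Γ(GrTwist.twist (𝒮.deg U hU) n, Proj.basicOpen (𝒮.deg U hU) f) :=
    GrTwistQC.mkSect (𝒮.deg U hU) hf n k i m hm hi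
  let τ : Γ((Scheme.Modules.pushforward (RelProj.emb p chart U hU)).obj (GrTwist.twist (𝒮.deg U hU) n),
      TT p chart hU f) :=
    (show Γ(GrTwist.twist (𝒮.deg U hU) n, RelProj.emb p chart U hU ⁻¹ᵁ (TT p chart hU f)) from
      res (GrTwist.twist (𝒮.deg U hU) n) (preimage_TT hU f).le τ0)
  obtain ⟨σ, hσ⟩ := (hL.bijective U hU (TT p chart hU f) (TT_le hU f)).2 τ
  refine ⟨σ, fun y hy => ?_⟩
  unfold cv
  rw [hσ]
  rfl

include hf he in
/-- every section of `O_P(n)` over `T` is a fraction `m / f^k` -/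
theorem exists_frac (s : Γ(L, TT p chart hU f)) :
    ∃ (k i : ℕ) (m : 𝒮.presheaf.obj (op U)) (_ : m ∈ 𝒮.deg U hU i), (i : ℤ) = k * e + n ∧
      ∀ (y : Proj (𝒮.deg U hU)) (hy : (RelProj.emb p chart U hU).base y ∈ TT p chart hU f),
        cv lam hU s y hy = Localization.mk m ⟨f ^ k, pow_nin hU f k y hy⟩ := by
  let t : Γ(GrTwist.twist (𝒮.deg U hU) n, RelProj.emb p chart U hU ⁻¹ᵁ (TT p chart hU f)) :=
    (lam U hU).app (TT p chart hU f) s
  obtain ⟨k, i, m, hm, hi, hval⟩ := GrTwistQC.exists_frac (𝒮.deg U hU) hf he n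
    (res (GrTwist.twist (𝒮.deg U hU) n) (preimage_TT hU f).ge t)
  refine ⟨k, i, m, hm, hi, fun y hy => ?_⟩
  exact hval ⟨y, mem_basicOpen_of_mem hU f y hy⟩

theorem cv_zero {W₁ : P.Opens} (y : Proj (𝒮.deg U hU)) (hy : (RelProj.emb p chart U hU).base y ∈ W₁) :
    cv lam hU (0 : Γ(L, W₁)) y hy = 0 := by
  unfold cv
  rw [map_zero]
  rfl

theorem mk_pow_mul_eq (y : Proj (𝒮.deg U hU)) (k j K : ℕ) (hK : k + j = K) (m : 𝒮.presheaf.obj (op U))
    (h1 : f ^ K ∈ y.asHomogeneousIdeal.toIdeal.primeCompl)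
    (h2 : f ^ k ∈ y.asHomogeneousIdeal.toIdeal.primeCompl) :
    (Localization.mk (f ^ j * m) ⟨f ^ K, h1⟩ : Localization.AtPrime y.asHomogeneousIdeal.toIdeal) =
      Localization.mk m ⟨f ^ k, h2⟩ := by
  subst hK
  rw [Localization.mk_eq_mk_iff, Localization.r_iff_exists]
  refine ⟨1, ?_⟩
  simp only [OneMemClass.coe_one, one_mul]
  rw [pow_add]
  ring

include hP hL hf he in
/-- **the sections of `O_P(n)` over `T` are flat over `Γ(Y, U)`** -/
theorem flat_sections (hflat : EvFlat 𝒮) :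
    @Module.Flat Γ(Y, U) Γ(L, TT p chart hU f) _ _
      (Module.compHom Γ(L, TT p chart hU f) (p.appLE U (TT p chart hU f) (TT_le hU f)).hom) := by
  classical
  obtain ⟨d₀, hd₀⟩ := hflat
  letI alg : Algebra Γ(Y, U) (𝒮.presheaf.obj (op U)) := (𝒮.str.app (op U)).hom.toAlgebra
  letI modL : Module Γ(Y, U) Γ(L, TT p chart hU f) :=
    Module.compHom Γ(L, TT p chart hU f) (p.appLE U (TT p chart hU f) (TT_le hU f)).hom
  have hsm : ∀ (r : Γ(Y, U)) (s : Γ(L, TT p chart hU f)),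
      r • s = ((p.appLE U (TT p chart hU f) (TT_le hU f)).hom r • s : Γ(L, TT p chart hU f)) := fun r s => rfl
  let κ : Type := {q : ℕ × ℕ // (q.2 : ℤ) = q.1 * e + n}
  let N : κ → Type u := fun q =>
    ↥(Submodule.span Γ(Y, U) (𝒮.deg U hU q.1.2 : Set (𝒮.presheaf.obj (op U))))
  have hmem : ∀ (q : κ) (z : N q), (z : 𝒮.presheaf.obj (op U)) ∈ 𝒮.deg U hU q.1.2 := fun q z =>
    (FlatGr.mem_span_iff (𝒮.deg U hU) (𝒮.str_mem U hU) _ _).1 z.2
  let σ : ∀ (q : κ), N q → Γ(L, TT p chart hU f) := fun q z =>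
    Classical.choose (exists_sec hL hU hf q.1.1 q.1.2 z.1 (hmem q z) q.2)
  have hσ : ∀ (q : κ) (z : N q) (y : Proj (𝒮.deg U hU))
      (hy : (RelProj.emb p chart U hU).base y ∈ TT p chart hU f),
      cv lam hU (σ q z) y hy = Localization.mk (z : 𝒮.presheaf.obj (op U)) ⟨f ^ q.1.1, pow_nin hU f q.1.1 y hy⟩ :=
    fun q z => Classical.choose_spec (exists_sec hL hU hf q.1.1 q.1.2 z.1 (hmem q z) q.2)
  let φ : ∀ q, N q →ₗ[Γ(Y, U)] Γ(L, TT p chart hU f) := fun q =>
    { toFun := σ q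
      map_add' := by
        intro a b
        refine ext_cv hL hU (TT_le hU f) _ _ fun y hy => ?_
        rw [cv_add, hσ, hσ, hσ, Localization.add_mk_self]
        rfl
      map_smul' := by
        intro r a
        refine ext_cv hL hU (TT_le hU f) _ _ fun y hy => ?_
        rw [RingHom.id_apply, hsm, cv_smul, hσ, hσ, cvO_base hP hU (TT_le hU f) r y hy, Localization.mk_mul, one_mul]
        congr 1 }
  have hφ : ∀ q (z : N q), φ q z = σ q z := fun q z => rfl
  refine FlatGr.flat_of_cover N (fun q => d₀ ≤ q.1.2) (fun q hq => hd₀ _ hq U hU) φ ?_ ?_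
  · intro l x
    have hx : ∀ j, ∃ (k i : ℕ) (m : 𝒮.presheaf.obj (op U)) (_ : m ∈ 𝒮.deg U hU i), (i : ℤ) = k * e + n ∧
        ∀ (y : Proj (𝒮.deg U hU)) (hy : (RelProj.emb p chart U hU).base y ∈ TT p chart hU f),
          cv lam hU (x j) y hy = Localization.mk m ⟨f ^ k, pow_nin hU f k y hy⟩ := fun j =>
      exists_frac hU hf he (x j)
    choose k i m hm hi hval using hx
    set K := Finset.univ.sup k + d₀ + n.natAbs with hK
    have hkK : ∀ j, k j ≤ K := fun j => by
      have := Finset.le_sup (f := k) (Finset.mem_univ j)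
      omega
    have hKe : (K : ℤ) ≤ K * e := by
      have : (1 : ℤ) ≤ e := by exact_mod_cast he
      nlinarith [Int.natCast_nonneg K]
    have hnn : (0 : ℤ) ≤ K * e + n := by
      have h1 : -(n.natAbs : ℤ) ≤ n := by
        rw [← Int.abs_eq_natAbs]; exact neg_abs_le n
      have h2 : (K : ℤ) = (Finset.univ.sup k : ℕ) + d₀ + n.natAbs := by rw [hK]; push_cast; ring
      have h3 : (0 : ℤ) ≤ (Finset.univ.sup k : ℕ) := Int.natCast_nonneg _
      have h4 : (0 : ℤ) ≤ (d₀ : ℕ) := Int.natCast_nonneg _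
      linarith
    set I := (K * e + n).toNat with hI
    have hIe : (I : ℤ) = K * e + n := Int.toNat_of_nonneg hnn
    have hgood : d₀ ≤ I := by
      have h1 : -(n.natAbs : ℤ) ≤ n := by
        rw [← Int.abs_eq_natAbs]; exact neg_abs_le n
      have h2 : (K : ℤ) = (Finset.univ.sup k : ℕ) + d₀ + n.natAbs := by rw [hK]; push_cast; ring
      have h3 : (0 : ℤ) ≤ (Finset.univ.sup k : ℕ) := Int.natCast_nonneg _
      have : (d₀ : ℤ) ≤ I := by rw [hIe]; linarith
      exact_mod_cast this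
    let q : κ := ⟨(K, I), hIe⟩
    have hb : ∀ j, f ^ (K - k j) * m j ∈ 𝒮.deg U hU I := fun j => by
      refine FlatGr.pow_mul_mem (𝒮.deg U hU) hf (hm j) ?_
      have h5 := hi j
      have h6 := hkK j
      have : (((K - k j) • e + i j : ℕ) : ℤ) = I := by
        rw [hIe]; push_cast [Nat.cast_sub h6]; rw [smul_eq_mul]; push_cast [Nat.cast_sub h6]; linarith
      exact_mod_cast this
    refine ⟨q, hgood, fun j => ⟨f ^ (K - k j) * m j, Submodule.subset_span (hb j)⟩, fun j => ?_⟩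
    rw [hφ]
    refine ext_cv hL hU (TT_le hU f) _ _ fun y hy => ?_
    rw [hσ, hval j y hy]
    have h2 : k j + (K - k j) = K := by have := hkK j; omega
    exact mk_pow_mul_eq hU y (k j) (K - k j) K h2 (m j) _ _
  · intro q hq z hz
    rw [hφ] at hz
    have hloc : ∀ x : ProjectiveSpectrum (𝒮.deg U hU), f ∉ x.asHomogeneousIdeal →
        (LocalizedModule.mk (z : 𝒮.presheaf.obj (op U)) 1 :
          LocalizedModule x.asHomogeneousIdeal.toIdeal.primeCompl (𝒮.presheaf.obj (op U))) = 0 := by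
      intro x hx
      have hxT : (RelProj.emb p chart U hU).base x ∈ TT p chart hU f := ⟨x, hx, rfl⟩
      have h1 := hσ q z x hxT
      rw [hz, cv_zero] at h1
      have h2 : (Localization.mk (z : 𝒮.presheaf.obj (op U)) ⟨f ^ q.1.1, pow_nin hU f q.1.1 x hxT⟩ :
          Localization.AtPrime x.asHomogeneousIdeal.toIdeal) = Localization.mk 0 1 := by
        rw [← h1, Localization.mk_zero]
      rw [Localization.mk_eq_mk_iff, Localization.r_iff_exists] at h2
      obtain ⟨c, hc⟩ := h2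
      simp only [OneMemClass.coe_one, one_mul, mul_zero] at hc
      rw [← LocalizedModule.zero_mk (1 : x.asHomogeneousIdeal.toIdeal.primeCompl), LocalizedModule.mk_eq]
      refine ⟨c, ?_⟩
      simp only [smul_zero, one_smul]
      exact hc
    obtain ⟨j, hj⟩ := GrSect.pow_smul_eq_zero (𝒮.deg U hU) (𝒮.deg U hU) he hf
      (z : 𝒮.presheaf.obj (op U)) (hmem q z) hloc
    have hj' : f ^ j * (z : 𝒮.presheaf.obj (op U)) = 0 := hj
    have hq' : ((q.1.2 + j • e : ℕ) : ℤ) = ((q.1.1 + j : ℕ) : ℤ) * e + n := by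
      have := q.2
      push_cast; rw [smul_eq_mul]; push_cast; linarith
    let q' : κ := ⟨(q.1.1 + j, q.1.2 + j • e), hq'⟩
    have hτmem : ∀ w : N q, f ^ j * (w : 𝒮.presheaf.obj (op U)) ∈ 𝒮.deg U hU (q.1.2 + j • e) := fun w =>
      FlatGr.pow_mul_mem (𝒮.deg U hU) hf (hmem q w) (add_comm _ _)
    refine ⟨q', le_trans hq (Nat.le_add_right _ _), ?_⟩
    refine ⟨{ toFun := fun w => ⟨f ^ j * (w : 𝒮.presheaf.obj (op U)), Submodule.subset_span (hτmem w)⟩
              map_add' := fun a b => Subtype.ext (mul_add _ _ _)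
              map_smul' := fun r a => Subtype.ext (mul_smul_comm _ _ _) }, fun w => ?_, ?_⟩
    · rw [hφ, hφ]
      refine ext_cv hL hU (TT_le hU f) _ _ fun y hy => ?_
      rw [hσ, hσ]
      exact mk_pow_mul_eq hU y q.1.1 j _ rfl w.1 _ _
    · exact Subtype.ext hj'

include hL in
theorem isQuasicoherent_of_isRelTwist : L.IsQuasicoherent := by
  haveI : ∀ i : Y.affineOpens, (GrTwist.twist (𝒮.deg i.1 i.2) n).IsQuasicoherent :=
    fun i => GrTwistQC.isQuasicoherent_twist (𝒮.deg i.1 i.2) n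
  exact QCohLoc.isQuasicoherent_of_charts L (fun i : Y.affineOpens => Proj (𝒮.deg i.1 i.2))
    (fun i => RelProj.emb p chart i.1 i.2) (fun i => GrTwist.twist (𝒮.deg i.1 i.2) n)
    (fun i => lam i.1 i.2)
    (fun i W hW => hL.bijective i.1 i.2 W (hW.trans (RelProjQC.opensRange_emb p chart i.1 i.2).le))
    (RelProjQC.exists_mem_opensRange_emb p chart)

include hP hL in
/-- **`O_P(n)` is flat over the base when the graded pieces are eventually flat** -/
theorem isFlatOver (hflat : EvFlat 𝒮) : FlatMod.IsFlatOver p L := by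
  intro x
  haveI : L.IsQuasicoherent := isQuasicoherent_of_isRelTwist hL
  obtain ⟨V, z, hz⟩ := RelProjQC.exists_mem_opensRange_emb p chart x
  obtain ⟨d, g, hd, hg, hzg, -⟩ := Groth.Agent.Lib.Helper28.RLPsi.exists_pos_basicOpen_le (𝒮.deg V.1 V.2) ⊤ z trivial
  have hT : IsAffineOpen (TT p chart V.2 g) :=
    (Proj.isAffineOpen_basicOpen (𝒮.deg V.1 V.2) g hg hd).image_of_isOpenImmersion _
  exact (Groth.Agent.Lib.Helper17.FlatDict.flat_sections_iff p L hT V.2 (TT_le V.2 g)).1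
    (flat_sections hP hL V.2 hg hd hflat) x ⟨z, hzg, hz⟩

end Groth.Agent.Lib.Helper28.RelProjFlat
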