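import Groth.Agent.Lib.Helper28.FinGG
import Groth.Agent.Lib.Helper28.FTApprox6
import Groth.Agent.Lib.Helper28.CounitSerre
import Groth.Agent.Lib.Helper28.RestrictGen
import Groth.Agent.Lib.Helper28.PullbackInv
import Groth.Agent.S5721

/-!
# The relative form of Serre's theorem for a relatively very ample module

For `g : Y ⟶ Z` quasi-compact with `Z` quasi-compact quasi-separated, `K` very ample relative to `g` and `E`
quasi-coherent of finite type on `Y`: for all large `m`, `E ⊗ K^m` is a quotient of `g^* F` for some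
quasi-coherent `F` of finite type on `Z`.
-/

set_option autoImplicit false
universe u
open CategoryTheory CategoryTheory.Limits AlgebraicGeometry Opposite TopologicalSpace
noncomputable section

namespace Groth.Agent.Lib.Helper28.RelSerre

open Groth.Agent.Lib.Helper28 Groth.Agent.Lib.Helper28.QCohLoc Groth.Agent.Lib.Helper28.GenLocus
  Groth.Agent.Lib.Helper28.TensorGen Groth.Agent.Lib.Helper28.FTApprox Groth.Agent.Lib.Helper28.PullbackInv

section twist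

variable {X : Scheme.{u}}

/-- a section of the restriction, as a section of the module -/
abbrev toM (M : X.Modules) (U : X.Opens) (V : (↑U : Scheme.{u}).Opens) (z : Γ(M.restrict U.ι, V)) :
    Γ(M, U.ι ''ᵁ V) := z

/-- spans over the sections of an open subscheme -/
theorem mem_span_of_mem_span_restrict (M : X.Modules) (U : X.Opens) (V : (↑U : Scheme.{u}).Opens)
    (S : Set Γ(M, U.ι ''ᵁ V)) (z : Γ(M, U.ι ''ᵁ V))
    (hz : (show Γ(M.restrict U.ι, V) from z) ∈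
      Submodule.span Γ((↑U : Scheme.{u}), V) (show Set Γ(M.restrict U.ι, V) from S)) :
    z ∈ Submodule.span Γ(X, U.ι ''ᵁ V) S := by
  refine Submodule.span_induction (p := fun (w : Γ(M.restrict U.ι, V)) _ =>
    (show Γ(M, U.ι ''ᵁ V) from w) ∈ Submodule.span Γ(X, U.ι ''ᵁ V) S) ?_ ?_ ?_ ?_ hz
  · intro w hw
    exact Submodule.subset_span hw
  · exact Submodule.zero_mem _
  · intro a b _ _ ha hb
    exact Submodule.add_mem _ ha hb
  · intro c a _ ha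
    show ((U.ι.appIso V).inv c • (show Γ(M, U.ι ''ᵁ V) from a) : Γ(M, U.ι ''ᵁ V)) ∈ _
    exact Submodule.smul_mem _ _ ha

end twist

section epi

variable {Y Z : Scheme.{u}}

/-- **from local generation by sections over preimages of affine opens to a quotient of a pullback** -/
theorem exists_epi_pullback_of_local_gen [CompactSpace Z] [QuasiSeparatedSpace Z]
    (g : Y ⟶ Z) [QuasiCompact g] [QuasiSeparated g] (M : Y.Modules) [M.IsQuasicoherent]
    {K : Type u} [Finite K] (U : K → Z.Opens) (hU : ∀ k, IsAffineOpen (U k))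
    (T : ∀ k, Finset Γ(M, g ⁻¹ᵁ U k))
    (hT : ∀ x : Y, ∃ k, ∀ (W : Y.Opens) (y : Γ(M, W)), x ∈ W →
      ∃ (V : Y.Opens) (hVW : V ≤ W) (hVU : V ≤ g ⁻¹ᵁ U k), x ∈ V ∧
        res M hVW y ∈ Submodule.span Γ(Y, V) ((fun t => res M hVU t) '' (T k : Set Γ(M, g ⁻¹ᵁ U k)))) :
    ∃ (F : Z.Modules) (φ : (Scheme.Modules.pullback g).obj F ⟶ M), F.IsQuasicoherent ∧
      SheafOfModules.IsFiniteType.{u} (R := Z.ringCatSheaf) F ∧ Epi φ := by
  classical
  have hG : ((Scheme.Modules.pushforward g).obj M).IsQuasicoherent := isQuasicoherent_pushforward g M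
  obtain ⟨F, ι, -, hFq, hFt, hmem⟩ := exists_ft_sub_family ((Scheme.Modules.pushforward g).obj M) U hU
    (fun k => (show Finset Γ((Scheme.Modules.pushforward g).obj M, U k) from T k))
  let φ : (Scheme.Modules.pullback g).obj F ⟶ M :=
    ((Scheme.Modules.pullbackPushforwardAdjunction g).homEquiv F M).symm ι
  have hψ : ∀ (V : Z.Opens) (e : Γ(F, V)),
      (show Γ(M, g ⁻¹ᵁ V) from ι.app V e) = φ.app (g ⁻¹ᵁ V) (pbs g F V e) := by
    intro V e
    have h : ι = (Scheme.Modules.pullbackPushforwardAdjunction g).unit.app F ≫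
        (Scheme.Modules.pushforward g).map φ := by
      rw [← (Scheme.Modules.pullbackPushforwardAdjunction g).homEquiv_unit F M φ]
      exact (Equiv.apply_symm_apply _ _).symm
    show ι.app V e = _
    rw [h]
    rfl
  refine ⟨F, φ, hFq, hFt, ?_⟩
  apply epi_of_locally_in_range
  intro W y pt hpt
  obtain ⟨k, hk⟩ := hT pt
  obtain ⟨V, hVW, hVU, hptV, hspan⟩ := hk W y hpt
  refine ⟨V, hVW, hptV, ?_⟩
  refine Submodule.span_induction
    (p := fun z _ => ∃ y' : Γ((Scheme.Modules.pullback g).obj F, V), φ.app V y' = z) ?_ ?_ ?_ ?_ hspan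
  · rintro _ ⟨t, ht, rfl⟩
    obtain ⟨e, he⟩ := hmem k t ht
    refine ⟨res _ hVU (pbs g F (U k) e), ?_⟩
    rw [app_res, ← hψ, he]
  · exact ⟨0, map_zero _⟩
  · rintro z z' _ _ ⟨a, rfl⟩ ⟨a', rfl⟩
    exact ⟨a + a', map_add _ _ _⟩
  · rintro c z _ ⟨a, rfl⟩
    exact ⟨(c • a : Γ((Scheme.Modules.pullback g).obj F, V)), Scheme.Modules.Hom.app_smul _ _ _⟩

end epi

section main

variable {Y Z : Scheme.{u}}

/-- **the relative Serre theorem for a relatively very ample module, in quotient form** -/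
theorem exists_forall_epi [CompactSpace Z] [QuasiSeparatedSpace Z] (g : Y ⟶ Z) [QuasiCompact g]
    (K : Y.Modules) (hK : PicF.IsInvertible K) (hKva : RelProj.IsRelVeryAmple g K)
    (E : Y.Modules) [E.IsQuasicoherent] [SheafOfModules.IsFiniteType.{u} (R := Y.ringCatSheaf) E] :
    ∃ m₀ : ℕ, ∀ m : ℕ, m₀ ≤ m →
      ∃ (F : Z.Modules) (φ : (Scheme.Modules.pullback g).obj F ⟶ CohB1.tensorMod E (CohB1.tensorPow K m)),
        F.IsQuasicoherent ∧ SheafOfModules.IsFiniteType.{u} (R := Z.ringCatSheaf) F ∧ Epi φ := by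
  classical
  have hsep : IsSeparated g := isSeparated_of_isRelVeryAmple g hKva
  have hamp := Groth.Agent.S5721.result g K hK hKva
  -- a finite affine cover of `Z`
  have hcovZ : ∀ z : Z, ∃ V : Z.affineOpens, z ∈ V.1 := by
    intro z
    obtain ⟨V, hV, hzV, -⟩ := Z.isBasis_affineOpens.exists_subset_of_mem_open (Set.mem_univ z) isOpen_univ
    obtain ⟨V', hV', rfl⟩ := hV
    exact ⟨⟨V', hV'⟩, hzV⟩
  obtain ⟨t, ht⟩ := isCompact_univ.elim_finite_subcover (fun V : Z.affineOpens => ((V.1 : Z.Opens) : Set Z))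
    (fun V => V.1.isOpen) (fun z _ => Set.mem_iUnion.2 (hcovZ z))
  have htmem : ∀ z : Z, ∃ V ∈ t, z ∈ V.1 := by
    intro z
    have := ht (Set.mem_univ z)
    simp only [Set.mem_iUnion] at this
    obtain ⟨V, hVt, hzV⟩ := this
    exact ⟨V, hVt, hzV⟩
  have hqsV : ∀ V : Z.affineOpens, QuasiSeparatedSpace ((↑(g ⁻¹ᵁ V.1) : Scheme.{u})) := by
    intro V
    have : (↑(g ⁻¹ᵁ V.1) : Scheme.{u}).IsSeparated := isSeparated_of_isAmple (hamp.2 V)
    infer_instance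
  have hcV : ∀ V : Z.affineOpens, CompactSpace ((↑(g ⁻¹ᵁ V.1) : Scheme.{u})) := fun V =>
    isCompact_iff_compactSpace.mp (QuasiCompact.isCompact_preimage (f := g) _ V.1.isOpen V.2.isCompact)
  have hS : ∀ V : Z.affineOpens, ∃ n₀ : ℕ, ∀ n : ℕ, n₀ ≤ n → ∀ x : (↑(g ⁻¹ᵁ V.1) : Scheme.{u}),
      GGAt (CohB1.tensorMod (E.restrict (g ⁻¹ᵁ V.1).ι) (CohB1.tensorPow (K.restrict (g ⁻¹ᵁ V.1).ι) n)) x := by
    intro V
    have := hqsV V
    have hFU : Coh.IsCoh (E.restrict (g ⁻¹ᵁ V.1).ι) :=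
      ⟨(inferInstance : ((Scheme.Modules.restrictFunctor (g ⁻¹ᵁ V.1).ι).obj E).IsQuasicoherent),
        CounitSerre.isFiniteType_restrict E (g ⁻¹ᵁ V.1)⟩
    exact exists_forall_ggAt (hamp.2 V) _ hFU
  choose n₀ hn₀ using hS
  refine ⟨t.sup n₀, fun m hm => ?_⟩
  have tw2 := (IsTwist.refl E K).tensorPow m
  have hMq : (CohB1.tensorMod E (CohB1.tensorPow K m)).IsQuasicoherent := tw2.isQuasicoherent hK
  have hMf : SheafOfModules.IsFiniteType.{u} (R := Y.ringCatSheaf) (CohB1.tensorMod E (CohB1.tensorPow K m)) :=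
    tw2.isFiniteType hK
  -- generating sections over each member of the cover
  have hgen : ∀ V : Z.affineOpens, V ∈ t → ∃ S : Finset Γ((CohB1.tensorMod E (CohB1.tensorPow K m)).restrict
      (g ⁻¹ᵁ V.1).ι, ⊤), ∀ x : (↑(g ⁻¹ᵁ V.1) : Scheme.{u}),
        FamGenAt ((CohB1.tensorMod E (CohB1.tensorPow K m)).restrict (g ⁻¹ᵁ V.1).ι) (fun T : S => T.1) x := by
    intro V hVt
    have hnV : n₀ V ≤ m := (Finset.le_sup (f := n₀) hVt).trans hm
    have hLU : PicF.IsInvertible (K.restrict (g ⁻¹ᵁ V.1).ι) := (hamp.2 V).1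
    have twU := CounitSerre.isTwist_restrict tw2 (g ⁻¹ᵁ V.1)
    have tw3 := (IsTwist.refl (E.restrict (g ⁻¹ᵁ V.1).ι) (K.restrict (g ⁻¹ᵁ V.1).ι)).tensorPow m
    obtain ⟨ψ, -⟩ := tw3.exists_iso twU hLU
    have := hcV V
    have : ((CohB1.tensorMod E (CohB1.tensorPow K m)).restrict (g ⁻¹ᵁ V.1).ι).IsQuasicoherent :=
      (inferInstance : ((Scheme.Modules.restrictFunctor (g ⁻¹ᵁ V.1).ι).obj
        (CohB1.tensorMod E (CohB1.tensorPow K m))).IsQuasicoherent)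
    have := CounitSerre.isFiniteType_restrict (CohB1.tensorMod E (CohB1.tensorPow K m)) (g ⁻¹ᵁ V.1)
    exact exists_finset_famGenAt _ (fun x => (hn₀ V m hnV x).of_iso ψ)
  have htop : ∀ V : Z.affineOpens, g ⁻¹ᵁ V.1 ≤ (g ⁻¹ᵁ V.1).ι ''ᵁ ⊤ := by
    intro V p hp
    exact ⟨⟨p, hp⟩, trivial, rfl⟩
  let S : ∀ V : {V : Z.affineOpens // V ∈ t}, Finset Γ((CohB1.tensorMod E (CohB1.tensorPow K m)).restrict
      (g ⁻¹ᵁ V.1.1).ι, ⊤) := fun V => (hgen V.1 V.2).choose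
  have hSgen : ∀ (V : {V : Z.affineOpens // V ∈ t}) (x : (↑(g ⁻¹ᵁ V.1.1) : Scheme.{u})),
      FamGenAt ((CohB1.tensorMod E (CohB1.tensorPow K m)).restrict (g ⁻¹ᵁ V.1.1).ι) (fun T : S V => T.1) x :=
    fun V => (hgen V.1 V.2).choose_spec
  refine exists_epi_pullback_of_local_gen g (CohB1.tensorMod E (CohB1.tensorPow K m))
    (K := {V : Z.affineOpens // V ∈ t}) (fun V => V.1.1) (fun V => V.1.2)
    (fun V => (S V).image (fun s => res (CohB1.tensorMod E (CohB1.tensorPow K m)) (htop V.1)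
      (toM (CohB1.tensorMod E (CohB1.tensorPow K m)) (g ⁻¹ᵁ V.1.1) ⊤ s))) ?_
  intro x
  obtain ⟨V, hVt, hxV⟩ := htmem (g x)
  refine ⟨⟨V, hVt⟩, fun W y hxW => ?_⟩
  obtain ⟨M, hM⟩ : ∃ M : Y.Modules, M = CohB1.tensorMod E (CohB1.tensorPow K m) := ⟨_, rfl⟩
  have hle : (g ⁻¹ᵁ V.1).ι ''ᵁ ((g ⁻¹ᵁ V.1).ι ⁻¹ᵁ W) ≤ W := by
    rintro _ ⟨p, hp, rfl⟩
    exact hp
  obtain ⟨y', hy'⟩ : ∃ y' : Γ((CohB1.tensorMod E (CohB1.tensorPow K m)).restrict (g ⁻¹ᵁ V.1).ι,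
      (g ⁻¹ᵁ V.1).ι ⁻¹ᵁ W), y' = res (CohB1.tensorMod E (CohB1.tensorPow K m)) hle y := ⟨_, rfl⟩
  obtain ⟨V', hV', hxV', hmem⟩ := hSgen ⟨V, hVt⟩ ⟨x, hxV⟩ ((g ⁻¹ᵁ V.1).ι ⁻¹ᵁ W) y' hxW
  have hVW : (g ⁻¹ᵁ V.1).ι ''ᵁ V' ≤ W := ((g ⁻¹ᵁ V.1).ι.image_mono hV').trans hle
  have hVU : (g ⁻¹ᵁ V.1).ι ''ᵁ V' ≤ g ⁻¹ᵁ V.1 := InvGen.image_le _ _
  refine ⟨(g ⁻¹ᵁ V.1).ι ''ᵁ V', hVW, hVU, ⟨⟨x, hxV⟩, hxV', rfl⟩, ?_⟩
  have h2 : res (CohB1.tensorMod E (CohB1.tensorPow K m)) ((g ⁻¹ᵁ V.1).ι.image_mono hV')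
      (res (CohB1.tensorMod E (CohB1.tensorPow K m)) hle y) =
      res (CohB1.tensorMod E (CohB1.tensorPow K m)) hVW y := res_res _ _ _ _
  have h1 : res (CohB1.tensorMod E (CohB1.tensorPow K m)) hVW y ∈
      Submodule.span Γ(Y, (g ⁻¹ᵁ V.1).ι ''ᵁ V')
        (Set.range fun T : S ⟨V, hVt⟩ => res (CohB1.tensorMod E (CohB1.tensorPow K m))
          ((g ⁻¹ᵁ V.1).ι.image_mono (le_top : V' ≤ ⊤))
          (toM (CohB1.tensorMod E (CohB1.tensorPow K m)) (g ⁻¹ᵁ V.1) ⊤ T.1)) := by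
    rw [← h2, ← hy']
    exact mem_span_of_mem_span_restrict (CohB1.tensorMod E (CohB1.tensorPow K m)) (g ⁻¹ᵁ V.1) V' _ _ hmem
  refine Submodule.span_mono ?_ h1
  rintro _ ⟨T, rfl⟩
  refine ⟨res (CohB1.tensorMod E (CohB1.tensorPow K m)) (htop V)
    (toM (CohB1.tensorMod E (CohB1.tensorPow K m)) (g ⁻¹ᵁ V.1) ⊤ T.1), ?_, ?_⟩
  · exact Finset.mem_coe.2 (Finset.mem_image.2 ⟨T.1, T.2, rfl⟩)
  · exact res_res _ _ _ _

end main

end Groth.Agent.Lib.Helper28.RelSerre
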