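import Groth.Prelude.Def_GrTwist
import Groth.Agent.Lib.Helper28.ProjLoc

/-!
# Algebra of the comparison maps `GrTwist.locMap` along a degree-zero localization

For a graded homomorphism `φ : 𝒜 → ℬ` which is the localization at an element `c` of degree zero
(hypotheses `h1 h2 h3`, as in `ProjLoc`), the maps of localizations `A_x → B_y` are injective and
restrict to bijections between the degree-`n` fractions.
-/

set_option autoImplicit false
universe u
open CategoryTheory AlgebraicGeometry Opposite TopologicalSpace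
open scoped HomogeneousIdeal
noncomputable section

namespace Groth.Agent.Lib.Helper28.RelTwistAlg

section single

variable {A σ : Type u} [CommRing A] [SetLike σ A] [AddSubgroupClass σ A] {𝒜 : ℕ → σ} [GradedRing 𝒜]

/-- every degree-`n` fraction at `x` is a single homogeneous fraction -/
theorem exists_frac_of_mem_twistAt (n : ℤ) (x : ProjectiveSpectrum 𝒜) {q : GrTwist.Loc 𝒜 x}
    (hq : q ∈ GrTwist.twistAt 𝒜 n x) :
    ∃ (i j : ℕ) (a : 𝒜 i) (s : 𝒜 j) (hs : (s : A) ∉ x.asHomogeneousIdeal),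
      ((i : ℤ) = j + n ∨ (a : A) = 0) ∧ q = Localization.mk (a : A) ⟨s, hs⟩ := by
  have h1mem : (1 : A) ∉ x.asHomogeneousIdeal := fun h =>
    x.isPrime.ne_top ((Ideal.eq_top_iff_one _).mpr h)
  induction hq using Submodule.span_induction with
  | mem q h =>
    obtain ⟨i, j, a, s, hs, hij, rfl⟩ := h
    exact ⟨i, j, a, s, hs, Or.inl hij, rfl⟩
  | zero =>
    refine ⟨0, 0, 0, ⟨1, SetLike.GradedOne.one_mem⟩, h1mem, Or.inr rfl, ?_⟩
    simp [Localization.mk_zero]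
  | add q q' _ _ h h' =>
    obtain ⟨i, j, a, s, hs, hij, rfl⟩ := h
    obtain ⟨i', j', a', s', hs', hij', rfl⟩ := h'
    rcases hij with hij | ha
    · rcases hij' with hij' | ha'
      · have hdeg : i + j' = i' + j := by omega
        refine ⟨i + j', j + j', ⟨(a : A) * s' + a' * s, ?_⟩, ⟨(s : A) * s', SetLike.mul_mem_graded s.2 s'.2⟩,
          ?_, Or.inl (by push_cast; omega), ?_⟩
        · refine add_mem (SetLike.mul_mem_graded a.2 s'.2) ?_
          rw [hdeg]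
          exact SetLike.mul_mem_graded a'.2 s.2
        · intro hmem
          rcases x.isPrime.mem_or_mem hmem with h | h
          · exact hs h
          · exact hs' h
        · rw [Localization.add_mk]
          rw [Localization.mk_eq_mk_iff, Localization.r_iff_exists]
          exact ⟨1, by simp; ring⟩
      · refine ⟨i, j, a, s, hs, Or.inl hij, ?_⟩
        rw [ha', Localization.mk_zero, add_zero]
    · refine ⟨i', j', a', s', hs', hij', ?_⟩
      rw [ha, Localization.mk_zero, zero_add]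
  | smul c q _ h =>
    obtain ⟨i, j, a, s, hs, hij, rfl⟩ := h
    rw [Algebra.smul_def, HomogeneousLocalization.algebraMap_apply, HomogeneousLocalization.eq_num_div_den,
      Localization.mk_mul]
    refine ⟨c.deg + i, c.deg + j, ⟨c.num * a, SetLike.mul_mem_graded c.num_mem_deg a.2⟩,
      ⟨c.den * s, SetLike.mul_mem_graded c.den_mem_deg s.2⟩, ?_, ?_, rfl⟩
    · intro hmem
      rcases x.isPrime.mem_or_mem hmem with h | h
      · exact c.den_mem h
      · exact hs h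
    · rcases hij with hij | ha
      · exact Or.inl (by push_cast; omega)
      · exact Or.inr (by simp [ha])

/-- unpacking the local-fraction condition of a section of `O(n)` -/
theorem exists_frac_of_sectN (n : ℤ) (V : Opens (ProjectiveSpectrum.top 𝒜))
    (t : GrTwist.sectN (𝒜 := 𝒜) n (op V)) (x : V) :
    ∃ (N : Opens (ProjectiveSpectrum.top 𝒜)) (_ : x.1 ∈ N) (hN : N ≤ V) (i j : ℕ) (a : 𝒜 i) (s : 𝒜 j)
      (s_nin : ∀ y : N, (s : A) ∉ y.1.asHomogeneousIdeal),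
      ((i : ℤ) = j + n ∨ (a : A) = 0) ∧
      ∀ y : N, ((t.1 ⟨y.1, hN y.2⟩ : GrTwist.twistAt 𝒜 n y.1) : GrTwist.Loc 𝒜 y.1) =
        Localization.mk (a : A) ⟨s, s_nin y⟩ := by
  obtain ⟨N, hxN, iN, i, j, a, s, s_nin, hij, hfrac⟩ := t.2 x
  exact ⟨N, hxN, iN.le, i, j, a, s, s_nin, hij, fun y => hfrac y⟩

/-- packing the local-fraction condition -/
theorem pred_of_forall_exists (n : ℤ) (V : Opens (ProjectiveSpectrum.top 𝒜))
    (g : ∀ x : V, GrTwist.twistAt 𝒜 n x.1)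
    (h : ∀ x : V, ∃ (N : Opens (ProjectiveSpectrum.top 𝒜)) (_ : x.1 ∈ N) (hN : N ≤ V) (i j : ℕ) (a : 𝒜 i)
      (s : 𝒜 j) (s_nin : ∀ y : N, (s : A) ∉ y.1.asHomogeneousIdeal),
      ((i : ℤ) = j + n ∨ (a : A) = 0) ∧
      ∀ y : N, ((g ⟨y.1, hN y.2⟩ : GrTwist.twistAt 𝒜 n y.1) : GrTwist.Loc 𝒜 y.1) =
        Localization.mk (a : A) ⟨s, s_nin y⟩) :
    (GrTwist.isLocFracN 𝒜 n).pred g := by
  intro x
  obtain ⟨N, hxN, hN, i, j, a, s, s_nin, hij, hfrac⟩ := h x
  exact ⟨N, hxN, homOfLE hN, i, j, a, s, s_nin, hij, fun y => hfrac y⟩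

end single

section loc

variable {A B : Type u} [CommRing A] [CommRing B] {σ τ : Type u} [SetLike σ A] [AddSubgroupClass σ A]
  [SetLike τ B] [AddSubgroupClass τ B] {𝒜 : ℕ → σ} {ℬ : ℕ → τ}
  [GradedRing 𝒜] [GradedRing ℬ] (φ : 𝒜 →+*ᵍ ℬ) (hφ : ℬ₊ ≤ (𝒜₊).map φ)
  (c : A) (hc : c ∈ 𝒜 0) (h1 : IsUnit (φ c))
  (h2 : ∀ b : B, ∃ (a : A) (k : ℕ), b * φ c ^ k = φ a)
  (h3 : ∀ a : A, φ a = 0 → ∃ k : ℕ, c ^ k * a = 0)

include hc h2 in
/-- homogeneous elements lift, up to a power of the inverted element, to homogeneous elements of the same degree -/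
theorem exists_homogeneous_lift {i : ℕ} {b : B} (hb : b ∈ ℬ i) :
    ∃ (a : A) (_ : a ∈ 𝒜 i) (k : ℕ), b * φ c ^ k = φ a := by
  classical
  obtain ⟨a, k, hak⟩ := h2 b
  have hck : φ c ^ k ∈ ℬ 0 := by
    have := SetLike.pow_mem_graded k (φ.map_mem hc)
    simpa using this
  have hbk : b * φ c ^ k ∈ ℬ i := by
    have := SetLike.mul_mem_graded hb hck
    simpa using this
  refine ⟨(DirectSum.decompose 𝒜 a i : A), SetLike.coe_mem _, k, ?_⟩
  rw [GradedRingHom.map_directSumDecompose, ← hak, DirectSum.decompose_of_mem_same _ hbk]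

include hc in
theorem pow_mul_mem {i : ℕ} {a : A} (ha : a ∈ 𝒜 i) (k : ℕ) : a * c ^ k ∈ 𝒜 i := by
  have hck : c ^ k ∈ 𝒜 0 := by
    have := SetLike.pow_mem_graded k hc
    simpa using this
  have := SetLike.mul_mem_graded ha hck
  simpa using this

omit [AddSubgroupClass σ A] [GradedRing 𝒜] in
include h1 in
theorem unit_not_mem (y : ProjectiveSpectrum ℬ) (k : ℕ) : φ c ^ k ∉ y.asHomogeneousIdeal := by
  intro h
  exact y.isPrime.ne_top (Ideal.eq_top_of_isUnit_mem _ h (h1.pow k))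

omit [AddSubgroupClass σ A] [GradedRing 𝒜] in
include h1 in
theorem mul_unit_not_mem (y : ProjectiveSpectrum ℬ) {t : B} (ht : t ∉ y.asHomogeneousIdeal) (k : ℕ) :
    t * φ c ^ k ∉ y.asHomogeneousIdeal := by
  intro h
  rcases y.isPrime.mem_or_mem h with h | h
  · exact ht h
  · exact unit_not_mem φ c h1 y k h

include h1 h2 h3 in
/-- the comparison of localizations along a degree-zero localization is injective -/
theorem locMap_injective (y : ProjectiveSpectrum ℬ) : Function.Injective (GrTwist.locMap φ hφ y) := by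
  rw [injective_iff_map_eq_zero]
  intro q hq
  induction q using Localization.induction_on with
  | H as =>
    obtain ⟨a, s⟩ := as
    rw [GrTwist.locMap_mk, Localization.mk_eq_mk', IsLocalization.mk'_eq_zero_iff] at hq
    obtain ⟨⟨t, ht⟩, htq⟩ := hq
    change t * φ a = 0 at htq
    obtain ⟨t', k, htk⟩ := h2 t
    have h0 : φ (t' * a) = 0 := by
      rw [map_mul, ← htk]
      calc t * φ c ^ k * φ a = φ c ^ k * (t * φ a) := by ring
        _ = 0 := by rw [htq, mul_zero]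
    obtain ⟨l, hl⟩ := h3 _ h0
    have hmem : c ^ l * t' ∈ (ProjectiveSpectrum.comap φ hφ y).asHomogeneousIdeal.toIdeal.primeCompl := by
      change φ (c ^ l * t') ∉ y.asHomogeneousIdeal
      rw [map_mul, ← htk, map_pow]
      intro h
      rcases y.isPrime.mem_or_mem h with h | h
      · exact unit_not_mem φ c h1 y l h
      · exact mul_unit_not_mem φ c h1 y ht k h
    rw [Localization.mk_eq_mk', IsLocalization.mk'_eq_zero_iff]
    exact ⟨⟨_, hmem⟩, by change c ^ l * t' * a = 0; rw [mul_assoc]; exact hl⟩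

include hc h1 h2 in
/-- a single homogeneous fraction over `ℬ` is the image of one over `𝒜` -/
theorem exists_locMap_mk_eq (y : ProjectiveSpectrum ℬ) {i j : ℕ} {b t : B} (hb : b ∈ ℬ i) (ht : t ∈ ℬ j)
    (hty : t ∉ y.asHomogeneousIdeal) :
    ∃ (a : 𝒜 i) (s : 𝒜 j) (hs : (s : A) ∉ (ProjectiveSpectrum.comap φ hφ y).asHomogeneousIdeal),
      GrTwist.locMap φ hφ y (Localization.mk (a : A) ⟨s, hs⟩) = Localization.mk b ⟨t, hty⟩ := by
  obtain ⟨a, ha, k, hak⟩ := exists_homogeneous_lift φ c hc h2 hb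
  obtain ⟨s, hs, l, hsl⟩ := exists_homogeneous_lift φ c hc h2 ht
  have hs' : s * c ^ k ∉ (ProjectiveSpectrum.comap φ hφ y).asHomogeneousIdeal := by
    change φ (s * c ^ k) ∉ y.asHomogeneousIdeal
    rw [map_mul, ← hsl, map_pow, mul_assoc, ← pow_add]
    exact mul_unit_not_mem φ c h1 y hty _
  refine ⟨⟨a * c ^ l, pow_mul_mem c hc ha l⟩, ⟨s * c ^ k, pow_mul_mem c hc hs k⟩, hs', ?_⟩
  rw [GrTwist.locMap_mk, Localization.mk_eq_mk_iff, Localization.r_iff_exists]
  refine ⟨1, ?_⟩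
  simp only [OneMemClass.coe_one, one_mul, map_mul, map_pow]
  rw [← hak, ← hsl]
  ring

include hc h1 h2 in
/-- the comparison maps the degree-`n` fractions onto the degree-`n` fractions -/
theorem exists_locMap_eq_of_mem_twistAt (n : ℤ) (y : ProjectiveSpectrum ℬ) {q : GrTwist.Loc ℬ y}
    (hq : q ∈ GrTwist.twistAt ℬ n y) :
    ∃ q' ∈ GrTwist.twistAt 𝒜 n (ProjectiveSpectrum.comap φ hφ y), GrTwist.locMap φ hφ y q' = q := by
  obtain ⟨i, j, b, t, hty, hij, rfl⟩ := exists_frac_of_mem_twistAt n y hq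
  rcases hij with hij | hb
  · obtain ⟨a, s, hs, h⟩ := exists_locMap_mk_eq φ hφ c hc h1 h2 y b.2 t.2 hty
    exact ⟨_, Submodule.subset_span ⟨i, j, a, s, hs, hij, rfl⟩, h⟩
  · refine ⟨0, zero_mem _, ?_⟩
    rw [map_zero, hb, Localization.mk_zero]

end loc

section primed

variable {A B C : Type u} [CommRing A] [CommRing B] [CommRing C] {σ τ ρ : Type u}
  [SetLike σ A] [AddSubgroupClass σ A] [SetLike τ B] [AddSubgroupClass τ B] [SetLike ρ C] [AddSubgroupClass ρ C]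
  {𝒜 : ℕ → σ} {ℬ : ℕ → τ} {𝒞 : ℕ → ρ} [GradedRing 𝒜] [GradedRing ℬ] [GradedRing 𝒞]

/-- the comparison of localizations `A_x → B_y` for a ring homomorphism `ψ` and points with `x = ψ⁻¹ y`, the
equality of the points being a hypothesis (no transport) -/
def locMap' (ψ : A →+* B) (x : ProjectiveSpectrum 𝒜) (y : ProjectiveSpectrum ℬ)
    (h : x.asHomogeneousIdeal.toIdeal = Ideal.comap ψ y.asHomogeneousIdeal.toIdeal) :
    GrTwist.Loc 𝒜 x →+* GrTwist.Loc ℬ y :=
  Localization.localRingHom _ _ ψ h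

theorem locMap'_mk (ψ : A →+* B) (x : ProjectiveSpectrum 𝒜) (y : ProjectiveSpectrum ℬ)
    (h : x.asHomogeneousIdeal.toIdeal = Ideal.comap ψ y.asHomogeneousIdeal.toIdeal) (a : A)
    (s : x.asHomogeneousIdeal.toIdeal.primeCompl) (hs : ψ (s : A) ∈ y.asHomogeneousIdeal.toIdeal.primeCompl) :
    locMap' ψ x y h (Localization.mk a s) = Localization.mk (ψ a) ⟨ψ (s : A), hs⟩ := by
  rw [Localization.mk_eq_mk', Localization.mk_eq_mk']
  exact Localization.localRingHom_mk' _ _ _ _ a s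

theorem map_mem_primeCompl (ψ : A →+* B) (x : ProjectiveSpectrum 𝒜) (y : ProjectiveSpectrum ℬ)
    (h : x.asHomogeneousIdeal.toIdeal = Ideal.comap ψ y.asHomogeneousIdeal.toIdeal)
    (s : x.asHomogeneousIdeal.toIdeal.primeCompl) : ψ (s : A) ∈ y.asHomogeneousIdeal.toIdeal.primeCompl := by
  intro hm
  apply s.2
  have h0 : (s : A) ∈ Ideal.comap ψ y.asHomogeneousIdeal.toIdeal := hm
  have h1 : ∀ I : Ideal A, I = Ideal.comap ψ y.asHomogeneousIdeal.toIdeal → (s : A) ∈ I := by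
    intro I hI; rw [hI]; exact h0
  exact h1 _ h

theorem locMap'_mk' (ψ : A →+* B) (x : ProjectiveSpectrum 𝒜) (y : ProjectiveSpectrum ℬ)
    (h : x.asHomogeneousIdeal.toIdeal = Ideal.comap ψ y.asHomogeneousIdeal.toIdeal) (a : A)
    (s : x.asHomogeneousIdeal.toIdeal.primeCompl) :
    locMap' ψ x y h (Localization.mk a s) = Localization.mk (ψ a) ⟨ψ (s : A), map_mem_primeCompl ψ x y h s⟩ :=
  locMap'_mk ψ x y h a s _

theorem locMap'_comp (ψ₁ : A →+* B) (ψ₂ : B →+* C) (x : ProjectiveSpectrum 𝒜) (y : ProjectiveSpectrum ℬ)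
    (z : ProjectiveSpectrum 𝒞)
    (h₁ : x.asHomogeneousIdeal.toIdeal = Ideal.comap ψ₁ y.asHomogeneousIdeal.toIdeal)
    (h₂ : y.asHomogeneousIdeal.toIdeal = Ideal.comap ψ₂ z.asHomogeneousIdeal.toIdeal)
    (h₃ : x.asHomogeneousIdeal.toIdeal = Ideal.comap (ψ₂.comp ψ₁) z.asHomogeneousIdeal.toIdeal)
    (q : GrTwist.Loc 𝒜 x) :
    locMap' ψ₂ y z h₂ (locMap' ψ₁ x y h₁ q) = locMap' (ψ₂.comp ψ₁) x z h₃ q := by
  have := Localization.localRingHom_comp (I := x.asHomogeneousIdeal.toIdeal) y.asHomogeneousIdeal.toIdeal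
    z.asHomogeneousIdeal.toIdeal ψ₁ h₁ ψ₂ h₂
  exact (congrArg (fun F => F q) this).symm

theorem locMap'_congr {ψ ψ' : A →+* B} (e : ψ = ψ') (x : ProjectiveSpectrum 𝒜) (y : ProjectiveSpectrum ℬ)
    (h : x.asHomogeneousIdeal.toIdeal = Ideal.comap ψ y.asHomogeneousIdeal.toIdeal)
    (h' : x.asHomogeneousIdeal.toIdeal = Ideal.comap ψ' y.asHomogeneousIdeal.toIdeal) (q : GrTwist.Loc 𝒜 x) :
    locMap' ψ x y h q = locMap' ψ' x y h' q := by
  subst e; rfl

theorem locMap_eq_locMap' (φ : 𝒜 →+*ᵍ ℬ) (hφ : ℬ₊ ≤ (𝒜₊).map φ) (y : ProjectiveSpectrum ℬ)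
    (q : GrTwist.Loc 𝒜 (ProjectiveSpectrum.comap φ hφ y)) :
    GrTwist.locMap φ hφ y q = locMap' φ.toRingHom (ProjectiveSpectrum.comap φ hφ y) y rfl q := rfl

theorem eq_comap (φ : 𝒜 →+*ᵍ ℬ) (hφ : ℬ₊ ≤ (𝒜₊).map φ) (x : ProjectiveSpectrum 𝒜) (y : ProjectiveSpectrum ℬ)
    (h : x.asHomogeneousIdeal.toIdeal = Ideal.comap φ.toRingHom y.asHomogeneousIdeal.toIdeal) :
    x = ProjectiveSpectrum.comap φ hφ y := by
  apply ProjectiveSpectrum.ext
  apply HomogeneousIdeal.ext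
  exact h

variable (φ : 𝒜 →+*ᵍ ℬ) (hφ : ℬ₊ ≤ (𝒜₊).map φ)
  (c : A) (hc : c ∈ 𝒜 0) (h1 : IsUnit (φ c))
  (h2 : ∀ b : B, ∃ (a : A) (k : ℕ), b * φ c ^ k = φ a)
  (h3 : ∀ a : A, φ a = 0 → ∃ k : ℕ, c ^ k * a = 0)

include hφ h1 h2 h3 in
theorem locMap'_injective (x : ProjectiveSpectrum 𝒜) (y : ProjectiveSpectrum ℬ)
    (h : x.asHomogeneousIdeal.toIdeal = Ideal.comap φ.toRingHom y.asHomogeneousIdeal.toIdeal) :
    Function.Injective (locMap' φ.toRingHom x y h) := by
  obtain rfl := eq_comap φ hφ x y h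
  exact locMap_injective φ hφ c h1 h2 h3 y

include hφ in
theorem locMap'_mem (n : ℤ) (x : ProjectiveSpectrum 𝒜) (y : ProjectiveSpectrum ℬ)
    (h : x.asHomogeneousIdeal.toIdeal = Ideal.comap φ.toRingHom y.asHomogeneousIdeal.toIdeal)
    {q : GrTwist.Loc 𝒜 x} (hq : q ∈ GrTwist.twistAt 𝒜 n x) :
    locMap' φ.toRingHom x y h q ∈ GrTwist.twistAt ℬ n y := by
  obtain rfl := eq_comap φ hφ x y h
  exact GrTwist.locMap_mem φ hφ n y hq

include hφ hc h1 h2 in
theorem exists_locMap'_eq (n : ℤ) (x : ProjectiveSpectrum 𝒜) (y : ProjectiveSpectrum ℬ)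
    (h : x.asHomogeneousIdeal.toIdeal = Ideal.comap φ.toRingHom y.asHomogeneousIdeal.toIdeal)
    {q : GrTwist.Loc ℬ y} (hq : q ∈ GrTwist.twistAt ℬ n y) :
    ∃ q' ∈ GrTwist.twistAt 𝒜 n x, locMap' φ.toRingHom x y h q' = q := by
  obtain rfl := eq_comap φ hφ x y h
  exact exists_locMap_eq_of_mem_twistAt φ hφ c hc h1 h2 n y hq

end primed

end Groth.Agent.Lib.Helper28.RelTwistAlg
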