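import Groth.Prelude.Def_RelProj3
import Groth.Agent.Lib.Helper28.RelTwistAlg

/-!
# Algebra of the comparison maps `GrMod.locModMap` along a degree-zero localization

The module analogue of `RelTwistAlg`: for a graded homomorphism `φ : 𝒜 → ℬ` which is the localization at an
element `c` of degree zero and a semilinear degree-preserving map `v : M → N` which is the localization at `c`,
the maps of localized modules `M_x → N_y` are injective and restrict to bijections between the degree-`n` fractions.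
-/

set_option autoImplicit false
universe u
open CategoryTheory AlgebraicGeometry Opposite TopologicalSpace
open scoped HomogeneousIdeal
noncomputable section

namespace Groth.Agent.Lib.Helper28.RelTildeAlg

section single

variable {A σ : Type u} [CommRing A] [SetLike σ A] [AddSubgroupClass σ A] {𝒜 : ℕ → σ} [GradedRing 𝒜]
variable {M τ : Type u} [AddCommGroup M] [Module A M] [SetLike τ M] [AddSubgroupClass τ M] {ℳ : ℕ → τ}
  [SetLike.GradedSMul 𝒜 ℳ]

/-- every degree-`n` fraction at `x` is a single homogeneous fraction -/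
theorem exists_frac_of_mem_tildeAt (n : ℤ) (x : ProjectiveSpectrum 𝒜) {q : GrMod.LocMod 𝒜 (M := M) x}
    (hq : q ∈ GrMod.tildeAt 𝒜 ℳ n x) :
    ∃ (i j : ℕ) (m : ℳ i) (s : 𝒜 j) (hs : (s : A) ∉ x.asHomogeneousIdeal),
      ((i : ℤ) = j + n ∨ (m : M) = 0) ∧ q = LocalizedModule.mk (m : M) ⟨(s : A), hs⟩ := by
  have h1mem : (1 : A) ∉ x.asHomogeneousIdeal := fun h =>
    x.isPrime.ne_top ((Ideal.eq_top_iff_one _).mpr h)
  induction hq using Submodule.span_induction with
  | mem q h =>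
    obtain ⟨i, j, a, s, hs, hij, rfl⟩ := h
    exact ⟨i, j, a, s, hs, Or.inl hij, rfl⟩
  | zero =>
    exact ⟨0, 0, 0, ⟨1, SetLike.GradedOne.one_mem⟩, h1mem, Or.inr rfl, (LocalizedModule.zero_mk _).symm⟩
  | add q q' _ _ h h' =>
    obtain ⟨i, j, a, s, hs, hij, rfl⟩ := h
    obtain ⟨i', j', a', s', hs', hij', rfl⟩ := h'
    rcases hij with hij | ha
    · rcases hij' with hij' | ha'
      · have hdeg : j' + i = j + i' := by omega
        have hnin : (s : A) * s' ∉ x.asHomogeneousIdeal := by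
          intro hmem
          rcases x.isPrime.mem_or_mem hmem with h | h
          · exact hs h
          · exact hs' h
        refine ⟨j' + i, j + j', ⟨(s' : A) • (a : M) + (s : A) • (a' : M), ?_⟩,
          ⟨(s : A) * s', SetLike.mul_mem_graded s.2 s'.2⟩, hnin, Or.inl (by push_cast; omega), ?_⟩
        · refine add_mem (SetLike.GradedSMul.smul_mem s'.2 a.2) ?_
          rw [hdeg]
          exact SetLike.GradedSMul.smul_mem s.2 a'.2
        · rw [LocalizedModule.mk_add_mk]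
          rfl
      · refine ⟨i, j, a, s, hs, Or.inl hij, ?_⟩
        rw [ha', LocalizedModule.zero_mk, add_zero]
    · refine ⟨i', j', a', s', hs', hij', ?_⟩
      rw [ha, LocalizedModule.zero_mk, zero_add]
  | smul c q _ h =>
    obtain ⟨i, j, a, s, hs, hij, rfl⟩ := h
    have hnin : c.den * (s : A) ∉ x.asHomogeneousIdeal := by
      intro hmem
      rcases x.isPrime.mem_or_mem hmem with h | h
      · exact c.den_mem h
      · exact hs h
    refine ⟨c.deg + i, c.deg + j, ⟨c.num • (a : M), SetLike.GradedSMul.smul_mem c.num_mem_deg a.2⟩,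
      ⟨c.den * s, SetLike.mul_mem_graded c.den_mem_deg s.2⟩, hnin, ?_, ?_⟩
    · rcases hij with hij | ha
      · exact Or.inl (by push_cast; omega)
      · exact Or.inr (by simp [ha])
    · rw [GrMod.a0_smul_def, HomogeneousLocalization.eq_num_div_den, LocalizedModule.mk_smul_mk]
      rfl

/-- unpacking the local-fraction condition of a section of `M(n)~` -/
theorem exists_frac_of_sect (n : ℤ) (V : Opens (ProjectiveSpectrum.top 𝒜))
    (t : GrMod.sect 𝒜 ℳ n (op V)) (x : V) :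
    ∃ (N : Opens (ProjectiveSpectrum.top 𝒜)) (_ : x.1 ∈ N) (hN : N ≤ V) (i j : ℕ) (a : ℳ i) (s : 𝒜 j)
      (s_nin : ∀ y : N, (s : A) ∉ y.1.asHomogeneousIdeal),
      ((i : ℤ) = j + n ∨ (a : M) = 0) ∧
      ∀ y : N, ((t.1 ⟨y.1, hN y.2⟩ : GrMod.tildeAt 𝒜 ℳ n y.1) : GrMod.LocMod 𝒜 (M := M) y.1) =
        LocalizedModule.mk (a : M) ⟨(s : A), s_nin y⟩ := by
  obtain ⟨N, hxN, iN, i, j, a, s, s_nin, hij, hfrac⟩ := t.2 x
  exact ⟨N, hxN, iN.le, i, j, a, s, s_nin, hij, fun y => hfrac y⟩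

/-- packing the local-fraction condition -/
theorem pred_of_forall_exists (n : ℤ) (V : Opens (ProjectiveSpectrum.top 𝒜))
    (g : ∀ x : V, GrMod.tildeAt 𝒜 ℳ n x.1)
    (h : ∀ x : V, ∃ (N : Opens (ProjectiveSpectrum.top 𝒜)) (_ : x.1 ∈ N) (hN : N ≤ V) (i j : ℕ) (a : ℳ i)
      (s : 𝒜 j) (s_nin : ∀ y : N, (s : A) ∉ y.1.asHomogeneousIdeal),
      ((i : ℤ) = j + n ∨ (a : M) = 0) ∧
      ∀ y : N, ((g ⟨y.1, hN y.2⟩ : GrMod.tildeAt 𝒜 ℳ n y.1) : GrMod.LocMod 𝒜 (M := M) y.1) =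
        LocalizedModule.mk (a : M) ⟨(s : A), s_nin y⟩) :
    (GrMod.isLocFrac 𝒜 ℳ n).pred g := by
  intro x
  obtain ⟨N, hxN, hN, i, j, a, s, s_nin, hij, hfrac⟩ := h x
  exact ⟨N, hxN, homOfLE hN, i, j, a, s, s_nin, hij, fun y => hfrac y⟩

end single


section loc

open DirectSum

variable {A B : Type u} [CommRing A] [CommRing B] {σ σ' : Type u} [SetLike σ A] [AddSubgroupClass σ A]
  [SetLike σ' B] [AddSubgroupClass σ' B] {𝒜 : ℕ → σ} {ℬ : ℕ → σ'} [GradedRing 𝒜] [GradedRing ℬ]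
variable {M N τ τ' : Type u} [AddCommGroup M] [Module A M] [SetLike τ M] [AddSubgroupClass τ M] {ℳ : ℕ → τ}
  [SetLike.GradedSMul 𝒜 ℳ] [AddCommGroup N] [Module B N] [SetLike τ' N] [AddSubgroupClass τ' N] {𝒩 : ℕ → τ'}
  [SetLike.GradedSMul ℬ 𝒩]
variable (φ : 𝒜 →+*ᵍ ℬ) (hφ : ℬ₊ ≤ (𝒜₊).map φ) (v : M →ₛₗ[φ.toRingHom] N)
  (hv : ∀ (i : ℕ) (m : M), m ∈ ℳ i → v m ∈ 𝒩 i)
  (c : A) (hc : c ∈ 𝒜 0) (h1 : IsUnit (φ c))
  (h2 : ∀ b : B, ∃ (a : A) (k : ℕ), b * φ c ^ k = φ a)
  (h2M : ∀ b : N, ∃ (a : M) (k : ℕ), φ c ^ k • b = v a)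
  (h3M : ∀ a : M, v a = 0 → ∃ k : ℕ, c ^ k • a = 0)

include hv in
omit [SetLike.GradedSMul 𝒜 ℳ] [SetLike.GradedSMul ℬ 𝒩] in
/-- a degree-preserving map commutes with taking homogeneous components -/
theorem decompose_map [DirectSum.Decomposition ℳ] [DirectSum.Decomposition 𝒩] (x : M) (k : ℕ) :
    (decompose 𝒩 (v x) k : N) = v (decompose ℳ x k : M) := by
  classical
  have hmem : ∀ d, v (decompose ℳ x d : M) ∈ 𝒩 d := fun d => hv d _ (SetLike.coe_mem _)
  have hsum : v x = ∑ d ∈ (decompose ℳ x).support, v (decompose ℳ x d : M) := by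
    conv_lhs => rw [← DirectSum.sum_support_decompose ℳ x, map_sum]
  rw [hsum, decompose_sum, DFinsupp.finsetSum_apply, AddSubmonoidClass.coe_finsetSum]
  by_cases hk : k ∈ (decompose ℳ x).support
  · rw [Finset.sum_eq_single k]
    · rw [decompose_of_mem_same _ (hmem k)]
    · intro j _ hjk
      rw [decompose_of_mem_ne _ (hmem j) hjk]
    · intro h'
      exact absurd hk h'
  · rw [Finset.sum_eq_zero]
    · rw [DFinsupp.notMem_support_iff] at hk
      rw [hk]
      exact (map_zero _).symm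
    · intro j hj
      have hjk : j ≠ k := fun h' => hk (h' ▸ hj)
      rw [decompose_of_mem_ne _ (hmem j) hjk]

include hc in
omit [AddSubgroupClass τ M] in
theorem pow_smul_mem {i : ℕ} {a : M} (ha : a ∈ ℳ i) (k : ℕ) : c ^ k • a ∈ ℳ i := by
  have hck : c ^ k ∈ 𝒜 0 := by
    have := SetLike.pow_mem_graded k hc
    simpa using this
  have := SetLike.GradedSMul.smul_mem hck ha
  simpa using this

include hv hc h2M in
/-- homogeneous elements lift, up to a power of the inverted element, to homogeneous elements of the same degree -/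
theorem exists_homogeneous_liftM [DirectSum.Decomposition ℳ] [DirectSum.Decomposition 𝒩] {i : ℕ} {b : N}
    (hb : b ∈ 𝒩 i) : ∃ (a : M) (_ : a ∈ ℳ i) (k : ℕ), φ c ^ k • b = v a := by
  classical
  obtain ⟨a, k, hak⟩ := h2M b
  have hck : φ c ^ k ∈ ℬ 0 := by
    have := SetLike.pow_mem_graded k (φ.map_mem hc)
    simpa using this
  have hbk : φ c ^ k • b ∈ 𝒩 i := by
    have := SetLike.GradedSMul.smul_mem hck hb
    simpa using this
  refine ⟨(decompose ℳ a i : M), SetLike.coe_mem _, k, ?_⟩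
  rw [← decompose_map φ v hv, ← hak, decompose_of_mem_same _ hbk]

include h1 h2 h3M in
omit [AddSubgroupClass τ M] [SetLike.GradedSMul 𝒜 ℳ] [AddSubgroupClass τ' N] [SetLike.GradedSMul ℬ 𝒩] in
/-- the comparison of localized modules along a degree-zero localization is injective -/
theorem locModMap_injective (y : ProjectiveSpectrum ℬ) : Function.Injective (GrMod.locModMap φ hφ v y) := by
  rw [injective_iff_map_eq_zero]
  intro q hq
  induction q using LocalizedModule.induction_on with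
  | h m s =>
    rw [GrMod.locModMap_mk, ← LocalizedModule.zero_mk 1, LocalizedModule.mk_eq] at hq
    obtain ⟨⟨t, ht⟩, htq⟩ := hq
    have htq' : t • v m = 0 := by
      have := htq
      simp only [Submonoid.smul_def, smul_zero, OneMemClass.coe_one, one_smul] at this
      exact this
    obtain ⟨t', k, htk⟩ := h2 t
    have h0 : v (t' • m) = 0 := by
      rw [LinearMap.map_smulₛₗ]
      show φ t' • v m = 0
      rw [← htk, mul_comm, mul_smul, htq', smul_zero]
    obtain ⟨l, hl⟩ := h3M _ h0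
    have hmem : c ^ l * t' ∈ (ProjectiveSpectrum.comap φ hφ y).asHomogeneousIdeal.toIdeal.primeCompl := by
      change φ (c ^ l * t') ∉ y.asHomogeneousIdeal
      rw [map_mul, ← htk, map_pow]
      intro h
      rcases y.isPrime.mem_or_mem h with h | h
      · exact RelTwistAlg.unit_not_mem φ c h1 y l h
      · exact RelTwistAlg.mul_unit_not_mem φ c h1 y ht k h
    rw [← LocalizedModule.zero_mk 1, LocalizedModule.mk_eq]
    refine ⟨⟨_, hmem⟩, ?_⟩
    simp only [Submonoid.smul_def, smul_zero, OneMemClass.coe_one, one_smul]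
    rw [mul_smul]
    exact hl

include hv hc h1 h2 h2M in
/-- a single homogeneous fraction over `𝒩` is the image of one over `ℳ` -/
theorem exists_locModMap_mk_eq [DirectSum.Decomposition ℳ] [DirectSum.Decomposition 𝒩]
    (y : ProjectiveSpectrum ℬ) {i j : ℕ} {b : N} {t : B} (hb : b ∈ 𝒩 i) (ht : t ∈ ℬ j)
    (hty : t ∉ y.asHomogeneousIdeal) :
    ∃ (a : ℳ i) (s : 𝒜 j) (hs : (s : A) ∉ (ProjectiveSpectrum.comap φ hφ y).asHomogeneousIdeal),
      GrMod.locModMap φ hφ v y (LocalizedModule.mk (a : M) ⟨(s : A), hs⟩) = LocalizedModule.mk b ⟨t, hty⟩ := by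
  obtain ⟨a, ha, k, hak⟩ := exists_homogeneous_liftM φ v hv c hc h2M hb
  obtain ⟨s, hs, l, hsl⟩ := RelTwistAlg.exists_homogeneous_lift φ c hc h2 ht
  have hs' : s * c ^ k ∉ (ProjectiveSpectrum.comap φ hφ y).asHomogeneousIdeal := by
    change φ (s * c ^ k) ∉ y.asHomogeneousIdeal
    rw [map_mul, ← hsl, map_pow, mul_assoc, ← pow_add]
    exact RelTwistAlg.mul_unit_not_mem φ c h1 y hty _
  refine ⟨⟨c ^ l • a, pow_smul_mem c hc ha l⟩, ⟨s * c ^ k, RelTwistAlg.pow_mul_mem c hc hs k⟩, hs', ?_⟩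
  rw [GrMod.locModMap_mk, LocalizedModule.mk_eq]
  refine ⟨1, ?_⟩
  simp only [Submonoid.smul_def, OneMemClass.coe_one, one_smul]
  rw [LinearMap.map_smulₛₗ]
  show t • (φ (c ^ l) • v a) = φ (s * c ^ k) • b
  rw [map_mul, map_pow, map_pow, ← hsl, ← hak, ← mul_smul, ← mul_smul]

include hv hc h1 h2 h2M in
/-- the comparison maps the degree-`n` fractions onto the degree-`n` fractions -/
theorem exists_locModMap_eq_of_mem_tildeAt [DirectSum.Decomposition ℳ] [DirectSum.Decomposition 𝒩]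
    (n : ℤ) (y : ProjectiveSpectrum ℬ) {q : GrMod.LocMod ℬ (M := N) y}
    (hq : q ∈ GrMod.tildeAt ℬ 𝒩 n y) :
    ∃ q' ∈ GrMod.tildeAt 𝒜 ℳ n (ProjectiveSpectrum.comap φ hφ y), GrMod.locModMap φ hφ v y q' = q := by
  obtain ⟨i, j, b, t, hty, hij, rfl⟩ := exists_frac_of_mem_tildeAt n y hq
  rcases hij with hij | hb
  · obtain ⟨a, s, hs, h⟩ := exists_locModMap_mk_eq φ hφ v hv c hc h1 h2 h2M y b.2 t.2 hty
    exact ⟨_, Submodule.subset_span ⟨i, j, a, s, hs, hij, rfl⟩, h⟩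
  · refine ⟨0, zero_mem _, ?_⟩
    rw [map_zero, hb, LocalizedModule.zero_mk]

end loc


section primed

variable {A B C : Type u} [CommRing A] [CommRing B] [CommRing C] {σ σ' σ'' : Type u}
  [SetLike σ A] [AddSubgroupClass σ A] [SetLike σ' B] [AddSubgroupClass σ' B] [SetLike σ'' C]
  [AddSubgroupClass σ'' C] {𝒜 : ℕ → σ} {ℬ : ℕ → σ'} {𝒞 : ℕ → σ''} [GradedRing 𝒜] [GradedRing ℬ] [GradedRing 𝒞]
variable {M N K : Type u} [AddCommGroup M] [Module A M] [AddCommGroup N] [Module B N] [AddCommGroup K] [Module C K]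

/-- the value `v m / ψ s` on a representative -/
def locModFun' (ψ : A →+* B) (v : M →ₛₗ[ψ] N) (x : ProjectiveSpectrum 𝒜) (y : ProjectiveSpectrum ℬ)
    (h : x.asHomogeneousIdeal.toIdeal = Ideal.comap ψ y.asHomogeneousIdeal.toIdeal)
    (q : M × x.asHomogeneousIdeal.toIdeal.primeCompl) : GrMod.LocMod ℬ (M := N) y :=
  LocalizedModule.mk (v q.1) ⟨ψ (q.2 : A), RelTwistAlg.map_mem_primeCompl ψ x y h q.2⟩

theorem locModFun'_wd (ψ : A →+* B) (v : M →ₛₗ[ψ] N) (x : ProjectiveSpectrum 𝒜) (y : ProjectiveSpectrum ℬ)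
    (h : x.asHomogeneousIdeal.toIdeal = Ideal.comap ψ y.asHomogeneousIdeal.toIdeal)
    (q q' : M × x.asHomogeneousIdeal.toIdeal.primeCompl) (hqq : q ≈ q') :
    locModFun' ψ v x y h q = locModFun' ψ v x y h q' := by
  obtain ⟨m, s⟩ := q
  obtain ⟨m', s'⟩ := q'
  obtain ⟨w, hw⟩ := hqq
  refine LocalizedModule.mk_eq.mpr ⟨⟨ψ (w : A), RelTwistAlg.map_mem_primeCompl ψ x y h w⟩, ?_⟩
  have hw' := congrArg v hw
  simp only [Submonoid.smul_def, LinearMap.map_smulₛₗ] at hw' ⊢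
  exact hw'

/-- the comparison of localized modules `M_x → N_y` for a semilinear map `v` over `ψ` and points with `x = ψ⁻¹ y`,
the equality of the points being a hypothesis (no transport) -/
def locModMap' (ψ : A →+* B) (v : M →ₛₗ[ψ] N) (x : ProjectiveSpectrum 𝒜) (y : ProjectiveSpectrum ℬ)
    (h : x.asHomogeneousIdeal.toIdeal = Ideal.comap ψ y.asHomogeneousIdeal.toIdeal) :
    GrMod.LocMod 𝒜 (M := M) x →+ GrMod.LocMod ℬ (M := N) y where
  toFun q := q.liftOn (locModFun' ψ v x y h) (locModFun'_wd ψ v x y h)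
  map_zero' := by
    rw [← LocalizedModule.zero_mk 1, LocalizedModule.liftOn_mk]
    change LocalizedModule.mk (v 0) _ = 0
    rw [map_zero, LocalizedModule.zero_mk]
  map_add' q q' := by
    induction q using LocalizedModule.induction_on with
    | h m s =>
      induction q' using LocalizedModule.induction_on with
      | h m' s' =>
        rw [LocalizedModule.mk_add_mk, LocalizedModule.liftOn_mk, LocalizedModule.liftOn_mk, LocalizedModule.liftOn_mk]
        change LocalizedModule.mk (v (s' • m + s • m')) _ = LocalizedModule.mk (v m) _ + LocalizedModule.mk (v m') _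
        rw [LocalizedModule.mk_add_mk]
        simp only [map_add, Submonoid.smul_def, LinearMap.map_smulₛₗ]
        congr 1
        exact Subtype.ext (by simp [map_mul])

theorem locModMap'_mk (ψ : A →+* B) (v : M →ₛₗ[ψ] N) (x : ProjectiveSpectrum 𝒜) (y : ProjectiveSpectrum ℬ)
    (h : x.asHomogeneousIdeal.toIdeal = Ideal.comap ψ y.asHomogeneousIdeal.toIdeal) (m : M)
    (s : x.asHomogeneousIdeal.toIdeal.primeCompl) :
    locModMap' ψ v x y h (LocalizedModule.mk m s) =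
      LocalizedModule.mk (v m) ⟨ψ (s : A), RelTwistAlg.map_mem_primeCompl ψ x y h s⟩ := rfl

/-- compatibility with the actions of the localized rings -/
theorem locModMap'_smul (ψ : A →+* B) (v : M →ₛₗ[ψ] N) (x : ProjectiveSpectrum 𝒜) (y : ProjectiveSpectrum ℬ)
    (h : x.asHomogeneousIdeal.toIdeal = Ideal.comap ψ y.asHomogeneousIdeal.toIdeal)
    (r : GrTwist.Loc 𝒜 x) (q : GrMod.LocMod 𝒜 (M := M) x) :
    locModMap' ψ v x y h (r • q) = RelTwistAlg.locMap' ψ x y h r • locModMap' ψ v x y h q := by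
  induction q using LocalizedModule.induction_on with
  | h m s =>
    induction r using Localization.induction_on with
    | H p =>
      obtain ⟨a, t⟩ := p
      rw [LocalizedModule.mk_smul_mk, locModMap'_mk, locModMap'_mk, RelTwistAlg.locMap'_mk',
        LocalizedModule.mk_smul_mk, LinearMap.map_smulₛₗ]
      congr 1
      exact Subtype.ext (by simp [map_mul])

theorem locModMap'_comp (ψ₁ : A →+* B) (ψ₂ : B →+* C) (ψ₃ : A →+* C) (hψ : ∀ a, ψ₃ a = ψ₂ (ψ₁ a))
    (v₁ : M →ₛₗ[ψ₁] N) (v₂ : N →ₛₗ[ψ₂] K) (v₃ : M →ₛₗ[ψ₃] K) (hv₃ : ∀ m, v₃ m = v₂ (v₁ m))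
    (x : ProjectiveSpectrum 𝒜) (y : ProjectiveSpectrum ℬ) (z : ProjectiveSpectrum 𝒞)
    (h₁ : x.asHomogeneousIdeal.toIdeal = Ideal.comap ψ₁ y.asHomogeneousIdeal.toIdeal)
    (h₂ : y.asHomogeneousIdeal.toIdeal = Ideal.comap ψ₂ z.asHomogeneousIdeal.toIdeal)
    (h₃ : x.asHomogeneousIdeal.toIdeal = Ideal.comap ψ₃ z.asHomogeneousIdeal.toIdeal)
    (q : GrMod.LocMod 𝒜 (M := M) x) :
    locModMap' ψ₂ v₂ y z h₂ (locModMap' ψ₁ v₁ x y h₁ q) = locModMap' ψ₃ v₃ x z h₃ q := by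
  induction q using LocalizedModule.induction_on with
  | h m s =>
    rw [locModMap'_mk, locModMap'_mk, locModMap'_mk, hv₃]
    congr 1
    exact Subtype.ext (hψ _).symm

end primed


section primedLoc

variable {A B : Type u} [CommRing A] [CommRing B] {σ σ' : Type u} [SetLike σ A] [AddSubgroupClass σ A]
  [SetLike σ' B] [AddSubgroupClass σ' B] {𝒜 : ℕ → σ} {ℬ : ℕ → σ'} [GradedRing 𝒜] [GradedRing ℬ]
variable {M N τ τ' : Type u} [AddCommGroup M] [Module A M] [SetLike τ M] [AddSubgroupClass τ M] {ℳ : ℕ → τ}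
  [SetLike.GradedSMul 𝒜 ℳ] [AddCommGroup N] [Module B N] [SetLike τ' N] [AddSubgroupClass τ' N] {𝒩 : ℕ → τ'}
  [SetLike.GradedSMul ℬ 𝒩]
variable (φ : 𝒜 →+*ᵍ ℬ) (hφ : ℬ₊ ≤ (𝒜₊).map φ) (v : M →ₛₗ[φ.toRingHom] N)
  (hv : ∀ (i : ℕ) (m : M), m ∈ ℳ i → v m ∈ 𝒩 i)
  (c : A) (hc : c ∈ 𝒜 0) (h1 : IsUnit (φ c))
  (h2 : ∀ b : B, ∃ (a : A) (k : ℕ), b * φ c ^ k = φ a)
  (h2M : ∀ b : N, ∃ (a : M) (k : ℕ), φ c ^ k • b = v a)
  (h3M : ∀ a : M, v a = 0 → ∃ k : ℕ, c ^ k • a = 0)

omit [AddSubgroupClass τ M] [SetLike.GradedSMul 𝒜 ℳ] [AddSubgroupClass τ' N] [SetLike.GradedSMul ℬ 𝒩] in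
theorem locModMap_eq_locModMap' (y : ProjectiveSpectrum ℬ)
    (q : GrMod.LocMod 𝒜 (M := M) (ProjectiveSpectrum.comap φ hφ y)) :
    GrMod.locModMap φ hφ v y q = locModMap' φ.toRingHom v (ProjectiveSpectrum.comap φ hφ y) y rfl q := by
  induction q using LocalizedModule.induction_on with
  | h m s => rfl

include hφ h1 h2 h3M in
omit [AddSubgroupClass τ M] [SetLike.GradedSMul 𝒜 ℳ] [AddSubgroupClass τ' N] [SetLike.GradedSMul ℬ 𝒩] in
theorem locModMap'_injective (x : ProjectiveSpectrum 𝒜) (y : ProjectiveSpectrum ℬ)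
    (h : x.asHomogeneousIdeal.toIdeal = Ideal.comap φ.toRingHom y.asHomogeneousIdeal.toIdeal) :
    Function.Injective (locModMap' φ.toRingHom v x y h) := by
  obtain rfl := RelTwistAlg.eq_comap φ hφ x y h
  intro a b hab
  apply locModMap_injective φ hφ v c h1 h2 h3M y
  rw [locModMap_eq_locModMap', locModMap_eq_locModMap']
  exact hab

include hφ hv in
omit [AddSubgroupClass τ M] [SetLike.GradedSMul 𝒜 ℳ] [AddSubgroupClass τ' N] [SetLike.GradedSMul ℬ 𝒩] in
theorem locModMap'_mem (n : ℤ) (x : ProjectiveSpectrum 𝒜) (y : ProjectiveSpectrum ℬ)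
    (h : x.asHomogeneousIdeal.toIdeal = Ideal.comap φ.toRingHom y.asHomogeneousIdeal.toIdeal)
    {q : GrMod.LocMod 𝒜 (M := M) x} (hq : q ∈ GrMod.tildeAt 𝒜 ℳ n x) :
    locModMap' φ.toRingHom v x y h q ∈ GrMod.tildeAt ℬ 𝒩 n y := by
  obtain rfl := RelTwistAlg.eq_comap φ hφ x y h
  rw [← locModMap_eq_locModMap' φ hφ v y q]
  exact GrMod.locModMap_mem φ hφ v hv y n hq

include hφ hv hc h1 h2 h2M in
theorem exists_locModMap'_eq [DirectSum.Decomposition ℳ] [DirectSum.Decomposition 𝒩]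
    (n : ℤ) (x : ProjectiveSpectrum 𝒜) (y : ProjectiveSpectrum ℬ)
    (h : x.asHomogeneousIdeal.toIdeal = Ideal.comap φ.toRingHom y.asHomogeneousIdeal.toIdeal)
    {q : GrMod.LocMod ℬ (M := N) y} (hq : q ∈ GrMod.tildeAt ℬ 𝒩 n y) :
    ∃ q' ∈ GrMod.tildeAt 𝒜 ℳ n x, locModMap' φ.toRingHom v x y h q' = q := by
  obtain rfl := RelTwistAlg.eq_comap φ hφ x y h
  obtain ⟨q', hq', e⟩ := exists_locModMap_eq_of_mem_tildeAt φ hφ v hv c hc h1 h2 h2M n y hq
  exact ⟨q', hq', by rw [← locModMap_eq_locModMap' φ hφ v y q']; exact e⟩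

end primedLoc

end Groth.Agent.Lib.Helper28.RelTildeAlg
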