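import Groth.Agent.Lib.Helper28.RelTildeZero

/-!
# (TN) from the vanishing of `M~`, absolute (gradings by additive subgroups) and relative
-/

set_option autoImplicit false
universe u
open CategoryTheory CategoryTheory.Limits AlgebraicGeometry Opposite TopologicalSpace

namespace Groth.Agent.Lib.Helper28.GrModQC

open Groth.Agent.Lib.Helper28

variable {A σ : Type u} [CommRing A] [SetLike σ A] [AddSubgroupClass σ A] (𝒜 : ℕ → σ) [GradedRing 𝒜]
variable {M τ : Type u} [AddCommGroup M] [Module A M] [SetLike τ M] [AddSubgroupClass τ M] (ℳ : ℕ → τ)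
  [DirectSum.Decomposition ℳ] [SetLike.GradedSMul 𝒜 ℳ]

/-- if `M~` has no nonzero sections, every degree-one element acts locally nilpotently on `M` -/
theorem nilp_of_sections_zero
    (h0 : ∀ (V : (Proj 𝒜).Opens) (t : Γ(GrMod.tilde 𝒜 ℳ 0, V)), t = 0)
    (z : M) (f : A) (hf : f ∈ 𝒜 1) : ∃ k : ℕ, f ^ k • z = 0 := by
  induction z using DirectSum.Decomposition.inductionOn ℳ with
  | zero => exact ⟨0, by simp⟩
  | @homogeneous i m =>
    have hi : (i : ℤ) = (i : ℤ) * ((1 : ℕ) : ℤ) + 0 := by simp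
    have hs := h0 _ (mkSect 𝒜 ℳ hf 0 i i m.1 m.2 hi)
    refine GrSect.pow_smul_eq_zero 𝒜 ℳ Nat.one_pos hf m.1 m.2 (fun q hq => ?_)
    have hqf : q ∈ Proj.basicOpen 𝒜 f := (Proj.mem_basicOpen 𝒜 f q).2 hq
    have h2 : val 𝒜 ℳ (mkSect 𝒜 ℳ hf 0 i i m.1 m.2 hi) ⟨q, hqf⟩ = 0 := by rw [hs]; rfl
    rw [val_mkSect] at h2
    exact GrSectComap.mk_one_eq_zero_of_mk 𝒜 q m.1 _ h2
  | add m m' hm hm' =>
    obtain ⟨k, hk⟩ := hm
    obtain ⟨k', hk'⟩ := hm'
    refine ⟨k + k', ?_⟩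
    rw [smul_add, pow_add, mul_smul (f ^ k) (f ^ k') m', hk', smul_zero, add_zero, mul_comm, mul_smul, hk,
      smul_zero]

end Groth.Agent.Lib.Helper28.GrModQC

namespace Groth.Agent.Lib.Helper28.RelProjQC

open Groth.Agent.Lib.Helper28 Groth.Agent.Lib.Helper28.QCohLoc DirectSum

variable {Y : Scheme.{u}} {𝒮 : RelProj.QCGrAlg Y} (ℳ : RelProj.GrModule 𝒮)

/-- the `O_Y`-module underlying a graded module over `𝒮` -/
noncomputable abbrev osMod : Y.Modules := (AMod.toOS 𝒮.toQCAlg).obj ℳ.mod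

/-- restriction commutes with taking homogeneous components -/
theorem decompose_res {U V : Y.Opens} (hU : IsAffineOpen U) (hV : IsAffineOpen V) (i : V ≤ U)
    (x : ℳ.mod.val.obj (op U)) (k : ℕ) :
    (decompose (ℳ.deg V hV) (ℳ.res hU hV i x) k : ℳ.mod.val.obj (op V)) =
      ℳ.res hU hV i (decompose (ℳ.deg U hU) x k : ℳ.mod.val.obj (op U)) := by
  classical
  have hmem : ∀ d, ℳ.res hU hV i (decompose (ℳ.deg U hU) x d : ℳ.mod.val.obj (op U)) ∈ ℳ.deg V hV d :=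
    fun d => ℳ.res_mem hU hV i d _ (SetLike.coe_mem _)
  have hsum : ℳ.res hU hV i x = ∑ d ∈ (decompose (ℳ.deg U hU) x).support,
      ℳ.res hU hV i (decompose (ℳ.deg U hU) x d : ℳ.mod.val.obj (op U)) := by
    conv_lhs => rw [← DirectSum.sum_support_decompose (ℳ.deg U hU) x, map_sum]
  rw [hsum, decompose_sum, DFinsupp.finsetSum_apply, AddSubmonoidClass.coe_finsetSum]
  by_cases hk : k ∈ (decompose (ℳ.deg U hU) x).support
  · rw [Finset.sum_eq_single k]
    · rw [decompose_of_mem_same _ (hmem k)]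
    · intro j _ hjk
      rw [decompose_of_mem_ne _ (hmem j) hjk]
    · intro h'
      exact absurd hk h'
  · rw [Finset.sum_eq_zero]
    · rw [DFinsupp.notMem_support_iff] at hk
      rw [hk]
      exact (map_zero _).symm
    · intro j hj
      have hjk : j ≠ k := fun h' => hk (h' ▸ hj)
      rw [decompose_of_mem_ne _ (hmem j) hjk]

/-- vanishing of a graded piece passes from an affine open to its basic opens -/
theorem deg_zero_of_basicOpen (hℳ : (osMod ℳ).IsQuasicoherent) {U : Y.Opens} (hU : IsAffineOpen U) (r : Γ(Y, U))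
    (k : ℕ) (h : ∀ m : ℳ.mod.val.obj (op U), m ∈ ℳ.deg U hU k → m = 0)
    (y : ℳ.mod.val.obj (op (Y.basicOpen r))) (hy : y ∈ ℳ.deg (Y.basicOpen r) (hU.basicOpen r) k) : y = 0 := by
  obtain ⟨e, x, hx⟩ := (isLocOn_of_isQuasicoherent (osMod ℳ) hU).surj r y
  obtain ⟨c, hc⟩ : ∃ c : 𝒮.presheaf.obj (op (Y.basicOpen r)),
      c = (𝒮.str.app (op (Y.basicOpen r))).hom (resO (Y.basicOpen_le r) r ^ e) := ⟨_, rfl⟩
  have hx' : c • y = ℳ.res hU (hU.basicOpen r) (Y.basicOpen_le r) x := by rw [hc]; exact hx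
  have hc0 : c ∈ 𝒮.deg (Y.basicOpen r) (hU.basicOpen r) 0 := by rw [hc]; exact 𝒮.str_mem _ _ _
  have hcy : c • y ∈ ℳ.deg (Y.basicOpen r) (hU.basicOpen r) k := by
    have := SetLike.GradedSMul.smul_mem hc0 hy
    rwa [vadd_eq_add, zero_add] at this
  have h1 := decompose_res ℳ hU (hU.basicOpen r) (Y.basicOpen_le r) x k
  rw [← hx', decompose_of_mem_same _ hcy, h _ (SetLike.coe_mem _), map_zero] at h1
  have hunit : IsUnit c := by
    rw [hc]
    exact ((RingedSpace.isUnit_res_basicOpen _ r).pow e).map _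
  exact hunit.smul_eq_zero.1 h1

/-- on a quasi-compact base, chartwise (TN) gives (TN) -/
theorem isTN_of_local [CompactSpace Y] (hℳ : (osMod ℳ).IsQuasicoherent)
    (hloc : ∀ (U : Y.Opens) (hU : IsAffineOpen U), ∃ n : ℕ, ∀ k : ℕ, n ≤ k →
      ∀ m : ℳ.mod.val.obj (op U), m ∈ ℳ.deg U hU k → m = 0) : ℳ.IsTN := by
  classical
  choose nU hnU using hloc
  obtain ⟨t, ht⟩ := isCompact_univ.elim_finite_subcover (fun i : Y.affineOpens => (i.1 : Set Y))
    (fun i => i.1.2) (by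
      intro q _
      have hy : q ∈ (⨆ V : Y.affineOpens, V.1 : Y.Opens) := by
        rw [iSup_affineOpens_eq_top]; trivial
      obtain ⟨V, hV⟩ := Opens.mem_iSup.mp hy
      exact Set.mem_iUnion.2 ⟨V, hV⟩)
  refine ⟨t.sup (fun i => nU i.1 i.2), fun U hU k hk m hm => ?_⟩
  have hpt : ∀ q : U, ∃ (V : Y.Opens) (hV : V ≤ U), q.1 ∈ V ∧ res (osMod ℳ) hV m = 0 := by
    intro q
    obtain ⟨i, hit, hqi⟩ := Set.mem_iUnion₂.1 (ht (Set.mem_univ q.1))
    obtain ⟨r, hrU, hqr⟩ := i.2.exists_basicOpen_le q hqi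
    refine ⟨Y.basicOpen r, hrU, hqr, ?_⟩
    refine deg_zero_of_basicOpen ℳ hℳ i.2 r k (fun m' hm' => hnU i.1 i.2 k ?_ m' hm') _ ?_
    · exact (Finset.le_sup (f := fun i : Y.affineOpens => nU i.1 i.2) hit).trans hk
    · exact ℳ.map_mem hU (i.2.basicOpen r) hrU hm
  choose V hV hqV hres using hpt
  refine eq_of_locally_eq (osMod ℳ) V U hV ?_ m 0 fun q => ?_
  · intro q hq
    exact Opens.mem_iSup.mpr ⟨⟨q, hq⟩, hqV ⟨q, hq⟩⟩
  · rw [hres q, res_zero]

end Groth.Agent.Lib.Helper28.RelProjQC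

namespace Groth.Agent.Lib.Helper28.RelProjQC

open Groth.Agent.Lib.Helper28 Groth.Agent.Lib.Helper28.QCohLoc

variable {Y P : Scheme.{u}} {𝒮 : RelProj.QCGrAlg Y} (p : P ⟶ Y)
    (chart : ∀ (U : Y.Opens) (hU : IsAffineOpen U), (((p ⁻¹ᵁ U : P.Opens) : Scheme.{u}) ≅ Proj (𝒮.deg U hU)))

/-- if `F` is zero and the chart map over `U` is surjective on sections, the chart module has no sections -/
theorem chart_sections_zero (F : P.Modules) (h0 : IsZero F) (U : Y.Opens) (hU : IsAffineOpen U)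
    (N : (Proj (𝒮.deg U hU)).Modules)
    (lam : F ⟶ (Scheme.Modules.pushforward (RelProj.emb p chart U hU)).obj N)
    (hsurj : ∀ W : P.Opens, W ≤ p ⁻¹ᵁ U → Function.Surjective (lam.app W))
    (V : (Proj (𝒮.deg U hU)).Opens) (t : Γ(N, V)) : t = 0 := by
  have key : ∀ t' : Γ(N, (RelProj.emb p chart U hU) ⁻¹ᵁ ((RelProj.emb p chart U hU) ''ᵁ V)), t' = 0 := by
    intro t'
    have hle : (RelProj.emb p chart U hU) ''ᵁ V ≤ p ⁻¹ᵁ U := by
      rw [← opensRange_emb p chart U hU]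
      rintro _ ⟨y, -, rfl⟩
      exact ⟨y, rfl⟩
    obtain ⟨x, hx⟩ := hsurj _ hle t'
    rw [← hx, sections_zero_of_isZero F h0 _ x]
    exact map_zero _
  rw [Scheme.Hom.preimage_image_eq] at key
  exact key t

end Groth.Agent.Lib.Helper28.RelProjQC
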