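import Groth.Agent.Lib.Helper28.RelTildeAlg
import Groth.Agent.Lib.Helper28.RelTwistEx3
import Groth.Agent.Lib.Helper28.RelTildeTN

/-!
# Existence of `(ℳ(n))~` on a relative `Proj`: the construction
-/

set_option autoImplicit false
universe u
open CategoryTheory CategoryTheory.Limits AlgebraicGeometry Opposite TopologicalSpace TopCat
open scoped HomogeneousIdeal
noncomputable section

namespace Groth.Agent.Lib.Helper28.RelTildeEx

open Groth.Agent.Lib.Helper28 Groth.Agent.Lib.Helper28.RelTwistEx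

variable {Y P : Scheme.{u}} (𝒮 : RelProj.QCGrAlg Y) (p : P ⟶ Y)
  (chart : ∀ (U : Y.Opens) (hU : IsAffineOpen U), (((p ⁻¹ᵁ U : P.Opens) : Scheme.{u}) ≅ Proj (𝒮.deg U hU)))
  (ℳ : RelProj.GrModule 𝒮)

/-- the values at `x` of the sections of `(ℳ(n))~`: one degree-`n` fraction for each chart at `x` -/
def T (n : ℤ) (x : P) : Type u :=
  ∀ c : Ch 𝒮 p chart x, GrMod.tildeAt (𝒮.deg c.U c.hU) (ℳ.deg c.U c.hU) n c.y

/-- the comparison map between the localized modules at two charts of a point -/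
abbrev tauM {x : P} (c d : Ch 𝒮 p chart x) (hle : d.U ≤ c.U)
    (h : c.y.asHomogeneousIdeal.toIdeal =
      Ideal.comap (𝒮.res c.hU d.hU hle).toRingHom d.y.asHomogeneousIdeal.toIdeal) :
    GrMod.LocMod (𝒮.deg c.U c.hU) (M := ℳ.mod.val.obj (op c.U)) c.y →+
      GrMod.LocMod (𝒮.deg d.U d.hU) (M := ℳ.mod.val.obj (op d.U)) d.y :=
  RelTildeAlg.locModMap' (𝒮.res c.hU d.hU hle).toRingHom (ℳ.res c.hU d.hU hle) c.y d.y h

/-- the predicate cutting out the sections of `(ℳ(n))~` -/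
def IsSec (n : ℤ) {W : P.Opens} (f : ∀ x : W, T 𝒮 p chart ℳ n x.1) : Prop :=
  (∀ (U : Y.Opens) (hU : IsAffineOpen U),
    (GrMod.isLocFrac (𝒮.deg U hU) (ℳ.deg U hU) n).pred
      (fun y : (RelProj.emb p chart U hU ⁻¹ᵁ W : (Proj (𝒮.deg U hU)).Opens) =>
        f ⟨(RelProj.emb p chart U hU).base y.1, y.2⟩ ⟨U, hU, y.1, rfl⟩)) ∧
  (∀ (x : W) (c d : Ch 𝒮 p chart x.1) (r : Γ(Y, c.U)) (_ : d.U = Y.basicOpen r) (hle : d.U ≤ c.U)
    (h : c.y.asHomogeneousIdeal.toIdeal =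
      Ideal.comap (𝒮.res c.hU d.hU hle).toRingHom d.y.asHomogeneousIdeal.toIdeal),
    ((f x d : GrMod.tildeAt (𝒮.deg d.U d.hU) (ℳ.deg d.U d.hU) n d.y) :
        GrMod.LocMod (𝒮.deg d.U d.hU) (M := ℳ.mod.val.obj (op d.U)) d.y) =
      tauM 𝒮 p chart ℳ c d hle h (f x c).1)

/-- the prelocal predicate -/
def prelocal (n : ℤ) : PrelocalPredicate (X := P.carrier) (fun x : P => T 𝒮 p chart ℳ n x) where
  pred {W} f := IsSec 𝒮 p chart ℳ n (W := W) f
  res := by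
    rintro W' W i f ⟨h1, h2⟩
    refine ⟨fun U hU => ?_, fun x c d r hr hle h => h2 (i x) c d r hr hle h⟩
    exact (GrMod.isLocFrac (𝒮.deg U hU) (ℳ.deg U hU) n).res
      (homOfLE (show (RelProj.emb p chart U hU ⁻¹ᵁ W' : (Proj (𝒮.deg U hU)).Opens) ≤
        RelProj.emb p chart U hU ⁻¹ᵁ W from fun y hy => i.le hy)) _ (h1 U hU)

/-- the local predicate -/
def localPred (n : ℤ) : LocalPredicate (X := P.carrier) (fun x : P => T 𝒮 p chart ℳ n x) where
  toPrelocalPredicate := prelocal 𝒮 p chart ℳ n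
  locality := by
    intro W f hloc
    refine ⟨fun U hU => ?_, fun x c d r hr hle h => ?_⟩
    · intro y
      obtain ⟨V, hxV, i, hsec⟩ := hloc ⟨(RelProj.emb p chart U hU).base y.1, y.2⟩
      obtain ⟨V', hyV', i', hfrac⟩ := hsec.1 U hU ⟨y.1, hxV⟩
      exact ⟨V', hyV', i' ≫ homOfLE (show (RelProj.emb p chart U hU ⁻¹ᵁ V : (Proj (𝒮.deg U hU)).Opens) ≤
        RelProj.emb p chart U hU ⁻¹ᵁ W from fun y hy => i.le hy), hfrac⟩
    · obtain ⟨V, hxV, i, hsec⟩ := hloc x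
      exact hsec.2 ⟨x.1, hxV⟩ c d r hr hle h

instance instAddCommGroupT (n : ℤ) (x : P) : AddCommGroup (T 𝒮 p chart ℳ n x) :=
  inferInstanceAs (AddCommGroup (∀ c : Ch 𝒮 p chart x, GrMod.tildeAt (𝒮.deg c.U c.hU) (ℳ.deg c.U c.hU) n c.y))

instance smulT (n : ℤ) (W : (Opens P)ᵒᵖ) : SMul (P.presheaf.obj W) (∀ x : W.unop, T 𝒮 p chart ℳ n x.1) :=
  ⟨fun s f x c => evO s x c • f x c⟩

theorem smulT_apply (n : ℤ) (W : (Opens P)ᵒᵖ) (s : P.presheaf.obj W) (f : ∀ x : W.unop, T 𝒮 p chart ℳ n x.1)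
    (x : W.unop) (c : Ch 𝒮 p chart x.1) : (s • f) x c = evO s x c • f x c := rfl

instance modT (n : ℤ) (W : (Opens P)ᵒᵖ) : Module (P.presheaf.obj W) (∀ x : W.unop, T 𝒮 p chart ℳ n x.1) where
  one_smul f := by
    funext x c; rw [smulT_apply, evO_one]; exact one_smul _ (f x c)
  mul_smul s t f := by
    funext x c; simp only [smulT_apply]; rw [evO_mul]; exact mul_smul _ _ (f x c)
  smul_zero s := by
    funext x c; rw [smulT_apply]; exact smul_zero _
  smul_add s f g := by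
    funext x c; simp only [smulT_apply]; exact smul_add _ (f x c) (g x c)
  add_smul s t f := by
    funext x c; simp only [smulT_apply]; rw [evO_add]; exact add_smul _ _ (f x c)
  zero_smul f := by
    funext x c; rw [smulT_apply, evO_zero]; exact zero_smul _ (f x c)

variable (hP : RelProj.IsRelProj 𝒮 p chart)

/-- the sections of `(ℳ(n))~` over `W`, as a submodule of the dependent functions -/
def sectL (n : ℤ) (W : (Opens P)ᵒᵖ) : Submodule (P.presheaf.obj W) (∀ x : W.unop, T 𝒮 p chart ℳ n x.1) where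
  carrier := {f | IsSec 𝒮 p chart ℳ n f}
  zero_mem' := by
    refine ⟨fun U hU => GrMod.zero_mem' n (op (RelProj.emb p chart U hU ⁻¹ᵁ W.unop)), ?_⟩
    intro x c d r hr hle h
    change ((0 : GrMod.tildeAt (𝒮.deg d.U d.hU) (ℳ.deg d.U d.hU) n d.y) : GrMod.LocMod (𝒮.deg d.U d.hU) d.y) =
      tauM 𝒮 p chart ℳ c d hle h
        ((0 : GrMod.tildeAt (𝒮.deg c.U c.hU) (ℳ.deg c.U c.hU) n c.y) : GrMod.LocMod (𝒮.deg c.U c.hU) c.y)
    simp only [ZeroMemClass.coe_zero, map_zero]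
  add_mem' := by
    rintro f g ⟨hf1, hf2⟩ ⟨hg1, hg2⟩
    refine ⟨fun U hU => GrMod.add_mem' n (op (RelProj.emb p chart U hU ⁻¹ᵁ W.unop)) _ _ (hf1 U hU) (hg1 U hU), ?_⟩
    intro x c d r hr hle h
    change ((f x d + g x d : GrMod.tildeAt (𝒮.deg d.U d.hU) (ℳ.deg d.U d.hU) n d.y) :
        GrMod.LocMod (𝒮.deg d.U d.hU) d.y) =
      tauM 𝒮 p chart ℳ c d hle h
        ((f x c + g x c : GrMod.tildeAt (𝒮.deg c.U c.hU) (ℳ.deg c.U c.hU) n c.y) : GrMod.LocMod _ c.y)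
    simp only [AddMemClass.coe_add, map_add]
    rw [hf2 x c d r hr hle h, hg2 x c d r hr hle h]
  smul_mem' := by
    rintro s f ⟨hf1, hf2⟩
    refine ⟨fun U hU => GrMod.smul_mem' n (op (RelProj.emb p chart U hU ⁻¹ᵁ W.unop))
      ((RelProj.emb p chart U hU).app W.unop s) _ (hf1 U hU), ?_⟩
    intro x c d r hr hle h
    change ((evO s x d • f x d : GrMod.tildeAt (𝒮.deg d.U d.hU) (ℳ.deg d.U d.hU) n d.y) :
        GrMod.LocMod (𝒮.deg d.U d.hU) d.y) =
      tauM 𝒮 p chart ℳ c d hle h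
        ((evO s x c • f x c : GrMod.tildeAt (𝒮.deg c.U c.hU) (ℳ.deg c.U c.hU) n c.y) : GrMod.LocMod _ c.y)
    rw [GrMod.coe_smul_val, GrMod.coe_smul_val, RelTildeAlg.locModMap'_smul, ← evO_compat hP s x c d r hr hle h,
      hf2 x c d r hr hle h]

/-- restriction of sections -/
def resL (n : ℤ) {W W' : (Opens P)ᵒᵖ} (i : W ⟶ W') (f : sectL 𝒮 p chart ℳ hP n W) : sectL 𝒮 p chart ℳ hP n W' :=
  ⟨fun x => f.1 (i.unop x), (prelocal 𝒮 p chart ℳ n).res i.unop f.1 f.2⟩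

/-- the presheaf of abelian groups underlying `(ℳ(n))~` -/
def LPre (n : ℤ) : TopCat.Presheaf AddCommGrpCat.{u} P.carrier where
  obj W := AddCommGrpCat.of (sectL 𝒮 p chart ℳ hP n W)
  map i := AddCommGrpCat.ofHom
    { toFun := resL 𝒮 p chart ℳ hP n i
      map_zero' := rfl
      map_add' := fun _ _ => rfl }

/-- `(ℳ(n))~` as a presheaf of modules -/
def LPMod (n : ℤ) : PresheafOfModules.{u} (P.presheaf ⋙ forget₂ CommRingCat RingCat) :=
  letI (X : (Opens P)ᵒᵖ) :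
      Module ↑((P.presheaf ⋙ forget₂ CommRingCat RingCat).obj X) ↑((LPre 𝒮 p chart ℳ hP n).obj X) := by
    dsimp; exact (inferInstance : Module (P.presheaf.obj X) (sectL 𝒮 p chart ℳ hP n X))
  .ofPresheaf (LPre 𝒮 p chart ℳ hP n) fun W W' i r m => by
    refine Subtype.ext (funext fun x => funext fun c => ?_)
    change evO r (i.unop x) c • m.1 (i.unop x) c = evO (P.presheaf.map i r) x c • m.1 (i.unop x) c
    exact congrArg (· • m.1 (i.unop x) c) (evO_res i.unop.le r x c).symm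

/-- the module `(ℳ(n))~` of a relative `Proj` -/
def L (n : ℤ) : P.Modules where
  val := LPMod 𝒮 p chart ℳ hP n
  isSheaf := (TopCat.Presheaf.isSheaf_iff_isSheaf_comp (forget AddCommGrpCat) _).2
    (subsheafToTypes (localPred 𝒮 p chart ℳ n)).2

/-- the chart identification on sections -/
def lamApp (n : ℤ) (U : Y.Opens) (hU : IsAffineOpen U) (W : P.Opens) :
    sectL 𝒮 p chart ℳ hP n (op W) →+
      GrMod.sect (𝒮.deg U hU) (ℳ.deg U hU) n (op (RelProj.emb p chart U hU ⁻¹ᵁ W)) where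
  toFun f := ⟨fun y => f.1 ⟨(RelProj.emb p chart U hU).base y.1, y.2⟩ ⟨U, hU, y.1, rfl⟩, f.2.1 U hU⟩
  map_zero' := rfl
  map_add' _ _ := rfl

/-- the chart identifications of `(ℳ(n))~` -/
def lam (n : ℤ) (U : Y.Opens) (hU : IsAffineOpen U) :
    L 𝒮 p chart ℳ hP n ⟶
      (Scheme.Modules.pushforward (RelProj.emb p chart U hU)).obj (GrMod.tilde (𝒮.deg U hU) (ℳ.deg U hU) n) :=
  ⟨PresheafOfModules.homMk
    { app := fun W => AddCommGrpCat.ofHom (lamApp 𝒮 p chart ℳ hP n U hU W.unop)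
      naturality := fun _ _ _ => rfl }
    fun _ _ _ => rfl⟩

theorem lam_app_val (n : ℤ) (U : Y.Opens) (hU : IsAffineOpen U) (W : P.Opens)
    (s : sectL 𝒮 p chart ℳ hP n (op W)) (y : (RelProj.emb p chart U hU ⁻¹ᵁ W : (Proj (𝒮.deg U hU)).Opens)) :
    GrMod.val (V := RelProj.emb p chart U hU ⁻¹ᵁ W) (((lam 𝒮 p chart ℳ hP n U hU).app W) s) y =
      (s.1 ⟨(RelProj.emb p chart U hU).base y.1, y.2⟩ ⟨U, hU, y.1, rfl⟩).1 := rfl

end Groth.Agent.Lib.Helper28.RelTildeEx
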