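import Groth.Agent.Lib.Helper28.RelTildeEx

/-!
# Existence of `(ℳ(n))~` on a relative `Proj`: comparison maps, compatibility, injectivity
-/

set_option autoImplicit false
universe u
open CategoryTheory CategoryTheory.Limits AlgebraicGeometry Opposite TopologicalSpace TopCat
open scoped HomogeneousIdeal
noncomputable section

namespace Groth.Agent.Lib.Helper28.RelTildeEx

open Groth.Agent.Lib.Helper28 Groth.Agent.Lib.Helper28.RelTwistEx Groth.Agent.Lib.Helper28.QCohLoc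

variable {Y P : Scheme.{u}} {𝒮 : RelProj.QCGrAlg Y} {p : P ⟶ Y}
  {chart : ∀ (U : Y.Opens) (hU : IsAffineOpen U), (((p ⁻¹ᵁ U : P.Opens) : Scheme.{u}) ≅ Proj (𝒮.deg U hU))}
  {ℳ : RelProj.GrModule 𝒮}

/-- the restriction of a quasi-coherent graded module to a basic open is the localization at a degree-zero element -/
theorem res_factsM (hℳ : (RelProjQC.osMod ℳ).IsQuasicoherent) {V D : Y.Opens} (hV : IsAffineOpen V)
    (hD : IsAffineOpen D) (r : Γ(Y, V)) (hr : D = Y.basicOpen r) (hle : D ≤ V) :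
    (∀ b : ℳ.mod.val.obj (op D), ∃ (a : ℳ.mod.val.obj (op V)) (k : ℕ),
      𝒮.res hV hD hle ((𝒮.str.app (op V)).hom r) ^ k • b = ℳ.res hV hD hle a) ∧
    (∀ a : ℳ.mod.val.obj (op V), ℳ.res hV hD hle a = 0 → ∃ k : ℕ, (𝒮.str.app (op V)).hom r ^ k • a = 0) := by
  subst hr
  have hnat : ∀ e : ℕ, (𝒮.str.app (op (Y.basicOpen r))).hom (resO (Y.basicOpen_le r) r ^ e) =
      𝒮.res hV hD hle ((𝒮.str.app (op V)).hom r) ^ e := by
    intro e
    rw [map_pow]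
    congr 1
    have := congrArg (fun t => t.hom r) (𝒮.str.naturality (homOfLE (Y.basicOpen_le r)).op)
    exact this
  refine ⟨fun b => ?_, fun a ha => ?_⟩
  · obtain ⟨e, x, hx⟩ := (isLocOn_of_isQuasicoherent (RelProjQC.osMod ℳ) hV).surj r b
    refine ⟨x, e, ?_⟩
    rw [← hnat e]
    exact hx
  · obtain ⟨e, he⟩ := (isLocOn_of_isQuasicoherent (RelProjQC.osMod ℳ) hV).inj r a ha
    refine ⟨e, ?_⟩
    rw [← map_pow]
    exact he


variable (hℳ : (RelProjQC.osMod ℳ).IsQuasicoherent)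

include hℳ in
theorem tauM_injective {x : P} (c d : Ch 𝒮 p chart x) (r : Γ(Y, c.U)) (hr : d.U = Y.basicOpen r) (hle : d.U ≤ c.U)
    (h : c.y.asHomogeneousIdeal.toIdeal =
      Ideal.comap (𝒮.res c.hU d.hU hle).toRingHom d.y.asHomogeneousIdeal.toIdeal) :
    Function.Injective (tauM 𝒮 p chart ℳ c d hle h) := by
  obtain ⟨h1, h2, h3⟩ := res_facts 𝒮 c.hU d.hU r hr hle
  obtain ⟨h2M, h3M⟩ := res_factsM hℳ c.hU d.hU r hr hle
  exact RelTildeAlg.locModMap'_injective (𝒮.res c.hU d.hU hle)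
    (RelTwistVal.irrelevant_le_map_of_eq 𝒮 c.hU d.hU r hr hle) (ℳ.res c.hU d.hU hle) _ h1 h2 h3M c.y d.y h

theorem tauM_mem (n : ℤ) {x : P} (c d : Ch 𝒮 p chart x) (r : Γ(Y, c.U)) (hr : d.U = Y.basicOpen r) (hle : d.U ≤ c.U)
    (h : c.y.asHomogeneousIdeal.toIdeal =
      Ideal.comap (𝒮.res c.hU d.hU hle).toRingHom d.y.asHomogeneousIdeal.toIdeal)
    {q : GrMod.LocMod (𝒮.deg c.U c.hU) (M := ℳ.mod.val.obj (op c.U)) c.y}
    (hq : q ∈ GrMod.tildeAt (𝒮.deg c.U c.hU) (ℳ.deg c.U c.hU) n c.y) :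
    tauM 𝒮 p chart ℳ c d hle h q ∈ GrMod.tildeAt (𝒮.deg d.U d.hU) (ℳ.deg d.U d.hU) n d.y :=
  RelTildeAlg.locModMap'_mem (𝒮.res c.hU d.hU hle)
    (RelTwistVal.irrelevant_le_map_of_eq 𝒮 c.hU d.hU r hr hle) (ℳ.res c.hU d.hU hle)
    (fun i m hm => ℳ.res_mem c.hU d.hU hle i m hm) n c.y d.y h hq

include hℳ in
theorem tauM_surj (n : ℤ) {x : P} (c d : Ch 𝒮 p chart x) (r : Γ(Y, c.U)) (hr : d.U = Y.basicOpen r) (hle : d.U ≤ c.U)
    (h : c.y.asHomogeneousIdeal.toIdeal =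
      Ideal.comap (𝒮.res c.hU d.hU hle).toRingHom d.y.asHomogeneousIdeal.toIdeal)
    {q : GrMod.LocMod (𝒮.deg d.U d.hU) (M := ℳ.mod.val.obj (op d.U)) d.y}
    (hq : q ∈ GrMod.tildeAt (𝒮.deg d.U d.hU) (ℳ.deg d.U d.hU) n d.y) :
    ∃ q' ∈ GrMod.tildeAt (𝒮.deg c.U c.hU) (ℳ.deg c.U c.hU) n c.y, tauM 𝒮 p chart ℳ c d hle h q' = q := by
  obtain ⟨h1, h2, h3⟩ := res_facts 𝒮 c.hU d.hU r hr hle
  obtain ⟨h2M, h3M⟩ := res_factsM hℳ c.hU d.hU r hr hle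
  exact RelTildeAlg.exists_locModMap'_eq (𝒮.res c.hU d.hU hle)
    (RelTwistVal.irrelevant_le_map_of_eq 𝒮 c.hU d.hU r hr hle) (ℳ.res c.hU d.hU hle)
    (fun i m hm => ℳ.res_mem c.hU d.hU hle i m hm) _ (𝒮.str_mem c.U c.hU r) h1 h2 h2M n c.y d.y h hq

theorem tauM_comp {x : P} (c d d' : Ch 𝒮 p chart x) (hle : d.U ≤ c.U) (hle' : d'.U ≤ d.U)
    (h₁ : c.y.asHomogeneousIdeal.toIdeal =
      Ideal.comap (𝒮.res c.hU d.hU hle).toRingHom d.y.asHomogeneousIdeal.toIdeal)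
    (h₂ : d.y.asHomogeneousIdeal.toIdeal =
      Ideal.comap (𝒮.res d.hU d'.hU hle').toRingHom d'.y.asHomogeneousIdeal.toIdeal)
    (h₃ : c.y.asHomogeneousIdeal.toIdeal =
      Ideal.comap (𝒮.res c.hU d'.hU (hle'.trans hle)).toRingHom d'.y.asHomogeneousIdeal.toIdeal)
    (q : GrMod.LocMod (𝒮.deg c.U c.hU) (M := ℳ.mod.val.obj (op c.U)) c.y) :
    tauM 𝒮 p chart ℳ d d' hle' h₂ (tauM 𝒮 p chart ℳ c d hle h₁ q) =
      tauM 𝒮 p chart ℳ c d' (hle'.trans hle) h₃ q := by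
  refine RelTildeAlg.locModMap'_comp _ _ _ (fun a => ?_) _ _ _ (fun m => ?_) c.y d.y d'.y h₁ h₂ h₃ q
  · have e := RelProjExists.res_comp 𝒮 c.hU d.hU d'.hU hle hle'
    exact congrArg (fun F => F a) e
  · change (ℳ.mod.val.map (homOfLE (hle'.trans hle)).op).hom m =
      (ℳ.mod.val.map (homOfLE hle').op).hom ((ℳ.mod.val.map (homOfLE hle).op).hom m)
    have e : (homOfLE (hle'.trans hle)).op = (homOfLE hle).op ≫ (homOfLE hle').op := rfl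
    rw [e, PresheafOfModules.map_comp]
    rfl

theorem sec_congr (n : ℤ) {W : P.Opens} (f : ∀ x : W, T 𝒮 p chart ℳ n x.1) (x x' : W) (h : x.1 = x'.1)
    (U : Y.Opens) (hU : IsAffineOpen U) (y : ProjectiveSpectrum (𝒮.deg U hU))
    (h1 : (RelProj.emb p chart U hU).base y = x.1) (h2 : (RelProj.emb p chart U hU).base y = x'.1) :
    ((f x ⟨U, hU, y, h1⟩ : GrMod.tildeAt (𝒮.deg U hU) (ℳ.deg U hU) n y) :
        GrMod.LocMod (𝒮.deg U hU) (M := ℳ.mod.val.obj (op U)) y) =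
      ((f x' ⟨U, hU, y, h2⟩ : GrMod.tildeAt (𝒮.deg U hU) (ℳ.deg U hU) n y) :
        GrMod.LocMod (𝒮.deg U hU) (M := ℳ.mod.val.obj (op U)) y) := by
  obtain ⟨x, hx⟩ := x
  obtain ⟨x', hx'⟩ := x'
  dsimp only at h h1 h2
  subst h
  rfl


variable (hP : RelProj.IsRelProj 𝒮 p chart)

omit hℳ in
/-- the compatibility clause of `IsRelTilde` for the constructed module -/
theorem compat_aux (n : ℤ) (U : Y.Opens) (hU : IsAffineOpen U) (r : Γ(Y, U)) (W : P.Opens)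
    (s : sectL 𝒮 p chart ℳ hP n (op W))
    (y : ProjectiveSpectrum (𝒮.deg (Y.basicOpen r) (hU.basicOpen r)))
    (hy : (RelProj.emb p chart (Y.basicOpen r) (hU.basicOpen r)).base y ∈ W)
    (hy' : (RelProj.emb p chart U hU).base (ProjectiveSpectrum.comap
      (𝒮.res hU (hU.basicOpen r) (Y.basicOpen_le r)) (𝒮.irrelevant_le_map U hU r) y) ∈ W) :
    ((s.1 ⟨_, hy⟩ ⟨Y.basicOpen r, hU.basicOpen r, y, rfl⟩ :
        GrMod.tildeAt (𝒮.deg (Y.basicOpen r) (hU.basicOpen r)) (ℳ.deg (Y.basicOpen r) (hU.basicOpen r)) n y) :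
        GrMod.LocMod (𝒮.deg (Y.basicOpen r) (hU.basicOpen r)) (M := ℳ.mod.val.obj (op (Y.basicOpen r))) y) =
      GrMod.locModMap (𝒮.res hU (hU.basicOpen r) (Y.basicOpen_le r)) (𝒮.irrelevant_le_map U hU r)
        (ℳ.res hU (hU.basicOpen r) (Y.basicOpen_le r)) y
        (s.1 ⟨_, hy'⟩ ⟨U, hU, _, rfl⟩).1 := by
  have hemb := RelProjQC.emb_basic_apply hP U hU r y
  have key := s.2.2 ⟨_, hy⟩ ⟨U, hU, ProjectiveSpectrum.comap
      (𝒮.res hU (hU.basicOpen r) (Y.basicOpen_le r)) (𝒮.irrelevant_le_map U hU r) y, hemb.symm⟩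
    ⟨Y.basicOpen r, hU.basicOpen r, y, rfl⟩ r rfl (Y.basicOpen_le r) rfl
  refine key.trans ?_
  rw [RelTildeAlg.locModMap_eq_locModMap']
  refine congrArg (RelTildeAlg.locModMap' (𝒮.res hU (hU.basicOpen r) (Y.basicOpen_le r)).toRingHom
    (ℳ.res hU (hU.basicOpen r) (Y.basicOpen_le r)) _ y rfl) ?_
  exact sec_congr n s.1 _ _ hemb U hU _ _ _

omit hℳ in
theorem compat (n : ℤ) (U : Y.Opens) (hU : IsAffineOpen U) (r : Γ(Y, U)) (W : P.Opens)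
    (s : Γ(L 𝒮 p chart ℳ hP n, W))
    (y : ProjectiveSpectrum (𝒮.deg (Y.basicOpen r) (hU.basicOpen r)))
    (hy : (RelProj.emb p chart (Y.basicOpen r) (hU.basicOpen r)).base y ∈ W)
    (hy' : (RelProj.emb p chart U hU).base (ProjectiveSpectrum.comap
      (𝒮.res hU (hU.basicOpen r) (Y.basicOpen_le r)) (𝒮.irrelevant_le_map U hU r) y) ∈ W) :
    GrMod.val (V := RelProj.emb p chart (Y.basicOpen r) (hU.basicOpen r) ⁻¹ᵁ W)
        ((lam 𝒮 p chart ℳ hP n (Y.basicOpen r) (hU.basicOpen r)).app W s) ⟨y, hy⟩ =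
      GrMod.locModMap (𝒮.res hU (hU.basicOpen r) (Y.basicOpen_le r)) (𝒮.irrelevant_le_map U hU r)
        (ℳ.res hU (hU.basicOpen r) (Y.basicOpen_le r)) y
        (GrMod.val (V := RelProj.emb p chart U hU ⁻¹ᵁ W) ((lam 𝒮 p chart ℳ hP n U hU).app W s) ⟨_, hy'⟩) :=
  compat_aux hP n U hU r W s y hy hy'

include hℳ in
/-- the chart identification is injective on sections over opens lying over the affine open -/
theorem lamApp_injective (n : ℤ) (U : Y.Opens) (hU : IsAffineOpen U) (W : P.Opens) (hW : W ≤ p ⁻¹ᵁ U) :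
    Function.Injective (lamApp 𝒮 p chart ℳ hP n U hU W) := by
  intro s s' h
  apply Subtype.ext
  funext x c
  apply Subtype.ext
  obtain ⟨yU, hyU⟩ := exists_chart (𝒮 := 𝒮) (chart := chart) U hU x.1 (hW x.2)
  obtain ⟨d, r, r', hr, hr'⟩ := exists_common c (⟨U, hU, yU, hyU⟩ : Ch 𝒮 p chart x.1)
  have hle : d.U ≤ c.U := Ch.le_of_eq hr
  have hle' : d.U ≤ U := Ch.le_of_eq (c := (⟨U, hU, yU, hyU⟩ : Ch 𝒮 p chart x.1)) hr'
  have hid := ideal_eq hP c d r hr hle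
  have hid' := ideal_eq hP (⟨U, hU, yU, hyU⟩ : Ch 𝒮 p chart x.1) d r' hr' hle'
  have e1 := s.2.2 x c d r hr hle hid
  have e1' := s'.2.2 x c d r hr hle hid
  have e2 := s.2.2 x ⟨U, hU, yU, hyU⟩ d r' hr' hle' hid'
  have e2' := s'.2.2 x ⟨U, hU, yU, hyU⟩ d r' hr' hle' hid'
  have hmem : (RelProj.emb p chart U hU).base yU ∈ W := by rw [hyU]; exact x.2
  have h0 : ((s.1 ⟨_, hmem⟩ ⟨U, hU, yU, rfl⟩ : GrMod.tildeAt (𝒮.deg U hU) (ℳ.deg U hU) n yU) :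
        GrMod.LocMod (𝒮.deg U hU) (M := ℳ.mod.val.obj (op U)) yU) =
      ((s'.1 ⟨_, hmem⟩ ⟨U, hU, yU, rfl⟩ : GrMod.tildeAt (𝒮.deg U hU) (ℳ.deg U hU) n yU) :
        GrMod.LocMod (𝒮.deg U hU) (M := ℳ.mod.val.obj (op U)) yU) :=
    congrArg (fun t : GrMod.sect (𝒮.deg U hU) (ℳ.deg U hU) n (op (RelProj.emb p chart U hU ⁻¹ᵁ W)) =>
      ((t.1 ⟨yU, hmem⟩ : GrMod.tildeAt (𝒮.deg U hU) (ℳ.deg U hU) n yU) :
        GrMod.LocMod (𝒮.deg U hU) (M := ℳ.mod.val.obj (op U)) yU)) h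
  have hUeq : ((s.1 x ⟨U, hU, yU, hyU⟩ : GrMod.tildeAt (𝒮.deg U hU) (ℳ.deg U hU) n yU) :
        GrMod.LocMod (𝒮.deg U hU) (M := ℳ.mod.val.obj (op U)) yU) =
      ((s'.1 x ⟨U, hU, yU, hyU⟩ : GrMod.tildeAt (𝒮.deg U hU) (ℳ.deg U hU) n yU) :
        GrMod.LocMod (𝒮.deg U hU) (M := ℳ.mod.val.obj (op U)) yU) :=
    (sec_congr n s.1 x ⟨_, hmem⟩ hyU.symm U hU yU hyU rfl).trans
      (h0.trans (sec_congr n s'.1 x ⟨_, hmem⟩ hyU.symm U hU yU hyU rfl).symm)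
  apply tauM_injective hℳ c d r hr hle hid
  rw [← e1, ← e1', e2, e2', hUeq]

end Groth.Agent.Lib.Helper28.RelTildeEx
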