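import Groth.Agent.Lib.Helper28.GrModMul
import Groth.Agent.Lib.Helper28.RelTildeCompat
import Groth.Agent.Lib.Helper28.RelTwistVal
import Groth.Agent.Lib.Helper28.AmpleH1A
import Groth.Agent.Lib.Helper28.TwistIso

/-!
# `(ℳ(n))~ ≅ ℳ~ ⊗ O_P(n)` on a relative `Proj` of an algebra generated in degree one
-/

set_option autoImplicit false
universe u
open CategoryTheory CategoryTheory.Limits AlgebraicGeometry Opposite TopologicalSpace
open scoped HomogeneousIdeal
noncomputable section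

namespace Groth.Agent.Lib.Helper28.RelTildeTensor

open Groth.Agent.Lib.Helper28 Groth.Agent.Lib.Helper28.QCohLoc Groth.Agent.Lib.Helper28.TensorGen
  Groth.Agent.Lib.Helper28.GenLocus

section proj

variable {A σ : Type u} [CommRing A] [SetLike σ A] [AddSubgroupClass σ A] (𝒜 : ℕ → σ) [GradedRing 𝒜]
variable {M τ : Type u} [AddCommGroup M] [Module A M] [SetLike τ M] [AddSubgroupClass τ M] (ℳ : ℕ → τ)
  [DirectSum.Decomposition ℳ] [SetLike.GradedSMul 𝒜 ℳ]

/-- multiplication by the generator `f^n` of `O(n d)` over an open of `D₊(f)` is bijective -/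
theorem mulTw_bijective {f : A} {d : ℕ} (hf : f ∈ 𝒜 d) (hd : 0 < d) (m n κ k : ℤ) (hκ : κ = n * d)
    (hk : k = m + κ) {V : (Proj 𝒜).Opens} (hV : V ≤ Proj.basicOpen 𝒜 f) (g : Γ(GrTwist.twist 𝒜 κ, V))
    (hg : ∀ x : V, GrTwistQC.val 𝒜 g x =
      GrTwistGenVal.pw 𝒜 x.1 f ((Proj.mem_basicOpen 𝒜 f x.1).1 (hV x.2)) n) :
    Function.Bijective (fun s : Γ(GrMod.tilde 𝒜 ℳ m, V) => GrModMul.mulTw 𝒜 ℳ m κ k hk s g) := by
  obtain ⟨γ', hγ', -⟩ := GrTwistGenVal.exists_generator 𝒜 hf hd (-κ) (-n) (by rw [hκ]; ring)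
  have hg' : ∀ x : V, GrTwistQC.val 𝒜 (res (GrTwist.twist 𝒜 (-κ)) hV γ') x =
      GrTwistGenVal.pw 𝒜 x.1 f ((Proj.mem_basicOpen 𝒜 f x.1).1 (hV x.2)) (-n) := fun x => hγ' ⟨x.1, hV x.2⟩
  have hm : m = k + -κ := by omega
  refine Function.bijective_iff_has_inverse.2
    ⟨fun s' => GrModMul.mulTw 𝒜 ℳ k (-κ) m hm s' (res (GrTwist.twist 𝒜 (-κ)) hV γ'), fun s => ?_, fun s' => ?_⟩
  · apply GrModQC.ext_val; intro x
    rw [GrModMul.val_mulTw, GrModMul.val_mulTw, hg', hg, ← mul_smul, mul_comm, GrTwistGenVal.pw_mul_neg, one_smul]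
  · apply GrModQC.ext_val; intro x
    rw [GrModMul.val_mulTw, GrModMul.val_mulTw, hg', hg, ← mul_smul, GrTwistGenVal.pw_mul_neg, one_smul]

end proj

section induction

variable {X : Scheme.{u}} (F L : X.Modules)

/-- a local, additive property of the sections of `F ⊗ L` holds as soon as it holds for the pure tensors -/
theorem tensor_induction (Pr : ∀ W : X.Opens, Γ(CohB1.tensorMod F L, W) → Prop)
    (hloc : ∀ (W : X.Opens) (s : Γ(CohB1.tensorMod F L, W)),
      (∀ pt : X, pt ∈ W → ∃ (V : X.Opens) (hV : V ≤ W), pt ∈ V ∧ Pr V (res _ hV s)) → Pr W s)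
    (hpure : ∀ (W : X.Opens) (x : Γ(F, W)) (l : Γ(L, W)), Pr W (tmulSec F L x l))
    (hzero : ∀ W : X.Opens, Pr W 0)
    (hadd : ∀ (W : X.Opens) (s s' : Γ(CohB1.tensorMod F L, W)), Pr W s → Pr W s' → Pr W (s + s'))
    (W : X.Opens) (s : Γ(CohB1.tensorMod F L, W)) : Pr W s := by
  refine hloc W s fun pt hpt => ?_
  obtain ⟨V, hV, hptV, z, hz⟩ := exists_ηT_eq F L s pt hpt
  refine ⟨V, hV, hptV, ?_⟩
  rw [← hz]
  clear hz
  induction z using TensorProduct.induction_on with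
  | zero =>
    have h0 : (ηT F L).app (op V) 0 = 0 := map_zero ((ηT F L).app (op V)).hom
    exact h0 ▸ hzero V
  | tmul m e => exact hpure V m e
  | add z z' hz hz' =>
    have h0 : (ηT F L).app (op V) (z + z') = (ηT F L).app (op V) z + (ηT F L).app (op V) z' :=
      map_add ((ηT F L).app (op V)).hom z z'
    exact h0 ▸ hadd V _ _ hz hz'

end induction


section main

variable {Y P : Scheme.{u}} {𝒮 : RelProj.QCGrAlg Y} {p : P ⟶ Y}
  {chart : ∀ (U : Y.Opens) (hU : IsAffineOpen U), (((p ⁻¹ᵁ U : P.Opens) : Scheme.{u}) ≅ Proj (𝒮.deg U hU))}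
  (ℳ : RelProj.GrModule 𝒮) (n : ℤ) (F L : P.Modules)
  (lam : ∀ (U : Y.Opens) (hU : IsAffineOpen U),
    F ⟶ (Scheme.Modules.pushforward (RelProj.emb p chart U hU)).obj (GrMod.tilde (𝒮.deg U hU) (ℳ.deg U hU) 0))
  (lamL : ∀ (U : Y.Opens) (hU : IsAffineOpen U),
    L ⟶ (Scheme.Modules.pushforward (RelProj.emb p chart U hU)).obj (GrTwist.twist (𝒮.deg U hU) n))

/-- the chartwise product of a section of `ℳ~` and a section of `O_P(n)` -/
def β (U : Y.Opens) (hU : IsAffineOpen U) (W : P.Opens) (x : Γ(F, W)) (l : Γ(L, W)) :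
    Γ((Scheme.Modules.pushforward (RelProj.emb p chart U hU)).obj (GrMod.tilde (𝒮.deg U hU) (ℳ.deg U hU) n), W) :=
  GrModMul.mulTw (𝒮.deg U hU) (ℳ.deg U hU) 0 n n (zero_add n).symm
    (V := RelProj.emb p chart U hU ⁻¹ᵁ W) ((lam U hU).app W x) ((lamL U hU).app W l)

/-- the chartwise multiplication map `ℳ~ ⊗ O_P(n) ⟶ (emb U)_* (ℳ(U)(n))~` -/
def μ (U : Y.Opens) (hU : IsAffineOpen U) :
    CohB1.tensorMod F L ⟶
      (Scheme.Modules.pushforward (RelProj.emb p chart U hU)).obj (GrMod.tilde (𝒮.deg U hU) (ℳ.deg U hU) n) :=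
  TensorIso.lift _ _ (TensorIso.tensorDesc F L _ (β ℳ n F L lam lamL U hU)
    (fun W m m' l => by
      unfold β
      rw [map_add]
      exact GrModMul.mulTw_add_left _ _ _ _ _ _ _ _ _)
    (fun W m l l' => by
      unfold β
      rw [map_add]
      exact GrModMul.mulTw_add_right _ _ _ _ _ _ _ _ _)
    (fun W a m l => by
      unfold β
      rw [lam_smul]
      exact GrModMul.mulTw_smul_left _ _ _ _ _ _ _ _ _)
    (fun W a m l => by
      unfold β
      rw [lam_smul]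
      exact GrModMul.mulTw_smul_right _ _ _ _ _ _ _ _ _)
    (fun W W' h m l => by
      unfold β
      rw [lam_res, lam_res]
      exact GrModMul.mulTw_res _ _ _ _ _ _ _ _ _))

theorem μ_app_tmulSec (U : Y.Opens) (hU : IsAffineOpen U) {W : P.Opens} (x : Γ(F, W)) (l : Γ(L, W)) :
    (μ ℳ n F L lam lamL U hU).app W (tmulSec F L x l) = β ℳ n F L lam lamL U hU W x l := by
  unfold μ tmulSec ηT
  exact AmpleH1.lift_app_unit _ _ _ W (ptmul F L x l)

end main


section glue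

variable {Y P : Scheme.{u}} {𝒮 : RelProj.QCGrAlg Y} {p : P ⟶ Y}
  {chart : ∀ (U : Y.Opens) (hU : IsAffineOpen U), (((p ⁻¹ᵁ U : P.Opens) : Scheme.{u}) ≅ Proj (𝒮.deg U hU))}
  {ℳ : RelProj.GrModule 𝒮} {n : ℤ} {F L : P.Modules}
  {lam : ∀ (U : Y.Opens) (hU : IsAffineOpen U),
    F ⟶ (Scheme.Modules.pushforward (RelProj.emb p chart U hU)).obj (GrMod.tilde (𝒮.deg U hU) (ℳ.deg U hU) 0)}
  {lamL : ∀ (U : Y.Opens) (hU : IsAffineOpen U),
    L ⟶ (Scheme.Modules.pushforward (RelProj.emb p chart U hU)).obj (GrTwist.twist (𝒮.deg U hU) n)}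
  (hP : RelProj.IsRelProj 𝒮 p chart)
  (hF : RelProj.IsRelTilde 𝒮 p chart ℳ 0 F lam) (hL : RelProj.IsRelTwist 𝒮 p chart n L lamL)

include hP hF hL in
/-- the chartwise multiplication maps are compatible with passage to basic opens, valuewise -/
theorem val_μ_basic (U : Y.Opens) (hU : IsAffineOpen U) (r : Γ(Y, U)) (W : P.Opens)
    (s : Γ(CohB1.tensorMod F L, W)) :
    ∀ (y : ProjectiveSpectrum (𝒮.deg (Y.basicOpen r) (hU.basicOpen r)))
      (hy : (RelProj.emb p chart (Y.basicOpen r) (hU.basicOpen r)).base y ∈ W)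
      (hy' : (RelProj.emb p chart U hU).base (ProjectiveSpectrum.comap
        (𝒮.res hU (hU.basicOpen r) (Y.basicOpen_le r)) (𝒮.irrelevant_le_map U hU r) y) ∈ W),
      GrMod.val (V := RelProj.emb p chart (Y.basicOpen r) (hU.basicOpen r) ⁻¹ᵁ W)
          ((μ ℳ n F L lam lamL (Y.basicOpen r) (hU.basicOpen r)).app W s) ⟨y, hy⟩ =
        GrMod.locModMap (𝒮.res hU (hU.basicOpen r) (Y.basicOpen_le r)) (𝒮.irrelevant_le_map U hU r)
          (ℳ.res hU (hU.basicOpen r) (Y.basicOpen_le r)) y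
          (GrMod.val (V := RelProj.emb p chart U hU ⁻¹ᵁ W) ((μ ℳ n F L lam lamL U hU).app W s) ⟨_, hy'⟩) := by
  refine tensor_induction F L (fun W s => ∀ (y : ProjectiveSpectrum (𝒮.deg (Y.basicOpen r) (hU.basicOpen r)))
      (hy : (RelProj.emb p chart (Y.basicOpen r) (hU.basicOpen r)).base y ∈ W)
      (hy' : (RelProj.emb p chart U hU).base (ProjectiveSpectrum.comap
        (𝒮.res hU (hU.basicOpen r) (Y.basicOpen_le r)) (𝒮.irrelevant_le_map U hU r) y) ∈ W),
      GrMod.val (V := RelProj.emb p chart (Y.basicOpen r) (hU.basicOpen r) ⁻¹ᵁ W)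
          ((μ ℳ n F L lam lamL (Y.basicOpen r) (hU.basicOpen r)).app W s) ⟨y, hy⟩ =
        GrMod.locModMap (𝒮.res hU (hU.basicOpen r) (Y.basicOpen_le r)) (𝒮.irrelevant_le_map U hU r)
          (ℳ.res hU (hU.basicOpen r) (Y.basicOpen_le r)) y
          (GrMod.val (V := RelProj.emb p chart U hU ⁻¹ᵁ W) ((μ ℳ n F L lam lamL U hU).app W s) ⟨_, hy'⟩))
    ?_ ?_ ?_ ?_ W s
  · intro W s h y hy hy'
    obtain ⟨V, hV, hptV, hPr⟩ := h _ hy
    have hyV' : (RelProj.emb p chart U hU).base (ProjectiveSpectrum.comap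
        (𝒮.res hU (hU.basicOpen r) (Y.basicOpen_le r)) (𝒮.irrelevant_le_map U hU r) y) ∈ V := by
      rw [← RelProjQC.emb_basic_apply hP]; exact hptV
    have h1 := hPr y hptV hyV'
    rw [lam_res, lam_res] at h1
    exact h1
  · intro W x l y hy hy'
    have c1 := hF.compat U hU r W x y hy hy'
    have c2 := hL.compat U hU r W l y hy hy'
    rw [μ_app_tmulSec, μ_app_tmulSec]
    unfold β
    refine (GrModMul.val_mulTw _ _ 0 n n _ _ _ ⟨y, hy⟩).trans ?_
    refine Eq.trans ?_ (congrArg _ (GrModMul.val_mulTw _ _ 0 n n _ _ _ ⟨_, hy'⟩).symm)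
    rw [GrMod.locModMap_smul]
    exact congrArg₂ (· • ·) c2 c1
  · intro W y hy hy'
    rw [map_zero, map_zero]
    exact (map_zero _).symm
  · intro W s s' hs hs' y hy hy'
    rw [map_add, map_add]
    refine (GrModFin.val_add _ _ _ _ ⟨y, hy⟩).trans ?_
    refine Eq.trans ?_ (congrArg _ (GrModFin.val_add _ _ _ _ ⟨_, hy'⟩).symm)
    rw [map_add]
    exact congrArg₂ (· + ·) (hs y hy hy') (hs' y hy hy')


variable {F' : P.Modules}
  {lam' : ∀ (U : Y.Opens) (hU : IsAffineOpen U),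
    F' ⟶ (Scheme.Modules.pushforward (RelProj.emb p chart U hU)).obj (GrMod.tilde (𝒮.deg U hU) (ℳ.deg U hU) n)}
  (hF' : RelProj.IsRelTilde 𝒮 p chart ℳ n F' lam')

include hP hF hL hF' in
theorem hbasic_μ (U : Y.Opens) (hU : IsAffineOpen U) (r : Γ(Y, U)) (W : P.Opens)
    (_ : W ≤ p ⁻¹ᵁ (Y.basicOpen r)) (s : Γ(CohB1.tensorMod F L, W)) (s' : Γ(F', W))
    (h : (μ ℳ n F L lam lamL U hU).app W s = (lam' U hU).app W s') :
    (μ ℳ n F L lam lamL (Y.basicOpen r) (hU.basicOpen r)).app W s =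
      (lam' (Y.basicOpen r) (hU.basicOpen r)).app W s' := by
  refine GrModQC.ext_val (𝒮.deg (Y.basicOpen r) (hU.basicOpen r)) (ℳ.deg (Y.basicOpen r) (hU.basicOpen r))
    (V := (RelProj.emb p chart (Y.basicOpen r) (hU.basicOpen r)) ⁻¹ᵁ W) _ _ fun y => ?_
  have hy : (RelProj.emb p chart (Y.basicOpen r) (hU.basicOpen r)).base y.1 ∈ W := y.2
  have hy' : (RelProj.emb p chart U hU).base (ProjectiveSpectrum.comap
      (𝒮.res hU (hU.basicOpen r) (Y.basicOpen_le r)) (𝒮.irrelevant_le_map U hU r) y.1) ∈ W := by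
    rw [← RelProjQC.emb_basic_apply hP]; exact hy
  have c1 := val_μ_basic hP hF hL U hU r W s y.1 hy hy'
  have c2 := hF'.compat U hU r W s' y.1 hy hy'
  rw [h] at c1
  exact c1.trans c2.symm

include hP hF hL hF' in
/-- **`(ℳ(n))~ ≅ ℳ~ ⊗ O_P(n)`** on the relative `Proj` of an algebra generated in degree one -/
theorem nonempty_iso (hgen : 𝒮.IsGenDegOne) : Nonempty (F' ≅ CohB1.tensorMod F L) := by
  obtain ⟨ut, hut, -⟩ := RelProjQC.existsUnique_hom_of_charts p chart (CohB1.tensorMod F L) F' _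
    (μ ℳ n F L lam lamL) lam' hF'.bijective (hbasic_μ hP hF hL hF')
  have hiso : IsIso ut := TensorIso.isIso_of_bijective_on_basis ut
    (fun W => ∃ (V : Y.affineOpens) (Fd : 𝒮.presheaf.obj (op V.1)), Fd ∈ 𝒮.deg V.1 V.2 1 ∧
       W ≤ RelProj.emb p chart V.1 V.2 ''ᵁ Proj.basicOpen (𝒮.deg V.1 V.2) Fd) ?_ ?_
  · exact ⟨(asIso ut).symm⟩
  · intro U0 x hx
    obtain ⟨V, y, hy⟩ := RelProjQC.exists_mem_opensRange_emb p chart x
    obtain ⟨Fd, hFd, hyF⟩ := RelTwistLocal.cover_of_closure (𝒮.deg V.1 V.2) (hgen V.1 V.2) y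
    exact ⟨U0 ⊓ (RelProj.emb p chart V.1 V.2 ''ᵁ Proj.basicOpen (𝒮.deg V.1 V.2) Fd),
      ⟨V, Fd, hFd, inf_le_right⟩, ⟨hx, y, hyF, hy⟩, inf_le_left⟩
  · rintro W ⟨V, Fd, hFd, hW⟩
    have hWle : W ≤ p ⁻¹ᵁ V.1 := hW.trans ((Scheme.Hom.image_le_opensRange _ _).trans
      (RelProjQC.opensRange_emb p chart V.1 V.2).le)
    have h1 : (lam' V.1 V.2).app W ∘ ut.app W = (μ ℳ n F L lam lamL V.1 V.2).app W := by
      funext s
      exact congrArg (fun φ => Scheme.Modules.Hom.app φ W s) (hut V.1 V.2)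
    suffices hμ : Function.Bijective ((μ ℳ n F L lam lamL V.1 V.2).app W) by
      rw [← h1] at hμ
      exact (Function.Bijective.of_comp_iff' (hF'.bijective V.1 V.2 W hWle) _).1 hμ
    obtain ⟨g, hg, hread⟩ := RelTwistVal.exists_gen_reads hL V.2 hFd Nat.one_pos n (by simp)
    have hgW := hg.res hW
    have hreadW := hread.res hW
    have hV : RelProj.emb p chart V.1 V.2 ⁻¹ᵁ W ≤ Proj.basicOpen (𝒮.deg V.1 V.2) Fd := by
      intro z hz
      obtain ⟨z', hz', hzz'⟩ := hW hz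
      have : z' = z := (RelProj.emb p chart V.1 V.2).isOpenEmbedding.injective hzz'
      rwa [← this]
    have h2 : (μ ℳ n F L lam lamL V.1 V.2).app W ∘ (fun x => tmulSec F L x (res L hW g)) =
        (fun s => GrModMul.mulTw (𝒮.deg V.1 V.2) (ℳ.deg V.1 V.2) 0 n n (zero_add n).symm
          (V := RelProj.emb p chart V.1 V.2 ⁻¹ᵁ W) s ((lamL V.1 V.2).app W (res L hW g))) ∘
          (lam V.1 V.2).app W := by
      funext x
      exact μ_app_tmulSec ℳ n F L lam lamL V.1 V.2 x (res L hW g)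
    have hb : Function.Bijective
        ((fun s => GrModMul.mulTw (𝒮.deg V.1 V.2) (ℳ.deg V.1 V.2) 0 n n (zero_add n).symm
          (V := RelProj.emb p chart V.1 V.2 ⁻¹ᵁ W) s ((lamL V.1 V.2).app W (res L hW g))) ∘
          (lam V.1 V.2).app W) := by
      refine Function.Bijective.comp ?_ (hF.bijective V.1 V.2 W hWle)
      refine mulTw_bijective (𝒮.deg V.1 V.2) (ℳ.deg V.1 V.2) hFd Nat.one_pos 0 n n n (by simp)
        (zero_add n).symm hV _ fun x => ?_
      obtain ⟨hFz, hval⟩ := hreadW x.1 x.2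
      exact hval
    rw [← h2] at hb
    exact (Function.Bijective.of_comp_iff _ (tmulSec_right_bijective F L hgW)).1 hb

end glue

end Groth.Agent.Lib.Helper28.RelTildeTensor
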