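import Groth.Agent.Lib.Helper28.RelTwistHom
import Groth.Agent.S8291

/-!
# Base change of relative twisting sheaves: the comparison morphism `O_P(n) ⟶ g_* O_{P'}(n)`
-/

set_option autoImplicit false
universe u
open CategoryTheory CategoryTheory.Limits AlgebraicGeometry Opposite TopologicalSpace
open scoped HomogeneousIdeal
noncomputable section

namespace Groth.Agent.Lib.Helper28.RelTwistBC

open Groth.Agent.Lib.Helper28 Groth.Agent.Lib.Helper28.QCohLoc Groth.Agent.Lib.Helper28.GenLocus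
  Groth.Agent.Lib.Helper28.RelTwistVal

section alg

variable {A σA : Type u} [CommRing A] [SetLike σA A] [AddSubgroupClass σA A] {𝒜 : ℕ → σA} [GradedRing 𝒜]
variable {B σB : Type u} [CommRing B] [SetLike σB B] [AddSubgroupClass σB B] {ℬ : ℕ → σB} [GradedRing ℬ]
variable {C σC : Type u} [CommRing C] [SetLike σC C] [AddSubgroupClass σC C] {𝒞 : ℕ → σC} [GradedRing 𝒞]
variable (ψ₁ : 𝒜 →+*ᵍ ℬ) (h₁ : ℬ₊ ≤ (𝒜₊).map ψ₁) (ψ₂ : ℬ →+*ᵍ 𝒞) (h₂ : 𝒞₊ ≤ (ℬ₊).map ψ₂)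
  (ψ₃ : 𝒜 →+*ᵍ 𝒞) (h₃ : 𝒞₊ ≤ (𝒜₊).map ψ₃)

theorem comap_comp_eq (hcomm : ∀ a, ψ₃ a = ψ₂ (ψ₁ a)) (y : ProjectiveSpectrum 𝒞) :
    ProjectiveSpectrum.comap ψ₃ h₃ y =
      ProjectiveSpectrum.comap ψ₁ h₁ (ProjectiveSpectrum.comap ψ₂ h₂ y) := by
  apply ProjectiveSpectrum.ext
  apply HomogeneousIdeal.ext
  ext a
  show ψ₃ a ∈ y.asHomogeneousIdeal ↔ ψ₂ (ψ₁ a) ∈ y.asHomogeneousIdeal
  rw [hcomm]

/-- `locMap` of a composite, on a common value function -/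
theorem locMap_comp_eq (hcomm : ∀ a, ψ₃ a = ψ₂ (ψ₁ a)) (y : ProjectiveSpectrum 𝒞)
    (Q : ProjectiveSpectrum 𝒜 → Prop) (G : ∀ z : ProjectiveSpectrum 𝒜, Q z → GrTwist.Loc 𝒜 z)
    (hz : Q (ProjectiveSpectrum.comap ψ₃ h₃ y))
    (hz' : Q (ProjectiveSpectrum.comap ψ₁ h₁ (ProjectiveSpectrum.comap ψ₂ h₂ y))) :
    GrTwist.locMap ψ₃ h₃ y (G _ hz) =
      GrTwist.locMap ψ₂ h₂ y (GrTwist.locMap ψ₁ h₁ _ (G _ hz')) := by
  have hrep : ∀ (z₁ z₂ : ProjectiveSpectrum 𝒜) (_ : z₁ = z₂) (hz₁ : Q z₁) (hz₂ : Q z₂),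
      ∃ (a s : A) (hs₁ : s ∈ z₁.asHomogeneousIdeal.toIdeal.primeCompl)
        (hs₂ : s ∈ z₂.asHomogeneousIdeal.toIdeal.primeCompl),
        G z₁ hz₁ = Localization.mk a ⟨s, hs₁⟩ ∧ G z₂ hz₂ = Localization.mk a ⟨s, hs₂⟩ := by
    intro z₁ z₂ e hz₁ hz₂
    subst e
    induction hq : G z₁ hz₁ using Localization.induction_on with
    | H as => exact ⟨as.1, as.2.1, as.2.2, as.2.2, rfl, rfl⟩
  obtain ⟨a, s, hs₁, hs₂, e₁, e₂⟩ := hrep _ _ (comap_comp_eq ψ₁ h₁ ψ₂ h₂ ψ₃ h₃ hcomm y) hz hz'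
  rw [e₁, e₂, GrTwist.locMap_mk, GrTwist.locMap_mk, GrTwist.locMap_mk,
    Localization.mk_eq_mk_iff, Localization.r_iff_exists]
  refine ⟨1, ?_⟩
  simp only [OneMemClass.coe_one, one_mul]
  rw [hcomm a, hcomm s]

end alg

variable {Y Y' P P' : Scheme.{u}} (ψ : Y' ⟶ Y) {𝒮 : RelProj.QCGrAlg Y} {𝒮' : RelProj.QCGrAlg Y'}
  (u : 𝒮.presheaf ⟶ ψ.base _* 𝒮'.presheaf)
  (φ : ∀ (U : Y.Opens) (hU : IsAffineOpen U) (U' : Y'.Opens) (hU' : IsAffineOpen U') (_ : U' ≤ ψ ⁻¹ᵁ U),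
    𝒮.deg U hU →+*ᵍ 𝒮'.deg U' hU')
  (hφ : ∀ (U : Y.Opens) (hU : IsAffineOpen U) (U' : Y'.Opens) (hU' : IsAffineOpen U') (hle : U' ≤ ψ ⁻¹ᵁ U),
    (φ U hU U' hU' hle).toRingHom =
      ((u.app (op U) : 𝒮.presheaf.obj (op U) ⟶ 𝒮'.presheaf.obj (op (ψ ⁻¹ᵁ U))) ≫
        𝒮'.presheaf.map (homOfLE hle).op).hom)
  (hirr : ∀ (U : Y.Opens) (hU : IsAffineOpen U) (U' : Y'.Opens) (hU' : IsAffineOpen U') (hle : U' ≤ ψ ⁻¹ᵁ U),
    (𝒮'.deg U' hU')₊ ≤ ((𝒮.deg U hU)₊).map (φ U hU U' hU' hle))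
  {p : P ⟶ Y}
  {chart : ∀ (U : Y.Opens) (hU : IsAffineOpen U), (((p ⁻¹ᵁ U : P.Opens) : Scheme.{u}) ≅ Proj (𝒮.deg U hU))}
  {p' : P' ⟶ Y'}
  {chart' : ∀ (U' : Y'.Opens) (hU' : IsAffineOpen U'), (((p' ⁻¹ᵁ U' : P'.Opens) : Scheme.{u}) ≅ Proj (𝒮'.deg U' hU'))}
  (g : P' ⟶ P)
  (hg : ∀ (U : Y.Opens) (hU : IsAffineOpen U) (U' : Y'.Opens) (hU' : IsAffineOpen U') (hle : U' ≤ ψ ⁻¹ᵁ U),
    (p' ⁻¹ᵁ U').ι ≫ g =
      (chart' U' hU').hom ≫ Proj.map (φ U hU U' hU' hle) (hirr U hU U' hU' hle) ≫ RelProj.emb p chart U hU)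

include hφ in
/-- the chart homomorphisms are compatible with restriction on `Y'` -/
theorem phi_res_right {U : Y.Opens} (hU : IsAffineOpen U) {U' U'' : Y'.Opens} (hU' : IsAffineOpen U')
    (hU'' : IsAffineOpen U'') (hle : U' ≤ ψ ⁻¹ᵁ U) (hle'' : U'' ≤ U') (a : 𝒮.presheaf.obj (op U)) :
    φ U hU U'' hU'' (hle''.trans hle) a = 𝒮'.res hU' hU'' hle'' (φ U hU U' hU' hle a) := by
  have h1 := congrArg (fun f => f a) (hφ U hU U'' hU'' (hle''.trans hle))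
  have h2 := congrArg (fun f => f a) (hφ U hU U' hU' hle)
  change φ U hU U'' hU'' (hle''.trans hle) a = _ at h1
  change φ U hU U' hU' hle a = _ at h2
  rw [h1, h2, RelProj.QCGrAlg.res_apply]
  change _ = (𝒮'.presheaf.map (homOfLE hle).op ≫ 𝒮'.presheaf.map (homOfLE hle'').op).hom
    ((u.app (op U)).hom a)
  rw [← Functor.map_comp]
  rfl

include hφ in
/-- the chart homomorphisms are compatible with restriction on `Y` -/
theorem phi_res_left {U V : Y.Opens} (hU : IsAffineOpen U) (hV : IsAffineOpen V) (hVU : V ≤ U) {U' : Y'.Opens}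
    (hU' : IsAffineOpen U') (hle : U' ≤ ψ ⁻¹ᵁ V) (a : 𝒮.presheaf.obj (op U)) :
    φ V hV U' hU' hle (𝒮.res hU hV hVU a) = φ U hU U' hU' (hle.trans (ψ.preimage_mono hVU)) a := by
  have h1 := congrArg (fun f => f (𝒮.res hU hV hVU a)) (hφ V hV U' hU' hle)
  have h2 := congrArg (fun f => f a) (hφ U hU U' hU' (hle.trans (ψ.preimage_mono hVU)))
  change φ V hV U' hU' hle (𝒮.res hU hV hVU a) = _ at h1
  change φ U hU U' hU' (hle.trans (ψ.preimage_mono hVU)) a = _ at h2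
  rw [h1, h2, RelProj.QCGrAlg.res_apply]
  have h3 := congrArg (fun t => t.hom a) (u.naturality (homOfLE hVU).op)
  change (u.app (op V)).hom ((𝒮.presheaf.map (homOfLE hVU).op).hom a) =
    ((ψ.base _* 𝒮'.presheaf).map (homOfLE hVU).op).hom ((u.app (op U)).hom a) at h3
  change (𝒮'.presheaf.map (homOfLE hle).op).hom ((u.app (op V)).hom ((𝒮.presheaf.map (homOfLE hVU).op).hom a)) = _
  rw [h3]
  change ((𝒮'.presheaf.map (homOfLE (ψ.preimage_mono hVU)).op) ≫ 𝒮'.presheaf.map (homOfLE hle).op).hom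
    ((u.app (op U)).hom a) = _
  rw [← Functor.map_comp]
  rfl

include hg in
theorem emb_g (U : Y.Opens) (hU : IsAffineOpen U) (U' : Y'.Opens) (hU' : IsAffineOpen U') (hle : U' ≤ ψ ⁻¹ᵁ U) :
    Proj.map (φ U hU U' hU' hle) (hirr U hU U' hU' hle) ≫ RelProj.emb p chart U hU =
      RelProj.emb p' chart' U' hU' ≫ g := by
  have h := hg U hU U' hU' hle
  unfold RelProj.emb at h ⊢
  rw [Category.assoc, h, Iso.inv_hom_id_assoc]

include hg in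
theorem g_emb_apply (U : Y.Opens) (hU : IsAffineOpen U) (U' : Y'.Opens) (hU' : IsAffineOpen U') (hle : U' ≤ ψ ⁻¹ᵁ U)
    (y : Proj (𝒮'.deg U' hU')) :
    g.base ((RelProj.emb p' chart' U' hU').base y) =
      (RelProj.emb p chart U hU).base
        (ProjectiveSpectrum.comap (φ U hU U' hU' hle) (hirr U hU U' hU' hle) y) := by
  have := congrArg (fun k => k.base y) (emb_g ψ φ hirr g hg U hU U' hU' hle)
  exact this.symm

include hg in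
/-- values of functions pulled back along `g` -/
theorem cvO_app (U : Y.Opens) (hU : IsAffineOpen U) (U' : Y'.Opens) (hU' : IsAffineOpen U') (hle : U' ≤ ψ ⁻¹ᵁ U)
    (W₁ : P.Opens) (c : Γ(P, W₁))
    (y : Proj (𝒮'.deg U' hU')) (hy : (RelProj.emb p' chart' U' hU').base y ∈ g ⁻¹ᵁ W₁)
    (hy' : (RelProj.emb p chart U hU).base
      (ProjectiveSpectrum.comap (φ U hU U' hU' hle) (hirr U hU U' hU' hle) y) ∈ W₁) :
    cvO p' chart' hU' (g.app W₁ c) y hy =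
      GrTwist.locMap (φ U hU U' hU' hle) (hirr U hU U' hU' hle) y (cvO p chart hU c _ hy') := by
  unfold cvO
  have h1 := valO_app_of_comp (φ U hU U' hU' hle) (hirr U hU U' hU' hle) (RelProj.emb p chart U hU)
    (RelProj.emb p' chart' U' hU' ≫ g) (emb_g ψ φ hirr g hg U hU U' hU' hle) W₁ c y hy hy'
  rw [← h1]
  rfl


section spec

variable {n : ℤ} {L : P.Modules}
  (lam : ∀ (U : Y.Opens) (hU : IsAffineOpen U),
    L ⟶ (Scheme.Modules.pushforward (RelProj.emb p chart U hU)).obj (GrTwist.twist (𝒮.deg U hU) n))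
  {L' : P'.Modules}
  (lam' : ∀ (U' : Y'.Opens) (hU' : IsAffineOpen U'),
    L' ⟶ (Scheme.Modules.pushforward (RelProj.emb p' chart' U' hU')).obj (GrTwist.twist (𝒮'.deg U' hU') n))

/-- `t` is the image of `s` under `a / f ↦ φ a / φ f`, read on the charts over `U' ≤ ψ⁻¹ U` -/
def SpecBC (U : Y.Opens) (hU : IsAffineOpen U) (U' : Y'.Opens) (hU' : IsAffineOpen U') (hle : U' ≤ ψ ⁻¹ᵁ U)
    (W : P.Opens) (T : P'.Opens) (s : Γ(L, W)) (t : Γ(L', T)) : Prop :=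
  ∀ (y : Proj (𝒮'.deg U' hU')) (hy : (RelProj.emb p' chart' U' hU').base y ∈ T)
    (hy' : (RelProj.emb p chart U hU).base
      (ProjectiveSpectrum.comap (φ U hU U' hU' hle) (hirr U hU U' hU' hle) y) ∈ W),
    cv lam' hU' t y hy =
      GrTwist.locMap (φ U hU U' hU' hle) (hirr U hU U' hU' hle) y (cv lam hU s _ hy')

include hg in
theorem mem_of_mem (U : Y.Opens) (hU : IsAffineOpen U) (U' : Y'.Opens) (hU' : IsAffineOpen U') (hle : U' ≤ ψ ⁻¹ᵁ U)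
    (W : P.Opens) (y : Proj (𝒮'.deg U' hU'))
    (hy : (RelProj.emb p' chart' U' hU').base y ∈ g ⁻¹ᵁ W) :
    (RelProj.emb p chart U hU).base
      (ProjectiveSpectrum.comap (φ U hU U' hU' hle) (hirr U hU U' hU' hle) y) ∈ W := by
  rw [← g_emb_apply ψ φ hirr g hg U hU U' hU' hle y]; exact hy

variable {ψ φ hirr g lam lam'}

theorem SpecBC.add {U : Y.Opens} {hU : IsAffineOpen U} {U' : Y'.Opens} {hU' : IsAffineOpen U'} {hle : U' ≤ ψ ⁻¹ᵁ U}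
    {W : P.Opens} {T : P'.Opens} {s s' : Γ(L, W)} {t t' : Γ(L', T)}
    (ht : SpecBC ψ φ hirr lam lam' U hU U' hU' hle W T s t)
    (ht' : SpecBC ψ φ hirr lam lam' U hU U' hU' hle W T s' t') :
    SpecBC ψ φ hirr lam lam' U hU U' hU' hle W T (s + s') (t + t') := by
  intro y hy hy'
  rw [RelTwistHom.cv_add', RelTwistHom.cv_add', map_add, ht y hy hy', ht' y hy hy']

include hg in
theorem SpecBC.smul {U : Y.Opens} {hU : IsAffineOpen U} {U' : Y'.Opens} {hU' : IsAffineOpen U'} {hle : U' ≤ ψ ⁻¹ᵁ U}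
    {W : P.Opens} {s : Γ(L, W)} {t : Γ(L', g ⁻¹ᵁ W)}
    (ht : SpecBC ψ φ hirr lam lam' U hU U' hU' hle W (g ⁻¹ᵁ W) s t) (a : Γ(P, W)) :
    SpecBC ψ φ hirr lam lam' U hU U' hU' hle W (g ⁻¹ᵁ W) (a • s) (g.app W a • t : Γ(L', g ⁻¹ᵁ W)) := by
  intro y hy hy'
  rw [cv_smul, cv_smul, map_mul, ht y hy hy', cvO_app ψ φ hirr g hg U hU U' hU' hle W a y hy hy']

theorem SpecBC.res {U : Y.Opens} {hU : IsAffineOpen U} {U' : Y'.Opens} {hU' : IsAffineOpen U'} {hle : U' ≤ ψ ⁻¹ᵁ U}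
    {W W₂ : P.Opens} (hW : W₂ ≤ W) {T T₂ : P'.Opens} (hT : T₂ ≤ T) {s : Γ(L, W)} {t : Γ(L', T)}
    (ht : SpecBC ψ φ hirr lam lam' U hU U' hU' hle W T s t) :
    SpecBC ψ φ hirr lam lam' U hU U' hU' hle W₂ T₂ (res L hW s) (res L' hT t) := by
  intro y hy hy'
  rw [cv_res, cv_res]
  exact ht y (hT hy) (hW hy')

theorem SpecBC.resT {U : Y.Opens} {hU : IsAffineOpen U} {U' : Y'.Opens} {hU' : IsAffineOpen U'} {hle : U' ≤ ψ ⁻¹ᵁ U}
    {W : P.Opens} {T T₂ : P'.Opens} (hT : T₂ ≤ T) {s : Γ(L, W)} {t : Γ(L', T)}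
    (ht : SpecBC ψ φ hirr lam lam' U hU U' hU' hle W T s t) :
    SpecBC ψ φ hirr lam lam' U hU U' hU' hle W T₂ s (QCohLoc.res L' hT t) := by
  intro y hy hy'
  rw [cv_res]
  exact ht y (hT hy) hy'

end spec


section basic

variable {n : ℤ} {L : P.Modules}
  {lam : ∀ (U : Y.Opens) (hU : IsAffineOpen U),
    L ⟶ (Scheme.Modules.pushforward (RelProj.emb p chart U hU)).obj (GrTwist.twist (𝒮.deg U hU) n)}
  {L' : P'.Modules}
  {lam' : ∀ (U' : Y'.Opens) (hU' : IsAffineOpen U'),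
    L' ⟶ (Scheme.Modules.pushforward (RelProj.emb p' chart' U' hU')).obj (GrTwist.twist (𝒮'.deg U' hU') n)}
  (hP : RelProj.IsRelProj 𝒮 p chart) (hP' : RelProj.IsRelProj 𝒮' p' chart')
  (hL : RelProj.IsRelTwist 𝒮 p chart n L lam) (hL' : RelProj.IsRelTwist 𝒮' p' chart' n L' lam')

variable {ψ φ hirr}

include hφ hP' hL' in
/-- passage to a basic open of the affine open of `Y'` -/
theorem SpecBC.basic_right {U : Y.Opens} {hU : IsAffineOpen U} {U' U'' : Y'.Opens} {hU' : IsAffineOpen U'}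
    (hU'' : IsAffineOpen U'') {hle : U' ≤ ψ ⁻¹ᵁ U} (r' : Γ(Y', U')) (e : U'' = Y'.basicOpen r') (hle'' : U'' ≤ U')
    {W : P.Opens} {T : P'.Opens} {s : Γ(L, W)} {t : Γ(L', T)}
    (ht : SpecBC ψ φ hirr lam lam' U hU U' hU' hle W T s t) :
    SpecBC ψ φ hirr lam lam' U hU U'' hU'' (hle''.trans hle) W T s t := by
  intro y hy hy'
  have hcomm : ∀ a, φ U hU U'' hU'' (hle''.trans hle) a = 𝒮'.res hU' hU'' hle'' (φ U hU U' hU' hle a) :=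
    fun a => phi_res_right ψ u φ hφ hU hU' hU'' hle hle'' a
  have hyB : (RelProj.emb p' chart' U' hU').base (ProjectiveSpectrum.comap (𝒮'.res hU' hU'' hle'')
      (irrelevant_le_map_of_eq 𝒮' hU' hU'' r' e hle'') y) ∈ T := by
    rw [← emb_eq_of_eq hP' hU' hU'' r' e hle'' y]; exact hy
  have hyA : (RelProj.emb p chart U hU).base (ProjectiveSpectrum.comap (φ U hU U' hU' hle) (hirr U hU U' hU' hle)
      (ProjectiveSpectrum.comap (𝒮'.res hU' hU'' hle'') (irrelevant_le_map_of_eq 𝒮' hU' hU'' r' e hle'') y)) ∈ W := by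
    rw [← comap_comp_eq (φ U hU U' hU' hle) (hirr U hU U' hU' hle) (𝒮'.res hU' hU'' hle'')
      (irrelevant_le_map_of_eq 𝒮' hU' hU'' r' e hle'') (φ U hU U'' hU'' (hle''.trans hle))
      (hirr U hU U'' hU'' (hle''.trans hle)) hcomm y]
    exact hy'
  unfold cv
  rw [val_basic hL' hU' hU'' r' e hle'' T t y hy hyB]
  have h1 := ht _ hyB hyA
  unfold cv at h1
  rw [h1]
  exact (locMap_comp_eq (φ U hU U' hU' hle) (hirr U hU U' hU' hle) (𝒮'.res hU' hU'' hle'')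
    (irrelevant_le_map_of_eq 𝒮' hU' hU'' r' e hle'') (φ U hU U'' hU'' (hle''.trans hle))
    (hirr U hU U'' hU'' (hle''.trans hle)) hcomm y
    (fun z => (RelProj.emb p chart U hU).base z ∈ W)
    (fun z hz => GrTwist.val (V := RelProj.emb p chart U hU ⁻¹ᵁ W) ((lam U hU).app W s) ⟨z, hz⟩) hy' hyA).symm

include hφ hP hL in
/-- passage to a basic open of the affine open of `Y` -/
theorem SpecBC.basic_left {U V : Y.Opens} {hU : IsAffineOpen U} (hV : IsAffineOpen V) (r : Γ(Y, U))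
    (e : V = Y.basicOpen r) (hVU : V ≤ U) {U' : Y'.Opens} {hU' : IsAffineOpen U'} (hle : U' ≤ ψ ⁻¹ᵁ V)
    {W : P.Opens} {T : P'.Opens} {s : Γ(L, W)} {t : Γ(L', T)}
    (ht : SpecBC ψ φ hirr lam lam' U hU U' hU' (hle.trans (ψ.preimage_mono hVU)) W T s t) :
    SpecBC ψ φ hirr lam lam' V hV U' hU' hle W T s t := by
  intro y hy hy'
  have hcomm : ∀ a, φ U hU U' hU' (hle.trans (ψ.preimage_mono hVU)) a = φ V hV U' hU' hle (𝒮.res hU hV hVU a) :=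
    fun a => (phi_res_left ψ u φ hφ hU hV hVU hU' hle a).symm
  have hz' : (RelProj.emb p chart U hU).base (ProjectiveSpectrum.comap (𝒮.res hU hV hVU)
      (irrelevant_le_map_of_eq 𝒮 hU hV r e hVU)
      (ProjectiveSpectrum.comap (φ V hV U' hU' hle) (hirr V hV U' hU' hle) y)) ∈ W := by
    rw [← emb_eq_of_eq hP hU hV r e hVU _]; exact hy'
  have hyA : (RelProj.emb p chart U hU).base (ProjectiveSpectrum.comap
      (φ U hU U' hU' (hle.trans (ψ.preimage_mono hVU))) (hirr U hU U' hU' (hle.trans (ψ.preimage_mono hVU))) y) ∈ W := by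
    rw [comap_comp_eq (𝒮.res hU hV hVU) (irrelevant_le_map_of_eq 𝒮 hU hV r e hVU) (φ V hV U' hU' hle)
      (hirr V hV U' hU' hle) (φ U hU U' hU' (hle.trans (ψ.preimage_mono hVU)))
      (hirr U hU U' hU' (hle.trans (ψ.preimage_mono hVU))) hcomm y]
    exact hz'
  rw [ht y hy hyA]
  unfold cv
  rw [val_basic hL hU hV r e hVU W s _ hy' hz']
  exact locMap_comp_eq (𝒮.res hU hV hVU) (irrelevant_le_map_of_eq 𝒮 hU hV r e hVU) (φ V hV U' hU' hle)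
    (hirr V hV U' hU' hle) (φ U hU U' hU' (hle.trans (ψ.preimage_mono hVU)))
    (hirr U hU U' hU' (hle.trans (ψ.preimage_mono hVU))) hcomm y
    (fun z => (RelProj.emb p chart U hU).base z ∈ W)
    (fun z hz => GrTwist.val (V := RelProj.emb p chart U hU ⁻¹ᵁ W) ((lam U hU).app W s) ⟨z, hz⟩) hyA hz'

end basic


section glue

variable {n : ℤ} {L : P.Modules}
  {lam : ∀ (U : Y.Opens) (hU : IsAffineOpen U),
    L ⟶ (Scheme.Modules.pushforward (RelProj.emb p chart U hU)).obj (GrTwist.twist (𝒮.deg U hU) n)}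
  {L' : P'.Modules}
  {lam' : ∀ (U' : Y'.Opens) (hU' : IsAffineOpen U'),
    L' ⟶ (Scheme.Modules.pushforward (RelProj.emb p' chart' U' hU')).obj (GrTwist.twist (𝒮'.deg U' hU') n)}
  (hP : RelProj.IsRelProj 𝒮 p chart) (hP' : RelProj.IsRelProj 𝒮' p' chart')
  (hL : RelProj.IsRelTwist 𝒮 p chart n L lam) (hL' : RelProj.IsRelTwist 𝒮' p' chart' n L' lam')
  (hu : 𝒮.str ≫ u = ψ.c ≫ (TopCat.Presheaf.pushforward CommRingCat.{u} ψ.base).map 𝒮'.str)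
  (hpo : ∀ (U : Y.Opens) (hU : IsAffineOpen U) (U' : Y'.Opens) (hU' : IsAffineOpen U') (hle : U' ≤ ψ ⁻¹ᵁ U),
    IsPushout (ψ.appLE U U' hle) (𝒮.str.app (op U)) (𝒮'.str.app (op U'))
      ((u.app (op U) : 𝒮.presheaf.obj (op U) ⟶ 𝒮'.presheaf.obj (op (ψ ⁻¹ᵁ U))) ≫
        𝒮'.presheaf.map (homOfLE hle).op))

include hφ hg hP hP' hu hpo in
theorem comm : g ≫ p = p' ≫ ψ :=
  (Groth.Agent.S8291.result ψ 𝒮 𝒮' u hu φ hφ hpo hirr p chart hP p' chart' hP' g hg).w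

include hφ hg hP hP' hu hpo in
theorem preimage_preimage (U : Y.Opens) : g ⁻¹ᵁ (p ⁻¹ᵁ U) = p' ⁻¹ᵁ (ψ ⁻¹ᵁ U) := by
  rw [← Scheme.Hom.comp_preimage, ← Scheme.Hom.comp_preimage, comm ψ u φ hφ hirr g hg hP hP' hu hpo]

include hg hL' in
theorem spec_unique_local (U : Y.Opens) (hU : IsAffineOpen U) (U' : Y'.Opens) (hU' : IsAffineOpen U')
    (hle : U' ≤ ψ ⁻¹ᵁ U) (W : P.Opens) (T : P'.Opens) (hT : T ≤ p' ⁻¹ᵁ U') (hTW : T ≤ g ⁻¹ᵁ W) (s : Γ(L, W))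
    (t t' : Γ(L', T)) (ht : SpecBC ψ φ hirr lam lam' U hU U' hU' hle W T s t)
    (ht' : SpecBC ψ φ hirr lam lam' U hU U' hU' hle W T s t') : t = t' := by
  refine ext_cv hL' hU' hT t t' fun y hy => ?_
  have hy' := mem_of_mem ψ φ hirr g hg U hU U' hU' hle W y (hTW hy)
  rw [ht y hy hy', ht' y hy hy']

include hg hL' in
theorem exists_spec_local (U : Y.Opens) (hU : IsAffineOpen U) (U' : Y'.Opens) (hU' : IsAffineOpen U')
    (hle : U' ≤ ψ ⁻¹ᵁ U) (W : P.Opens) (T : P'.Opens) (hT : T ≤ p' ⁻¹ᵁ U') (hTW : T ≤ g ⁻¹ᵁ W) (s : Γ(L, W)) :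
    ∃ t : Γ(L', T), SpecBC ψ φ hirr lam lam' U hU U' hU' hle W T s t := by
  have hUV : (RelProj.emb p' chart' U' hU' ⁻¹ᵁ T : (Proj (𝒮'.deg U' hU')).Opens).1 ⊆
      ProjectiveSpectrum.comap (φ U hU U' hU' hle) (hirr U hU U' hU' hle) ⁻¹'
        (RelProj.emb p chart U hU ⁻¹ᵁ W : (Proj (𝒮.deg U hU)).Opens).1 :=
    fun y hy => mem_of_mem ψ φ hirr g hg U hU U' hU' hle W y (hTW hy)
  let σ : GrTwist.sectN (𝒜 := 𝒮.deg U hU) n (op (RelProj.emb p chart U hU ⁻¹ᵁ W)) := (lam U hU).app W s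
  let τ : Γ((Scheme.Modules.pushforward (RelProj.emb p' chart' U' hU')).obj (GrTwist.twist (𝒮'.deg U' hU') n), T) :=
    GrTwist.comapApp (φ U hU U' hU' hle) (hirr U hU U' hU' hle) n _ _ hUV σ
  obtain ⟨t, ht⟩ := (hL'.bijective U' hU' T hT).2 τ
  refine ⟨t, fun y hy hy' => ?_⟩
  unfold cv
  rw [ht]
  rfl

include hφ hg hP hP' hu hpo in
theorem cover_le (U : Y.Opens) (W : P.Opens) (hW : W ≤ p ⁻¹ᵁ U) :
    g ⁻¹ᵁ W ≤ ⨆ i : {U' : Y'.Opens // IsAffineOpen U' ∧ U' ≤ ψ ⁻¹ᵁ U}, g ⁻¹ᵁ W ⊓ p' ⁻¹ᵁ i.1 := by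
  intro x hx
  have hxU : x ∈ p' ⁻¹ᵁ (ψ ⁻¹ᵁ U) := by
    rw [← preimage_preimage ψ u φ hφ hirr g hg hP hP' hu hpo]; exact g.preimage_mono hW hx
  obtain ⟨U', hU', hxU', hle⟩ := Opens.isBasis_iff_nbhd.mp Y'.isBasis_affineOpens
    (show p' x ∈ ψ ⁻¹ᵁ U from hxU)
  exact Opens.mem_iSup.mpr ⟨⟨U', hU', hle⟩, ⟨hx, hxU'⟩⟩

include hφ hg hP hP' hL' hu hpo in
theorem exists_spec (U : Y.Opens) (hU : IsAffineOpen U) (W : P.Opens) (hW : W ≤ p ⁻¹ᵁ U) (s : Γ(L, W)) :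
    ∃ t : Γ(L', g ⁻¹ᵁ W), ∀ (U' : Y'.Opens) (hU' : IsAffineOpen U') (hle : U' ≤ ψ ⁻¹ᵁ U),
      SpecBC ψ φ hirr lam lam' U hU U' hU' hle W (g ⁻¹ᵁ W) s t := by
  let ι := {U' : Y'.Opens // IsAffineOpen U' ∧ U' ≤ ψ ⁻¹ᵁ U}
  let Tf : ι → P'.Opens := fun i => g ⁻¹ᵁ W ⊓ p' ⁻¹ᵁ i.1
  have hTf : ∀ i, Tf i ≤ g ⁻¹ᵁ W := fun i => inf_le_left
  have hcover : g ⁻¹ᵁ W ≤ iSup Tf := cover_le ψ u φ hφ hirr g hg hP hP' hu hpo U W hW
  choose tf htf using fun i : ι =>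
    exists_spec_local ψ φ hirr g hg (lam := lam) hL' U hU i.1 i.2.1 i.2.2 W (Tf i) inf_le_right inf_le_left s
  have hcompat : ∀ i j, res L' (inf_le_left : Tf i ⊓ Tf j ≤ Tf i) (tf i) =
      res L' (inf_le_right : Tf i ⊓ Tf j ≤ Tf j) (tf j) := by
    intro i j
    have hTi : Tf i ⊓ Tf j ≤ p' ⁻¹ᵁ i.1 := inf_le_left.trans inf_le_right
    have hTj : Tf i ⊓ Tf j ≤ p' ⁻¹ᵁ j.1 := inf_le_right.trans inf_le_right
    have hTW : Tf i ⊓ Tf j ≤ g ⁻¹ᵁ W := inf_le_left.trans inf_le_left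
    refine eq_of_basic_cover hL' i.2.1 j.2.1 hTi hTj _ _ ?_
    intro W₀ hW₀ r r' e e' y hy
    have hle₀ : W₀ ≤ i.1 := e ▸ Y'.basicOpen_le r
    have hle₀' : W₀ ≤ j.1 := e' ▸ Y'.basicOpen_le r'
    have hi := ((htf i).resT (inf_le_left : Tf i ⊓ Tf j ≤ Tf i)).basic_right u hφ hP' hL' hW₀ r e hle₀
    have hj := ((htf j).resT (inf_le_right : Tf i ⊓ Tf j ≤ Tf j)).basic_right u hφ hP' hL' hW₀ r' e' hle₀'
    have hy' := mem_of_mem ψ φ hirr g hg U hU W₀ hW₀ (hle₀.trans i.2.2) W y (hTW hy)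
    rw [hi y hy hy', hj y hy hy']
  obtain ⟨t, ht⟩ := exists_gluing L' Tf (g ⁻¹ᵁ W) hTf hcover tf hcompat
  refine ⟨t, fun U' hU' hle y hy hy' => ?_⟩
  have hyT : (RelProj.emb p' chart' U' hU').base y ∈ Tf ⟨U', hU', hle⟩ :=
    ⟨hy, (RelProjQC.opensRange_emb p' chart' U' hU').le ⟨y, rfl⟩⟩
  have h1 := htf ⟨U', hU', hle⟩ y hyT hy'
  rw [← ht ⟨U', hU', hle⟩, cv_res] at h1
  exact h1

include hφ hg hP hP' hL' hu hpo in
theorem spec_unique (U : Y.Opens) (hU : IsAffineOpen U) (W : P.Opens) (hW : W ≤ p ⁻¹ᵁ U) (s : Γ(L, W))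
    (t t' : Γ(L', g ⁻¹ᵁ W))
    (ht : ∀ (U' : Y'.Opens) (hU' : IsAffineOpen U') (hle : U' ≤ ψ ⁻¹ᵁ U),
      SpecBC ψ φ hirr lam lam' U hU U' hU' hle W (g ⁻¹ᵁ W) s t)
    (ht' : ∀ (U' : Y'.Opens) (hU' : IsAffineOpen U') (hle : U' ≤ ψ ⁻¹ᵁ U),
      SpecBC ψ φ hirr lam lam' U hU U' hU' hle W (g ⁻¹ᵁ W) s t') : t = t' := by
  refine eq_of_locally_eq L'
    (fun i : {U' : Y'.Opens // IsAffineOpen U' ∧ U' ≤ ψ ⁻¹ᵁ U} => g ⁻¹ᵁ W ⊓ p' ⁻¹ᵁ i.1) (g ⁻¹ᵁ W)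
    (fun i => inf_le_left) (cover_le ψ u φ hφ hirr g hg hP hP' hu hpo U W hW) t t' fun i => ?_
  exact spec_unique_local ψ φ hirr g hg (lam := lam) hL' U hU i.1 i.2.1 i.2.2 W _ inf_le_right inf_le_left s _ _
    ((ht i.1 i.2.1 i.2.2).resT _) ((ht' i.1 i.2.1 i.2.2).resT _)

end glue


section hom

variable {n : ℤ} {L : P.Modules}
  {lam : ∀ (U : Y.Opens) (hU : IsAffineOpen U),
    L ⟶ (Scheme.Modules.pushforward (RelProj.emb p chart U hU)).obj (GrTwist.twist (𝒮.deg U hU) n)}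
  {L' : P'.Modules}
  {lam' : ∀ (U' : Y'.Opens) (hU' : IsAffineOpen U'),
    L' ⟶ (Scheme.Modules.pushforward (RelProj.emb p' chart' U' hU')).obj (GrTwist.twist (𝒮'.deg U' hU') n)}
  (hP : RelProj.IsRelProj 𝒮 p chart) (hP' : RelProj.IsRelProj 𝒮' p' chart')
  (hL : RelProj.IsRelTwist 𝒮 p chart n L lam) (hL' : RelProj.IsRelTwist 𝒮' p' chart' n L' lam')
  (hu : 𝒮.str ≫ u = ψ.c ≫ (TopCat.Presheaf.pushforward CommRingCat.{u} ψ.base).map 𝒮'.str)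
  (hpo : ∀ (U : Y.Opens) (hU : IsAffineOpen U) (U' : Y'.Opens) (hU' : IsAffineOpen U') (hle : U' ≤ ψ ⁻¹ᵁ U),
    IsPushout (ψ.appLE U U' hle) (𝒮.str.app (op U)) (𝒮'.str.app (op U'))
      ((u.app (op U) : 𝒮.presheaf.obj (op U) ⟶ 𝒮'.presheaf.obj (op (ψ ⁻¹ᵁ U))) ≫
        𝒮'.presheaf.map (homOfLE hle).op))

/-- the image section -/
def imgSec (U : Y.Opens) (hU : IsAffineOpen U) (W : P.Opens) (hW : W ≤ p ⁻¹ᵁ U) (s : Γ(L, W)) :
    Γ(L', g ⁻¹ᵁ W) :=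
  (exists_spec ψ u φ hφ hirr g hg (lam := lam) hP hP' hL' hu hpo U hU W hW s).choose

theorem imgSec_spec (U : Y.Opens) (hU : IsAffineOpen U) (W : P.Opens) (hW : W ≤ p ⁻¹ᵁ U) (s : Γ(L, W))
    (U' : Y'.Opens) (hU' : IsAffineOpen U') (hle : U' ≤ ψ ⁻¹ᵁ U) :
    SpecBC ψ φ hirr lam lam' U hU U' hU' hle W (g ⁻¹ᵁ W) s
      (imgSec ψ u φ hφ hirr g hg (lam := lam) hP hP' hL' hu hpo U hU W hW s) :=
  (exists_spec ψ u φ hφ hirr g hg (lam := lam) hP hP' hL' hu hpo U hU W hW s).choose_spec U' hU' hle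

/-- the chartwise data of the comparison map -/
def chartData : RelProjQC.ChartHomData p L ((Scheme.Modules.pushforward g).obj L') where
  φ U hU W hW s := imgSec ψ u φ hφ hirr g hg (lam := lam) hP hP' hL' hu hpo U hU W hW s
  add U hU W hW x y :=
    spec_unique ψ u φ hφ hirr g hg (lam := lam) hP hP' hL' hu hpo U hU W hW (x + y) _ _
      (imgSec_spec ψ u φ hφ hirr g hg hP hP' hL' hu hpo U hU W hW (x + y))
      (fun U' hU' hle => (imgSec_spec ψ u φ hφ hirr g hg hP hP' hL' hu hpo U hU W hW x U' hU' hle).add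
        (imgSec_spec ψ u φ hφ hirr g hg hP hP' hL' hu hpo U hU W hW y U' hU' hle))
  smul U hU W hW a x :=
    spec_unique ψ u φ hφ hirr g hg (lam := lam) hP hP' hL' hu hpo U hU W hW (a • x) _ _
      (imgSec_spec ψ u φ hφ hirr g hg hP hP' hL' hu hpo U hU W hW (a • x))
      (fun U' hU' hle => (imgSec_spec ψ u φ hφ hirr g hg hP hP' hL' hu hpo U hU W hW x U' hU' hle).smul hg a)
  nat U hU W hW W' hle x :=
    spec_unique ψ u φ hφ hirr g hg (lam := lam) hP hP' hL' hu hpo U hU W' (hle.trans hW) (res L hle x) _ _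
      (imgSec_spec ψ u φ hφ hirr g hg hP hP' hL' hu hpo U hU W' (hle.trans hW) (res L hle x))
      (fun U' hU' hle' => (imgSec_spec ψ u φ hφ hirr g hg hP hP' hL' hu hpo U hU W hW x U' hU' hle').res hle
        (g.preimage_mono hle))
  basic U hU r W hW x :=
    spec_unique ψ u φ hφ hirr g hg (lam := lam) hP hP' hL' hu hpo _ (hU.basicOpen r) W hW x _ _
      (imgSec_spec ψ u φ hφ hirr g hg hP hP' hL' hu hpo _ (hU.basicOpen r) W hW x)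
      (fun U' hU' hle => (imgSec_spec ψ u φ hφ hirr g hg hP hP' hL' hu hpo U hU W
        (hW.trans (p.preimage_mono (Y.basicOpen_le r))) x U' hU'
        (hle.trans (ψ.preimage_mono (Y.basicOpen_le r)))).basic_left u hφ hP hL (hU.basicOpen r) r rfl
          (Y.basicOpen_le r) hle)

include hφ hg hP hP' hL hL' hu hpo in
/-- **the comparison map of relative twisting sheaves under base change** -/
theorem exists_hom :
    ∃ θ : L ⟶ (Scheme.Modules.pushforward g).obj L',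
      ∀ (U : Y.Opens) (hU : IsAffineOpen U) (U' : Y'.Opens) (hU' : IsAffineOpen U') (hle : U' ≤ ψ ⁻¹ᵁ U)
        (W : P.Opens) (s : Γ(L, W)),
        SpecBC ψ φ hirr lam lam' U hU U' hU' hle W (g ⁻¹ᵁ W) s (θ.app W s) := by
  let D := chartData ψ u φ hφ hirr g hg hP hP' hL hL' hu hpo
  refine ⟨D.hom, ?_⟩
  intro U hU U' hU' hle W s y hy hy'
  have hyU : (RelProj.emb p chart U hU).base
      (ProjectiveSpectrum.comap (φ U hU U' hU' hle) (hirr U hU U' hU' hle) y) ∈ p ⁻¹ᵁ U :=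
    (RelProjQC.opensRange_emb p chart U hU).le ⟨_, rfl⟩
  have hyW' : (RelProj.emb p chart U hU).base
      (ProjectiveSpectrum.comap (φ U hU U' hU' hle) (hirr U hU U' hU' hle) y) ∈ W ⊓ p ⁻¹ᵁ U :=
    ⟨hy', hyU⟩
  have hyB : (RelProj.emb p' chart' U' hU').base y ∈ g ⁻¹ᵁ (W ⊓ p ⁻¹ᵁ U) := by
    show g.base ((RelProj.emb p' chart' U' hU').base y) ∈ W ⊓ p ⁻¹ᵁ U
    rw [g_emb_apply ψ φ hirr g hg U hU U' hU' hle y]; exact hyW'
  have h1 : res ((Scheme.Modules.pushforward g).obj L') (inf_le_left : W ⊓ p ⁻¹ᵁ U ≤ W) (D.hom.app W s) =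
      D.hom.app (W ⊓ p ⁻¹ᵁ U) (res L inf_le_left s) := (app_res D.hom inf_le_left s).symm
  rw [D.hom_app U hU (W ⊓ p ⁻¹ᵁ U) inf_le_right] at h1
  have h2 := imgSec_spec ψ u φ hφ hirr g hg (lam := lam) hP hP' hL' hu hpo U hU (W ⊓ p ⁻¹ᵁ U)
    inf_le_right (res L inf_le_left s) U' hU' hle y hyB hyW'
  rw [cv_res] at h2
  rw [← h2]
  have h3 : cv lam' hU' (res L' (g.preimage_mono (inf_le_left : W ⊓ p ⁻¹ᵁ U ≤ W)) (D.hom.app W s)) y hyB =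
      cv lam' hU' (D.hom.app W s) y hy := cv_res lam' hU' _ _ y hyB
  rw [← h3]
  exact congrArg (fun t => cv lam' hU' t y hyB) h1

end hom

end Groth.Agent.Lib.Helper28.RelTwistBC
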