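import Groth.Agent.Lib.Helper28.RelTwistBC1
import Groth.Agent.Lib.Helper28.TwistBC4
import Groth.Agent.Lib.Helper28.BCTransport
import Groth.Agent.Lib.Helper28.QCohChart

/-!
# Base change of relative twisting sheaves: the comparison morphism is an isomorphism
-/

set_option autoImplicit false
universe u
open CategoryTheory CategoryTheory.Limits AlgebraicGeometry Opposite TopologicalSpace
open scoped HomogeneousIdeal
noncomputable section

namespace Groth.Agent.Lib.Helper28.RelTwistBC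

open Groth.Agent.Lib.Helper28 Groth.Agent.Lib.Helper28.QCohLoc Groth.Agent.Lib.Helper28.GenLocus
  Groth.Agent.Lib.Helper28.RelTwistVal Groth.Agent.Lib.Helper17.PullbackBC Groth.Agent.Lib.Helper28.PullbackInv

theorem appLE_congr_hom {X Z : Scheme.{u}} {k k' : X ⟶ Z} (h : k = k') (U : Z.Opens) (V : X.Opens)
    (e : V ≤ k ⁻¹ᵁ U) (e' : V ≤ k' ⁻¹ᵁ U) : k.appLE U V e = k'.appLE U V e' := by
  subst h; rfl

section qc

variable {Y P : Scheme.{u}} {𝒮 : RelProj.QCGrAlg Y} {p : P ⟶ Y}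
  {chart : ∀ (U : Y.Opens) (hU : IsAffineOpen U), (((p ⁻¹ᵁ U : P.Opens) : Scheme.{u}) ≅ Proj (𝒮.deg U hU))}
  {n : ℤ} {L : P.Modules}
  {lam : ∀ (U : Y.Opens) (hU : IsAffineOpen U),
    L ⟶ (Scheme.Modules.pushforward (RelProj.emb p chart U hU)).obj (GrTwist.twist (𝒮.deg U hU) n)}
  (hL : RelProj.IsRelTwist 𝒮 p chart n L lam)

include hL in
theorem isQuasicoherent_of_isRelTwist : L.IsQuasicoherent := by
  haveI : ∀ i : Y.affineOpens, (GrTwist.twist (𝒮.deg i.1 i.2) n).IsQuasicoherent :=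
    fun i => GrTwistQC.isQuasicoherent_twist (𝒮.deg i.1 i.2) n
  exact QCohLoc.isQuasicoherent_of_charts L (fun i : Y.affineOpens => Proj (𝒮.deg i.1 i.2))
    (fun i => RelProj.emb p chart i.1 i.2) (fun i => GrTwist.twist (𝒮.deg i.1 i.2) n)
    (fun i => lam i.1 i.2)
    (fun i W hW => hL.bijective i.1 i.2 W (hW.trans (RelProjQC.opensRange_emb p chart i.1 i.2).le))
    (RelProjQC.exists_mem_opensRange_emb p chart)

end qc

variable {Y Y' P P' : Scheme.{u}} (ψ : Y' ⟶ Y) {𝒮 : RelProj.QCGrAlg Y} {𝒮' : RelProj.QCGrAlg Y'}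
  (u : 𝒮.presheaf ⟶ ψ.base _* 𝒮'.presheaf)
  (φ : ∀ (U : Y.Opens) (hU : IsAffineOpen U) (U' : Y'.Opens) (hU' : IsAffineOpen U') (_ : U' ≤ ψ ⁻¹ᵁ U),
    𝒮.deg U hU →+*ᵍ 𝒮'.deg U' hU')
  (hφ : ∀ (U : Y.Opens) (hU : IsAffineOpen U) (U' : Y'.Opens) (hU' : IsAffineOpen U') (hle : U' ≤ ψ ⁻¹ᵁ U),
    (φ U hU U' hU' hle).toRingHom =
      ((u.app (op U) : 𝒮.presheaf.obj (op U) ⟶ 𝒮'.presheaf.obj (op (ψ ⁻¹ᵁ U))) ≫
        𝒮'.presheaf.map (homOfLE hle).op).hom)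
  (hirr : ∀ (U : Y.Opens) (hU : IsAffineOpen U) (U' : Y'.Opens) (hU' : IsAffineOpen U') (hle : U' ≤ ψ ⁻¹ᵁ U),
    (𝒮'.deg U' hU')₊ ≤ ((𝒮.deg U hU)₊).map (φ U hU U' hU' hle))
  {p : P ⟶ Y}
  {chart : ∀ (U : Y.Opens) (hU : IsAffineOpen U), (((p ⁻¹ᵁ U : P.Opens) : Scheme.{u}) ≅ Proj (𝒮.deg U hU))}
  {p' : P' ⟶ Y'}
  {chart' : ∀ (U' : Y'.Opens) (hU' : IsAffineOpen U'), (((p' ⁻¹ᵁ U' : P'.Opens) : Scheme.{u}) ≅ Proj (𝒮'.deg U' hU'))}
  (g : P' ⟶ P)
  (hg : ∀ (U : Y.Opens) (hU : IsAffineOpen U) (U' : Y'.Opens) (hU' : IsAffineOpen U') (hle : U' ≤ ψ ⁻¹ᵁ U),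
    (p' ⁻¹ᵁ U').ι ≫ g =
      (chart' U' hU').hom ≫ Proj.map (φ U hU U' hU' hle) (hirr U hU U' hU' hle) ≫ RelProj.emb p chart U hU)
  {n : ℤ} {L : P.Modules}
  {lam : ∀ (U : Y.Opens) (hU : IsAffineOpen U),
    L ⟶ (Scheme.Modules.pushforward (RelProj.emb p chart U hU)).obj (GrTwist.twist (𝒮.deg U hU) n)}
  {L' : P'.Modules}
  {lam' : ∀ (U' : Y'.Opens) (hU' : IsAffineOpen U'),
    L' ⟶ (Scheme.Modules.pushforward (RelProj.emb p' chart' U' hU')).obj (GrTwist.twist (𝒮'.deg U' hU') n)}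
  (hL : RelProj.IsRelTwist 𝒮 p chart n L lam) (hL' : RelProj.IsRelTwist 𝒮' p' chart' n L' lam')
  (hpo : ∀ (U : Y.Opens) (hU : IsAffineOpen U) (U' : Y'.Opens) (hU' : IsAffineOpen U') (hle : U' ≤ ψ ⁻¹ᵁ U),
    IsPushout (ψ.appLE U U' hle) (𝒮.str.app (op U)) (𝒮'.str.app (op U'))
      ((u.app (op U) : 𝒮.presheaf.obj (op U) ⟶ 𝒮'.presheaf.obj (op (ψ ⁻¹ᵁ U))) ≫
        𝒮'.presheaf.map (homOfLE hle).op))
  (θ : L ⟶ (Scheme.Modules.pushforward g).obj L')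
  (hθ : ∀ (U : Y.Opens) (hU : IsAffineOpen U) (U' : Y'.Opens) (hU' : IsAffineOpen U') (hle : U' ≤ ψ ⁻¹ᵁ U)
    (W : P.Opens) (s : Γ(L, W)), SpecBC ψ φ hirr lam lam' U hU U' hU' hle W (g ⁻¹ᵁ W) s (θ.app W s))

include hφ hpo in
/-- the chartwise base-change presentation of the twisting sheaves -/
theorem isBC_chart (U : Y.Opens) (hU : IsAffineOpen U) (U' : Y'.Opens) (hU' : IsAffineOpen U') (hle : U' ≤ ψ ⁻¹ᵁ U)
    {d : ℕ} {f : 𝒮.presheaf.obj (op U)} (hf : f ∈ 𝒮.deg U hU d) (hd : 0 < d)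
    (V : (Proj (𝒮.deg U hU)).Opens) (V' : (Proj (𝒮'.deg U' hU')).Opens)
    (hV : V = Proj.basicOpen (𝒮.deg U hU) f)
    (hV' : V' = Proj.basicOpen (𝒮'.deg U' hU') (φ U hU U' hU' hle f))
    (e : V' ≤ Proj.map (φ U hU U' hU' hle) (hirr U hU U' hU' hle) ⁻¹ᵁ V) :
    IsBC ((Proj.map (φ U hU U' hU' hle) (hirr U hU U' hU' hle)).appLE V V' e).hom
      (fun m : Γ(GrTwist.twist (𝒮.deg U hU) n, V) => res (GrTwist.twist (𝒮'.deg U' hU') n) e
        ((GrTwist.comap (φ U hU U' hU' hle) (hirr U hU U' hU' hle) n).app V m)) := by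
  have hpo' := hpo U hU U' hU' hle
  letI : Algebra Γ(Y, U) Γ(Y', U') := (ψ.appLE U U' hle).hom.toAlgebra
  letI : Algebra Γ(Y, U) (𝒮.presheaf.obj (op U)) := (𝒮.str.app (op U)).hom.toAlgebra
  letI : Algebra Γ(Y', U') (𝒮'.presheaf.obj (op U')) := (𝒮'.str.app (op U')).hom.toAlgebra
  letI : Algebra Γ(Y, U) (𝒮'.presheaf.obj (op U')) :=
    ((𝒮'.str.app (op U')).hom.comp (ψ.appLE U U' hle).hom).toAlgebra
  letI : Algebra (𝒮.presheaf.obj (op U)) (𝒮'.presheaf.obj (op U')) := (φ U hU U' hU' hle).toRingHom.toAlgebra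
  haveI : IsScalarTower Γ(Y, U) Γ(Y', U') (𝒮'.presheaf.obj (op U')) := IsScalarTower.of_algebraMap_eq fun _ => rfl
  have e4 : CommRingCat.ofHom (φ U hU U' hU' hle).toRingHom =
      ((u.app (op U) : 𝒮.presheaf.obj (op U) ⟶ 𝒮'.presheaf.obj (op (ψ ⁻¹ᵁ U))) ≫
        𝒮'.presheaf.map (homOfLE hle).op) := by
    rw [hφ U hU U' hU' hle]
    rfl
  rw [← e4] at hpo'
  haveI : IsScalarTower Γ(Y, U) (𝒮.presheaf.obj (op U)) (𝒮'.presheaf.obj (op U')) :=
    IsScalarTower.of_algebraMap_eq fun r => by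
      have := congrArg (fun k => k.hom r) hpo'.w
      exact this
  haveI : Algebra.IsPushout Γ(Y, U) Γ(Y', U') (𝒮.presheaf.obj (op U)) (𝒮'.presheaf.obj (op U')) :=
    CommRingCat.isPushout_iff_isPushout.mp hpo'
  exact TwistBC.isBC_comap_of_eq (R' := Γ(Y, U)) (R := Γ(Y', U')) (𝒮.str_mem U hU) (𝒮'.str_mem U' hU')
    (φ U hU U' hU' hle) (fun _ => rfl) (hirr U hU U' hU' hle) hf hd n V V' hV hV' e


include hφ hg hL hL' hpo hθ in
/-- over the image of `D₊(φ f)`, the adjoint of the comparison morphism is bijective on sections -/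
theorem bijective_app_chart (U : Y.Opens) (hU : IsAffineOpen U) (U' : Y'.Opens) (hU' : IsAffineOpen U')
    (hle : U' ≤ ψ ⁻¹ᵁ U) {d : ℕ} {f : 𝒮.presheaf.obj (op U)} (hf : f ∈ 𝒮.deg U hU d) (hd : 0 < d) :
    Function.Bijective ((pbLift g θ).app
      (RelProj.emb p' chart' U' hU' ''ᵁ Proj.basicOpen (𝒮'.deg U' hU') (φ U hU U' hU' hle f))) := by
  haveI : L.IsQuasicoherent := isQuasicoherent_of_isRelTwist hL
  let E := RelProj.emb p chart U hU
  let E' := RelProj.emb p' chart' U' hU'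
  let Ψ := φ U hU U' hU' hle
  have hΨ := hirr U hU U' hU' hle
  let D := Proj.basicOpen (𝒮.deg U hU) f
  let D' := Proj.basicOpen (𝒮'.deg U' hU') (Ψ f)
  let W : P.Opens := E ''ᵁ D
  let W' : P'.Opens := E' ''ᵁ D'
  let V : (Proj (𝒮.deg U hU)).Opens := E ⁻¹ᵁ W
  let V' : (Proj (𝒮'.deg U' hU')).Opens := E' ⁻¹ᵁ W'
  have hV : V = D := Scheme.Hom.preimage_image_eq E D
  have hV' : V' = D' := Scheme.Hom.preimage_image_eq E' D'
  have hW : IsAffineOpen W := (Proj.isAffineOpen_basicOpen (𝒮.deg U hU) f hf hd).image_of_isOpenImmersion E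
  have hW' : IsAffineOpen W' :=
    (Proj.isAffineOpen_basicOpen (𝒮'.deg U' hU') (Ψ f) (Ψ.map_mem hf) hd).image_of_isOpenImmersion E'
  have hWr : W ≤ E.opensRange := Scheme.Hom.image_le_opensRange _ _
  have hWr' : W' ≤ E'.opensRange := Scheme.Hom.image_le_opensRange _ _
  have hWU : W ≤ p ⁻¹ᵁ U := hWr.trans (RelProjQC.opensRange_emb p chart U hU).le
  have hWU' : W' ≤ p' ⁻¹ᵁ U' := hWr'.trans (RelProjQC.opensRange_emb p' chart' U' hU').le
  have e : W' ≤ g ⁻¹ᵁ W := by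
    rintro _ ⟨y, hy, rfl⟩
    show g.base (E'.base y) ∈ W
    rw [g_emb_apply ψ φ hirr g hg U hU U' hU' hle y]
    exact ⟨_, hy, rfl⟩
  have e₀ : V' ≤ Proj.map Ψ hΨ ⁻¹ᵁ V := by
    intro y hy
    have hy' : y ∈ D' := hV' ▸ hy
    show ProjectiveSpectrum.comap Ψ hΨ y ∈ V
    rw [hV]
    exact hy'
  -- the two base-change presentations
  have h₁ := isBC_pullback g hW hW' e L
  have h₀ := isBC_chart ψ u φ hφ hirr (n := n) hpo U hU U' hU' hle hf hd V V' hV hV' e₀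
  -- the identifications
  haveI : IsIso (E.app W) := Scheme.Hom.isIso_app E W hWr
  haveI : IsIso (E'.app W') := Scheme.Hom.isIso_app E' W' hWr'
  let eR : Γ(P, W) ≃+* Γ(Proj (𝒮.deg U hU), V) :=
    RingEquiv.ofBijective (E.app W).hom (ConcreteCategory.bijective_of_isIso (E.app W))
  let eS : Γ(P', W') ≃+* Γ(Proj (𝒮'.deg U' hU'), V') :=
    RingEquiv.ofBijective (E'.app W').hom (ConcreteCategory.bijective_of_isIso (E'.app W'))
  have hsq : ∀ r, eS ((g.appLE W W' e).hom r) = ((Proj.map Ψ hΨ).appLE V V' e₀).hom (eR r) := by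
    intro r
    have h1 : g.appLE W W' e ≫ E'.appLE W' V' le_rfl = (E' ≫ g).appLE W V' _ :=
      Scheme.Hom.appLE_comp_appLE E' g W W' V' e le_rfl
    have h2 : E.appLE W V le_rfl ≫ (Proj.map Ψ hΨ).appLE V V' e₀ = (Proj.map Ψ hΨ ≫ E).appLE W V' _ :=
      Scheme.Hom.appLE_comp_appLE (Proj.map Ψ hΨ) E W V V' le_rfl e₀
    have h3 := appLE_congr_hom (emb_g ψ φ hirr g hg U hU U' hU' hle) W V'
      (e₀.trans ((Opens.map (Proj.map Ψ hΨ).base).map (homOfLE (le_rfl : V ≤ E ⁻¹ᵁ W))).le)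
      ((le_rfl : V' ≤ E' ⁻¹ᵁ W').trans ((Opens.map E'.base).map (homOfLE e)).le)
    have h4 := h1.trans (h3.symm.trans h2.symm)
    have h5 := congrArg (fun k => k.hom r) h4
    rw [← Scheme.Hom.app_eq_appLE, ← Scheme.Hom.app_eq_appLE] at h5
    exact h5
  let eP : Γ(L, W) ≃+ Γ(GrTwist.twist (𝒮.deg U hU) n, V) :=
    AddEquiv.ofBijective (AddMonoidHom.mk' (fun m => (lam U hU).app W m) (fun a b => map_add _ a b))
      (hL.bijective U hU W hWU)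
  have hePs : ∀ (r : Γ(P, W)) (m : Γ(L, W)), eP (r • m) = eR r • eP m := fun r m =>
    lam_smul E L _ (lam U hU) W r m
  let eT : Γ(L', W') ≃+ Γ(GrTwist.twist (𝒮'.deg U' hU') n, V') :=
    AddEquiv.ofBijective (AddMonoidHom.mk' (fun m => (lam' U' hU').app W' m) (fun a b => map_add _ a b))
      (hL'.bijective U' hU' W' hWU')
  have heTs : ∀ (r : Γ(P', W')) (m : Γ(L', W')), eT (r • m) = eS r • eT m := fun r m =>
    lam_smul E' L' _ (lam' U' hU') W' r m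
  have hc : ∀ m : Γ(L, W), eT (res L' e (θ.app W m)) =
      res (GrTwist.twist (𝒮'.deg U' hU') n) e₀ ((GrTwist.comap Ψ hΨ n).app V (eP m)) := by
    intro m
    apply GrTwistQC.ext_val
    intro y
    have hyW' : E'.base y.1 ∈ W' := y.2
    have hyg : E'.base y.1 ∈ g ⁻¹ᵁ W := e hyW'
    have hy' : E.base (ProjectiveSpectrum.comap Ψ hΨ y.1) ∈ W := e₀ y.2
    have h1 : GrTwistQC.val (𝒮'.deg U' hU') (eT (res L' e (θ.app W m))) y =
        cv lam' hU' (res L' e (θ.app W m)) y.1 hyW' := rfl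
    rw [h1, cv_res, hθ U hU U' hU' hle W m y.1 hyg hy']
    rfl
  have h₂ : IsBC (g.appLE W W' e).hom (fun m : Γ(L, W) => res L' e (θ.app W m)) :=
    BCTransport.isBC_transport (g.appLE W W' e).hom ((Proj.map Ψ hΨ).appLE V V' e₀).hom eR eS hsq eP hePs eT heTs
      _ _ hc h₀
  -- conclusion
  let Φ := pbLift g θ
  refine BCTransport.bijective_of_isBC_isBC (g.appLE W W' e).hom _ _ h₁ h₂
    (AddMonoidHom.mk' (fun t => Φ.app W' t) (fun a b => map_add _ a b)) ?_ ?_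
  · intro s t
    exact Scheme.Modules.Hom.app_smul Φ s t
  · intro m
    show Φ.app W' (res ((Scheme.Modules.pullback g).obj L) e (pbs g L W m)) = res L' e (θ.app W m)
    rw [app_res, pbLift_pbs]

include hφ hg hL hL' hpo hθ in
/-- **the adjoint of the comparison morphism is an isomorphism** -/
theorem isIso_pbLift : IsIso (pbLift g θ) := by
  haveI : L.IsQuasicoherent := isQuasicoherent_of_isRelTwist hL
  haveI : L'.IsQuasicoherent := isQuasicoherent_of_isRelTwist hL'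
  haveI : ((Scheme.Modules.pullback g).obj L).IsQuasicoherent := inferInstance
  let ι := {t : (Σ (U : Y.Opens) (U' : Y'.Opens) (_ : ℕ), 𝒮.presheaf.obj (op U)) //
    ∃ (hU : IsAffineOpen t.1) (hU' : IsAffineOpen t.2.1) (_ : t.2.1 ≤ ψ ⁻¹ᵁ t.1),
      0 < t.2.2.1 ∧ t.2.2.2 ∈ 𝒮.deg t.1 hU t.2.2.1}
  let Wf : ι → P'.Opens := fun i =>
    RelProj.emb p' chart' i.1.2.1 i.2.choose_spec.choose ''ᵁ
      Proj.basicOpen (𝒮'.deg i.1.2.1 i.2.choose_spec.choose)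
        (φ i.1.1 i.2.choose i.1.2.1 i.2.choose_spec.choose i.2.choose_spec.choose_spec.choose i.1.2.2.2)
  have hWf : ∀ i, IsAffineOpen (Wf i) := fun i =>
    (Proj.isAffineOpen_basicOpen _ _ ((φ i.1.1 i.2.choose i.1.2.1 i.2.choose_spec.choose
      i.2.choose_spec.choose_spec.choose).map_mem i.2.choose_spec.choose_spec.choose_spec.2)
      i.2.choose_spec.choose_spec.choose_spec.1).image_of_isOpenImmersion _
  refine isIso_of_affine_cover (pbLift g θ) Wf hWf ?cov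
    (fun i => isLocOn_of_isQuasicoherent _ (hWf i)) (fun i => isLocOn_of_isQuasicoherent _ (hWf i))
    (fun i => bijective_app_chart ψ u φ hφ hirr g hg hL hL' hpo θ hθ i.1.1 i.2.choose i.1.2.1 i.2.choose_spec.choose
      i.2.choose_spec.choose_spec.choose i.2.choose_spec.choose_spec.choose_spec.2
      i.2.choose_spec.choose_spec.choose_spec.1)
  intro x'
  obtain ⟨U, hU, hxU, -⟩ := Opens.isBasis_iff_nbhd.mp Y.isBasis_affineOpens
    (show ψ.base (p'.base x') ∈ (⊤ : Y.Opens) from trivial)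
  obtain ⟨U', hU', hxU', hle⟩ := Opens.isBasis_iff_nbhd.mp Y'.isBasis_affineOpens
    (show p'.base x' ∈ ψ ⁻¹ᵁ U from hxU)
  have hx' : x' ∈ (RelProj.emb p' chart' U' hU').opensRange := by
    rw [RelProjQC.opensRange_emb p' chart' U' hU']; exact hxU'
  obtain ⟨y, rfl⟩ := hx'
  obtain ⟨d, f, hd, hf, hfy, -⟩ := GrSectComap.exists_pos_basicOpen (𝒮.deg U hU) ⊤
    (ProjectiveSpectrum.comap (φ U hU U' hU' hle) (hirr U hU U' hU' hle) y) trivial
  exact ⟨⟨⟨U, U', d, f⟩, hU, hU', hle, hd, hf⟩, ⟨y, hfy, rfl⟩⟩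

end Groth.Agent.Lib.Helper28.RelTwistBC
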