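import Groth.Agent.Lib.Helper28.RelTwistEx
import Groth.Agent.Lib.Helper28.RelProjExists

set_option autoImplicit false
universe u
open CategoryTheory CategoryTheory.Limits AlgebraicGeometry Opposite TopologicalSpace TopCat
open scoped HomogeneousIdeal
noncomputable section

namespace Groth.Agent.Lib.Helper28.RelTwistEx

open Groth.Agent.Lib.Helper28

variable {Y P : Scheme.{u}} {𝒮 : RelProj.QCGrAlg Y} {p : P ⟶ Y}
  {chart : ∀ (U : Y.Opens) (hU : IsAffineOpen U), (((p ⁻¹ᵁ U : P.Opens) : Scheme.{u}) ≅ Proj (𝒮.deg U hU))}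

/-- a point of `P` over an affine open has a chart over it -/
theorem exists_chart (V : Y.Opens) (hV : IsAffineOpen V) (x : P) (hx : p.base x ∈ V) :
    ∃ y : ProjectiveSpectrum (𝒮.deg V hV), (RelProj.emb p chart V hV).base y = x := by
  have h : x ∈ (RelProj.emb p chart V hV).opensRange := by
    rw [RelProjQC.opensRange_emb]; exact hx
  exact h

theorem Ch.base_mem {x : P} (c : Ch 𝒮 p chart x) : p.base x ∈ c.U := by
  have h : x ∈ (RelProj.emb p chart c.U c.hU).opensRange := ⟨c.y, c.hy⟩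
  rw [RelProjQC.opensRange_emb] at h
  exact h

theorem emb_inj (V : Y.Opens) (hV : IsAffineOpen V) {y y' : ProjectiveSpectrum (𝒮.deg V hV)}
    (h : (RelProj.emb p chart V hV).base y = (RelProj.emb p chart V hV).base y') : y = y' :=
  (RelProj.emb p chart V hV).isOpenEmbedding.injective h

/-- the restriction to a basic open is the localization at a degree-zero element -/
theorem res_facts (𝒮 : RelProj.QCGrAlg Y) {V D : Y.Opens} (hV : IsAffineOpen V) (hD : IsAffineOpen D) (r : Γ(Y, V))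
    (hr : D = Y.basicOpen r) (hle : D ≤ V) :
    IsUnit (𝒮.res hV hD hle ((𝒮.str.app (op V)).hom r)) ∧
    (∀ b : 𝒮.presheaf.obj (op D), ∃ (a : 𝒮.presheaf.obj (op V)) (k : ℕ),
      b * 𝒮.res hV hD hle ((𝒮.str.app (op V)).hom r) ^ k = 𝒮.res hV hD hle a) ∧
    (∀ a : 𝒮.presheaf.obj (op V), 𝒮.res hV hD hle a = 0 → ∃ k : ℕ, (𝒮.str.app (op V)).hom r ^ k * a = 0) := by
  subst hr
  exact ⟨RelProjExists.res_h1 𝒮 V hV r, RelProjExists.res_h2 𝒮 V hV r, RelProjExists.res_h3 𝒮 V hV r⟩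

variable (hP : RelProj.IsRelProj 𝒮 p chart)

include hP in
/-- the point of a chart is the contraction of the point of a chart over a basic open -/
theorem ideal_eq {x : P} (c d : Ch 𝒮 p chart x) (r : Γ(Y, c.U)) (hr : d.U = Y.basicOpen r) (hle : d.U ≤ c.U) :
    c.y.asHomogeneousIdeal.toIdeal =
      Ideal.comap (𝒮.res c.hU d.hU hle).toRingHom d.y.asHomogeneousIdeal.toIdeal := by
  have h1 := RelTwistVal.emb_eq_of_eq hP c.hU d.hU r hr hle d.y
  have h2 : c.y = ProjectiveSpectrum.comap (𝒮.res c.hU d.hU hle)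
      (RelTwistVal.irrelevant_le_map_of_eq 𝒮 c.hU d.hU r hr hle) d.y :=
    emb_inj c.U c.hU (c.hy.trans (d.hy.symm.trans h1))
  exact congrArg (fun t => t.asHomogeneousIdeal.toIdeal) h2

/-- the comparison map between the localizations at two charts of a point -/
abbrev tau {x : P} (c d : Ch 𝒮 p chart x) (hle : d.U ≤ c.U)
    (h : c.y.asHomogeneousIdeal.toIdeal =
      Ideal.comap (𝒮.res c.hU d.hU hle).toRingHom d.y.asHomogeneousIdeal.toIdeal) :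
    GrTwist.Loc (𝒮.deg c.U c.hU) c.y →+* GrTwist.Loc (𝒮.deg d.U d.hU) d.y :=
  RelTwistAlg.locMap' (𝒮.res c.hU d.hU hle).toRingHom c.y d.y h

theorem tau_injective {x : P} (c d : Ch 𝒮 p chart x) (r : Γ(Y, c.U)) (hr : d.U = Y.basicOpen r) (hle : d.U ≤ c.U)
    (h : c.y.asHomogeneousIdeal.toIdeal =
      Ideal.comap (𝒮.res c.hU d.hU hle).toRingHom d.y.asHomogeneousIdeal.toIdeal) :
    Function.Injective (tau c d hle h) := by
  obtain ⟨h1, h2, h3⟩ := res_facts 𝒮 c.hU d.hU r hr hle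
  exact RelTwistAlg.locMap'_injective (𝒮.res c.hU d.hU hle)
    (RelTwistVal.irrelevant_le_map_of_eq 𝒮 c.hU d.hU r hr hle) _ h1 h2 h3 c.y d.y h

theorem tau_mem (n : ℤ) {x : P} (c d : Ch 𝒮 p chart x) (r : Γ(Y, c.U)) (hr : d.U = Y.basicOpen r) (hle : d.U ≤ c.U)
    (h : c.y.asHomogeneousIdeal.toIdeal =
      Ideal.comap (𝒮.res c.hU d.hU hle).toRingHom d.y.asHomogeneousIdeal.toIdeal)
    {q : GrTwist.Loc (𝒮.deg c.U c.hU) c.y} (hq : q ∈ GrTwist.twistAt (𝒮.deg c.U c.hU) n c.y) :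
    tau c d hle h q ∈ GrTwist.twistAt (𝒮.deg d.U d.hU) n d.y :=
  RelTwistAlg.locMap'_mem (𝒮.res c.hU d.hU hle)
    (RelTwistVal.irrelevant_le_map_of_eq 𝒮 c.hU d.hU r hr hle) n c.y d.y h hq

theorem tau_surj (n : ℤ) {x : P} (c d : Ch 𝒮 p chart x) (r : Γ(Y, c.U)) (hr : d.U = Y.basicOpen r) (hle : d.U ≤ c.U)
    (h : c.y.asHomogeneousIdeal.toIdeal =
      Ideal.comap (𝒮.res c.hU d.hU hle).toRingHom d.y.asHomogeneousIdeal.toIdeal)
    {q : GrTwist.Loc (𝒮.deg d.U d.hU) d.y} (hq : q ∈ GrTwist.twistAt (𝒮.deg d.U d.hU) n d.y) :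
    ∃ q' ∈ GrTwist.twistAt (𝒮.deg c.U c.hU) n c.y, tau c d hle h q' = q := by
  obtain ⟨h1, h2, h3⟩ := res_facts 𝒮 c.hU d.hU r hr hle
  exact RelTwistAlg.exists_locMap'_eq (𝒮.res c.hU d.hU hle)
    (RelTwistVal.irrelevant_le_map_of_eq 𝒮 c.hU d.hU r hr hle) _ (𝒮.str_mem c.U c.hU r) h1 h2 n c.y d.y h hq

theorem tau_comp {x : P} (c d d' : Ch 𝒮 p chart x) (hle : d.U ≤ c.U) (hle' : d'.U ≤ d.U)
    (h₁ : c.y.asHomogeneousIdeal.toIdeal =
      Ideal.comap (𝒮.res c.hU d.hU hle).toRingHom d.y.asHomogeneousIdeal.toIdeal)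
    (h₂ : d.y.asHomogeneousIdeal.toIdeal =
      Ideal.comap (𝒮.res d.hU d'.hU hle').toRingHom d'.y.asHomogeneousIdeal.toIdeal)
    (h₃ : c.y.asHomogeneousIdeal.toIdeal =
      Ideal.comap (𝒮.res c.hU d'.hU (hle'.trans hle)).toRingHom d'.y.asHomogeneousIdeal.toIdeal)
    (q : GrTwist.Loc (𝒮.deg c.U c.hU) c.y) :
    tau d d' hle' h₂ (tau c d hle h₁ q) = tau c d' (hle'.trans hle) h₃ q := by
  have e : (𝒮.res d.hU d'.hU hle').toRingHom.comp (𝒮.res c.hU d.hU hle).toRingHom =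
      (𝒮.res c.hU d'.hU (hle'.trans hle)).toRingHom := by
    rw [RelProjExists.res_comp 𝒮 c.hU d.hU d'.hU hle hle']
    rfl
  have h₃' : c.y.asHomogeneousIdeal.toIdeal = Ideal.comap
      ((𝒮.res d.hU d'.hU hle').toRingHom.comp (𝒮.res c.hU d.hU hle).toRingHom)
      d'.y.asHomogeneousIdeal.toIdeal := by
    rw [e]; exact h₃
  unfold tau
  rw [RelTwistAlg.locMap'_comp _ _ c.y d.y d'.y h₁ h₂ h₃' q]
  exact RelTwistAlg.locMap'_congr e c.y d'.y h₃' h₃ q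

omit hP in
/-- two charts at a point have a common refinement, over an open basic in both -/
theorem exists_common {x : P} (c c' : Ch 𝒮 p chart x) :
    ∃ (d : Ch 𝒮 p chart x) (r : Γ(Y, c.U)) (r' : Γ(Y, c'.U)), d.U = Y.basicOpen r ∧ d.U = Y.basicOpen r' := by
  obtain ⟨f, g, hfg, hx⟩ := exists_basicOpen_le_affine_inter c.hU c'.hU (p.base x) ⟨c.base_mem, c'.base_mem⟩
  obtain ⟨z, hz⟩ := exists_chart (Y.basicOpen f) (c.hU.basicOpen f) x hx
  exact ⟨⟨Y.basicOpen f, c.hU.basicOpen f, z, hz⟩, f, g, rfl, hfg⟩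

omit hP in
theorem sec_congr (n : ℤ) {W : P.Opens} (f : ∀ x : W, T 𝒮 p chart n x.1) (x x' : W) (h : x.1 = x'.1)
    (U : Y.Opens) (hU : IsAffineOpen U) (y : ProjectiveSpectrum (𝒮.deg U hU))
    (h1 : (RelProj.emb p chart U hU).base y = x.1) (h2 : (RelProj.emb p chart U hU).base y = x'.1) :
    ((f x ⟨U, hU, y, h1⟩ : GrTwist.twistAt (𝒮.deg U hU) n y) : GrTwist.Loc (𝒮.deg U hU) y) =
      (f x' ⟨U, hU, y, h2⟩ : GrTwist.twistAt (𝒮.deg U hU) n y) := by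
  obtain ⟨x, hx⟩ := x
  obtain ⟨x', hx'⟩ := x'
  dsimp only at h h1 h2
  subst h
  rfl

/-- the compatibility clause of `IsRelTwist` for the constructed module -/
theorem compat_aux (n : ℤ) (U : Y.Opens) (hU : IsAffineOpen U) (r : Γ(Y, U)) (W : P.Opens)
    (s : sectL 𝒮 p chart hP n (op W))
    (y : ProjectiveSpectrum (𝒮.deg (Y.basicOpen r) (hU.basicOpen r)))
    (hy : (RelProj.emb p chart (Y.basicOpen r) (hU.basicOpen r)).base y ∈ W)
    (hy' : (RelProj.emb p chart U hU).base (ProjectiveSpectrum.comap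
      (𝒮.res hU (hU.basicOpen r) (Y.basicOpen_le r)) (𝒮.irrelevant_le_map U hU r) y) ∈ W) :
    ((s.1 ⟨_, hy⟩ ⟨Y.basicOpen r, hU.basicOpen r, y, rfl⟩ :
        GrTwist.twistAt (𝒮.deg (Y.basicOpen r) (hU.basicOpen r)) n y) :
        GrTwist.Loc (𝒮.deg (Y.basicOpen r) (hU.basicOpen r)) y) =
      GrTwist.locMap (𝒮.res hU (hU.basicOpen r) (Y.basicOpen_le r)) (𝒮.irrelevant_le_map U hU r) y
        (s.1 ⟨_, hy'⟩ ⟨U, hU, _, rfl⟩).1 := by
  have hemb := RelProjQC.emb_basic_apply hP U hU r y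
  have key := s.2.2 ⟨_, hy⟩ ⟨U, hU, ProjectiveSpectrum.comap
      (𝒮.res hU (hU.basicOpen r) (Y.basicOpen_le r)) (𝒮.irrelevant_le_map U hU r) y, hemb.symm⟩
    ⟨Y.basicOpen r, hU.basicOpen r, y, rfl⟩ r rfl (Y.basicOpen_le r) rfl
  refine key.trans ?_
  refine congrArg (GrTwist.locMap (𝒮.res hU (hU.basicOpen r) (Y.basicOpen_le r)) (𝒮.irrelevant_le_map U hU r) y) ?_
  exact sec_congr n s.1 _ _ hemb U hU _ _ _

theorem compat (n : ℤ) (U : Y.Opens) (hU : IsAffineOpen U) (r : Γ(Y, U)) (W : P.Opens)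
    (s : Γ(L 𝒮 p chart hP n, W))
    (y : ProjectiveSpectrum (𝒮.deg (Y.basicOpen r) (hU.basicOpen r)))
    (hy : (RelProj.emb p chart (Y.basicOpen r) (hU.basicOpen r)).base y ∈ W)
    (hy' : (RelProj.emb p chart U hU).base (ProjectiveSpectrum.comap
      (𝒮.res hU (hU.basicOpen r) (Y.basicOpen_le r)) (𝒮.irrelevant_le_map U hU r) y) ∈ W) :
    GrTwist.val (V := RelProj.emb p chart (Y.basicOpen r) (hU.basicOpen r) ⁻¹ᵁ W)
        ((lam 𝒮 p chart hP n (Y.basicOpen r) (hU.basicOpen r)).app W s) ⟨y, hy⟩ =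
      GrTwist.locMap (𝒮.res hU (hU.basicOpen r) (Y.basicOpen_le r)) (𝒮.irrelevant_le_map U hU r) y
        (GrTwist.val (V := RelProj.emb p chart U hU ⁻¹ᵁ W) ((lam 𝒮 p chart hP n U hU).app W s) ⟨_, hy'⟩) :=
  compat_aux hP n U hU r W s y hy hy'

omit hP in
theorem Ch.le_of_eq {x : P} {c d : Ch 𝒮 p chart x} {r : Γ(Y, c.U)} (hr : d.U = Y.basicOpen r) : d.U ≤ c.U := by
  rw [hr]; exact Y.basicOpen_le r

/-- the chart identification is injective on sections over opens lying over the affine open -/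
theorem lamApp_injective (n : ℤ) (U : Y.Opens) (hU : IsAffineOpen U) (W : P.Opens) (hW : W ≤ p ⁻¹ᵁ U) :
    Function.Injective (lamApp 𝒮 p chart hP n U hU W) := by
  intro s s' h
  apply Subtype.ext
  funext x c
  apply Subtype.ext
  obtain ⟨yU, hyU⟩ := exists_chart (𝒮 := 𝒮) (chart := chart) U hU x.1 (hW x.2)
  obtain ⟨d, r, r', hr, hr'⟩ := exists_common c (⟨U, hU, yU, hyU⟩ : Ch 𝒮 p chart x.1)
  have hle : d.U ≤ c.U := Ch.le_of_eq hr
  have hle' : d.U ≤ U := Ch.le_of_eq (c := (⟨U, hU, yU, hyU⟩ : Ch 𝒮 p chart x.1)) hr'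
  have hid := ideal_eq hP c d r hr hle
  have hid' := ideal_eq hP (⟨U, hU, yU, hyU⟩ : Ch 𝒮 p chart x.1) d r' hr' hle'
  have e1 := s.2.2 x c d r hr hle hid
  have e1' := s'.2.2 x c d r hr hle hid
  have e2 := s.2.2 x ⟨U, hU, yU, hyU⟩ d r' hr' hle' hid'
  have e2' := s'.2.2 x ⟨U, hU, yU, hyU⟩ d r' hr' hle' hid'
  have hmem : (RelProj.emb p chart U hU).base yU ∈ W := by rw [hyU]; exact x.2
  have h0 : ((s.1 ⟨_, hmem⟩ ⟨U, hU, yU, rfl⟩ : GrTwist.twistAt (𝒮.deg U hU) n yU) : GrTwist.Loc (𝒮.deg U hU) yU) =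
      (s'.1 ⟨_, hmem⟩ ⟨U, hU, yU, rfl⟩ : GrTwist.twistAt (𝒮.deg U hU) n yU) :=
    congrArg (fun t : GrTwist.sectN (𝒜 := 𝒮.deg U hU) n (op (RelProj.emb p chart U hU ⁻¹ᵁ W)) =>
      ((t.1 ⟨yU, hmem⟩ : GrTwist.twistAt (𝒮.deg U hU) n yU) : GrTwist.Loc (𝒮.deg U hU) yU)) h
  have hUeq : ((s.1 x ⟨U, hU, yU, hyU⟩ : GrTwist.twistAt (𝒮.deg U hU) n yU) : GrTwist.Loc (𝒮.deg U hU) yU) =
      (s'.1 x ⟨U, hU, yU, hyU⟩ : GrTwist.twistAt (𝒮.deg U hU) n yU) :=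
    (sec_congr n s.1 x ⟨_, hmem⟩ hyU.symm U hU yU hyU rfl).trans
      (h0.trans (sec_congr n s'.1 x ⟨_, hmem⟩ hyU.symm U hU yU hyU rfl).symm)
  apply tau_injective c d r hr hle hid
  unfold tau
  rw [← e1, ← e1', e2, e2', hUeq]

end Groth.Agent.Lib.Helper28.RelTwistEx
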