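import Groth.Agent.Lib.Helper28.RelTwistMap
import Groth.Agent.Lib.Helper28.RelChartHom

set_option autoImplicit false
universe u
open CategoryTheory CategoryTheory.Limits AlgebraicGeometry Opposite TopologicalSpace
open scoped HomogeneousIdeal
noncomputable section

namespace Groth.Agent.Lib.Helper28.RelTwistHom

open Groth.Agent.Lib.Helper28 Groth.Agent.Lib.Helper28.QCohLoc Groth.Agent.Lib.Helper28.GenLocus
  Groth.Agent.Lib.Helper28.RelTwistVal Groth.Agent.Lib.Helper28.RelTwistMap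

section alg

variable {A σA : Type u} [CommRing A] [SetLike σA A] [AddSubgroupClass σA A] {𝒜 : ℕ → σA} [GradedRing 𝒜]
variable {B σB : Type u} [CommRing B] [SetLike σB B] [AddSubgroupClass σB B] {ℬ : ℕ → σB} [GradedRing ℬ]
variable {B' σB' : Type u} [CommRing B'] [SetLike σB' B'] [AddSubgroupClass σB' B'] {ℬ' : ℕ → σB'} [GradedRing ℬ']
variable {C σC : Type u} [CommRing C] [SetLike σC C] [AddSubgroupClass σC C] {𝒞 : ℕ → σC} [GradedRing 𝒞]
variable (ψ₁ : 𝒜 →+*ᵍ ℬ) (h₁ : ℬ₊ ≤ (𝒜₊).map ψ₁) (ψ₂ : ℬ →+*ᵍ 𝒞) (h₂ : 𝒞₊ ≤ (ℬ₊).map ψ₂)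
  (ψ₁' : 𝒜 →+*ᵍ ℬ') (h₁' : ℬ'₊ ≤ (𝒜₊).map ψ₁') (ψ₂' : ℬ' →+*ᵍ 𝒞) (h₂' : 𝒞₊ ≤ (ℬ'₊).map ψ₂')

theorem comap_comap_eq (hcomm : ∀ a, ψ₂ (ψ₁ a) = ψ₂' (ψ₁' a)) (y : ProjectiveSpectrum 𝒞) :
    ProjectiveSpectrum.comap ψ₁ h₁ (ProjectiveSpectrum.comap ψ₂ h₂ y) =
      ProjectiveSpectrum.comap ψ₁' h₁' (ProjectiveSpectrum.comap ψ₂' h₂' y) := by
  apply ProjectiveSpectrum.ext
  apply HomogeneousIdeal.ext
  ext a
  show ψ₂ (ψ₁ a) ∈ y.asHomogeneousIdeal ↔ ψ₂' (ψ₁' a) ∈ y.asHomogeneousIdeal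
  rw [hcomm]

/-- two composite `locMap`s along a commutative square agree on a common value function -/
theorem locMap_locMap_eq (hcomm : ∀ a, ψ₂ (ψ₁ a) = ψ₂' (ψ₁' a)) (y : ProjectiveSpectrum 𝒞)
    (Q : ProjectiveSpectrum 𝒜 → Prop) (G : ∀ z : ProjectiveSpectrum 𝒜, Q z → GrTwist.Loc 𝒜 z)
    (hz : Q (ProjectiveSpectrum.comap ψ₁ h₁ (ProjectiveSpectrum.comap ψ₂ h₂ y)))
    (hz' : Q (ProjectiveSpectrum.comap ψ₁' h₁' (ProjectiveSpectrum.comap ψ₂' h₂' y))) :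
    GrTwist.locMap ψ₂ h₂ y (GrTwist.locMap ψ₁ h₁ _ (G _ hz)) =
      GrTwist.locMap ψ₂' h₂' y (GrTwist.locMap ψ₁' h₁' _ (G _ hz')) := by
  have hrep : ∀ (z₁ z₂ : ProjectiveSpectrum 𝒜) (_ : z₁ = z₂) (hz₁ : Q z₁) (hz₂ : Q z₂),
      ∃ (a s : A) (hs₁ : s ∈ z₁.asHomogeneousIdeal.toIdeal.primeCompl)
        (hs₂ : s ∈ z₂.asHomogeneousIdeal.toIdeal.primeCompl),
        G z₁ hz₁ = Localization.mk a ⟨s, hs₁⟩ ∧ G z₂ hz₂ = Localization.mk a ⟨s, hs₂⟩ := by
    intro z₁ z₂ e hz₁ hz₂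
    subst e
    induction hq : G z₁ hz₁ using Localization.induction_on with
    | H as => exact ⟨as.1, as.2.1, as.2.2, as.2.2, rfl, rfl⟩
  obtain ⟨a, s, hs₁, hs₂, e₁, e₂⟩ := hrep _ _ (comap_comap_eq ψ₁ h₁ ψ₂ h₂ ψ₁' h₁' ψ₂' h₂' hcomm y) hz hz'
  rw [e₁, e₂, GrTwist.locMap_mk, GrTwist.locMap_mk, GrTwist.locMap_mk, GrTwist.locMap_mk,
    Localization.mk_eq_mk_iff, Localization.r_iff_exists]
  refine ⟨1, ?_⟩
  simp only [OneMemClass.coe_one, one_mul]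
  rw [hcomm a, hcomm s]

end alg


section hom

variable {Y PA PB : Scheme.{u}} {𝒜 ℬ : RelProj.QCGrAlg Y}
    (φ : 𝒜.toQCAlg ⟶ ℬ.toQCAlg) (hφ : RelProj.IsGradedHom φ)
    (hirr : ∀ (U : Y.Opens) (hU : IsAffineOpen U),
      (ℬ.deg U hU)₊ ≤ ((𝒜.deg U hU)₊).map (RelProj.gradedHomAt φ hφ U hU))
    {pA : PA ⟶ Y} {pB : PB ⟶ Y}
    (chartA : ∀ (U : Y.Opens) (hU : IsAffineOpen U), (((pA ⁻¹ᵁ U : PA.Opens) : Scheme.{u}) ≅ Proj (𝒜.deg U hU)))
    (chartB : ∀ (U : Y.Opens) (hU : IsAffineOpen U), (((pB ⁻¹ᵁ U : PB.Opens) : Scheme.{u}) ≅ Proj (ℬ.deg U hU)))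
    (h : PB ⟶ PA) (hh : RelProj.IsRelProjMap φ hφ hirr chartA chartB h)
    (hA : RelProj.IsRelProj 𝒜 pA chartA) (hB : RelProj.IsRelProj ℬ pB chartB)
    {n : ℤ} {LA : PA.Modules}
    (lamA : ∀ (U : Y.Opens) (hU : IsAffineOpen U),
      LA ⟶ (Scheme.Modules.pushforward (RelProj.emb pA chartA U hU)).obj (GrTwist.twist (𝒜.deg U hU) n))
    {LB : PB.Modules}
    (lamB : ∀ (U : Y.Opens) (hU : IsAffineOpen U),
      LB ⟶ (Scheme.Modules.pushforward (RelProj.emb pB chartB U hU)).obj (GrTwist.twist (ℬ.deg U hU) n))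

/-- `t` is the image of `s` under the comparison `a / f ↦ φ a / φ f`, read on the charts over `U` -/
def Spec (U : Y.Opens) (hU : IsAffineOpen U) (W : PA.Opens) (s : Γ(LA, W)) (t : Γ(LB, h ⁻¹ᵁ W)) : Prop :=
  ∀ (y : Proj (ℬ.deg U hU)) (hy : (RelProj.emb pB chartB U hU).base y ∈ h ⁻¹ᵁ W)
    (hy' : (RelProj.emb pA chartA U hU).base
      (ProjectiveSpectrum.comap (RelProj.gradedHomAt φ hφ U hU) (hirr U hU) y) ∈ W),
    cv lamB hU t y hy =
      GrTwist.locMap (RelProj.gradedHomAt φ hφ U hU) (hirr U hU) y (cv lamA hU s _ hy')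

variable {lamA lamB} (hLA : RelProj.IsRelTwist 𝒜 pA chartA n LA lamA)
  (hLB : RelProj.IsRelTwist ℬ pB chartB n LB lamB)

include hh in
theorem mem_of_mem (U : Y.Opens) (hU : IsAffineOpen U) (W : PA.Opens) (y : Proj (ℬ.deg U hU))
    (hy : (RelProj.emb pB chartB U hU).base y ∈ h ⁻¹ᵁ W) :
    (RelProj.emb pA chartA U hU).base
      (ProjectiveSpectrum.comap (RelProj.gradedHomAt φ hφ U hU) (hirr U hU) y) ∈ W := by
  rw [← h_emb_apply φ hφ hirr chartA chartB h hh U hU y]; exact hy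

include hh hA hB hLB in
theorem spec_unique (U : Y.Opens) (hU : IsAffineOpen U) (W : PA.Opens) (hW : W ≤ pA ⁻¹ᵁ U) (s : Γ(LA, W))
    (t t' : Γ(LB, h ⁻¹ᵁ W)) (ht : Spec φ hφ hirr chartA chartB h lamA lamB U hU W s t)
    (ht' : Spec φ hφ hirr chartA chartB h lamA lamB U hU W s t') : t = t' := by
  have hle : h ⁻¹ᵁ W ≤ pB ⁻¹ᵁ U := by
    rw [← preimage_le φ hφ hirr chartA chartB h hh hA hB U]; exact h.preimage_mono hW
  refine ext_cv hLB hU hle t t' fun y hy => ?_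
  have hy' := mem_of_mem φ hφ hirr chartA chartB h hh U hU W y hy
  rw [ht y hy hy', ht' y hy hy']

include hh hA hB hLB in
theorem exists_spec (U : Y.Opens) (hU : IsAffineOpen U) (W : PA.Opens) (hW : W ≤ pA ⁻¹ᵁ U) (s : Γ(LA, W)) :
    ∃ t : Γ(LB, h ⁻¹ᵁ W), Spec φ hφ hirr chartA chartB h lamA lamB U hU W s t := by
  have hle : h ⁻¹ᵁ W ≤ pB ⁻¹ᵁ U := by
    rw [← preimage_le φ hφ hirr chartA chartB h hh hA hB U]; exact h.preimage_mono hW
  have hUV : (RelProj.emb pB chartB U hU ⁻¹ᵁ (h ⁻¹ᵁ W) : (Proj (ℬ.deg U hU)).Opens).1 ⊆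
      ProjectiveSpectrum.comap (RelProj.gradedHomAt φ hφ U hU) (hirr U hU) ⁻¹'
        (RelProj.emb pA chartA U hU ⁻¹ᵁ W : (Proj (𝒜.deg U hU)).Opens).1 :=
    fun y hy => mem_of_mem φ hφ hirr chartA chartB h hh U hU W y hy
  let σ : GrTwist.sectN (𝒜 := 𝒜.deg U hU) n (op (RelProj.emb pA chartA U hU ⁻¹ᵁ W)) := (lamA U hU).app W s
  let τ : Γ((Scheme.Modules.pushforward (RelProj.emb pB chartB U hU)).obj (GrTwist.twist (ℬ.deg U hU) n),
      h ⁻¹ᵁ W) :=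
    GrTwist.comapApp (RelProj.gradedHomAt φ hφ U hU) (hirr U hU) n _ _ hUV σ
  obtain ⟨t, ht⟩ := (hLB.bijective U hU (h ⁻¹ᵁ W) hle).2 τ
  refine ⟨t, fun y hy hy' => ?_⟩
  unfold cv
  rw [ht]
  rfl


omit hLA in
theorem cv_add' {𝒮 : RelProj.QCGrAlg Y} {P : Scheme.{u}} {p : P ⟶ Y}
    {chart : ∀ (U : Y.Opens) (hU : IsAffineOpen U), (((p ⁻¹ᵁ U : P.Opens) : Scheme.{u}) ≅ Proj (𝒮.deg U hU))}
    {κ : ℤ} {L : P.Modules}
    (lam : ∀ (U : Y.Opens) (hU : IsAffineOpen U),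
      L ⟶ (Scheme.Modules.pushforward (RelProj.emb p chart U hU)).obj (GrTwist.twist (𝒮.deg U hU) κ))
    {W : Y.Opens} (hW : IsAffineOpen W) {W₁ : P.Opens} (s s' : Γ(L, W₁))
    (y : Proj (𝒮.deg W hW)) (hy : (RelProj.emb p chart W hW).base y ∈ W₁) :
    cv lam hW (s + s') y hy = cv lam hW s y hy + cv lam hW s' y hy := by
  unfold cv
  rw [map_add]
  rfl

theorem Spec.add {U : Y.Opens} {hU : IsAffineOpen U} {W : PA.Opens} {s s' : Γ(LA, W)} {t t' : Γ(LB, h ⁻¹ᵁ W)}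
    (ht : Spec φ hφ hirr chartA chartB h lamA lamB U hU W s t)
    (ht' : Spec φ hφ hirr chartA chartB h lamA lamB U hU W s' t') :
    Spec φ hφ hirr chartA chartB h lamA lamB U hU W (s + s') (t + t') := by
  intro y hy hy'
  rw [cv_add', cv_add', map_add, ht y hy hy', ht' y hy hy']

include hh in
theorem Spec.smul {U : Y.Opens} {hU : IsAffineOpen U} {W : PA.Opens} {s : Γ(LA, W)} {t : Γ(LB, h ⁻¹ᵁ W)}
    (ht : Spec φ hφ hirr chartA chartB h lamA lamB U hU W s t) (a : Γ(PA, W)) :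
    Spec φ hφ hirr chartA chartB h lamA lamB U hU W (a • s) (h.app W a • t : Γ(LB, h ⁻¹ᵁ W)) := by
  intro y hy hy'
  rw [cv_smul, cv_smul, map_mul, ht y hy hy', cvO_app φ hφ hirr chartA chartB h hh U hU W a y hy hy']

theorem Spec.res {U : Y.Opens} {hU : IsAffineOpen U} {W W' : PA.Opens} (hle : W' ≤ W) {s : Γ(LA, W)}
    {t : Γ(LB, h ⁻¹ᵁ W)} (ht : Spec φ hφ hirr chartA chartB h lamA lamB U hU W s t) :
    Spec φ hφ hirr chartA chartB h lamA lamB U hU W' (res LA hle s) (res LB (h.preimage_mono hle) t) := by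
  intro y hy hy'
  rw [cv_res, cv_res]
  exact ht y (h.preimage_mono hle hy) (hle hy')

include hh hA hB hLA hLB in
theorem Spec.basic {U U' : Y.Opens} {hU : IsAffineOpen U} (hU' : IsAffineOpen U') (r : Γ(Y, U))
    (e : U' = Y.basicOpen r) (hle : U' ≤ U) {W : PA.Opens} {s : Γ(LA, W)}
    {t : Γ(LB, h ⁻¹ᵁ W)} (ht : Spec φ hφ hirr chartA chartB h lamA lamB U hU W s t) :
    Spec φ hφ hirr chartA chartB h lamA lamB U' hU' W s t := by
  intro y hy hy'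
  -- the point of the chart of `ℬ` over `U`
  have hyB : (RelProj.emb pB chartB U hU).base (ProjectiveSpectrum.comap (ℬ.res hU hU' hle)
      (irrelevant_le_map_of_eq ℬ hU hU' r e hle) y) ∈ h ⁻¹ᵁ W := by
    rw [← emb_eq_of_eq hB hU hU' r e hle y]; exact hy
  have hyA : (RelProj.emb pA chartA U hU).base (ProjectiveSpectrum.comap (𝒜.res hU hU' hle)
      (irrelevant_le_map_of_eq 𝒜 hU hU' r e hle)
      (ProjectiveSpectrum.comap (RelProj.gradedHomAt φ hφ U' hU') (hirr U' hU') y)) ∈ W := by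
    rw [← emb_eq_of_eq hA hU hU' r e hle _]; exact hy'
  have hyA' := mem_of_mem φ hφ hirr chartA chartB h hh U hU W _ hyB
  unfold cv
  rw [val_basic hLB hU hU' r e hle (h ⁻¹ᵁ W) t y hy hyB, val_basic hLA hU hU' r e hle W s _ hy' hyA]
  have h1 := ht _ hyB hyA'
  unfold cv at h1
  rw [h1]
  exact locMap_locMap_eq _ _ _ _ _ _ _ _ (fun a => (gradedHomAt_res φ hφ hU hU' hle a).symm) y
    (fun z => (RelProj.emb pA chartA U hU).base z ∈ W)
    (fun z hz => GrTwist.val (V := RelProj.emb pA chartA U hU ⁻¹ᵁ W) ((lamA U hU).app W s) ⟨z, hz⟩) hyA' hyA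


/-- the image section -/
def imgSec (U : Y.Opens) (hU : IsAffineOpen U) (W : PA.Opens) (hW : W ≤ pA ⁻¹ᵁ U) (s : Γ(LA, W)) :
    Γ(LB, h ⁻¹ᵁ W) :=
  (exists_spec φ hφ hirr chartA chartB h hh hA hB (lamA := lamA) hLB U hU W hW s).choose

theorem imgSec_spec (U : Y.Opens) (hU : IsAffineOpen U) (W : PA.Opens) (hW : W ≤ pA ⁻¹ᵁ U) (s : Γ(LA, W)) :
    Spec φ hφ hirr chartA chartB h lamA lamB U hU W s
      (imgSec φ hφ hirr chartA chartB h hh hA hB (lamA := lamA) hLB U hU W hW s) :=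
  (exists_spec φ hφ hirr chartA chartB h hh hA hB (lamA := lamA) hLB U hU W hW s).choose_spec

/-- the chartwise data of the comparison map -/
def chartData : RelProjQC.ChartHomData pA LA ((Scheme.Modules.pushforward h).obj LB) where
  φ U hU W hW s := imgSec φ hφ hirr chartA chartB h hh hA hB (lamA := lamA) hLB U hU W hW s
  add U hU W hW x y :=
    spec_unique φ hφ hirr chartA chartB h hh hA hB (lamA := lamA) hLB U hU W hW (x + y) _ _
      (imgSec_spec φ hφ hirr chartA chartB h hh hA hB hLB U hU W hW (x + y))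
      (Spec.add φ hφ hirr chartA chartB h
        (imgSec_spec φ hφ hirr chartA chartB h hh hA hB hLB U hU W hW x)
        (imgSec_spec φ hφ hirr chartA chartB h hh hA hB hLB U hU W hW y))
  smul U hU W hW a x :=
    spec_unique φ hφ hirr chartA chartB h hh hA hB (lamA := lamA) hLB U hU W hW (a • x) _ _
      (imgSec_spec φ hφ hirr chartA chartB h hh hA hB hLB U hU W hW (a • x))
      (Spec.smul φ hφ hirr chartA chartB h hh
        (imgSec_spec φ hφ hirr chartA chartB h hh hA hB hLB U hU W hW x) a)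
  nat U hU W hW W' hle x :=
    spec_unique φ hφ hirr chartA chartB h hh hA hB (lamA := lamA) hLB U hU W' (hle.trans hW) (res LA hle x) _ _
      (imgSec_spec φ hφ hirr chartA chartB h hh hA hB hLB U hU W' (hle.trans hW) (res LA hle x))
      (Spec.res φ hφ hirr chartA chartB h hle
        (imgSec_spec φ hφ hirr chartA chartB h hh hA hB hLB U hU W hW x))
  basic U hU r W hW x :=
    spec_unique φ hφ hirr chartA chartB h hh hA hB (lamA := lamA) hLB _ (hU.basicOpen r) W hW x _ _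
      (imgSec_spec φ hφ hirr chartA chartB h hh hA hB hLB _ (hU.basicOpen r) W hW x)
      (Spec.basic φ hφ hirr chartA chartB h hh hA hB hLA hLB (hU.basicOpen r) r rfl (Y.basicOpen_le r)
        (imgSec_spec φ hφ hirr chartA chartB h hh hA hB hLB U hU W
          (hW.trans (pA.preimage_mono (Y.basicOpen_le r))) x))


include hh hA hB hLA hLB in
/-- **the comparison map of relative twisting sheaves** -/
theorem existsUnique_hom :
    ∃! θ : LA ⟶ (Scheme.Modules.pushforward h).obj LB,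
      ∀ (U : Y.Opens) (hU : IsAffineOpen U) (W : PA.Opens) (s : Γ(LA, W)),
        Spec φ hφ hirr chartA chartB h lamA lamB U hU W s (θ.app W s) := by
  let D := chartData φ hφ hirr chartA chartB h hh hA hB hLA hLB
  refine ⟨D.hom, ?_, ?_⟩
  · intro U hU W s y hy hy'
    have hyU : (RelProj.emb pA chartA U hU).base
        (ProjectiveSpectrum.comap (RelProj.gradedHomAt φ hφ U hU) (hirr U hU) y) ∈ pA ⁻¹ᵁ U :=
      (RelProjQC.opensRange_emb pA chartA U hU).le ⟨_, rfl⟩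
    have hyW' : (RelProj.emb pA chartA U hU).base
        (ProjectiveSpectrum.comap (RelProj.gradedHomAt φ hφ U hU) (hirr U hU) y) ∈ W ⊓ pA ⁻¹ᵁ U :=
      ⟨hy', hyU⟩
    have hyB : (RelProj.emb pB chartB U hU).base y ∈ h ⁻¹ᵁ (W ⊓ pA ⁻¹ᵁ U) := by
      show h.base ((RelProj.emb pB chartB U hU).base y) ∈ W ⊓ pA ⁻¹ᵁ U
      rw [h_emb_apply φ hφ hirr chartA chartB h hh U hU y]; exact hyW'
    have h1 : res ((Scheme.Modules.pushforward h).obj LB) (inf_le_left : W ⊓ pA ⁻¹ᵁ U ≤ W) (D.hom.app W s) =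
        D.hom.app (W ⊓ pA ⁻¹ᵁ U) (res LA inf_le_left s) := (app_res D.hom inf_le_left s).symm
    rw [D.hom_app U hU (W ⊓ pA ⁻¹ᵁ U) inf_le_right] at h1
    have h2 := imgSec_spec φ hφ hirr chartA chartB h hh hA hB (lamA := lamA) hLB U hU (W ⊓ pA ⁻¹ᵁ U)
      inf_le_right (res LA inf_le_left s) y hyB hyW'
    rw [cv_res] at h2
    rw [← h2]
    have h3 : cv lamB hU (res LB (h.preimage_mono (inf_le_left : W ⊓ pA ⁻¹ᵁ U ≤ W)) (D.hom.app W s)) y hyB =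
        cv lamB hU (D.hom.app W s) y hy := cv_res lamB hU _ _ y hyB
    rw [← h3]
    exact congrArg (fun t => cv lamB hU t y hyB) h1
  · intro θ' hθ'
    refine RelProjQC.hom_ext_of_charts pA LA _ θ' D.hom fun U hU W hW x => ?_
    rw [D.hom_app U hU W hW]
    exact spec_unique φ hφ hirr chartA chartB h hh hA hB (lamA := lamA) hLB U hU W hW x _ _
      (hθ' U hU W x) (imgSec_spec φ hφ hirr chartA chartB h hh hA hB (lamA := lamA) hLB U hU W hW x)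

end hom

end Groth.Agent.Lib.Helper28.RelTwistHom
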