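import Groth.Agent.Lib.Helper28.RelTwistVal
import Groth.Agent.Lib.Helper28.RelProj
import Groth.Agent.Lib.Helper28.PullbackInv

set_option autoImplicit false
universe u
open CategoryTheory CategoryTheory.Limits AlgebraicGeometry Opposite TopologicalSpace
open scoped HomogeneousIdeal
noncomputable section

namespace Groth.Agent.Lib.Helper28.RelTwistMap

open Groth.Agent.Lib.Helper28 Groth.Agent.Lib.Helper28.QCohLoc Groth.Agent.Lib.Helper28.GenLocus
  Groth.Agent.Lib.Helper28.RelTwistVal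

variable {Y PA PB : Scheme.{u}} {𝒜 ℬ : RelProj.QCGrAlg Y}
    (φ : 𝒜.toQCAlg ⟶ ℬ.toQCAlg) (hφ : RelProj.IsGradedHom φ)
    (hirr : ∀ (U : Y.Opens) (hU : IsAffineOpen U),
      (ℬ.deg U hU)₊ ≤ ((𝒜.deg U hU)₊).map (RelProj.gradedHomAt φ hφ U hU))
    {pA : PA ⟶ Y} {pB : PB ⟶ Y}
    (chartA : ∀ (U : Y.Opens) (hU : IsAffineOpen U), (((pA ⁻¹ᵁ U : PA.Opens) : Scheme.{u}) ≅ Proj (𝒜.deg U hU)))
    (chartB : ∀ (U : Y.Opens) (hU : IsAffineOpen U), (((pB ⁻¹ᵁ U : PB.Opens) : Scheme.{u}) ≅ Proj (ℬ.deg U hU)))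
    (h : PB ⟶ PA) (hh : RelProj.IsRelProjMap φ hφ hirr chartA chartB h)

include hh in
theorem map_emb (U : Y.Opens) (hU : IsAffineOpen U) :
    Proj.map (RelProj.gradedHomAt φ hφ U hU) (hirr U hU) ≫ RelProj.emb pA chartA U hU =
      RelProj.emb pB chartB U hU ≫ h := by
  unfold RelProj.emb
  rw [Category.assoc, hh U hU, Iso.inv_hom_id_assoc]

include hh in
theorem h_emb_apply (U : Y.Opens) (hU : IsAffineOpen U) (y : Proj (ℬ.deg U hU)) :
    h.base ((RelProj.emb pB chartB U hU).base y) =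
      (RelProj.emb pA chartA U hU).base
        (ProjectiveSpectrum.comap (RelProj.gradedHomAt φ hφ U hU) (hirr U hU) y) := by
  have := congrArg (fun g => g.base y) (map_emb φ hφ hirr chartA chartB h hh U hU)
  exact this.symm

include hh in
/-- values of functions pulled back along `h` -/
theorem cvO_app (U : Y.Opens) (hU : IsAffineOpen U) (W₁ : PA.Opens) (c : Γ(PA, W₁))
    (y : Proj (ℬ.deg U hU)) (hy : (RelProj.emb pB chartB U hU).base y ∈ h ⁻¹ᵁ W₁)
    (hy' : (RelProj.emb pA chartA U hU).base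
      (ProjectiveSpectrum.comap (RelProj.gradedHomAt φ hφ U hU) (hirr U hU) y) ∈ W₁) :
    cvO pB chartB hU (h.app W₁ c) y hy =
      GrTwist.locMap (RelProj.gradedHomAt φ hφ U hU) (hirr U hU) y (cvO pA chartA hU c _ hy') := by
  unfold cvO
  have h1 := valO_app_of_comp (RelProj.gradedHomAt φ hφ U hU) (hirr U hU) (RelProj.emb pA chartA U hU)
    (RelProj.emb pB chartB U hU ≫ h) (map_emb φ hφ hirr chartA chartB h hh U hU) W₁ c y hy hy'
  rw [← h1]
  rfl

theorem gradedHomAt_res {V W : Y.Opens} (hV : IsAffineOpen V) (hW : IsAffineOpen W) (hle : W ≤ V)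
    (x : 𝒜.presheaf.obj (op V)) :
    RelProj.gradedHomAt φ hφ W hW (𝒜.res hV hW hle x) = ℬ.res hV hW hle (RelProj.gradedHomAt φ hφ V hV x) := by
  have := congrArg (fun t => t.hom x) (φ.hom.naturality (homOfLE hle).op)
  exact this


variable (hA : RelProj.IsRelProj 𝒜 pA chartA) (hB : RelProj.IsRelProj ℬ pB chartB)

include hA hB hh in
theorem preimage_le (U : Y.Opens) : h ⁻¹ᵁ (pA ⁻¹ᵁ U) = pB ⁻¹ᵁ U := by
  rw [← Scheme.Hom.comp_preimage, Groth.Agent.Lib.Helper28.RelProj.comp_eq φ hφ hirr chartA chartB hA hB h hh]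

include hA hB hh in
/-- the preimage under `h` of the image of `D₊(F)` is the image of `D₊(φ F)` -/
theorem preimage_image_basicOpen (U : Y.Opens) (hU : IsAffineOpen U) (F : 𝒜.presheaf.obj (op U)) :
    h ⁻¹ᵁ (RelProj.emb pA chartA U hU ''ᵁ Proj.basicOpen (𝒜.deg U hU) F) =
      RelProj.emb pB chartB U hU ''ᵁ
        Proj.basicOpen (ℬ.deg U hU) (RelProj.gradedHomAt φ hφ U hU F) := by
  ext x
  constructor
  · intro hx
    have hxU : x ∈ h ⁻¹ᵁ (pA ⁻¹ᵁ U) :=
      h.preimage_mono ((Scheme.Hom.image_le_opensRange _ _).trans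
        (RelProjQC.opensRange_emb pA chartA U hU).le) hx
    rw [preimage_le φ hφ hirr chartA chartB h hh hA hB U,
      ← RelProjQC.opensRange_emb pB chartB U hU] at hxU
    obtain ⟨y, rfl⟩ := hxU
    refine ⟨y, ?_, rfl⟩
    obtain ⟨z, hz, hzy⟩ := hx
    have hzy' : (RelProj.emb pA chartA U hU).base z = (RelProj.emb pA chartA U hU).base
        (ProjectiveSpectrum.comap (RelProj.gradedHomAt φ hφ U hU) (hirr U hU) y) :=
      hzy.trans (h_emb_apply φ hφ hirr chartA chartB h hh U hU y)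
    have e := (RelProj.emb pA chartA U hU).isOpenEmbedding.injective hzy'
    rw [e] at hz
    exact (Proj.mem_basicOpen _ _ y).2 ((Proj.mem_basicOpen _ F _).1 hz)
  · rintro ⟨y, hy, rfl⟩
    refine ⟨ProjectiveSpectrum.comap (RelProj.gradedHomAt φ hφ U hU) (hirr U hU) y, ?_,
      (h_emb_apply φ hφ hirr chartA chartB h hh U hU y).symm⟩
    exact (Proj.mem_basicOpen _ F _).2 ((Proj.mem_basicOpen _ _ y).1 hy)

variable {n : ℤ} {LA : PA.Modules}
  {lamA : ∀ (U : Y.Opens) (hU : IsAffineOpen U),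
    LA ⟶ (Scheme.Modules.pushforward (RelProj.emb pA chartA U hU)).obj (GrTwist.twist (𝒜.deg U hU) n)}
  (hLA : RelProj.IsRelTwist 𝒜 pA chartA n LA lamA)
  {LB : PB.Modules}
  {lamB : ∀ (U : Y.Opens) (hU : IsAffineOpen U),
    LB ⟶ (Scheme.Modules.pushforward (RelProj.emb pB chartB U hU)).obj (GrTwist.twist (ℬ.deg U hU) n)}
  (hLB : RelProj.IsRelTwist ℬ pB chartB n LB lamB)

include hA hB hh hLA hLB in
/-- transition functions of chart generators are compatible with `h` -/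
theorem cocycle_transfer {V V' : Y.Opens} (hV : IsAffineOpen V) (hV' : IsAffineOpen V') {T : PA.Opens}
    (hT : T ≤ pA ⁻¹ᵁ V) (hT' : T ≤ pA ⁻¹ᵁ V') {k : ℤ}
    (F : 𝒜.presheaf.obj (op V)) (F' : 𝒜.presheaf.obj (op V'))
    (a a' : Γ(LA, T)) (ha : Reads lamA hV a F k) (ha' : Reads lamA hV' a' F' k)
    (u : Γ(PA, T)) (hu : a = (u • a' : Γ(LA, T)))
    (b b' : Γ(LB, h ⁻¹ᵁ T)) (hb : Reads lamB hV b (RelProj.gradedHomAt φ hφ V hV F) k)
    (hb' : Reads lamB hV' b' (RelProj.gradedHomAt φ hφ V' hV' F') k) :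
    b = (h.app T u • b' : Γ(LB, h ⁻¹ᵁ T)) := by
  have hTB : h ⁻¹ᵁ T ≤ pB ⁻¹ᵁ V := by
    rw [← preimage_le φ hφ hirr chartA chartB h hh hA hB V]; exact h.preimage_mono hT
  have hTB' : h ⁻¹ᵁ T ≤ pB ⁻¹ᵁ V' := by
    rw [← preimage_le φ hφ hirr chartA chartB h hh hA hB V']; exact h.preimage_mono hT'
  refine eq_of_basic_cover hLB hV hV' hTB hTB' _ _ ?_
  intro W hW r r' e e' y hy
  have hle : W ≤ V := e ▸ Y.basicOpen_le r
  have hle' : W ≤ V' := e' ▸ Y.basicOpen_le r'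
  have hy' : (RelProj.emb pA chartA W hW).base
      (ProjectiveSpectrum.comap (RelProj.gradedHomAt φ hφ W hW) (hirr W hW) y) ∈ T := by
    rw [← h_emb_apply φ hφ hirr chartA chartB h hh W hW y]; exact hy
  obtain ⟨h1, hv1⟩ := (hb.basic hB hLB hW r e hle) y hy
  obtain ⟨h2, hv2⟩ := (hb'.basic hB hLB hW r' e' hle') y hy
  obtain ⟨h3, hv3⟩ := (ha.basic hA hLA hW r e hle) _ hy'
  obtain ⟨h4, hv4⟩ := (ha'.basic hA hLA hW r' e' hle') _ hy'
  have e1 := congrArg (fun s => cv lamA hW s _ hy') hu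
  simp only [cv_smul] at e1
  rw [hv3, hv4] at e1
  have e2 := congrArg (GrTwist.locMap (RelProj.gradedHomAt φ hφ W hW) (hirr W hW) y) e1
  rw [map_mul, locMap_pw _ _ y _ h3 (by rw [gradedHomAt_res]; exact h1),
    locMap_pw _ _ y _ h4 (by rw [gradedHomAt_res]; exact h2)] at e2
  rw [cv_smul, hv1, hv2, cvO_app φ hφ hirr chartA chartB h hh W hW T u y hy hy']
  have key : ∀ (G G' : ℬ.presheaf.obj (op W)) (_ : G = G') (hG : G ∉ y.asHomogeneousIdeal)
      (hG' : G' ∉ y.asHomogeneousIdeal),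
      GrTwistGenVal.pw (ℬ.deg W hW) y G hG k = GrTwistGenVal.pw (ℬ.deg W hW) y G' hG' k := by
    intro G G' hGG hG hG'
    subst hGG
    rfl
  rw [key _ _ (gradedHomAt_res φ hφ hV hW hle F).symm h1 (by rw [gradedHomAt_res]; exact h1),
    key _ _ (gradedHomAt_res φ hφ hV' hW hle' F').symm h2 (by rw [gradedHomAt_res]; exact h2)]
  exact e2

end Groth.Agent.Lib.Helper28.RelTwistMap
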