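import Groth.Agent.S8336
import Groth.Agent.Lib.Helper28.RelTwistEx3
import Groth.Agent.Lib.Helper28.TensorPowGen

/-!
# `O_P(n) ≅ O_P(1)^{⊗ n}` on a relative `Proj` of an algebra generated in degree one
-/

set_option autoImplicit false
universe u
open CategoryTheory CategoryTheory.Limits AlgebraicGeometry Opposite TopologicalSpace
open scoped HomogeneousIdeal
noncomputable section

namespace Groth.Agent.Lib.Helper28.RelTwistPow

open Groth.Agent.Lib.Helper28 Groth.Agent.Lib.Helper28.QCohLoc Groth.Agent.Lib.Helper28.GenLocus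

theorem pw_zero {A σ : Type u} [CommRing A] [SetLike σ A] [AddSubgroupClass σ A] (𝒜 : ℕ → σ) [GradedRing 𝒜]
    (x : ProjectiveSpectrum 𝒜) (f : A) (hfx : f ∉ x.asHomogeneousIdeal) :
    GrTwistGenVal.pw 𝒜 x f hfx 0 = 1 := by
  unfold GrTwistGenVal.pw
  simp only [Int.toNat_zero, pow_zero, neg_zero]
  exact Localization.mk_self 1

variable {Y P : Scheme.{u}} {𝒮 : RelProj.QCGrAlg Y} {p : P ⟶ Y}
  {chart : ∀ (U : Y.Opens) (hU : IsAffineOpen U), (((p ⁻¹ᵁ U : P.Opens) : Scheme.{u}) ≅ Proj (𝒮.deg U hU))}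
  (hP : RelProj.IsRelProj 𝒮 p chart) (hgen : 𝒮.IsGenDegOne)

include hP hgen in
/-- `O_P(0)` is the structure sheaf -/
theorem nonempty_unit_iso_of_isRelTwist_zero {L : P.Modules}
    {lam : ∀ (U : Y.Opens) (hU : IsAffineOpen U),
      L ⟶ (Scheme.Modules.pushforward (RelProj.emb p chart U hU)).obj (GrTwist.twist (𝒮.deg U hU) 0)}
    (hL : RelProj.IsRelTwist 𝒮 p chart 0 L lam) : Nonempty (Coh.structureModule P ≅ L) := by
  classical
  let ι := Σ V : Y.affineOpens, {F : 𝒮.presheaf.obj (op V.1) // F ∈ 𝒮.deg V.1 V.2 1}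
  let U : ι → P.Opens := fun i =>
    RelProj.emb p chart i.1.1 i.1.2 ''ᵁ Proj.basicOpen (𝒮.deg i.1.1 i.1.2) i.2.1
  have hUle : ∀ i : ι, U i ≤ p ⁻¹ᵁ i.1.1 := fun i =>
    (Scheme.Hom.image_le_opensRange _ _).trans (RelProjQC.opensRange_emb p chart i.1.1 i.1.2).le
  have hcov : ∀ x : P, ∃ i : ι, x ∈ U i := by
    intro x
    obtain ⟨V, y, hy⟩ := RelProjQC.exists_mem_opensRange_emb p chart x
    obtain ⟨F, hF, hyF⟩ := RelTwistLocal.cover_of_closure (𝒮.deg V.1 V.2) (hgen V.1 V.2) y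
    exact ⟨⟨V, F, hF⟩, y, hyF, hy⟩
  have hC : ∀ i : ι, ∃ c : Γ(L, U i), GenLocus.IsGen L (U i) c ∧ RelTwistVal.Reads lam i.1.2 c i.2.1 0 :=
    fun i => RelTwistVal.exists_gen_reads hL i.1.2 i.2.2 Nat.one_pos 0 (by simp)
  choose c hc hrc using hC
  suffices hcoc : ∀ i j : ι, ∃ u : Γ(P, U i ⊓ U j),
      res (Coh.structureModule P) inf_le_left (GenLocus.oneSec P (U i)) =
        (u • res (Coh.structureModule P) inf_le_right (GenLocus.oneSec P (U j)) :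
          Γ(Coh.structureModule P, U i ⊓ U j)) ∧
      res L inf_le_left (c i) = (u • res L inf_le_right (c j) : Γ(L, U i ⊓ U j)) by
    obtain ⟨ψ, -⟩ := GenLocus.exists_iso_of_cocycle_gen U
      (fun i => GenLocus.oneSec P (U i)) c (fun i => GenLocus.isGen_oneSec (U i)) hc hcov hcoc
    exact ⟨ψ⟩
  intro i j
  refine ⟨1, ?_, ?_⟩
  · rw [one_smul, GenLocus.res_oneSec, GenLocus.res_oneSec]
  · rw [one_smul]
    refine RelTwistVal.eq_of_basic_cover hL i.1.2 j.1.2 (inf_le_left.trans (hUle i))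
      (inf_le_right.trans (hUle j)) _ _ ?_
    intro W hW r r' e e' y hy
    have hle : W ≤ i.1.1 := e ▸ Y.basicOpen_le r
    have hle' : W ≤ j.1.1 := e' ▸ Y.basicOpen_le r'
    obtain ⟨h1, hv1⟩ := (((hrc i).res inf_le_left).basic hP hL hW r e hle) y hy
    obtain ⟨h2, hv2⟩ := (((hrc j).res inf_le_right).basic hP hL hW r' e' hle') y hy
    rw [hv1, hv2, pw_zero, pw_zero]

include hP hgen in
/-- `O_P(n) ≅ O_P(1)^{⊗ n}` for `n ≥ 0` -/
theorem nonempty_tensorPow_iso {L₁ : P.Modules}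
    {lam₁ : ∀ (U : Y.Opens) (hU : IsAffineOpen U),
      L₁ ⟶ (Scheme.Modules.pushforward (RelProj.emb p chart U hU)).obj (GrTwist.twist (𝒮.deg U hU) 1)}
    (hL₁ : RelProj.IsRelTwist 𝒮 p chart 1 L₁ lam₁) :
    ∀ (n : ℕ) (L : P.Modules)
      (lam : ∀ (U : Y.Opens) (hU : IsAffineOpen U),
        L ⟶ (Scheme.Modules.pushforward (RelProj.emb p chart U hU)).obj (GrTwist.twist (𝒮.deg U hU) (n : ℤ))),
      RelProj.IsRelTwist 𝒮 p chart (n : ℤ) L lam → Nonempty (CohB1.tensorPow L₁ n ≅ L)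
  | 0, L, lam, hL => nonempty_unit_iso_of_isRelTwist_zero hP hgen hL
  | n + 1, L, lam, hL => by
    obtain ⟨e⟩ := nonempty_tensorPow_iso hL₁ n (RelTwistEx.L 𝒮 p chart hP n) (RelTwistEx.lam 𝒮 p chart hP n)
      (RelTwistEx.isRelTwist hP n)
    obtain ⟨f⟩ := Groth.Agent.S8336.result 𝒮 p chart hP hgen (n : ℤ) 1 _ _ (RelTwistEx.isRelTwist hP n)
      L₁ lam₁ hL₁ L lam hL
    exact ⟨PicGrp.tensorModIso e (Iso.refl L₁) ≪≫ f⟩

end Groth.Agent.Lib.Helper28.RelTwistPow
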