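import Groth.Agent.Lib.Helper28.AffSpec
import Groth.Agent.Lib.Helper28.SymAlgCI
import Groth.Agent.Lib.Helper17.QCAlgGen

set_option autoImplicit false
universe u
open CategoryTheory CategoryTheory.Limits AlgebraicGeometry Opposite TopologicalSpace
noncomputable section

namespace Groth.Agent.Lib.Helper28.SymAlg

open Groth.Agent.Lib.Helper28 Groth.Agent.Lib.Helper28.QCohLoc Groth.Agent.Lib.Helper28.TraceAlg
open Groth.Agent.Lib.Helper17.QCAlgGen

attribute [local instance] algAt

/-- **an affine morphism of finite type over a qcqs base embeds into a vector bundle of finite type** -/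
theorem exists_closedImmersion_vectorBundle {X Y : Scheme.{u}} [CompactSpace Y] [QuasiSeparatedSpace Y]
    (f : X ⟶ Y) [IsAffineHom f] [LocallyOfFiniteType f] :
    ∃ (E : Y.Modules) (_ : Coh.IsCoh E) (A : RelSpec.QCAlg Y) (j : E ⟶ A.toModule)
      (_ : RelSpec.IsSymAlg E A j) (i : X ⟶ A.spec), IsClosedImmersion i ∧ i ≫ A.π = f := by
  let B := RelSpec.QCAlg.directImage f
  have hB : ∀ U : Y.affineOpens, (B.str.app (op (U : Y.Opens))).hom.FiniteType := by
    intro U
    have h := LocallyOfFiniteType.finiteType_appLE f U.2 (U.2.preimage f) le_rfl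
    have e : f.appLE U.1 (f ⁻¹ᵁ U.1) le_rfl = f.app U.1 := Scheme.Hom.appLE_eq_app f
    rw [e] at h
    exact h
  obtain ⟨E, φ, -, hq, hft, hgen⟩ := exists_gen B hB
  have : E.IsQuasicoherent := hq
  have hQC := isQC_symPre_of_isQuasicoherent E
  obtain ⟨ψ, hψ, -⟩ := isSymAlg hQC B φ
  have hψ' : jHom E hQC ≫ RelSpec.QCAlg.Hom.toModuleMap ψ = φ := hψ
  obtain ⟨c, hc, hcπ⟩ := AffSpec.exists_iso_spec_directImage f
  have hsurj : ∀ U : Y.affineOpens, Function.Surjective (ψ.hom.app (op U.1)).hom := by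
    intro U
    have h1 : Subring.closure (genSet φ U.1) ≤ (ψ.hom.app (op U.1)).hom.range := by
      refine Subring.closure_le.2 ?_
      rintro x (⟨a, rfl⟩ | ⟨e, rfl⟩)
      · exact ⟨((symAlg E hQC).str.app (op U.1)).hom a, congrArg (fun χ => (χ.app (op U.1)).hom a) ψ.comm⟩
      · refine ⟨asR (symAlg E hQC) ((jHom E hQC).app U.1 e), ?_⟩
        have := congrArg (fun χ : E ⟶ B.toModule => χ.app U.1 e) hψ'
        exact this
    intro y
    have hy : y ∈ Subring.closure (genSet φ U.1) := by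
      rw [hgen U]
      trivial
    exact h1 hy
  have hci : IsClosedImmersion (RelSpec.QCAlg.specMap ψ) := by
    refine RelSpecCover.prop_specMap_of_charts ψ @IsClosedImmersion (fun x => ?_)
    obtain ⟨_, ⟨U, hU, rfl⟩, hxU, -⟩ := Y.isBasis_affineOpens.exists_subset_of_mem_open
      (Set.mem_univ x) isOpen_univ
    exact ⟨U, hU, hxU, IsClosedImmersion.spec_of_surjective _ (hsurj ⟨U, hU⟩)⟩
  refine ⟨E, ⟨hq, hft⟩, symAlg E hQC, jHom E hQC, isSymAlg hQC, c ≫ RelSpec.QCAlg.specMap ψ, ?_, ?_⟩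
  · infer_instance
  · rw [Category.assoc, RelSpec.QCAlg.specMap_π]
    exact hcπ

end Groth.Agent.Lib.Helper28.SymAlg
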