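import Groth.Agent.Lib.Helper28.SymAlgUnique
import Groth.Agent.Lib.Helper28.RelSpecCover
import Groth.Agent.Lib.Helper28.FinType

set_option autoImplicit false
universe u
open CategoryTheory CategoryTheory.Limits AlgebraicGeometry Opposite TopologicalSpace
noncomputable section

namespace Groth.Agent.Lib.Helper28.SymAlg

open Groth.Agent.Lib.Helper28 Groth.Agent.Lib.Helper28.QCohLoc Groth.Agent.Lib.Helper28.TraceAlg

attribute [local instance] algAt

theorem finiteType_symmetricAlgebra (R M : Type*) [CommRing R] [AddCommGroup M] [Module R M] [Module.Finite R M] :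
    Algebra.FiniteType R (SymmetricAlgebra R M) := by
  classical
  obtain ⟨s, hs⟩ := Module.Finite.fg_top (R := R) (M := M)
  refine ⟨⟨s.image (SymmetricAlgebra.ι R M), ?_⟩⟩
  rw [eq_top_iff]
  rintro z -
  induction z using SymmetricAlgebra.induction with
  | algebraMap r => exact Subalgebra.algebraMap_mem _ r
  | ι m =>
    have hm : m ∈ Submodule.span R (s : Set M) := by rw [hs]; trivial
    induction hm using Submodule.span_induction with
    | mem x hx =>
      refine Algebra.subset_adjoin ?_
      rw [Finset.coe_image]
      exact Set.mem_image_of_mem _ hx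
    | zero => rw [map_zero]; exact Subalgebra.zero_mem _
    | add x y _ _ hx hy => rw [map_add]; exact Subalgebra.add_mem _ hx hy
    | smul a x _ hx => rw [map_smul]; exact Subalgebra.smul_mem _ hx a
  | mul a b ha hb => exact Subalgebra.mul_mem _ ha hb
  | add a b ha hb => exact Subalgebra.add_mem _ ha hb

variable {S : Scheme.{u}}

/-- **the vector bundle of a quasi-coherent module of finite type is locally of finite type** -/
theorem locallyOfFiniteType_π {E : S.Modules} (hE : Coh.IsCoh E) {A : RelSpec.QCAlg S} {j : E ⟶ A.toModule}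
    (hA : RelSpec.IsSymAlg E A j) : LocallyOfFiniteType A.π := by
  have hq : E.IsQuasicoherent := hE.1
  have hf : SheafOfModules.IsFiniteType.{u} (R := S.ringCatSheaf) E := hE.2
  refine RelSpecCover.prop_of_charts A @LocallyOfFiniteType (fun x => ?_)
  obtain ⟨_, ⟨U, hU, rfl⟩, hxU, -⟩ := S.isBasis_affineOpens.exists_subset_of_mem_open (Set.mem_univ x) isOpen_univ
  refine ⟨U, hU, hxU, (HasRingHomProperty.Spec_iff (P := @LocallyOfFiniteType)).2 ?_⟩
  show Algebra.FiniteType Γ(S, U) (A.presheaf.obj (op U))
  have : Module.Finite Γ(S, U) Γ(E, U) := FinType.finite_of_isAffineOpen E hU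
  have := finiteType_symmetricAlgebra Γ(S, U) Γ(E, U)
  exact Algebra.FiniteType.of_surjective (liftU A j U) (liftU_bijective hA U hU).2

end Groth.Agent.Lib.Helper28.SymAlg
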