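import Groth.Agent.Lib.Helper28.TrivExt
import Groth.Agent.Lib.Helper28.SymAlgEmbed
import Groth.Agent.Lib.Helper28.SymAlgFT
import Groth.Agent.Lib.Helper4.QCAlgPushout
import Groth.Agent.Lib.Helper29.FreeIso4
import Groth.Prelude.Def_PerfAux

set_option autoImplicit false
universe u
open CategoryTheory CategoryTheory.Limits AlgebraicGeometry Opposite TopologicalSpace
noncomputable section

namespace Groth.Agent.Lib.Helper28.ResProp

open Groth.Agent.Lib.Helper28 Groth.Agent.Lib.Helper28.QCohLoc Groth.Agent.Lib.Helper28.TraceAlg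
open Groth.Agent.Lib.Helper28.SymAlg Groth.Agent.Lib.Helper4.QCAlgPushout

attribute [local instance] algAt

variable {S : Scheme.{u}}

theorem surjective_algHom_app {X Y : Scheme.{u}} (f : X ⟶ S) (g : Y ⟶ S) (h : Y ⟶ X) (w : h ≫ f = g)
    [IsClosedImmersion h] (U : S.Opens) (hU : IsAffineOpen U) [IsAffineHom f] :
    Function.Surjective ((AffAlg.algHom f g h w).app (op U)).hom := by
  subst w
  have e : (AffAlg.algHom f (h ≫ f) h rfl).app (op U) = h.app (f ⁻¹ᵁ U) := by
    simp [AffAlg.algHom]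
    rfl
  rw [e]
  exact Scheme.Hom.app_surjective h _ (hU.preimage f)

/-- the algebra map induced by a morphism of relative spectra -/
def theta (A B : RelSpec.QCAlg S) (i : B.spec ⟶ A.spec) (w : i ≫ A.π = B.π) : A ⟶ B :=
  gammaInv A ≫ ofMor A.π B i w

theorem surjective_theta (A B : RelSpec.QCAlg S) (i : B.spec ⟶ A.spec) (w : i ≫ A.π = B.π)
    [IsClosedImmersion i] (U : S.Opens) (hU : IsAffineOpen U) :
    Function.Surjective ((theta A B i w).hom.app (op U)).hom := by
  have h1 : (theta A B i w).hom.app (op U) =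
      (gammaInvMap A).app (op U) ≫ (AffAlg.algHom A.π B.π i w).app (op U) ≫ B.gammaMap.app (op U) := rfl
  rw [h1]
  have : IsIso A.gammaMap := isIso_gammaMap A
  have : IsIso B.gammaMap := isIso_gammaMap B
  have : IsIso (gammaInvMap A) := by unfold gammaInvMap; infer_instance
  have b1 := (ConcreteCategory.bijective_of_isIso ((gammaInvMap A).app (op U))).2
  have b3 := (ConcreteCategory.bijective_of_isIso (B.gammaMap.app (op U))).2
  have b2 := surjective_algHom_app A.π B.π i w U hU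
  intro y
  obtain ⟨y2, rfl⟩ := b3 y
  obtain ⟨y1, rfl⟩ := b2 y2
  obtain ⟨y0, rfl⟩ := b1 y1
  exact ⟨y0, rfl⟩


attribute [local instance] TrivExt.modOp

/-- **(⇐)**: from closed embeddings of the vector bundles `V(M)` into `V(E)` to the resolution property -/
theorem exists_epi_of_embed (M : S.Modules) (hM : Coh.IsQCoh M) (hft : CohB1.IsFT M)
    (H : ∀ (X : Scheme.{u}) (f : X ⟶ S) [IsAffineHom f] [LocallyOfFiniteType f],
        ∃ (E : S.Modules) (A : RelSpec.QCAlg S) (j : E ⟶ A.toModule) (i : X ⟶ A.spec),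
          Coh.IsQCoh E ∧ FlatMod.IsFinLocFree E ∧ RelSpec.IsSymAlg E A j ∧ IsClosedImmersion i ∧ i ≫ A.π = f) :
    ∃ (E : S.Modules) (π : E ⟶ M), FlatMod.IsFinLocFree E ∧ Epi π := by
  have : M.IsQuasicoherent := hM
  have hQC := isQC_symPre_of_isQuasicoherent M
  let B := symAlg M hQC
  have hB : RelSpec.IsSymAlg M B (jHom M hQC) := isSymAlg hQC
  have : LocallyOfFiniteType B.π := locallyOfFiniteType_π ⟨hM, hft⟩ hB
  obtain ⟨E, A, j, i, hEq, hElf, hA, hi, hiπ⟩ := H B.spec B.π
  have : E.IsQuasicoherent := hEq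
  let θ : A ⟶ B := theta A B i hiπ
  obtain ⟨D, hD, -⟩ := hB (TrivExt.alg M) (TrivExt.inrHom M)
  have hD' : jHom M hQC ≫ RelSpec.QCAlg.Hom.toModuleMap D = TrivExt.inrHom M := hD
  let q : E ⟶ M := j ≫ RelSpec.QCAlg.Hom.toModuleMap θ ≫ RelSpec.QCAlg.Hom.toModuleMap D ≫ TrivExt.sndHom M
  refine ⟨E, q, hElf, ?_⟩
  refine epi_of_affine_cover q (fun V : S.affineOpens => V.1) (fun V => V.2) (fun x => ?_)
    (fun V => isLocOn_of_isQuasicoherent M V.2) (fun V => ?_)
  · obtain ⟨_, ⟨U, hU, rfl⟩, hxU, -⟩ := S.isBasis_affineOpens.exists_subset_of_mem_open (Set.mem_univ x) isOpen_univ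
    exact ⟨⟨U, hU⟩, hxU⟩
  · obtain ⟨U, hU⟩ := V
    let ρ : A.presheaf.obj (op U) →+* TrivExt.TS M U := (D.hom.app (op U)).hom.comp (θ.hom.app (op U)).hom
    have hq : ∀ e : Γ(E, U), q.app U e = (ρ (asR A (j.app U e))).snd := fun e => rfl
    have hstr : ∀ a : Γ(S, U), ρ ((A.str.app (op U)).hom a) = (TrivSqZeroExt.inl a : TrivExt.TS M U) := by
      intro a
      have h1 : (θ.hom.app (op U)).hom ((A.str.app (op U)).hom a) = (B.str.app (op U)).hom a :=
        congrArg (fun χ => (χ.app (op U)).hom a) θ.comm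
      have h2 : (D.hom.app (op U)).hom ((B.str.app (op U)).hom a) = ((TrivExt.alg M).str.app (op U)).hom a :=
        congrArg (fun χ => (χ.app (op U)).hom a) D.comm
      show (D.hom.app (op U)).hom ((θ.hom.app (op U)).hom ((A.str.app (op U)).hom a)) = _
      rw [h1, h2]
      rfl
    have key : ∀ z : SymmetricAlgebra Γ(S, U) Γ(E, U), ∃ e : Γ(E, U), q.app U e = (ρ (liftU A j U z)).snd := by
      intro z
      induction z using SymmetricAlgebra.induction with
      | algebraMap a =>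
        refine ⟨0, ?_⟩
        rw [liftU_algebraMap, hstr, TrivSqZeroExt.snd_inl]
        exact map_zero _
      | ι e =>
        refine ⟨e, ?_⟩
        rw [liftU_ι]
        exact hq e
      | add x y hx hy =>
        obtain ⟨e1, h1⟩ := hx
        obtain ⟨e2, h2⟩ := hy
        refine ⟨e1 + e2, ?_⟩
        have h3 : (ρ (liftU A j U (x + y))).snd = (ρ (liftU A j U x)).snd + (ρ (liftU A j U y)).snd := by
          rw [map_add (liftU A j U), map_add ρ, TrivSqZeroExt.snd_add]
        rw [h3, ← h1, ← h2]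
        exact map_add _ _ _
      | mul x y hx hy =>
        obtain ⟨e1, h1⟩ := hx
        obtain ⟨e2, h2⟩ := hy
        refine ⟨(ρ (liftU A j U x)).fst • e2 + (ρ (liftU A j U y)).fst • e1, ?_⟩
        have h3 : (ρ (liftU A j U (x * y))).snd = (ρ (liftU A j U x)).fst • (ρ (liftU A j U y)).snd +
            (ρ (liftU A j U y)).fst • (ρ (liftU A j U x)).snd := by
          rw [map_mul (liftU A j U), map_mul ρ, TrivExt.snd_mul']
        rw [h3, ← h1, ← h2]
        refine (map_add _ _ _).trans ?_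
        rw [Scheme.Modules.Hom.app_smul, Scheme.Modules.Hom.app_smul]
    intro m
    obtain ⟨x, hx⟩ := surjective_theta A B i hiπ U hU (asR B ((jHom M hQC).app U m))
    obtain ⟨z, rfl⟩ := (liftU_bijective hA U hU).2 x
    obtain ⟨e, he⟩ := key z
    refine ⟨e, he.trans ?_⟩
    show ((D.hom.app (op U)).hom ((θ.hom.app (op U)).hom (liftU A j U z))).snd = m
    have h3 : (D.hom.app (op U)).hom (asR B ((jHom M hQC).app U m)) = (TrivSqZeroExt.inr m : TrivExt.TS M U) :=
      congrArg (fun χ => asR (TrivExt.alg M) (χ.app U m)) hD'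
    have hx' : (θ.hom.app (op U)).hom (liftU A j U z) = asR B ((jHom M hQC).app U m) := hx
    rw [hx', h3, TrivSqZeroExt.snd_inr]


/-- **(⇒)**: the resolution property gives closed embeddings into vector bundles of finite locally free modules -/
theorem exists_embed_of_resolution [IsNoetherian S] (hres : PerfAux.HasResolutionProperty S)
    (X : Scheme.{u}) (f : X ⟶ S) [IsAffineHom f] [LocallyOfFiniteType f] :
    ∃ (E : S.Modules) (A : RelSpec.QCAlg S) (j : E ⟶ A.toModule) (i : X ⟶ A.spec),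
      Coh.IsQCoh E ∧ FlatMod.IsFinLocFree E ∧ RelSpec.IsSymAlg E A j ∧ IsClosedImmersion i ∧ i ≫ A.π = f := by
  obtain ⟨E₀, hE₀, A₀, j₀, hA₀, i₀, hi₀, hi₀π⟩ := exists_closedImmersion_vectorBundle f
  obtain ⟨E, π, hElf, hπ⟩ := hres E₀ hE₀.1 hE₀.2
  have hEq : E.IsQuasicoherent := Groth.Agent.Lib.Helper29.FreeIso.isQuasicoherent_of_isFinLocFree E hElf
  have hQC := isQC_symPre_of_isQuasicoherent E
  obtain ⟨ψ, hψ, -⟩ := isSymAlg hQC A₀ (π ≫ j₀)
  have hci : IsClosedImmersion (RelSpec.QCAlg.specMap ψ) := isClosedImmersion_specMap hEq hE₀.1 π hA₀ ψ hψ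
  refine ⟨E, symAlg E hQC, jHom E hQC, i₀ ≫ RelSpec.QCAlg.specMap ψ, hEq, hElf, isSymAlg hQC, inferInstance, ?_⟩
  rw [Category.assoc, RelSpec.QCAlg.specMap_π, hi₀π]

end Groth.Agent.Lib.Helper28.ResProp
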