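import Groth.Agent.Lib.Helper28.SerreFin
import Groth.Agent.Lib.Helper28.AmpleCompose
import Groth.Prelude.Def_PerfAux
import Groth.Prelude.Def_MoreMor

/-!
# The resolution property from an ample family of invertible modules
-/

set_option autoImplicit false
universe u
open CategoryTheory CategoryTheory.Limits AlgebraicGeometry Opposite TopologicalSpace
noncomputable section

namespace Groth.Agent.Lib.Helper28.HomMod

open Groth.Agent.Lib.Helper28 Groth.Agent.Lib.Helper28.QCohLoc Groth.Agent.Lib.Helper28.GenLocus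
  Groth.Agent.Lib.Helper28.TensorGen Groth.Agent.Lib.Helper28.AmpleCompose Groth.Agent.Lib.Helper28.FinType

variable {X : Scheme.{u}}

/-- a finite direct sum of invertible modules is finite locally free -/
theorem isFinLocFree_sigma_of_invertible {N : ℕ} (F : Fin N → X.Modules) (hF : ∀ j, PicF.IsInvertible (F j)) :
    FlatMod.IsFinLocFree (∐ F) := by
  intro x
  have h1 : ∀ j, ∃ (U : X.Opens) (g : Γ(F j, U)), x ∈ U ∧ IsGen (F j) U g := fun j => exists_isGen (F j) (hF j) x
  choose U g hxU hg using h1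
  let W : X.Opens := ⟨⋂ j, (U j : Set X), isOpen_iInter_of_finite fun j => (U j).isOpen⟩
  have hxW : x ∈ W := Set.mem_iInter.2 hxU
  have hWU : ∀ j, W ≤ U j := fun j y hy => Set.mem_iInter.1 hy j
  have h2 : ∀ j, Nonempty ((F j).restrict W.ι ≅ Coh.structureModule (↑W)) := fun j =>
    InvGen.nonempty_restrict_iso_of_generator (F j) W (res (F j) (hWU j) (g j)) (fun _ => True)
      (fun V y hy _ => ⟨V, trivial, hy, le_rfl⟩) (fun W' hW' _ => ((hg j).res (hWU j)) W' hW')
  refine ⟨W, N, hxW, ⟨PreservesCoproduct.iso (Scheme.Modules.restrictFunctor W.ι) _ ≪≫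
    Sigma.mapIso (fun j => (h2 j).some)⟩⟩

/-- a family of morphisms whose images generate the target locally induces an epimorphism from the direct sum -/
theorem epi_sigma_desc_of_locally {ι : Type*} {M : X.Modules} (F : ι → X.Modules) [HasCoproduct F]
    (φ : ∀ j, F j ⟶ M)
    (h : ∀ (U : X.Opens) (x : Γ(M, U)) (pt : X), pt ∈ U → ∃ (V : X.Opens) (hV : V ≤ U), pt ∈ V ∧
      res M hV x ∈ ⨆ j, LinearMap.range (appLin (φ j) V)) :
    Epi (Sigma.desc φ) := by
  refine epi_of_locally_in_range _ ?_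
  intro U x pt hpt
  obtain ⟨V, hV, hptV, hx⟩ := h U x pt hpt
  refine ⟨V, hV, hptV, ?_⟩
  refine Submodule.iSup_induction _ (motive := fun x => ∃ y : Γ((∐ F), V), (Sigma.desc φ).app V y = x) hx ?_ ?_ ?_
  · rintro j _ ⟨y, rfl⟩
    refine ⟨(Sigma.ι F j).app V y, ?_⟩
    have h1 : (Sigma.desc φ).app V ((Sigma.ι F j).app V y) = (Sigma.ι F j ≫ Sigma.desc φ).app V y := rfl
    rw [h1, Sigma.ι_desc]
    rfl
  · exact ⟨0, map_zero _⟩
  · rintro x y ⟨x', hx'⟩ ⟨y', hy'⟩
    exact ⟨x' + y', by rw [map_add, hx', hy']⟩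

/-- a finite family of morphisms from invertible modules generating the target locally gives a resolution -/
theorem exists_resolution_of_family {A : Type u} [Fintype A] {M : X.Modules} (G : A → X.Modules)
    (hG : ∀ a, PicF.IsInvertible (G a)) (ψ : ∀ a, G a ⟶ M)
    (h : ∀ (U : X.Opens) (x : Γ(M, U)) (pt : X), pt ∈ U → ∃ (V : X.Opens) (hV : V ≤ U), pt ∈ V ∧
      res M hV x ∈ ⨆ a, LinearMap.range (appLin (ψ a) V)) :
    ∃ (E : X.Modules) (π : E ⟶ M), FlatMod.IsFinLocFree E ∧ Epi π := by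
  classical
  let e : Fin (Fintype.card A) ≃ A := (Fintype.equivFin A).symm
  let F : Fin (Fintype.card A) → X.Modules := fun j => G (e j)
  let φ : ∀ j, F j ⟶ M := fun j => ψ (e j)
  refine ⟨∐ F, Sigma.desc φ, ?_, ?_⟩
  · exact isFinLocFree_sigma_of_invertible F fun j => hG (e j)
  · refine epi_sigma_desc_of_locally F φ ?_
    intro U x pt hpt
    obtain ⟨V, hV, hptV, hmem⟩ := h U x pt hpt
    refine ⟨V, hV, hptV, ?_⟩
    refine (iSup_le fun a => ?_ : (⨆ a, LinearMap.range (appLin (ψ a) V)) ≤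
      ⨆ j, LinearMap.range (appLin (ψ (e j)) V)) hmem
    have hle : ∀ (j : Fin (Fintype.card A)), e j = a →
        LinearMap.range (appLin (ψ a) V) ≤ ⨆ j, LinearMap.range (appLin (ψ (e j)) V) := by
      intro j h
      subst h
      exact le_iSup (fun j => LinearMap.range (appLin (ψ (e j)) V)) j
    exact hle (e.symm a) (e.apply_symm_apply a)

/-- **a scheme with an ample family of invertible modules has the resolution property** -/
theorem hasResolutionProperty_of_hasAmpleFamily (hX : MoreMor.HasAmpleFamily X) :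
    PerfAux.HasResolutionProperty X := by
  classical
  obtain ⟨hcomp, hfam⟩ := hX
  choose L n s hinv hn hx haff using hfam
  have hΛ : ∀ p, PicF.IsInvertible (CohB1.tensorPow (L p) (n p)) := fun p => isInvertible_tensorPow (hinv p) (n p)
  have hqs : QuasiSeparatedSpace X := by
    refine quasiSeparatedSpace_of_cover (fun p => CohB1.genLocus _ (s p)) (fun x => ⟨x, hx x⟩) ?_ ?_
    · intro p R
      have h1 := isAffineOpen_genLocus_inf (hΛ p) (s p) R.2
      rw [inf_comm] at h1
      exact h1.isCompact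
    · intro p
      have : IsAffine (↑(CohB1.genLocus _ (s p)) : Scheme.{u}) := haff p
      infer_instance
  intro M hqc hft
  have : M.IsQuasicoherent := hqc
  have : SheafOfModules.IsFiniteType.{u} (R := X.ringCatSheaf) M := hft
  obtain ⟨T, hT⟩ := finite_cover_nhds (U := fun x => (CohB1.genLocus _ (s x) : Set X))
    (fun x => (CohB1.genLocus _ (s x)).isOpen.mem_nhds (hx x))
  have h1 := fun p => exists_genAtBy_of_affine (hΛ p) (s p) (haff p) M (finite_of_isAffineOpen M (haff p))
  choose k₀ hk₀ using h1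
  have h2 := fun p => hk₀ p (k₀ p) le_rfl
  choose S' hS'fin hS' using h2
  have h3 := fun p => (hS'fin p).fin_embedding
  choose k f hf using h3
  have hΛ' : ∀ p, PicF.IsInvertible (CohB1.tensorPow (CohB1.tensorPow (L p) (n p)) (k₀ p)) := fun p =>
    isInvertible_tensorPow (hΛ p) (k₀ p)
  refine exists_resolution_of_family (A := Σ p : {p // p ∈ T}, Fin (k p.1))
    (fun a => dual (CohB1.tensorPow (CohB1.tensorPow (L a.1.1) (n a.1.1)) (k₀ a.1.1)))
    (fun a => isInvertible_dual (hΛ' a.1.1))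
    (fun a => homOfTensorSec M (hΛ' a.1.1) (f a.1.1 a.2)) ?_
  intro U x pt hpt
  obtain ⟨p, hpT, hptp⟩ : ∃ p ∈ T, pt ∈ CohB1.genLocus _ (s p) := by
    have : pt ∈ ⋃ y ∈ T, (CohB1.genLocus _ (s y) : Set X) := by rw [hT]; trivial
    simp only [Set.mem_iUnion] at this
    obtain ⟨y, hy, hxy⟩ := this
    exact ⟨y, hy, hxy⟩
  have hgen : GenAtBy (CohB1.tensorMod M (CohB1.tensorPow (CohB1.tensorPow (L p) (n p)) (k₀ p)))
      (Set.range fun j => f p j) pt := by
    have : (Set.range fun j => f p j) = S' p := hf p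
    rw [this]
    exact hS' p pt hptp
  obtain ⟨V, hV, hptV, hmem⟩ := exists_mem_genRange_of_genAtBy M (hΛ' p) (fun j => f p j) pt hgen U x hpt
  refine ⟨V, hV, hptV, ?_⟩
  refine (iSup_le fun j' => ?_ : genRange (fun j => homOfTensorSec M (hΛ' p) (f p j)) V ≤ _) hmem
  exact le_iSup (fun a : (Σ p : {p // p ∈ T}, Fin (k p.1)) =>
    LinearMap.range (appLin (homOfTensorSec M (hΛ' a.1.1) (f a.1.1 a.2)) V)) ⟨⟨p, hpT⟩, j'⟩

end Groth.Agent.Lib.Helper28.HomMod
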