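import Mathlib
import Groth.Prelude.Def_Flat

set_option autoImplicit false
universe u
open CategoryTheory AlgebraicGeometry Opposite

namespace Groth.Agent.Lib.Helper28.SchDom

/-- `toImage` is injective on sections over every open. -/
theorem toImage_app_injective {X Y : Scheme.{u}} (f : X ⟶ Y) [QuasiCompact f] (U₀ : f.image.Opens) :
    Function.Injective (f.toImage.app U₀).hom := by
  rw [injective_iff_map_eq_zero]
  intro s hs
  refine TopCat.Presheaf.section_ext f.image.sheaf U₀ s 0 (fun x hx => ?_)
  apply f.stalkFunctor_toImage_injective x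
  have h1 := TopCat.Presheaf.stalkFunctor_map_germ_apply U₀ x hx f.toImage.c s
  have h2 := TopCat.Presheaf.stalkFunctor_map_germ_apply U₀ x hx f.toImage.c 0
  refine h1.trans (Eq.trans ?_ h2.symm)
  congr 1
  rw [map_zero]
  exact hs

/-- a morphism injective on sections over affine opens is scheme-theoretically dominant -/
theorem isSchemeTheoreticallyDominant_of_app_injective {X Y : Scheme.{u}} (m : X ⟶ Y)
    (h : ∀ U : Y.affineOpens, Function.Injective (m.app U).hom) :
    IsSchemeTheoreticallyDominant m := by
  refine ⟨?_⟩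
  apply Scheme.IdealSheafData.ext
  ext U : 1
  rw [Scheme.IdealSheafData.ideal_bot]
  refine le_antisymm ((m.ideal_ker_le U).trans ?_) bot_le
  rw [(RingHom.injective_iff_ker_eq_bot _).1 (h U)]
  rfl

/-- universal homeomorphism = universally closed + universally injective + surjective
(same statement as `Helper9.UnivHomeoRing.isUnivHomeo_iff`). -/
theorem isUnivHomeo_iff {X Y : Scheme.{u}} (f : X ⟶ Y) :
    FlatMor.IsUnivHomeo f ↔ UniversallyClosed f ∧ UniversallyInjective f ∧ Surjective f := by
  constructor
  · intro h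
    refine ⟨⟨fun X' Y' i₁ i₂ f' hf => (h i₁ i₂ f' hf).isClosedMap⟩,
      ⟨fun X' Y' i₁ i₂ f' hf => (h i₁ i₂ f' hf).injective⟩,
      ⟨(h _ _ _ IsPullback.of_id_snd).surjective⟩⟩
  · rintro ⟨hc, hi, hs⟩ X' Y' i₁ i₂ f' hf
    have h1 : IsClosedMap f' := hc.universally_isClosedMap i₁ i₂ f' hf
    have h2 : Function.Injective f' := hi.universally_injective i₁ i₂ f' hf
    have h3 : Surjective f' := MorphismProperty.of_isPullback (P := @Surjective) hf.flip hs
    exact (isHomeomorph_iff_continuous_isClosedMap_bijective).mpr ⟨f'.continuous, h1, h2, h3.surj⟩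

/-- a closed dominant map is surjective -/
theorem surjective_of_isDominant_of_isClosedMap {X Y : Scheme.{u}} (f : X ⟶ Y) [IsDominant f]
    (hf : IsClosedMap f) : Surjective f := by
  refine ⟨?_⟩
  rw [← Set.range_eq_univ, ← hf.isClosed_range.closure_eq]
  exact f.denseRange.closure_eq

end Groth.Agent.Lib.Helper28.SchDom
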