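import Groth.Agent.Lib.Helper28.SecExtend2
import Groth.Agent.Lib.Helper28.SecTwistCompat

/-!
# Sections of a quasi-coherent module over the locus `X_s` of a section of an invertible module

* `tmulSec_gpow_eq_zero`: a global section of a quasi-coherent `F` vanishing on `X_s` is killed by a power of `s`.
* `exists_extension_qcoh`: a section of `F` over `X_s` times a power of `s` extends to a global section of `F ⊗ L^n`.
-/

set_option autoImplicit false
universe u
open CategoryTheory CategoryTheory.Limits AlgebraicGeometry Opposite TopologicalSpace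
noncomputable section

namespace Groth.Agent.Lib.Helper28.GenLocus

open Groth.Agent.Lib.Helper28 Groth.Agent.Lib.Helper28.QCohLoc Groth.Agent.Lib.Helper28.TensorGen
  Groth.Agent.Lib.Helper28.InvTensor Groth.Agent.Lib.Helper28.AmpleUnit Groth.Agent.Lib.Helper28.TwistAmple

variable {X : Scheme.{u}}

theorem exists_pow_smul_eq_res' (F : X.Modules) [F.IsQuasicoherent] {U W : X.Opens} (hU : IsAffineOpen U)
    (r : Γ(X, U)) (hW : W = X.basicOpen r) (hWU : W ≤ U) (y : Γ(F, W)) :
    ∃ (n : ℕ) (x : Γ(F, U)), res F hWU x = (resO hWU r ^ n • y : Γ(F, W)) := by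
  subst hW
  obtain ⟨n, x, hx⟩ := exists_pow_smul_eq_res F hU r y
  refine ⟨n, x, ?_⟩
  rw [← resO_pow]
  exact hx.symm

theorem exists_pow_smul_eq_zero' (F : X.Modules) [F.IsQuasicoherent] {U W : X.Opens}
    (hU : IsCompact (U : Set X)) (f : Γ(X, U)) (x : Γ(F, U)) (hW : W = X.basicOpen f) (hWU : W ≤ U)
    (H : res F hWU x = 0) : ∃ n : ℕ, (f ^ n • x : Γ(F, U)) = 0 := by
  subst hW
  exact exists_pow_smul_eq_zero_of_isCompact F hU f x H

/-- finite affine charts of an invertible module on a quasi-compact scheme -/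
theorem exists_finite_charts [CompactSpace X] (L : X.Modules) (hL : PicF.IsInvertible L) :
    ∃ (I : Type u) (_ : Finite I) (U : I → X.Opens) (g : ∀ i, Γ(L, U i)),
      (∀ i, IsAffineOpen (U i)) ∧ (∀ i, IsGen L (U i) (g i)) ∧ ∀ x : X, ∃ i, x ∈ U i := by
  choose U g hxU hU hg using exists_isGen_affine L hL
  obtain ⟨t, ht⟩ := finite_cover_nhds (U := fun x => (U x : Set X)) (fun x => (U x).isOpen.mem_nhds (hxU x))
  refine ⟨t, inferInstance, fun i => U i.1, fun i => g i.1, fun i => hU i.1, fun i => hg i.1, ?_⟩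
  intro x
  have hx : x ∈ ⋃ y ∈ t, (U y : Set X) := by rw [ht]; trivial
  simp only [Set.mem_iUnion] at hx
  obtain ⟨y, hy, hxy⟩ := hx
  exact ⟨⟨y, hy⟩, hxy⟩

/-- **a global section of a quasi-coherent module vanishing on `X_s` is killed by a power of `s`** -/
theorem tmulSec_gpow_eq_zero [CompactSpace X] {L : X.Modules} (hL : PicF.IsInvertible L)
    (s : Coh.structureModule X ⟶ L) (F : X.Modules) [F.IsQuasicoherent] (t : Γ(F, ⊤))
    (ht : res F (le_top : CohB1.genLocus L s ≤ ⊤) t = 0) :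
    ∃ n : ℕ, 0 < n ∧ tmulSec F (CohB1.tensorPow L n) t (gpow L (secOf s) n) = 0 := by
  obtain ⟨I, hI, U, g, hU, hg, hcov⟩ := exists_finite_charts L hL
  let r : ∀ i, Γ(X, U i) := fun i => (hg i).coef le_rfl (res L le_top (secOf s))
  have hr : ∀ i, res L (le_top : U i ≤ ⊤) (secOf s) = (r i • g i : Γ(L, U i)) := fun i => by
    have := (hg i).coef_smul le_rfl (res L le_top (secOf s))
    rw [res_self] at this
    exact this.symm
  have hD : ∀ i, CohB1.genLocus L s ⊓ U i = X.basicOpen (r i) := fun i =>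
    genLocus_inf_eq s (U i) (g i) (hg i) (r i) (hr i)
  obtain ⟨n, hn⟩ := exists_uniform (fun i n => (r i ^ n • res F (le_top : U i ≤ ⊤) t : Γ(F, U i)) = 0)
    (fun i n h => by rw [pow_succ, mul_comm, mul_smul, h, smul_zero])
    (fun i => exists_pow_smul_eq_zero' F (hU i).isCompact (r i) _ (hD i) inf_le_right (by
      rw [res_res, ← res_res F (le_top : CohB1.genLocus L s ≤ ⊤) inf_le_left, ht, res_zero]))
  have hn1 : ∀ i, (r i ^ (n + 1) • res F (le_top : U i ≤ ⊤) t : Γ(F, U i)) = 0 := fun i => by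
    rw [pow_succ, mul_comm, mul_smul, hn i, smul_zero]
  refine ⟨n + 1, Nat.succ_pos n, ?_⟩
  refine eq_of_locally_eq (CohB1.tensorMod F (CohB1.tensorPow L (n + 1))) U ⊤ (fun i => le_top)
    (fun x _ => Opens.mem_iSup.2 (hcov x)) _ _ (fun i => ?_)
  rw [tmulSec_res, gpow_res, hr, gpow_smul, tmulSec_smul_right, ← tmulSec_smul_left, hn1 i, tmulSec_zero_left,
    res_zero]

/-- **extension of `t ⊗ s^n` from `X_s` to `X`** for a quasi-coherent module on a quasi-compact quasi-separated
scheme -/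
theorem exists_extension_qcoh [CompactSpace X] [QuasiSeparatedSpace X] {L : X.Modules}
    (hL : PicF.IsInvertible L) (s : Coh.structureModule X ⟶ L) (F : X.Modules) [F.IsQuasicoherent]
    (t : Γ(F, CohB1.genLocus L s)) :
    ∃ n : ℕ, 0 < n ∧ ∃ t' : Γ(CohB1.tensorMod F (CohB1.tensorPow L n), ⊤),
      res _ (le_top : CohB1.genLocus L s ≤ ⊤) t' =
        tmulSec F (CohB1.tensorPow L n) t (gpow L (res L le_top (secOf s)) n) := by
  classical
  obtain ⟨I, hI, U, g, hU, hg, hcov⟩ := exists_finite_charts L hL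
  have hqs : ∀ i j, IsCompact ((U i ⊓ U j : X.Opens) : Set X) := fun i j =>
    QuasiSeparatedSpace.inter_isCompact _ _ (U i).isOpen (hU i).isCompact (U j).isOpen (hU j).isCompact
  let r : ∀ i, Γ(X, U i) := fun i => (hg i).coef le_rfl (res L le_top (secOf s))
  have hr : ∀ i, res L (le_top : U i ≤ ⊤) (secOf s) = (r i • g i : Γ(L, U i)) := fun i => by
    have := (hg i).coef_smul le_rfl (res L le_top (secOf s))
    rw [res_self] at this
    exact this.symm
  have hD : ∀ i, CohB1.genLocus L s ⊓ U i = X.basicOpen (r i) := fun i =>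
    genLocus_inf_eq s (U i) (g i) (hg i) (r i) (hr i)
  let c : ∀ i j, Γ(X, U i ⊓ U j) := fun i j => (hg j).coef inf_le_right (res L inf_le_left (g i))
  have hc : ∀ i j, res L (inf_le_left : U i ⊓ U j ≤ U i) (g i) =
      (c i j • res L inf_le_right (g j) : Γ(L, U i ⊓ U j)) := fun i j =>
    ((hg j).coef_smul inf_le_right _).symm
  have hrc : ∀ i j, resO (inf_le_left : U i ⊓ U j ≤ U i) (r i) * c i j = resO inf_le_right (r j) := by
    intro i j
    apply ((hg j) _ inf_le_right).1
    show ((resO inf_le_left (r i) * c i j) • res L inf_le_right (g j) : Γ(L, U i ⊓ U j)) =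
      (resO inf_le_right (r j) • res L inf_le_right (g j) : Γ(L, U i ⊓ U j))
    rw [mul_smul, ← hc, ← res_smul, ← res_smul, ← hr, ← hr, res_res, res_res]
  -- Step 1: numerators
  obtain ⟨k, hk⟩ := exists_uniform (fun i k => ∃ y : Γ(F, U i),
      res F (inf_le_right : CohB1.genLocus L s ⊓ U i ≤ U i) y =
        (resO (inf_le_right : CohB1.genLocus L s ⊓ U i ≤ U i) (r i) ^ k •
          res F (inf_le_left : CohB1.genLocus L s ⊓ U i ≤ _) t : Γ(F, CohB1.genLocus L s ⊓ U i)))
    (by
      rintro i k ⟨y, hy⟩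
      refine ⟨(r i • y : Γ(F, U i)), ?_⟩
      rw [res_smul, hy, ← mul_smul, pow_succ, mul_comm])
    (fun i => exists_pow_smul_eq_res' F (hU i) (r i) (hD i) inf_le_right _)
  choose y hy using hk
  -- Step 2: discrepancies
  obtain ⟨n, hn⟩ := exists_uniform (fun (p : I × I) n =>
      (resO (inf_le_right : U p.1 ⊓ U p.2 ≤ U p.2) (r p.2) ^ n •
        ((c p.1 p.2 ^ k • res F (inf_le_left : U p.1 ⊓ U p.2 ≤ U p.1) (y p.1) : Γ(F, U p.1 ⊓ U p.2)) -
          res F (inf_le_right : U p.1 ⊓ U p.2 ≤ U p.2) (y p.2)) : Γ(F, U p.1 ⊓ U p.2)) = 0)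
    (fun p n h => by rw [pow_succ, mul_comm, mul_smul, h, smul_zero])
    (by
      rintro ⟨i, j⟩
      have hW : CohB1.genLocus L s ⊓ (U i ⊓ U j) =
          X.basicOpen (resO (inf_le_right : U i ⊓ U j ≤ U j) (r j)) := by
        rw [basicOpen_resO, ← hD j]
        apply le_antisymm
        · exact le_inf inf_le_right (le_inf inf_le_left (inf_le_right.trans inf_le_right))
        · exact le_inf (inf_le_right.trans inf_le_left) inf_le_left
      refine exists_pow_smul_eq_zero' F (hqs i j) _ _ hW inf_le_right ?_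
      have hWi : CohB1.genLocus L s ⊓ (U i ⊓ U j) ≤ CohB1.genLocus L s ⊓ U i :=
        le_inf inf_le_left (inf_le_right.trans inf_le_left)
      have hWj : CohB1.genLocus L s ⊓ (U i ⊓ U j) ≤ CohB1.genLocus L s ⊓ U j :=
        le_inf inf_le_left (inf_le_right.trans inf_le_right)
      have eyi := congrArg (res F hWi) (hy i)
      have eyj := congrArg (res F hWj) (hy j)
      have erc := congrArg (resO (inf_le_right : CohB1.genLocus L s ⊓ (U i ⊓ U j) ≤ U i ⊓ U j)) (hrc i j)
      rw [res_res, res_smul, resO_pow, resO_resO, res_res] at eyi eyj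
      rw [resO_mul, resO_resO, resO_resO] at erc
      rw [res_sub, res_smul, resO_pow, res_res, res_res, eyi, eyj, ← erc, ← mul_smul, mul_pow,
        mul_comm, sub_self])
  -- Step 3: local sections
  let T' : ∀ i, Γ(CohB1.tensorMod F (CohB1.tensorPow L (k + (n + 1))), U i) := fun i =>
    tmulSec F (CohB1.tensorPow L (k + (n + 1))) (r i ^ (n + 1) • y i : Γ(F, U i)) (gpow L (g i) (k + (n + 1)))
  have hagree : ∀ i j, res _ (inf_le_left : U i ⊓ U j ≤ U i) (T' i) =
      res _ (inf_le_right : U i ⊓ U j ≤ U j) (T' j) := by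
    intro i j
    show res _ (inf_le_left : U i ⊓ U j ≤ U i)
        (tmulSec F (CohB1.tensorPow L (k + (n + 1))) (r i ^ (n + 1) • y i : Γ(F, U i))
          (gpow L (g i) (k + (n + 1)))) =
      res _ (inf_le_right : U i ⊓ U j ≤ U j)
        (tmulSec F (CohB1.tensorPow L (k + (n + 1))) (r j ^ (n + 1) • y j : Γ(F, U j))
          (gpow L (g j) (k + (n + 1))))
    rw [tmulSec_res, tmulSec_res, gpow_res, gpow_res, hc, gpow_smul, tmulSec_smul_right, ← tmulSec_smul_left,
      res_smul, res_smul, resO_pow, resO_pow]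
    congr 1
    have h3 := hn (i, j)
    have h4 : (resO (inf_le_right : U i ⊓ U j ≤ U j) (r j) ^ (n + 1) •
        ((c i j ^ k • res F (inf_le_left : U i ⊓ U j ≤ U i) (y i) : Γ(F, U i ⊓ U j)) -
          res F (inf_le_right : U i ⊓ U j ≤ U j) (y j)) : Γ(F, U i ⊓ U j)) = 0 := by
      rw [pow_succ, mul_comm, mul_smul, h3, smul_zero]
    rw [smul_sub, sub_eq_zero] at h4
    rw [← h4, ← mul_smul, ← mul_smul, ← hrc i j]
    congr 1
    ring
  obtain ⟨z, hz⟩ := exists_gluing (CohB1.tensorMod F (CohB1.tensorPow L (k + (n + 1)))) U ⊤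
    (fun i => le_top) (fun x _ => Opens.mem_iSup.2 (hcov x)) T' hagree
  refine ⟨k + (n + 1), by omega, z, ?_⟩
  refine eq_of_locally_eq (CohB1.tensorMod F (CohB1.tensorPow L (k + (n + 1))))
    (fun i => CohB1.genLocus L s ⊓ U i) _ (fun i => inf_le_left) (fun x hx => ?_) _ _ (fun i => ?_)
  · obtain ⟨i, hi⟩ := hcov x
    exact Opens.mem_iSup.2 ⟨i, ⟨hx, hi⟩⟩
  · have e1 : res (CohB1.tensorMod F (CohB1.tensorPow L (k + (n + 1))))
        (inf_le_left : CohB1.genLocus L s ⊓ U i ≤ _) (res _ (le_top : CohB1.genLocus L s ≤ ⊤) z) =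
        res _ (inf_le_right : CohB1.genLocus L s ⊓ U i ≤ U i) (T' i) := by
      rw [res_res, ← hz i, res_res]
    have e2 : res L (inf_le_left : CohB1.genLocus L s ⊓ U i ≤ _) (res L le_top (secOf s)) =
        (resO (inf_le_right : CohB1.genLocus L s ⊓ U i ≤ U i) (r i) •
          res L (inf_le_right : CohB1.genLocus L s ⊓ U i ≤ U i) (g i) : Γ(L, CohB1.genLocus L s ⊓ U i)) := by
      rw [res_res, ← res_smul, ← hr, res_res]
    have eL : res (CohB1.tensorMod F (CohB1.tensorPow L (k + (n + 1))))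
        (inf_le_right : CohB1.genLocus L s ⊓ U i ≤ U i) (T' i) =
        tmulSec F (CohB1.tensorPow L (k + (n + 1)))
          ((resO (inf_le_right : CohB1.genLocus L s ⊓ U i ≤ U i) (r i) ^ (n + 1) *
            resO (inf_le_right : CohB1.genLocus L s ⊓ U i ≤ U i) (r i) ^ k) •
            res F (inf_le_left : CohB1.genLocus L s ⊓ U i ≤ _) t : Γ(F, CohB1.genLocus L s ⊓ U i))
          (gpow L (res L (inf_le_right : CohB1.genLocus L s ⊓ U i ≤ U i) (g i)) (k + (n + 1))) := by
      show res _ (inf_le_right : CohB1.genLocus L s ⊓ U i ≤ U i)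
        (tmulSec F (CohB1.tensorPow L (k + (n + 1))) (r i ^ (n + 1) • y i : Γ(F, U i))
          (gpow L (g i) (k + (n + 1)))) = _
      rw [tmulSec_res, gpow_res, res_smul, resO_pow, hy i, ← mul_smul]
    rw [e1, eL, tmulSec_res, gpow_res, e2, gpow_smul, tmulSec_smul_right, ← tmulSec_smul_left]
    congr 2
    ring

end Groth.Agent.Lib.Helper28.GenLocus
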