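import Groth.Agent.Lib.Helper28.ImgAlg7
import Groth.Agent.Lib.Helper28.AmpleCompose

/-!
# A criterion by sections for relative very ampleness (projective bundle form, general base)
-/

set_option autoImplicit false
universe u
open CategoryTheory CategoryTheory.Limits AlgebraicGeometry TopologicalSpace Opposite
open scoped HomogeneousIdeal
noncomputable section

namespace Groth.Agent.Lib.Helper28.SecVA

open Groth.Agent.Lib.Helper28 Groth.Agent.Lib.Helper28.QCohLoc Groth.Agent.Lib.Helper28.TraceAlg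
open Groth.Agent.Lib.Helper28.SymAlg Groth.Agent.Lib.Helper28.ImgAlg
open Groth.Agent.Lib.Helper28.RLPsi Groth.Agent.Lib.Helper28.RLPsiU Groth.Agent.Lib.Helper28.FTApprox
open Groth.Agent.Lib.Helper28.GenLocus Groth.Agent.Lib.Helper28.AmpleCompose

section fam

variable {Y X : Scheme.{u}} (q : X ⟶ Y) {M : X.Modules} [M.IsQuasicoherent]
  {𝒮L : RelProj.QCGrAlg X} {jL : M ⟶ 𝒮L.toModule}
  (hjL : RelProj.IsGrSymAlg M 𝒮L jL)
  {𝒜 : RelProj.QCGrAlg Y} {jA : (Scheme.Modules.pushforward q).obj M ⟶ 𝒜.toModule}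
  (h𝒜 : RelProj.IsGrSymAlg ((Scheme.Modules.pushforward q).obj M) 𝒜 jA)
  (u : RelProj.QGrHom q 𝒜 𝒮L)
  (hu : ∀ (U : Y.Opens) (x : Γ((Scheme.Modules.pushforward q).obj M, U)),
    (u.app U).hom ((jA.app U) x) = (jL.app (q ⁻¹ᵁ U)) x)

/-- the degree-one element of `Sym(q_* M)(U)` attached to a section of `M` over `q⁻¹ U` -/
def sigA (jA : (Scheme.Modules.pushforward q).obj M ⟶ 𝒜.toModule) (U : Y.Opens) (s : Γ(M, q ⁻¹ᵁ U)) :
    𝒜.presheaf.obj (op U) :=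
  asR 𝒜.toQCAlg (jA.app U (show Γ((Scheme.Modules.pushforward q).obj M, U) from s))

omit [M.IsQuasicoherent] in
include hu in
theorem tauU_sigA (U : Y.Opens) (s : Γ(M, q ⁻¹ᵁ U)) (W : X.Opens) (hW : W ≤ q ⁻¹ᵁ U) :
    tauU u U (sigA q jA U s) W hW = asR 𝒮L.toQCAlg (jL.app W (res M hW s)) := by
  show rS 𝒮L hW ((u.app U).hom (jA.app U _)) = _
  rw [hu]
  exact rS_j hW _

include hjL hu in
/-- the nonvanishing locus of a degree-one section -/
theorem XTU_sigA (hM : PicF.IsInvertible M) (U : Y.Opens) (s : Γ(M, q ⁻¹ᵁ U)) (D : X.Opens) (hD : IsAffineOpen D)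
    (hDU : D ≤ q ⁻¹ᵁ U) (hgen : IsGen M D (res M hDU s))
    (hmax : ∀ x : X, x ∈ q ⁻¹ᵁ U → SecGenAt M (q ⁻¹ᵁ U) s x → x ∈ D) :
    XTU u U 1 (sigA q jA U s) = D := by
  apply le_antisymm
  · intro x hx
    have hxU : x ∈ q ⁻¹ᵁ U := XTU_le u 1 _ hx
    have hnv := (mem_XTU_iff u 1 _ x).1 hx
    obtain ⟨V, g, hxV, hV, hg, hVU⟩ := exists_isGen_affine_le hM x (q ⁻¹ᵁ U) hxU
    let b : Γ(X, V) := hg.coef le_rfl (res M hVU s)
    have hb : res M hVU s = (b • g : Γ(M, V)) := by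
      have := hg.coef_smul le_rfl (res M hVU s)
      rw [res_self] at this
      exact this.symm
    have hb' : tauU u U (sigA q jA U s) V hVU = (𝒮L.str.app (op V)).hom b * asR 𝒮L.toQCAlg (jL.app V g) ^ 1 := by
      rw [tauU_sigA q u hu, hb, jE_smul, pow_one]
    have h1 := (RLPsiV.nvu_iff_mem_basicOpen hjL u 1 _ hV hVU hg b hb' x hxV).1 hnv
    exact hmax x hxU ((secGenAt_iff_of_chart s hVU hg b hb x hxV).2 h1)
  · intro x hx
    refine (mem_XTU_iff u 1 _ x).2 ⟨D, hD, hDU, hx, ?_⟩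
    intro a ha
    obtain ⟨b', rfl⟩ := exists_eq_str_mul_pow hjL hD hgen 1 a ha
    rw [tauU_sigA q u hu, pow_one]
    exact Ideal.mul_mem_left _ _ (Ideal.subset_span rfl)

omit [M.IsQuasicoherent] in
include h𝒜 hu in
/-- condition (iii) for a degree-one section whose ratios generate the ring of functions -/
theorem cond3W_sigA (U : Y.Opens) (hU : IsAffineOpen U) (s : Γ(M, q ⁻¹ᵁ U)) (D : X.Opens)
    (hDU : D ≤ q ⁻¹ᵁ U) (G : Set Γ(X, D))
    (hG : @Algebra.adjoin Γ(Y, U) Γ(X, D) _ _ (q.appLE U D hDU).hom.toAlgebra G = ⊤)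
    (hrat : ∀ g ∈ G, ∃ t : Γ(M, q ⁻¹ᵁ U), res M hDU t = (g • res M hDU s : Γ(M, D))) :
    Cond3W u hU 1 (sigA q jA U s) D hDU := by
  refine cond3W_of_adjoin u hU (h𝒜.2 U hU _) hDU G hG fun g hg => ?_
  obtain ⟨t, ht⟩ := hrat g hg
  refine ⟨1, one_pos, sigA q jA U t, h𝒜.2 U hU _, ?_⟩
  show (𝒮L.str.app (op D)).hom g * tauU u U (sigA q jA U s) D hDU ^ 1 = tauU u U (sigA q jA U t) D hDU
  rw [tauU_sigA q u hu, tauU_sigA q u hu, pow_one, ht, jE_smul]

end fam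

section main

variable {Y X : Scheme.{u}} (q : X ⟶ Y) {M : X.Modules}

/-- **criterion by sections for relative very ampleness**: sections `s_a` of `M` over `q⁻¹ V_a` (`V_a` affine) whose
nonvanishing loci `D_a` are affine and cover `X`, such that the functions on `D_a` are generated over `Γ(V_a)` by ratios
`t / s_a` of sections of `M` over `q⁻¹ V_a` -/
theorem isRelVeryAmple_of_sections [QuasiCompact q] [QuasiSeparated q] (hM : PicF.IsInvertible M)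
    {A : Type u} (V : A → Y.Opens) (hV : ∀ a, IsAffineOpen (V a)) (D : A → X.Opens) (hD : ∀ a, IsAffineOpen (D a))
    (hDV : ∀ a, D a ≤ q ⁻¹ᵁ V a) (hcov : ∀ x : X, ∃ a, x ∈ D a)
    (s : ∀ a, Γ(M, q ⁻¹ᵁ V a)) (hgen : ∀ a, IsGen M (D a) (res M (hDV a) (s a)))
    (hmax : ∀ a (x : X), x ∈ q ⁻¹ᵁ V a → SecGenAt M (q ⁻¹ᵁ V a) (s a) x → x ∈ D a)
    (G : ∀ a, Set Γ(X, D a))
    (hG : ∀ a, @Algebra.adjoin Γ(Y, V a) Γ(X, D a) _ _ (q.appLE (V a) (D a) (hDV a)).hom.toAlgebra (G a) = ⊤)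
    (hrat : ∀ a, ∀ g ∈ G a, ∃ t : Γ(M, q ⁻¹ᵁ V a),
      res M (hDV a) t = (g • res M (hDV a) (s a) : Γ(M, D a))) :
    RelProj.IsRelVeryAmple q M := by
  classical
  have hMq : M.IsQuasicoherent := InvQC.isQuasicoherent_of_isInvertible M hM
  have hFq : ((Scheme.Modules.pushforward q).obj M).IsQuasicoherent := isQuasicoherent_pushforward q M
  have hQCL := isQC_symPre_of_isQuasicoherent M
  have hjL := isGrSymAlg M hQCL
  have hPL := RelProjExists.isRelProj (grSymAlg M hQCL)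
  have hQC := isQC_symPre_of_isQuasicoherent ((Scheme.Modules.pushforward q).obj M)
  have h𝒜 := isGrSymAlg ((Scheme.Modules.pushforward q).obj M) hQC
  obtain ⟨u, hu⟩ := exists_canonical_u q hjL h𝒜
  have hP𝒜 := RelProjExists.isRelProj (grSymAlg ((Scheme.Modules.pushforward q).obj M) hQC)
  obtain ⟨r, hr, -⟩ := ProjQRel.existsUnique_glueW u _ _ hP𝒜 _ _ hPL
  have hrOn := ProjQRel.isProjQMapOn_of_glue u _ _ _ _ r hr
  have hX : ∀ a, XTU u (V a) 1 (sigA q (grJ _ hQC) (V a) (s a)) = D a := fun a =>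
    XTU_sigA q hjL u hu hM (V a) (s a) (D a) (hD a) (hDV a) (hgen a) (hmax a)
  have hfam : IsGoodFamily u V hV (fun _ => 1) (fun a => sigA q (grJ _ hQC) (V a) (s a)) := by
    refine ⟨fun a => ⟨one_pos, h𝒜.2 _ (hV a) _⟩, ?_, fun a => ?_, fun a => ?_⟩
    · refine top_le_iff.1 fun x _ => ?_
      obtain ⟨a, ha⟩ := hcov x
      refine Opens.mem_iSup.2 ⟨a, ?_⟩
      rw [hX a]
      exact ha
    · rw [hX a]
      exact hD a
    · rw [cond3U_iff]
      exact cond3W_congr u (hV a) 1 _ (hX a).symm (hDV a) _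
        (cond3W_sigA q h𝒜 u hu (V a) (hV a) (s a) (D a) (hDV a) (G a) (hG a) (hrat a))
  obtain ⟨htop, himm⟩ := immersion_of_family hjL u _ _ hP𝒜 _ _ hPL r hrOn hM V hV _ _ hfam
  refine VAIntro.isRelVeryAmple_of_immersion hjL u _ _ hP𝒜 _ _ hPL r hrOn hM (isGenDegOne_of_isGrSymAlg h𝒜) ?_ himm
  intro x
  obtain ⟨a, ha⟩ := hcov x
  have hx : x ∈ XTU u (V a) 1 (sigA q (grJ _ hQC) (V a) (s a)) := by
    rw [hX a]
    exact ha
  obtain ⟨V', hV', hV'U, hxV', hsub⟩ := (mem_XTU_iff u 1 _ x).1 hx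
  exact ⟨V a, hV a, sigA q (grJ _ hQC) (V a) (s a), h𝒜.2 _ (hV a) _, V', hV', hV'U, hxV', hsub⟩

end main

end Groth.Agent.Lib.Helper28.SecVA
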