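import Groth.Agent.Lib.Helper28.Segre2
import Groth.Agent.Lib.Helper28.ProjClosed
import Mathlib.RingTheory.MvPolynomial.Homogeneous

/-!
# The Segre morphism on the tensor charts (helper28)
-/

set_option autoImplicit false
universe u
open CategoryTheory CategoryTheory.Limits AlgebraicGeometry Opposite TopologicalSpace
open HomogeneousLocalization TensorProduct

noncomputable section

namespace Groth.Agent.Lib.Helper28.Segre3

open Groth.Agent.Lib.Helper28.ProjClosed (fr fr_of_mem)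
open Groth.Agent.Lib.Helper28.Segre2

section twist

variable {R : Type u} [CommRing R] {σ : Type*} {T : Type*} [CommRing T] [Algebra R T]

/-- two algebra homomorphisms out of a polynomial ring whose values on the variables differ by
a fixed factor `u` differ by `u ^ k` on homogeneous polynomials of degree `k` -/
theorem poly_twist (G G' : MvPolynomial σ R →ₐ[R] T) (u : T)
    (h : ∀ s, G' (MvPolynomial.X s) = u * G (MvPolynomial.X s)) (k : ℕ) (a : MvPolynomial σ R)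
    (ha : a ∈ MvPolynomial.homogeneousSubmodule σ R k) : G' a = u ^ k * G a := by
  classical
  rw [MvPolynomial.mem_homogeneousSubmodule] at ha
  rw [a.as_sum, map_sum, map_sum, Finset.mul_sum]
  refine Finset.sum_congr rfl fun m hm => ?_
  have hdeg : k = ∑ i ∈ m.support, m i :=
    MvPolynomial.IsHomogeneous.degree_eq_sum_deg_support ha hm
  rw [MvPolynomial.monomial_eq, map_mul, map_mul, MvPolynomial.algHom_C, MvPolynomial.algHom_C,
    Finsupp.prod, map_prod, map_prod]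
  simp only [map_pow, h, mul_pow]
  rw [Finset.prod_mul_distrib, Finset.prod_pow_eq_pow_sum]
  rw [← hdeg]
  ring

end twist

section fractions

variable {R A : Type u} [CommRing R] [CommRing A] [Algebra R A] (𝒜 : ℕ → Submodule R A)
  [GradedAlgebra 𝒜]

theorem fr_self {f : A} (hf : f ∈ 𝒜 1) : fr 𝒜 hf 1 f = 1 := by
  apply HomogeneousLocalization.val_injective
  rw [ProjClosed.val_fr_of_mem 𝒜 hf hf, HomogeneousLocalization.val_one]
  exact Localization.mk_self (⟨f ^ 1, 1, rfl⟩ : Submonoid.powers f) |>.symm ▸ by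
    simp [ProjClosed.pw]

variable {f f' : A} (hf : f ∈ 𝒜 1) (hf' : f' ∈ 𝒜 1)

/-- the fraction `a b / (f f')` for `a`, `b` of degree one -/
def q2 {a b : A} (ha : a ∈ 𝒜 1) (hb : b ∈ 𝒜 1) : Away 𝒜 (f * f') :=
  Away.mk 𝒜 (SetLike.mul_mem_graded hf hf') 1 (a * b)
    (by rw [one_smul]; exact SetLike.mul_mem_graded ha hb)

theorem val_q2 {a b : A} (ha : a ∈ 𝒜 1) (hb : b ∈ 𝒜 1) :
    (q2 𝒜 hf hf' ha hb).val =
      Localization.mk (a * b) (⟨(f * f') ^ 1, 1, rfl⟩ : Submonoid.powers (f * f')) :=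
  Away.val_mk _ _ _ _ _

theorem awayMap_fr {a : A} (ha : a ∈ 𝒜 1) :
    awayMap 𝒜 hf' rfl (fr 𝒜 hf 1 a) = q2 𝒜 hf hf' ha hf' := by
  rw [fr_of_mem 𝒜 hf ha, awayMap_mk]
  apply HomogeneousLocalization.val_injective
  rw [Away.val_mk, val_q2, pow_one]

theorem awayMap_fr' {a : A} (ha : a ∈ 𝒜 1) :
    awayMap 𝒜 hf (mul_comm f f') (fr 𝒜 hf' 1 a) = q2 𝒜 hf hf' ha hf := by
  rw [fr_of_mem 𝒜 hf' ha, awayMap_mk]
  apply HomogeneousLocalization.val_injective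
  rw [Away.val_mk, val_q2, pow_one]

theorem q2_mul {a : A} (ha : a ∈ 𝒜 1) :
    q2 𝒜 hf hf' ha hf = q2 𝒜 hf hf' ha hf' * q2 𝒜 hf hf' hf hf := by
  apply HomogeneousLocalization.val_injective
  rw [HomogeneousLocalization.val_mul, val_q2, val_q2, val_q2, Localization.mk_mul,
    Localization.mk_eq_mk_iff, Localization.r_iff_exists]
  refine ⟨1, ?_⟩
  simp only [OneMemClass.coe_one, one_mul, Submonoid.coe_mul, pow_one]
  ring

theorem q2_unit : q2 𝒜 hf hf' hf hf * q2 𝒜 hf hf' hf' hf' = 1 := by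
  apply HomogeneousLocalization.val_injective
  rw [HomogeneousLocalization.val_mul, val_q2, val_q2, Localization.mk_mul,
    HomogeneousLocalization.val_one, ← Localization.mk_one, Localization.mk_eq_mk_iff,
    Localization.r_iff_exists]
  refine ⟨1, ?_⟩
  simp only [OneMemClass.coe_one, one_mul, Submonoid.coe_mul, pow_one, mul_one]
  ring

theorem q2_mul' {a : A} (ha : a ∈ 𝒜 1) :
    q2 𝒜 hf hf' ha hf = q2 𝒜 hf hf' hf hf * q2 𝒜 hf hf' ha hf' :=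
  (q2_mul 𝒜 hf hf' ha).trans (mul_comm _ _)

theorem q2_unit' : q2 𝒜 hf hf' hf' hf' * q2 𝒜 hf hf' hf hf = 1 :=
  (mul_comm _ _).trans (q2_unit 𝒜 hf hf')

end fractions

section segre

attribute [local instance] MvPolynomial.gradedAlgebra

variable {R A B : Type u} [CommRing R] [CommRing A] [Algebra R A] [CommRing B] [Algebra R B]
  (𝒜 : ℕ → Submodule R A) [GradedAlgebra 𝒜] (ℬ : ℕ → Submodule R B) [GradedAlgebra ℬ]
  {I J : Type u} (xs : I → A) (hxs : ∀ i, xs i ∈ 𝒜 1) (ys : J → B) (hys : ∀ j, ys j ∈ ℬ 1)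

/-- the Segre homomorphism on the chart `(i, j)`: `z_kl ↦ (x_k / x_i) ⊗ (y_l / y_j)` -/
def F (i : I) (j : J) : MvPolynomial (I × J) R →ₐ[R] Away 𝒜 (xs i) ⊗[R] Away ℬ (ys j) :=
  MvPolynomial.aeval fun kl => fr 𝒜 (hxs i) 1 (xs kl.1) ⊗ₜ fr ℬ (hys j) 1 (ys kl.2)

theorem F_X (i : I) (j : J) (kl : I × J) :
    F 𝒜 ℬ xs hxs ys hys i j (MvPolynomial.X kl) =
      fr 𝒜 (hxs i) 1 (xs kl.1) ⊗ₜ fr ℬ (hys j) 1 (ys kl.2) :=
  MvPolynomial.aeval_X _ _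

theorem F_self (i : I) (j : J) : F 𝒜 ℬ xs hxs ys hys i j (MvPolynomial.X (i, j)) = 1 := by
  rw [F_X, fr_self, fr_self]
  rfl

theorem X_mem (kl : I × J) :
    (MvPolynomial.X kl : MvPolynomial (I × J) R) ∈ MvPolynomial.homogeneousSubmodule (I × J) R 1 :=
  MvPolynomial.isHomogeneous_X R kl

theorem isUnit_F_self (i : I) (j : J) :
    IsUnit ((F 𝒜 ℬ xs hxs ys hys i j).toRingHom (MvPolynomial.X (i, j))) := by
  change IsUnit (F 𝒜 ℬ xs hxs ys hys i j (MvPolynomial.X (i, j)))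
  rw [F_self]; exact isUnit_one

/-- the Segre morphism on the chart `(i, j)` -/
def gch (i : I) (j : J) : Spec (CommRingCat.of (Away 𝒜 (xs i) ⊗[R] Away ℬ (ys j))) ⟶
    Proj (MvPolynomial.homogeneousSubmodule (I × J) R) :=
  Segre1.chartMap (MvPolynomial.homogeneousSubmodule (I × J) R)
    (F 𝒜 ℬ xs hxs ys hys i j).toRingHom (X_mem (i, j)) one_pos
    (isUnit_F_self 𝒜 ℬ xs hxs ys hys i j)

variable (i k : I) (j l : J)

/-- first transition -/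
def τ₁ : Away 𝒜 (xs i) ⊗[R] Away ℬ (ys j) →ₐ[R]
    Away 𝒜 (xs i * xs k) ⊗[R] Away ℬ (ys j * ys l) :=
  τ 𝒜 ℬ (hxs k) (hys l) rfl rfl

/-- second transition -/
def τ₂ : Away 𝒜 (xs k) ⊗[R] Away ℬ (ys l) →ₐ[R]
    Away 𝒜 (xs i * xs k) ⊗[R] Away ℬ (ys j * ys l) :=
  τ 𝒜 ℬ (hxs i) (hys j) (mul_comm _ _) (mul_comm _ _)

theorem τ₁_F (ab : I × J) :
    τ₁ 𝒜 ℬ xs hxs ys hys i k j l (F 𝒜 ℬ xs hxs ys hys i j (MvPolynomial.X ab)) =
      q2 𝒜 (hxs i) (hxs k) (hxs ab.1) (hxs k) ⊗ₜ q2 ℬ (hys j) (hys l) (hys ab.2) (hys l) := by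
  rw [F_X]
  unfold τ₁
  rw [τ_tmul, awayMap_fr 𝒜 (hxs i) (hxs k) (hxs ab.1), awayMap_fr ℬ (hys j) (hys l) (hys ab.2)]

theorem τ₂_F (ab : I × J) :
    τ₂ 𝒜 ℬ xs hxs ys hys i k j l (F 𝒜 ℬ xs hxs ys hys k l (MvPolynomial.X ab)) =
      q2 𝒜 (hxs i) (hxs k) (hxs ab.1) (hxs i) ⊗ₜ q2 ℬ (hys j) (hys l) (hys ab.2) (hys j) := by
  rw [F_X]
  unfold τ₂
  rw [τ_tmul, awayMap_fr' 𝒜 (hxs i) (hxs k) (hxs ab.1), awayMap_fr' ℬ (hys j) (hys l) (hys ab.2)]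

/-- the unit relating the two normalisations -/
def uu : (Away 𝒜 (xs i * xs k) ⊗[R] Away ℬ (ys j * ys l))ˣ where
  val := q2 𝒜 (hxs i) (hxs k) (hxs i) (hxs i) ⊗ₜ q2 ℬ (hys j) (hys l) (hys j) (hys j)
  inv := q2 𝒜 (hxs i) (hxs k) (hxs k) (hxs k) ⊗ₜ q2 ℬ (hys j) (hys l) (hys l) (hys l)
  val_inv := by
    rw [Algebra.TensorProduct.tmul_mul_tmul, q2_unit, q2_unit]; rfl
  inv_val := by
    rw [Algebra.TensorProduct.tmul_mul_tmul, q2_unit', q2_unit']; rfl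

theorem τ₂_F_eq (ab : I × J) :
    τ₂ 𝒜 ℬ xs hxs ys hys i k j l (F 𝒜 ℬ xs hxs ys hys k l (MvPolynomial.X ab)) =
      (uu 𝒜 ℬ xs hxs ys hys i k j l : Away 𝒜 (xs i * xs k) ⊗[R] Away ℬ (ys j * ys l)) *
        τ₁ 𝒜 ℬ xs hxs ys hys i k j l (F 𝒜 ℬ xs hxs ys hys i j (MvPolynomial.X ab)) := by
  rw [τ₂_F, τ₁_F]
  change _ = (q2 𝒜 (hxs i) (hxs k) (hxs i) (hxs i) ⊗ₜ q2 ℬ (hys j) (hys l) (hys j) (hys j)) * _
  rw [Algebra.TensorProduct.tmul_mul_tmul, q2_mul' 𝒜 (hxs i) (hxs k) (hxs ab.1),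
    q2_mul' ℬ (hys j) (hys l) (hys ab.2)]

/-- **overlap**: the Segre morphisms of two charts agree on the common refinement -/
theorem overlap :
    Spec.map (CommRingCat.ofHom (τ₁ 𝒜 ℬ xs hxs ys hys i k j l).toRingHom) ≫
        gch 𝒜 ℬ xs hxs ys hys i j =
      Spec.map (CommRingCat.ofHom (τ₂ 𝒜 ℬ xs hxs ys hys i k j l).toRingHom) ≫
        gch 𝒜 ℬ xs hxs ys hys k l := by
  unfold gch
  rw [Segre1.chartMap_comp, Segre1.chartMap_comp]
  have hu1 : IsUnit (((τ₁ 𝒜 ℬ xs hxs ys hys i k j l).toRingHom.comp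
      (F 𝒜 ℬ xs hxs ys hys i j).toRingHom) (MvPolynomial.X (k, l))) := by
    change IsUnit (τ₁ 𝒜 ℬ xs hxs ys hys i k j l
      (F 𝒜 ℬ xs hxs ys hys i j (MvPolynomial.X (k, l))))
    rw [τ₁_F]
    exact ⟨(uu 𝒜 ℬ xs hxs ys hys i k j l)⁻¹, rfl⟩
  rw [Segre1.chartMap_eq _ _ (X_mem (i, j)) one_pos (X_mem (k, l)) one_pos _ hu1]
  symm
  refine Segre1.chartMap_twist _ _ _ (uu 𝒜 ℬ xs hxs ys hys i k j l) ?_ _ _ _ _
  intro n a ha
  exact poly_twist ((τ₁ 𝒜 ℬ xs hxs ys hys i k j l).comp (F 𝒜 ℬ xs hxs ys hys i j))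
    ((τ₂ 𝒜 ℬ xs hxs ys hys i k j l).comp (F 𝒜 ℬ xs hxs ys hys k l)) _
    (fun s => τ₂_F_eq 𝒜 ℬ xs hxs ys hys i k j l s) n a ha

end segre

end Groth.Agent.Lib.Helper28.Segre3
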