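import Groth.Agent.Lib.Helper28.Segre3
import Groth.Agent.Lib.Helper28.GlueLocal
import Groth.Agent.Lib.Helper28.ProjMapG

/-!
# Gluing the Segre morphism (helper28)
-/

set_option autoImplicit false
universe u
open CategoryTheory CategoryTheory.Limits AlgebraicGeometry Opposite TopologicalSpace
open HomogeneousLocalization TensorProduct

noncomputable section

namespace Groth.Agent.Lib.Helper28.Segre4

open Groth.Agent.Lib.Helper28.ProjClosed (fr fr_of_mem)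
open Groth.Agent.Lib.Helper28.Segre2
open Groth.Agent.Lib.Helper28.Segre3

attribute [local instance] MvPolynomial.gradedAlgebra

variable {R A B : Type u} [CommRing R] [CommRing A] [Algebra R A] [CommRing B] [Algebra R B]
  (𝒜 : ℕ → Submodule R A) [GradedAlgebra 𝒜] (ℬ : ℕ → Submodule R B) [GradedAlgebra ℬ]
  {I J : Type u} (xs : I → A) (hxs : ∀ i, xs i ∈ 𝒜 1) (ys : J → B) (hys : ∀ j, ys j ∈ ℬ 1)
  (hcA : ∀ p : Proj 𝒜, ∃ i, p ∈ Proj.basicOpen 𝒜 (xs i))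
  (hcB : ∀ q : Proj ℬ, ∃ j, q ∈ Proj.basicOpen ℬ (ys j))

/-- the charts of the product -/
abbrev W (t : I × J) : Scheme.{u} :=
  Spec (CommRingCat.of (Away 𝒜 (xs t.1) ⊗[R] Away ℬ (ys t.2)))

/-- the chart maps -/
def cc (t : I × J) : W 𝒜 ℬ xs ys t ⟶ pullback (str 𝒜) (str ℬ) :=
  c 𝒜 ℬ (hxs t.1) one_pos (hys t.2) one_pos

instance (t : I × J) : IsOpenImmersion (cc 𝒜 ℬ xs hxs ys hys t) := by
  unfold cc; infer_instance

theorem range_cc (t : I × J) : Set.range (cc 𝒜 ℬ xs hxs ys hys t) =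
    (pullback.fst (str 𝒜) (str ℬ)) ⁻¹' (Proj.basicOpen 𝒜 (xs t.1) : Set (Proj 𝒜)) ∩
      (pullback.snd (str 𝒜) (str ℬ)) ⁻¹' (Proj.basicOpen ℬ (ys t.2) : Set (Proj ℬ)) :=
  range_c 𝒜 ℬ _ _ _ _

include hcA hcB in
theorem cover (x : ↥(pullback (str 𝒜) (str ℬ))) :
    ∃ t, x ∈ Set.range (cc 𝒜 ℬ xs hxs ys hys t) := by
  obtain ⟨i, hi⟩ := hcA (pullback.fst (str 𝒜) (str ℬ) x)
  obtain ⟨j, hj⟩ := hcB (pullback.snd (str 𝒜) (str ℬ) x)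
  refine ⟨(i, j), ?_⟩
  rw [range_cc]
  exact ⟨hi, hj⟩

/-- the local Segre morphisms -/
def gg (t : I × J) : W 𝒜 ℬ xs ys t ⟶ Proj (MvPolynomial.homogeneousSubmodule (I × J) R) :=
  gch 𝒜 ℬ xs hxs ys hys t.1 t.2

set_option backward.isDefEq.respectTransparency false in
theorem glue_H (t s : I × J) (w : W 𝒜 ℬ xs ys t) (w' : W 𝒜 ℬ xs ys s)
    (h : cc 𝒜 ℬ xs hxs ys hys t w = cc 𝒜 ℬ xs hxs ys hys s w') :
    ∃ (V : Scheme.{u}) (a : V ⟶ W 𝒜 ℬ xs ys t) (b : V ⟶ W 𝒜 ℬ xs ys s),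
      a ≫ cc 𝒜 ℬ xs hxs ys hys t = b ≫ cc 𝒜 ℬ xs hxs ys hys s ∧
      IsOpenImmersion (a ≫ cc 𝒜 ℬ xs hxs ys hys t) ∧
      cc 𝒜 ℬ xs hxs ys hys t w ∈ Set.range (a ≫ cc 𝒜 ℬ xs hxs ys hys t) ∧
      a ≫ gg 𝒜 ℬ xs hxs ys hys t = b ≫ gg 𝒜 ℬ xs hxs ys hys s := by
  obtain ⟨i, j⟩ := t
  obtain ⟨k, l⟩ := s
  have hm1 : xs i * xs k ∈ 𝒜 (1 + 1) := SetLike.mul_mem_graded (hxs i) (hxs k)
  have hm2 : ys j * ys l ∈ ℬ (1 + 1) := SetLike.mul_mem_graded (hys j) (hys l)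
  have e1 : Spec.map (CommRingCat.ofHom (τ₁ 𝒜 ℬ xs hxs ys hys i k j l).toRingHom) ≫
      cc 𝒜 ℬ xs hxs ys hys (i, j) = c 𝒜 ℬ hm1 (by norm_num) hm2 (by norm_num) :=
    τ_c 𝒜 ℬ (hxs i) one_pos (hys j) one_pos (hxs k) (hys l) rfl rfl _ _ _ _
  have e2 : Spec.map (CommRingCat.ofHom (τ₂ 𝒜 ℬ xs hxs ys hys i k j l).toRingHom) ≫
      cc 𝒜 ℬ xs hxs ys hys (k, l) = c 𝒜 ℬ hm1 (by norm_num) hm2 (by norm_num) :=
    τ_c 𝒜 ℬ (hxs k) one_pos (hys l) one_pos (hxs i) (hys j) (mul_comm _ _) (mul_comm _ _) _ _ _ _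
  refine ⟨_, Spec.map (CommRingCat.ofHom (τ₁ 𝒜 ℬ xs hxs ys hys i k j l).toRingHom),
    Spec.map (CommRingCat.ofHom (τ₂ 𝒜 ℬ xs hxs ys hys i k j l).toRingHom), e1.trans e2.symm, ?_, ?_,
    overlap 𝒜 ℬ xs hxs ys hys i k j l⟩
  · rw [e1]; infer_instance
  · rw [e1, range_c]
    have h1 : cc 𝒜 ℬ xs hxs ys hys (i, j) w ∈ Set.range (cc 𝒜 ℬ xs hxs ys hys (i, j)) := ⟨w, rfl⟩
    have h2 : cc 𝒜 ℬ xs hxs ys hys (i, j) w ∈ Set.range (cc 𝒜 ℬ xs hxs ys hys (k, l)) :=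
      ⟨w', h.symm⟩
    rw [range_cc] at h1 h2
    refine ⟨?_, ?_⟩
    · change _ ∈ Proj.basicOpen 𝒜 (xs i * xs k)
      rw [Proj.basicOpen_mul]
      exact ⟨h1.1, h2.1⟩
    · change _ ∈ Proj.basicOpen ℬ (ys j * ys l)
      rw [Proj.basicOpen_mul]
      exact ⟨h1.2, h2.2⟩

include hcA hcB in
theorem existsUnique_segre :
    ∃! p : pullback (str 𝒜) (str ℬ) ⟶ Proj (MvPolynomial.homogeneousSubmodule (I × J) R),
      ∀ t, cc 𝒜 ℬ xs hxs ys hys t ≫ p = gg 𝒜 ℬ xs hxs ys hys t :=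
  GlueLocal.existsUnique_glue (W 𝒜 ℬ xs ys) (cc 𝒜 ℬ xs hxs ys hys)
    (cover 𝒜 ℬ xs hxs ys hys hcA hcB) (gg 𝒜 ℬ xs hxs ys hys) (glue_H 𝒜 ℬ xs hxs ys hys)

/-- the Segre morphism -/
def segre : pullback (str 𝒜) (str ℬ) ⟶ Proj (MvPolynomial.homogeneousSubmodule (I × J) R) :=
  (existsUnique_segre 𝒜 ℬ xs hxs ys hys hcA hcB).choose

theorem cc_segre (t : I × J) :
    cc 𝒜 ℬ xs hxs ys hys t ≫ segre 𝒜 ℬ xs hxs ys hys hcA hcB = gg 𝒜 ℬ xs hxs ys hys t :=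
  (existsUnique_segre 𝒜 ℬ xs hxs ys hys hcA hcB).choose_spec.1 t

theorem isLocalizationElem_eq {f g : A} (hf : f ∈ 𝒜 1) (hg : g ∈ 𝒜 1) :
    Away.isLocalizationElem hf hg = fr 𝒜 hf 1 g := by
  rw [fr_of_mem 𝒜 hf hg]
  apply HomogeneousLocalization.val_injective
  rw [Away.val_mk, Away.val_mk, pow_one]

set_option backward.isDefEq.respectTransparency false in
theorem fst_cc_mem_iff (s : I × J) (w' : W 𝒜 ℬ xs ys s) (i : I) :
    pullback.fst (str 𝒜) (str ℬ) (cc 𝒜 ℬ xs hxs ys hys s w') ∈ Proj.basicOpen 𝒜 (xs i) ↔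
      (fr 𝒜 (hxs s.1) 1 (xs i) ⊗ₜ[R] (1 : Away ℬ (ys s.2))) ∉ w'.asIdeal := by
  rw [← Scheme.Hom.comp_apply]
  unfold cc
  rw [c_fst, Scheme.Hom.comp_apply,
    ProjChart.awayι_mem_basicOpen_iff 𝒜 (hxs s.1) (hxs i) one_pos, isLocalizationElem_eq]
  rfl

set_option backward.isDefEq.respectTransparency false in
theorem snd_cc_mem_iff (s : I × J) (w' : W 𝒜 ℬ xs ys s) (j : J) :
    pullback.snd (str 𝒜) (str ℬ) (cc 𝒜 ℬ xs hxs ys hys s w') ∈ Proj.basicOpen ℬ (ys j) ↔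
      ((1 : Away 𝒜 (xs s.1)) ⊗ₜ[R] fr ℬ (hys s.2) 1 (ys j)) ∉ w'.asIdeal := by
  rw [← Scheme.Hom.comp_apply]
  unfold cc
  rw [c_snd, Scheme.Hom.comp_apply,
    ProjChart.awayι_mem_basicOpen_iff ℬ (hys s.2) (hys j) one_pos, isLocalizationElem_eq]
  rfl

set_option backward.isDefEq.respectTransparency false in
theorem gg_mem_iff (s t : I × J) (w' : W 𝒜 ℬ xs ys s) :
    gg 𝒜 ℬ xs hxs ys hys s w' ∈
        Proj.basicOpen (MvPolynomial.homogeneousSubmodule (I × J) R) (MvPolynomial.X t) ↔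
      (fr 𝒜 (hxs s.1) 1 (xs t.1) ⊗ₜ[R] (1 : Away ℬ (ys s.2))) ∉ w'.asIdeal ∧
      ((1 : Away 𝒜 (xs s.1)) ⊗ₜ[R] fr ℬ (hys s.2) 1 (ys t.2)) ∉ w'.asIdeal := by
  unfold gg gch
  rw [Segre1.chartMap_mem_basicOpen_iff _ _ _ _ _ (X_mem t)]
  change F 𝒜 ℬ xs hxs ys hys s.1 s.2 (MvPolynomial.X t) ∉ w'.asIdeal ↔ _
  rw [F_X]
  have h1 : fr 𝒜 (hxs s.1) 1 (xs t.1) ⊗ₜ[R] fr ℬ (hys s.2) 1 (ys t.2) =
      (fr 𝒜 (hxs s.1) 1 (xs t.1) ⊗ₜ[R] (1 : Away ℬ (ys s.2))) *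
        ((1 : Away 𝒜 (xs s.1)) ⊗ₜ[R] fr ℬ (hys s.2) 1 (ys t.2)) := by
    rw [Algebra.TensorProduct.tmul_mul_tmul, mul_one, one_mul]
  rw [h1]
  have hp := w'.isPrime
  constructor
  · intro h
    exact ⟨fun h' => h (Ideal.mul_mem_right _ _ h'), fun h' => h (Ideal.mul_mem_left _ _ h')⟩
  · rintro ⟨h2, h3⟩ h
    rcases hp.mem_or_mem h with h' | h'
    · exact h2 h'
    · exact h3 h'

include hcA hcB in
set_option backward.isDefEq.respectTransparency false in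
theorem preimage_basicOpen (t : I × J) :
    segre 𝒜 ℬ xs hxs ys hys hcA hcB ⁻¹ᵁ
        Proj.basicOpen (MvPolynomial.homogeneousSubmodule (I × J) R) (MvPolynomial.X t) =
      (cc 𝒜 ℬ xs hxs ys hys t).opensRange := by
  ext x
  obtain ⟨s, w', rfl⟩ := cover 𝒜 ℬ xs hxs ys hys hcA hcB x
  change segre 𝒜 ℬ xs hxs ys hys hcA hcB (cc 𝒜 ℬ xs hxs ys hys s w') ∈
      Proj.basicOpen (MvPolynomial.homogeneousSubmodule (I × J) R) (MvPolynomial.X t) ↔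
    cc 𝒜 ℬ xs hxs ys hys s w' ∈ Set.range (cc 𝒜 ℬ xs hxs ys hys t)
  rw [← Scheme.Hom.comp_apply, cc_segre, gg_mem_iff, range_cc]
  exact and_congr (fst_cc_mem_iff 𝒜 ℬ xs hxs ys hys s w' t.1).symm
    (snd_cc_mem_iff 𝒜 ℬ xs hxs ys hys s w' t.2).symm

/-- the ring homomorphism of the Segre morphism on the chart `t` -/
def θ (t : I × J) : Away (MvPolynomial.homogeneousSubmodule (I × J) R) (MvPolynomial.X t) →+*
    Away 𝒜 (xs t.1) ⊗[R] Away ℬ (ys t.2) :=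
  Segre1.awayLift (MvPolynomial.homogeneousSubmodule (I × J) R)
    (F 𝒜 ℬ xs hxs ys hys t.1 t.2).toRingHom (isUnit_F_self 𝒜 ℬ xs hxs ys hys t.1 t.2)

include hcA hcB in
set_option backward.isDefEq.respectTransparency false in
theorem isPullback_chart (t : I × J) :
    IsPullback (Spec.map (CommRingCat.ofHom (θ 𝒜 ℬ xs hxs ys hys t))) (cc 𝒜 ℬ xs hxs ys hys t)
      (Proj.awayι (MvPolynomial.homogeneousSubmodule (I × J) R) (MvPolynomial.X t) (X_mem t)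
        one_pos)
      (segre 𝒜 ℬ xs hxs ys hys hcA hcB) := by
  refine IsOpenImmersion.isPullback _ _ _ _ (cc_segre 𝒜 ℬ xs hxs ys hys hcA hcB t) ?_
  rw [Proj.opensRange_awayι, preimage_basicOpen]

include hcA hcB in
set_option backward.isDefEq.respectTransparency false in
theorem isClosedImmersion_segre
    (hC : (HomogeneousIdeal.irrelevant (MvPolynomial.homogeneousSubmodule (I × J) R)).toIdeal ≤
      Ideal.span (Set.range fun t : I × J => (MvPolynomial.X t : MvPolynomial (I × J) R)))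
    (hsurj : ∀ t, Function.Surjective (θ 𝒜 ℬ xs hxs ys hys t)) :
    IsClosedImmersion (segre 𝒜 ℬ xs hxs ys hys hcA hcB) :=
  ProjMapG.of_isPullback_openCover @IsClosedImmersion (segre 𝒜 ℬ xs hxs ys hys hcA hcB)
    (Proj.affineOpenCoverOfIrrelevantLESpan (MvPolynomial.homogeneousSubmodule (I × J) R)
      (fun t : I × J => (MvPolynomial.X t : MvPolynomial (I × J) R)) (fun t => X_mem t)
      (fun _ => one_pos) hC).openCover
    (fun t => W 𝒜 ℬ xs ys t) (fun t => cc 𝒜 ℬ xs hxs ys hys t)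
    (fun t => Spec.map (CommRingCat.ofHom (θ 𝒜 ℬ xs hxs ys hys t)))
    (fun t => isPullback_chart 𝒜 ℬ xs hxs ys hys hcA hcB t)
    (fun t => IsClosedImmersion.spec_of_surjective _ (hsurj t))

end Groth.Agent.Lib.Helper28.Segre4
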