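import Mathlib
set_option autoImplicit false
universe u
open TensorProduct

namespace Groth.Agent.Lib.Helper28.SqZero

variable {R A : Type*} [CommRing R] [CommRing A] [Algebra R A] (J : Ideal R) (hJ : J * J = ⊥)
  (ψ : A →ₐ[R] A) (hψ : ∀ a : A, ψ a - a ∈ J • (⊤ : Submodule R A))

include hJ hψ in
theorem fix_of_mem (c : A) (hc : c ∈ J • (⊤ : Submodule R A)) : ψ c = c := by
  refine Submodule.smul_induction_on hc (fun r hr n _ => ?_) (fun x y hx hy => ?_)
  · have h1 : r • (ψ n - n) ∈ (J * J) • (⊤ : Submodule R A) := by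
      rw [Submodule.mul_smul]
      exact Submodule.smul_mem_smul hr (hψ n)
    rw [hJ, Submodule.bot_smul, Submodule.mem_bot, smul_sub, sub_eq_zero] at h1
    rw [map_smul, h1]
  · rw [map_add, hx, hy]

include hJ hψ in
theorem bijective : Function.Bijective ψ := by
  constructor
  · rw [injective_iff_map_eq_zero]
    intro a ha
    have h1 : a ∈ J • (⊤ : Submodule R A) := by
      have := hψ a
      rw [ha, zero_sub] at this
      simpa using (Submodule.neg_mem _ this)
    rw [← fix_of_mem J hJ ψ hψ a h1, ha]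
  · intro a
    refine ⟨a - (ψ a - a), ?_⟩
    rw [map_sub, fix_of_mem J hJ ψ hψ _ (hψ a)]
    ring

theorem mem_of_tmul_eq (a b : A) (h : a ⊗ₜ[R] (1 : R ⧸ J) = b ⊗ₜ[R] (1 : R ⧸ J)) :
    a - b ∈ J • (⊤ : Submodule R A) := by
  have := congr(TensorProduct.tensorQuotEquivQuotSMul A J $h)
  rw [← map_one (Ideal.Quotient.mk J), TensorProduct.tensorQuotEquivQuotSMul_tmul_mk,
    TensorProduct.tensorQuotEquivQuotSMul_tmul_mk, one_smul, one_smul] at this
  exact (Submodule.Quotient.eq _).1 this

end Groth.Agent.Lib.Helper28.SqZero
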