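import Mathlib
import Groth.Agent.Lib.Helper28.SqZero
set_option autoImplicit false
set_option linter.style.haveILetI false
universe u
open CategoryTheory CategoryTheory.Limits AlgebraicGeometry TensorProduct

namespace Groth.Agent.Lib.Helper28.SqZero

/-- affine case -/
theorem isIso_of_isAffine (R : Type u) [CommRing R] (J : Ideal R) (hJ : J * J = ⊥)
    {Z : Scheme.{u}} [IsAffine Z] (f : Z ⟶ Spec (CommRingCat.of R)) (v : Z ⟶ Z) (hv : v ≫ f = f)
    (h : pullback.fst f (Spec.map (CommRingCat.ofHom (Ideal.Quotient.mk J))) ≫ v =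
      pullback.fst f (Spec.map (CommRingCat.ofHom (Ideal.Quotient.mk J)))) : IsIso v := by
  set j := Spec.map (CommRingCat.ofHom (Ideal.Quotient.mk J)) with hj
  let φ : R →+* Γ(Z, ⊤) := f.appTop.hom.comp (Scheme.ΓSpecIso (CommRingCat.of R)).inv.hom
  letI : Algebra R Γ(Z, ⊤) := φ.toAlgebra
  have hpo := isPushout_appTop_of_isPullback (IsPullback.of_hasPullback f j)
  have hpo2 : IsPushout (CommRingCat.ofHom (algebraMap R Γ(Z, ⊤)))
      (CommRingCat.ofHom (algebraMap R (R ⧸ J)))
      (pullback.fst f j).appTop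
      ((Scheme.ΓSpecIso (CommRingCat.of (R ⧸ J))).inv ≫ (pullback.snd f j).appTop) := by
    refine hpo.of_iso (Scheme.ΓSpecIso (CommRingCat.of R)) (Iso.refl _)
      (Scheme.ΓSpecIso (CommRingCat.of (R ⧸ J))) (Iso.refl _) ?_ ?_ ?_ ?_
    · ext x
      simp [RingHom.algebraMap_toAlgebra, φ]
    · rw [hj, ← cancel_epi (Scheme.ΓSpecIso (CommRingCat.of R)).inv, Iso.inv_hom_id_assoc,
        ← Category.assoc, ← Scheme.ΓSpecIso_inv_naturality, Category.assoc, Iso.inv_hom_id,
        Category.comp_id]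
    · simp
    · simp
  let e := (CommRingCat.isPushout_tensorProduct R Γ(Z, ⊤) (R ⧸ J)).isoIsPushout _ _ hpo2
  have he : ∀ a : Γ(Z, ⊤), e.hom.hom (a ⊗ₜ[R] (1 : R ⧸ J)) = (pullback.fst f j).appTop.hom a := by
    intro a
    have := (CommRingCat.isPushout_tensorProduct R Γ(Z, ⊤) (R ⧸ J)).inl_isoIsPushout_hom _ _ hpo2
    exact congr($this a)
  have heinj : Function.Injective e.hom.hom :=
    ((ConcreteCategory.isIso_iff_bijective e.hom).mp inferInstance).1
  -- the R-algebra endomorphism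
  let ψ : Γ(Z, ⊤) →ₐ[R] Γ(Z, ⊤) :=
    { v.appTop.hom with
      commutes' := fun r => by
        change v.appTop.hom (φ r) = φ r
        have h1 : f.appTop ≫ v.appTop = f.appTop := by rw [← Scheme.Hom.comp_appTop, hv]
        exact congr($h1 ((Scheme.ΓSpecIso (CommRingCat.of R)).inv.hom r)) }
  have hψ : ∀ a : Γ(Z, ⊤), ψ a - a ∈ J • (⊤ : Submodule R Γ(Z, ⊤)) := by
    intro a
    refine mem_of_tmul_eq J _ _ (heinj ?_)
    rw [he, he]
    have h1 : v.appTop ≫ (pullback.fst f j).appTop = (pullback.fst f j).appTop := by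
      rw [← Scheme.Hom.comp_appTop, h]
    exact congr($h1 a)
  have hbij : Function.Bijective v.appTop.hom := bijective J hJ ψ hψ
  haveI : IsIso v.appTop := (ConcreteCategory.isIso_iff_bijective _).mpr hbij
  exact ((MorphismProperty.isomorphisms Scheme.{u}).arrow_mk_iso_iff
    (arrowIsoSpecΓOfIsAffine v)).mpr (inferInstanceAs (IsIso (Spec.map v.appTop)))

end Groth.Agent.Lib.Helper28.SqZero
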