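import Groth.Agent.Lib.Helper28.HomSubring
import Groth.Agent.Lib.Helper28.GrTN

/-!
# The subalgebra of a graded ring generated by its degree-one part over a ring of scalars

For a graded ring `R = ⊕ 𝒢 i` generated by `𝒢 0 ∪ 𝒢 1`, a ring of scalars `σ : A → 𝒢 0`, the subring `S` generated by
`σ(A)` and `𝒢 1` contains the irrelevant ideal of `R`, is graded (over `A`) by the induced pieces, has degree-zero part
the image of `A`, and has irrelevant ideal generated by any set spanning `𝒢 1` over `A`.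
-/

set_option autoImplicit false
universe u
open DirectSum

namespace Groth.Agent.Lib.Helper28.SubDegOne

variable {R : Type u} [CommRing R] (𝒢 : ℕ → AddSubgroup R) [GradedRing 𝒢]
  {A : Type u} [CommRing A] (σ : A →+* R) (hσ : ∀ a, σ a ∈ 𝒢 0)

/-- the subring generated by the scalars and the degree-one part -/
def S₁ : Subring R := Subring.closure (Set.range σ ∪ ((𝒢 1 : AddSubgroup R) : Set R))

theorem range_le (a : A) : σ a ∈ S₁ 𝒢 σ := Subring.subset_closure (Or.inl ⟨a, rfl⟩)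

theorem deg_one_le {g : R} (hg : g ∈ 𝒢 1) : g ∈ S₁ 𝒢 σ := Subring.subset_closure (Or.inr hg)

include hσ in
theorem decompose_mem {x : R} (hx : x ∈ S₁ 𝒢 σ) (i : ℕ) : (decompose 𝒢 x i : R) ∈ S₁ 𝒢 σ := by
  refine HomSubring.decompose_mem_closure 𝒢 ?_ hx i
  rintro y (⟨a, rfl⟩ | hy)
  · exact ⟨0, hσ a⟩
  · exact ⟨1, hy⟩

/-- the additive subgroup generated by the products `g * s`, `g` of degree one, `s` in the subring -/
def N : AddSubgroup R := AddSubgroup.closure {x | ∃ g ∈ 𝒢 1, ∃ s ∈ S₁ 𝒢 σ, x = g * s}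

theorem N_le {x : R} (hx : x ∈ N 𝒢 σ) : x ∈ S₁ 𝒢 σ := by
  have h : N 𝒢 σ ≤ (S₁ 𝒢 σ).toAddSubgroup := by
    refine (AddSubgroup.closure_le _).2 ?_
    rintro _ ⟨g, hg, s, hs, rfl⟩
    exact (S₁ 𝒢 σ).mul_mem (deg_one_le 𝒢 σ hg) hs
  exact h hx

theorem deg_one_le_N {g : R} (hg : g ∈ 𝒢 1) : g ∈ N 𝒢 σ :=
  AddSubgroup.subset_closure ⟨g, hg, 1, (S₁ 𝒢 σ).one_mem, (mul_one g).symm⟩

theorem deg_zero_mul_mem_N {a : R} (ha : a ∈ 𝒢 0) {n : R} (hn : n ∈ N 𝒢 σ) : a * n ∈ N 𝒢 σ := by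
  induction hn using AddSubgroup.closure_induction with
  | mem x hx =>
    obtain ⟨g, hg, s, hs, rfl⟩ := hx
    have hag : a * g ∈ 𝒢 1 := by
      have := SetLike.mul_mem_graded ha hg
      rwa [zero_add] at this
    exact AddSubgroup.subset_closure ⟨a * g, hag, s, hs, (mul_assoc a g s).symm⟩
  | zero => rw [mul_zero]; exact (N 𝒢 σ).zero_mem
  | add x y _ _ hx hy => rw [mul_add]; exact (N 𝒢 σ).add_mem hx hy
  | neg x _ hx => rw [mul_neg]; exact (N 𝒢 σ).neg_mem hx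

theorem deg_one_mul_mem_N {g' : R} (hg' : g' ∈ 𝒢 1) {n : R} (hn : n ∈ N 𝒢 σ) : g' * n ∈ N 𝒢 σ := by
  induction hn using AddSubgroup.closure_induction with
  | mem x hx =>
    obtain ⟨g, hg, s, hs, rfl⟩ := hx
    refine AddSubgroup.subset_closure ⟨g, hg, g' * s, (S₁ 𝒢 σ).mul_mem (deg_one_le 𝒢 σ hg') hs, ?_⟩
    ring
  | zero => rw [mul_zero]; exact (N 𝒢 σ).zero_mem
  | add x y _ _ hx hy => rw [mul_add]; exact (N 𝒢 σ).add_mem hx hy
  | neg x _ hx => rw [mul_neg]; exact (N 𝒢 σ).neg_mem hx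

variable (hgen : Subring.closure (((𝒢 0 : AddSubgroup R) : Set R) ∪ ((𝒢 1 : AddSubgroup R) : Set R)) = ⊤)

include hgen in
theorem mul_mem_N (r : R) {n : R} (hn : n ∈ N 𝒢 σ) : r * n ∈ N 𝒢 σ := by
  have hr : r ∈ Subring.closure (((𝒢 0 : AddSubgroup R) : Set R) ∪ ((𝒢 1 : AddSubgroup R) : Set R)) := by
    rw [hgen]; trivial
  induction hr using Subring.closure_induction generalizing n with
  | mem x hx =>
    rcases hx with hx | hx
    · exact deg_zero_mul_mem_N 𝒢 σ hx hn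
    · exact deg_one_mul_mem_N 𝒢 σ hx hn
  | zero => rw [zero_mul]; exact (N 𝒢 σ).zero_mem
  | one => rw [one_mul]; exact hn
  | add x y _ _ hx hy => rw [add_mul]; exact (N 𝒢 σ).add_mem (hx hn) (hy hn)
  | neg x _ hx => rw [neg_mul]; exact (N 𝒢 σ).neg_mem (hx hn)
  | mul x y _ _ hx hy => rw [mul_assoc]; exact hx (hy hn)

include hgen in
/-- the irrelevant ideal lies in the subring -/
theorem irrelevant_le {x : R} (hx : x ∈ (HomogeneousIdeal.irrelevant 𝒢).toIdeal) : x ∈ S₁ 𝒢 σ := by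
  rw [GrTN.irrelevant_eq_span_deg_one 𝒢 hgen] at hx
  refine N_le 𝒢 σ ?_
  induction hx using Submodule.span_induction with
  | mem x hx => exact deg_one_le_N 𝒢 σ hx
  | zero => exact (N 𝒢 σ).zero_mem
  | add x y _ _ hx hy => exact (N 𝒢 σ).add_mem hx hy
  | smul r x _ hx => exact mul_mem_N 𝒢 σ hgen r hx

include hgen in
theorem deg_pos_le {k : ℕ} (hk : 0 < k) {x : R} (hx : x ∈ 𝒢 k) : x ∈ S₁ 𝒢 σ :=
  irrelevant_le 𝒢 σ hgen (HomogeneousIdeal.mem_irrelevant_of_mem 𝒢 hk hx)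

/-- the scalars act through `σ` -/
instance algebra : Algebra A (S₁ 𝒢 σ) := (σ.codRestrict (S₁ 𝒢 σ) (range_le 𝒢 σ)).toAlgebra

theorem algebraMap_coe (a : A) : ((algebraMap A (S₁ 𝒢 σ) a : S₁ 𝒢 σ) : R) = σ a := rfl

include hσ in
/-- the induced pieces, as submodules over the scalars -/
def degM (i : ℕ) : Submodule A (S₁ 𝒢 σ) where
  carrier := {x | (x : R) ∈ 𝒢 i}
  zero_mem' := (𝒢 i).zero_mem
  add_mem' := fun ha hb => (𝒢 i).add_mem ha hb
  smul_mem' := fun a x hx => by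
    show ((a • x : S₁ 𝒢 σ) : R) ∈ 𝒢 i
    rw [Algebra.smul_def, Subring.coe_mul, algebraMap_coe]
    have := SetLike.mul_mem_graded (hσ a) hx
    rwa [zero_add] at this

theorem mem_degM_iff (i : ℕ) (x : S₁ 𝒢 σ) : x ∈ degM 𝒢 σ hσ i ↔ (x : R) ∈ 𝒢 i := Iff.rfl

instance gradedMonoid : SetLike.GradedMonoid (degM 𝒢 σ hσ) where
  one_mem := (SetLike.GradedOne.one_mem : (1 : R) ∈ 𝒢 0)
  mul_mem := fun _ _ _ _ ha hb => (SetLike.GradedMul.mul_mem ha hb : _ ∈ 𝒢 _)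

/-- the projections of the subring onto its pieces -/
def projS (i : ℕ) : S₁ 𝒢 σ →+ S₁ 𝒢 σ where
  toFun x := ⟨(decompose 𝒢 (x : R) i : R), decompose_mem 𝒢 σ hσ x.2 i⟩
  map_zero' := by
    apply Subtype.ext
    show (decompose 𝒢 ((0 : S₁ 𝒢 σ) : R) i : R) = 0
    rw [Subring.coe_zero, decompose_zero]
    rfl
  map_add' x y := by
    apply Subtype.ext
    show (decompose 𝒢 ((x + y : S₁ 𝒢 σ) : R) i : R) = (decompose 𝒢 (x : R) i : R) + (decompose 𝒢 (y : R) i : R)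
    rw [Subring.coe_add, decompose_add, DirectSum.add_apply, AddSubgroup.coe_add]

theorem projS_coe (i : ℕ) (x : S₁ 𝒢 σ) : ((projS 𝒢 σ hσ i x : S₁ 𝒢 σ) : R) = (decompose 𝒢 (x : R) i : R) := rfl

theorem pi_coe (i : ℕ) (y : DirectSum ℕ fun i => degM 𝒢 σ hσ i) :
    projS 𝒢 σ hσ i (DirectSum.coeAddMonoidHom (degM 𝒢 σ hσ) y) = (y i : S₁ 𝒢 σ) := by
  classical
  induction y using DirectSum.induction_on with
  | zero => simp
  | of j z =>
    rw [DirectSum.coeAddMonoidHom_of]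
    apply Subtype.ext
    rw [projS_coe]
    by_cases h : j = i
    · subst h
      rw [DirectSum.of_eq_same, decompose_of_mem_same 𝒢 (show ((z : S₁ 𝒢 σ) : R) ∈ 𝒢 j from z.2)]
    · rw [DirectSum.of_eq_of_ne _ _ _ (Ne.symm h),
        decompose_of_mem_ne 𝒢 (show ((z : S₁ 𝒢 σ) : R) ∈ 𝒢 j from z.2) h]
      rfl
  | add x y hx hy =>
    rw [map_add, map_add, hx, hy, DirectSum.add_apply, Submodule.coe_add]

theorem isInternal : DirectSum.IsInternal (degM 𝒢 σ hσ) := by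
  classical
  constructor
  · rw [injective_iff_map_eq_zero]
    intro y hy
    ext i
    rw [← pi_coe 𝒢 σ hσ i y, hy, map_zero]
    simp
  · intro x
    refine ⟨∑ n ∈ (decompose 𝒢 (x : R)).support,
      DirectSum.of (fun i => degM 𝒢 σ hσ i) n ⟨projS 𝒢 σ hσ n x, SetLike.coe_mem (decompose 𝒢 (x : R) n)⟩, ?_⟩
    rw [map_sum]
    apply Subtype.ext
    rw [AddSubmonoidClass.coe_finsetSum]
    conv_rhs => rw [← DirectSum.sum_support_decompose 𝒢 (x : R)]
    refine Finset.sum_congr rfl fun n _ => ?_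
    rw [DirectSum.coeAddMonoidHom_of]
    rfl

/-- the subring is graded by the induced pieces -/
@[reducible] noncomputable def gradedAlgebra : GradedAlgebra (degM 𝒢 σ hσ) :=
  { gradedMonoid 𝒢 σ hσ with toDecomposition := (isInternal 𝒢 σ hσ).chooseDecomposition }

section props

include hσ in
theorem smul_deg_one_mem (r : A) : ∀ e ∈ 𝒢 1, σ r * e ∈ 𝒢 1 := by
  intro e he
  have := SetLike.mul_mem_graded (hσ r) he
  rwa [zero_add] at this

/-- the degree-zero part of the subring is the image of the scalars -/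
theorem algebraMap_zero_surjective :
    letI := gradedAlgebra 𝒢 σ hσ
    Function.Surjective (algebraMap A (degM 𝒢 σ hσ 0)) := by
  letI := gradedAlgebra 𝒢 σ hσ
  rintro ⟨x, hx⟩
  obtain ⟨a, ha⟩ := HomSubring.mem_range_of_deg_zero 𝒢 σ hσ Nat.one_pos (𝒢 1) (fun e he => he)
    (smul_deg_one_mem 𝒢 σ hσ) x.2 hx
  exact ⟨a, Subtype.ext (Subtype.ext ha)⟩

/-- the subring is generated by its parts of degree zero and one -/
theorem closure_eq_top :
    Subring.closure (((degM 𝒢 σ hσ 0 : Submodule A (S₁ 𝒢 σ)) : Set (S₁ 𝒢 σ)) ∪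
      ((degM 𝒢 σ hσ 1 : Submodule A (S₁ 𝒢 σ)) : Set (S₁ 𝒢 σ))) = ⊤ := by
  set T : Subring (S₁ 𝒢 σ) := Subring.closure (((degM 𝒢 σ hσ 0 : Submodule A (S₁ 𝒢 σ)) : Set (S₁ 𝒢 σ)) ∪
      ((degM 𝒢 σ hσ 1 : Submodule A (S₁ 𝒢 σ)) : Set (S₁ 𝒢 σ))) with hT
  have key : ∀ b : R, b ∈ Subring.closure (Set.range σ ∪ ((𝒢 1 : AddSubgroup R) : Set R)) →
      ∀ hb : b ∈ S₁ 𝒢 σ, (⟨b, hb⟩ : S₁ 𝒢 σ) ∈ T := by
    intro b hb'
    induction hb' using Subring.closure_induction with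
    | mem x hx =>
      intro hb
      rcases hx with ⟨r, rfl⟩ | hx
      · exact Subring.subset_closure (Or.inl (hσ r))
      · exact Subring.subset_closure (Or.inr hx)
    | zero => intro hb; exact T.zero_mem
    | one => intro hb; exact T.one_mem
    | add x y hx hy ihx ihy =>
      intro hb
      exact T.add_mem (ihx hx) (ihy hy)
    | neg x hx ihx =>
      intro hb
      exact T.neg_mem (ihx hx)
    | mul x y hx hy ihx ihy =>
      intro hb
      exact T.mul_mem (ihx hx) (ihy hy)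
  rw [eq_top_iff]
  rintro ⟨b, hb⟩ -
  exact key b hb hb

/-- the irrelevant ideal of the subring is generated by any set spanning the degree-one part over the scalars -/
theorem irrelevant_eq_span (T : Finset (S₁ 𝒢 σ)) (hT : ∀ t ∈ T, (t : R) ∈ 𝒢 1)
    (hspan : ∀ x ∈ 𝒢 1, ∃ c : S₁ 𝒢 σ → A, x = ∑ t ∈ T, σ (c t) * (t : R)) :
    letI := gradedAlgebra 𝒢 σ hσ
    (HomogeneousIdeal.irrelevant (degM 𝒢 σ hσ)).toIdeal = Ideal.span (T : Set (S₁ 𝒢 σ)) := by
  letI := gradedAlgebra 𝒢 σ hσ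
  rw [GrTN.irrelevant_eq_span_deg_one (degM 𝒢 σ hσ) (closure_eq_top 𝒢 σ hσ)]
  apply le_antisymm
  · rw [Ideal.span_le]
    intro x hx
    obtain ⟨c, hc⟩ := hspan (x : R) hx
    have hx' : x = ∑ t ∈ T, algebraMap A (S₁ 𝒢 σ) (c t) * t := by
      apply Subtype.ext
      rw [hc, AddSubmonoidClass.coe_finsetSum]
      rfl
    rw [hx']
    exact Ideal.sum_mem _ fun t ht => Ideal.mul_mem_left _ _ (Ideal.subset_span ht)
  · exact Ideal.span_mono fun t ht => hT t ht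

/-- the inclusion of the subring, as a homomorphism of graded rings -/
def incl :
    letI := gradedAlgebra 𝒢 σ hσ
    degM 𝒢 σ hσ →+*ᵍ 𝒢 :=
  letI := gradedAlgebra 𝒢 σ hσ
  { (S₁ 𝒢 σ).subtype with map_mem := fun hx => hx }

theorem incl_apply (x : S₁ 𝒢 σ) : letI := gradedAlgebra 𝒢 σ hσ; incl 𝒢 σ hσ x = (x : R) := rfl

end props

end Groth.Agent.Lib.Helper28.SubDegOne
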