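import Groth.Agent.Lib.Helper28.SymAlgSec
import Groth.Agent.Lib.Helper17.PullbackBC
import Groth.Agent.S12142

set_option autoImplicit false
universe u
open CategoryTheory CategoryTheory.Limits AlgebraicGeometry Opposite TopologicalSpace TensorProduct
noncomputable section

namespace Groth.Agent.Lib.Helper28.SymAlg

open Groth.Agent.Lib.Helper28 Groth.Agent.Lib.Helper28.QCohLoc Groth.Agent.Lib.Helper28.TraceAlg
open Groth.Agent.Lib.Helper17.PullbackBC Groth.Agent.Lib.Helper28.PullbackInv

/-- **the abstract algebra behind `Sym(g^* E) = g^* Sym(E)`** -/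
theorem isPushout_of_sym {R R' AU BU : Type u} [CommRing R] [CommRing R'] [CommRing AU] [CommRing BU]
    (φ : R →+* R') (α : R →+* AU) (β : R' →+* BU) (ν : AU →+* BU) (hsq : ∀ r, ν (α r) = β (φ r))
    {P T : Type u} [AddCommGroup P] [Module R P] [AddCommGroup T] [Module R' T]
    (c : P → T) (hc : IsBC φ c)
    (jP : P →+ AU) (hjP : ∀ r p, jP (r • p) = α r * jP p)
    (jT : T →+ BU) (hjT : ∀ r t, jT (r • t) = β r * jT t)
    (hν : ∀ p, ν (jP p) = jT (c p))
    (extA : ∀ (C : Type u) [CommRing C] (F G : AU →+* C), (∀ a, F (α a) = G (α a)) →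
      (∀ p, F (jP p) = G (jP p)) → F = G)
    (extB : ∀ (C : Type u) [CommRing C] (F G : BU →+* C), (∀ a, F (β a) = G (β a)) →
      (∀ t, F (jT t) = G (jT t)) → F = G)
    (exB : ∀ (C : Type u) [CommRing C] (σ : R' →+* C) (lam : T →+ C), (∀ a t, lam (a • t) = σ a * lam t) →
        ∃ F : BU →+* C, (∀ a, F (β a) = σ a) ∧ ∀ t, F (jT t) = lam t) :
    IsPushout (CommRingCat.ofHom φ) (CommRingCat.ofHom α) (CommRingCat.ofHom β) (CommRingCat.ofHom ν) := by
  let _ := φ.toAlgebra
  obtain ⟨e, he⟩ := (isBC_iff φ c).1 hc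
  have hcsymm : ∀ (r' : R') (p : P), e.symm (r' ⊗ₜ[R] p) = r' • c p := by
    intro r' p
    rw [LinearEquiv.symm_apply_eq, map_smul, he, TensorProduct.smul_tmul', smul_eq_mul, mul_one]
  have w : CommRingCat.ofHom φ ≫ CommRingCat.ofHom β = CommRingCat.ofHom α ≫ CommRingCat.ofHom ν := by
    apply CommRingCat.hom_ext
    refine RingHom.ext fun r => ?_
    exact (hsq r).symm
  -- the descent
  have hdesc : ∀ s : PushoutCocone (CommRingCat.ofHom φ) (CommRingCat.ofHom α),
      ∃ G : BU →+* s.pt, (∀ a : R', G (β a) = s.inl.hom a) ∧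
        ∀ (r' : R') (p : P), G (jT (r' • c p)) = s.inl.hom r' * s.inr.hom (jP p) := by
    intro s
    have hcond : ∀ r : R, s.inl.hom (φ r) = s.inr.hom (α r) := fun r =>
      congrArg (fun χ => χ.hom r) s.condition
    let f : R' →+ P →+ s.pt :=
      { toFun := fun r' => (AddMonoidHom.mulLeft (s.inl.hom r')).comp (s.inr.hom.toAddMonoidHom.comp jP)
        map_zero' := by
          ext p
          show s.inl.hom 0 * s.inr.hom (jP p) = 0
          rw [map_zero, zero_mul]
        map_add' := fun a b => by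
          ext p
          show s.inl.hom (a + b) * s.inr.hom (jP p) = s.inl.hom a * s.inr.hom (jP p) + s.inl.hom b * s.inr.hom (jP p)
          rw [map_add, add_mul] }
    have hf : ∀ (r : R) (r' : R') (p : P), f (r • r') p = f r' (r • p) := by
      intro r r' p
      show s.inl.hom (r • r') * s.inr.hom (jP p) = s.inl.hom r' * s.inr.hom (jP (r • p))
      rw [hjP, map_mul, Algebra.smul_def, map_mul, ← hcond]
      show s.inl.hom (φ r) * s.inl.hom r' * _ = _
      ring
    let L : R' ⊗[R] P →+ s.pt := TensorProduct.liftAddHom f hf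
    have hL : ∀ (r' : R') (p : P), L (r' ⊗ₜ[R] p) = s.inl.hom r' * s.inr.hom (jP p) := fun r' p => rfl
    have hLsmul : ∀ (a : R') (z : R' ⊗[R] P), L (a • z) = s.inl.hom a * L z := by
      intro a z
      induction z using TensorProduct.induction_on with
      | zero => rw [smul_zero, map_zero, mul_zero]
      | tmul r' p =>
        rw [TensorProduct.smul_tmul', hL, hL, smul_eq_mul, map_mul, mul_assoc]
      | add x y hx hy => rw [smul_add, map_add, map_add, hx, hy, mul_add]
    let lam : T →+ s.pt := L.comp e.toLinearMap.toAddMonoidHom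
    have hlam : ∀ (a : R') (t : T), lam (a • t) = s.inl.hom a * lam t := by
      intro a t
      show L (e (a • t)) = s.inl.hom a * L (e t)
      rw [map_smul, hLsmul]
    obtain ⟨G, hG1, hG2⟩ := exB s.pt s.inl.hom lam hlam
    refine ⟨G, hG1, fun r' p => ?_⟩
    rw [hG2]
    show L (e (r' • c p)) = _
    rw [map_smul, he, hLsmul, hL, map_one, one_mul]
  choose G hG1 hG2 using hdesc
  refine ⟨⟨w⟩, ⟨PushoutCocone.IsColimit.mk _ (fun s => CommRingCat.ofHom (G s)) (fun s => ?_) (fun s => ?_)
    (fun s m h1 h2 => ?_)⟩⟩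
  · apply CommRingCat.hom_ext
    refine RingHom.ext fun a => ?_
    exact hG1 s a
  · apply CommRingCat.hom_ext
    refine extA _ _ _ (fun a => ?_) (fun p => ?_)
    · show G s (ν (α a)) = s.inr.hom (α a)
      rw [hsq, hG1]
      exact congrArg (fun χ => χ.hom a) s.condition
    · show G s (ν (jP p)) = s.inr.hom (jP p)
      have h := hG2 s 1 p
      rw [one_smul, map_one, one_mul] at h
      rw [hν, h]
  · apply CommRingCat.hom_ext
    have hm1 : ∀ a : R', m.hom (β a) = s.inl.hom a := fun a => congrArg (fun χ => χ.hom a) h1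
    have hm2 : ∀ x : AU, m.hom (ν x) = s.inr.hom x := fun x => congrArg (fun χ => χ.hom x) h2
    refine extB _ _ _ (fun a => ?_) (fun t => ?_)
    · show m.hom (β a) = G s (β a)
      rw [hm1, hG1]
    · show m.hom (jT t) = G s (jT t)
      obtain ⟨z, rfl⟩ := e.symm.surjective t
      induction z using TensorProduct.induction_on with
      | zero => rw [map_zero, map_zero, map_zero, map_zero]
      | tmul r' p =>
        rw [hcsymm, hG2, hjT, map_mul, hm1, ← hν, hm2]
      | add x y hx hy => rw [map_add, map_add, map_add, map_add, hx, hy]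

attribute [local instance] algAt

variable {S S' : Scheme.{u}} (g : S' ⟶ S) {E : S.Modules} [E.IsQuasicoherent] {A : RelSpec.QCAlg S}
  {j : E ⟶ A.toModule} (hA : RelSpec.IsSymAlg E A j) {B : RelSpec.QCAlg S'}
  {j' : (Scheme.Modules.pullback g).obj E ⟶ B.toModule}
  (hB : RelSpec.IsSymAlg ((Scheme.Modules.pullback g).obj E) B j')
  (u : RelSpec.QHom g A B)
  (hu : ∀ (U : S.Opens) (x : Γ(E, U)),
    (u.app U).hom (asR A (j.app U x)) = asR B (j'.app (g ⁻¹ᵁ U) (pbs g E U x)))

include hA hB in
/-- **`Sym(g^* E) = g^* Sym(E)`** (hypothesis on affine opens only) -/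
theorem isQBaseChange_sym_aff
    (hu : ∀ (U : S.Opens), IsAffineOpen U → ∀ (x : Γ(E, U)),
      (u.app U).hom (asR A (j.app U x)) = asR B (j'.app (g ⁻¹ᵁ U) (pbs g E U x))) : RelSpec.IsQBaseChange u := by
  intro U hU U' hU' hle
  have hq : ((Scheme.Modules.pullback g).obj E).IsQuasicoherent := inferInstance
  have hsq : ∀ r : Γ(S, U), (u.appLE U U' hle).hom ((A.str.app (op U)).hom r) =
      (B.str.app (op U')).hom ((g.appLE U U' hle).hom r) := fun r =>
    congrArg (fun χ => χ.hom r) (u.str_appLE U U' hle)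
  let jP : Γ(E, U) →+ A.presheaf.obj (op U) :=
    { toFun := fun m => asR A (j.app U m)
      map_zero' := by
        rw [map_zero]
        rfl
      map_add' := fun x y => by
        rw [map_add]
        rfl }
  let jT : Γ((Scheme.Modules.pullback g).obj E, U') →+ B.presheaf.obj (op U') :=
    { toFun := fun m => asR B (j'.app U' m)
      map_zero' := by
        rw [map_zero]
        rfl
      map_add' := fun x y => by
        rw [map_add]
        rfl }
  refine isPushout_of_sym (g.appLE U U' hle).hom (A.str.app (op U)).hom (B.str.app (op U')).hom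
    (u.appLE U U' hle).hom hsq (fun m => res _ hle (pbs g E U m)) (isBC_pullback g hU hU' hle E)
    jP (fun r p => ?_) jT (fun r t => ?_) (fun p => ?_)
    (fun C _ F G h1 h2 => ringHom_ext_sec hA U hU F G h1 h2)
    (fun C _ F G h1 h2 => ringHom_ext_sec hB U' hU' F G h1 h2)
    (fun C _ σ lam hlam => exists_ringHom_sec hB U' hU' σ lam hlam)
  · show asR A (j.app U (r • p)) = (A.str.app (op U)).hom r * asR A (j.app U p)
    rw [Scheme.Modules.Hom.app_smul]
    rfl
  · show asR B (j'.app U' (r • t)) = (B.str.app (op U')).hom r * asR B (j'.app U' t)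
    rw [Scheme.Modules.Hom.app_smul]
    rfl
  · show (u.appLE U U' hle).hom (asR A (j.app U p)) = asR B (j'.app U' (res _ hle (pbs g E U p)))
    rw [app_res]
    show (B.presheaf.map (homOfLE hle).op).hom ((u.app U).hom (asR A (j.app U p))) = _
    rw [hu U hU]
    rfl

include hA hB hu in
/-- **`Sym(g^* E) = g^* Sym(E)`** -/
theorem isQBaseChange_sym : RelSpec.IsQBaseChange u :=
  isQBaseChange_sym_aff g hA hB u (fun U _ x => hu U x)

include hA hB hu in
/-- **`V(g^* E) = V(E) ×_S S'`** -/
theorem isPullback_baseChange (h : B.spec ⟶ A.spec) (hh : RelSpec.IsSpecQMap u h) :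
    IsPullback h B.π A.π g :=
  Groth.Agent.S12142.result g A B u (isQBaseChange_sym g hA hB u hu) h hh

end Groth.Agent.Lib.Helper28.SymAlg
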