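import Groth.Agent.Lib.Helper28.SymAlgPre

/-!
# Gluing the spectra of a presheaf of algebras which is quasi-coherent on affine opens

This repeats the construction of `RelSpec.QCAlg.spec` for a presheaf of rings with a structure map which is
quasi-coherent on affine opens but not assumed to be a sheaf.  The direct image of the structure sheaf of the glued
scheme is then a quasi-coherent algebra whose sections over affine opens are those of the presheaf.
-/

set_option autoImplicit false
universe u
open CategoryTheory CategoryTheory.Limits AlgebraicGeometry Opposite TopologicalSpace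
noncomputable section

namespace Groth.Agent.Lib.Helper28.PreQC

variable {S : Scheme.{u}} (P : TopCat.Presheaf CommRingCat.{u} S.carrier) (str : S.presheaf ⟶ P)
  (hQC : RelSpec.IsQC P str)

include hQC in
theorem coequifibered :
    ((Scheme.AffineZariskiSite.toOpensFunctor S).op.whiskerLeft str).Coequifibered :=
  Scheme.AffineZariskiSite.coequifibered_iff_forall_isLocalizationAway.mpr fun U r => hQC U.1 U.2 r

/-- the relative gluing datum -/
def glueData : (Scheme.AffineZariskiSite.directedCover S).RelativeGluingData :=
  Scheme.AffineZariskiSite.relativeGluingData (coequifibered P str hQC)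

instance : ((glueData P str hQC).functor ⋙ Scheme.forget).IsLocallyDirected :=
  Scheme.Cover.RelativeGluingData.instIsLocallyDirectedI₀CompFunctorForgetOfIsThin ..

/-- the glued scheme -/
def spec : Scheme.{u} := (glueData P str hQC).glued

/-- the structure morphism -/
def π : spec P str hQC ⟶ S := (glueData P str hQC).toBase

/-- the charts -/
def ι (U : S.Opens) (hU : IsAffineOpen U) : Spec (P.obj (op U)) ⟶ spec P str hQC :=
  (glueData P str hQC).cover.f ⟨U, hU⟩

variable (U : S.Opens) (hU : IsAffineOpen U)

instance : IsOpenImmersion (ι P str hQC U hU) := (glueData P str hQC).cover.map_prop _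

theorem ι_π : ι P str hQC U hU ≫ π P str hQC = Spec.map (str.app (op U)) ≫ hU.fromSpec :=
  colimit.ι_desc _ _

theorem π_preimage : π P str hQC ⁻¹ᵁ U = (ι P str hQC U hU).opensRange := by
  simpa using! (glueData P str hQC).toBase_preimage_eq_opensRange_ι ⟨U, hU⟩

theorem top_le_preimage :
    (⊤ : (Spec (P.obj (op U))).Opens) ≤ ι P str hQC U hU ⁻¹ᵁ (π P str hQC ⁻¹ᵁ U) := by
  rw [← Scheme.Hom.comp_preimage, ι_π, Scheme.Hom.comp_preimage, hU.fromSpec_preimage_self]
  exact le_top

instance isAffineHom_π : IsAffineHom (π P str hQC) where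
  isAffine_preimage U hU := by
    rw [π_preimage P str hQC U hU]
    exact isAffineOpen_opensRange (ι P str hQC U hU)

/-- the identification of the functions on the preimage of an affine open with the sections of the presheaf -/
def gammaAff : Γ(spec P str hQC, π P str hQC ⁻¹ᵁ U) ⟶ P.obj (op U) :=
  (ι P str hQC U hU).appLE (π P str hQC ⁻¹ᵁ U) ⊤ (top_le_preimage P str hQC U hU) ≫
    (Scheme.ΓSpecIso (P.obj (op U))).hom

theorem ι_res {U V : S.AffineZariskiSite} (i : V ⟶ U) :
    Spec.map (P.map (homOfLE (Scheme.AffineZariskiSite.toOpens_mono i.le)).op) ≫ ι P str hQC U.1 U.2 =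
      ι P str hQC V.1 V.2 :=
  colimit.w (glueData P str hQC).functor i

set_option backward.isDefEq.respectTransparency false in
theorem isIso_gammaAff : IsIso (gammaAff P str hQC U hU) := by
  unfold gammaAff
  have h1 : IsIso ((ι P str hQC U hU).app (π P str hQC ⁻¹ᵁ U)) :=
    (ι P str hQC U hU).isIso_app _ (π_preimage P str hQC U hU).le
  have h2 : IsIso ((ι P str hQC U hU).appLE (π P str hQC ⁻¹ᵁ U) ⊤ (top_le_preimage P str hQC U hU)) := by
    rw [Scheme.Hom.appLE]
    have : IsIso ((Spec (P.obj (op U))).presheaf.map
        (homOfLE (top_le_preimage P str hQC U hU)).op) := by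
      have e : ι P str hQC U hU ⁻¹ᵁ (π P str hQC ⁻¹ᵁ U) = ⊤ := top_le_iff.1 (top_le_preimage P str hQC U hU)
      have : (homOfLE (top_le_preimage P str hQC U hU)).op = eqToHom (by rw [e]) := Subsingleton.elim _ _
      rw [this, eqToHom_map]
      infer_instance
    infer_instance
  infer_instance

set_option backward.isDefEq.respectTransparency false in
/-- the identifications `gammaAff` over the affine opens, as a natural transformation -/
def gammaRestrict : (Scheme.AffineZariskiSite.toOpensFunctor S).op ⋙ ((π P str hQC).base _* (spec P str hQC).presheaf) ⟶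
    (Scheme.AffineZariskiSite.toOpensFunctor S).op ⋙ P where
  app U := gammaAff P str hQC U.unop.1 U.unop.2
  naturality U V i := by
    change (spec P str hQC).presheaf.map
        (homOfLE ((π P str hQC).preimage_mono (Scheme.AffineZariskiSite.toOpens_mono i.unop.le))).op ≫
        gammaAff P str hQC V.unop.1 V.unop.2 =
      gammaAff P str hQC U.unop.1 U.unop.2 ≫ P.map (homOfLE (Scheme.AffineZariskiSite.toOpens_mono i.unop.le)).op
    simp only [gammaAff, Category.assoc, ← Scheme.ΓSpecIso_naturality]
    simp only [← Category.assoc]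
    congr 1
    simp only [Scheme.Hom.appTop, Scheme.Hom.appLE, Category.assoc]
    have h1 := (Scheme.Hom.comp_app
      (Spec.map (P.map (homOfLE (Scheme.AffineZariskiSite.toOpens_mono i.unop.le)).op))
      (ι P str hQC U.unop.1 U.unop.2) (π P str hQC ⁻¹ᵁ U.unop.1)).symm
    rw [Scheme.Hom.naturality_assoc, Scheme.Hom.naturality, reassoc_of% h1,
      Scheme.Hom.congr_app (ι_res P str hQC i.unop), Category.assoc, ← Functor.map_comp, ← Functor.map_comp]
    rfl

set_option backward.isDefEq.respectTransparency false in
/-- over an affine open, `gammaAff` is compatible with the two structure maps from the structure sheaf -/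
theorem π_app_gammaAff : (π P str hQC).app U ≫ gammaAff P str hQC U hU = str.app (op U) := by
  have h1 := Scheme.Hom.congr_app (ι_π P str hQC U hU) U
  have h2 := (Scheme.Hom.comp_app (ι P str hQC U hU) (π P str hQC) U).symm
  have hk : ∀ k : (op ⊤ : (Spec (P.obj (op U))).Opensᵒᵖ) ⟶ op ⊤,
      (Spec (P.obj (op U))).presheaf.map k = 𝟙 _ := fun k => by
    rw [Subsingleton.elim k (𝟙 _)]; exact CategoryTheory.Functor.map_id _ _
  simp only [gammaAff, Scheme.Hom.appLE, Category.assoc]
  rw [reassoc_of% h2, h1, Scheme.Hom.comp_app, hU.fromSpec_app_self]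
  simp only [Category.assoc]
  rw [Scheme.Hom.naturality_assoc]
  simp only [← Functor.map_comp_assoc]
  erw [hk, Category.id_comp]
  rw [← cancel_epi (Scheme.ΓSpecIso Γ(S, U)).hom, Iso.hom_inv_id_assoc]
  erw [Scheme.ΓSpecIso_naturality]

end Groth.Agent.Lib.Helper28.PreQC
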