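import Groth.Agent.Lib.Helper28.SymAlgSec
import Groth.Agent.Lib.Helper28.BiprodQC
import Groth.Agent.Lib.Helper28.SymAlgCI

set_option autoImplicit false
universe u
open CategoryTheory CategoryTheory.Limits AlgebraicGeometry Opposite TopologicalSpace
noncomputable section

namespace Groth.Agent.Lib.Helper28.SymAlg

open Groth.Agent.Lib.Helper28 Groth.Agent.Lib.Helper28.QCohLoc Groth.Agent.Lib.Helper28.TraceAlg

attribute [local instance] algAt

variable {S : Scheme.{u}} {E F : S.Modules} [E.IsQuasicoherent] [F.IsQuasicoherent]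
  {AE AF A : RelSpec.QCAlg S} {jE : E ⟶ AE.toModule} {jF : F ⟶ AF.toModule} {j : E ⊞ F ⟶ A.toModule}
  (hAE : RelSpec.IsSymAlg E AE jE) (hAF : RelSpec.IsSymAlg F AF jF) (hA : RelSpec.IsSymAlg (E ⊞ F) A j)
  (ψE : AE ⟶ A) (ψF : AF ⟶ A)
  (hψE : jE ≫ RelSpec.QCAlg.Hom.toModuleMap ψE = biprod.inl ≫ j)
  (hψF : jF ≫ RelSpec.QCAlg.Hom.toModuleMap ψF = biprod.inr ≫ j)

theorem smul_sec (B : RelSpec.QCAlg S) (U : S.Opens) (a : Γ(S, U)) (y : Γ(B.toModule, U)) :
    asR B (a • y) = (B.str.app (op U)).hom a * asR B y := rfl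

include hψE in
theorem psiE_j (U : S.Opens) (m : Γ(E, U)) :
    (ψE.hom.app (op U)).hom (asR AE (jE.app U m)) = asR A (j.app U ((biprod.inl : E ⟶ E ⊞ F).app U m)) := by
  have h := congrArg (fun χ : E ⟶ A.toModule => χ.app U m) hψE
  exact h

include hψF in
theorem psiF_j (U : S.Opens) (m : Γ(F, U)) :
    (ψF.hom.app (op U)).hom (asR AF (jF.app U m)) = asR A (j.app U ((biprod.inr : F ⟶ E ⊞ F).app U m)) := by
  have h := congrArg (fun χ : F ⟶ A.toModule => χ.app U m) hψF
  exact h

theorem psi_str {B B' : RelSpec.QCAlg S} (ψ : B ⟶ B') (U : S.Opens) (a : Γ(S, U)) :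
    (ψ.hom.app (op U)).hom ((B.str.app (op U)).hom a) = (B'.str.app (op U)).hom a :=
  congrArg (fun χ => (χ.app (op U)).hom a) ψ.comm

include hAE hAF hA hψE hψF in
/-- **over an affine open, `Sym(E ⊕ F)` is the pushout of `Sym E` and `Sym F`** -/
theorem isPushout_sec (U : S.Opens) (hU : IsAffineOpen U) :
    IsPushout (AE.str.app (op U)) (AF.str.app (op U)) (ψE.hom.app (op U)) (ψF.hom.app (op U)) := by
  have w : AE.str.app (op U) ≫ ψE.hom.app (op U) = AF.str.app (op U) ≫ ψF.hom.app (op U) := by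
    have h1 := NatTrans.congr_app ψE.comm (op U)
    have h2 := NatTrans.congr_app ψF.comm (op U)
    exact h1.trans h2.symm
  have hdesc : ∀ s : PushoutCocone (AE.str.app (op U)) (AF.str.app (op U)),
      ∃ G : (A.presheaf.obj (op U)) →+* s.pt,
        (∀ a : Γ(S, U), G ((A.str.app (op U)).hom a) = s.inl.hom ((AE.str.app (op U)).hom a)) ∧
        ∀ x : Γ(E ⊞ F, U), G (asR A (j.app U x)) =
          s.inl.hom (asR AE (jE.app U ((biprod.fst : E ⊞ F ⟶ E).app U x))) +
            s.inr.hom (asR AF (jF.app U ((biprod.snd : E ⊞ F ⟶ F).app U x))) := by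
    intro s
    have hc : ∀ a : Γ(S, U), s.inr.hom ((AF.str.app (op U)).hom a) = s.inl.hom ((AE.str.app (op U)).hom a) :=
      fun a => (congrArg (fun χ => χ.hom a) s.condition).symm
    refine exists_ringHom_sec hA U hU (C := s.pt) (s.inl.hom.comp (AE.str.app (op U)).hom)
      { toFun := fun x => s.inl.hom (asR AE (jE.app U ((biprod.fst : E ⊞ F ⟶ E).app U x))) +
          s.inr.hom (asR AF (jF.app U ((biprod.snd : E ⊞ F ⟶ F).app U x)))
        map_zero' := by
          simp only [map_zero]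
          rw [show asR AE (0 : Γ(AE.toModule, U)) = 0 from rfl, show asR AF (0 : Γ(AF.toModule, U)) = 0 from rfl,
            map_zero, map_zero, add_zero]
        map_add' := fun x y => by
          simp only [map_add]
          rw [show asR AE (jE.app U ((biprod.fst : E ⊞ F ⟶ E).app U x) + jE.app U ((biprod.fst : E ⊞ F ⟶ E).app U y)) =
              asR AE (jE.app U ((biprod.fst : E ⊞ F ⟶ E).app U x)) + asR AE (jE.app U ((biprod.fst : E ⊞ F ⟶ E).app U y)) from rfl,
            show asR AF (jF.app U ((biprod.snd : E ⊞ F ⟶ F).app U x) + jF.app U ((biprod.snd : E ⊞ F ⟶ F).app U y)) =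
              asR AF (jF.app U ((biprod.snd : E ⊞ F ⟶ F).app U x)) + asR AF (jF.app U ((biprod.snd : E ⊞ F ⟶ F).app U y)) from rfl,
            map_add, map_add]
          abel } ?_
    intro a x
    show s.inl.hom (asR AE (jE.app U ((biprod.fst : E ⊞ F ⟶ E).app U (a • x)))) +
        s.inr.hom (asR AF (jF.app U ((biprod.snd : E ⊞ F ⟶ F).app U (a • x)))) =
      s.inl.hom ((AE.str.app (op U)).hom a) *
        (s.inl.hom (asR AE (jE.app U ((biprod.fst : E ⊞ F ⟶ E).app U x))) +
          s.inr.hom (asR AF (jF.app U ((biprod.snd : E ⊞ F ⟶ F).app U x))))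
    rw [Scheme.Modules.Hom.app_smul, Scheme.Modules.Hom.app_smul, Scheme.Modules.Hom.app_smul,
      Scheme.Modules.Hom.app_smul, smul_sec, smul_sec, map_mul, map_mul, hc, mul_add]
  choose G hG1 hG2 using hdesc
  refine ⟨⟨w⟩, ⟨PushoutCocone.IsColimit.mk _ (fun s => CommRingCat.ofHom (G s)) (fun s => ?_) (fun s => ?_)
    (fun s m h1 h2 => ?_)⟩⟩
  · apply CommRingCat.hom_ext
    refine ringHom_ext_sec hAE U hU _ _ (fun a => ?_) (fun m => ?_)
    · show G s ((ψE.hom.app (op U)).hom ((AE.str.app (op U)).hom a)) = _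
      rw [psi_str, hG1]
    · show G s ((ψE.hom.app (op U)).hom (asR AE (jE.app U m))) = _
      rw [psiE_j ψE hψE, hG2, biprod_inl_fst, biprod_inl_snd, map_zero]
      rw [show asR AF (0 : Γ(AF.toModule, U)) = 0 from rfl, map_zero, add_zero]
  · apply CommRingCat.hom_ext
    refine ringHom_ext_sec hAF U hU _ _ (fun a => ?_) (fun m => ?_)
    · show G s ((ψF.hom.app (op U)).hom ((AF.str.app (op U)).hom a)) = _
      rw [psi_str, hG1]
      exact congrArg (fun χ => χ.hom a) s.condition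
    · show G s ((ψF.hom.app (op U)).hom (asR AF (jF.app U m))) = _
      rw [psiF_j ψF hψF, hG2, biprod_inr_fst, biprod_inr_snd, map_zero]
      rw [show asR AE (0 : Γ(AE.toModule, U)) = 0 from rfl, map_zero, zero_add]
  · apply CommRingCat.hom_ext
    refine ringHom_ext_sec hA U hU _ _ (fun a => ?_) (fun x => ?_)
    · show m.hom ((A.str.app (op U)).hom a) = G s ((A.str.app (op U)).hom a)
      rw [hG1, ← psi_str ψE U a]
      exact congrArg (fun χ => χ.hom ((AE.str.app (op U)).hom a)) h1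
    · show m.hom (asR A (j.app U x)) = G s (asR A (j.app U x))
      rw [hG2]
      conv_lhs => rw [biprod_decomp E F U x]
      rw [map_add]
      rw [show asR A (j.app U ((biprod.inl : E ⟶ E ⊞ F).app U ((biprod.fst : E ⊞ F ⟶ E).app U x)) +
          j.app U ((biprod.inr : F ⟶ E ⊞ F).app U ((biprod.snd : E ⊞ F ⟶ F).app U x))) =
          asR A (j.app U ((biprod.inl : E ⟶ E ⊞ F).app U ((biprod.fst : E ⊞ F ⟶ E).app U x))) +
          asR A (j.app U ((biprod.inr : F ⟶ E ⊞ F).app U ((biprod.snd : E ⊞ F ⟶ F).app U x))) from rfl,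
        map_add, ← psiE_j ψE hψE, ← psiF_j ψF hψF]
      congr 1
      · exact congrArg (fun χ => χ.hom (asR AE (jE.app U ((biprod.fst : E ⊞ F ⟶ E).app U x)))) h1
      · exact congrArg (fun χ => χ.hom (asR AF (jF.app U ((biprod.snd : E ⊞ F ⟶ F).app U x)))) h2

include hAE hAF hA hψE hψF in
/-- **`V(E ⊕ F) = V(E) ×_S V(F)`** -/
theorem isPullback_biprod :
    IsPullback (RelSpec.QCAlg.specMap ψE) (RelSpec.QCAlg.specMap ψF) AE.π AF.π := by
  refine Scheme.isPullback_of_openCover _ _ _ _ AE.glueData.cover (fun i => ?_)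
  obtain ⟨U, hU⟩ := i
  have P1 := RelSpecCover.isPullback_specMap ψE U hU
  have L := isPullback_SpecMap_of_isPushout _ _ _ _ (isPushout_sec hAE hAF hA ψE ψF hψE hψF U hU)
  have R := (RelSpecCover.isPullback_chart AF U hU).flip
  have P2 := L.paste_vert R
  refine IsPullback.of_iso P2 P1.isoPullback (Iso.refl _) (Iso.refl _) (Iso.refl _) ?_ ?_ ?_ ?_
  · exact (Category.comp_id _).trans P1.isoPullback_hom_snd.symm
  · have h1 : P1.isoPullback.hom ≫ pullback.fst (RelSpec.QCAlg.specMap ψE) (AE.ι U hU) = A.ι U hU :=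
      P1.isoPullback_hom_fst
    refine (Category.comp_id _).trans ?_
    show _ = P1.isoPullback.hom ≫ (pullback.fst (RelSpec.QCAlg.specMap ψE) (AE.ι U hU) ≫ RelSpec.QCAlg.specMap ψF)
    refine Eq.trans ?_ (Category.assoc _ _ _)
    refine Eq.trans ?_ (congrArg (fun z => z ≫ RelSpec.QCAlg.specMap ψF) h1.symm)
    exact (RelSpec.QCAlg.ι_specMap U hU ψF).symm
  · exact (Category.comp_id _).trans ((AE.ι_π U hU).symm.trans (Category.id_comp _).symm)
  · exact (Category.comp_id _).trans (Category.id_comp _).symm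

end Groth.Agent.Lib.Helper28.SymAlg
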