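import Groth.Agent.Lib.Helper28.SymAlgCrit
import Groth.Agent.Lib.Helper28.SymAlgSum
import Groth.Agent.Lib.Helper17.Serre

set_option autoImplicit false
universe u
open CategoryTheory CategoryTheory.Limits AlgebraicGeometry Opposite TopologicalSpace
noncomputable section

namespace Groth.Agent.Lib.Helper28.SymAlg

open Groth.Agent.Lib.Helper28 Groth.Agent.Lib.Helper28.QCohLoc Groth.Agent.Lib.Helper28.TraceAlg

attribute [local instance] algAt

variable {Y : Scheme.{u}} {E : Y.Modules} [E.IsQuasicoherent]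
    {𝒮 𝒮h : RelProj.QCGrAlg Y} {j : E ⟶ 𝒮.toModule} (hS : RelProj.IsGrSymAlg E 𝒮 j)
    {ι : 𝒮.toQCAlg ⟶ 𝒮h.toQCAlg} {z : 𝒮h.presheaf.obj (op ⊤)} (hz : RelCone.IsPolyOver 𝒮 𝒮h ι z)
    {k : Coh.structureModule Y ⟶ 𝒮h.toModule}
    (hk : ∀ U : Y.Opens, (k.app U) (1 : Γ(Y, U)) = RelCone.restrictTop 𝒮h z U)

/-- the map `E ⊕ O ⟶ 𝒮[z]` -/
abbrev jjMap (j : E ⟶ 𝒮.toModule) (ι : 𝒮.toQCAlg ⟶ 𝒮h.toQCAlg) (k : Coh.structureModule Y ⟶ 𝒮h.toModule) :
    E ⊞ Coh.structureModule Y ⟶ 𝒮h.toModule :=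
  biprod.desc (j ≫ RelSpec.QCAlg.Hom.toModuleMap ι) k

theorem jj_inl (U : Y.Opens) (a : Γ(E, U)) :
    asR 𝒮h.toQCAlg ((jjMap j ι k).app U ((biprod.inl : E ⟶ E ⊞ Coh.structureModule Y).app U a)) =
      (ι.hom.app (op U)).hom (asR 𝒮.toQCAlg (j.app U a)) := by
  have h := congrArg (fun χ : E ⟶ 𝒮h.toModule => χ.app U a)
    (biprod.inl_desc (j ≫ RelSpec.QCAlg.Hom.toModuleMap ι) k)
  exact h

theorem jj_inr (U : Y.Opens) (b : Γ(Coh.structureModule Y, U)) :
    (jjMap j ι k).app U ((biprod.inr : Coh.structureModule Y ⟶ E ⊞ Coh.structureModule Y).app U b) = k.app U b := by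
  have h := congrArg (fun χ : Coh.structureModule Y ⟶ 𝒮h.toModule => χ.app U b)
    (biprod.inr_desc (j ≫ RelSpec.QCAlg.Hom.toModuleMap ι) k)
  exact h

theorem smul_one_str (U : Y.Opens) (b : Γ(Y, U)) :
    (b • (show Γ(Coh.structureModule Y, U) from (1 : Γ(Y, U))) : Γ(Coh.structureModule Y, U)) = b :=
  mul_one b

include hk in
theorem k_app (U : Y.Opens) (b : Γ(Y, U)) :
    asR 𝒮h.toQCAlg (k.app U (show Γ(Coh.structureModule Y, U) from b)) =
      (𝒮h.str.app (op U)).hom b * RelCone.restrictTop 𝒮h z U := by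
  have h1 : k.app U (show Γ(Coh.structureModule Y, U) from b) =
      (b • k.app U (show Γ(Coh.structureModule Y, U) from (1 : Γ(Y, U))) : Γ(𝒮h.toModule, U)) := by
    rw [← Scheme.Modules.Hom.app_smul, smul_one_str]
  rw [h1, smul_sec]
  exact congrArg (fun w => (𝒮h.str.app (op U)).hom b * w) (hk U)

include hk in
theorem jj_apply (U : Y.Opens) (x : Γ(E ⊞ Coh.structureModule Y, U)) :
    asR 𝒮h.toQCAlg ((jjMap j ι k).app U x) =
      (ι.hom.app (op U)).hom (asR 𝒮.toQCAlg (j.app U ((biprod.fst : E ⊞ Coh.structureModule Y ⟶ E).app U x))) +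
        (𝒮h.str.app (op U)).hom
          (show Γ(Y, U) from (biprod.snd : E ⊞ Coh.structureModule Y ⟶ Coh.structureModule Y).app U x) *
          RelCone.restrictTop 𝒮h z U := by
  conv_lhs => rw [biprod_decomp E (Coh.structureModule Y) U x]
  rw [map_add]
  have h1 := jj_inl (j := j) (ι := ι) (k := k) U ((biprod.fst : E ⊞ Coh.structureModule Y ⟶ E).app U x)
  have h2 := jj_inr (j := j) (ι := ι) (k := k) U
    ((biprod.snd : E ⊞ Coh.structureModule Y ⟶ Coh.structureModule Y).app U x)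
  have h3 := k_app hk U
    (show Γ(Y, U) from (biprod.snd : E ⊞ Coh.structureModule Y ⟶ Coh.structureModule Y).app U x)
  show asR 𝒮h.toQCAlg ((jjMap j ι k).app U ((biprod.inl : E ⟶ E ⊞ Coh.structureModule Y).app U _)) +
    asR 𝒮h.toQCAlg ((jjMap j ι k).app U
      ((biprod.inr : Coh.structureModule Y ⟶ E ⊞ Coh.structureModule Y).app U _)) = _
  rw [h1, h2]
  exact congrArg (fun w => _ + w) h3

include hS hz hk in
/-- over an affine open, `𝒮[z]` is the symmetric algebra of the sections of `E ⊕ O` -/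
theorem liftU_poly_bijective (U : Y.Opens) (hU : IsAffineOpen U) :
    Function.Bijective (liftU 𝒮h.toQCAlg (jjMap j ι k) U) := by
  have hq : (Coh.structureModule Y).IsQuasicoherent := StMod.isQCoh_structureModule Y
  -- the map `𝒮(U) → Sym(M)`
  let lamE : Γ(E, U) →+ SymmetricAlgebra Γ(Y, U) Γ(E ⊞ Coh.structureModule Y, U) :=
    { toFun := fun m => SymmetricAlgebra.ι Γ(Y, U) Γ(E ⊞ Coh.structureModule Y, U)
        ((biprod.inl : E ⟶ E ⊞ Coh.structureModule Y).app U m)
      map_zero' := by rw [map_zero, map_zero]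
      map_add' := fun x y => by rw [map_add, map_add] }
  have hlamE : ∀ (a : Γ(Y, U)) (m : Γ(E, U)), lamE (a • m) =
      algebraMap Γ(Y, U) (SymmetricAlgebra Γ(Y, U) Γ(E ⊞ Coh.structureModule Y, U)) a * lamE m := by
    intro a m
    show SymmetricAlgebra.ι Γ(Y, U) Γ(E ⊞ Coh.structureModule Y, U)
      ((biprod.inl : E ⟶ E ⊞ Coh.structureModule Y).app U (a • m)) = _
    rw [Scheme.Modules.Hom.app_smul, map_smul, Algebra.smul_def]
    rfl
  obtain ⟨g₀, hg1, hg2⟩ := exists_ringHom_sec hS.1 U hU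
    (algebraMap Γ(Y, U) (SymmetricAlgebra Γ(Y, U) Γ(E ⊞ Coh.structureModule Y, U))) lamE hlamE
  let w : SymmetricAlgebra Γ(Y, U) Γ(E ⊞ Coh.structureModule Y, U) :=
    SymmetricAlgebra.ι Γ(Y, U) Γ(E ⊞ Coh.structureModule Y, U)
      ((biprod.inr : Coh.structureModule Y ⟶ E ⊞ Coh.structureModule Y).app U
        (show Γ(Coh.structureModule Y, U) from (1 : Γ(Y, U))))
  let G : 𝒮h.presheaf.obj (op U) →+* SymmetricAlgebra Γ(Y, U) Γ(E ⊞ Coh.structureModule Y, U) :=
    (Polynomial.eval₂RingHom g₀ w).comp (hz.polyEquiv U hU).symm.toRingHom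
  have hGι : ∀ s : 𝒮.presheaf.obj (op U), G ((ι.hom.app (op U)).hom s) = g₀ s := by
    intro s
    have e : hz.polyEquiv U hU (Polynomial.C s) = (ι.hom.app (op U)).hom s := by
      rw [RelCone.IsPolyOver.polyEquiv_apply, Polynomial.eval₂_C]
    show Polynomial.eval₂ g₀ w ((hz.polyEquiv U hU).symm ((ι.hom.app (op U)).hom s)) = g₀ s
    rw [← e, RingEquiv.symm_apply_apply, Polynomial.eval₂_C]
  have hGz : G (RelCone.restrictTop 𝒮h z U) = w := by
    have e : hz.polyEquiv U hU Polynomial.X = RelCone.restrictTop 𝒮h z U := by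
      rw [RelCone.IsPolyOver.polyEquiv_apply, Polynomial.eval₂_X]
    show Polynomial.eval₂ g₀ w ((hz.polyEquiv U hU).symm (RelCone.restrictTop 𝒮h z U)) = w
    rw [← e, RingEquiv.symm_apply_apply, Polynomial.eval₂_X]
  have hstr : ∀ a : Γ(Y, U), (𝒮h.str.app (op U)).hom a = (ι.hom.app (op U)).hom ((𝒮.str.app (op U)).hom a) :=
    fun a => (psi_str ι U a).symm
  -- `G ∘ liftU = id`
  have hleft : ∀ t, G (liftU 𝒮h.toQCAlg (jjMap j ι k) U t) = t := by
    have key : G.comp (liftU 𝒮h.toQCAlg (jjMap j ι k) U).toRingHom = RingHom.id _ := by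
      apply ringHom_ext
      · intro a
        show G (liftU 𝒮h.toQCAlg (jjMap j ι k) U _) = _
        rw [liftU_algebraMap]
        show G ((𝒮h.str.app (op U)).hom a) = _
        rw [hstr, hGι, hg1]
        rfl
      · intro m
        show G (liftU 𝒮h.toQCAlg (jjMap j ι k) U _) = SymmetricAlgebra.ι _ _ m
        rw [liftU_ι, jj_apply hk, map_add, map_mul, hGι, hGz, hstr, hGι, hg1, hg2]
        show SymmetricAlgebra.ι Γ(Y, U) Γ(E ⊞ Coh.structureModule Y, U)
            ((biprod.inl : E ⟶ E ⊞ Coh.structureModule Y).app U _) +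
          algebraMap Γ(Y, U) _ _ * SymmetricAlgebra.ι Γ(Y, U) Γ(E ⊞ Coh.structureModule Y, U) _ = _
        rw [← Algebra.smul_def, ← map_smul, ← Scheme.Modules.Hom.app_smul, smul_one_str, ← map_add]
        exact congrArg _ (biprod_decomp E (Coh.structureModule Y) U m).symm
    intro t
    exact RingHom.congr_fun key t
  -- `liftU ∘ G = id`
  have hright : ∀ y, liftU 𝒮h.toQCAlg (jjMap j ι k) U (G y) = y := by
    have hC : ∀ s : 𝒮.presheaf.obj (op U), liftU 𝒮h.toQCAlg (jjMap j ι k) U (g₀ s) = (ι.hom.app (op U)).hom s := by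
      have key : (liftU 𝒮h.toQCAlg (jjMap j ι k) U).toRingHom.comp g₀ = (ι.hom.app (op U)).hom := by
        refine ringHom_ext_sec hS.1 U hU _ _ (fun a => ?_) (fun m => ?_)
        · show liftU 𝒮h.toQCAlg (jjMap j ι k) U (g₀ _) = _
          rw [hg1, liftU_algebraMap]
          exact hstr a
        · show liftU 𝒮h.toQCAlg (jjMap j ι k) U (g₀ _) = _
          rw [hg2]
          show liftU 𝒮h.toQCAlg (jjMap j ι k) U (SymmetricAlgebra.ι _ _ _) = _
          rw [liftU_ι]
          exact jj_inl U m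
      intro s
      exact RingHom.congr_fun key s
    have key : ((liftU 𝒮h.toQCAlg (jjMap j ι k) U).toRingHom.comp (Polynomial.eval₂RingHom g₀ w)) =
        (hz.polyEquiv U hU).toRingHom := by
      apply Polynomial.ringHom_ext
      · intro s
        show liftU 𝒮h.toQCAlg (jjMap j ι k) U (Polynomial.eval₂ g₀ w (Polynomial.C s)) =
          hz.polyEquiv U hU (Polynomial.C s)
        rw [Polynomial.eval₂_C, hC, RelCone.IsPolyOver.polyEquiv_apply, Polynomial.eval₂_C]
      · show liftU 𝒮h.toQCAlg (jjMap j ι k) U (Polynomial.eval₂ g₀ w Polynomial.X) =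
          hz.polyEquiv U hU Polynomial.X
        rw [Polynomial.eval₂_X, RelCone.IsPolyOver.polyEquiv_apply, Polynomial.eval₂_X]
        show liftU 𝒮h.toQCAlg (jjMap j ι k) U (SymmetricAlgebra.ι _ _ _) = _
        rw [liftU_ι, jj_inr]
        exact hk U
    intro y
    have h1 := RingHom.congr_fun key ((hz.polyEquiv U hU).symm y)
    have h2 : (hz.polyEquiv U hU).toRingHom ((hz.polyEquiv U hU).symm y) = y := RingEquiv.apply_symm_apply _ y
    exact h1.trans h2
  exact Function.bijective_iff_has_inverse.2 ⟨G, hleft, hright⟩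

include hS hz hk in
/-- **`𝒮[z]` is the graded symmetric algebra of `E ⊕ O`** -/
theorem isGrSymAlg_poly :
    RelProj.IsGrSymAlg (E ⊞ Coh.structureModule Y) 𝒮h (jjMap j ι k) := by
  have hq : (Coh.structureModule Y).IsQuasicoherent := StMod.isQCoh_structureModule Y
  refine ⟨isSymAlg_of_liftU_bijective 𝒮h.toQCAlg (jjMap j ι k) (fun U hU => liftU_poly_bijective hS hz hk U hU),
    fun U hU x => ?_⟩
  have h := jj_apply (j := j) (ι := ι) hk U x
  show asR 𝒮h.toQCAlg ((jjMap j ι k).app U x) ∈ 𝒮h.deg U hU 1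
  rw [h]
  refine AddSubgroup.add_mem _ (hz.graded U hU 1 _ (hS.2 U hU _)) ?_
  have h0 := 𝒮h.str_mem U hU
    (show Γ(Y, U) from (biprod.snd : E ⊞ Coh.structureModule Y ⟶ Coh.structureModule Y).app U x)
  have h1 := hz.deg_z U hU
  have h2 := SetLike.mul_mem_graded h0 h1
  rw [zero_add] at h2
  exact h2

end Groth.Agent.Lib.Helper28.SymAlg
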