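import Groth.Agent.Lib.Helper28.SymAlgRing
import Groth.Agent.Lib.Helper28.QCohConv
import Groth.Prelude.Def_RelSpec

/-!
# The presheaf `W ↦ Sym_{O(W)} E(W)` and its localization property over affine opens
-/

set_option autoImplicit false
universe u
open CategoryTheory CategoryTheory.Limits AlgebraicGeometry Opposite TopologicalSpace
noncomputable section

namespace Groth.Agent.Lib.Helper28.SymAlg

open Groth.Agent.Lib.Helper28 Groth.Agent.Lib.Helper28.QCohLoc

variable {S : Scheme.{u}} (E : S.Modules)

/-- restriction of sections as a semilinear map -/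
def resSL {U V : S.Opens} (h : V ≤ U) :
    Γ(E, U) →ₛₗ[(S.presheaf.map (homOfLE h).op).hom] Γ(E, V) where
  toFun := res E h
  map_add' := fun x y => map_add _ x y
  map_smul' := fun a x => res_smul E h a x

/-- `Sym_{O(W)} E(W)` -/
abbrev symObj (W : S.Opens) : CommRingCat.{u} := CommRingCat.of (SymmetricAlgebra Γ(S, W) Γ(E, W))

/-- the restriction maps of `W ↦ Sym_{O(W)} E(W)` -/
def symRes {U V : S.Opens} (h : V ≤ U) : symObj E U ⟶ symObj E V :=
  CommRingCat.ofHom (symMap (S.presheaf.map (homOfLE h).op).hom (resSL E h))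

theorem symRes_ι {U V : S.Opens} (h : V ≤ U) (m : Γ(E, U)) :
    (symRes E h).hom (SymmetricAlgebra.ι Γ(S, U) Γ(E, U) m) = SymmetricAlgebra.ι Γ(S, V) Γ(E, V) (res E h m) :=
  symMap_ι _ _ m

theorem symRes_algebraMap {U V : S.Opens} (h : V ≤ U) (a : Γ(S, U)) :
    (symRes E h).hom (algebraMap Γ(S, U) (SymmetricAlgebra Γ(S, U) Γ(E, U)) a) =
      algebraMap Γ(S, V) (SymmetricAlgebra Γ(S, V) Γ(E, V)) (resO h a) :=
  symMap_algebraMap _ _ a

theorem symRes_self (U : S.Opens) : symRes E (le_refl U) = 𝟙 (symObj E U) := by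
  apply CommRingCat.hom_ext
  apply ringHom_ext
  · intro a
    rw [symRes_algebraMap]
    have : resO (le_refl U) a = a := by
      unfold resO
      have h1 : (homOfLE (le_refl U)).op = 𝟙 (op U) := rfl
      rw [h1, S.presheaf.map_id]
      rfl
    rw [this]
    rfl
  · intro m
    rw [symRes_ι, res_self]
    rfl

theorem symRes_comp {U V W : S.Opens} (h : V ≤ U) (h' : W ≤ V) :
    symRes E h ≫ symRes E h' = symRes E (h'.trans h) := by
  apply CommRingCat.hom_ext
  apply ringHom_ext
  · intro a
    show (symRes E h').hom ((symRes E h).hom _) = _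
    rw [symRes_algebraMap, symRes_algebraMap, symRes_algebraMap, resO_resO]
  · intro m
    show (symRes E h').hom ((symRes E h).hom _) = _
    rw [symRes_ι, symRes_ι, symRes_ι, res_res]

/-- the presheaf `W ↦ Sym_{O(W)} E(W)` -/
def symPre : S.Opensᵒᵖ ⥤ CommRingCat.{u} where
  obj W := symObj E W.unop
  map i := symRes E (leOfHom i.unop)
  map_id W := symRes_self E W.unop
  map_comp i i' := (symRes_comp E (leOfHom i.unop) (leOfHom i'.unop)).symm

/-- the structure map `O ⟶ Sym E` -/
def symStr : S.presheaf ⟶ symPre E where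
  app W := CommRingCat.ofHom (algebraMap Γ(S, W.unop) (SymmetricAlgebra Γ(S, W.unop) Γ(E, W.unop)))
  naturality {W W'} i := by
    apply CommRingCat.hom_ext
    refine RingHom.ext fun a => ?_
    exact (symRes_algebraMap E (leOfHom i.unop) a).symm

/-- **the presheaf `Sym E` is quasi-coherent on affine opens**, for `E` quasi-coherent -/
theorem isQC_symPre (hE : ∀ U : S.Opens, IsAffineOpen U → IsLocOn E U) :
    RelSpec.IsQC (symPre E) (symStr E) := by
  intro U hU r
  have hloc := hU.isLocalization_basicOpen r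
  have h := isLocalization_away_symMap r (S.presheaf.map (homOfLE (S.basicOpen_le r)).op).hom
    (resSL E (S.basicOpen_le r)) hloc
    (fun m' => (hE U hU).surj r m') (fun m hm => (hE U hU).inj r m hm)
  exact h

theorem isQC_symPre_of_isQuasicoherent [E.IsQuasicoherent] : RelSpec.IsQC (symPre E) (symStr E) :=
  isQC_symPre E fun _ hU => isLocOn_of_isQuasicoherent E hU

end Groth.Agent.Lib.Helper28.SymAlg
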