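import Groth.Agent.Lib.Helper28.SymAlgCrit
import Groth.Agent.Lib.Helper28.SymAlgBC
import Groth.Agent.Lib.Helper28.QCohPush

set_option autoImplicit false
universe u
open CategoryTheory CategoryTheory.Limits AlgebraicGeometry Opposite TopologicalSpace
noncomputable section

namespace Groth.Agent.Lib.Helper28.SymAlg

open Groth.Agent.Lib.Helper28 Groth.Agent.Lib.Helper28.QCohLoc Groth.Agent.Lib.Helper28.TraceAlg

attribute [local instance] algAt

section qhom

variable {Y Y' : Scheme.{u}} (ψ : Y' ⟶ Y) {E : Y.Modules} [E.IsQuasicoherent] {A : RelSpec.QCAlg Y}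
  {j : E ⟶ A.toModule} (hA : RelSpec.IsSymAlg E A j) (B : RelSpec.QCAlg Y')
  (φ : E ⟶ (Scheme.Modules.pushforward ψ).obj B.toModule)

/-- the value of `φ` as an element of the ring of sections of `B` -/
abbrev phiR (U : Y.Opens) (m : Γ(E, U)) : B.presheaf.obj (op (ψ ⁻¹ᵁ U)) :=
  asR B (show Γ(B.toModule, ψ ⁻¹ᵁ U) from φ.app U m)

theorem phiR_add (U : Y.Opens) (m m' : Γ(E, U)) : phiR ψ B φ U (m + m') = phiR ψ B φ U m + phiR ψ B φ U m' := by
  show asR B (show Γ(B.toModule, ψ ⁻¹ᵁ U) from φ.app U (m + m')) = _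
  rw [map_add]
  rfl

theorem phiR_zero (U : Y.Opens) : phiR ψ B φ U 0 = 0 := by
  show asR B (show Γ(B.toModule, ψ ⁻¹ᵁ U) from φ.app U 0) = _
  rw [map_zero]
  rfl

theorem phiR_smul (U : Y.Opens) (a : Γ(Y, U)) (m : Γ(E, U)) :
    phiR ψ B φ U (a • m) = (B.str.app (op (ψ ⁻¹ᵁ U))).hom ((ψ.app U).hom a) * phiR ψ B φ U m := by
  show asR B (show Γ(B.toModule, ψ ⁻¹ᵁ U) from φ.app U (a • m)) = _
  rw [Scheme.Modules.Hom.app_smul]
  rfl

theorem phiR_res {U V : Y.Opens} (h : V ≤ U) (m : Γ(E, U)) :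
    phiR ψ B φ V (res E h m) = (B.presheaf.map (homOfLE (ψ.preimage_mono h)).op).hom (phiR ψ B φ U m) := by
  show asR B (show Γ(B.toModule, ψ ⁻¹ᵁ V) from φ.app V (res E h m)) = _
  rw [app_res]
  rfl

/-- the additive map `m ↦ φ(m)` -/
def lamU (U : Y.Opens) : Γ(E, U) →+ B.presheaf.obj (op (ψ ⁻¹ᵁ U)) where
  toFun := phiR ψ B φ U
  map_zero' := phiR_zero ψ B φ U
  map_add' := phiR_add ψ B φ U

/-- the structure map `O_Y(U) → B(ψ⁻¹ U)` -/
def sigU (U : Y.Opens) : Γ(Y, U) →+* B.presheaf.obj (op (ψ ⁻¹ᵁ U)) :=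
  (B.str.app (op (ψ ⁻¹ᵁ U))).hom.comp (ψ.app U).hom

include hA in
theorem exists_uAff (U : Y.Opens) (hU : IsAffineOpen U) :
    ∃ F : (A.presheaf.obj (op U)) →+* B.presheaf.obj (op (ψ ⁻¹ᵁ U)),
      (∀ a : Γ(Y, U), F ((A.str.app (op U)).hom a) = sigU ψ B U a) ∧
      ∀ m : Γ(E, U), F (asR A (j.app U m)) = phiR ψ B φ U m :=
  exists_ringHom_sec hA U hU (sigU ψ B U) (lamU ψ B φ U) (fun a m => phiR_smul ψ B φ U a m)

/-- the ring homomorphism over an affine open -/
def uAff (U : Y.Opens) (hU : IsAffineOpen U) : (A.presheaf.obj (op U)) →+* B.presheaf.obj (op (ψ ⁻¹ᵁ U)) :=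
  Classical.choose (exists_uAff ψ hA B φ U hU)

theorem uAff_str (U : Y.Opens) (hU : IsAffineOpen U) (a : Γ(Y, U)) :
    uAff ψ hA B φ U hU ((A.str.app (op U)).hom a) = (B.str.app (op (ψ ⁻¹ᵁ U))).hom ((ψ.app U).hom a) :=
  (Classical.choose_spec (exists_uAff ψ hA B φ U hU)).1 a

theorem uAff_j (U : Y.Opens) (hU : IsAffineOpen U) (m : Γ(E, U)) :
    uAff ψ hA B φ U hU (asR A (j.app U m)) = phiR ψ B φ U m :=
  (Classical.choose_spec (exists_uAff ψ hA B φ U hU)).2 m

theorem uAff_res {U V : Y.Opens} (hU : IsAffineOpen U) (hV : IsAffineOpen V) (h : V ≤ U)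
    (x : A.presheaf.obj (op U)) :
    uAff ψ hA B φ V hV ((A.presheaf.map (homOfLE h).op).hom x) =
      (B.presheaf.map (homOfLE (ψ.preimage_mono h)).op).hom (uAff ψ hA B φ U hU x) := by
  have key : (uAff ψ hA B φ V hV).comp (A.presheaf.map (homOfLE h).op).hom =
      (B.presheaf.map (homOfLE (ψ.preimage_mono h)).op).hom.comp (uAff ψ hA B φ U hU) := by
    refine ringHom_ext_sec hA U hU _ _ (fun a => ?_) (fun m => ?_)
    · show uAff ψ hA B φ V hV ((A.presheaf.map (homOfLE h).op).hom ((A.str.app (op U)).hom a)) =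
        (B.presheaf.map (homOfLE (ψ.preimage_mono h)).op).hom (uAff ψ hA B φ U hU ((A.str.app (op U)).hom a))
      rw [← str_res, uAff_str, uAff_str, ← str_res]
      exact congrArg (fun w => (B.str.app (op (ψ ⁻¹ᵁ V))).hom w) (app_resO ψ h a)
    · show uAff ψ hA B φ V hV ((A.presheaf.map (homOfLE h).op).hom (asR A (j.app U m))) =
        (B.presheaf.map (homOfLE (ψ.preimage_mono h)).op).hom (uAff ψ hA B φ U hU (asR A (j.app U m)))
      rw [uAff_j, ← phiR_res]
      have h1 : (A.presheaf.map (homOfLE h).op).hom (asR A (j.app U m)) = asR A (j.app V (res E h m)) := by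
        rw [app_res]
        rfl
      rw [h1, uAff_j]
  exact RingHom.congr_fun key x

/-- the pushforward sheaf of rings `ψ_* B` -/
def pushSheaf : TopCat.Sheaf CommRingCat.{u} Y.carrier :=
  ⟨ψ.base _* B.presheaf, TopCat.Sheaf.pushforward_sheaf_of_sheaf _ B.isSheaf⟩

/-- the map on the affine opens -/
def uRestrict : (Scheme.AffineZariskiSite.toOpensFunctor Y).op ⋙ A.presheaf ⟶
    (Scheme.AffineZariskiSite.toOpensFunctor Y).op ⋙ (ψ.base _* B.presheaf) where
  app U := CommRingCat.ofHom (uAff ψ hA B φ U.unop.1 U.unop.2)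
  naturality U V i := by
    apply CommRingCat.hom_ext
    refine RingHom.ext fun x => ?_
    exact uAff_res ψ hA B φ U.unop.2 V.unop.2 (Scheme.AffineZariskiSite.toOpens_mono i.unop.le) x

/-- the map of presheaves of rings `A ⟶ ψ_* B` -/
def uMap : A.presheaf ⟶ ψ.base _* B.presheaf :=
  Functor.IsCoverDense.restrictHomEquivHom (G := Scheme.AffineZariskiSite.toOpensFunctor Y)
    (K := Opens.grothendieckTopology Y) (ℱ := A.presheaf) (ℱ' := pushSheaf ψ B) (uRestrict ψ hA B φ)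

theorem uMap_restrict :
    (Scheme.AffineZariskiSite.toOpensFunctor Y).op.whiskerLeft (uMap ψ hA B φ) = uRestrict ψ hA B φ :=
  (Functor.IsCoverDense.restrictHomEquivHom (G := Scheme.AffineZariskiSite.toOpensFunctor Y)
    (K := Opens.grothendieckTopology Y) (ℱ := A.presheaf) (ℱ' := pushSheaf ψ B)).symm_apply_apply _

theorem uMap_app (U : Y.Opens) (hU : IsAffineOpen U) :
    (uMap ψ hA B φ).app (op U) = CommRingCat.ofHom (uAff ψ hA B φ U hU) :=
  NatTrans.congr_app (uMap_restrict ψ hA B φ) (op ⟨U, hU⟩)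

theorem str_uMap : A.str ≫ uMap ψ hA B φ =
    ψ.c ≫ (TopCat.Presheaf.pushforward _ ψ.base).map B.str := by
  apply (Functor.IsCoverDense.restrictHomEquivHom (G := Scheme.AffineZariskiSite.toOpensFunctor Y)
    (K := Opens.grothendieckTopology Y) (ℱ := Y.presheaf) (ℱ' := pushSheaf ψ B)).symm.injective
  ext U : 2
  change A.str.app (op U.unop.1) ≫ (uMap ψ hA B φ).app (op U.unop.1) =
    ψ.app U.unop.1 ≫ B.str.app (op (ψ ⁻¹ᵁ U.unop.1))
  rw [uMap_app ψ hA B φ U.unop.1 U.unop.2]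
  apply CommRingCat.hom_ext
  refine RingHom.ext fun a => ?_
  exact uAff_str ψ hA B φ U.unop.1 U.unop.2 a

/-- **the `ψ`-morphism of algebras `Sym(E) → B` extending `φ : E → ψ_* B`** -/
def symQHom : RelSpec.QHom ψ A B where
  app U := (uMap ψ hA B φ).app (op U)
  naturality {U V} i := ((uMap ψ hA B φ).naturality (homOfLE i).op).symm
  str_app U := NatTrans.congr_app (str_uMap ψ hA B φ) (op U)

theorem symQHom_j (U : Y.Opens) (hU : IsAffineOpen U) (m : Γ(E, U)) :
    ((symQHom ψ hA B φ).app U).hom (asR A (j.app U m)) = phiR ψ B φ U m := by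
  show ((uMap ψ hA B φ).app (op U)).hom (asR A (j.app U m)) = _
  rw [uMap_app ψ hA B φ U hU]
  exact uAff_j ψ hA B φ U hU m

end qhom

end Groth.Agent.Lib.Helper28.SymAlg
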