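import Mathlib

/-!
# Maps of symmetric algebras along ring homomorphisms, and localization
-/

set_option autoImplicit false

namespace Groth.Agent.Lib.Helper28.SymAlg

open SymmetricAlgebra

variable {R R' R'' : Type*} [CommRing R] [CommRing R'] [CommRing R'']
  {M M' M'' : Type*} [AddCommGroup M] [Module R M] [AddCommGroup M'] [Module R' M']
  [AddCommGroup M''] [Module R'' M'']

/-- ring homomorphisms out of a symmetric algebra are determined by the scalars and the generators -/
theorem ringHom_ext {T : Type*} [Semiring T] (F G : SymmetricAlgebra R M →+* T)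
    (h1 : ∀ a : R, F (algebraMap R _ a) = G (algebraMap R _ a))
    (h2 : ∀ m : M, F (ι R M m) = G (ι R M m)) : F = G := by
  refine RingHom.ext fun z => ?_
  induction z using SymmetricAlgebra.induction with
  | algebraMap r => exact h1 r
  | ι x => exact h2 x
  | mul a b ha hb => rw [map_mul, map_mul, ha, hb]
  | add a b ha hb => rw [map_add, map_add, ha, hb]

/-- the map of symmetric algebras induced by a semilinear map -/
noncomputable def symMap (ρ : R →+* R') (g : M →ₛₗ[ρ] M') : SymmetricAlgebra R M →+* SymmetricAlgebra R' M' :=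
  letI : Algebra R (SymmetricAlgebra R' M') := ((algebraMap R' (SymmetricAlgebra R' M')).comp ρ).toAlgebra
  (SymmetricAlgebra.lift (R := R) (M := M) (A := SymmetricAlgebra R' M')
    { toFun := fun m => ι R' M' (g m)
      map_add' := fun x y => by rw [map_add, map_add]
      map_smul' := fun a x => by
        rw [LinearMap.map_smulₛₗ, map_smul, RingHom.id_apply, Algebra.smul_def, Algebra.smul_def]
        rfl }).toRingHom

theorem symMap_ι (ρ : R →+* R') (g : M →ₛₗ[ρ] M') (m : M) : symMap ρ g (ι R M m) = ι R' M' (g m) := by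
  unfold symMap
  let : Algebra R (SymmetricAlgebra R' M') := ((algebraMap R' (SymmetricAlgebra R' M')).comp ρ).toAlgebra
  exact SymmetricAlgebra.lift_ι_apply _ m

theorem symMap_algebraMap (ρ : R →+* R') (g : M →ₛₗ[ρ] M') (a : R) :
    symMap ρ g (algebraMap R _ a) = algebraMap R' _ (ρ a) := by
  unfold symMap
  let : Algebra R (SymmetricAlgebra R' M') := ((algebraMap R' (SymmetricAlgebra R' M')).comp ρ).toAlgebra
  exact AlgHom.commutes _ a

theorem symMap_id : symMap (RingHom.id R) (LinearMap.id : M →ₗ[R] M) = RingHom.id _ := by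
  apply ringHom_ext
  · intro a
    rw [symMap_algebraMap]
    rfl
  · intro m
    rw [symMap_ι]
    rfl

theorem symMap_comp (ρ : R →+* R') (g : M →ₛₗ[ρ] M') (ρ' : R' →+* R'') (g' : M' →ₛₗ[ρ'] M'')
    (ρ'' : R →+* R'') [RingHomCompTriple ρ ρ' ρ''] :
    (symMap ρ' g').comp (symMap ρ g) = symMap ρ'' (g'.comp g) := by
  apply ringHom_ext
  · intro a
    rw [RingHom.comp_apply, symMap_algebraMap, symMap_algebraMap, symMap_algebraMap]
    congr 1
    exact RingHomCompTriple.comp_apply
  · intro m
    rw [RingHom.comp_apply, symMap_ι, symMap_ι, symMap_ι]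
    rfl

theorem isUnit_end {R : Type*} [CommRing R] (T : Type*) [CommRing T] [Algebra R T] (a : R)
    (ha : IsUnit (algebraMap R T a)) : IsUnit (algebraMap R (Module.End R T) a) := by
  rw [Module.End.isUnit_iff]
  obtain ⟨u, hu⟩ := ha
  constructor
  · intro x y hxy
    have h1 : algebraMap R T a * x = algebraMap R T a * y := by
      simpa [Algebra.smul_def] using hxy
    rw [← hu] at h1
    exact u.isUnit.mul_right_injective h1
  · intro y
    refine ⟨((u⁻¹ : Tˣ) : T) * y, ?_⟩
    show a • (((u⁻¹ : Tˣ) : T) * y) = y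
    rw [Algebra.smul_def, ← hu, ← mul_assoc, Units.mul_inv, one_mul]

section loc

variable {R R' : Type*} [CommRing R] [CommRing R'] {M M' : Type*} [AddCommGroup M] [Module R M]
  [AddCommGroup M'] [Module R' M']
  (r : R) [Algebra R R'] [IsLocalization.Away r R'] [Module R M'] [IsScalarTower R R' M']
  (g : M →ₗ[R] M') [IsLocalizedModule.Away r g]
  (φ : SymmetricAlgebra R M →+* SymmetricAlgebra R' M')
  (hφ1 : ∀ a : R, φ (algebraMap R _ a) = algebraMap R' _ (algebraMap R R' a))
  (hφ2 : ∀ m : M, φ (ι R M m) = ι R' M' (g m))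

/-- the localization of the symmetric algebra -/
abbrev Loc (r : R) (M : Type*) [AddCommGroup M] [Module R M] : Type _ :=
  Localization.Away (algebraMap R (SymmetricAlgebra R M) r)

theorem isUnit_r : IsUnit (algebraMap R (Loc r M) r) := by
  rw [IsScalarTower.algebraMap_apply R (SymmetricAlgebra R M) (Loc r M)]
  exact IsLocalization.Away.algebraMap_isUnit (algebraMap R (SymmetricAlgebra R M) r)

/-- `R' ⟶ Sym_R(M)_r` -/
noncomputable def toLoc : R' →+* Loc r M :=
  IsLocalization.Away.lift (S := R') r (g := algebraMap R (Loc r M)) (isUnit_r r)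

theorem toLoc_algebraMap (a : R) : toLoc (R' := R') (M := M) r (algebraMap R R' a) = algebraMap R (Loc r M) a :=
  IsLocalization.Away.lift_eq r (isUnit_r r) a

theorem isUnit_pow_end (x : Submonoid.powers r) : IsUnit (algebraMap R (Module.End R (Loc r M)) x) := by
  obtain ⟨_, n, rfl⟩ := x
  rw [map_pow]
  exact (isUnit_end (Loc r M) r (isUnit_r r)).pow n

/-- `M' ⟶ Sym_R(M)_r`, `R`-linear -/
noncomputable def toLocLin : M' →ₗ[R] Loc r M :=
  IsLocalizedModule.lift (Submonoid.powers r) g
    ((IsScalarTower.toAlgHom R (SymmetricAlgebra R M) (Loc r M)).toLinearMap ∘ₗ ι R M)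
    (isUnit_pow_end r)

theorem toLocLin_apply (m : M) :
    toLocLin r g (g m) = algebraMap (SymmetricAlgebra R M) (Loc r M) (ι R M m) := by
  unfold toLocLin
  rw [IsLocalizedModule.lift_apply]
  rfl

/-- `Sym_{R'}(M') ⟶ Sym_R(M)_r` -/
noncomputable def theta : SymmetricAlgebra R' M' →+* Loc r M :=
  letI : Algebra R' (Loc r M) := (toLoc (R' := R') (M := M) r).toAlgebra
  haveI : IsScalarTower R R' (Loc r M) := IsScalarTower.of_algebraMap_eq fun a =>
    (toLoc_algebraMap (R' := R') (M := M) r a).symm
  (SymmetricAlgebra.lift (R := R') (M := M') (A := Loc r M)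
    (LinearMap.extendScalarsOfIsLocalization (Submonoid.powers r) R' (toLocLin r g))).toRingHom

theorem theta_ι (m' : M') : theta r g (ι R' M' m') = toLocLin r g m' := by
  unfold theta
  let : Algebra R' (Loc r M) := (toLoc (R' := R') (M := M) r).toAlgebra
  have : IsScalarTower R R' (Loc r M) := IsScalarTower.of_algebraMap_eq fun a =>
    (toLoc_algebraMap (R' := R') (M := M) r a).symm
  exact SymmetricAlgebra.lift_ι_apply _ m'

theorem theta_algebraMap (a' : R') :
    theta r g (algebraMap R' (SymmetricAlgebra R' M') a') = toLoc (M := M) r a' := by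
  unfold theta
  let : Algebra R' (Loc r M) := (toLoc (R' := R') (M := M) r).toAlgebra
  have : IsScalarTower R R' (Loc r M) := IsScalarTower.of_algebraMap_eq fun a =>
    (toLoc_algebraMap (R' := R') (M := M) r a).symm
  exact AlgHom.commutes _ a'

include hφ1 hφ2 in
theorem theta_phi (z : SymmetricAlgebra R M) :
    theta r g (φ z) = algebraMap (SymmetricAlgebra R M) (Loc r M) z := by
  induction z using SymmetricAlgebra.induction with
  | algebraMap a =>
    rw [hφ1, theta_algebraMap, toLoc_algebraMap]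
    exact IsScalarTower.algebraMap_apply R (SymmetricAlgebra R M) (Loc r M) a
  | ι m => rw [hφ2, theta_ι, toLocLin_apply]
  | mul a b ha hb => rw [map_mul, map_mul, map_mul, ha, hb]
  | add a b ha hb => rw [map_add, map_add, map_add, ha, hb]

include hφ1 hφ2 in
/-- **the symmetric algebra commutes with localization away from an element** -/
theorem isLocalization_away_of_phi :
    @IsLocalization.Away (SymmetricAlgebra R M) _ (algebraMap R (SymmetricAlgebra R M) r)
      (SymmetricAlgebra R' M') _ φ.toAlgebra := by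
  let _ := φ.toAlgebra
  have hφ : ∀ z, algebraMap (SymmetricAlgebra R M) (SymmetricAlgebra R' M') z = φ z := fun z => rfl
  refine (isLocalization_iff _ _).2 ⟨?_, ?_, ?_⟩
  · rintro ⟨_, n, rfl⟩
    rw [hφ, map_pow, hφ1]
    exact ((IsLocalization.Away.algebraMap_isUnit r).map (algebraMap R' (SymmetricAlgebra R' M'))).pow n
  · intro z
    induction z using SymmetricAlgebra.induction with
    | algebraMap a' =>
      obtain ⟨n, b, hb⟩ := IsLocalization.Away.surj r a'
      refine ⟨(algebraMap R _ b, ⟨_, n, rfl⟩), ?_⟩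
      rw [hφ, hφ, map_pow, hφ1, hφ1, ← map_pow, ← map_mul, hb]
    | ι m' =>
      obtain ⟨n, m, hm⟩ := IsLocalizedModule.Away.surj g r m'
      refine ⟨(ι R M m, ⟨_, n, rfl⟩), ?_⟩
      rw [hφ, hφ, map_pow, hφ1, hφ2, ← hm, ← map_pow, mul_comm, ← Algebra.smul_def, ← map_smul]
      congr 1
      rw [← map_pow, algebraMap_smul]
    | mul a b ha hb =>
      obtain ⟨⟨a₁, s₁⟩, h₁⟩ := ha
      obtain ⟨⟨a₂, s₂⟩, h₂⟩ := hb
      refine ⟨(a₁ * a₂, s₁ * s₂), ?_⟩
      rw [Submonoid.coe_mul, map_mul, map_mul, ← h₁, ← h₂]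
      ring
    | add a b ha hb =>
      obtain ⟨⟨a₁, s₁⟩, h₁⟩ := ha
      obtain ⟨⟨a₂, s₂⟩, h₂⟩ := hb
      refine ⟨(a₁ * s₂ + a₂ * s₁, s₁ * s₂), ?_⟩
      rw [Submonoid.coe_mul, map_mul, map_add, map_mul, map_mul, ← h₁, ← h₂]
      ring
  · intro x y hxy
    rw [hφ, hφ] at hxy
    have h1 := congrArg (theta r g) hxy
    rw [theta_phi r g φ hφ1 hφ2, theta_phi r g φ hφ1 hφ2] at h1
    exact IsLocalization.exists_of_eq (M := Submonoid.powers (algebraMap R (SymmetricAlgebra R M) r)) h1

end loc


section semilinear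

variable {R R' : Type*} [CommRing R] [CommRing R'] {M M' : Type*} [AddCommGroup M] [Module R M]
  [AddCommGroup M'] [Module R' M']

/-- the symmetric algebra commutes with localization away from an element, semilinear form -/
theorem isLocalization_away_symMap (r : R) (ρ : R →+* R') (g : M →ₛₗ[ρ] M')
    (hloc : @IsLocalization.Away R _ r R' _ ρ.toAlgebra)
    (hsurj : ∀ m' : M', ∃ (n : ℕ) (m : M), (ρ r) ^ n • m' = g m)
    (hinj : ∀ m : M, g m = 0 → ∃ n : ℕ, r ^ n • m = 0) :
    @IsLocalization.Away _ _ (algebraMap R (SymmetricAlgebra R M) r) (SymmetricAlgebra R' M') _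
      (symMap ρ g).toAlgebra := by
  let _ : Algebra R R' := ρ.toAlgebra
  let _ : Module R M' := Module.compHom M' ρ
  have hsm : ∀ (a : R) (m : M'), a • m = ρ a • m := fun a m => rfl
  have : IsScalarTower R R' M' := ⟨fun a b m => by
    rw [hsm, Algebra.smul_def, mul_smul]
    rfl⟩
  let gl : M →ₗ[R] M' :=
    { toFun := g
      map_add' := g.map_add
      map_smul' := fun a m => g.map_smulₛₗ a m }
  have hu : IsUnit (ρ r) := @IsLocalization.Away.algebraMap_isUnit R _ R' _ ρ.toAlgebra r hloc
  have : IsLocalizedModule.Away r gl := by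
    refine IsLocalizedModule.Away.mk_of_addCommGroup ?_ ?_ hinj
    · rw [Module.End.isUnit_iff]
      obtain ⟨u, hu'⟩ := hu
      constructor
      · intro x y hxy
        have h1 : ρ r • x = ρ r • y := hxy
        rw [← hu'] at h1
        have h2 := congrArg (fun z => ((u⁻¹ : R'ˣ) : R') • z) h1
        simp only [smul_smul, Units.inv_mul, one_smul] at h2
        exact h2
      · intro y
        refine ⟨((u⁻¹ : R'ˣ) : R') • y, ?_⟩
        show ρ r • (((u⁻¹ : R'ˣ) : R') • y) = y
        rw [← hu', smul_smul, Units.mul_inv, one_smul]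
    · intro m'
      obtain ⟨n, m, hm⟩ := hsurj m'
      refine ⟨n, m, ?_⟩
      rw [hsm, map_pow]
      exact hm
  exact isLocalization_away_of_phi r gl (symMap ρ g) (symMap_algebraMap ρ g) (symMap_ι ρ g)

end semilinear

end Groth.Agent.Lib.Helper28.SymAlg
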