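import Groth.Agent.Lib.Helper28.SymAlgUnique

set_option autoImplicit false
universe u
open CategoryTheory CategoryTheory.Limits AlgebraicGeometry Opposite TopologicalSpace
noncomputable section

namespace Groth.Agent.Lib.Helper28.SymAlg

open Groth.Agent.Lib.Helper28 Groth.Agent.Lib.Helper28.QCohLoc Groth.Agent.Lib.Helper28.TraceAlg

attribute [local instance] algAt

variable {S : Scheme.{u}} {E : S.Modules} [E.IsQuasicoherent] {A : RelSpec.QCAlg S} {j : E ⟶ A.toModule}
  (hA : RelSpec.IsSymAlg E A j) (U : S.Opens) (hU : IsAffineOpen U)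

include hA hU in
/-- ring homomorphisms out of the sections of a symmetric algebra over an affine open are determined by the
functions and the sections of the module -/
theorem ringHom_ext_sec {C : Type*} [Semiring C] (F G : (A.presheaf.obj (op U)) →+* C)
    (h1 : ∀ a : Γ(S, U), F ((A.str.app (op U)).hom a) = G ((A.str.app (op U)).hom a))
    (h2 : ∀ m : Γ(E, U), F (asR A (j.app U m)) = G (asR A (j.app U m))) : F = G := by
  have key : F.comp (liftU A j U).toRingHom = G.comp (liftU A j U).toRingHom := by
    apply ringHom_ext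
    · intro a
      show F (liftU A j U _) = G (liftU A j U _)
      rw [liftU_algebraMap]
      exact h1 a
    · intro m
      show F (liftU A j U _) = G (liftU A j U _)
      rw [liftU_ι]
      exact h2 m
  refine RingHom.ext fun z => ?_
  obtain ⟨w, rfl⟩ := (liftU_bijective hA U hU).2 z
  exact RingHom.congr_fun key w

include hA hU in
/-- ring homomorphisms out of the sections of a symmetric algebra over an affine open -/
theorem exists_ringHom_sec {C : Type u} [CommRing C] (σ : Γ(S, U) →+* C) (lam : Γ(E, U) →+ C)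
    (hlam : ∀ (a : Γ(S, U)) (m : Γ(E, U)), lam (a • m) = σ a * lam m) :
    ∃ F : (A.presheaf.obj (op U)) →+* C, (∀ a : Γ(S, U), F ((A.str.app (op U)).hom a) = σ a) ∧
      ∀ m : Γ(E, U), F (asR A (j.app U m)) = lam m := by
  let _ : Algebra Γ(S, U) C := σ.toAlgebra
  let l : Γ(E, U) →ₗ[Γ(S, U)] C :=
    { toFun := lam
      map_add' := lam.map_add
      map_smul' := fun a m => by
        rw [hlam, RingHom.id_apply, Algebra.smul_def]
        rfl }
  let e : SymmetricAlgebra Γ(S, U) Γ(E, U) ≃ₐ[Γ(S, U)] (A.presheaf.obj (op U)) :=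
    AlgEquiv.ofBijective (liftU A j U) (liftU_bijective hA U hU)
  refine ⟨((SymmetricAlgebra.lift l).comp e.symm.toAlgHom).toRingHom, fun a => ?_, fun m => ?_⟩
  · show SymmetricAlgebra.lift l (e.symm ((A.str.app (op U)).hom a)) = σ a
    have h1 : e.symm ((A.str.app (op U)).hom a) = algebraMap Γ(S, U) _ a := by
      rw [AlgEquiv.symm_apply_eq]
      exact (liftU_algebraMap A j U a).symm
    rw [h1, AlgHom.commutes]
    rfl
  · show SymmetricAlgebra.lift l (e.symm (asR A (j.app U m))) = lam m
    have h1 : e.symm (asR A (j.app U m)) = SymmetricAlgebra.ι Γ(S, U) Γ(E, U) m := by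
      rw [AlgEquiv.symm_apply_eq]
      exact (liftU_ι A j U m).symm
    rw [h1, SymmetricAlgebra.lift_ι_apply]
    rfl

end Groth.Agent.Lib.Helper28.SymAlg
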