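import Groth.Agent.Lib.Helper28.RLPsiU5
import Groth.Agent.Lib.Helper28.TensorPowGen

set_option autoImplicit false
universe u
open CategoryTheory CategoryTheory.Limits AlgebraicGeometry Opposite TopologicalSpace
noncomputable section

namespace Groth.Agent.Lib.Helper28.SymPow

open Groth.Agent.Lib.Helper28 Groth.Agent.Lib.Helper28.QCohLoc Groth.Agent.Lib.Helper28.TraceAlg
open Groth.Agent.Lib.Helper28.GenLocus Groth.Agent.Lib.Helper28.SymAlg
open Groth.Agent.Lib.Helper28.RLPsi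

attribute [local instance] algAt

section generic

variable {X : Scheme.{u}} {M N : X.Modules} {ι : Type*} (U : ι → X.Opens) (g : ∀ i, Γ(M, U i)) (h : ∀ i, Γ(N, U i))
  (hg : ∀ i, IsGen M (U i) (g i))

/-- transfer of sections along a generator to an arbitrary section -/
def htransfer {U : X.Opens} {g : Γ(M, U)} (hg : IsGen M U g) (h : Γ(N, U)) {V : X.Opens} (hV : V ≤ U)
    (x : Γ(M, V)) : Γ(N, V) :=
  (hg.coef hV x • res N hV h : Γ(N, V))

theorem htransfer_add {U : X.Opens} {g : Γ(M, U)} (hg : IsGen M U g) (h : Γ(N, U)) {V : X.Opens} (hV : V ≤ U)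
    (x y : Γ(M, V)) : htransfer hg h hV (x + y) = htransfer hg h hV x + htransfer hg h hV y := by
  unfold htransfer
  rw [hg.coef_add, add_smul]

theorem htransfer_smul {U : X.Opens} {g : Γ(M, U)} (hg : IsGen M U g) (h : Γ(N, U)) {V : X.Opens} (hV : V ≤ U)
    (a : Γ(X, V)) (x : Γ(M, V)) :
    htransfer hg h hV (a • x : Γ(M, V)) = (a • htransfer hg h hV x : Γ(N, V)) := by
  unfold htransfer
  rw [hg.coef_smul_left, mul_smul]

theorem htransfer_res {U : X.Opens} {g : Γ(M, U)} (hg : IsGen M U g) (h : Γ(N, U)) {V V' : X.Opens} (hV : V ≤ U)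
    (h' : V' ≤ V) (x : Γ(M, V)) :
    htransfer hg h (h'.trans hV) (res M h' x) = res N h' (htransfer hg h hV x) := by
  unfold htransfer
  rw [hg.coef_res, res_smul, res_res]

include hg in
theorem htransfer_indep
    (hcoc : ∀ i j, ∃ u : Γ(X, U i ⊓ U j),
      res M inf_le_left (g i) = (u • res M inf_le_right (g j) : Γ(M, U i ⊓ U j)) ∧
      res N inf_le_left (h i) = (u • res N inf_le_right (h j) : Γ(N, U i ⊓ U j)))
    (i j : ι) {V : X.Opens} (hVi : V ≤ U i) (hVj : V ≤ U j) (x : Γ(M, V)) :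
    htransfer (hg i) (h i) hVi x = htransfer (hg j) (h j) hVj x := by
  obtain ⟨u, hu1, hu2⟩ := hcoc i j
  have hVij : V ≤ U i ⊓ U j := le_inf hVi hVj
  have h1 : res M hVi (g i) = (resO hVij u • res M hVj (g j) : Γ(M, V)) := by
    have := congrArg (res M hVij) hu1
    rwa [res_res, res_smul, res_res] at this
  have h2 : res N hVi (h i) = (resO hVij u • res N hVj (h j) : Γ(N, V)) := by
    have := congrArg (res N hVij) hu2
    rwa [res_res, res_smul, res_res] at this
  have h3 : (hg j).coef hVj x = (hg i).coef hVi x * resO hVij u := by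
    apply (hg j).coef_eq
    rw [mul_smul, ← h1, (hg i).coef_smul]
  unfold htransfer
  rw [h3, mul_smul, ← h2]

include hg in
/-- **a morphism out of a module with local generators, from matching local sections** -/
theorem exists_hom_of_cocycle (hcov : ∀ x : X, ∃ i, x ∈ U i)
    (hcoc : ∀ i j, ∃ u : Γ(X, U i ⊓ U j),
      res M inf_le_left (g i) = (u • res M inf_le_right (g j) : Γ(M, U i ⊓ U j)) ∧
      res N inf_le_left (h i) = (u • res N inf_le_right (h j) : Γ(N, U i ⊓ U j))) :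
    ∃ ψ : M ⟶ N, ∀ (i : ι) (V : X.Opens) (hV : V ≤ U i) (x : Γ(M, V)),
      ψ.app V x = htransfer (hg i) (h i) hV x := by
  let D : QCohLoc.LocalHomData M N :=
    { B := fun V => ∃ i, V ≤ U i
      down := fun V V' hle ⟨i, hi⟩ => ⟨i, hle.trans hi⟩
      cov := fun x => by
        obtain ⟨i, hi⟩ := hcov x
        exact ⟨U i, ⟨i, le_rfl⟩, hi⟩
      φ := fun V hV x => htransfer (hg hV.choose) (h hV.choose) hV.choose_spec x
      add := fun V hV x y => htransfer_add _ _ _ x y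
      smul := fun V hV a x => htransfer_smul _ _ _ a x
      nat := fun V hV V' hle x => by
        have h1 := htransfer_res (hg hV.choose) (h hV.choose) hV.choose_spec hle x
        rw [← h1]
        exact htransfer_indep U g h hg hcoc _ _ _ _ _ }
  refine ⟨D.hom, fun i V hV x => ?_⟩
  have hB : D.B V := ⟨i, hV⟩
  rw [D.hom_app V hB x]
  exact htransfer_indep U g h hg hcoc _ _ _ _ _

end generic

section rho

variable {X : Scheme.{u}} {L : X.Modules}
  {𝒮 : RelProj.QCGrAlg X} (j : L ⟶ 𝒮.toModule)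

/-- `j(g)^k` as a section of the underlying module -/
def jpow (V : X.Opens) (g : Γ(L, V)) (k : ℕ) : Γ(𝒮.toModule, V) :=
  ofR 𝒮.toQCAlg (asR 𝒮.toQCAlg (j.app V g) ^ k)

theorem asR_jpow (V : X.Opens) (g : Γ(L, V)) (k : ℕ) :
    asR 𝒮.toQCAlg (jpow j V g k) = asR 𝒮.toQCAlg (j.app V g) ^ k := rfl

theorem jpow_res {V V' : X.Opens} (h : V' ≤ V) (g : Γ(L, V)) (k : ℕ) :
    res 𝒮.toModule h (jpow j V g k) = jpow j V' (res L h g) k := by
  show rS 𝒮 h (asR 𝒮.toQCAlg (j.app V g) ^ k) = asR 𝒮.toQCAlg (j.app V' (res L h g)) ^ k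
  rw [rS_pow, rS_j]

theorem jpow_smul (V : X.Opens) (a : Γ(X, V)) (g : Γ(L, V)) (k : ℕ) :
    jpow j V (a • g : Γ(L, V)) k = (a ^ k • jpow j V g k : Γ(𝒮.toModule, V)) := by
  show asR 𝒮.toQCAlg (j.app V (a • g : Γ(L, V))) ^ k =
    (𝒮.str.app (op V)).hom (a ^ k) * asR 𝒮.toQCAlg (j.app V g) ^ k
  rw [Scheme.Modules.Hom.app_smul, smul_asR, mul_pow, map_pow]

variable (hL : PicF.IsInvertible L)

include hL in
/-- the canonical map `L^{⊗k} ⟶ Sym(L)` -/
theorem exists_rho (k : ℕ) :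
    ∃ ρ : CohB1.tensorPow L k ⟶ 𝒮.toModule, ∀ (U : X.Opens) (g : Γ(L, U)) (hg : IsGen L U g)
      (V : X.Opens) (hV : V ≤ U) (x : Γ(CohB1.tensorPow L k, V)),
        ρ.app V x = ((isGen_gpow hg k).coef hV x • jpow j V (res L hV g) k : Γ(𝒮.toModule, V)) := by
  let ι := {p : Σ U : X.Opens, Γ(L, U) // IsGen L p.1 p.2}
  obtain ⟨ψ, hψ⟩ := exists_hom_of_cocycle (M := CohB1.tensorPow L k) (N := 𝒮.toModule) (ι := ι) (fun i => i.1.1)
    (fun i => gpow L i.1.2 k) (fun i => jpow j i.1.1 i.1.2 k) (fun i => isGen_gpow i.2 k)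
    (fun x => by
      obtain ⟨U, g, hxU, hg⟩ := exists_isGen L hL x
      exact ⟨⟨⟨U, g⟩, hg⟩, hxU⟩)
    (fun i i' => by
      let c : Γ(X, i.1.1 ⊓ i'.1.1) := i'.2.coef inf_le_right (res L inf_le_left i.1.2)
      have hc : res L inf_le_left i.1.2 = (c • res L inf_le_right i'.1.2 : Γ(L, i.1.1 ⊓ i'.1.1)) :=
        (i'.2.coef_smul inf_le_right _).symm
      refine ⟨c ^ k, ?_, ?_⟩
      · rw [gpow_res, gpow_res, hc, gpow_smul]
      · rw [jpow_res, jpow_res, hc, jpow_smul])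
  refine ⟨ψ, fun U g hg V hV x => ?_⟩
  rw [hψ ⟨⟨U, g⟩, hg⟩ V hV x]
  unfold htransfer
  rw [jpow_res]

end rho

end Groth.Agent.Lib.Helper28.SymPow
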