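import Groth.Agent.Lib.Helper28.SymPowA

set_option autoImplicit false
universe u
open CategoryTheory CategoryTheory.Limits AlgebraicGeometry Opposite TopologicalSpace
noncomputable section

namespace Groth.Agent.Lib.Helper28.SymPow

open Groth.Agent.Lib.Helper28 Groth.Agent.Lib.Helper28.QCohLoc Groth.Agent.Lib.Helper28.TraceAlg
open Groth.Agent.Lib.Helper28.GenLocus Groth.Agent.Lib.Helper28.SymAlg
open Groth.Agent.Lib.Helper28.RLPsi

attribute [local instance] algAt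

section deg

variable {X : Scheme.{u}} (𝒮 : RelProj.QCGrAlg X)

/-- membership in a graded piece is local -/
theorem mem_deg_of_cover {W : X.Opens} (hW : IsAffineOpen W) (k : ℕ) (a : 𝒮.presheaf.obj (op W))
    {ι : Type*} (Wi : ι → X.Opens) (hWi : ∀ i, IsAffineOpen (Wi i)) (hle : ∀ i, Wi i ≤ W) (hcov : W ≤ iSup Wi)
    (h : ∀ i, rS 𝒮 (hle i) a ∈ 𝒮.deg (Wi i) (hWi i) k) : a ∈ 𝒮.deg W hW k := by
  classical
  have h0 : ∀ d, d ≠ k → ((DirectSum.decompose (𝒮.deg W hW) a d : 𝒮.presheaf.obj (op W))) = 0 := by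
    intro d hd
    refine eq_of_locally_eq 𝒮.toModule Wi W hle hcov
      (ofR 𝒮.toQCAlg ((DirectSum.decompose (𝒮.deg W hW) a d : 𝒮.presheaf.obj (op W)))) (ofR 𝒮.toQCAlg 0) fun i => ?_
    show rS 𝒮 (hle i) ((DirectSum.decompose (𝒮.deg W hW) a d : 𝒮.presheaf.obj (op W))) = rS 𝒮 (hle i) 0
    have h1 := (𝒮.res hW (hWi i) (hle i)).map_directSumDecompose (x := a) (i := d)
    have h2 : (𝒮.res hW (hWi i) (hle i)) a = rS 𝒮 (hle i) a := rfl
    have h3 : rS 𝒮 (hle i) ((DirectSum.decompose (𝒮.deg W hW) a d : 𝒮.presheaf.obj (op W))) =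
        ((DirectSum.decompose (𝒮.deg (Wi i) (hWi i)) (rS 𝒮 (hle i) a) d : 𝒮.presheaf.obj (op (Wi i)))) := by
      rw [← h2]
      exact h1
    rw [h3, DirectSum.decompose_of_mem_ne _ (h i) (Ne.symm hd)]
    exact (map_zero _).symm
  have h1 : a = ((DirectSum.decompose (𝒮.deg W hW) a k : 𝒮.presheaf.obj (op W))) := by
    conv_lhs => rw [← DirectSum.sum_support_decompose (𝒮.deg W hW) a]
    by_cases hk : k ∈ (DirectSum.decompose (𝒮.deg W hW) a).support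
    · rw [Finset.sum_eq_single k (fun d _ hd => h0 d hd) (fun hk' => absurd hk hk')]
    · rw [Finset.sum_eq_zero (fun d hd => h0 d (fun e => hk (e ▸ hd)))]
      rw [DFinsupp.mem_support_toFun, not_not] at hk
      rw [hk]
      rfl
  rw [h1]
  exact SetLike.coe_mem _

end deg

section rho

variable {X : Scheme.{u}} {L : X.Modules} [L.IsQuasicoherent]
  {𝒮 : RelProj.QCGrAlg X} {j : L ⟶ 𝒮.toModule} (hS : RelProj.IsGrSymAlg L 𝒮 j) (hL : PicF.IsInvertible L)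

/-- the canonical map `L^{⊗k} ⟶ Sym(L)` -/
def rho (j : L ⟶ 𝒮.toModule) (hL : PicF.IsInvertible L) (k : ℕ) : CohB1.tensorPow L k ⟶ 𝒮.toModule :=
  (exists_rho j hL k).choose

omit [L.IsQuasicoherent] in
theorem rho_app (k : ℕ) {U : X.Opens} {g : Γ(L, U)} (hg : IsGen L U g) {V : X.Opens} (hV : V ≤ U)
    (x : Γ(CohB1.tensorPow L k, V)) :
    (rho j hL k).app V x = ((isGen_gpow hg k).coef hV x • jpow j V (res L hV g) k : Γ(𝒮.toModule, V)) :=
  (exists_rho j hL k).choose_spec U g hg V hV x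

omit [L.IsQuasicoherent] in
theorem rho_smul_gpow (k : ℕ) {U : X.Opens} {g : Γ(L, U)} (hg : IsGen L U g) (b : Γ(X, U)) :
    (rho j hL k).app U (b • gpow L g k : Γ(CohB1.tensorPow L k, U)) = (b • jpow j U g k : Γ(𝒮.toModule, U)) := by
  rw [rho_app hL k hg le_rfl, (isGen_gpow hg k).coef_smul_left, (isGen_gpow hg k).coef_self, mul_one, res_self]

omit [L.IsQuasicoherent] in
theorem asR_rho_smul_gpow (k : ℕ) {U : X.Opens} {g : Γ(L, U)} (hg : IsGen L U g) (b : Γ(X, U)) :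
    asR 𝒮.toQCAlg ((rho j hL k).app U (b • gpow L g k : Γ(CohB1.tensorPow L k, U))) =
      (𝒮.str.app (op U)).hom b * asR 𝒮.toQCAlg (j.app U g) ^ k := by
  rw [rho_smul_gpow hL k hg b]
  rfl

include hS in
/-- `ρ_k` is injective on sections -/
theorem rho_injective (k : ℕ) (V : X.Opens) : Function.Injective ((rho j hL k).app V) := by
  rw [injective_iff_map_eq_zero]
  intro x hx
  -- local vanishing
  let I := {p : Σ W : X.Opens, Γ(L, W) // IsAffineOpen p.1 ∧ IsGen L p.1 p.2 ∧ p.1 ≤ V}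
  refine eq_of_locally_eq (CohB1.tensorPow L k) (fun i : I => i.1.1) V (fun i => i.2.2.2) ?_ x 0 fun i => ?_
  · intro y hy
    obtain ⟨W, g, hyW, hW, hg, hWV⟩ := exists_isGen_affine_le hL y V hy
    exact Opens.mem_iSup.2 ⟨⟨⟨W, g⟩, hW, hg, hWV⟩, hyW⟩
  · obtain ⟨⟨W, g⟩, hW, hg, hWV⟩ := i
    show res (CohB1.tensorPow L k) hWV x = res (CohB1.tensorPow L k) hWV 0
    rw [res_zero]
    have h1 : (rho j hL k).app W (res (CohB1.tensorPow L k) hWV x) = 0 := by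
      rw [app_res, hx]
      exact res_zero _ _
    obtain ⟨ev, hev1, hev2⟩ := exists_ev hS hW hg
    have hc := (isGen_gpow hg k).coef_smul le_rfl (res (CohB1.tensorPow L k) hWV x)
    rw [res_self] at hc
    rw [← hc] at h1 ⊢
    have h2 := asR_rho_smul_gpow (j := j) hL k hg ((isGen_gpow hg k).coef le_rfl (res (CohB1.tensorPow L k) hWV x))
    rw [h1] at h2
    have h3 := congrArg ev h2
    rw [map_mul, map_pow, hev1, hev2, one_pow, mul_one] at h3
    have h4 : ev (asR 𝒮.toQCAlg (0 : Γ(𝒮.toModule, W))) = 0 := map_zero ev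
    rw [h4] at h3
    rw [← h3, zero_smul]

/-- a section of the algebra is locally homogeneous of degree `k` -/
def LocDeg (𝒮 : RelProj.QCGrAlg X) (k : ℕ) (V : X.Opens) (τ : 𝒮.presheaf.obj (op V)) : Prop :=
  ∀ (W : X.Opens) (hW : IsAffineOpen W) (h : W ≤ V), rS 𝒮 h τ ∈ 𝒮.deg W hW k

omit [L.IsQuasicoherent] in
theorem LocDeg.res {k : ℕ} {V V' : X.Opens} {τ : 𝒮.presheaf.obj (op V)} (hτ : LocDeg 𝒮 k V τ) (h : V' ≤ V) :
    LocDeg 𝒮 k V' (rS 𝒮 h τ) := by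
  intro W hW hWV'
  have := hτ W hW (hWV'.trans h)
  have e : rS 𝒮 hWV' (rS 𝒮 h τ) = rS 𝒮 (hWV'.trans h) τ := by
    show (𝒮.presheaf.map (homOfLE hWV').op).hom ((𝒮.presheaf.map (homOfLE h).op).hom τ) = _
    rw [← CommRingCat.comp_apply, ← Functor.map_comp]
    rfl
  rw [e]
  exact this

omit [L.IsQuasicoherent] in
include hS in
theorem str_mul_pow_mem (k : ℕ) {W : X.Opens} (hW : IsAffineOpen W) (g : Γ(L, W)) (b : Γ(X, W)) :
    (𝒮.str.app (op W)).hom b * asR 𝒮.toQCAlg (j.app W g) ^ k ∈ 𝒮.deg W hW k := by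
  have h1 := SetLike.pow_mem_graded k (show asR 𝒮.toQCAlg (j.app W g) ∈ 𝒮.deg W hW 1 from hS.2 W hW g)
  have h2 := SetLike.mul_mem_graded (𝒮.str_mem W hW b) h1
  rw [smul_eq_mul, mul_one, zero_add] at h2
  exact h2

omit [L.IsQuasicoherent] in
include hS in
/-- the image of `ρ_k` is locally homogeneous of degree `k` -/
theorem locDeg_rho (k : ℕ) (V : X.Opens) (σ : Γ(CohB1.tensorPow L k, V)) :
    LocDeg 𝒮 k V (asR 𝒮.toQCAlg ((rho j hL k).app V σ)) := by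
  intro W hW hWV
  let I := {p : Σ W' : X.Opens, Γ(L, W') // IsAffineOpen p.1 ∧ IsGen L p.1 p.2 ∧ p.1 ≤ W}
  refine mem_deg_of_cover 𝒮 hW k _ (fun i : I => i.1.1) (fun i => i.2.1) (fun i => i.2.2.2) ?_ fun i => ?_
  · intro y hy
    obtain ⟨W', g, hyW', hW', hg, hW'W⟩ := exists_isGen_affine_le hL y W hy
    exact Opens.mem_iSup.2 ⟨⟨⟨W', g⟩, hW', hg, hW'W⟩, hyW'⟩
  · obtain ⟨⟨W', g⟩, hW', hg, hW'W⟩ := i
    show rS 𝒮 hW'W (rS 𝒮 hWV (asR 𝒮.toQCAlg ((rho j hL k).app V σ))) ∈ 𝒮.deg W' hW' k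
    have e : rS 𝒮 hW'W (rS 𝒮 hWV (asR 𝒮.toQCAlg ((rho j hL k).app V σ))) =
        asR 𝒮.toQCAlg ((rho j hL k).app W' (res (CohB1.tensorPow L k) (hW'W.trans hWV) σ)) := by
      rw [app_res]
      show (𝒮.presheaf.map (homOfLE hW'W).op).hom ((𝒮.presheaf.map (homOfLE hWV).op).hom _) = _
      rw [← CommRingCat.comp_apply, ← Functor.map_comp]
      rfl
    rw [e]
    have hc := (isGen_gpow hg k).coef_smul le_rfl (res (CohB1.tensorPow L k) (hW'W.trans hWV) σ)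
    rw [res_self] at hc
    rw [← hc, asR_rho_smul_gpow hL k hg]
    exact str_mul_pow_mem hS k hW' g _

include hS in
/-- every locally homogeneous section of degree `k` comes from `L^{⊗k}` -/
theorem exists_sec_of_locDeg (k : ℕ) (V : X.Opens) (τ : 𝒮.presheaf.obj (op V)) (hτ : LocDeg 𝒮 k V τ) :
    ∃ σ : Γ(CohB1.tensorPow L k, V), asR 𝒮.toQCAlg ((rho j hL k).app V σ) = τ := by
  let I := {p : Σ W : X.Opens, Γ(L, W) // IsAffineOpen p.1 ∧ IsGen L p.1 p.2 ∧ p.1 ≤ V}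
  have hcov : V ≤ ⨆ i : I, i.1.1 := by
    intro y hy
    obtain ⟨W, g, hyW, hW, hg, hWV⟩ := exists_isGen_affine_le hL y V hy
    exact Opens.mem_iSup.2 ⟨⟨⟨W, g⟩, hW, hg, hWV⟩, hyW⟩
  have hloc : ∀ i : I, ∃ σi : Γ(CohB1.tensorPow L k, i.1.1),
      asR 𝒮.toQCAlg ((rho j hL k).app i.1.1 σi) = rS 𝒮 i.2.2.2 τ := by
    rintro ⟨⟨W, g⟩, hW, hg, hWV⟩
    obtain ⟨b, hb⟩ := exists_eq_str_mul_pow hS hW hg k _ (hτ W hW hWV)
    exact ⟨(b • gpow L g k : Γ(CohB1.tensorPow L k, W)), (asR_rho_smul_gpow hL k hg b).trans hb.symm⟩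
  choose σi hσi using hloc
  obtain ⟨σ, hσ⟩ := exists_gluing (CohB1.tensorPow L k) (fun i : I => i.1.1) V (fun i => i.2.2.2) hcov σi (by
    intro i i'
    apply rho_injective hS hL k
    rw [app_res, app_res]
    show rS 𝒮 inf_le_left (asR 𝒮.toQCAlg ((rho j hL k).app i.1.1 (σi i))) =
      rS 𝒮 inf_le_right (asR 𝒮.toQCAlg ((rho j hL k).app i'.1.1 (σi i')))
    rw [hσi, hσi]
    show (𝒮.presheaf.map (homOfLE _).op).hom ((𝒮.presheaf.map (homOfLE _).op).hom τ) =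
      (𝒮.presheaf.map (homOfLE _).op).hom ((𝒮.presheaf.map (homOfLE _).op).hom τ)
    rw [← CommRingCat.comp_apply, ← CommRingCat.comp_apply, ← Functor.map_comp, ← Functor.map_comp]
    rfl)
  refine ⟨σ, ?_⟩
  refine eq_of_locally_eq 𝒮.toModule (fun i : I => i.1.1) V (fun i => i.2.2.2) hcov
    ((rho j hL k).app V σ) (ofR 𝒮.toQCAlg τ) fun i => ?_
  have h1 := hσi i
  rw [← hσ i, app_res] at h1
  exact h1

end rho

end Groth.Agent.Lib.Helper28.SymPow
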