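import Groth.Agent.Lib.Helper28.SymPowC

set_option autoImplicit false
universe u
open CategoryTheory CategoryTheory.Limits AlgebraicGeometry Opposite TopologicalSpace
noncomputable section

namespace Groth.Agent.Lib.Helper28.SymPow

open Groth.Agent.Lib.Helper28 Groth.Agent.Lib.Helper28.QCohLoc Groth.Agent.Lib.Helper28.TraceAlg
open Groth.Agent.Lib.Helper28.GenLocus Groth.Agent.Lib.Helper28.SymAlg Groth.Agent.Lib.Helper28.AmpleUnit
open Groth.Agent.Lib.Helper28.RLPsi Groth.Agent.Lib.Helper28.RLPsiU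

attribute [local instance] algAt

section bridge

variable {X : Scheme.{u}} {L : X.Modules} [L.IsQuasicoherent]
  {𝒮 : RelProj.QCGrAlg X} {j : L ⟶ 𝒮.toModule} (hS : RelProj.IsGrSymAlg L 𝒮 j) (hL : PicF.IsInvertible L)

include hS hL in
/-- **from the algebra to sections of powers**: a locally homogeneous section of degree `k` of `Sym(L)` over `V`
gives a section of `(L|_V)^{⊗k}` with the same nonvanishing locus -/
theorem exists_section_of_locDeg (k : ℕ) (V : X.Opens) (τ : 𝒮.presheaf.obj (op V)) (hτ : LocDeg 𝒮 k V τ) :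
    ∃ s : Coh.structureModule (↑V : Scheme.{u}) ⟶ CohB1.tensorPow (L.restrict V.ι) k,
      CohB1.genLocus _ s = V.ι ⁻¹ᵁ NVloc 𝒮 k V τ := by
  obtain ⟨σ, rfl⟩ := exists_sec_of_locDeg hS hL k V τ hτ
  have hLV := AmpleIso.isInvertible_restrict V.ι L hL
  obtain ⟨e⟩ := exists_restrict_tensorPow_iso L V hLV k
  refine ⟨secOpen V σ ≫ e.hom, ?_⟩
  rw [genLocus_comp_iso _ e]
  refine Opens.ext (Set.ext fun y => ?_)
  show y ∈ CohB1.genLocus _ (secOpen V σ) ↔ V.ι y ∈ NVloc 𝒮 k V _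
  rw [mem_genLocus_secOpen_iff (isInvertible_tensorPow hL k) V σ y]
  exact (mem_NVloc_rho_iff hS hL k V σ (V.ι y)).symm

include hS hL in
/-- **from sections of powers to the algebra** -/
theorem exists_locDeg_of_section (k : ℕ) (V : X.Opens)
    (s : Coh.structureModule (↑V : Scheme.{u}) ⟶ CohB1.tensorPow (L.restrict V.ι) k) :
    ∃ τ : 𝒮.presheaf.obj (op V), LocDeg 𝒮 k V τ ∧ V.ι ⁻¹ᵁ NVloc 𝒮 k V τ = CohB1.genLocus _ s := by
  have hLV := AmpleIso.isInvertible_restrict V.ι L hL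
  obtain ⟨e⟩ := exists_restrict_tensorPow_iso L V hLV k
  let s₁ : Coh.structureModule (↑V : Scheme.{u}) ⟶ (CohB1.tensorPow L k).restrict V.ι := s ≫ e.inv
  have hle : V ≤ V.ι ''ᵁ ⊤ := le_of_eq (Scheme.Opens.ι_image_top V).symm
  let σ₀ : Γ(CohB1.tensorPow L k, V.ι ''ᵁ ⊤) := secOf s₁
  let σ : Γ(CohB1.tensorPow L k, V) := res (CohB1.tensorPow L k) hle σ₀
  have hσ₀ : res (CohB1.tensorPow L k) (le_of_eq (Scheme.Opens.ι_image_top V)) σ = σ₀ := by
    show res (CohB1.tensorPow L k) _ (res (CohB1.tensorPow L k) hle σ₀) = σ₀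
    rw [res_res, res_self]
  have hts : secOpen V σ = s₁ := by
    rw [← ofSection_secOf s₁]
    exact congrArg (TwistGen.ofSection ((CohB1.tensorPow L k).restrict V.ι)) hσ₀
  refine ⟨asR 𝒮.toQCAlg ((rho j hL k).app V σ), locDeg_rho hS hL k V σ, ?_⟩
  have h1 : CohB1.genLocus _ s = CohB1.genLocus _ s₁ := by
    have h2 : s = s₁ ≫ e.hom := by
      show s = (s ≫ e.inv) ≫ e.hom
      rw [Category.assoc, Iso.inv_hom_id, Category.comp_id]
    rw [h2, genLocus_comp_iso _ e]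
  rw [h1, ← hts]
  refine Opens.ext (Set.ext fun y => ?_)
  show V.ι y ∈ NVloc 𝒮 k V _ ↔ y ∈ CohB1.genLocus _ (secOpen V σ)
  rw [mem_genLocus_secOpen_iff (isInvertible_tensorPow hL k) V σ y]
  exact mem_NVloc_rho_iff hS hL k V σ (V.ι y)

end bridge

section xtu

variable {Y X : Scheme.{u}} {q : X ⟶ Y} {𝒮 : RelProj.QCGrAlg Y} {𝒮L : RelProj.QCGrAlg X}
  (u : RelProj.QGrHom q 𝒮 𝒮L)

theorem XTU_eq_NVloc (U : Y.Opens) (n : ℕ) (s : 𝒮.presheaf.obj (op U)) :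
    XTU u U n s = NVloc 𝒮L n (q ⁻¹ᵁ U) (tauU u U s (q ⁻¹ᵁ U) le_rfl) := by
  refine Opens.ext (Set.ext fun x => ?_)
  show x ∈ XTU u U n s ↔ x ∈ NVloc 𝒮L n (q ⁻¹ᵁ U) _
  rw [mem_XTU_iff, mem_NVloc_iff]
  unfold NVU
  simp only [rS_tauU]

theorem locDeg_tauU {U : Y.Opens} (hU : IsAffineOpen U) {n : ℕ} {s : 𝒮.presheaf.obj (op U)}
    (hs : s ∈ 𝒮.deg U hU n) (W : X.Opens) (hW : W ≤ q ⁻¹ᵁ U) : LocDeg 𝒮L n W (tauU u U s W hW) := by
  intro W' hW' hW'W
  rw [rS_tauU]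
  exact u.map_mem U hU W' hW' (hW'W.trans hW) hs

end xtu

end Groth.Agent.Lib.Helper28.SymPow
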