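import Groth.Agent.Lib.Helper28.SymPowD
import Groth.Agent.Lib.Helper28.SecExtend

set_option autoImplicit false
universe u
open CategoryTheory CategoryTheory.Limits AlgebraicGeometry Opposite TopologicalSpace
noncomputable section

namespace Groth.Agent.Lib.Helper28.SymPow

open Groth.Agent.Lib.Helper28 Groth.Agent.Lib.Helper28.QCohLoc Groth.Agent.Lib.Helper28.TraceAlg
open Groth.Agent.Lib.Helper28.GenLocus Groth.Agent.Lib.Helper28.SymAlg Groth.Agent.Lib.Helper28.AmpleUnit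
open Groth.Agent.Lib.Helper28.RLPsi

attribute [local instance] algAt

section ext

variable {X : Scheme.{u}} {L : X.Modules} [L.IsQuasicoherent]
  {𝒮 : RelProj.QCGrAlg X} {j : L ⟶ 𝒮.toModule} (hS : RelProj.IsGrSymAlg L 𝒮 j) (hL : PicF.IsInvertible L)

include hS hL in
theorem NVloc_res {k : ℕ} {V W : X.Opens} {τ : 𝒮.presheaf.obj (op V)} (hτ : LocDeg 𝒮 k V τ) (hWV : W ≤ V) :
    NVloc 𝒮 k W (rS 𝒮 hWV τ) = NVloc 𝒮 k V τ ⊓ W := by
  refine Opens.ext (Set.ext fun x => ?_)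
  show x ∈ NVloc 𝒮 k W (rS 𝒮 hWV τ) ↔ x ∈ NVloc 𝒮 k V τ ∧ x ∈ W
  by_cases hxW : x ∈ W
  · obtain ⟨W₁, g, hxW₁, hW₁, hg, hW₁W⟩ := exists_isGen_affine_le hL x W hxW
    obtain ⟨b, hb⟩ := exists_eq_str_mul_pow hS hW₁ hg k _ (hτ W₁ hW₁ (hW₁W.trans hWV))
    have hb' : rS 𝒮 hW₁W (rS 𝒮 hWV τ) =
        (𝒮.str.app (op W₁)).hom b * asR 𝒮.toQCAlg (j.app W₁ g) ^ k := by
      rw [rS_rS]
      exact hb
    rw [mem_NVloc_iff_mem_basicOpen hS k W _ hW₁ hg hW₁W b hb' x hxW₁,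
      mem_NVloc_iff_mem_basicOpen hS k V τ hW₁ hg (hW₁W.trans hWV) b hb x hxW₁]
    exact ⟨fun h => ⟨h, hxW⟩, fun h => h.1⟩
  · constructor
    · intro h
      exact absurd (NVloc_le k W _ h) hxW
    · rintro ⟨-, h⟩
      exact absurd h hxW

/-- the trivializing affine opens inside `V` -/
abbrev Triv (L : X.Modules) (V : X.Opens) : Type u :=
  {p : Σ W : X.Opens, Γ(L, W) // IsAffineOpen p.1 ∧ IsGen L p.1 p.2 ∧ p.1 ≤ V}

omit [L.IsQuasicoherent] in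
include hL in
theorem le_iSup_triv (V : X.Opens) : V ≤ ⨆ i : Triv L V, i.1.1 := by
  intro y hy
  obtain ⟨W, g, hyW, hW, hg, hWV⟩ := exists_isGen_affine_le hL y V hy
  exact Opens.mem_iSup.2 ⟨⟨⟨W, g⟩, hW, hg, hWV⟩, hyW⟩

omit [L.IsQuasicoherent] in
include hL in
theorem exists_finite_triv {V : X.Opens} (hVc : IsCompact (V : Set X)) :
    ∃ T : Finset (Triv L V), V ≤ ⨆ i : T, i.1.1.1 := by
  obtain ⟨T, hT⟩ := hVc.elim_finite_subcover (fun i : Triv L V => ((i.1.1 : X.Opens) : Set X))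
    (fun i => i.1.1.isOpen) (fun y hy => by
      have := le_iSup_triv hL V hy
      obtain ⟨i, hi⟩ := Opens.mem_iSup.1 this
      exact Set.mem_iUnion.2 ⟨i, hi⟩)
  refine ⟨T, fun y hy => ?_⟩
  have := hT hy
  simp only [Set.mem_iUnion] at this
  obtain ⟨i, hiT, hyi⟩ := this
  exact Opens.mem_iSup.2 ⟨⟨i, hiT⟩, hyi⟩

omit [L.IsQuasicoherent] in
theorem LocDeg.mul {d e : ℕ} {V : X.Opens} {τ τ' : 𝒮.presheaf.obj (op V)} (hτ : LocDeg 𝒮 d V τ)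
    (hτ' : LocDeg 𝒮 e V τ') : LocDeg 𝒮 (d + e) V (τ * τ') := by
  intro W hW hWV
  rw [rS_mul]
  exact SetLike.mul_mem_graded (hτ W hW hWV) (hτ' W hW hWV)

omit [L.IsQuasicoherent] in
theorem LocDeg.pow {d : ℕ} {V : X.Opens} {τ : 𝒮.presheaf.obj (op V)} (hτ : LocDeg 𝒮 d V τ) (k : ℕ) :
    LocDeg 𝒮 (k * d) V (τ ^ k) := by
  intro W hW hWV
  rw [rS_pow]
  have := SetLike.pow_mem_graded k (hτ W hW hWV)
  rw [smul_eq_mul] at this
  exact this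

omit [L.IsQuasicoherent] in
theorem LocDeg.sub {d : ℕ} {V : X.Opens} {τ τ' : 𝒮.presheaf.obj (op V)} (hτ : LocDeg 𝒮 d V τ)
    (hτ' : LocDeg 𝒮 d V τ') : LocDeg 𝒮 d V (τ - τ') := by
  intro W hW hWV
  have e : rS 𝒮 hWV (τ - τ') = rS 𝒮 hWV τ - rS 𝒮 hWV τ' := map_sub _ τ τ'
  rw [e]
  exact sub_mem (hτ W hW hWV) (hτ' W hW hWV)

include hS hL in
/-- a locally homogeneous section vanishing on the nonvanishing locus of `τ` is killed by a power of `τ`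
(on a quasi-compact open) -/
theorem exists_pow_mul_eq_zero_of_res_NVloc {V : X.Opens} (hVc : IsCompact (V : Set X)) (d e : ℕ)
    (τ τ'' : 𝒮.presheaf.obj (op V)) (hτ : LocDeg 𝒮 d V τ) (hτ'' : LocDeg 𝒮 e V τ'')
    (h0 : rS 𝒮 (NVloc_le d V τ) τ'' = 0) : ∃ k₀ : ℕ, ∀ k, k₀ ≤ k → τ ^ k * τ'' = 0 := by
  obtain ⟨T, hT⟩ := exists_finite_triv hL hVc
  have hloc : ∀ i : T, ∃ k : ℕ, rS 𝒮 i.1.2.2.2 (τ ^ k * τ'') = 0 := by
    rintro ⟨⟨⟨W, g⟩, hW, hg, hWV⟩, -⟩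
    obtain ⟨b, hb⟩ := exists_eq_str_mul_pow hS hW hg d _ (hτ W hW hWV)
    obtain ⟨c, hc⟩ := exists_eq_str_mul_pow hS hW hg e _ (hτ'' W hW hWV)
    -- `D(b) ⊆ X_τ`
    have hDle : X.basicOpen b ≤ NVloc 𝒮 d V τ := fun x hx =>
      (mem_NVloc_iff_mem_basicOpen hS d V τ hW hg hWV b hb x (X.basicOpen_le b hx)).2 hx
    have h1 : rS 𝒮 ((X.basicOpen_le b).trans hWV) τ'' = 0 := by
      have := congrArg (rS 𝒮 hDle) h0
      rw [rS_rS] at this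
      rw [this]
      exact map_zero _
    have h2 : rS 𝒮 (X.basicOpen_le b) (rS 𝒮 hWV τ'') = 0 := by rw [rS_rS]; exact h1
    rw [hc, rS_elem] at h2
    obtain ⟨ev, hev1, hev2⟩ := exists_ev hS (hW.basicOpen b) (hg.res (X.basicOpen_le b))
    have h3 := congrArg ev h2
    rw [map_mul, map_pow, hev1, hev2, one_pow, mul_one, map_zero] at h3
    obtain ⟨n, hn⟩ := exists_pow_mul_eq_zero hW.isCompact c b rfl (X.basicOpen_le b) h3
    refine ⟨n, ?_⟩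
    show rS 𝒮 hWV (τ ^ n * τ'') = 0
    rw [rS_mul, rS_pow, hb, hc]
    have : ((𝒮.str.app (op W)).hom b * asR 𝒮.toQCAlg (j.app W g) ^ d) ^ n *
        ((𝒮.str.app (op W)).hom c * asR 𝒮.toQCAlg (j.app W g) ^ e) =
        (𝒮.str.app (op W)).hom (b ^ n * c) * (asR 𝒮.toQCAlg (j.app W g) ^ d) ^ n *
          asR 𝒮.toQCAlg (j.app W g) ^ e := by
      rw [map_mul, map_pow]
      ring
    rw [this, hn, map_zero, zero_mul, zero_mul]
  obtain ⟨k₀, hk₀⟩ := exists_uniform (fun (i : T) (k : ℕ) => rS 𝒮 i.1.2.2.2 (τ ^ k * τ'') = 0)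
    (fun i k hk => by
      show rS 𝒮 i.1.2.2.2 (τ ^ (k + 1) * τ'') = 0
      have e : τ ^ (k + 1) * τ'' = τ * (τ ^ k * τ'') := by ring
      rw [e, rS_mul, hk, mul_zero]) hloc
  refine ⟨k₀, fun k hk => ?_⟩
  have hall : ∀ i : T, rS 𝒮 i.1.2.2.2 (τ ^ k * τ'') = 0 := by
    intro i
    obtain ⟨m, rfl⟩ := Nat.exists_eq_add_of_le hk
    have e : τ ^ (k₀ + m) * τ'' = τ ^ m * (τ ^ k₀ * τ'') := by ring
    rw [e, rS_mul, hk₀ i, mul_zero]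
  refine eq_of_locally_eq 𝒮.toModule (fun i : T => i.1.1.1) V (fun i => i.1.2.2.2) hT
    (ofR 𝒮.toQCAlg (τ ^ k * τ'')) (ofR 𝒮.toQCAlg 0) fun i => ?_
  show rS 𝒮 i.1.2.2.2 (τ ^ k * τ'') = rS 𝒮 i.1.2.2.2 0
  rw [hall i]
  exact (map_zero _).symm

end ext

end Groth.Agent.Lib.Helper28.SymPow
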