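import Groth.Agent.Lib.Helper28.SymPowE

set_option autoImplicit false
universe u
open CategoryTheory CategoryTheory.Limits AlgebraicGeometry Opposite TopologicalSpace
noncomputable section

namespace Groth.Agent.Lib.Helper28.SymPow

open Groth.Agent.Lib.Helper28 Groth.Agent.Lib.Helper28.QCohLoc Groth.Agent.Lib.Helper28.TraceAlg
open Groth.Agent.Lib.Helper28.GenLocus Groth.Agent.Lib.Helper28.SymAlg Groth.Agent.Lib.Helper28.AmpleUnit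
open Groth.Agent.Lib.Helper28.RLPsi

attribute [local instance] algAt

section ext

variable {X : Scheme.{u}} {L : X.Modules} [L.IsQuasicoherent]
  {𝒮 : RelProj.QCGrAlg X} {j : L ⟶ 𝒮.toModule} (hS : RelProj.IsGrSymAlg L 𝒮 j) (hL : PicF.IsInvertible L)

omit [L.IsQuasicoherent] in
theorem locDeg_of_mem_deg {W : X.Opens} (hW : IsAffineOpen W) {k : ℕ} {a : 𝒮.presheaf.obj (op W)}
    (ha : a ∈ 𝒮.deg W hW k) : LocDeg 𝒮 k W a :=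
  fun W' hW' hW'W => 𝒮.map_mem hW hW' hW'W ha

omit [L.IsQuasicoherent] in
theorem rS_sub {V W : X.Opens} (h : W ≤ V) (a b : 𝒮.presheaf.obj (op V)) :
    rS 𝒮 h (a - b) = rS 𝒮 h a - rS 𝒮 h b := map_sub _ a b

omit [L.IsQuasicoherent] in
theorem rS_zero {V W : X.Opens} (h : W ≤ V) : rS 𝒮 h (0 : 𝒮.presheaf.obj (op V)) = 0 := map_zero _

omit [L.IsQuasicoherent] in
theorem rS_self {V : X.Opens} (a : 𝒮.presheaf.obj (op V)) : rS 𝒮 (le_refl V) a = a := by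
  show (𝒮.presheaf.map (homOfLE (le_refl V)).op).hom a = a
  have : (homOfLE (le_refl V)).op = 𝟙 (op V) := rfl
  rw [this, 𝒮.presheaf.map_id]
  rfl

include hS hL in
/-- **extension of `t τ^m` from the nonvanishing locus of `τ`** (on a quasi-compact quasi-separated open) -/
theorem exists_extension_of_NVloc {V : X.Opens} (hVc : IsCompact (V : Set X))
    (hVqs : IsQuasiSeparated (V : Set X)) (d : ℕ) (τ : 𝒮.presheaf.obj (op V)) (hτ : LocDeg 𝒮 d V τ)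
    (t : Γ(X, NVloc 𝒮 d V τ)) :
    ∃ (m : ℕ) (τ' : 𝒮.presheaf.obj (op V)), 0 < m ∧ LocDeg 𝒮 (m * d) V τ' ∧
      rS 𝒮 (NVloc_le d V τ) τ' =
        (𝒮.str.app (op (NVloc 𝒮 d V τ))).hom t * (rS 𝒮 (NVloc_le d V τ) τ) ^ m := by
  classical
  obtain ⟨T, hT⟩ := exists_finite_triv hL hVc
  -- notation for the charts
  have hb0 : ∀ i : T, ∃ b : Γ(X, i.1.1.1), rS 𝒮 i.1.2.2.2 τ =
      (𝒮.str.app (op i.1.1.1)).hom b * asR 𝒮.toQCAlg (j.app i.1.1.1 i.1.1.2) ^ d := fun i =>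
    exists_eq_str_mul_pow hS i.1.2.1 i.1.2.2.1 d _ (hτ _ i.1.2.1 i.1.2.2.2)
  choose b hb using hb0
  have hDW : ∀ i : T, X.basicOpen (b i) ≤ i.1.1.1 := fun i => X.basicOpen_le (b i)
  have hDle : ∀ i : T, X.basicOpen (b i) ≤ NVloc 𝒮 d V τ := fun i x hx =>
    (mem_NVloc_iff_mem_basicOpen hS d V τ i.1.2.1 i.1.2.2.1 i.1.2.2.2 (b i) (hb i) x (hDW i hx)).2 hx
  have hND : ∀ (i : T) (x : X), x ∈ NVloc 𝒮 d V τ → x ∈ i.1.1.1 → x ∈ X.basicOpen (b i) := fun i x hx hxW =>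
    (mem_NVloc_iff_mem_basicOpen hS d V τ i.1.2.1 i.1.2.2.1 i.1.2.2.2 (b i) (hb i) x hxW).1 hx
  -- restriction of `τ` to `D(b_i)`
  have hτD : ∀ i : T, rS 𝒮 ((hDW i).trans i.1.2.2.2) τ =
      (𝒮.str.app (op (X.basicOpen (b i)))).hom (resO (hDW i) (b i)) *
        asR 𝒮.toQCAlg (j.app (X.basicOpen (b i)) (res L (hDW i) i.1.1.2)) ^ d := by
    intro i
    rw [← rS_rS i.1.2.2.2 (hDW i), hb i, rS_elem]
  -- step 1: numerators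
  have h1 : ∀ i : T, ∃ n : ℕ, ∃ a : Γ(X, i.1.1.1),
      resO (hDW i) a = resO (hDW i) (b i) ^ n * resO (hDle i) t := fun i =>
    exists_pow_mul_eq_resO i.1.2.1 (b i) rfl (hDW i) (resO (hDle i) t)
  obtain ⟨m₁, hm₁⟩ := exists_uniform (fun (i : T) (n : ℕ) => ∃ a : Γ(X, i.1.1.1),
      resO (hDW i) a = resO (hDW i) (b i) ^ n * resO (hDle i) t)
    (fun i n ⟨a, ha⟩ => ⟨b i * a, by rw [resO_mul, ha, pow_succ]; ring⟩) h1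
  have hm₀ : ∀ i : T, ∃ a : Γ(X, i.1.1.1),
      resO (hDW i) a = resO (hDW i) (b i) ^ (m₁ + 1) * resO (hDle i) t := fun i => by
    obtain ⟨a, ha⟩ := hm₁ i
    exact ⟨b i * a, by rw [resO_mul, ha, pow_succ]; ring⟩
  choose a ha using hm₀
  -- local extensions
  obtain ⟨τi, hτi_def⟩ : ∃ τi : ∀ i : T, 𝒮.presheaf.obj (op i.1.1.1), ∀ i : T, τi i =
      (𝒮.str.app (op i.1.1.1)).hom (a i) * asR 𝒮.toQCAlg (j.app i.1.1.1 i.1.1.2) ^ ((m₁ + 1) * d) :=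
    ⟨_, fun i => rfl⟩
  have hτi_deg : ∀ i : T, τi i ∈ 𝒮.deg i.1.1.1 i.1.2.1 ((m₁ + 1) * d) := fun i => by
    rw [hτi_def i]
    exact str_mul_pow_mem hS _ i.1.2.1 _ _
  have hA : ∀ i : T, rS 𝒮 (hDW i) (τi i) =
      (𝒮.str.app (op (X.basicOpen (b i)))).hom (resO (hDle i) t) *
        (rS 𝒮 ((hDW i).trans i.1.2.2.2) τ) ^ (m₁ + 1) := by
    intro i
    rw [hτi_def i, rS_elem, ha i, hτD i, map_mul, map_pow]
    ring
  -- step 2: the differences are killed by a power of `τ`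
  have h2 : ∀ p : T × T, ∃ k₀ : ℕ, ∀ k, k₀ ≤ k →
      (rS 𝒮 (inf_le_left.trans p.1.1.2.2.2 : p.1.1.1.1 ⊓ p.2.1.1.1 ≤ V) τ) ^ k *
        (rS 𝒮 (inf_le_left : p.1.1.1.1 ⊓ p.2.1.1.1 ≤ p.1.1.1.1) (τi p.1) -
          rS 𝒮 (inf_le_right : p.1.1.1.1 ⊓ p.2.1.1.1 ≤ p.2.1.1.1) (τi p.2)) = 0 := by
    rintro ⟨i, i'⟩
    have hc : IsCompact ((i.1.1.1 ⊓ i'.1.1.1 : X.Opens) : Set X) :=
      hVqs _ _ i.1.2.2.2 i.1.1.1.isOpen i.1.2.1.isCompact i'.1.2.2.2 i'.1.1.1.isOpen i'.1.2.1.isCompact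
    have hτ' : LocDeg 𝒮 d (i.1.1.1 ⊓ i'.1.1.1) (rS 𝒮 (inf_le_left.trans i.1.2.2.2) τ) := hτ.res _
    have hδ : LocDeg 𝒮 ((m₁ + 1) * d) (i.1.1.1 ⊓ i'.1.1.1)
        (rS 𝒮 (inf_le_left : i.1.1.1 ⊓ i'.1.1.1 ≤ i.1.1.1) (τi i) -
          rS 𝒮 (inf_le_right : i.1.1.1 ⊓ i'.1.1.1 ≤ i'.1.1.1) (τi i')) :=
      ((locDeg_of_mem_deg i.1.2.1 (hτi_deg i)).res _).sub ((locDeg_of_mem_deg i'.1.2.1 (hτi_deg i')).res _)
    refine exists_pow_mul_eq_zero_of_res_NVloc hS hL hc d ((m₁ + 1) * d) _ _ hτ' hδ ?_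
    -- vanishing on the nonvanishing locus
    have hN : NVloc 𝒮 d (i.1.1.1 ⊓ i'.1.1.1) (rS 𝒮 (inf_le_left.trans i.1.2.2.2) τ) =
        NVloc 𝒮 d V τ ⊓ (i.1.1.1 ⊓ i'.1.1.1) := NVloc_res hS hL hτ _
    have hNi : NVloc 𝒮 d (i.1.1.1 ⊓ i'.1.1.1) (rS 𝒮 (inf_le_left.trans i.1.2.2.2) τ) ≤ X.basicOpen (b i) := by
      intro x hx
      rw [hN] at hx
      exact hND i x hx.1 hx.2.1
    have hNi' : NVloc 𝒮 d (i.1.1.1 ⊓ i'.1.1.1) (rS 𝒮 (inf_le_left.trans i.1.2.2.2) τ) ≤ X.basicOpen (b i') := by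
      intro x hx
      rw [hN] at hx
      exact hND i' x hx.1 hx.2.2
    have hNN : NVloc 𝒮 d (i.1.1.1 ⊓ i'.1.1.1) (rS 𝒮 (inf_le_left.trans i.1.2.2.2) τ) ≤ NVloc 𝒮 d V τ := by
      intro x hx
      rw [hN] at hx
      exact hx.1
    rw [rS_sub, rS_rS, rS_rS, sub_eq_zero]
    have e1 := congrArg (rS 𝒮 hNi) (hA i)
    have e2 := congrArg (rS 𝒮 hNi') (hA i')
    rw [rS_rS, rS_mul, rS_str, rS_pow, rS_rS, resO_resO] at e1 e2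
    exact e1.trans e2.symm
  choose k₀ hk₀ using h2
  let K : ℕ := (Finset.univ : Finset (T × T)).sup k₀
  have hK : ∀ i i' : T,
      (rS 𝒮 (inf_le_left.trans i.1.2.2.2 : i.1.1.1 ⊓ i'.1.1.1 ≤ V) τ) ^ K *
        (rS 𝒮 (inf_le_left : i.1.1.1 ⊓ i'.1.1.1 ≤ i.1.1.1) (τi i) -
          rS 𝒮 (inf_le_right : i.1.1.1 ⊓ i'.1.1.1 ≤ i'.1.1.1) (τi i')) = 0 := fun i i' =>
    hk₀ (i, i') K (Finset.le_sup (f := k₀) (Finset.mem_univ (i, i')))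
  -- step 3: glue
  obtain ⟨ζ, hζ_def⟩ : ∃ ζ : ∀ i : T, 𝒮.presheaf.obj (op i.1.1.1), ∀ i : T, ζ i = (rS 𝒮 i.1.2.2.2 τ) ^ K * τi i :=
    ⟨_, fun i => rfl⟩
  obtain ⟨τ'm, hτ'm⟩ := exists_gluing 𝒮.toModule (fun i : T => i.1.1.1) V (fun i => i.1.2.2.2) hT
    (fun i => ofR 𝒮.toQCAlg (ζ i)) (by
      intro i i'
      show rS 𝒮 inf_le_left (ζ i) = rS 𝒮 inf_le_right (ζ i')
      rw [hζ_def i, hζ_def i', rS_mul, rS_mul, rS_pow, rS_pow, rS_rS, rS_rS, ← sub_eq_zero, ← mul_sub]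
      exact hK i i')
  let τ' : 𝒮.presheaf.obj (op V) := asR 𝒮.toQCAlg τ'm
  have hτ' : ∀ i : T, rS 𝒮 i.1.2.2.2 τ' = ζ i := fun i => hτ'm i
  refine ⟨K + (m₁ + 1), τ', by omega, ?_, ?_⟩
  · -- step 4: degrees
    intro W hW hWV
    let I := {p : X.affineOpens × T // (p.1.1 : X.Opens) ≤ W ∧ (p.1.1 : X.Opens) ≤ p.2.1.1.1}
    refine mem_deg_of_cover 𝒮 hW _ _ (fun p : I => (p.1.1.1 : X.Opens)) (fun p => p.1.1.2) (fun p => p.2.1) ?_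
      fun p => ?_
    · intro y hy
      obtain ⟨i, hyi⟩ := Opens.mem_iSup.1 (hT (hWV hy))
      obtain ⟨_, ⟨W', hW', rfl⟩, hyW', hW'le⟩ := X.isBasis_affineOpens.exists_subset_of_mem_open
        (show y ∈ ((W ⊓ i.1.1.1 : X.Opens) : Set X) from ⟨hy, hyi⟩) (W ⊓ i.1.1.1).isOpen
      exact Opens.mem_iSup.2 ⟨⟨(⟨W', hW'⟩, i), fun z hz => (hW'le hz).1, fun z hz => (hW'le hz).2⟩, hyW'⟩
    · obtain ⟨⟨⟨W', hW'⟩, i⟩, hW'W, hW'i⟩ := p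
      show rS 𝒮 hW'W (rS 𝒮 hWV τ') ∈ 𝒮.deg W' hW' ((K + (m₁ + 1)) * d)
      have e : rS 𝒮 hW'W (rS 𝒮 hWV τ') = (rS 𝒮 (hW'W.trans hWV) τ) ^ K * rS 𝒮 hW'i (τi i) := by
        rw [rS_rS, ← rS_rS i.1.2.2.2 hW'i, hτ' i, hζ_def i, rS_mul, rS_pow, rS_rS]
      rw [e]
      have h3 := SetLike.pow_mem_graded K (hτ W' hW' (hW'W.trans hWV))
      have h4 := 𝒮.map_mem i.1.2.1 hW' hW'i (hτi_deg i)
      have h5 := SetLike.mul_mem_graded h3 h4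
      have e2 : K • d + (m₁ + 1) * d = (K + (m₁ + 1)) * d := by
        rw [smul_eq_mul]
        ring
      rw [e2] at h5
      exact h5
  · -- step 5: the restriction to the nonvanishing locus
    refine eq_of_locally_eq 𝒮.toModule (fun i : T => X.basicOpen (b i)) (NVloc 𝒮 d V τ) hDle ?_
      (ofR 𝒮.toQCAlg (rS 𝒮 (NVloc_le d V τ) τ'))
      (ofR 𝒮.toQCAlg ((𝒮.str.app (op (NVloc 𝒮 d V τ))).hom t * (rS 𝒮 (NVloc_le d V τ) τ) ^ (K + (m₁ + 1))))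
      fun i => ?_
    · intro x hx
      obtain ⟨i, hxi⟩ := Opens.mem_iSup.1 (hT (NVloc_le d V τ hx))
      exact Opens.mem_iSup.2 ⟨i, hND i x hx hxi⟩
    · show rS 𝒮 (hDle i) (rS 𝒮 (NVloc_le d V τ) τ') =
        rS 𝒮 (hDle i) ((𝒮.str.app (op (NVloc 𝒮 d V τ))).hom t * (rS 𝒮 (NVloc_le d V τ) τ) ^ (K + (m₁ + 1)))
      rw [rS_rS, rS_mul, rS_str, rS_pow, rS_rS, ← rS_rS i.1.2.2.2 (hDW i), hτ' i, hζ_def i,
        rS_mul, rS_pow, rS_rS, hA i, pow_add]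
      ring

end ext

end Groth.Agent.Lib.Helper28.SymPow
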