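import Groth.Agent.Lib.Helper28.SymPowH

/-!
# Calculus of the nonvanishing loci `NVloc` (helper28)
-/

set_option autoImplicit false
universe u
open CategoryTheory CategoryTheory.Limits AlgebraicGeometry Opposite TopologicalSpace
noncomputable section

namespace Groth.Agent.Lib.Helper28.SymPow

open Groth.Agent.Lib.Helper28 Groth.Agent.Lib.Helper28.QCohLoc Groth.Agent.Lib.Helper28.TraceAlg
open Groth.Agent.Lib.Helper28.GenLocus Groth.Agent.Lib.Helper28.SymAlg Groth.Agent.Lib.Helper28.AmpleUnit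
open Groth.Agent.Lib.Helper28.RLPsi

attribute [local instance] algAt

section nv

variable {X : Scheme.{u}} {L : X.Modules} [L.IsQuasicoherent]
  {𝒮 : RelProj.QCGrAlg X} {j : L ⟶ 𝒮.toModule} (hS : RelProj.IsGrSymAlg L 𝒮 j) (hL : PicF.IsInvertible L)

include hS hL in
theorem NVloc_mul {d₁ d₂ : ℕ} {V : X.Opens} {τ₁ τ₂ : 𝒮.presheaf.obj (op V)} (h₁ : LocDeg 𝒮 d₁ V τ₁)
    (h₂ : LocDeg 𝒮 d₂ V τ₂) :
    NVloc 𝒮 (d₁ + d₂) V (τ₁ * τ₂) = NVloc 𝒮 d₁ V τ₁ ⊓ NVloc 𝒮 d₂ V τ₂ := by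
  refine Opens.ext (Set.ext fun x => ?_)
  show x ∈ NVloc 𝒮 (d₁ + d₂) V (τ₁ * τ₂) ↔ x ∈ NVloc 𝒮 d₁ V τ₁ ∧ x ∈ NVloc 𝒮 d₂ V τ₂
  by_cases hxV : x ∈ V
  · obtain ⟨W₁, g, hxW₁, hW₁, hg, hW₁V⟩ := exists_isGen_affine_le hL x V hxV
    obtain ⟨b₁, hb₁⟩ := exists_eq_str_mul_pow hS hW₁ hg d₁ _ (h₁ W₁ hW₁ hW₁V)
    obtain ⟨b₂, hb₂⟩ := exists_eq_str_mul_pow hS hW₁ hg d₂ _ (h₂ W₁ hW₁ hW₁V)
    have hb : rS 𝒮 hW₁V (τ₁ * τ₂) =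
        (𝒮.str.app (op W₁)).hom (b₁ * b₂) * asR 𝒮.toQCAlg (j.app W₁ g) ^ (d₁ + d₂) := by
      rw [rS_mul, hb₁, hb₂, map_mul, pow_add]
      ring
    rw [mem_NVloc_iff_mem_basicOpen hS (d₁ + d₂) V _ hW₁ hg hW₁V (b₁ * b₂) hb x hxW₁,
      mem_NVloc_iff_mem_basicOpen hS d₁ V τ₁ hW₁ hg hW₁V b₁ hb₁ x hxW₁,
      mem_NVloc_iff_mem_basicOpen hS d₂ V τ₂ hW₁ hg hW₁V b₂ hb₂ x hxW₁, Scheme.basicOpen_mul]
    rfl
  · exact ⟨fun h => absurd (NVloc_le _ V _ h) hxV, fun h => absurd (NVloc_le _ V _ h.1) hxV⟩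

include hS hL in
theorem NVloc_pow {d m : ℕ} (hm : 0 < m) {V : X.Opens} {τ : 𝒮.presheaf.obj (op V)} (h : LocDeg 𝒮 d V τ) :
    NVloc 𝒮 (m * d) V (τ ^ m) = NVloc 𝒮 d V τ := by
  refine Opens.ext (Set.ext fun x => ?_)
  show x ∈ NVloc 𝒮 (m * d) V (τ ^ m) ↔ x ∈ NVloc 𝒮 d V τ
  by_cases hxV : x ∈ V
  · obtain ⟨W₁, g, hxW₁, hW₁, hg, hW₁V⟩ := exists_isGen_affine_le hL x V hxV
    obtain ⟨b, hb⟩ := exists_eq_str_mul_pow hS hW₁ hg d _ (h W₁ hW₁ hW₁V)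
    have hb' : rS 𝒮 hW₁V (τ ^ m) =
        (𝒮.str.app (op W₁)).hom (b ^ m) * asR 𝒮.toQCAlg (j.app W₁ g) ^ (m * d) := by
      rw [rS_pow, hb, map_pow, mul_pow, ← pow_mul, mul_comm d m]
    rw [mem_NVloc_iff_mem_basicOpen hS (m * d) V _ hW₁ hg hW₁V (b ^ m) hb' x hxW₁,
      mem_NVloc_iff_mem_basicOpen hS d V τ hW₁ hg hW₁V b hb x hxW₁, Scheme.basicOpen_pow X b hm]
  · exact ⟨fun h => absurd (NVloc_le _ V _ h) hxV, fun h => absurd (NVloc_le _ V _ h) hxV⟩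

include hS hL in
theorem NVloc_str {V : X.Opens} (a : Γ(X, V)) :
    NVloc 𝒮 0 V ((𝒮.str.app (op V)).hom a) = X.basicOpen a := by
  refine Opens.ext (Set.ext fun x => ?_)
  show x ∈ NVloc 𝒮 0 V ((𝒮.str.app (op V)).hom a) ↔ x ∈ X.basicOpen a
  by_cases hxV : x ∈ V
  · obtain ⟨W₁, g, hxW₁, hW₁, hg, hW₁V⟩ := exists_isGen_affine_le hL x V hxV
    have hb : rS 𝒮 hW₁V ((𝒮.str.app (op V)).hom a) =
        (𝒮.str.app (op W₁)).hom (resO hW₁V a) * asR 𝒮.toQCAlg (j.app W₁ g) ^ 0 := by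
      rw [rS_str, pow_zero, mul_one]
    rw [mem_NVloc_iff_mem_basicOpen hS 0 V _ hW₁ hg hW₁V (resO hW₁V a) hb x hxW₁]
    have h1 : X.basicOpen (resO hW₁V a) = W₁ ⊓ X.basicOpen a := Scheme.basicOpen_res X a (homOfLE hW₁V).op
    rw [h1]
    exact ⟨fun h => h.2, fun h => ⟨hxW₁, h⟩⟩
  · exact ⟨fun h => absurd (NVloc_le _ V _ h) hxV, fun h => absurd (X.basicOpen_le a h) hxV⟩

include hS hL in
theorem NVloc_gen {V : X.Opens} {t : Γ(L, V)} (ht : IsGen L V t) :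
    NVloc 𝒮 1 V (asR 𝒮.toQCAlg (j.app V t)) = V := by
  refine le_antisymm (NVloc_le _ V _) fun x hxV => ?_
  obtain ⟨_, ⟨W₁, hW₁, rfl⟩, hxW₁, hW₁V⟩ := X.isBasis_affineOpens.exists_subset_of_mem_open hxV V.isOpen
  have hW₁V' : W₁ ≤ V := hW₁V
  have hg : IsGen L W₁ (res L hW₁V' t) := ht.res hW₁V'
  have hb : rS 𝒮 hW₁V' (asR 𝒮.toQCAlg (j.app V t)) =
      (𝒮.str.app (op W₁)).hom 1 * asR 𝒮.toQCAlg (j.app W₁ (res L hW₁V' t)) ^ 1 := by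
    rw [rS_j, map_one, one_mul, pow_one]
  rw [mem_NVloc_iff_mem_basicOpen hS 1 V _ hW₁ hg hW₁V' 1 hb x hxW₁, Scheme.basicOpen_one]
  exact hxW₁

include hS hL in
theorem NVloc_self {d : ℕ} {V : X.Opens} {τ : 𝒮.presheaf.obj (op V)} (h : LocDeg 𝒮 d V τ) :
    NVloc 𝒮 d (NVloc 𝒮 d V τ) (rS 𝒮 (NVloc_le d V τ) τ) = NVloc 𝒮 d V τ := by
  rw [NVloc_res hS hL h (NVloc_le d V τ), inf_idem]

include hS hL in
/-- the nonvanishing locus of an extension `τ'` of `σ τ^m` -/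
theorem NVloc_inf_of_res_eq {d e₀ m : ℕ} (hm : 0 < m) {V : X.Opens} {τ τ' : 𝒮.presheaf.obj (op V)}
    (hτ : LocDeg 𝒮 d V τ) (hτ' : LocDeg 𝒮 (e₀ + m * d) V τ')
    (σ : 𝒮.presheaf.obj (op (NVloc 𝒮 d V τ))) (hσ : LocDeg 𝒮 e₀ (NVloc 𝒮 d V τ) σ)
    (h : rS 𝒮 (NVloc_le d V τ) τ' = σ * (rS 𝒮 (NVloc_le d V τ) τ) ^ m) :
    NVloc 𝒮 (e₀ + m * d) V τ' ⊓ NVloc 𝒮 d V τ = NVloc 𝒮 e₀ (NVloc 𝒮 d V τ) σ := by
  rw [← NVloc_res hS hL hτ' (NVloc_le d V τ), h,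
    NVloc_mul hS hL hσ ((hτ.res (NVloc_le d V τ)).pow m),
    NVloc_pow hS hL hm (hτ.res (NVloc_le d V τ)), NVloc_self hS hL hτ]
  exact inf_eq_left.2 (NVloc_le _ _ _)

end nv

end Groth.Agent.Lib.Helper28.SymPow
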