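import Groth.Prelude.Def_SymProd
import Groth.Agent.Lib.Helper4.PrimeAvoidOpen

/-!
# Orbits of the symmetric group on fibre powers of (AF)-schemes lie in affine opens
-/

set_option autoImplicit false
universe u
open CategoryTheory CategoryTheory.Limits AlgebraicGeometry Opposite TopologicalSpace
noncomputable section

namespace Groth.Agent.Lib.Helper28.SymProdAF

variable {X S : Scheme.{u}} (f : X ⟶ S) (d : ℕ)

/-- the open subset of the fibre power consisting of the points all of whose coordinates lie in `W`, over `V` -/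
def box (V : S.Opens) (W : X.Opens) : (SymProd.fibPow f d).Opens where
  carrier := {z | (WidePullback.base (fun _ : Fin d => f)) z ∈ V ∧
    ∀ i : Fin d, (WidePullback.π (fun _ : Fin d => f) i) z ∈ W}
  is_open' := by
    have h : {z : ↥(SymProd.fibPow f d) | (WidePullback.base (fun _ : Fin d => f)) z ∈ V ∧
        ∀ i : Fin d, (WidePullback.π (fun _ : Fin d => f) i) z ∈ W} =
        (((WidePullback.base (fun _ : Fin d => f)) ⁻¹ᵁ V : (SymProd.fibPow f d).Opens) : Set _) ∩
          ⋂ i : Fin d, (((WidePullback.π (fun _ : Fin d => f) i) ⁻¹ᵁ W : (SymProd.fibPow f d).Opens) : Set _) := by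
      ext z
      simp only [Set.mem_setOf_eq, Set.mem_inter_iff, Set.mem_iInter]
      rfl
    rw [h]
    exact ((WidePullback.base (fun _ : Fin d => f)) ⁻¹ᵁ V).isOpen.inter
      (isOpen_iInter_of_finite fun i => ((WidePullback.π (fun _ : Fin d => f) i) ⁻¹ᵁ W).isOpen)

theorem mem_box (V : S.Opens) (W : X.Opens) (z : ↥(SymProd.fibPow f d)) :
    z ∈ box f d V W ↔ (WidePullback.base (fun _ : Fin d => f)) z ∈ V ∧
      ∀ i : Fin d, (WidePullback.π (fun _ : Fin d => f) i) z ∈ W := Iff.rfl

/-- the box is stable under permutations of the factors -/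
theorem permHom_mem_box (V : S.Opens) (W : X.Opens) (σ : Equiv.Perm (Fin d)) (z : ↥(SymProd.fibPow f d))
    (hz : z ∈ box f d V W) : (SymProd.permHom f d σ) z ∈ box f d V W := by
  refine ⟨?_, fun i => ?_⟩
  · rw [← Scheme.Hom.comp_apply, SymProd.permHom_base]
    exact hz.1
  · rw [← Scheme.Hom.comp_apply, SymProd.permHom_π]
    exact hz.2 _

section affine

variable (V : S.Opens) (W : X.Opens) (hWV : W ≤ f ⁻¹ᵁ V)

/-- the restriction `W ⟶ V` of `f` -/
def fW : (W : Scheme.{u}) ⟶ (V : Scheme.{u}) :=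
  IsOpenImmersion.lift V.ι (W.ι ≫ f) (by
    rintro _ ⟨w, rfl⟩
    rw [Scheme.Opens.range_ι, Scheme.Hom.comp_apply]
    exact hWV w.2)

theorem fW_ι : fW f V W hWV ≫ V.ι = W.ι ≫ f := IsOpenImmersion.lift_fac _ _ _

/-- the projection of the box to `V` -/
def boxBase : ((box f d V W : (SymProd.fibPow f d).Opens) : Scheme.{u}) ⟶ (V : Scheme.{u}) :=
  IsOpenImmersion.lift V.ι ((box f d V W).ι ≫ WidePullback.base (fun _ : Fin d => f)) (by
    rintro _ ⟨z, rfl⟩
    rw [Scheme.Opens.range_ι, Scheme.Hom.comp_apply]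
    exact z.2.1)

theorem boxBase_ι : boxBase f d V W ≫ V.ι = (box f d V W).ι ≫ WidePullback.base (fun _ : Fin d => f) :=
  IsOpenImmersion.lift_fac _ _ _

/-- the projections of the box to `W` -/
def boxπ (i : Fin d) : ((box f d V W : (SymProd.fibPow f d).Opens) : Scheme.{u}) ⟶ (W : Scheme.{u}) :=
  IsOpenImmersion.lift W.ι ((box f d V W).ι ≫ WidePullback.π (fun _ : Fin d => f) i) (by
    rintro _ ⟨z, rfl⟩
    rw [Scheme.Opens.range_ι, Scheme.Hom.comp_apply]
    exact z.2.2 i)

theorem boxπ_ι (i : Fin d) :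
    boxπ f d V W i ≫ W.ι = (box f d V W).ι ≫ WidePullback.π (fun _ : Fin d => f) i :=
  IsOpenImmersion.lift_fac _ _ _

theorem boxπ_fW (i : Fin d) : boxπ f d V W i ≫ fW f V W hWV = boxBase f d V W := by
  rw [← cancel_mono V.ι, Category.assoc, fW_ι, ← Category.assoc, boxπ_ι, Category.assoc,
    WidePullback.π_arrow, boxBase_ι]

/-- the box as a cone over the wide cospan of `W ⟶ V` -/
def boxCone : WidePullbackCone (fun _ : Fin d => fW f V W hWV) :=
  WidePullbackCone.mk (boxBase f d V W) (boxπ f d V W) (boxπ_fW f d V W hWV)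

/-- the morphism to the fibre power induced by a cone over `W ⟶ V` -/
def toPow (t : WidePullbackCone (fun _ : Fin d => fW f V W hWV)) : t.pt ⟶ SymProd.fibPow f d :=
  WidePullback.lift (t.base ≫ V.ι) (fun i => t.π i ≫ W.ι) (fun i => by
    rw [Category.assoc, ← fW_ι f V W hWV, ← Category.assoc, t.condition])

theorem toPow_range (t : WidePullbackCone (fun _ : Fin d => fW f V W hWV)) :
    Set.range (toPow f d V W hWV t) ⊆ Set.range (box f d V W).ι := by
  rintro _ ⟨z, rfl⟩
  rw [Scheme.Opens.range_ι]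
  refine ⟨?_, fun i => ?_⟩
  · rw [← Scheme.Hom.comp_apply]
    unfold toPow
    rw [WidePullback.lift_base, Scheme.Hom.comp_apply]
    exact (t.base z).2
  · rw [← Scheme.Hom.comp_apply]
    unfold toPow
    rw [WidePullback.lift_π, Scheme.Hom.comp_apply]
    exact (t.π i z).2

/-- the lift of a cone to the box -/
def boxLift (t : WidePullbackCone (fun _ : Fin d => fW f V W hWV)) :
    t.pt ⟶ ((box f d V W : (SymProd.fibPow f d).Opens) : Scheme.{u}) :=
  IsOpenImmersion.lift (box f d V W).ι (toPow f d V W hWV t) (toPow_range f d V W hWV t)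

theorem boxLift_ι (t : WidePullbackCone (fun _ : Fin d => fW f V W hWV)) :
    boxLift f d V W hWV t ≫ (box f d V W).ι = toPow f d V W hWV t :=
  IsOpenImmersion.lift_fac _ _ _

theorem boxLift_base (t : WidePullbackCone (fun _ : Fin d => fW f V W hWV)) :
    boxLift f d V W hWV t ≫ boxBase f d V W = t.base := by
  rw [← cancel_mono V.ι, Category.assoc, boxBase_ι, ← Category.assoc, boxLift_ι]
  unfold toPow
  rw [WidePullback.lift_base]

theorem boxLift_π (t : WidePullbackCone (fun _ : Fin d => fW f V W hWV)) (i : Fin d) :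
    boxLift f d V W hWV t ≫ boxπ f d V W i = t.π i := by
  rw [← cancel_mono W.ι, Category.assoc, boxπ_ι, ← Category.assoc, boxLift_ι]
  unfold toPow
  rw [WidePullback.lift_π]

theorem boxLift_uniq (t : WidePullbackCone (fun _ : Fin d => fW f V W hWV))
    (m : t.pt ⟶ ((box f d V W : (SymProd.fibPow f d).Opens) : Scheme.{u}))
    (hb : m ≫ boxBase f d V W = t.base) (hπ : ∀ i, m ≫ boxπ f d V W i = t.π i) :
    m = boxLift f d V W hWV t := by
  rw [← cancel_mono (box f d V W).ι, boxLift_ι]
  unfold toPow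
  apply WidePullback.hom_ext
  · intro i
    rw [WidePullback.lift_π, Category.assoc, ← boxπ_ι, ← Category.assoc, hπ i]
  · rw [WidePullback.lift_base, Category.assoc, ← boxBase_ι, ← Category.assoc, hb]

/-- the box is the wide pullback of `W ⟶ V` -/
def boxIsLimit : IsLimit (boxCone f d V W hWV) :=
  WidePullbackCone.IsLimit.mk _
    (fun t => boxLift f d V W hWV t)
    (fun t => boxLift_base f d V W hWV t)
    (fun t i => boxLift_π f d V W hWV t i)
    (fun t m hb hπ => boxLift_uniq f d V W hWV t m hb hπ)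

include hWV in
/-- the box over affine opens is affine -/
theorem isAffineOpen_box (hV : IsAffineOpen V) (hW : IsAffineOpen W) : IsAffineOpen (box f d V W) := by
  have hV' : IsAffine (V : Scheme.{u}) := hV
  have hW' : IsAffine (W : Scheme.{u}) := hW
  have hall : ∀ i : WidePullbackShape (Fin d),
      IsAffine ((WidePullbackShape.wideCospan (V : Scheme.{u}) (fun _ : Fin d => (W : Scheme.{u}))
        (fun _ => fW f V W hWV)).obj i) := by
    intro i
    cases i with
    | none => exact hV'
    | some i => exact hW'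
  exact Scheme.isAffine_of_isLimit (boxCone f d V W hWV) (boxIsLimit f d V W hWV)

end affine

/-- **orbits of the symmetric group on a fibre power of an (AF)-scheme lie in affine opens** -/
theorem exists_affineOpen_orbit (hAF : SymProd.IsAF f) (x : ↥(SymProd.fibPow f d)) :
    ∃ U : (SymProd.fibPow f d).Opens, IsAffineOpen U ∧
      ∀ σ : Equiv.Perm (Fin d), (SymProd.permHom f d σ).base x ∈ U := by
  classical
  let T : Finset X := Finset.univ.image (fun i : Fin d => (WidePullback.π (fun _ : Fin d => f) i) x)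
  have hT : ∀ t ∈ T, f.base t = (WidePullback.base (fun _ : Fin d => f)) x := by
    intro t ht
    obtain ⟨i, -, rfl⟩ := Finset.mem_image.1 ht
    show f ((WidePullback.π (fun _ : Fin d => f) i) x) = _
    rw [← Scheme.Hom.comp_apply, WidePullback.π_arrow]
  obtain ⟨U₀, hU₀, hTU₀⟩ := hAF _ T hT
  obtain ⟨_, ⟨V, hV, rfl⟩, hsV, -⟩ := S.isBasis_affineOpens.exists_subset_of_mem_open
    (show (WidePullback.base (fun _ : Fin d => f)) x ∈ ((⊤ : S.Opens) : Set S) from trivial) (⊤ : S.Opens).isOpen
  obtain ⟨g, hTg, hgle⟩ := Groth.Agent.Lib.Helper4.PrimeAvoidOpen.scheme_version U₀ hU₀ (f ⁻¹ᵁ V) (T : Set X)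
    T.finite_toSet (fun t ht => hTU₀ t ht) (fun t ht => by
      show f t ∈ V
      have := hT t ht
      rw [show f t = (WidePullback.base (fun _ : Fin d => f)) x from this]
      exact hsV)
  have hW : IsAffineOpen (X.basicOpen g) := hU₀.basicOpen g
  refine ⟨box f d V (X.basicOpen g), isAffineOpen_box f d V (X.basicOpen g) hgle hV hW, fun σ => ?_⟩
  refine permHom_mem_box f d V (X.basicOpen g) σ x ⟨hsV, fun i => ?_⟩
  exact hTg (Finset.mem_coe.2 (Finset.mem_image.2 ⟨i, Finset.mem_univ _, rfl⟩))

end Groth.Agent.Lib.Helper28.SymProdAF
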