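import Mathlib

set_option autoImplicit false
set_option linter.style.haveILetI false
universe u v
open scoped Pointwise

namespace Groth.Agent.Lib.Helper28.TameTrace

/-- summing a right-`H`-invariant function over a finite group -/
theorem sum_eq_card_nsmul_sum {G : Type*} [Group G] [Fintype G] (H : Subgroup G)
    {M : Type*} [AddCommMonoid M] (f : G → M) (hf : ∀ g : G, ∀ h ∈ H, f (g * h) = f g)
    [Fintype (G ⧸ H)] :
    ∑ g, f g = Nat.card H • ∑ q : G ⧸ H, f q.out := by
  classical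
  haveI : Fintype H := Fintype.ofFinite H
  let Φ : (G ⧸ H) × H → G := fun p => p.1.out * p.2
  have hΦ : Function.Bijective Φ := by
    constructor
    · rintro ⟨q, h⟩ ⟨q', h'⟩ e
      have e' : q.out * (h : G) = q'.out * (h' : G) := e
      have h1 : (QuotientGroup.mk (q.out * (h : G)) : G ⧸ H) = q := by
        rw [QuotientGroup.mk_mul_of_mem _ h.2, QuotientGroup.out_eq']
      have h2 : (QuotientGroup.mk (q'.out * (h' : G)) : G ⧸ H) = q' := by
        rw [QuotientGroup.mk_mul_of_mem _ h'.2, QuotientGroup.out_eq']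
      have hq : q = q' := by rw [← h1, ← h2, e']
      subst hq
      have : (h : G) = h' := mul_left_cancel e'
      rw [Subtype.ext this]
    · intro g
      obtain ⟨h, hh⟩ := QuotientGroup.mk_out_eq_mul H g
      refine ⟨((QuotientGroup.mk g : G ⧸ H), h⁻¹), ?_⟩
      change (QuotientGroup.mk g : G ⧸ H).out * ((h⁻¹ : H) : G) = g
      rw [hh, Subgroup.coe_inv, mul_inv_cancel_right]
  rw [← hΦ.sum_comp f, Fintype.sum_prod_type, Finset.smul_sum]
  refine Finset.sum_congr rfl fun q _ => ?_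
  have : ∀ h : H, f (Φ (q, h)) = f q.out := fun h => hf _ _ h.2
  rw [Finset.sum_congr rfl (fun h _ => this h), Finset.sum_const, Finset.card_univ,
    Nat.card_eq_fintype_card]

variable (B : Type u) [CommRing B] (Γ : Type v) [Group Γ] [Fintype Γ] [MulSemiringAction Γ B]

/-- (⇒): if the trace is onto then every prime is tame -/
theorem tame_of_trace {b : B} (hb : ∑ γ : Γ, γ • b = 1) (P : Ideal B) [hP : P.IsPrime] :
    ((Nat.card (P.inertia Γ) : ℕ) : B ⧸ P) ≠ 0 := by
  classical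
  intro h0
  haveI : Fintype (Γ ⧸ P.inertia Γ) := Fintype.ofFinite _
  have h1 : ∑ γ : Γ, Ideal.Quotient.mk P (γ⁻¹ • b) =
      Nat.card (P.inertia Γ) • ∑ q : Γ ⧸ P.inertia Γ, Ideal.Quotient.mk P ((q.out)⁻¹ • b) := by
    refine sum_eq_card_nsmul_sum (P.inertia Γ) (fun γ => Ideal.Quotient.mk P (γ⁻¹ • b)) ?_
    intro g t ht
    rw [mul_inv_rev, mul_smul, Ideal.Quotient.eq]
    exact (inv_mem ht) (g⁻¹ • b)
  have h2 : ∑ γ : Γ, Ideal.Quotient.mk P (γ⁻¹ • b) = 1 := by
    rw [← map_sum, ← map_one (Ideal.Quotient.mk P), ← hb]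
    congr 1
    exact Equiv.sum_comp (Equiv.inv Γ) (fun γ => γ • b)
  rw [h2, nsmul_eq_mul, h0, zero_mul] at h1
  exact one_ne_zero h1

variable {B Γ}

/-- the character `x ↦ γ • x mod P` -/
noncomputable def chi (P : Ideal B) (γ : Γ) : B →* B ⧸ P :=
  ((Ideal.Quotient.mk P).comp (MulSemiringAction.toRingHom Γ B γ)).toMonoidHom

omit [Fintype Γ] in
theorem chi_apply (P : Ideal B) (γ : Γ) (x : B) : chi P γ x = Ideal.Quotient.mk P (γ • x) := rfl

omit [Fintype Γ] in
theorem inv_mul_mem_inertia_of_chi_eq (P : Ideal B) {γ γ' : Γ}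
    (hγ' : γ' ∈ MulAction.stabilizer Γ P) (h : chi P γ = chi P γ') :
    γ'⁻¹ * γ ∈ P.inertia Γ := by
  intro x
  have h1 : γ • x - γ' • x ∈ P := by
    have := congr($h x)
    rw [chi_apply, chi_apply, Ideal.Quotient.eq] at this
    exact this
  have h2 : γ'⁻¹ • (γ • x - γ' • x) ∈ γ'⁻¹ • P := Ideal.smul_mem_pointwise_smul _ _ _ h1
  have h3 : γ'⁻¹ • P = P := (inv_mem hγ' : γ'⁻¹ ∈ MulAction.stabilizer Γ P)
  rw [h3, smul_sub, smul_smul, inv_smul_smul] at h2
  exact h2

omit [Fintype Γ] in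
theorem chi_mul_of_mem_inertia (P : Ideal B) {γ t : Γ} (hγ : γ ∈ MulAction.stabilizer Γ P)
    (ht : t ∈ P.inertia Γ) (x : B) : chi P (γ * t) x = chi P γ x := by
  rw [chi_apply, chi_apply, Ideal.Quotient.eq, mul_smul, ← smul_sub]
  have h1 : γ • (t • x - x) ∈ γ • P := Ideal.smul_mem_pointwise_smul _ _ _ (ht x)
  have h3 : γ • P = P := hγ
  rw [h3] at h1
  exact h1

/-- a CRT element: `1` mod `P`, and in all other conjugates of `P` -/
theorem exists_crt (P : Ideal B) [hP : P.IsMaximal] :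
    ∃ e : B, e - 1 ∈ P ∧ ∀ γ : Γ, γ • P ≠ P → e ∈ γ • P := by
  classical
  let S : Finset Γ := Finset.univ.filter (fun γ => γ • P ≠ P)
  have hnot : ¬ (S.inf (fun γ => γ • P)) ≤ P := by
    intro hle
    obtain ⟨γ, hγ, hγP⟩ := (Ideal.IsPrime.inf_le' hP.isPrime).1 hle
    have hne : γ • P ≠ P := (Finset.mem_filter.1 hγ).2
    haveI : (γ • P).IsMaximal := by
      rw [Ideal.pointwise_smul_eq_comap]
      exact Ideal.comap_isMaximal_of_surjective _ (MulSemiringAction.toRingEquiv Γ B γ⁻¹).surjective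
    exact hne (Ideal.IsMaximal.eq_of_le inferInstance hP.ne_top hγP)
  obtain ⟨e₀, he₀, he₀P⟩ := SetLike.not_le_iff_exists.1 hnot
  obtain ⟨c, i, hi, hc⟩ := hP.exists_inv he₀P
  refine ⟨c * e₀, ?_, fun γ hγ => ?_⟩
  · have : c * e₀ - 1 = -i := by rw [← hc]; ring
    rw [this]; exact P.neg_mem hi
  · have h1 : e₀ ∈ γ • P := (Finset.inf_le (f := fun γ => γ • P) (Finset.mem_filter.2
      ⟨Finset.mem_univ γ, hγ⟩)) he₀
    exact Ideal.mul_mem_left _ c h1

/-- KEY: at a tame maximal ideal some trace is a unit -/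
theorem exists_trace_notMem (P : Ideal B) [hP : P.IsMaximal]
    (htame : ((Nat.card (P.inertia Γ) : ℕ) : B ⧸ P) ≠ 0) :
    ∃ b : B, ∑ γ : Γ, γ • b ∉ P := by
  classical
  set D : Subgroup Γ := MulAction.stabilizer Γ P with hD
  have hTD : P.inertia Γ ≤ D := Ideal.inertia_le_stabilizer P
  let T' : Subgroup D := (P.inertia Γ).subgroupOf D
  haveI : Fintype D := Fintype.ofFinite D
  haveI : Fintype (D ⧸ T') := Fintype.ofFinite _
  haveI : IsDomain (B ⧸ P) := Ideal.Quotient.isDomain P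
  obtain ⟨e, he1, he2⟩ := exists_crt (Γ := Γ) P
  -- Dedekind
  have hinj : Function.Injective (fun q : D ⧸ T' => chi P ((q.out : D) : Γ)) := by
    intro q q' h
    have h1 := inv_mul_mem_inertia_of_chi_eq P (q'.out : D).2 h
    have h2 : (q'.out)⁻¹ * q.out ∈ T' := h1
    have h3 : (QuotientGroup.mk q'.out : D ⧸ T') = QuotientGroup.mk q.out := QuotientGroup.eq.2 h2
    rw [QuotientGroup.out_eq', QuotientGroup.out_eq'] at h3
    exact h3.symm
  have hli : LinearIndependent (B ⧸ P) (fun q : D ⧸ T' => (chi P ((q.out : D) : Γ) : B → B ⧸ P)) :=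
    (linearIndependent_monoidHom B (B ⧸ P)).comp _ hinj
  have hx : ∃ x : B, ∑ q : D ⧸ T', chi P ((q.out : D) : Γ) x ≠ 0 := by
    by_contra hcon
    push Not at hcon
    have h0 : ∑ q : D ⧸ T', (1 : B ⧸ P) • (chi P ((q.out : D) : Γ) : B → B ⧸ P) = 0 := by
      funext x
      simp only [one_smul, Finset.sum_apply, Pi.zero_apply]
      exact hcon x
    have := Fintype.linearIndependent_iff.1 hli (fun _ => 1) h0 (QuotientGroup.mk 1)
    exact one_ne_zero this
  obtain ⟨x, hx⟩ := hx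
  refine ⟨x * e, fun hmem => ?_⟩
  -- compute the trace mod P
  have hterm : ∀ γ : Γ, Ideal.Quotient.mk P (γ • (x * e)) =
      if γ ∈ D then chi P γ x else 0 := by
    intro γ
    split_ifs with hγ
    · rw [chi_apply, smul_mul', map_mul]
      have h1 : γ • e - 1 ∈ P := by
        have h2 : γ • (e - 1) ∈ γ • P := Ideal.smul_mem_pointwise_smul _ _ _ he1
        have h3 : γ • P = P := hγ
        rw [h3, smul_sub, smul_one] at h2
        exact h2
      rw [(Ideal.Quotient.eq.2 h1 : Ideal.Quotient.mk P (γ • e) = Ideal.Quotient.mk P 1), map_one,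
        mul_one]
    · rw [Ideal.Quotient.eq_zero_iff_mem]
      have hγ' : γ⁻¹ • P ≠ P := by
        intro h
        apply hγ
        have : γ⁻¹ ∈ D := h
        simpa using inv_mem this
      have h1 : x * e ∈ γ⁻¹ • P := Ideal.mul_mem_left _ _ (he2 γ⁻¹ hγ')
      rwa [Ideal.mem_inv_pointwise_smul_iff] at h1
  have hsum : Ideal.Quotient.mk P (∑ γ : Γ, γ • (x * e)) = ∑ d : D, chi P (d : Γ) x := by
    rw [map_sum, Finset.sum_congr rfl (fun γ _ => hterm γ), ← Finset.sum_filter]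
    exact Finset.sum_subtype (Finset.univ.filter (· ∈ D)) (by simp) (fun γ => chi P γ x)
  have hsum2 : ∑ d : D, chi P (d : Γ) x =
      Nat.card T' • ∑ q : D ⧸ T', chi P ((q.out : D) : Γ) x := by
    refine sum_eq_card_nsmul_sum T' (fun d : D => chi P (d : Γ) x) ?_
    intro d t ht
    exact chi_mul_of_mem_inertia P d.2 ht x
  have hcard : Nat.card T' = Nat.card (P.inertia Γ) :=
    Nat.card_congr (Subgroup.subgroupOfEquivOfLe hTD).toEquiv
  rw [← Ideal.Quotient.eq_zero_iff_mem, hsum, hsum2, hcard, nsmul_eq_mul] at hmem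
  exact (mul_ne_zero htame hx) hmem

variable (B Γ)

instance smulCommClass_fixed : SMulCommClass Γ (FixedPoints.subring B Γ) B :=
  ⟨fun γ a b => by
    change γ • ((a : B) * b) = (a : B) * γ • b
    rw [smul_mul', a.2 γ]⟩

instance isInvariant_fixed : Algebra.IsInvariant (FixedPoints.subring B Γ) B Γ :=
  ⟨fun b hb => ⟨⟨b, hb⟩, rfl⟩⟩

/-- (⇐): if every prime is tame then some element has trace one -/
theorem trace_of_tame
    (h : ∀ P : Ideal B, P.IsPrime → ((Nat.card (P.inertia Γ) : ℕ) : B ⧸ P) ≠ 0) :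
    ∃ b : B, ∑ γ : Γ, γ • b = 1 := by
  classical
  have htr : ∀ b : B, ∑ γ : Γ, γ • b ∈ FixedPoints.subring B Γ := by
    intro b g
    rw [Finset.smul_sum, ← Equiv.sum_comp (Equiv.mulLeft g) (fun γ => γ • b)]
    refine Finset.sum_congr rfl fun γ _ => ?_
    simp [mul_smul]
  let I : Ideal (FixedPoints.subring B Γ) :=
    { carrier := {a | ∃ b : B, ∑ γ : Γ, γ • b = (a : B)}
      add_mem' := by
        rintro a a' ⟨b, hb⟩ ⟨b', hb'⟩
        exact ⟨b + b', by simp [smul_add, Finset.sum_add_distrib, hb, hb']⟩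
      zero_mem' := ⟨0, by simp⟩
      smul_mem' := by
        rintro c a ⟨b, hb⟩
        refine ⟨(c : B) * b, ?_⟩
        have : ∀ γ : Γ, γ • ((c : B) * b) = (c : B) * γ • b := fun γ => by
          rw [smul_mul', c.2 γ]
        rw [Finset.sum_congr rfl (fun γ _ => this γ), ← Finset.mul_sum, hb]
        rfl }
  by_contra hcon
  have hI : I ≠ ⊤ := by
    intro hI
    have h1 : (1 : FixedPoints.subring B Γ) ∈ I := by rw [hI]; trivial
    obtain ⟨b, hb⟩ := h1
    exact hcon ⟨b, hb⟩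
  obtain ⟨m, hm, hIm⟩ := Ideal.exists_le_maximal I hI
  haveI : Algebra.IsIntegral (FixedPoints.subring B Γ) B :=
    Algebra.IsInvariant.isIntegral (FixedPoints.subring B Γ) B Γ
  haveI := hm
  obtain ⟨P, hPmax, hPm⟩ := Ideal.exists_ideal_over_maximal_of_isIntegral
    (S := B) m (by
      rw [(RingHom.injective_iff_ker_eq_bot _).1
        (FaithfulSMul.algebraMap_injective (FixedPoints.subring B Γ) B)]
      exact bot_le)
  haveI := hPmax
  obtain ⟨b, hb⟩ := exists_trace_notMem (Γ := Γ) P (h P hPmax.isPrime)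
  apply hb
  have h1 : (⟨∑ γ : Γ, γ • b, htr b⟩ : FixedPoints.subring B Γ) ∈ I := ⟨b, rfl⟩
  have h2 := hIm h1
  rw [← hPm] at h2
  exact h2

end Groth.Agent.Lib.Helper28.TameTrace
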