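import Groth.Agent.Lib.Helper28.TwistGenDAmple
import Groth.Agent.Lib.Helper28.GrTwistGenVal
import Groth.Agent.Lib.Helper28.GrIrrGen
import Groth.Agent.Lib.Helper28.DualEpi
import Groth.Agent.Lib.Helper28.SerreFin

/-!
# The dual of `O(N)^{⊗ n}` on `Proj` is `O(-nN)`

* `HomMod.gdual_cocycle`: transition functions of dual generators.
* `TwistDual.nonempty_dual_tensorPow_iso`: `(O(N)^{⊗ n})^∨ ≅ O(-nN)` when `Proj` is covered by the `D₊(g)`, `g` of degree `N`.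
* `TwistDual.exists_cover_of_fg`: if the irrelevant ideal is finitely generated, `Proj` is quasi-compact and covered by the
  `D₊(g)`, `g` of some fixed degree `N > 0`.
-/

set_option autoImplicit false
universe u
open CategoryTheory CategoryTheory.Limits AlgebraicGeometry Opposite TopologicalSpace HomogeneousLocalization
noncomputable section

namespace Groth.Agent.Lib.Helper28.HomMod

open Groth.Agent.Lib.Helper28 Groth.Agent.Lib.Helper28.QCohLoc Groth.Agent.Lib.Helper28.GenLocus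

variable {X : Scheme.{u}} {L : X.Modules}

/-- transition functions of dual generators -/
theorem gdual_cocycle {U U' : X.Opens} {g : Γ(L, U)} {g' : Γ(L, U')} (hg : IsGen L U g) (hg' : IsGen L U' g')
    (v : Γ(X, U ⊓ U'))
    (hv : res L inf_le_right g' = (v • res L inf_le_left g : Γ(L, U ⊓ U'))) :
    res (dual L) inf_le_left (gdual hg) = (v • res (dual L) inf_le_right (gdual hg') : Γ(dual L, U ⊓ U')) := by
  apply ext_evO
  intro W hW x
  rw [smul_evO, res_evO, res_evO, evO_gdual, evO_gdual]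
  apply hg.coef_eq
  have h1 : res L (hW.trans inf_le_right) g' = (resO hW v • res L (hW.trans inf_le_left) g : Γ(L, W)) := by
    have := congrArg (res L hW) hv
    rwa [res_res, res_smul, res_res] at this
  rw [mul_comm, mul_smul, ← h1, hg'.coef_smul]

end Groth.Agent.Lib.Helper28.HomMod

namespace Groth.Agent.Lib.Helper28.TwistDual

open Groth.Agent.Lib.Helper28 Groth.Agent.Lib.Helper28.QCohLoc Groth.Agent.Lib.Helper28.GrTildeQC
  Groth.Agent.Lib.Helper28.GenLocus Groth.Agent.Lib.Helper28.TwistGen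
  Groth.Agent.Lib.Helper28.HomMod Groth.Agent.Lib.Helper28.TwistGenD

variable {R A : Type u} [CommRing R] [CommRing A] [Algebra R A] (𝒜 : ℕ → Submodule R A) [GradedAlgebra 𝒜]

section gen

variable {f : A} {d : ℕ} (hf : f ∈ 𝒜 d)

theorem isGen_gen (hd : 0 < d) (n : ℤ) :
    IsGen (Twist.twist 𝒜 (n * d)) (Proj.basicOpen 𝒜 f) (gen 𝒜 hf n) := by
  refine GrTwistGenVal.isGen_of_bijective_on_basis _ _ _
    (fun W => ∃ (h : A) (e : ℕ), h ∈ 𝒜 e ∧ W = Proj.basicOpen 𝒜 (f * h)) ?_ ?_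
  · intro V x hxV hVU
    obtain ⟨e, h, he, hh, hhx, hhV⟩ := GrSectComap.exists_pos_basicOpen 𝒜 V x hxV
    refine ⟨Proj.basicOpen 𝒜 (f * h), ⟨h, e, hh, rfl⟩, ?_, ?_⟩
    · rw [Proj.basicOpen_mul]
      exact ⟨hVU hxV, (Proj.mem_basicOpen 𝒜 h x).2 hhx⟩
    · intro y hy
      rw [Proj.basicOpen_mul] at hy
      exact hhV y ((Proj.mem_basicOpen 𝒜 h y).1 hy.2)
  · rintro W hW ⟨h, e, hh, rfl⟩
    exact smul_genW_bijective 𝒜 hf hd hh n

/-- `f^{-n} · (f/1)^n = 1` -/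
theorem val_gen_neg_mul (n : ℕ) (x : Proj.basicOpen 𝒜 f) :
    TwistQC.val 𝒜 (gen 𝒜 hf (-(n : ℤ))) x * (Localization.mk f 1 : Twist.Loc 𝒜 x.1) ^ n = 1 := by
  rw [TwistGenD.val_gen, Localization.mk_pow, Localization.mk_mul, ← Localization.mk_one, Localization.mk_eq_mk_iff,
    Localization.r_iff_exists]
  refine ⟨1, ?_⟩
  simp only [OneMemClass.coe_one, one_mul, neg_neg, Int.toNat_natCast, one_pow, mul_one,
    Int.toNat_neg_natCast, pow_zero]

end gen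

section iso

variable (N : ℕ) (hN : 0 < N)

include hN in
/-- **`(O(N)^{⊗ n})^∨ ≅ O(-nN)`** when `Proj` is covered by the `D₊(g)`, `g` of degree `N > 0`. -/
theorem nonempty_dual_tensorPow_iso
    (hcov : ∀ x : Proj 𝒜, ∃ g : A, g ∈ 𝒜 N ∧ x ∈ Proj.basicOpen 𝒜 g) (n : ℕ) :
    Nonempty (dual (CohB1.tensorPow (Twist.twist 𝒜 (N : ℤ)) n) ≅ Twist.twist 𝒜 (-(n : ℤ) * N)) := by
  let U : {g : A // g ∈ 𝒜 N} → (Proj 𝒜).Opens := fun g => Proj.basicOpen 𝒜 g.1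
  have hγ : ∀ g : {g : A // g ∈ 𝒜 N}, IsGen (Twist.twist 𝒜 (N : ℤ)) (U g)
      (res (Twist.twist 𝒜 (N : ℤ)) le_top (gsec 𝒜 g.1 g.2)) := fun g => isGen_gsecD 𝒜 g.2 hN
  have hP : ∀ g : {g : A // g ∈ 𝒜 N}, IsGen (CohB1.tensorPow (Twist.twist 𝒜 (N : ℤ)) n) (U g)
      (gpow (Twist.twist 𝒜 (N : ℤ)) (res (Twist.twist 𝒜 (N : ℤ)) le_top (gsec 𝒜 g.1 g.2)) n) :=
    fun g => isGen_gpow (hγ g) n
  have hcoc : ∀ g g' : {g : A // g ∈ 𝒜 N}, ∃ u : Γ(Proj 𝒜, U g ⊓ U g'),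
      res (dual (CohB1.tensorPow (Twist.twist 𝒜 (N : ℤ)) n)) inf_le_left (gdual (hP g)) =
        (u • res (dual (CohB1.tensorPow (Twist.twist 𝒜 (N : ℤ)) n)) inf_le_right (gdual (hP g')) :
          Γ(dual (CohB1.tensorPow (Twist.twist 𝒜 (N : ℤ)) n), U g ⊓ U g')) ∧
      res (Twist.twist 𝒜 (-(n : ℤ) * N)) inf_le_left (gen 𝒜 g.2 (-(n : ℤ))) =
        (u • res (Twist.twist 𝒜 (-(n : ℤ) * N)) inf_le_right (gen 𝒜 g'.2 (-(n : ℤ))) :
          Γ(Twist.twist 𝒜 (-(n : ℤ) * N), U g ⊓ U g')) := by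
    intro g g'
    have hw := ((hγ g).coef_smul (inf_le_left : U g ⊓ U g' ≤ U g)
      (res (Twist.twist 𝒜 (N : ℤ)) (inf_le_right : U g ⊓ U g' ≤ U g')
        (res (Twist.twist 𝒜 (N : ℤ)) le_top (gsec 𝒜 g'.1 g'.2)))).symm
    generalize (hγ g).coef (inf_le_left : U g ⊓ U g' ≤ U g)
      (res (Twist.twist 𝒜 (N : ℤ)) (inf_le_right : U g ⊓ U g' ≤ U g')
        (res (Twist.twist 𝒜 (N : ℤ)) le_top (gsec 𝒜 g'.1 g'.2))) = w at hw
    refine ⟨w ^ n, ?_, ?_⟩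
    · apply gdual_cocycle
      rw [gpow_res, gpow_res, hw, gpow_smul]
    · apply TwistQC.ext_val
      intro x
      have h1 := val_gen_neg_mul 𝒜 g.2 n ⟨x.1, x.2.1⟩
      have h2 := val_gen_neg_mul 𝒜 g'.2 n ⟨x.1, x.2.2⟩
      have h3 : (Localization.mk g'.1 1 : Twist.Loc 𝒜 x.1) =
          (GrTildeQC.valO 𝒜 w x).val * Localization.mk g.1 1 := by
        have := congrArg (fun t => TwistQC.val 𝒜 t x) hw
        simp only [TwistQC.val_smul] at this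
        exact this
      have h3n : (Localization.mk g'.1 1 : Twist.Loc 𝒜 x.1) ^ n =
          (GrTildeQC.valO 𝒜 w x).val ^ n * (Localization.mk g.1 1) ^ n := by
        rw [h3, mul_pow]
      rw [TwistQC.val_res, TwistQC.val_smul, TwistQC.val_res, GrTildeQC.valO_pow, HomogeneousLocalization.val_pow]
      linear_combination (-(TwistQC.val 𝒜 (gen 𝒜 g.2 (-(n : ℤ))) ⟨x.1, x.2.1⟩)) * h2 +
        ((GrTildeQC.valO 𝒜 w x).val ^ n * TwistQC.val 𝒜 (gen 𝒜 g'.2 (-(n : ℤ))) ⟨x.1, x.2.2⟩) * h1 +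
        (TwistQC.val 𝒜 (gen 𝒜 g.2 (-(n : ℤ))) ⟨x.1, x.2.1⟩ *
          TwistQC.val 𝒜 (gen 𝒜 g'.2 (-(n : ℤ))) ⟨x.1, x.2.2⟩) * h3n
  obtain ⟨ψ, -⟩ := exists_iso_of_cocycle_gen U (fun g => gdual (hP g)) (fun g => gen 𝒜 g.2 (-(n : ℤ)))
    (fun g => isGen_gdual (hP g)) (fun g => isGen_gen 𝒜 g.2 hN _)
    (fun x => by obtain ⟨g, hg, hx⟩ := hcov x; exact ⟨⟨g, hg⟩, hx⟩) hcoc
  exact ⟨ψ⟩

end iso

section cover

/-- if the irrelevant ideal is finitely generated, `Proj` is quasi-compact and covered by the `D₊(g)` with `g` of a fixed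
positive degree -/
theorem exists_cover_of_fg (hfg : (HomogeneousIdeal.irrelevant 𝒜).toIdeal.FG) :
    ∃ N : ℕ, 0 < N ∧ (∀ x : Proj 𝒜, ∃ g : A, g ∈ 𝒜 N ∧ x ∈ Proj.basicOpen 𝒜 g) ∧ CompactSpace (Proj 𝒜) := by
  classical
  obtain ⟨G, hGhom, hspan⟩ := GrIrrGen.exists_homogeneous_generators 𝒜 hfg
  have hdeg : ∀ g : ((G : Set A) : Type u), ∃ j, 0 < j ∧ g.1 ∈ 𝒜 j := fun g => hGhom g.1 g.2
  choose dd hdd0 hdd using hdeg
  have hsup : (⨆ g : ((G : Set A) : Type u), Proj.basicOpen 𝒜 g.1) = ⊤ :=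
    Proj.iSup_basicOpen_eq_top 𝒜 (fun g : ((G : Set A) : Type u) => g.1)
      (by rw [Subtype.range_coe]; exact hspan.ge)
  have hcovG : ∀ x : Proj 𝒜, ∃ g : ((G : Set A) : Type u), x ∈ Proj.basicOpen 𝒜 g.1 := by
    intro x
    have : x ∈ (⨆ g : ((G : Set A) : Type u), Proj.basicOpen 𝒜 g.1) := by rw [hsup]; trivial
    exact Opens.mem_iSup.1 this
  have hpos : 0 < ∏ g : ((G : Set A) : Type u), dd g := Finset.prod_pos (fun g _ => hdd0 g)
  refine ⟨∏ g : ((G : Set A) : Type u), dd g, hpos, ?_, ?_⟩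
  · intro x
    obtain ⟨g, hx⟩ := hcovG x
    obtain ⟨k, hk⟩ : dd g ∣ ∏ g : ((G : Set A) : Type u), dd g :=
      Finset.dvd_prod_of_mem dd (Finset.mem_univ g)
    have hk0 : 0 < k := by
      rcases Nat.eq_zero_or_pos k with h | h
      · exfalso
        rw [hk, h, mul_zero] at hpos
        exact lt_irrefl _ hpos
      · exact h
    refine ⟨g.1 ^ k, ?_, ?_⟩
    · have h1 := SetLike.pow_mem_graded k (hdd g)
      rw [smul_eq_mul, mul_comm, ← hk] at h1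
      exact h1
    · rw [Proj.basicOpen_pow 𝒜 _ _ hk0]
      exact hx
  · rw [← isCompact_univ_iff]
    have hU : (Set.univ : Set (Proj 𝒜)) =
        ⋃ g : ((G : Set A) : Type u), ((Proj.basicOpen 𝒜 g.1 : (Proj 𝒜).Opens) : Set (Proj 𝒜)) := by
      ext x
      simp only [Set.mem_univ, Set.mem_iUnion, SetLike.mem_coe, true_iff]
      exact hcovG x
    rw [hU]
    exact isCompact_iUnion fun g => (Proj.isAffineOpen_basicOpen 𝒜 g.1 (hdd g) (hdd0 g)).isCompact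

end cover

end Groth.Agent.Lib.Helper28.TwistDual
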