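import Groth.Agent.Lib.Helper28.VAProd2
import Groth.Agent.Lib.Helper28.TwistDual

/-!
# `(L ⊗ q^* K) ⊗ q^* K^∨ ≅ L` for an invertible `K` on the base, and very ampleness of `L ⊗ q^* K`
-/

set_option autoImplicit false
universe u
open CategoryTheory CategoryTheory.Limits AlgebraicGeometry TopologicalSpace Opposite
noncomputable section

namespace Groth.Agent.Lib.Helper28.TensorCancel

open Groth.Agent.Lib.Helper28 Groth.Agent.Lib.Helper28.QCohLoc
open Groth.Agent.Lib.Helper28.GenLocus Groth.Agent.Lib.Helper28.AmpleCompose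
open Groth.Agent.Lib.Helper28.PullbackInv Groth.Agent.Lib.Helper28.HomMod
open Groth.Agent.Lib.Helper28.TensorGen Groth.Agent.Lib.Helper28.InvTensor

variable {X Y : Scheme.{u}} (q : X ⟶ Y)

/-- transition of inverse images of sections -/
theorem pbs_transfer (K : Y.Modules) {V V' : Y.Opens} (k : Γ(K, V)) (k' : Γ(K, V')) (v : Γ(Y, V ⊓ V'))
    (hv : res K inf_le_left k = (v • res K inf_le_right k' : Γ(K, V ⊓ V')))
    {W : X.Opens} (hW : W ≤ q ⁻¹ᵁ (V ⊓ V')) :
    res ((Scheme.Modules.pullback q).obj K) (hW.trans (q.preimage_mono inf_le_left)) (pbs q K V k) =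
      (resO hW (q.app (V ⊓ V') v) •
        res ((Scheme.Modules.pullback q).obj K) (hW.trans (q.preimage_mono inf_le_right)) (pbs q K V' k') :
        Γ((Scheme.Modules.pullback q).obj K, W)) := by
  have h1 := res_res (M := (Scheme.Modules.pullback q).obj K) (q.preimage_mono (inf_le_left : V ⊓ V' ≤ V)) hW
    (pbs q K V k)
  rw [← h1, ← pbs_res q K (inf_le_left : V ⊓ V' ≤ V) k, hv, pbs_smul, res_smul,
    pbs_res q K (inf_le_right : V ⊓ V' ≤ V') k', res_res]

/-- index: trivializations of `L` and `K` -/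
structure Idx (L : X.Modules) (K : Y.Modules) where
  U : X.Opens
  V : Y.Opens
  g : Γ(L, U)
  k : Γ(K, V)
  hg : IsGen L U g
  hk : IsGen K V k
  hUV : U ≤ q ⁻¹ᵁ V

variable {q} {L : X.Modules} {K : Y.Modules}

/-- the generator `(g ⊗ q^* k) ⊗ q^* k^∨` -/
def Idx.gen (i : Idx q L K) :
    Γ(CohB1.tensorMod (CohB1.tensorMod L ((Scheme.Modules.pullback q).obj K))
      ((Scheme.Modules.pullback q).obj (dual K)), i.U) :=
  tmulSec _ _ (tmulSec L _ i.g (res _ i.hUV (pbs q K i.V i.k)))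
    (res _ i.hUV (pbs q (dual K) i.V (gdual i.hk)))

theorem Idx.isGen_gen (i : Idx q L K) :
    IsGen (CohB1.tensorMod (CohB1.tensorMod L ((Scheme.Modules.pullback q).obj K))
      ((Scheme.Modules.pullback q).obj (dual K))) i.U i.gen :=
  isGen_tmulSec _ _ (isGen_tmulSec _ _ i.hg ((isGen_pbs (f := q) i.hk).res i.hUV))
    ((isGen_pbs (f := q) (isGen_gdual i.hk)).res i.hUV)

variable (q L K)

/-- **`(L ⊗ q^* K) ⊗ q^* K^∨ ≅ L`** -/
theorem nonempty_tensor_pullback_dual_iso (hL : PicF.IsInvertible L) (hK : PicF.IsInvertible K) :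
    Nonempty (CohB1.tensorMod (CohB1.tensorMod L ((Scheme.Modules.pullback q).obj K))
      ((Scheme.Modules.pullback q).obj (dual K)) ≅ L) := by
  classical
  have hcov : ∀ x : X, ∃ i : Idx q L K, x ∈ i.U := by
    intro x
    obtain ⟨V, k, hxV, hk⟩ := exists_isGen K hK (q.base x)
    obtain ⟨U, g, hxU, hg⟩ := exists_isGen L hL x
    have hx : x ∈ U ⊓ q ⁻¹ᵁ V := ⟨hxU, hxV⟩
    exact ⟨⟨U ⊓ q ⁻¹ᵁ V, V, res L inf_le_left g, k, hg.res inf_le_left, hk, inf_le_right⟩, hx⟩
  have hcoc : ∀ i j : Idx q L K, ∃ u : Γ(X, i.U ⊓ j.U),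
      res _ inf_le_left i.gen = (u • res _ inf_le_right j.gen :
        Γ(CohB1.tensorMod (CohB1.tensorMod L ((Scheme.Modules.pullback q).obj K))
          ((Scheme.Modules.pullback q).obj (dual K)), i.U ⊓ j.U)) ∧
      res L inf_le_left i.g = (u • res L inf_le_right j.g : Γ(L, i.U ⊓ j.U)) := by
    intro i j
    -- coefficients
    have hu := (j.hg.coef_smul (inf_le_right : i.U ⊓ j.U ≤ j.U) (res L inf_le_left i.g)).symm
    generalize j.hg.coef (inf_le_right : i.U ⊓ j.U ≤ j.U) (res L inf_le_left i.g) = u at hu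
    have hv := (j.hk.coef_smul (inf_le_right : i.V ⊓ j.V ≤ j.V) (res K inf_le_left i.k)).symm
    generalize j.hk.coef (inf_le_right : i.V ⊓ j.V ≤ j.V) (res K inf_le_left i.k) = v at hv
    have hw := (i.hk.coef_smul (inf_le_left : i.V ⊓ j.V ≤ i.V) (res K inf_le_right j.k)).symm
    generalize i.hk.coef (inf_le_left : i.V ⊓ j.V ≤ i.V) (res K inf_le_right j.k) = w at hw
    have hvw : v * w = 1 := by
      have h1 : ((v * w) • res K (inf_le_left : i.V ⊓ j.V ≤ i.V) i.k : Γ(K, i.V ⊓ j.V)) =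
          ((1 : Γ(Y, i.V ⊓ j.V)) • res K (inf_le_left : i.V ⊓ j.V ≤ i.V) i.k : Γ(K, i.V ⊓ j.V)) := by
        rw [mul_smul, ← hw, ← hv, one_smul]
      exact (i.hk _ inf_le_left).1 h1
    have hd := gdual_cocycle i.hk j.hk w hw
    have hW : i.U ⊓ j.U ≤ q ⁻¹ᵁ (i.V ⊓ j.V) := fun x hx => ⟨i.hUV hx.1, j.hUV hx.2⟩
    have e1 := pbs_transfer q K i.k j.k v hv hW
    have e2 := pbs_transfer q (dual K) (gdual i.hk) (gdual j.hk) w hd hW
    have hc : resO hW (q.app (i.V ⊓ j.V) v) * resO hW (q.app (i.V ⊓ j.V) w) = 1 := by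
      rw [← resO_mul, ← map_mul, hvw, map_one]
      exact map_one (X.presheaf.map (homOfLE hW).op).hom
    generalize resO hW (q.app (i.V ⊓ j.V) v) = cv at hc e1
    generalize resO hW (q.app (i.V ⊓ j.V) w) = cw at hc e2
    refine ⟨u, ?_, hu⟩
    unfold Idx.gen
    rw [tmulSec_res, tmulSec_res, tmulSec_res, tmulSec_res, res_res, res_res, res_res, res_res, hu, e1, e2]
    simp only [tmulSec_smul_left, tmulSec_smul_right, smul_smul]
    congr 1
    linear_combination u * hc
  obtain ⟨ψ, -⟩ := exists_iso_of_cocycle_gen (fun i : Idx q L K => i.U) (fun i => i.gen) (fun i => i.g)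
    (fun i => i.isGen_gen) (fun i => i.hg) hcov hcoc
  exact ⟨ψ⟩

end Groth.Agent.Lib.Helper28.TensorCancel

namespace Groth.Agent.Lib.Helper28.TensorCancel

open Groth.Agent.Lib.Helper28 Groth.Agent.Lib.Helper28.HomMod

/-- very ampleness is preserved by tensoring with the inverse image of an invertible module on the base -/
theorem isRelVeryAmple_tensor_pullback {X Y : Scheme.{u}} (q : X ⟶ Y) (L : X.Modules)
    (K : Y.Modules) (hK : PicF.IsInvertible K) (hva : RelProj.IsRelVeryAmple q L) :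
    RelProj.IsRelVeryAmple q (CohB1.tensorMod L ((Scheme.Modules.pullback q).obj K)) :=
  VAProd.isRelVeryAmple_tensor_of_epi q L _ hva (PullbackInv.isInvertible_pullback (f := q) hK) K
    (InvQC.isQuasicoherent_of_isInvertible K hK) (𝟙 _) inferInstance

/-- **`L` is `q`-very ample iff `L ⊗ q^* K` is**, for `K` invertible on the base -/
theorem isRelVeryAmple_tensor_pullback_iff {X Y : Scheme.{u}} (q : X ⟶ Y) (L : X.Modules)
    (hL : PicF.IsInvertible L) (K : Y.Modules) (hK : PicF.IsInvertible K) :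
    RelProj.IsRelVeryAmple q L ↔
      RelProj.IsRelVeryAmple q (CohB1.tensorMod L ((Scheme.Modules.pullback q).obj K)) := by
  refine ⟨isRelVeryAmple_tensor_pullback q L K hK, fun h => ?_⟩
  have h1 := isRelVeryAmple_tensor_pullback q _ (dual K) (isInvertible_dual hK) h
  obtain ⟨e⟩ := nonempty_tensor_pullback_dual_iso q L K hL hK
  exact PnVA.isRelVeryAmple_of_iso q e h1

end Groth.Agent.Lib.Helper28.TensorCancel
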