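import Groth.Agent.Lib.Helper28.TwistInv
import Groth.Agent.Lib.Helper28.GrTildeFin

/-!
# The pairing `M(k)~ × O(n) → M(k+n)~` on `Proj`, and `M(k)~ ⊗ O(n) ≅ M(k+n)~`
-/

set_option autoImplicit false
universe u
open CategoryTheory AlgebraicGeometry Opposite TopologicalSpace
noncomputable section

namespace Groth.Agent.Lib.Helper28.TildeTwist

open Groth.Agent.Lib.Helper28 Groth.Agent.Lib.Helper28.GrSect Groth.Agent.Lib.Helper28.QCohLoc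
  Groth.Agent.Lib.Helper28.TwistMul

variable {R A : Type u} [CommRing R] [CommRing A] [Algebra R A] (𝒜 : ℕ → Submodule R A) [GradedAlgebra 𝒜]
variable {M : Type u} [AddCommGroup M] [Module R M] [Module A M] [IsScalarTower R A M] (ℳ : ℕ → Submodule R M)
  [DirectSum.Decomposition ℳ] [SetLike.GradedSMul 𝒜 ℳ]

theorem a0_smul_smul (x : ProjectiveSpectrum 𝒜) (c : Twist.A0 𝒜 x) (q : Twist.Loc 𝒜 x)
    (p : GrTilde.LocMod 𝒜 (M := M) x) : (c • q) • p = c • (q • p) := by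
  rw [GrTilde.a0_smul_def, Algebra.smul_def, mul_smul]
  rfl

theorem smul_a0_smul (x : ProjectiveSpectrum 𝒜) (c : Twist.A0 𝒜 x) (q : Twist.Loc 𝒜 x)
    (p : GrTilde.LocMod 𝒜 (M := M) x) : q • (c • p) = c • (q • p) := by
  rw [GrTilde.a0_smul_def, GrTilde.a0_smul_def, smul_smul, smul_smul, mul_comm]

theorem smul_mem_tildeAt (k n l : ℤ) (hl : l = k + n) (x : ProjectiveSpectrum 𝒜)
    {p : GrTilde.LocMod 𝒜 (M := M) x} {q : Twist.Loc 𝒜 x}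
    (hp : p ∈ GrTilde.tildeAt 𝒜 ℳ k x) (hq : q ∈ Twist.twistAt 𝒜 n x) : q • p ∈ GrTilde.tildeAt 𝒜 ℳ l x := by
  induction hq using Submodule.span_induction with
  | mem q hq =>
    obtain ⟨i', j', a, s', hs', hdeg', rfl⟩ := hq
    induction hp using Submodule.span_induction with
    | mem p hp =>
      obtain ⟨i, j, m, s, hs, hdeg, rfl⟩ := hp
      rw [LocalizedModule.mk_smul_mk]
      refine Submodule.subset_span ⟨i' + i, j' + j, ⟨a.1 • m.1, SetLike.GradedSMul.smul_mem a.2 m.2⟩,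
        ⟨s'.1 * s.1, SetLike.mul_mem_graded s'.2 s.2⟩,
        fun h => (x.isPrime.mem_or_mem h).elim hs' hs, by push_cast; omega, rfl⟩
    | zero => rw [smul_zero]; exact zero_mem _
    | add p p' _ _ hp hp' => rw [smul_add]; exact add_mem hp hp'
    | smul c p _ hp =>
      rw [smul_a0_smul]
      exact Submodule.smul_mem _ c hp
  | zero => rw [zero_smul]; exact zero_mem _
  | add q q' _ _ hq hq' => rw [add_smul]; exact add_mem hq hq'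
  | smul c q _ hq =>
    rw [a0_smul_smul]
    exact Submodule.smul_mem _ c hq

/-- the pairing of two sections -/
def pairSect' (k n l : ℤ) (hl : l = k + n) (U : (Opens (ProjectiveSpectrum.top 𝒜))ᵒᵖ)
    (t : GrTilde.sect 𝒜 ℳ k U) (t' : Twist.sectN (𝒜 := 𝒜) n U) : GrTilde.sect 𝒜 ℳ l U :=
  ⟨fun x => ⟨(t'.1 x).1 • (t.1 x).1, smul_mem_tildeAt 𝒜 ℳ k n l hl x.1 (t.1 x).2 (t'.1 x).2⟩, fun x => by
    rcases t.2 x with ⟨Va, ma, ia, i, j, ⟨a, a_mem⟩, ⟨s, s_mem⟩, nina, ca, wa⟩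
    rcases t'.2 x with ⟨Vb, mb, ib, i', j', ⟨b, b_mem⟩, ⟨s', s'_mem⟩, ninb, cb, wb⟩
    replace ca : (i : ℤ) = j + k ∨ a = 0 := ca
    replace cb : (i' : ℤ) = j' + n ∨ b = 0 := cb
    have nin : ∀ y : (Va ⊓ Vb : Opens _), s' * s ∉ y.1.asHomogeneousIdeal := fun y h =>
      ((y.1.isPrime.mem_or_mem h).elim (ninb ⟨y.1, y.2.2⟩)) (nina ⟨y.1, y.2.1⟩)
    refine ⟨Va ⊓ Vb, ⟨ma, mb⟩, Opens.infLELeft _ _ ≫ ia, i' + i, j' + j,
      ⟨b • a, SetLike.GradedSMul.smul_mem b_mem a_mem⟩, ⟨s' * s, SetLike.mul_mem_graded s'_mem s_mem⟩, nin, ?_,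
      fun y => ?_⟩
    · rcases ca with ha | ha
      · rcases cb with hb | hb
        · exact Or.inl (by push_cast; omega)
        · exact Or.inr (show b • a = 0 by rw [hb, zero_smul])
      · exact Or.inr (show b • a = 0 by rw [ha, smul_zero])
    · have e1 := wa ⟨y.1, y.2.1⟩
      have e2 := wb ⟨y.1, y.2.2⟩
      dsimp only at e1 e2 ⊢
      erw [e1, e2]
      rw [LocalizedModule.mk_smul_mk]
      rfl⟩

/-- the pairing `M(k)~(W) × O(n)(W) → M(l)~(W)`, `l = k + n` -/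
def pair (k n l : ℤ) (hl : l = k + n) {W : (Proj 𝒜).Opens} (t : Γ(GrTilde.tilde 𝒜 ℳ k, W))
    (t' : Γ(Twist.twist 𝒜 n, W)) : Γ(GrTilde.tilde 𝒜 ℳ l, W) :=
  pairSect' 𝒜 ℳ k n l hl (op W) t t'

theorem val_pair (k n l : ℤ) (hl : l = k + n) {W : (Proj 𝒜).Opens} (t : Γ(GrTilde.tilde 𝒜 ℳ k, W))
    (t' : Γ(Twist.twist 𝒜 n, W)) (x : W) :
    GrTildeQC.val 𝒜 ℳ (pair 𝒜 ℳ k n l hl t t') x = TwistQC.val 𝒜 t' x • GrTildeQC.val 𝒜 ℳ t x := rfl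

theorem pair_add_left (k n l : ℤ) (hl : l = k + n) {W : (Proj 𝒜).Opens} (t₁ t₂ : Γ(GrTilde.tilde 𝒜 ℳ k, W))
    (t' : Γ(Twist.twist 𝒜 n, W)) :
    pair 𝒜 ℳ k n l hl (t₁ + t₂) t' = pair 𝒜 ℳ k n l hl t₁ t' + pair 𝒜 ℳ k n l hl t₂ t' := by
  apply GrTildeQC.ext_val; intro x
  rw [GrTildeFin.val_add, val_pair, val_pair, val_pair, GrTildeFin.val_add, smul_add]

theorem pair_add_right (k n l : ℤ) (hl : l = k + n) {W : (Proj 𝒜).Opens} (t : Γ(GrTilde.tilde 𝒜 ℳ k, W))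
    (t₁ t₂ : Γ(Twist.twist 𝒜 n, W)) :
    pair 𝒜 ℳ k n l hl t (t₁ + t₂) = pair 𝒜 ℳ k n l hl t t₁ + pair 𝒜 ℳ k n l hl t t₂ := by
  apply GrTildeQC.ext_val; intro x
  rw [GrTildeFin.val_add, val_pair, val_pair, val_pair, TwistMul.val_add, add_smul]

theorem pair_smul_left (k n l : ℤ) (hl : l = k + n) {W : (Proj 𝒜).Opens} (a : Γ(Proj 𝒜, W))
    (t : Γ(GrTilde.tilde 𝒜 ℳ k, W)) (t' : Γ(Twist.twist 𝒜 n, W)) :
    pair 𝒜 ℳ k n l hl (a • t) t' = (a • pair 𝒜 ℳ k n l hl t t' : Γ(GrTilde.tilde 𝒜 ℳ l, W)) := by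
  apply GrTildeQC.ext_val; intro x
  rw [GrTildeQC.val_smul, val_pair, val_pair, GrTildeQC.val_smul, smul_smul, smul_smul, mul_comm]

theorem pair_smul_right (k n l : ℤ) (hl : l = k + n) {W : (Proj 𝒜).Opens} (a : Γ(Proj 𝒜, W))
    (t : Γ(GrTilde.tilde 𝒜 ℳ k, W)) (t' : Γ(Twist.twist 𝒜 n, W)) :
    pair 𝒜 ℳ k n l hl t (a • t') = (a • pair 𝒜 ℳ k n l hl t t' : Γ(GrTilde.tilde 𝒜 ℳ l, W)) := by
  apply GrTildeQC.ext_val; intro x
  rw [GrTildeQC.val_smul, val_pair, val_pair, TwistQC.val_smul, mul_smul]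

theorem pair_res (k n l : ℤ) (hl : l = k + n) {W W' : (Proj 𝒜).Opens} (h : W' ≤ W)
    (t : Γ(GrTilde.tilde 𝒜 ℳ k, W)) (t' : Γ(Twist.twist 𝒜 n, W)) :
    pair 𝒜 ℳ k n l hl (res (GrTilde.tilde 𝒜 ℳ k) h t) (res (Twist.twist 𝒜 n) h t') =
      res (GrTilde.tilde 𝒜 ℳ l) h (pair 𝒜 ℳ k n l hl t t') := rfl

section Chart

variable {f : A} (hf : f ∈ 𝒜 1)

include hf in
theorem num_mem {h : A} {e : ℕ} (hh : h ∈ 𝒜 e) (n : ℤ) {i : ℕ} {m : M} (hm : m ∈ ℳ i) :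
    (f ^ (-n).toNat * h ^ n.toNat) • m ∈ ℳ ((-n).toNat + n.toNat * e + i) := by
  have h1 : f ^ (-n).toNat ∈ 𝒜 ((-n).toNat) := by simpa using SetLike.pow_mem_graded (-n).toNat hf
  have h2 : h ^ n.toNat ∈ 𝒜 (n.toNat * e) := by simpa using SetLike.pow_mem_graded n.toNat hh
  exact SetLike.GradedSMul.smul_mem (SetLike.mul_mem_graded h1 h2) hm

/-- division by the generator: `M(l)~(W) → M(k)~(W)` -/
theorem exists_pair_genW_eq {h : A} {e : ℕ} (he : 0 < e) (hh : h ∈ 𝒜 e) (k n l : ℤ) (hl : l = k + n)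
    (t'' : Γ(GrTilde.tilde 𝒜 ℳ l, Proj.basicOpen 𝒜 (f * h))) :
    ∃ t : Γ(GrTilde.tilde 𝒜 ℳ k, Proj.basicOpen 𝒜 (f * h)),
      pair 𝒜 ℳ k n l hl t (genW 𝒜 hf h n) = t'' := by
  have hg : f * h ∈ 𝒜 (1 + e) := SetLike.mul_mem_graded hf hh
  obtain ⟨K, i, m, hm, hi, hval⟩ := GrTildeQC.exists_frac 𝒜 ℳ hg (by omega) l t''
  have hn := Int.toNat_sub_toNat_neg n
  refine ⟨GrTildeQC.mkSect 𝒜 ℳ hg k (K + n.toNat) ((-n).toNat + n.toNat * e + i)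
    ((f ^ (-n).toNat * h ^ n.toNat) • m) (num_mem 𝒜 ℳ hf hh n hm) ?_, ?_⟩
  · push_cast at hi ⊢
    linarith
  · apply GrTildeQC.ext_val
    intro x
    rw [val_pair, val_genW, GrTildeQC.val_mkSect, hval x, LocalizedModule.mk_smul_mk, LocalizedModule.mk_eq]
    refine ⟨1, ?_⟩
    simp only [one_smul, Submonoid.smul_def, Submonoid.coe_mul, smul_smul]
    congr 1
    ring

theorem pair_genW_bijective {h : A} {e : ℕ} (he : 0 < e) (hh : h ∈ 𝒜 e) (k n l : ℤ) (hl : l = k + n) :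
    Function.Bijective (fun t : Γ(GrTilde.tilde 𝒜 ℳ k, Proj.basicOpen 𝒜 (f * h)) =>
      pair 𝒜 ℳ k n l hl t (genW 𝒜 hf h n)) := by
  constructor
  · intro t₁ t₂ h12
    apply GrTildeQC.ext_val
    intro x
    have h1 : GrTildeQC.val 𝒜 ℳ (pair 𝒜 ℳ k n l hl t₁ (genW 𝒜 hf h n)) x =
        GrTildeQC.val 𝒜 ℳ (pair 𝒜 ℳ k n l hl t₂ (genW 𝒜 hf h n)) x :=
      congrArg (fun t => GrTildeQC.val 𝒜 ℳ t x) h12
    rw [val_pair, val_pair] at h1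
    exact (isUnit_val_genW 𝒜 hf h n x).smul_left_cancel.1 h1
  · intro t''
    exact exists_pair_genW_eq 𝒜 ℳ hf he hh k n l hl t''

end Chart

/-- **`M(k)~ ⊗ O(n) ≅ M(k + n)~`** when the irrelevant ideal is generated in degree one. -/
theorem nonempty_tensor_iso
    (hgen : (HomogeneousIdeal.irrelevant 𝒜).toIdeal = Ideal.span ((𝒜 1 : Submodule R A) : Set A))
    (k n l : ℤ) (hl : l = k + n) :
    Nonempty (CohB1.tensorMod (GrTilde.tilde 𝒜 ℳ k) (Twist.twist 𝒜 n) ≅ GrTilde.tilde 𝒜 ℳ l) := by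
  refine TensorIso.nonempty_tensorMod_iso (GrTilde.tilde 𝒜 ℳ k) (Twist.twist 𝒜 n) (GrTilde.tilde 𝒜 ℳ l)
    (fun W => pair 𝒜 ℳ k n l hl) (fun W => pair_add_left 𝒜 ℳ k n l hl) (fun W => pair_add_right 𝒜 ℳ k n l hl)
    (fun W => pair_smul_left 𝒜 ℳ k n l hl) (fun W => pair_smul_right 𝒜 ℳ k n l hl)
    (fun W W' h => pair_res 𝒜 ℳ k n l hl h)
    (IsChart 𝒜) (isChart_basis 𝒜 hgen) ?_
  rintro W ⟨f, h, e, hf, he, hh, rfl⟩
  exact TensorIso.tensorDesc_app_bijective_right _ _ _ _ _ _ _ _ _ _ (genW 𝒜 hf h n)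
    (exists_smul_genW_eq 𝒜 hf he hh n) (pair_genW_bijective 𝒜 ℳ hf he hh k n l hl)

end Groth.Agent.Lib.Helper28.TildeTwist
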