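import Mathlib

/-!
# Pure algebra behind the frame of the kernel of the trace
-/

set_option autoImplicit false

namespace Groth.Agent.Lib.Helper28.TraceAlgebra

variable {R : Type*} [CommRing R] {n : ℕ} (j₀ : Fin (n + 1))

theorem sum_ite_succAbove_self (c : Fin n → R) :
    ∑ k : Fin n, c k * (if j₀.succAbove k = j₀ then (1 : R) else 0) = 0 := by
  refine Finset.sum_eq_zero fun k _ => ?_
  rw [if_neg (Fin.succAbove_ne j₀ k), mul_zero]

theorem sum_ite_succAbove (c : Fin n → R) (k' : Fin n) :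
    ∑ k : Fin n, c k * (if j₀.succAbove k = j₀.succAbove k' then (1 : R) else 0) = c k' := by
  rw [Finset.sum_eq_single k']
  · rw [if_pos rfl, mul_one]
  · intro k _ hk
    rw [if_neg (fun h => hk (Fin.succAbove_right_inj.1 h)), mul_zero]
  · intro h
    exact absurd (Finset.mem_univ k') h

theorem sum_split (c : Fin n → R) (t e : Fin (n + 1) → R) (δ : R) (j : Fin (n + 1)) :
    ∑ k : Fin n, c k * ((if j₀.succAbove k = j then (1 : R) else 0) - t (j₀.succAbove k) * δ * e j) =
      ∑ k : Fin n, c k * (if j₀.succAbove k = j then (1 : R) else 0) -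
        (∑ k : Fin n, c k * t (j₀.succAbove k) * δ) * e j := by
  rw [Finset.sum_mul, ← Finset.sum_sub_distrib]
  refine Finset.sum_congr rfl fun k _ => ?_
  ring

/-- independence -/
theorem indep (e t : Fin (n + 1) → R) (δ ε : R) (h3 : ε * e j₀ = 1) (c : Fin n → R)
    (hc : ∀ j, ∑ k : Fin n, c k * ((if j₀.succAbove k = j then (1 : R) else 0) - t (j₀.succAbove k) * δ * e j) = 0) :
    ∀ k, c k = 0 := by
  have h0 := hc j₀
  rw [sum_split, sum_ite_succAbove_self, zero_sub, neg_eq_zero] at h0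
  have hl : ∑ k : Fin n, c k * t (j₀.succAbove k) * δ = 0 := by
    have := congrArg (fun z => z * ε) h0
    simp only [zero_mul] at this
    rw [mul_assoc, mul_comm (e j₀), h3, mul_one] at this
    exact this
  intro k'
  have h1 := hc (j₀.succAbove k')
  rw [sum_split, sum_ite_succAbove, hl, zero_mul, sub_zero] at h1
  exact h1

/-- generation -/
theorem gen (a e t : Fin (n + 1) → R) (δ ε : R)
    (h1 : ∑ j, a j * t j = 0) (h2 : ∑ j, e j * t j = ((n + 1 : ℕ) : R)) (h3 : ε * e j₀ = 1)
    (h4 : ((n + 1 : ℕ) : R) * δ = 1) (j : Fin (n + 1)) :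
    a j = ∑ k : Fin n, (a (j₀.succAbove k) - a j₀ * ε * e (j₀.succAbove k)) *
      ((if j₀.succAbove k = j then (1 : R) else 0) - t (j₀.succAbove k) * δ * e j) := by
  rw [Fin.sum_univ_succAbove _ j₀] at h1 h2
  have hμ : ∑ k : Fin n, (a (j₀.succAbove k) - a j₀ * ε * e (j₀.succAbove k)) * t (j₀.succAbove k) * δ =
      -(a j₀ * ε) := by
    have e1 : ∑ k : Fin n, (a (j₀.succAbove k) - a j₀ * ε * e (j₀.succAbove k)) * t (j₀.succAbove k) * δ =
        (∑ k : Fin n, a (j₀.succAbove k) * t (j₀.succAbove k)) * δ -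
          a j₀ * ε * δ * ∑ k : Fin n, e (j₀.succAbove k) * t (j₀.succAbove k) := by
      rw [Finset.sum_mul, Finset.mul_sum, ← Finset.sum_sub_distrib]
      refine Finset.sum_congr rfl fun k _ => ?_
      ring
    rw [e1]
    linear_combination (δ) * h1 - (a j₀ * ε * δ) * h2 + (a j₀ * t j₀ * δ) * h3 - (a j₀ * ε) * h4
  rw [sum_split, hμ]
  rcases Fin.eq_self_or_eq_succAbove j₀ j with rfl | ⟨k', rfl⟩
  · rw [sum_ite_succAbove_self]
    linear_combination (-(a j)) * h3
  · rw [sum_ite_succAbove]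
    ring

end Groth.Agent.Lib.Helper28.TraceAlgebra
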