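import Groth.Agent.Lib.Helper28.TraceA

/-!
# Existence and uniqueness of the trace of a finite locally free quasi-coherent algebra
-/

set_option autoImplicit false
universe u
open CategoryTheory CategoryTheory.Limits AlgebraicGeometry Opposite TopologicalSpace
noncomputable section

namespace Groth.Agent.Lib.Helper28.TraceAlg

open Groth.Agent.Lib.Helper28 Groth.Agent.Lib.Helper28.QCohLoc Groth.Agent.Lib.Helper17.Frame

variable {X : Scheme.{u}} (A : RelSpec.QCAlg X)

attribute [local instance] algAt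

/-- opens contained in an open over which `A` has a frame -/
def Framed (V : X.Opens) : Prop :=
  ∃ (U : X.Opens) (n : ℕ) (γ : Fin n → Γ(A.toModule, U)), V ≤ U ∧ IsFrame A.toModule U γ

variable {A} in
theorem Framed.mono {V V' : X.Opens} (h : V' ≤ V) (hV : Framed A V) : Framed A V' := by
  obtain ⟨U, n, γ, hVU, hγ⟩ := hV
  exact ⟨U, n, γ, h.trans hVU, hγ⟩

theorem framed_cov (hA : FlatMod.IsFinLocFree A.toModule) (x : X) : ∃ V : X.Opens, Framed A V ∧ x ∈ V := by
  obtain ⟨U, n, hxU, ⟨e⟩⟩ := hA x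
  obtain ⟨γ, hγ⟩ := exists_isFrame_of_iso A.toModule U n e
  exact ⟨U, ⟨U, n, γ, le_rfl, hγ⟩, hxU⟩

variable {A} in
theorem Framed.free {V : X.Opens} (hV : Framed A V) : Module.Free Γ(X, V) (A.presheaf.obj (op V)) := by
  obtain ⟨U, n, γ, hVU, hγ⟩ := hV
  exact free_of_frame hγ hVU

variable {A} in
theorem Framed.finite {V : X.Opens} (hV : Framed A V) : Module.Finite Γ(X, V) (A.presheaf.obj (op V)) := by
  obtain ⟨U, n, γ, hVU, hγ⟩ := hV
  exact finite_of_frame hγ hVU

/-- the local data of the trace -/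
def traceData (hA : FlatMod.IsFinLocFree A.toModule) : LocalHomData A.toModule (Coh.structureModule X) where
  B := Framed A
  down := fun _ _ h hV => hV.mono h
  cov := framed_cov A hA
  φ := fun V _ a => (show Γ(Coh.structureModule X, V) from
    Algebra.trace Γ(X, V) (A.presheaf.obj (op V)) (asR A a))
  add := fun V _ x y => map_add (Algebra.trace Γ(X, V) (A.presheaf.obj (op V))) (asR A x) (asR A y)
  smul := fun V _ a x => by
    show Algebra.trace Γ(X, V) (A.presheaf.obj (op V)) (a • asR A x) =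
      a * Algebra.trace Γ(X, V) (A.presheaf.obj (op V)) (asR A x)
    rw [map_smul]
    rfl
  nat := fun V hV V' h x => by
    obtain ⟨U, n, γ, hVU, hγ⟩ := hV
    exact trace_res hγ hVU h (asR A x)

/-- the trace -/
def traceHom (hA : FlatMod.IsFinLocFree A.toModule) : A.toModule ⟶ Coh.structureModule X :=
  (traceData A hA).hom

theorem traceHom_app (hA : FlatMod.IsFinLocFree A.toModule) {V : X.Opens} (hV : Framed A V)
    (a : Γ(A.toModule, V)) :
    (traceHom A hA).app V a = (show Γ(Coh.structureModule X, V) from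
      Algebra.trace Γ(X, V) (A.presheaf.obj (op V)) (asR A a)) :=
  (traceData A hA).hom_app V hV a

/-- the trace commutes with restriction to a basic open of an affine open -/
theorem trace_basicOpen {U : X.Opens} (hU : IsAffineOpen U) [Module.Free Γ(X, U) (A.presheaf.obj (op U))]
    [Module.Finite Γ(X, U) (A.presheaf.obj (op U))] (r : Γ(X, U)) (a : A.presheaf.obj (op U)) :
    Algebra.trace Γ(X, X.basicOpen r) (A.presheaf.obj (op (X.basicOpen r)))
        (asR A (res A.toModule (X.basicOpen_le r) (ofR A a))) =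
      resO (X.basicOpen_le r) (Algebra.trace Γ(X, U) (A.presheaf.obj (op U)) a) := by
  let _ : Algebra (A.presheaf.obj (op U)) (A.presheaf.obj (op (X.basicOpen r))) :=
    (A.presheaf.map (homOfLE (X.basicOpen_le r)).op).hom.toAlgebra
  let _ : Algebra Γ(X, U) (A.presheaf.obj (op (X.basicOpen r))) :=
    ((algebraMap Γ(X, X.basicOpen r) (A.presheaf.obj (op (X.basicOpen r)))).comp
      (algebraMap Γ(X, U) Γ(X, X.basicOpen r))).toAlgebra
  have : IsScalarTower Γ(X, U) Γ(X, X.basicOpen r) (A.presheaf.obj (op (X.basicOpen r))) :=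
    IsScalarTower.of_algebraMap_eq (fun _ => rfl)
  have : IsScalarTower Γ(X, U) (A.presheaf.obj (op U)) (A.presheaf.obj (op (X.basicOpen r))) :=
    IsScalarTower.of_algebraMap_eq (fun x => by
      have h := congrArg (fun ψ => ψ.hom x) (A.str.naturality (homOfLE (X.basicOpen_le r)).op)
      exact h)
  have : IsLocalization (Submonoid.powers r) Γ(X, X.basicOpen r) := hU.isLocalization_basicOpen r
  have : IsLocalization (Algebra.algebraMapSubmonoid (A.presheaf.obj (op U)) (Submonoid.powers r))
      (A.presheaf.obj (op (X.basicOpen r))) := by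
    have h1 : Algebra.algebraMapSubmonoid (A.presheaf.obj (op U)) (Submonoid.powers r) =
        Submonoid.powers ((A.str.app (op U)).hom r) := Submonoid.map_powers _ r
    rw [h1]
    exact A.isQC U hU r
  exact Algebra.trace_localization Γ(X, U) (Submonoid.powers r) a

/-- **the glued map is the trace** -/
theorem isTrace_traceHom (hA : FlatMod.IsFinLocFree A.toModule) : FinCov.IsTrace A (traceHom A hA) := by
  intro U hU hfree hfin a
  have hloc : ∀ x : U, ∃ r : Γ(X, U), x.1 ∈ X.basicOpen r ∧ Framed A (X.basicOpen r) := by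
    intro x
    obtain ⟨V, hV, hxV⟩ := framed_cov A hA x.1
    obtain ⟨r, hrV, hxr⟩ := hU.exists_basicOpen_le (V := V) ⟨x.1, hxV⟩ x.2
    exact ⟨r, hxr, hV.mono hrV⟩
  choose r hxr hfr using hloc
  refine eq_of_locally_eq (Coh.structureModule X) (fun x : U => X.basicOpen (r x)) U
    (fun x => X.basicOpen_le _) (fun x hx => Opens.mem_iSup.2 ⟨⟨x, hx⟩, hxr _⟩)
    ((traceHom A hA).app U (ofR A a))
    (show Γ(Coh.structureModule X, U) from Algebra.trace Γ(X, U) (A.presheaf.obj (op U)) a) (fun x => ?_)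
  rw [← app_res, traceHom_app A hA (hfr x)]
  exact trace_basicOpen A hU (r x) a

/-- **uniqueness of the trace** -/
theorem eq_traceHom (hA : FlatMod.IsFinLocFree A.toModule) (τ : A.toModule ⟶ Coh.structureModule X)
    (hτ : FinCov.IsTrace A τ) : τ = traceHom A hA := by
  apply Scheme.Modules.hom_ext
  intro W
  ext x
  have hloc : ∀ pt : W, ∃ V : X.Opens, V ≤ W ∧ pt.1 ∈ V ∧ IsAffineOpen V ∧ Framed A V := by
    intro pt
    obtain ⟨V₀, hV₀, hptV₀⟩ := framed_cov A hA pt.1
    obtain ⟨_, ⟨V, hV, rfl⟩, hptV, hVle⟩ :=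
      X.isBasis_affineOpens.exists_subset_of_mem_open (show pt.1 ∈ ((V₀ ⊓ W : X.Opens) : Set X) from ⟨hptV₀, pt.2⟩)
        (V₀ ⊓ W).2
    exact ⟨V, fun y hy => (hVle hy).2, hptV, hV, hV₀.mono (fun y hy => (hVle hy).1)⟩
  choose V hVW hpt haff hfr using hloc
  refine eq_of_locally_eq (Coh.structureModule X) V W hVW (fun y hy => Opens.mem_iSup.2 ⟨⟨y, hy⟩, hpt _⟩)
    (τ.app W x) ((traceHom A hA).app W x) (fun pt => ?_)
  rw [← app_res, ← app_res, traceHom_app A hA (hfr pt)]
  exact hτ (V pt) (haff pt) (hfr pt).free (hfr pt).finite _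

end Groth.Agent.Lib.Helper28.TraceAlg
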