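import Groth.Agent.Lib.Helper28.TraceB
import Groth.Agent.Lib.Helper28.TwistGen

/-!
# The trace of a locally free algebra of rank `d`: `τ(u · 1) = d u`, and the splitting when `d` is invertible
-/

set_option autoImplicit false
universe u
open CategoryTheory CategoryTheory.Limits AlgebraicGeometry Opposite TopologicalSpace
noncomputable section

namespace Groth.Agent.Lib.Helper28.TraceAlg

open Groth.Agent.Lib.Helper28 Groth.Agent.Lib.Helper28.QCohLoc Groth.Agent.Lib.Helper17.Frame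

variable {X : Scheme.{u}} (A : RelSpec.QCAlg X) (d : ℕ)

attribute [local instance] algAt

/-- opens contained in an open over which `A` has a frame of size `d` -/
def FramedD (V : X.Opens) : Prop :=
  ∃ (U : X.Opens) (γ : Fin d → Γ(A.toModule, U)), V ≤ U ∧ IsFrame A.toModule U γ

variable {A d} in
theorem FramedD.framed {V : X.Opens} (hV : FramedD A d V) : Framed A V := by
  obtain ⟨U, γ, hVU, hγ⟩ := hV
  exact ⟨U, d, γ, hVU, hγ⟩

variable {A d} in
theorem FramedD.mono {V V' : X.Opens} (h : V' ≤ V) (hV : FramedD A d V) : FramedD A d V' := by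
  obtain ⟨U, γ, hVU, hγ⟩ := hV
  exact ⟨U, γ, h.trans hVU, hγ⟩

theorem framedD_cov (hA : FlatMod.IsFinLocFreeOfRank d A.toModule) (x : X) :
    ∃ V : X.Opens, FramedD A d V ∧ x ∈ V := by
  obtain ⟨U, hxU, ⟨e⟩⟩ := hA x
  obtain ⟨γ, hγ⟩ := exists_isFrame_of_iso A.toModule U d e
  exact ⟨U, ⟨U, γ, le_rfl, hγ⟩, hxU⟩

theorem isFinLocFree_of_rank (hA : FlatMod.IsFinLocFreeOfRank d A.toModule) : FlatMod.IsFinLocFree A.toModule := by
  intro x
  obtain ⟨U, hxU, e⟩ := hA x
  exact ⟨U, d, hxU, e⟩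

variable {A d}

section tau

variable (hA : FlatMod.IsFinLocFreeOfRank d A.toModule) (τ : A.toModule ⟶ Coh.structureModule X)
  (hτ : FinCov.IsTrace A τ)

include hA hτ in
theorem tau_app_of_framed {V : X.Opens} (hV : Framed A V) (a : Γ(A.toModule, V)) :
    τ.app V a = (show Γ(Coh.structureModule X, V) from
      Algebra.trace Γ(X, V) (A.presheaf.obj (op V)) (asR A a)) := by
  rw [eq_traceHom A (isFinLocFree_of_rank A d hA) τ hτ]
  exact traceHom_app A _ hV a

theorem str_res {W V : X.Opens} (h : V ≤ W) (u : Γ(X, W)) :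
    res A.toModule h (ofR A (algebraMap Γ(X, W) (A.presheaf.obj (op W)) u)) =
      ofR A (algebraMap Γ(X, V) (A.presheaf.obj (op V)) (resO h u)) := by
  have h1 := congrArg (fun ψ => ψ.hom u) (A.str.naturality (homOfLE h).op)
  exact h1.symm

include hA hτ in
/-- `τ(u · 1) = d u` -/
theorem tau_str (W : X.Opens) (u : Γ(X, W)) :
    τ.app W (ofR A (algebraMap Γ(X, W) (A.presheaf.obj (op W)) u)) =
      (show Γ(Coh.structureModule X, W) from (d : Γ(X, W)) * u) := by
  have hloc : ∀ pt : W, ∃ V : X.Opens, V ≤ W ∧ pt.1 ∈ V ∧ FramedD A d V := by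
    intro pt
    obtain ⟨V₀, hV₀, hptV₀⟩ := framedD_cov A d hA pt.1
    exact ⟨V₀ ⊓ W, inf_le_right, ⟨hptV₀, pt.2⟩, hV₀.mono inf_le_left⟩
  choose V hVW hpt hfr using hloc
  refine eq_of_locally_eq (Coh.structureModule X) V W hVW (fun y hy => Opens.mem_iSup.2 ⟨⟨y, hy⟩, hpt _⟩)
    _ _ (fun pt => ?_)
  rw [← app_res, str_res, tau_app_of_framed hA τ hτ (hfr pt).framed]
  obtain ⟨U, γ, hVU, hγ⟩ := hfr pt
  show Algebra.trace Γ(X, V pt) (A.presheaf.obj (op (V pt)))
      (algebraMap Γ(X, V pt) (A.presheaf.obj (op (V pt))) (resO (hVW pt) u)) =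
    resO (hVW pt) ((d : Γ(X, W)) * u)
  rw [Algebra.trace_algebraMap_of_basis (frameBasis hγ hVU), Fintype.card_fin, GenLocus.resO_mul, nsmul_eq_mul]
  congr 1
  exact (map_natCast (X.presheaf.map (homOfLE (hVW pt)).op).hom d).symm

end tau

section split

variable (hA : FlatMod.IsFinLocFreeOfRank d A.toModule) (τ : A.toModule ⟶ Coh.structureModule X)
  (hτ : FinCov.IsTrace A τ)

include hA hτ in
/-- **if the rank is invertible, the trace is a split epimorphism** -/
theorem isSplitEpi_tau (hd : IsUnit ((d : Γ(X, ⊤)))) : IsSplitEpi τ := by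
  obtain ⟨dinv, hdinv⟩ := hd.exists_right_inv
  refine IsSplitEpi.mk' ⟨TwistGen.ofSection A.toModule
    (ofR A (algebraMap Γ(X, ⊤) (A.presheaf.obj (op ⊤)) dinv)), ?_⟩
  apply Scheme.Modules.hom_ext
  intro V
  ext c
  show τ.app V ((TwistGen.ofSection A.toModule (ofR A (algebraMap Γ(X, ⊤) (A.presheaf.obj (op ⊤)) dinv))).app V c) = c
  have h1 := TwistGen.ofSection_app A.toModule (ofR A (algebraMap Γ(X, ⊤) (A.presheaf.obj (op ⊤)) dinv)) V c
  rw [h1, Scheme.Modules.Hom.app_smul, app_res, tau_str hA τ hτ ⊤ dinv]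
  show (show Γ(X, V) from c) * resO le_top ((d : Γ(X, ⊤)) * dinv) = (show Γ(X, V) from c)
  rw [hdinv]
  have h2 : resO (le_top : V ≤ ⊤) (1 : Γ(X, ⊤)) = 1 := map_one (X.presheaf.map (homOfLE (le_top : V ≤ ⊤)).op).hom
  rw [h2]
  exact mul_one (show Γ(X, V) from c)

end split

end Groth.Agent.Lib.Helper28.TraceAlg
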