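import Groth.Agent.Lib.Helper28.TraceC
import Groth.Agent.Lib.Helper28.IdealDual

/-!
# Coordinates with respect to a frame of a quasi-coherent algebra
-/

set_option autoImplicit false
universe u
open CategoryTheory CategoryTheory.Limits AlgebraicGeometry Opposite TopologicalSpace
noncomputable section

namespace Groth.Agent.Lib.Helper28.TraceAlg

open Groth.Agent.Lib.Helper28 Groth.Agent.Lib.Helper28.QCohLoc Groth.Agent.Lib.Helper17.Frame

variable {X : Scheme.{u}} {A : RelSpec.QCAlg X}

attribute [local instance] algAt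

section coord

variable {U : X.Opens} {n : ℕ} {γ : Fin n → Γ(A.toModule, U)} (hγ : IsFrame A.toModule U γ)

/-- coordinates with respect to the frame -/
def coord {V : X.Opens} (hV : V ≤ U) : (A.presheaf.obj (op V)) ≃ₗ[Γ(X, V)] (Fin n → Γ(X, V)) :=
  (frameBasis hγ hV).equivFun

theorem coord_apply {V : X.Opens} (hV : V ≤ U) (a : A.presheaf.obj (op V)) (j : Fin n) :
    coord hγ hV a j = hγ.coef hV (ofR A a) j := frameBasis_repr hγ hV a j

theorem coord_res {V V' : X.Opens} (hV : V ≤ U) (h : V' ≤ V) (a : A.presheaf.obj (op V)) (j : Fin n) :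
    coord hγ (h.trans hV) (asR A (res A.toModule h (ofR A a))) j = resO h (coord hγ hV a j) := by
  rw [coord_apply, coord_apply]
  exact hγ.coef_res hV h (ofR A a) j

theorem coord_gamma {V : X.Opens} (hV : V ≤ U) (i j : Fin n) :
    coord hγ hV (asR A (res A.toModule hV (γ i))) j = if i = j then 1 else 0 := by
  classical
  rw [← frameBasis_apply hγ hV i]
  exact Module.Basis.equivFun_self _ i j

theorem sum_coord {V : X.Opens} (hV : V ≤ U) (a : A.presheaf.obj (op V)) :
    ∑ j, coord hγ hV a j • asR A (res A.toModule hV (γ j)) = a := by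
  have h := (frameBasis hγ hV).sum_equivFun a
  simp only [frameBasis_apply] at h
  exact h

/-- a morphism to `O_X` in coordinates -/
theorem app_eq_sum_coord (τ : A.toModule ⟶ Coh.structureModule X) {V : X.Opens} (hV : V ≤ U)
    (a : A.presheaf.obj (op V)) :
    (show Γ(X, V) from τ.app V (ofR A a)) =
      ∑ j, coord hγ hV a j * (show Γ(X, V) from τ.app V (res A.toModule hV (γ j))) := by
  conv_lhs => rw [← sum_coord hγ hV a]
  have h1 : ofR A (∑ j, coord hγ hV a j • asR A (res A.toModule hV (γ j))) =
      ∑ j, (coord hγ hV a j • res A.toModule hV (γ j) : Γ(A.toModule, V)) := rfl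
  rw [h1, Groth.Agent.Lib.Helper29.FreeIso.app_sum]
  refine Finset.sum_congr rfl fun j _ => ?_
  rw [Scheme.Modules.Hom.app_smul]
  rfl

end coord

end Groth.Agent.Lib.Helper28.TraceAlg
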