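import Groth.Agent.Lib.Helper28.TraceD
import Groth.Agent.Lib.Helper28.TraceAlgebra

/-!
# A frame of the kernel of the trace
-/

set_option autoImplicit false
universe u
open CategoryTheory CategoryTheory.Limits AlgebraicGeometry Opposite TopologicalSpace
noncomputable section

namespace Groth.Agent.Lib.Helper28.TraceAlg

open Groth.Agent.Lib.Helper28 Groth.Agent.Lib.Helper28.QCohLoc Groth.Agent.Lib.Helper17.Frame
  Groth.Agent.Lib.Helper28.IdealDual

variable {X : Scheme.{u}} {A : RelSpec.QCAlg X}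

attribute [local instance] algAt

section kernelFrame

variable {n : ℕ} {U : X.Opens} {γ : Fin (n + 1) → Γ(A.toModule, U)} (hγ : IsFrame A.toModule U γ)
  (τ : A.toModule ⟶ Coh.structureModule X)

/-- the coordinates of `1` -/
def eCoef (j : Fin (n + 1)) : Γ(X, U) := coord hγ le_rfl 1 j

/-- the values of `τ` on the frame -/
def tCoef (γ : Fin (n + 1) → Γ(A.toModule, U)) (τ : A.toModule ⟶ Coh.structureModule X)
    (j : Fin (n + 1)) : Γ(X, U) := τ.app U (γ j)

theorem res_one {V V' : X.Opens} (h : V' ≤ V) :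
    asR A (res A.toModule h (ofR A (1 : A.presheaf.obj (op V)))) = 1 :=
  map_one (A.presheaf.map (homOfLE h).op).hom

theorem res_sub' {V V' : X.Opens} (h : V' ≤ V) (x y : A.presheaf.obj (op V)) :
    asR A (res A.toModule h (ofR A (x - y))) =
      asR A (res A.toModule h (ofR A x)) - asR A (res A.toModule h (ofR A y)) :=
  map_sub (A.presheaf.map (homOfLE h).op).hom x y

theorem coord_one {T : X.Opens} (hT : T ≤ U) (j : Fin (n + 1)) :
    coord hγ hT 1 j = resO hT (eCoef hγ j) := by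
  have h := coord_res hγ le_rfl hT (1 : A.presheaf.obj (op U)) j
  rw [res_one] at h
  exact h

theorem coord_algebraMap {T : X.Opens} (hT : T ≤ U) (c : Γ(X, T)) (j : Fin (n + 1)) :
    coord hγ hT (algebraMap Γ(X, T) (A.presheaf.obj (op T)) c) j = c * resO hT (eCoef hγ j) := by
  rw [Algebra.algebraMap_eq_smul_one, map_smul, Pi.smul_apply, coord_one, smul_eq_mul]

theorem tau_gamma {T : X.Opens} (hT : T ≤ U) (j : Fin (n + 1)) :
    (show Γ(X, T) from τ.app T (res A.toModule hT (γ j))) = resO hT (tCoef γ τ j) :=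
  app_res τ hT (γ j)

/-- the sections `γ_i - (t_i δ) · 1` -/
def kapR (γ : Fin (n + 1) → Γ(A.toModule, U)) (τ : A.toModule ⟶ Coh.structureModule X)
    (δ : Γ(X, U)) (i : Fin (n + 1)) : A.presheaf.obj (op U) :=
  asR A (γ i) - algebraMap Γ(X, U) (A.presheaf.obj (op U)) (tCoef γ τ i * δ)

theorem kapR_res (δ : Γ(X, U)) {T : X.Opens} (hT : T ≤ U) (i : Fin (n + 1)) :
    asR A (res A.toModule hT (ofR A (kapR γ τ δ i))) =
      asR A (res A.toModule hT (γ i)) -
        algebraMap Γ(X, T) (A.presheaf.obj (op T)) (resO hT (tCoef γ τ i) * resO hT δ) := by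
  unfold kapR
  rw [res_sub', str_res, GenLocus.resO_mul]

theorem coord_kapR (δ : Γ(X, U)) {T : X.Opens} (hT : T ≤ U) (i j : Fin (n + 1)) :
    coord hγ hT (asR A (res A.toModule hT (ofR A (kapR γ τ δ i)))) j =
      (if i = j then 1 else 0) - resO hT (tCoef γ τ i) * resO hT δ * resO hT (eCoef hγ j) := by
  rw [kapR_res, map_sub, Pi.sub_apply, coord_gamma, coord_algebraMap]

section withStr

variable (δ : Γ(X, U)) (hδ : ((n + 1 : ℕ) : Γ(X, U)) * δ = 1)
  (hstr : ∀ (W : X.Opens) (u : Γ(X, W)),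
    τ.app W (ofR A (algebraMap Γ(X, W) (A.presheaf.obj (op W)) u)) =
      (show Γ(Coh.structureModule X, W) from ((n + 1 : ℕ) : Γ(X, W)) * u))

include hδ hstr in
theorem tau_kapR (i : Fin (n + 1)) : τ.app U (ofR A (kapR γ τ δ i)) = 0 := by
  have h1 : ofR A (kapR γ τ δ i) =
      γ i - ofR A (algebraMap Γ(X, U) (A.presheaf.obj (op U)) (tCoef γ τ i * δ)) := rfl
  rw [h1, map_sub, hstr]
  show (show Γ(X, U) from τ.app U (γ i)) - ((n + 1 : ℕ) : Γ(X, U)) * (tCoef γ τ i * δ) = 0
  have h2 : ((n + 1 : ℕ) : Γ(X, U)) * (tCoef γ τ i * δ) = tCoef γ τ i := by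
    rw [mul_left_comm, hδ, mul_one]
  rw [h2]
  exact sub_self _

include hδ in
theorem delta_res {T : X.Opens} (hT : T ≤ U) : ((n + 1 : ℕ) : Γ(X, T)) * resO hT δ = 1 := by
  have h := congrArg (resO hT) hδ
  rw [GenLocus.resO_mul] at h
  have h1 : resO hT ((n + 1 : ℕ) : Γ(X, U)) = ((n + 1 : ℕ) : Γ(X, T)) :=
    map_natCast (X.presheaf.map (homOfLE hT).op).hom (n + 1)
  have h2 : resO hT (1 : Γ(X, U)) = 1 := map_one (X.presheaf.map (homOfLE hT).op).hom
  rw [h1, h2] at h
  exact h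

include hstr in
theorem sum_e_t {T : X.Opens} (hT : T ≤ U) :
    ∑ j, resO hT (eCoef hγ j) * resO hT (tCoef γ τ j) = ((n + 1 : ℕ) : Γ(X, T)) := by
  have h1 := app_eq_sum_coord hγ τ hT (algebraMap Γ(X, T) (A.presheaf.obj (op T)) 1)
  have h0 : (show Γ(X, T) from τ.app T (ofR A (algebraMap Γ(X, T) (A.presheaf.obj (op T)) 1))) =
      ((n + 1 : ℕ) : Γ(X, T)) := by
    refine (hstr T 1).trans ?_
    exact mul_one ((n + 1 : ℕ) : Γ(X, T))
  refine Eq.trans (Finset.sum_congr rfl fun j _ => ?_) (h1.symm.trans h0)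
  rw [coord_algebraMap, one_mul]
  exact congrArg (fun z => resO hT (eCoef hγ j) * z) (tau_gamma τ hT j).symm

theorem sum_a_t {T : X.Opens} (hT : T ≤ U) (t : Γ(kernel τ, T)) :
    ∑ j, coord hγ hT (asR A ((kernel.ι τ).app T t)) j * resO hT (tCoef γ τ j) = 0 := by
  have h1 := app_eq_sum_coord hγ τ hT (asR A ((kernel.ι τ).app T t))
  have h2 : τ.app T (ofR A (asR A ((kernel.ι τ).app T t))) = 0 := app_kernel_ι_app τ T t
  rw [h2] at h1
  refine Eq.trans (Finset.sum_congr rfl fun j _ => ?_) h1.symm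
  exact congrArg (fun z => coord hγ hT (asR A ((kernel.ι τ).app T t)) j * z) (tau_gamma τ hT j).symm

end withStr

section basis

variable (δ : Γ(X, U)) (hδ : ((n + 1 : ℕ) : Γ(X, U)) * δ = 1)
  (hstr : ∀ (W : X.Opens) (u : Γ(X, W)),
    τ.app W (ofR A (algebraMap Γ(X, W) (A.presheaf.obj (op W)) u)) =
      (show Γ(Coh.structureModule X, W) from ((n + 1 : ℕ) : Γ(X, W)) * u))
  (j₀ : Fin (n + 1)) {V' : X.Opens} (hV' : V' ≤ U) (ε : Γ(X, V'))
  (hε : ε * resO hV' (eCoef hγ j₀) = 1)
  (κ : Fin (n + 1) → Γ(kernel τ, U)) (hκ : ∀ i, (kernel.ι τ).app U (κ i) = ofR A (kapR γ τ δ i))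

include hκ in
theorem iota_res_kappa {T : X.Opens} (hT : T ≤ V') (i : Fin (n + 1)) :
    (kernel.ι τ).app T (res (kernel τ) hT (res (kernel τ) hV' (κ i))) =
      res A.toModule (hT.trans hV') (ofR A (kapR γ τ δ i)) := by
  rw [app_res, app_res, hκ, res_res]

include hε in
theorem eps_res {T : X.Opens} (hT : T ≤ V') :
    resO hT ε * resO (hT.trans hV') (eCoef hγ j₀) = 1 := by
  have h := congrArg (resO hT) hε
  rw [GenLocus.resO_mul, resO_resO] at h
  have h2 : resO hT (1 : Γ(X, V')) = 1 := map_one (X.presheaf.map (homOfLE hT).op).hom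
  rw [h2] at h
  exact h

include hκ in
theorem coord_sum_kappa {T : X.Opens} (hT : T ≤ V') (c : Fin n → Γ(X, T)) (j : Fin (n + 1)) :
    coord hγ (hT.trans hV') (asR A ((kernel.ι τ).app T
      (∑ k, c k • res (kernel τ) hT (res (kernel τ) hV' (κ (j₀.succAbove k)))))) j =
    ∑ k, c k * ((if j₀.succAbove k = j then 1 else 0) -
      resO (hT.trans hV') (tCoef γ τ (j₀.succAbove k)) * resO (hT.trans hV') δ *
        resO (hT.trans hV') (eCoef hγ j)) := by
  rw [Groth.Agent.Lib.Helper29.FreeIso.app_sum]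
  have h1 : asR A (∑ k, (kernel.ι τ).app T
      (c k • res (kernel τ) hT (res (kernel τ) hV' (κ (j₀.succAbove k))))) =
      ∑ k, c k • asR A (res A.toModule (hT.trans hV') (ofR A (kapR γ τ δ (j₀.succAbove k)))) := by
    refine Finset.sum_congr rfl fun k _ => ?_
    rw [Scheme.Modules.Hom.app_smul, iota_res_kappa τ δ hV' κ hκ hT]
    rfl
  rw [h1, map_sum, Finset.sum_apply]
  refine Finset.sum_congr rfl fun k _ => ?_
  rw [map_smul, Pi.smul_apply, smul_eq_mul, coord_kapR]

include hδ hstr hε hκ in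
/-- **the frame of the kernel of the trace** -/
theorem kernel_isBasisOn :
    Groth.Agent.Lib.Helper29.FreeIso.IsBasisOn (kernel τ) V'
      (fun k => res (kernel τ) hV' (κ (j₀.succAbove k))) := by
  refine ⟨fun T hT c hc => ?_, fun T hT t pt hpt => ?_⟩
  · have h1 : ∀ j, ∑ k, c k * ((if j₀.succAbove k = j then 1 else 0) -
        resO (hT.trans hV') (tCoef γ τ (j₀.succAbove k)) * resO (hT.trans hV') δ *
          resO (hT.trans hV') (eCoef hγ j)) = 0 := by
      intro j
      rw [← coord_sum_kappa hγ τ δ j₀ hV' κ hκ hT c j, hc, map_zero]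
      exact congrFun (map_zero (coord hγ (hT.trans hV'))) j
    exact TraceAlgebra.indep j₀ (fun j => resO (hT.trans hV') (eCoef hγ j))
      (fun j => resO (hT.trans hV') (tCoef γ τ j)) (resO (hT.trans hV') δ) (resO hT ε)
      (eps_res hγ j₀ hV' ε hε hT) c h1
  · refine ⟨T, le_rfl, hpt, fun k =>
      coord hγ (hT.trans hV') (asR A ((kernel.ι τ).app T t)) (j₀.succAbove k) -
        coord hγ (hT.trans hV') (asR A ((kernel.ι τ).app T t)) j₀ * resO hT ε *
          resO (hT.trans hV') (eCoef hγ (j₀.succAbove k)), ?_⟩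
    rw [res_self]
    apply kernel_ι_app_injective τ T
    apply (coord hγ (hT.trans hV')).injective
    funext j
    have h2 := coord_sum_kappa hγ τ δ j₀ hV' κ hκ hT (fun k =>
      coord hγ (hT.trans hV') (asR A ((kernel.ι τ).app T t)) (j₀.succAbove k) -
        coord hγ (hT.trans hV') (asR A ((kernel.ι τ).app T t)) j₀ * resO hT ε *
          resO (hT.trans hV') (eCoef hγ (j₀.succAbove k))) j
    refine Eq.trans ?_ h2.symm
    exact TraceAlgebra.gen j₀ (fun j => coord hγ (hT.trans hV') (asR A ((kernel.ι τ).app T t)) j)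
      (fun j => resO (hT.trans hV') (eCoef hγ j))
      (fun j => resO (hT.trans hV') (tCoef γ τ j)) (resO (hT.trans hV') δ) (resO hT ε)
      (sum_a_t hγ τ (hT.trans hV') t) (sum_e_t hγ τ hstr (hT.trans hV'))
      (eps_res hγ j₀ hV' ε hε hT) (delta_res δ hδ (hT.trans hV')) j

end basis

end kernelFrame

section final

variable {d : ℕ} (hA : FlatMod.IsFinLocFreeOfRank d A.toModule) (τ : A.toModule ⟶ Coh.structureModule X)
  (hτ : FinCov.IsTrace A τ)

include hA hτ in
/-- **the kernel of the trace is locally free of rank `d - 1`** -/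
theorem kernel_locFree (hd : IsUnit ((d : Γ(X, ⊤)))) :
    FlatMod.IsFinLocFreeOfRank (d - 1) (kernel τ) := by
  intro x
  obtain ⟨dinv, hdinv⟩ := hd.exists_right_inv
  cases d with
  | zero =>
    exfalso
    rw [Nat.cast_zero, zero_mul] at hdinv
    have h1 := congrArg (X.presheaf.germ ⊤ x trivial).hom hdinv
    rw [map_zero, map_one] at h1
    exact zero_ne_one h1
  | succ n =>
    obtain ⟨V, ⟨U, γ, hVU, hγ⟩, hxV⟩ := framedD_cov A (n + 1) hA x
    have hxU : x ∈ U := hVU hxV
    have hstr := tau_str hA τ hτ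
    have hδ : ((n + 1 : ℕ) : Γ(X, U)) * resO (le_top : U ≤ ⊤) dinv = 1 := by
      have h := congrArg (resO (le_top : U ≤ ⊤)) hdinv
      rw [GenLocus.resO_mul] at h
      have h1 : resO (le_top : U ≤ ⊤) ((n + 1 : ℕ) : Γ(X, ⊤)) = ((n + 1 : ℕ) : Γ(X, U)) :=
        map_natCast (X.presheaf.map (homOfLE (le_top : U ≤ ⊤)).op).hom (n + 1)
      have h2 : resO (le_top : U ≤ ⊤) (1 : Γ(X, ⊤)) = 1 :=
        map_one (X.presheaf.map (homOfLE (le_top : U ≤ ⊤)).op).hom
      rw [h1, h2] at h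
      exact h
    -- some coordinate of `1` is invertible at `x`
    have hj : ∃ j₀ : Fin (n + 1), x ∈ X.basicOpen (eCoef hγ j₀) := by
      by_contra hcon
      push Not at hcon
      have hsum := sum_e_t hγ τ hstr (le_refl U)
      simp only [Groth.Agent.Lib.Helper29.FreeIso.resO_self'] at hsum
      have hunit : IsUnit (((n + 1 : ℕ) : Γ(X, U))) := IsUnit.of_mul_eq_one _ hδ
      have hunit' : IsUnit ((X.presheaf.germ U x hxU).hom ((n + 1 : ℕ) : Γ(X, U))) :=
        hunit.map (X.presheaf.germ U x hxU).hom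
      rw [← hsum, map_sum] at hunit'
      have hmem : ∑ j, (X.presheaf.germ U x hxU).hom (eCoef hγ j * tCoef γ τ j) ∈
          IsLocalRing.maximalIdeal (X.presheaf.stalk x) := by
        refine Ideal.sum_mem _ fun j _ => ?_
        rw [map_mul]
        refine Ideal.mul_mem_right _ _ ?_
        rw [IsLocalRing.mem_maximalIdeal, mem_nonunits_iff]
        intro hu
        exact hcon j ((X.toRingedSpace.mem_basicOpen (eCoef hγ j) x hxU).2 hu)
      exact (IsLocalRing.mem_maximalIdeal _).1 hmem hunit'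
    obtain ⟨j₀, hj₀⟩ := hj
    have hV' : X.basicOpen (eCoef hγ j₀) ≤ U := X.basicOpen_le _
    have hu : IsUnit (resO hV' (eCoef hγ j₀)) := RingedSpace.isUnit_res_basicOpen _ (eCoef hγ j₀)
    obtain ⟨ε, hε⟩ := hu.exists_left_inv
    have hk : ∀ i, ∃ k : Γ(kernel τ, U), (kernel.ι τ).app U k =
        ofR A (kapR γ τ (resO (le_top : U ≤ ⊤) dinv) i) := fun i =>
      exists_kernel_app_eq τ U _ (tau_kapR τ _ hδ hstr i)
    choose κ hκ using hk
    refine ⟨X.basicOpen (eCoef hγ j₀), hj₀, ?_⟩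
    exact (kernel_isBasisOn hγ τ _ hδ hstr j₀ hV' ε hε κ hκ).nonempty_iso

end final

end Groth.Agent.Lib.Helper28.TraceAlg
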