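import Groth.Agent.Lib.Helper28.TraceC
set_option autoImplicit false
universe u
open CategoryTheory CategoryTheory.Limits AlgebraicGeometry Opposite TopologicalSpace
noncomputable section
namespace Groth.Agent.Lib.Helper28.TraceAlg
open Groth.Agent.Lib.Helper28 Groth.Agent.Lib.Helper28.QCohLoc Groth.Agent.Lib.Helper17.Frame
variable {X : Scheme.{u}} {A : RelSpec.QCAlg X}
attribute [local instance] algAt

theorem nsmul_id_app (M : X.Modules) (d : ℕ) (V : X.Opens) (c : Γ(M, V)) :
    (d • 𝟙 M : M ⟶ M).app V c = d • c := by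
  induction d with
  | zero =>
    rw [zero_smul, zero_smul]
    rfl
  | succ n ih =>
    rw [succ_nsmul, succ_nsmul, Scheme.Modules.Hom.add_app]
    show (n • 𝟙 M : M ⟶ M).app V c + (𝟙 M : M ⟶ M).app V c = _
    rw [ih]
    rfl

theorem strMod_tau {d : ℕ} (hA : FlatMod.IsFinLocFreeOfRank d A.toModule)
    (τ : A.toModule ⟶ Coh.structureModule X) (hτ : FinCov.IsTrace A τ) :
    FinCov.strMod A ≫ τ = d • 𝟙 (Coh.structureModule X) := by
  apply Scheme.Modules.hom_ext
  intro V
  ext c
  show τ.app V (ofR A (algebraMap Γ(X, V) (A.presheaf.obj (op V)) c)) = (d • 𝟙 (Coh.structureModule X) : _ ⟶ _).app V c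
  rw [tau_str hA τ hτ V c, nsmul_id_app]
  exact (nsmul_eq_mul d (show Γ(X, V) from c)).symm

end Groth.Agent.Lib.Helper28.TraceAlg
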