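import Groth.Agent.Lib.Helper28.SymAlgCrit
import Groth.Agent.Lib.Helper17.Serre

set_option autoImplicit false
universe u
open CategoryTheory CategoryTheory.Limits AlgebraicGeometry Opposite TopologicalSpace
noncomputable section

namespace Groth.Agent.Lib.Helper28.TrivExt

open Groth.Agent.Lib.Helper28 Groth.Agent.Lib.Helper28.QCohLoc Groth.Agent.Lib.Helper28.TraceAlg

variable {S : Scheme.{u}} (M : S.Modules)

/-- the right action of the functions on the sections of a module -/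
@[reducible] def modOp (U : S.Opens) : Module (Γ(S, U))ᵐᵒᵖ Γ(M, U) :=
  Module.compHom _ ((RingHom.id Γ(S, U)).fromOpposite (fun a b => mul_comm a b))

attribute [local instance] modOp

instance isCentral (U : S.Opens) : IsCentralScalar Γ(S, U) Γ(M, U) := ⟨fun _ _ => rfl⟩

/-- the ring `O(U) ⊕ M(U)` -/
abbrev TS (U : S.Opens) : Type u := TrivSqZeroExt Γ(S, U) Γ(M, U)

example (U : S.Opens) : CommRing (TS M U) := inferInstance

theorem snd_mul' (U : S.Opens) (x y : TS M U) : (x * y).snd = x.fst • y.snd + y.fst • x.snd := by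
  rw [TrivSqZeroExt.snd_mul, op_smul_eq_smul]

theorem rO_one {U V : S.Opens} (h : V ≤ U) : resO h (1 : Γ(S, U)) = 1 := map_one _
theorem rO_zero {U V : S.Opens} (h : V ≤ U) : resO h (0 : Γ(S, U)) = 0 := map_zero _
theorem rO_mul {U V : S.Opens} (h : V ≤ U) (x y : Γ(S, U)) : resO h (x * y) = resO h x * resO h y := map_mul _ x y
theorem rO_add {U V : S.Opens} (h : V ≤ U) (x y : Γ(S, U)) : resO h (x + y) = resO h x + resO h y := map_add _ x y
theorem rO_sub {U V : S.Opens} (h : V ≤ U) (x y : Γ(S, U)) : resO h (x - y) = resO h x - resO h y := map_sub _ x y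
theorem rO_self {U : S.Opens} (a : Γ(S, U)) : resO (le_refl U) a = a := by
  have h : (S.presheaf.map (homOfLE (le_refl U)).op) = 𝟙 _ := by
    rw [show (homOfLE (le_refl U)).op = 𝟙 (op U) from rfl, S.presheaf.map_id]
  exact congrArg (fun χ => χ.hom a) h

/-- pairs -/
def mk {U : S.Opens} (a : Γ(S, U)) (m : Γ(M, U)) : TS M U := TrivSqZeroExt.inl a + TrivSqZeroExt.inr m

@[simp] theorem mk_fst {U : S.Opens} (a : Γ(S, U)) (m : Γ(M, U)) : (mk M a m).fst = a := by
  simp [mk]
@[simp] theorem mk_snd {U : S.Opens} (a : Γ(S, U)) (m : Γ(M, U)) : (mk M a m).snd = m := by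
  simp [mk]

theorem mk_eta {U : S.Opens} (x : TS M U) : mk M x.fst x.snd = x :=
  TrivSqZeroExt.ext (mk_fst M _ _) (mk_snd M _ _)

/-- restriction -/
def resT {U V : S.Opens} (h : V ≤ U) : TS M U →+* TS M V where
  toFun x := mk M (resO h x.fst) (res M h x.snd)
  map_one' := by
    refine TrivSqZeroExt.ext ?_ ?_
    · rw [mk_fst, TrivSqZeroExt.fst_one, TrivSqZeroExt.fst_one, rO_one]
    · rw [mk_snd, TrivSqZeroExt.snd_one, TrivSqZeroExt.snd_one, res_zero]
  map_mul' x y := by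
    refine TrivSqZeroExt.ext ?_ ?_
    · rw [mk_fst, TrivSqZeroExt.fst_mul, TrivSqZeroExt.fst_mul, mk_fst, mk_fst, rO_mul]
    · rw [mk_snd, snd_mul', snd_mul', mk_fst, mk_fst, mk_snd, mk_snd, res_add, res_smul, res_smul]
  map_zero' := by
    refine TrivSqZeroExt.ext ?_ ?_
    · rw [mk_fst, TrivSqZeroExt.fst_zero, TrivSqZeroExt.fst_zero, rO_zero]
    · rw [mk_snd, TrivSqZeroExt.snd_zero, TrivSqZeroExt.snd_zero, res_zero]
  map_add' x y := by
    refine TrivSqZeroExt.ext ?_ ?_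
    · rw [mk_fst, TrivSqZeroExt.fst_add, TrivSqZeroExt.fst_add, mk_fst, mk_fst, rO_add]
    · rw [mk_snd, TrivSqZeroExt.snd_add, TrivSqZeroExt.snd_add, mk_snd, mk_snd, res_add]

theorem resT_fst {U V : S.Opens} (h : V ≤ U) (x : TS M U) : (resT M h x).fst = resO h x.fst := mk_fst M _ _
theorem resT_snd {U V : S.Opens} (h : V ≤ U) (x : TS M U) : (resT M h x).snd = res M h x.snd := mk_snd M _ _

/-- the presheaf of rings `O ⊕ M` -/
def presheaf : TopCat.Presheaf CommRingCat.{u} S.carrier where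
  obj U := CommRingCat.of (TS M U.unop)
  map {U V} i := CommRingCat.ofHom (resT M (leOfHom i.unop))
  map_id U := by
    apply CommRingCat.hom_ext
    refine RingHom.ext fun x => ?_
    refine TrivSqZeroExt.ext ?_ ?_
    · exact (resT_fst M _ x).trans (rO_self _)
    · exact (resT_snd M _ x).trans (res_self M _)
  map_comp {U V W} i k := by
    apply CommRingCat.hom_ext
    refine RingHom.ext fun x => ?_
    refine TrivSqZeroExt.ext ?_ ?_
    · refine (resT_fst M _ x).trans ?_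
      refine Eq.trans ?_ (resT_fst M _ _).symm
      refine Eq.trans ?_ (congrArg _ (resT_fst M (leOfHom i.unop) x).symm)
      exact (resO_resO _ _ _).symm
    · refine (resT_snd M _ x).trans ?_
      refine Eq.trans ?_ (resT_snd M _ _).symm
      refine Eq.trans ?_ (congrArg _ (resT_snd M (leOfHom i.unop) x).symm)
      exact (res_res M _ _ _).symm

theorem presheaf_map_apply {U V : S.Opens} (h : V ≤ U) (x : TS M U) :
    ((presheaf M).map (homOfLE h).op).hom x = resT M h x := rfl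

/-- gluing of functions -/
theorem exists_gluing_O {ι : Type*} (V : ι → S.Opens) (U : S.Opens) (hV : ∀ i, V i ≤ U) (hcover : U ≤ iSup V)
    (sf : ∀ i, Γ(S, V i))
    (h : ∀ i j, resO (inf_le_left : V i ⊓ V j ≤ V i) (sf i) = resO (inf_le_right : V i ⊓ V j ≤ V j) (sf j)) :
    ∃ x : Γ(S, U), ∀ i, resO (hV i) x = sf i := by
  obtain ⟨x, hx, -⟩ := TopCat.Sheaf.existsUnique_gluing' S.sheaf V U
    (fun i => homOfLE (hV i)) hcover sf h
  exact ⟨x, hx⟩

theorem eq_of_locally_eq_O {ι : Type*} (V : ι → S.Opens) (U : S.Opens) (hV : ∀ i, V i ≤ U) (hcover : U ≤ iSup V)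
    (x y : Γ(S, U)) (h : ∀ i, resO (hV i) x = resO (hV i) y) : x = y :=
  TopCat.Sheaf.eq_of_locally_eq' S.sheaf V U (fun i => homOfLE (hV i)) hcover x y h

theorem isSheaf_presheaf : (presheaf M).IsSheaf := by
  rw [TopCat.Presheaf.isSheaf_iff_isSheafUniqueGluing]
  intro ι U sf hsf
  have hle : ∀ i, U i ≤ iSup U := fun i => le_iSup U i
  have hsf' : ∀ i j, resT M (inf_le_left : U i ⊓ U j ≤ U i) (sf i) =
      resT M (inf_le_right : U i ⊓ U j ≤ U j) (sf j) := hsf
  obtain ⟨a, ha⟩ := exists_gluing_O U (iSup U) hle le_rfl (fun i => (sf i : TS M (U i)).fst) (fun i j => by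
    have := congrArg TrivSqZeroExt.fst (hsf' i j)
    rw [resT_fst, resT_fst] at this
    exact this)
  obtain ⟨m, hm⟩ := exists_gluing M U (iSup U) hle le_rfl (fun i => (sf i : TS M (U i)).snd) (fun i j => by
    have := congrArg TrivSqZeroExt.snd (hsf' i j)
    rw [resT_snd, resT_snd] at this
    exact this)
  refine ⟨mk M a m, fun i => ?_, fun y hy => ?_⟩
  · show resT M (hle i) (mk M a m) = sf i
    refine TrivSqZeroExt.ext ?_ ?_
    · rw [resT_fst, mk_fst, ha]
    · rw [resT_snd, mk_snd, hm]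
  · have hy' : ∀ i, resT M (hle i) y = sf i := hy
    refine TrivSqZeroExt.ext ?_ ?_
    · rw [mk_fst]
      refine eq_of_locally_eq_O U (iSup U) hle le_rfl _ _ fun i => ?_
      rw [ha, ← resT_fst, hy']
    · rw [mk_snd]
      refine eq_of_locally_eq M U (iSup U) hle le_rfl _ _ fun i => ?_
      rw [hm, ← resT_snd, hy']

/-- the structure map -/
def str : S.presheaf ⟶ presheaf M where
  app U := CommRingCat.ofHom (TrivSqZeroExt.inlHom Γ(S, U.unop) Γ(M, U.unop))
  naturality U V i := by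
    apply CommRingCat.hom_ext
    refine RingHom.ext fun a => ?_
    refine TrivSqZeroExt.ext ?_ ?_
    · show (TrivSqZeroExt.inl ((S.presheaf.map i).hom a) : TS M V.unop).fst =
        (resT M (leOfHom i.unop) (TrivSqZeroExt.inl a)).fst
      rw [resT_fst, TrivSqZeroExt.fst_inl, TrivSqZeroExt.fst_inl]
      rfl
    · show (TrivSqZeroExt.inl ((S.presheaf.map i).hom a) : TS M V.unop).snd =
        (resT M (leOfHom i.unop) (TrivSqZeroExt.inl a)).snd
      rw [resT_snd, TrivSqZeroExt.snd_inl, TrivSqZeroExt.snd_inl, res_zero]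

theorem str_apply (U : S.Opens) (a : Γ(S, U)) : ((str M).app (op U)).hom a = (TrivSqZeroExt.inl a : TS M U) := rfl

theorem inl_pow {U : S.Opens} (a : Γ(S, U)) (n : ℕ) :
    (TrivSqZeroExt.inl a : TS M U) ^ n = TrivSqZeroExt.inl (a ^ n) :=
  (map_pow (TrivSqZeroExt.inlHom Γ(S, U) Γ(M, U)) a n).symm

theorem inl_mul_fst {U : S.Opens} (a : Γ(S, U)) (x : TS M U) :
    ((TrivSqZeroExt.inl a : TS M U) * x).fst = a * x.fst := by
  rw [TrivSqZeroExt.fst_mul, TrivSqZeroExt.fst_inl]

theorem inl_mul_snd {U : S.Opens} (a : Γ(S, U)) (x : TS M U) :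
    ((TrivSqZeroExt.inl a : TS M U) * x).snd = a • x.snd := by
  rw [snd_mul', TrivSqZeroExt.fst_inl, TrivSqZeroExt.snd_inl, smul_zero, add_zero]

theorem resT_inl {U V : S.Opens} (h : V ≤ U) (a : Γ(S, U)) :
    resT M h (TrivSqZeroExt.inl a) = TrivSqZeroExt.inl (resO h a) := by
  refine TrivSqZeroExt.ext ?_ ?_
  · rw [resT_fst, TrivSqZeroExt.fst_inl, TrivSqZeroExt.fst_inl]
  · rw [resT_snd, TrivSqZeroExt.snd_inl, TrivSqZeroExt.snd_inl, res_zero]

theorem isQC [M.IsQuasicoherent] : RelSpec.IsQC (presheaf M) (str M) := by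
  intro U hU r
  have hM : IsLocOn M U := isLocOn_of_isQuasicoherent M hU
  have hO : IsLocOn (Coh.structureModule S) U := Groth.Agent.Lib.Helper17.Serre.isLocOn_structureModule hU
  let _ : Algebra (TS M U) (TS M (S.basicOpen r)) := (resT M (S.basicOpen_le r)).toAlgebra
  show IsLocalization (Submonoid.powers (TrivSqZeroExt.inl r : TS M U)) (TS M (S.basicOpen r))
  have hu : IsUnit (TrivSqZeroExt.inl (resO (S.basicOpen_le r) r) : TS M (S.basicOpen r)) :=
    (isUnit_ur r).map (TrivSqZeroExt.inlHom Γ(S, S.basicOpen r) Γ(M, S.basicOpen r))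
  rw [isLocalization_iff]
  refine ⟨?_, ?_, ?_⟩
  · rintro ⟨_, n, rfl⟩
    show IsUnit (resT M (S.basicOpen_le r) ((TrivSqZeroExt.inl r : TS M U) ^ n))
    rw [map_pow, resT_inl]
    exact hu.pow n
  · intro z
    obtain ⟨n₁, a₀, ha⟩ := hO.surj r (show Γ(Coh.structureModule S, S.basicOpen r) from z.fst)
    obtain ⟨n₂, m, hm⟩ := hM.surj r z.snd
    let a : Γ(S, U) := a₀
    have ha' : resO (S.basicOpen_le r) r ^ n₁ * z.fst = resO (S.basicOpen_le r) a := ha
    refine ⟨(mk M (r ^ n₂ * a) (r ^ n₁ • m), ⟨_, n₁ + n₂, rfl⟩), ?_⟩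
    show z * resT M (S.basicOpen_le r) ((TrivSqZeroExt.inl r : TS M U) ^ (n₁ + n₂)) =
      resT M (S.basicOpen_le r) (mk M (r ^ n₂ * a) (r ^ n₁ • m))
    rw [map_pow, resT_inl, inl_pow, mul_comm]
    refine TrivSqZeroExt.ext ?_ ?_
    · rw [inl_mul_fst, resT_fst, mk_fst, rO_mul, ← ha', resO_pow, pow_add]
      ring
    · rw [inl_mul_snd, resT_snd, mk_snd, res_smul, ← hm, resO_pow, smul_smul, ← pow_add]
  · intro x y hxy
    have hxy' : resT M (S.basicOpen_le r) x = resT M (S.basicOpen_le r) y := hxy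
    have h1 : resO (S.basicOpen_le r) (x.fst - y.fst) = 0 := by
      have := congrArg TrivSqZeroExt.fst hxy'
      rw [resT_fst, resT_fst] at this
      rw [rO_sub, this, sub_self]
    have h2 : res M (S.basicOpen_le r) (x.snd - y.snd) = 0 := by
      have := congrArg TrivSqZeroExt.snd hxy'
      rw [resT_snd, resT_snd] at this
      rw [res_sub, this, sub_self]
    obtain ⟨n₁, hn₁⟩ := hO.inj r (show Γ(Coh.structureModule S, U) from x.fst - y.fst) h1
    obtain ⟨n₂, hn₂⟩ := hM.inj r _ h2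
    have hn₁' : r ^ n₁ * (x.fst - y.fst) = 0 := hn₁
    refine ⟨⟨_, n₁ + n₂, rfl⟩, ?_⟩
    show (TrivSqZeroExt.inl r : TS M U) ^ (n₁ + n₂) * x = (TrivSqZeroExt.inl r : TS M U) ^ (n₁ + n₂) * y
    rw [inl_pow]
    refine TrivSqZeroExt.ext ?_ ?_
    · rw [inl_mul_fst, inl_mul_fst, ← sub_eq_zero, ← mul_sub, pow_add, mul_comm (r ^ n₁), mul_assoc, hn₁', mul_zero]
    · rw [inl_mul_snd, inl_mul_snd, ← sub_eq_zero, ← smul_sub, pow_add, mul_smul, hn₂, smul_zero]

/-- **the quasi-coherent algebra `O ⊕ M` (square-zero extension)** -/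
def alg [M.IsQuasicoherent] : RelSpec.QCAlg S where
  presheaf := presheaf M
  isSheaf := isSheaf_presheaf M
  str := str M
  isQC := isQC M

section maps

variable [M.IsQuasicoherent]

/-- `m ↦ (0, m)` as a map of abelian presheaves -/
def inrAb : M.presheaf ⟶ (alg M).toAb where
  app U := AddCommGrpCat.ofHom (TrivSqZeroExt.inrHom Γ(S, U.unop) Γ(M, U.unop)).toAddMonoidHom
  naturality U V i := by
    ext m
    show (TrivSqZeroExt.inr (res M (leOfHom i.unop) m) : TS M V.unop) = resT M (leOfHom i.unop) (TrivSqZeroExt.inr m)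
    refine TrivSqZeroExt.ext ?_ ?_
    · rw [resT_fst, TrivSqZeroExt.fst_inr, TrivSqZeroExt.fst_inr, rO_zero]
    · rw [resT_snd, TrivSqZeroExt.snd_inr, TrivSqZeroExt.snd_inr]

theorem inr_smul {U : S.Opens} (a : Γ(S, U)) (x : Γ(M, U)) :
    (TrivSqZeroExt.inr (a • x) : TS M U) = (TrivSqZeroExt.inl a : TS M U) * TrivSqZeroExt.inr x := by
  refine TrivSqZeroExt.ext ?_ ?_
  · rw [inl_mul_fst, TrivSqZeroExt.fst_inr, TrivSqZeroExt.fst_inr, mul_zero]
  · rw [inl_mul_snd, TrivSqZeroExt.snd_inr, TrivSqZeroExt.snd_inr]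

/-- the inclusion `M ⟶ O ⊕ M` -/
def inrHom : M ⟶ (alg M).toModule :=
  ⟨letI := (alg M).moduleSect
   PresheafOfModules.homMk (inrAb M) (fun W a x =>
    inr_smul M (show Γ(S, W.unop) from a) (show Γ(M, W.unop) from x))⟩

theorem inrHom_app (U : S.Opens) (m : Γ(M, U)) :
    asR (alg M) ((inrHom M).app U m) = (TrivSqZeroExt.inr m : TS M U) := rfl

/-- `(a, m) ↦ m` as a map of abelian presheaves -/
def sndAb : (alg M).toAb ⟶ M.presheaf where
  app U := AddCommGrpCat.ofHom (TrivSqZeroExt.sndHom Γ(S, U.unop) Γ(M, U.unop)).toAddMonoidHom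
  naturality U V i := by
    ext x
    exact resT_snd M (leOfHom i.unop) x

/-- the projection `O ⊕ M ⟶ M` -/
def sndHom : (alg M).toModule ⟶ M :=
  ⟨letI := (alg M).moduleSect
   PresheafOfModules.homMk (sndAb M) (fun W a x =>
    inl_mul_snd M (show Γ(S, W.unop) from a) (show TS M W.unop from x))⟩

theorem sndHom_app (U : S.Opens) (x : Γ((alg M).toModule, U)) :
    (sndHom M).app U x = (asR (alg M) x : TS M U).snd := rfl

end maps

end Groth.Agent.Lib.Helper28.TrivExt
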