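import Groth.Agent.Lib.Helper28.ConeGlue

set_option autoImplicit false
universe u
open CategoryTheory CategoryTheory.Limits AlgebraicGeometry Opposite TopologicalSpace
open scoped HomogeneousIdeal
open HomogeneousLocalization
noncomputable section

namespace Groth.Agent.Lib.Helper28.TrivGr

/-- the trivial grading: everything in degree zero -/
def trivDeg (R : Type u) [CommRing R] : ℕ → AddSubgroup R := fun n => if n = 0 then ⊤ else ⊥

variable {R : Type u} [CommRing R]

theorem mem_trivDeg_zero (x : R) : x ∈ trivDeg R 0 := by
  unfold trivDeg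
  simp

theorem eq_zero_of_mem_trivDeg {n : ℕ} (hn : n ≠ 0) {x : R} (hx : x ∈ trivDeg R n) : x = 0 := by
  unfold trivDeg at hx
  rw [if_neg hn] at hx
  exact (AddSubgroup.mem_bot).1 hx

instance : SetLike.GradedMonoid (trivDeg R) where
  one_mem := mem_trivDeg_zero 1
  mul_mem := by
    intro i j a b ha hb
    by_cases hi : i = 0
    · by_cases hj : j = 0
      · subst hi hj
        exact mem_trivDeg_zero _
      · rw [eq_zero_of_mem_trivDeg hj hb, mul_zero]
        exact zero_mem _
    · rw [eq_zero_of_mem_trivDeg hi ha, zero_mul]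
      exact zero_mem _

/-- the decomposition map of the trivial grading -/
def dec : R →+ DirectSum ℕ fun i => trivDeg R i where
  toFun r := DirectSum.of (fun i => trivDeg R i) 0 ⟨r, mem_trivDeg_zero r⟩
  map_zero' := by
    have : (⟨0, mem_trivDeg_zero 0⟩ : trivDeg R 0) = 0 := rfl
    rw [this, map_zero]
  map_add' a b := by
    have : (⟨a + b, mem_trivDeg_zero (a + b)⟩ : trivDeg R 0) =
        ⟨a, mem_trivDeg_zero a⟩ + ⟨b, mem_trivDeg_zero b⟩ := rfl
    rw [this, map_add]

instance : DirectSum.Decomposition (trivDeg R) :=
  DirectSum.Decomposition.ofAddHom (trivDeg R) dec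
    (by
      ext r
      change DirectSum.coeAddMonoidHom (trivDeg R) (DirectSum.of _ 0 ⟨r, _⟩) = r
      rw [DirectSum.coeAddMonoidHom_of])
    (by
      apply DirectSum.addHom_ext
      intro i y
      change dec (DirectSum.coeAddMonoidHom (trivDeg R) (DirectSum.of _ i y)) = DirectSum.of _ i y
      rw [DirectSum.coeAddMonoidHom_of]
      by_cases hi : i = 0
      · subst hi
        rfl
      · have hy : y = 0 := Subtype.ext (eq_zero_of_mem_trivDeg hi y.2)
        rw [hy]
        simp)

instance : GradedRing (trivDeg R) where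

end Groth.Agent.Lib.Helper28.TrivGr
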