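import Mathlib

/-!
# Base change of a graded ring: the graded pieces

For a pushout `B = R ⊗_{R'} A` of rings, with `A` and `B` graded so that `R' → A`, `R → B` land in degree zero and
`A → B` is graded, the natural map `R ⊗_{R'} A_m → B_m` is bijective.
-/

set_option autoImplicit false
universe u
open TensorProduct DirectSum
noncomputable section

namespace Groth.Agent.Lib.Helper28.TwistBC

section alg

variable {R' R A B : Type u} [CommRing R'] [CommRing R] [CommRing A] [CommRing B]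
  [Algebra R' R] [Algebra R' A] [Algebra R' B] [Algebra R B] [Algebra A B]
  [IsScalarTower R' R B] [IsScalarTower R' A B]
  {σ τ : Type*} [SetLike σ A] [AddSubgroupClass σ A] (𝒜 : ℕ → σ) [GradedRing 𝒜]
  [SetLike τ B] [AddSubgroupClass τ B] (ℬ : ℕ → τ) [GradedRing ℬ]
  (hα : ∀ r' : R', algebraMap R' A r' ∈ 𝒜 0) (hβ : ∀ r : R, algebraMap R B r ∈ ℬ 0)
  (hψ : ∀ (m : ℕ) (a : A), a ∈ 𝒜 m → algebraMap A B a ∈ ℬ m)

/-- the degree-`m` part as an `R'`-submodule -/
def degMod (m : ℕ) : Submodule R' A where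
  carrier := {a | a ∈ 𝒜 m}
  add_mem' := add_mem
  zero_mem' := zero_mem _
  smul_mem' r' a ha := by
    show r' • a ∈ 𝒜 m
    rw [Algebra.smul_def]
    have h := SetLike.mul_mem_graded (hα r') (show a ∈ 𝒜 m from ha)
    rwa [zero_add] at h

theorem mem_degMod {m : ℕ} {a : A} : a ∈ degMod 𝒜 hα m ↔ a ∈ 𝒜 m := Iff.rfl

/-- the projection to the degree-`m` part -/
def projLin (m : ℕ) : A →ₗ[R'] degMod 𝒜 hα m where
  toFun a := ⟨(decompose 𝒜 a m : A), (decompose 𝒜 a m).2⟩
  map_add' a b := by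
    apply Subtype.ext
    show ((decompose 𝒜 (a + b) m : 𝒜 m) : A) = (decompose 𝒜 a m : A) + (decompose 𝒜 b m : A)
    rw [decompose_add, DirectSum.add_apply]
    rfl
  map_smul' r' a := by
    apply Subtype.ext
    show ((decompose 𝒜 (r' • a) m : 𝒜 m) : A) = r' • ((decompose 𝒜 a m : 𝒜 m) : A)
    rw [Algebra.smul_def, Algebra.smul_def, coe_decompose_mul_of_left_mem_zero 𝒜 (hα r')]

theorem projLin_coe (m : ℕ) (a : A) : ((projLin 𝒜 hα m a : degMod 𝒜 hα m) : A) = (decompose 𝒜 a m : A) := rfl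

theorem projLin_subtype (m : ℕ) :
    (projLin 𝒜 hα m) ∘ₗ (degMod 𝒜 hα m).subtype = LinearMap.id := by
  ext a
  show (decompose 𝒜 (a : A) m : A) = a
  exact decompose_of_mem_same 𝒜 a.2

include hψ in
/-- a graded homomorphism commutes with the homogeneous components -/
theorem decompose_map (a : A) (m : ℕ) :
    (decompose ℬ (algebraMap A B a) m : B) = algebraMap A B (decompose 𝒜 a m : A) := by
  classical
  induction a using DirectSum.Decomposition.inductionOn 𝒜 with
  | zero => simp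
  | @homogeneous i a =>
    by_cases h : i = m
    · subst h
      rw [decompose_of_mem_same ℬ (hψ i a a.2), decompose_of_mem_same 𝒜 a.2]
    · rw [decompose_of_mem_ne ℬ (hψ i a a.2) h, decompose_of_mem_ne 𝒜 a.2 h, map_zero]
  | add a b ha hb =>
    have e1 : (decompose ℬ (algebraMap A B (a + b)) m : B) =
        (decompose ℬ (algebraMap A B a) m : B) + (decompose ℬ (algebraMap A B b) m : B) := by
      rw [map_add, decompose_add, DirectSum.add_apply]
      rfl
    have e2 : (decompose 𝒜 (a + b) m : A) = (decompose 𝒜 a m : A) + (decompose 𝒜 b m : A) := by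
      rw [decompose_add, DirectSum.add_apply]
      rfl
    rw [e1, e2, ha, hb, map_add]

/-- the natural map `R ⊗_{R'} A_m → B` -/
def Xi (m : ℕ) : R ⊗[R'] (degMod 𝒜 hα m) →ₗ[R] B :=
  LinearMap.liftBaseChange R ((IsScalarTower.toAlgHom R' A B).toLinearMap ∘ₗ (degMod 𝒜 hα m).subtype)

theorem Xi_tmul (m : ℕ) (r : R) (a : degMod 𝒜 hα m) :
    Xi 𝒜 hα m (r ⊗ₜ[R'] a) = r • algebraMap A B (a : A) := by
  unfold Xi
  rw [LinearMap.liftBaseChange_tmul]
  rfl

variable [Algebra.IsPushout R' R A B]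

variable (R' R A B) in
/-- `B ≅ R ⊗_{R'} A` -/
def equivB : R ⊗[R'] A ≃ₗ[R] B :=
  (Algebra.IsPushout.out : IsBaseChange R (IsScalarTower.toAlgHom R' A B).toLinearMap).equiv

theorem equivB_tmul (r : R) (a : A) : equivB R' R A B (r ⊗ₜ[R'] a) = r • algebraMap A B a := rfl

theorem Xi_eq (m : ℕ) (z : R ⊗[R'] (degMod 𝒜 hα m)) :
    Xi 𝒜 hα m z = equivB R' R A B (LinearMap.lTensor R (degMod 𝒜 hα m).subtype z) := by
  induction z using TensorProduct.induction_on with
  | zero => simp
  | tmul r a => rw [Xi_tmul, LinearMap.lTensor_tmul, equivB_tmul]; rfl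
  | add x y hx hy => rw [map_add, map_add, map_add, hx, hy]

/-- **injectivity** of `R ⊗_{R'} A_m → B` -/
theorem Xi_injective (m : ℕ) : Function.Injective (Xi (R := R) (B := B) 𝒜 hα m) := by
  have h1 : Function.Injective (LinearMap.lTensor R (degMod 𝒜 hα m).subtype) := by
    apply Function.LeftInverse.injective (g := LinearMap.lTensor R (projLin 𝒜 hα m))
    intro z
    rw [← LinearMap.comp_apply, ← LinearMap.lTensor_comp, projLin_subtype, LinearMap.lTensor_id]
    rfl
  intro z z' hzz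
  rw [Xi_eq, Xi_eq] at hzz
  exact h1 ((equivB R' R A B).injective hzz)

include hβ hψ in
theorem Xi_proj (m : ℕ) (w : R ⊗[R'] A) :
    Xi 𝒜 hα m (LinearMap.lTensor R (projLin 𝒜 hα m) w) = (decompose ℬ (equivB R' R A B w) m : B) := by
  classical
  induction w using TensorProduct.induction_on with
  | zero => simp
  | tmul r a =>
    rw [LinearMap.lTensor_tmul, Xi_tmul, equivB_tmul, Algebra.smul_def, Algebra.smul_def,
      coe_decompose_mul_of_left_mem_zero ℬ (hβ r), decompose_map 𝒜 ℬ hψ, projLin_coe]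
  | add x y hx hy =>
    rw [map_add, map_add, map_add, hx, hy, decompose_add, DirectSum.add_apply]
    rfl

include hβ hψ in
/-- **surjectivity** of `R ⊗_{R'} A_m → B_m` -/
theorem exists_Xi_eq (m : ℕ) (b : B) (hb : b ∈ ℬ m) : ∃ z : R ⊗[R'] (degMod 𝒜 hα m), Xi 𝒜 hα m z = b := by
  classical
  refine ⟨LinearMap.lTensor R (projLin 𝒜 hα m) ((equivB R' R A B).symm b), ?_⟩
  rw [Xi_proj 𝒜 ℬ hα hβ hψ, LinearEquiv.apply_symm_apply, decompose_of_mem_same ℬ hb]

include hβ hψ in
theorem Xi_mem (m : ℕ) (z : R ⊗[R'] (degMod 𝒜 hα m)) : Xi 𝒜 hα m z ∈ ℬ m := by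
  induction z using TensorProduct.induction_on with
  | zero => rw [map_zero]; exact zero_mem _
  | tmul r a =>
    rw [Xi_tmul, Algebra.smul_def]
    have h := SetLike.mul_mem_graded (hβ r) (hψ m a a.2)
    rwa [zero_add] at h
  | add x y hx hy => rw [map_add]; exact add_mem hx hy

/-- multiplication by a homogeneous element -/
def mulLin {e : ℕ} (c : A) (hc : c ∈ 𝒜 e) (m m' : ℕ) (h : m' = m + e) :
    degMod 𝒜 hα m →ₗ[R'] degMod 𝒜 hα m' where
  toFun a := ⟨(a : A) * c, by
    show (a : A) * c ∈ 𝒜 m'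
    rw [h]
    exact SetLike.mul_mem_graded a.2 hc⟩
  map_add' a b := by
    apply Subtype.ext
    show ((a : A) + b) * c = a * c + b * c
    ring
  map_smul' r' a := by
    apply Subtype.ext
    show (r' • (a : A)) * c = r' • ((a : A) * c)
    rw [Algebra.smul_def, Algebra.smul_def, mul_assoc]

theorem Xi_shift {e : ℕ} (c : A) (hc : c ∈ 𝒜 e) (m m' : ℕ) (h : m' = m + e)
    (z : R ⊗[R'] (degMod 𝒜 hα m)) :
    Xi (R := R) (B := B) 𝒜 hα m' (LinearMap.lTensor R (mulLin 𝒜 hα c hc m m' h) z) =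
      Xi 𝒜 hα m z * algebraMap A B c := by
  induction z using TensorProduct.induction_on with
  | zero => simp
  | tmul r a =>
    rw [LinearMap.lTensor_tmul, Xi_tmul, Xi_tmul]
    show r • algebraMap A B ((a : A) * c) = _
    rw [map_mul, Algebra.smul_def, Algebra.smul_def, mul_assoc]
  | add x y hx hy => rw [map_add, map_add, map_add, hx, hy, add_mul]

end alg

end Groth.Agent.Lib.Helper28.TwistBC
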