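import Groth.Agent.Lib.Helper28.TwistBC1
import Groth.Agent.Lib.Helper28.GrTwistQC
import Groth.Agent.Lib.Helper28.GrSectComap

/-!
# Sections of `O` and `O(n)` over `D₊(f)` through numerators
-/

set_option autoImplicit false
universe u
open CategoryTheory AlgebraicGeometry Opposite TopologicalSpace DirectSum
open HomogeneousLocalization
noncomputable section

namespace Groth.Agent.Lib.Helper28.TwistBC

open Groth.Agent.Lib.Helper28 Groth.Agent.Lib.Helper28.QCohLoc Groth.Agent.Lib.Helper28.GrTwistQC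
open Groth.Agent.Lib.Helper28.GrModQC (valO valO_resO val_valO_awayToSection exists_awayToSection)

section one

variable {A σ : Type u} [CommRing A] [SetLike σ A] [AddSubgroupClass σ A] (𝒜 : ℕ → σ) [GradedRing 𝒜]

/-- functions on an open of `Proj` are determined by their values -/
theorem extO {V : (Proj 𝒜).Opens} (s s' : Γ(Proj 𝒜, V))
    (h : ∀ x : V, (valO 𝒜 s x).val = (valO 𝒜 s' x).val) : s = s' := by
  have : (show (ProjectiveSpectrum.Proj.structureSheaf 𝒜).1.obj (op V) from s) =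
      (show (ProjectiveSpectrum.Proj.structureSheaf 𝒜).1.obj (op V) from s') :=
    Subtype.ext (funext fun x => HomogeneousLocalization.val_injective _ (h x))
  exact this

theorem valO_add {V : (Proj 𝒜).Opens} (s s' : Γ(Proj 𝒜, V)) (x : V) :
    (valO 𝒜 (s + s') x).val = (valO 𝒜 s x).val + (valO 𝒜 s' x).val := by
  show (valO 𝒜 s x + valO 𝒜 s' x).val = _
  exact HomogeneousLocalization.val_add _ _

theorem valO_mul {V : (Proj 𝒜).Opens} (s s' : Γ(Proj 𝒜, V)) (x : V) :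
    (valO 𝒜 (s * s') x).val = (valO 𝒜 s x).val * (valO 𝒜 s' x).val := by
  show (valO 𝒜 s x * valO 𝒜 s' x).val = _
  exact HomogeneousLocalization.val_mul _ _

theorem val_add {n : ℤ} {V : (Proj 𝒜).Opens} (s t : Γ(GrTwist.twist 𝒜 n, V)) (x : V) :
    val 𝒜 (s + t) x = val 𝒜 s x + val 𝒜 t x := rfl

variable {d : ℕ} {f : A} (hf : f ∈ 𝒜 d)

/-- the degree index `k d + n` -/
def mIdx (d : ℕ) (n : ℤ) (k : ℕ) : ℕ := ((k : ℤ) * d + n).toNat

theorem mIdx_eq {n : ℤ} {k : ℕ} (hk : 0 ≤ (k : ℤ) * d + n) : ((mIdx d n k : ℕ) : ℤ) = k * d + n :=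
  Int.toNat_of_nonneg hk

/-- the function `a_{jd} / f^j` on `D₊(f)` -/
def numO (j : ℕ) (a : A) : Γ(Proj 𝒜, Proj.basicOpen 𝒜 f) :=
  Proj.awayToSection 𝒜 f (HomogeneousLocalization.Away.mk 𝒜 hf j (decompose 𝒜 a (j • d) : A)
    (decompose 𝒜 a (j • d)).2)

theorem val_numO (j : ℕ) (a : A) (x : Proj.basicOpen 𝒜 f) :
    (valO 𝒜 (numO 𝒜 hf j a) x).val =
      Localization.mk (decompose 𝒜 a (j • d) : A) ⟨f ^ j, GrSectMod.pow_nin 𝒜 j x⟩ := rfl

theorem val_numO_of_mem (j : ℕ) (a : A) (ha : a ∈ 𝒜 (j • d)) (x : Proj.basicOpen 𝒜 f) :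
    (valO 𝒜 (numO 𝒜 hf j a) x).val = Localization.mk a ⟨f ^ j, GrSectMod.pow_nin 𝒜 j x⟩ := by
  rw [val_numO, decompose_of_mem_same 𝒜 ha]

theorem numO_add (j : ℕ) (a b : A) : numO 𝒜 hf j (a + b) = numO 𝒜 hf j a + numO 𝒜 hf j b := by
  apply extO
  intro x
  rw [valO_add, val_numO, val_numO, val_numO, decompose_add, DirectSum.add_apply, Localization.add_mk_self]
  rfl

theorem exists_numO (hd : 0 < d) (s : Γ(Proj 𝒜, Proj.basicOpen 𝒜 f)) :
    ∃ (j : ℕ) (a : A), a ∈ 𝒜 (j • d) ∧ s = numO 𝒜 hf j a := by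
  obtain ⟨j, a, ha, rfl⟩ := exists_awayToSection 𝒜 hd hf s
  refine ⟨j, a, ha, ?_⟩
  apply extO
  intro x
  rw [val_numO_of_mem 𝒜 hf j a ha]
  rfl

variable (n : ℤ)

/-- the section `a_{m} / f^k` of `O(n)` over `D₊(f)`, `m = k d + n` -/
def numT (k : ℕ) (hk : 0 ≤ (k : ℤ) * d + n) (a : A) : Γ(GrTwist.twist 𝒜 n, Proj.basicOpen 𝒜 f) :=
  mkSect 𝒜 hf n k (mIdx d n k) (decompose 𝒜 a (mIdx d n k) : A) (decompose 𝒜 a (mIdx d n k)).2 (mIdx_eq hk)

theorem val_numT (k : ℕ) (hk : 0 ≤ (k : ℤ) * d + n) (a : A) (x : Proj.basicOpen 𝒜 f) :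
    val 𝒜 (numT 𝒜 hf n k hk a) x =
      Localization.mk (decompose 𝒜 a (mIdx d n k) : A) ⟨f ^ k, GrSectMod.pow_nin 𝒜 k x⟩ := rfl

theorem val_numT_of_mem (k : ℕ) (hk : 0 ≤ (k : ℤ) * d + n) (a : A) (ha : a ∈ 𝒜 (mIdx d n k))
    (x : Proj.basicOpen 𝒜 f) :
    val 𝒜 (numT 𝒜 hf n k hk a) x = Localization.mk a ⟨f ^ k, GrSectMod.pow_nin 𝒜 k x⟩ := by
  rw [val_numT, decompose_of_mem_same 𝒜 ha]

theorem numT_add (k : ℕ) (hk : 0 ≤ (k : ℤ) * d + n) (a b : A) :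
    numT 𝒜 hf n k hk (a + b) = numT 𝒜 hf n k hk a + numT 𝒜 hf n k hk b := by
  apply ext_val
  intro x
  rw [val_add, val_numT, val_numT, val_numT, decompose_add, DirectSum.add_apply, Localization.add_mk_self]
  rfl

/-- the section only sees the component of degree `k d + n` -/
theorem numT_proj (k : ℕ) (hk : 0 ≤ (k : ℤ) * d + n) (a : A) :
    numT 𝒜 hf n k hk (decompose 𝒜 a (mIdx d n k) : A) = numT 𝒜 hf n k hk a := by
  apply ext_val
  intro x
  rw [val_numT, val_numT, decompose_of_mem_same 𝒜 (decompose 𝒜 a (mIdx d n k)).2]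

theorem exists_numT (hd : 0 < d) (t : Γ(GrTwist.twist 𝒜 n, Proj.basicOpen 𝒜 f)) :
    ∃ (k : ℕ) (hk : 0 ≤ (k : ℤ) * d + n) (a : A), a ∈ 𝒜 (mIdx d n k) ∧ t = numT 𝒜 hf n k hk a := by
  obtain ⟨k, i, a, ha, hi, hval⟩ := exists_frac 𝒜 hf hd n t
  have hk : 0 ≤ (k : ℤ) * d + n := by rw [← hi]; exact Int.natCast_nonneg i
  have hik : i = mIdx d n k := by
    have := mIdx_eq (d := d) (n := n) hk
    omega
  subst hik
  refine ⟨k, hk, a, ha, ?_⟩
  apply ext_val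
  intro x
  rw [hval x, val_numT_of_mem 𝒜 hf n k hk a ha]

/-- shifting numerator and denominator by a power of `f` -/
theorem numT_shift (k N : ℕ) (hk : 0 ≤ (k : ℤ) * d + n) (hkN : 0 ≤ ((k + N : ℕ) : ℤ) * d + n) (a : A)
    (ha : a ∈ 𝒜 (mIdx d n k)) :
    numT 𝒜 hf n (k + N) hkN (a * f ^ N) = numT 𝒜 hf n k hk a := by
  have hidx : mIdx d n (k + N) = mIdx d n k + N * d := by
    have h1 := mIdx_eq (d := d) (n := n) hk
    have h2 := mIdx_eq (d := d) (n := n) hkN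
    push_cast at h2
    have : ((mIdx d n (k + N) : ℕ) : ℤ) = ((mIdx d n k + N * d : ℕ) : ℤ) := by
      push_cast; rw [h1, h2]; ring
    exact_mod_cast this
  have hmem : a * f ^ N ∈ 𝒜 (mIdx d n (k + N)) := by
    rw [hidx]
    have h3 : f ^ N ∈ 𝒜 (N • d) := SetLike.pow_mem_graded N hf
    rw [smul_eq_mul] at h3
    exact SetLike.mul_mem_graded ha h3
  apply ext_val
  intro x
  rw [val_numT_of_mem 𝒜 hf n (k + N) hkN _ hmem, val_numT_of_mem 𝒜 hf n k hk a ha,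
    Localization.mk_eq_mk_iff, Localization.r_iff_exists]
  refine ⟨1, ?_⟩
  simp only [OneMemClass.coe_one, one_mul]
  ring

/-- a function times a section -/
theorem numO_smul_numT (j k : ℕ) (hk : 0 ≤ (k : ℤ) * d + n) (hjk : 0 ≤ ((j + k : ℕ) : ℤ) * d + n) (a' a : A)
    (ha' : a' ∈ 𝒜 (j • d)) (ha : a ∈ 𝒜 (mIdx d n k)) :
    (numO 𝒜 hf j a' • numT 𝒜 hf n k hk a : Γ(GrTwist.twist 𝒜 n, Proj.basicOpen 𝒜 f)) =
      numT 𝒜 hf n (j + k) hjk (a' * a) := by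
  have hidx : mIdx d n (j + k) = j • d + mIdx d n k := by
    have h1 := mIdx_eq (d := d) (n := n) hk
    have h2 := mIdx_eq (d := d) (n := n) hjk
    push_cast at h2
    have : ((mIdx d n (j + k) : ℕ) : ℤ) = ((j • d + mIdx d n k : ℕ) : ℤ) := by
      rw [smul_eq_mul]; push_cast; rw [h1, h2]; ring
    exact_mod_cast this
  have hmem : a' * a ∈ 𝒜 (mIdx d n (j + k)) := by
    rw [hidx]
    exact SetLike.mul_mem_graded ha' ha
  apply ext_val
  intro x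
  rw [GrTwistQC.val_smul, val_numO_of_mem 𝒜 hf j a' ha', val_numT_of_mem 𝒜 hf n k hk a ha,
    val_numT_of_mem 𝒜 hf n (j + k) hjk _ hmem, Localization.mk_mul]
  congr 1
  exact Subtype.ext (pow_add f j k).symm

/-- a section which vanishes is killed by a power of `f` -/
theorem exists_pow_mul_eq_zero (hd : 0 < d) (k : ℕ) (hk : 0 ≤ (k : ℤ) * d + n) (a : A)
    (ha : a ∈ 𝒜 (mIdx d n k)) (h0 : numT 𝒜 hf n k hk a = 0) : ∃ N : ℕ, f ^ N * a = 0 := by
  have hzero : ∀ q : ProjectiveSpectrum 𝒜, f ∉ q.asHomogeneousIdeal →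
      (LocalizedModule.mk a 1 : LocalizedModule q.asHomogeneousIdeal.toIdeal.primeCompl A) = 0 := by
    intro q hq
    have hqf : q ∈ Proj.basicOpen 𝒜 f := (Proj.mem_basicOpen 𝒜 f q).2 hq
    have h2 : val 𝒜 (numT 𝒜 hf n k hk a) ⟨q, hqf⟩ = 0 := by rw [h0]; rfl
    rw [val_numT_of_mem 𝒜 hf n k hk a ha] at h2
    have h4 : (LocalizedModule.mk a ⟨f ^ k, GrSectMod.pow_nin 𝒜 k ⟨q, hqf⟩⟩ :
        LocalizedModule q.asHomogeneousIdeal.toIdeal.primeCompl A) = 0 := h2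
    exact GrSectComap.mk_one_eq_zero_of_mk 𝒜 q a _ h4
  obtain ⟨N, hN⟩ := GrSect.pow_smul_eq_zero 𝒜 𝒜 hd hf a ha hzero
  exact ⟨N, hN⟩

end one

end Groth.Agent.Lib.Helper28.TwistBC
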