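import Groth.Agent.Lib.Helper28.TwistBC2
import Groth.Agent.Lib.Helper28.RelTwistVal
import Groth.Agent.Lib.Helper17.PullbackBC

set_option autoImplicit false
universe u
open CategoryTheory AlgebraicGeometry Opposite TopologicalSpace DirectSum TensorProduct
open HomogeneousLocalization
open scoped HomogeneousIdeal
noncomputable section

namespace Groth.Agent.Lib.Helper28.TwistBC

open Groth.Agent.Lib.Helper28 Groth.Agent.Lib.Helper28.QCohLoc Groth.Agent.Lib.Helper28.GrTwistQC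
open Groth.Agent.Lib.Helper28.GrModQC (valO valO_resO val_valO_awayToSection exists_awayToSection)

section two

variable {A B σ τ : Type u} [CommRing A] [SetLike σ A] [AddSubgroupClass σ A] {𝒜 : ℕ → σ} [GradedRing 𝒜]
  [CommRing B] [SetLike τ B] [AddSubgroupClass τ B] {ℬ : ℕ → τ} [GradedRing ℬ]
  (ψ : 𝒜 →+*ᵍ ℬ) (hψ : ℬ₊ ≤ (𝒜₊).map ψ) {d : ℕ} {f : A} (hf : f ∈ 𝒜 d) (n : ℤ)

include hf in
theorem psi_mem : ψ f ∈ ℬ d := ψ.map_mem hf

variable (f) in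
/-- the ring map on sections over `D₊(f)` -/
abbrev phi0 : Γ(Proj 𝒜, Proj.basicOpen 𝒜 f) →+* Γ(Proj ℬ, Proj.basicOpen ℬ (ψ f)) :=
  ((Proj.map ψ hψ).app (Proj.basicOpen 𝒜 f)).hom

variable (f) in
/-- the comap of sections of `O(n)` over `D₊(f)` -/
def c2 : Γ(GrTwist.twist 𝒜 n, Proj.basicOpen 𝒜 f) →+ Γ(GrTwist.twist ℬ n, Proj.basicOpen ℬ (ψ f)) :=
  AddMonoidHom.mk' (fun m => (GrTwist.comap ψ hψ n).app (Proj.basicOpen 𝒜 f) m) (fun a b => map_add _ a b)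

theorem val_c2 (m : Γ(GrTwist.twist 𝒜 n, Proj.basicOpen 𝒜 f)) (y : Proj.basicOpen ℬ (ψ f)) :
    val ℬ (c2 ψ hψ f n m) y = GrTwist.locMap ψ hψ y.1 (val 𝒜 m ⟨ProjectiveSpectrum.comap ψ hψ y.1, y.2⟩) := rfl

theorem phi0_numO (j : ℕ) (a : A) :
    phi0 ψ hψ f (numO 𝒜 hf j a) = numO ℬ (psi_mem ψ hf) j (ψ a) := by
  apply extO
  intro y
  have h1 := RelTwistVal.valO_map_app ψ hψ (Proj.basicOpen 𝒜 f) (numO 𝒜 hf j a) y.1 y.2
  refine h1.trans ?_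
  rw [val_numO, val_numO, GrTwist.locMap_mk, GradedRingHom.map_directSumDecompose 𝒜 ℬ ψ]
  congr 1
  exact Subtype.ext (map_pow ψ f j)

theorem c2_numT (k : ℕ) (hk : 0 ≤ (k : ℤ) * d + n) (a : A) :
    c2 ψ hψ f n (numT 𝒜 hf n k hk a) = numT ℬ (psi_mem ψ hf) n k hk (ψ a) := by
  apply ext_val
  intro y
  rw [val_c2, val_numT, val_numT, GrTwist.locMap_mk, GradedRingHom.map_directSumDecompose 𝒜 ℬ ψ]
  congr 1
  exact Subtype.ext (map_pow ψ f k)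

end two

section one'

variable {A σ : Type u} [CommRing A] [SetLike σ A] [AddSubgroupClass σ A] (𝒜 : ℕ → σ) [GradedRing 𝒜]
  {d : ℕ} {f : A} (hf : f ∈ 𝒜 d) (n : ℤ)

theorem mem_zero_smul {a₀ : A} (h : a₀ ∈ 𝒜 0) : a₀ ∈ 𝒜 (0 • d) := by rwa [zero_smul]

/-- a degree-zero function times a function -/
theorem numO_zero_mul_numO (j : ℕ) (a₀ a : A) (h₀ : a₀ ∈ 𝒜 0) :
    numO 𝒜 hf 0 a₀ * numO 𝒜 hf j a = numO 𝒜 hf j (a₀ * a) := by
  apply extO
  intro x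
  rw [valO_mul, val_numO_of_mem 𝒜 hf 0 a₀ (mem_zero_smul 𝒜 h₀), val_numO, val_numO,
    coe_decompose_mul_of_left_mem_zero 𝒜 h₀, Localization.mk_mul]
  congr 1
  apply Subtype.ext
  show f ^ 0 * f ^ j = f ^ j
  rw [pow_zero, one_mul]

/-- a degree-zero function times a section -/
theorem numO_zero_smul_numT (k : ℕ) (hk : 0 ≤ (k : ℤ) * d + n) (a₀ a : A) (h₀ : a₀ ∈ 𝒜 0) :
    (numO 𝒜 hf 0 a₀ • numT 𝒜 hf n k hk a : Γ(GrTwist.twist 𝒜 n, Proj.basicOpen 𝒜 f)) =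
      numT 𝒜 hf n k hk (a₀ * a) := by
  apply ext_val
  intro x
  rw [GrTwistQC.val_smul, val_numO_of_mem 𝒜 hf 0 a₀ (mem_zero_smul 𝒜 h₀), val_numT, val_numT,
    coe_decompose_mul_of_left_mem_zero 𝒜 h₀, Localization.mk_mul]
  congr 1
  apply Subtype.ext
  show f ^ 0 * f ^ k = f ^ k
  rw [pow_zero, one_mul]

/-- a function times a section, general numerator of the function -/
theorem numO_smul_numT' (j k : ℕ) (hk : 0 ≤ (k : ℤ) * d + n) (hjk : 0 ≤ ((j + k : ℕ) : ℤ) * d + n) (a' a : A)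
    (ha : a ∈ 𝒜 (mIdx d n k)) :
    (numO 𝒜 hf j a' • numT 𝒜 hf n k hk a : Γ(GrTwist.twist 𝒜 n, Proj.basicOpen 𝒜 f)) =
      numT 𝒜 hf n (j + k) hjk (a' * a) := by
  have hidx : mIdx d n (j + k) = j • d + mIdx d n k := by
    have h1 := mIdx_eq (d := d) (n := n) hk
    have h2 := mIdx_eq (d := d) (n := n) hjk
    push_cast at h2
    have : ((mIdx d n (j + k) : ℕ) : ℤ) = ((j • d + mIdx d n k : ℕ) : ℤ) := by
      rw [smul_eq_mul]; push_cast; rw [h1, h2]; ring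
    exact_mod_cast this
  have h1 : numO 𝒜 hf j a' = numO 𝒜 hf j (decompose 𝒜 a' (j • d) : A) := by
    apply extO
    intro x
    rw [val_numO, val_numO, decompose_of_mem_same 𝒜 (decompose 𝒜 a' (j • d)).2]
  have h2 : numT 𝒜 hf n (j + k) hjk (a' * a) =
      numT 𝒜 hf n (j + k) hjk ((decompose 𝒜 a' (j • d) : A) * a) := by
    apply ext_val
    intro x
    rw [val_numT, val_numT]
    congr 1
    rw [hidx, coe_decompose_mul_add_of_right_mem 𝒜 ha, coe_decompose_mul_add_of_right_mem 𝒜 ha,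
      decompose_of_mem_same 𝒜 (decompose 𝒜 a' (j • d)).2]
  rw [h1, h2]
  exact numO_smul_numT 𝒜 hf n j k hk hjk _ a (decompose 𝒜 a' (j • d)).2 ha

/-- shifting numerator and denominator by a power of `f`, general numerator -/
theorem numT_shift' (k N : ℕ) (hk : 0 ≤ (k : ℤ) * d + n) (hkN : 0 ≤ ((k + N : ℕ) : ℤ) * d + n) (a : A) :
    numT 𝒜 hf n (k + N) hkN (a * f ^ N) = numT 𝒜 hf n k hk a := by
  have hidx : mIdx d n (k + N) = mIdx d n k + N • d := by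
    have h1 := mIdx_eq (d := d) (n := n) hk
    have h2 := mIdx_eq (d := d) (n := n) hkN
    push_cast at h2
    have : ((mIdx d n (k + N) : ℕ) : ℤ) = ((mIdx d n k + N • d : ℕ) : ℤ) := by
      rw [smul_eq_mul]; push_cast; rw [h1, h2]; ring
    exact_mod_cast this
  have h3 : f ^ N ∈ 𝒜 (N • d) := SetLike.pow_mem_graded N hf
  have h2 : numT 𝒜 hf n (k + N) hkN (a * f ^ N) =
      numT 𝒜 hf n (k + N) hkN ((decompose 𝒜 a (mIdx d n k) : A) * f ^ N) := by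
    apply ext_val
    intro x
    rw [val_numT, val_numT]
    congr 1
    rw [hidx, coe_decompose_mul_add_of_right_mem 𝒜 h3, coe_decompose_mul_add_of_right_mem 𝒜 h3,
      decompose_of_mem_same 𝒜 (decompose 𝒜 a (mIdx d n k)).2]
  rw [h2, numT_shift 𝒜 hf n k N hk hkN _ (decompose 𝒜 a (mIdx d n k)).2, numT_proj]

/-- `numT` as an additive map -/
def numTHom (k : ℕ) (hk : 0 ≤ (k : ℤ) * d + n) : A →+ Γ(GrTwist.twist 𝒜 n, Proj.basicOpen 𝒜 f) :=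
  AddMonoidHom.mk' (numT 𝒜 hf n k hk) (numT_add 𝒜 hf n k hk)

theorem numTHom_apply (k : ℕ) (hk : 0 ≤ (k : ℤ) * d + n) (a : A) :
    numTHom 𝒜 hf n k hk a = numT 𝒜 hf n k hk a := rfl

theorem numT_congr {k k' : ℕ} (h : k = k') (hk : 0 ≤ (k : ℤ) * d + n) (hk' : 0 ≤ (k' : ℤ) * d + n) (a : A) :
    numT 𝒜 hf n k hk a = numT 𝒜 hf n k' hk' a := by
  subst h; rfl

theorem numO_proj (j : ℕ) (a : A) : numO 𝒜 hf j (decompose 𝒜 a (j • d) : A) = numO 𝒜 hf j a := by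
  apply extO
  intro x
  rw [val_numO, val_numO, decompose_of_mem_same 𝒜 (decompose 𝒜 a (j • d)).2]

end one'


section bc

variable {R' R A B : Type u} [CommRing R'] [CommRing R] [CommRing A] [CommRing B]
  [Algebra R' R] [Algebra R' A] [Algebra R' B] [Algebra R B] [Algebra A B]
  [IsScalarTower R' R B] [IsScalarTower R' A B]
  {σ τ : Type u} [SetLike σ A] [AddSubgroupClass σ A] {𝒜 : ℕ → σ} [GradedRing 𝒜]
  [SetLike τ B] [AddSubgroupClass τ B] {ℬ : ℕ → τ} [GradedRing ℬ]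
  (hα : ∀ r' : R', algebraMap R' A r' ∈ 𝒜 0) (hβ : ∀ r : R, algebraMap R B r ∈ ℬ 0)
  (ψ : 𝒜 →+*ᵍ ℬ) (hψA : ∀ a, ψ a = algebraMap A B a) (hψ : ℬ₊ ≤ (𝒜₊).map ψ)
  {d : ℕ} {f : A} (hf : f ∈ 𝒜 d) (hd : 0 < d) (n : ℤ)

theorem mul_algebraMap_tmul {R₁ S₁ P₁ : Type*} [CommRing R₁] [CommRing S₁] [Algebra R₁ S₁] [AddCommGroup P₁]
    [Module R₁ P₁] (s : S₁) (x : R₁) (p : P₁) :
    (s * algebraMap R₁ S₁ x) ⊗ₜ[R₁] p = s ⊗ₜ[R₁] (x • p) := by
  rw [mul_comm, ← Algebra.smul_def, TensorProduct.smul_tmul]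

variable (R' R A) in
/-- additive maps out of `B = R ⊗ A` are determined on products -/
theorem addHom_ext_B [Algebra.IsPushout R' R A B] {X : Type*} [AddCommMonoid X] (F G : B →+ X)
    (h : ∀ (r : R) (a : A), F (algebraMap R B r * algebraMap A B a) = G (algebraMap R B r * algebraMap A B a)) :
    F = G := by
  have key : ∀ z : R ⊗[R'] A, F (equivB R' R A B z) = G (equivB R' R A B z) := by
    intro z
    induction z using TensorProduct.induction_on with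
    | zero => rw [map_zero, map_zero, map_zero]
    | tmul r a => rw [equivB_tmul, Algebra.smul_def]; exact h r a
    | add x y hx hy => rw [map_add, map_add, map_add, hx, hy]
  apply DFunLike.ext
  intro b
  have := key ((equivB R' R A B).symm b)
  rwa [LinearEquiv.apply_symm_apply] at this

variable [Algebra.IsPushout R' R A B]

/-- the function on `D₊(ψ f)` defined by a scalar -/
def secR (r : R) : Γ(Proj ℬ, Proj.basicOpen ℬ (ψ f)) := numO ℬ (psi_mem ψ hf) 0 (algebraMap R B r)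

theorem secR_add (r s : R) : secR ψ hf (r + s) = secR ψ hf r + secR ψ hf s := by
  unfold secR
  rw [map_add, numO_add]

include hβ hψA in
theorem secR_smul (r' : R') (r : R) :
    secR ψ hf (r' • r) = secR ψ hf r * phi0 ψ hψ f (numO 𝒜 hf 0 (algebraMap R' A r')) := by
  unfold secR
  rw [phi0_numO, hψA (algebraMap R' A r'), ← IsScalarTower.algebraMap_apply R' A B, Algebra.smul_def, map_mul,
    ← IsScalarTower.algebraMap_apply R' R B, mul_comm, IsScalarTower.algebraMap_apply R' R B,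
    numO_zero_mul_numO ℬ (psi_mem ψ hf) 0 _ _ (hβ r), ← IsScalarTower.algebraMap_apply R' R B]

variable [Algebra Γ(Proj 𝒜, Proj.basicOpen 𝒜 f) Γ(Proj ℬ, Proj.basicOpen ℬ (ψ f))]
  (halg : ∀ r, algebraMap Γ(Proj 𝒜, Proj.basicOpen 𝒜 f) Γ(Proj ℬ, Proj.basicOpen ℬ (ψ f)) r = phi0 ψ hψ f r)

set_option quotPrecheck false in
local notation "R₀" => Γ(Proj 𝒜, Proj.basicOpen 𝒜 f)
set_option quotPrecheck false in
local notation "S₀" => Γ(Proj ℬ, Proj.basicOpen ℬ (ψ f))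
set_option quotPrecheck false in
local notation "P₀" => Γ(GrTwist.twist 𝒜 n, Proj.basicOpen 𝒜 f)
set_option quotPrecheck false in
local notation "T₀" => Γ(GrTwist.twist ℬ n, Proj.basicOpen ℬ (ψ f))

/-- the bi-additive map `(r, a) ↦ r ⊗ a_m / f^k` -/
def Lam0 (k : ℕ) (hk : 0 ≤ (k : ℤ) * d + n) : R →+ A →+ (S₀ ⊗[R₀] P₀) :=
  AddMonoidHom.mk' (fun r => AddMonoidHom.mk' (fun a => secR ψ hf r ⊗ₜ[R₀] numT 𝒜 hf n k hk a)
    (by intro a b; rw [numT_add, TensorProduct.tmul_add]))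
    (by
      intro r s
      apply DFunLike.ext
      intro a
      show secR ψ hf (r + s) ⊗ₜ[R₀] numT 𝒜 hf n k hk a =
        secR ψ hf r ⊗ₜ[R₀] numT 𝒜 hf n k hk a + secR ψ hf s ⊗ₜ[R₀] numT 𝒜 hf n k hk a
      rw [secR_add, TensorProduct.add_tmul])

theorem Lam0_apply (k : ℕ) (hk : 0 ≤ (k : ℤ) * d + n) (r : R) (a : A) :
    Lam0 ψ hf n k hk r a = secR ψ hf r ⊗ₜ[R₀] numT 𝒜 hf n k hk a := rfl

include hα hβ hψA halg in
theorem Lam0_balanced (k : ℕ) (hk : 0 ≤ (k : ℤ) * d + n) (r' : R') (r : R) (a : A) :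
    Lam0 ψ hf n k hk (r' • r) a = Lam0 ψ hf n k hk r (r' • a) := by
  rw [Lam0_apply, Lam0_apply, secR_smul hβ ψ hψA hψ hf, ← halg, mul_algebraMap_tmul,
    numO_zero_smul_numT 𝒜 hf n k hk _ a (hα r'), ← Algebra.smul_def]

/-- `Λ_k` on `R ⊗ A` -/
def Lam1 (k : ℕ) (hk : 0 ≤ (k : ℤ) * d + n) : R ⊗[R'] A →+ (S₀ ⊗[R₀] P₀) :=
  TensorProduct.liftAddHom (Lam0 ψ hf n k hk) (Lam0_balanced hα hβ ψ hψA hψ hf n halg k hk)

/-- `Λ_k : B → S ⊗ P`, `r ψ(a) ↦ r ⊗ a_m / f^k` -/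
def Lam (k : ℕ) (hk : 0 ≤ (k : ℤ) * d + n) : B →+ (S₀ ⊗[R₀] P₀) :=
  (Lam1 hα hβ ψ hψA hψ hf n halg k hk).comp
    ((equivB R' R A B).symm : B →ₗ[R] R ⊗[R'] A).toAddMonoidHom

theorem Lam_gen (k : ℕ) (hk : 0 ≤ (k : ℤ) * d + n) (r : R) (a : A) :
    Lam hα hβ ψ hψA hψ hf n halg k hk (algebraMap R B r * algebraMap A B a) =
      secR ψ hf r ⊗ₜ[R₀] numT 𝒜 hf n k hk a := by
  have h1 : (equivB R' R A B).symm (algebraMap R B r * algebraMap A B a) = r ⊗ₜ[R'] a := by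
    rw [LinearEquiv.symm_apply_eq, equivB_tmul, Algebra.smul_def]
  show Lam1 hα hβ ψ hψA hψ hf n halg k hk ((equivB R' R A B).symm (algebraMap R B r * algebraMap A B a)) = _
  rw [h1]
  rfl

theorem Lam_congr {k k' : ℕ} (h : k = k') (hk : 0 ≤ (k : ℤ) * d + n) (hk' : 0 ≤ (k' : ℤ) * d + n) (b : B) :
    Lam hα hβ ψ hψA hψ hf n halg k hk b = Lam hα hβ ψ hψA hψ hf n halg k' hk' b := by
  subst h; rfl


set_option quotPrecheck false in
local notation "Λ" => Lam hα hβ ψ hψA hψ hf n halg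

variable (Θ : (Γ(Proj ℬ, Proj.basicOpen ℬ (ψ f)) ⊗[Γ(Proj 𝒜, Proj.basicOpen 𝒜 f)]
      Γ(GrTwist.twist 𝒜 n, Proj.basicOpen 𝒜 f)) →+ Γ(GrTwist.twist ℬ n, Proj.basicOpen ℬ (ψ f)))
  (hΘ : ∀ (s : Γ(Proj ℬ, Proj.basicOpen ℬ (ψ f))) (p : Γ(GrTwist.twist 𝒜 n, Proj.basicOpen 𝒜 f)),
    Θ (s ⊗ₜ[Γ(Proj 𝒜, Proj.basicOpen 𝒜 f)] p) = s • c2 ψ hψ f n p)

include hΘ in
theorem Theta_Lam (k : ℕ) (hk : 0 ≤ (k : ℤ) * d + n) (b : B) :
    Θ (Λ k hk b) = numT ℬ (psi_mem ψ hf) n k hk b := by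
  have key := addHom_ext_B R' R A (Θ.comp (Λ k hk)) (numTHom ℬ (psi_mem ψ hf) n k hk) ?_
  · exact DFunLike.congr_fun key b
  intro r a
  show Θ (Λ k hk (algebraMap R B r * algebraMap A B a)) =
    numT ℬ (psi_mem ψ hf) n k hk (algebraMap R B r * algebraMap A B a)
  rw [Lam_gen, hΘ, c2_numT ψ hψ hf n k hk a, hψA a]
  unfold secR
  rw [numO_zero_smul_numT ℬ (psi_mem ψ hf) n k hk _ _ (hβ r)]

theorem Lam_shift (k N : ℕ) (hk : 0 ≤ (k : ℤ) * d + n) (hkN : 0 ≤ ((k + N : ℕ) : ℤ) * d + n) (b : B) :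
    Λ (k + N) hkN (b * (ψ f) ^ N) = Λ k hk b := by
  have key := addHom_ext_B R' R A ((Λ (k + N) hkN).comp (AddMonoidHom.mulRight ((ψ f) ^ N))) (Λ k hk) ?_
  · exact DFunLike.congr_fun key b
  intro r a
  show Λ (k + N) hkN (algebraMap R B r * algebraMap A B a * (ψ f) ^ N) =
    Λ k hk (algebraMap R B r * algebraMap A B a)
  have h1 : algebraMap R B r * algebraMap A B a * (ψ f) ^ N = algebraMap R B r * algebraMap A B (a * f ^ N) := by
    rw [hψA f, map_mul, map_pow, mul_assoc]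
  rw [h1, Lam_gen, Lam_gen, numT_shift' 𝒜 hf n k N hk hkN a]

theorem Lam_proj (k : ℕ) (hk : 0 ≤ (k : ℤ) * d + n) (b : B) :
    Λ k hk (decompose ℬ b (mIdx d n k) : B) = Λ k hk b := by
  have key := addHom_ext_B R' R A ((Λ k hk).comp (GradedRing.proj ℬ (mIdx d n k))) (Λ k hk) ?_
  · exact DFunLike.congr_fun key b
  intro r a
  show Λ k hk (GradedRing.proj ℬ (mIdx d n k) (algebraMap R B r * algebraMap A B a)) =
    Λ k hk (algebraMap R B r * algebraMap A B a)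
  rw [GradedRing.proj_apply, coe_decompose_mul_of_left_mem_zero ℬ (hβ r), ← hψA a,
    ← GradedRingHom.map_directSumDecompose 𝒜 ℬ ψ, hψA (decompose 𝒜 a (mIdx d n k) : A), hψA a, Lam_gen, Lam_gen,
    numT_proj]

theorem tmul_eq_Lam (j l : ℕ) (hl : 0 ≤ (l : ℤ) * d + n) (hjl : 0 ≤ ((j + l : ℕ) : ℤ) * d + n) (a : A)
    (ha : a ∈ 𝒜 (mIdx d n l)) (b₀ : B) :
    numO ℬ (psi_mem ψ hf) j b₀ ⊗ₜ[R₀] numT 𝒜 hf n l hl a = Λ (j + l) hjl (b₀ * algebraMap A B a) := by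
  have key := addHom_ext_B R' R A
    (AddMonoidHom.mk' (fun b₀ : B => numO ℬ (psi_mem ψ hf) j b₀ ⊗ₜ[R₀] numT 𝒜 hf n l hl a)
      (by intro x y; rw [numO_add, TensorProduct.add_tmul]))
    ((Λ (j + l) hjl).comp (AddMonoidHom.mulRight (algebraMap A B a))) ?_
  · exact DFunLike.congr_fun key b₀
  intro r a'
  show numO ℬ (psi_mem ψ hf) j (algebraMap R B r * algebraMap A B a') ⊗ₜ[R₀] numT 𝒜 hf n l hl a =
    Λ (j + l) hjl (algebraMap R B r * algebraMap A B a' * algebraMap A B a)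
  rw [mul_assoc, ← map_mul, Lam_gen, ← numO_zero_mul_numO ℬ (psi_mem ψ hf) j _ _ (hβ r), ← hψA a',
    ← phi0_numO ψ hψ hf j a', ← halg, mul_algebraMap_tmul,
    numO_smul_numT' 𝒜 hf n j l hl hjl a' a ha]
  rfl

include hd in
theorem exists_Lam (ξ : S₀ ⊗[R₀] P₀) : ∃ (k : ℕ) (hk : 0 ≤ (k : ℤ) * d + n) (b : B), ξ = Λ k hk b := by
  induction ξ using TensorProduct.induction_on with
  | zero =>
    have hk : 0 ≤ ((n.natAbs : ℕ) : ℤ) * d + n := by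
      have h1 : (1 : ℤ) ≤ d := by exact_mod_cast hd
      have h2 : (0 : ℤ) ≤ (n.natAbs : ℤ) := Int.natCast_nonneg _
      have h3 : -n ≤ (n.natAbs : ℤ) := by rw [Int.natCast_natAbs]; exact neg_le_abs n
      nlinarith
    exact ⟨n.natAbs, hk, 0, (map_zero _).symm⟩
  | tmul s p =>
    obtain ⟨j, b₀, hb₀, rfl⟩ := exists_numO ℬ (psi_mem ψ hf) hd s
    obtain ⟨l, hl, a, ha, rfl⟩ := exists_numT 𝒜 hf n hd p
    have hjl : 0 ≤ ((j + l : ℕ) : ℤ) * d + n := by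
      push_cast
      have : (0 : ℤ) ≤ (j : ℤ) * d := by positivity
      linarith
    exact ⟨j + l, hjl, b₀ * algebraMap A B a, tmul_eq_Lam hα hβ ψ hψA hψ hf n halg j l hl hjl a ha b₀⟩
  | add x y hx hy =>
    obtain ⟨k, hk, b, rfl⟩ := hx
    obtain ⟨k', hk', b', rfl⟩ := hy
    have hkk : 0 ≤ ((k + k' : ℕ) : ℤ) * d + n := by
      push_cast
      have : (0 : ℤ) ≤ (k' : ℤ) * d := by positivity
      linarith
    have hkk' : 0 ≤ ((k' + k : ℕ) : ℤ) * d + n := by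
      push_cast
      have : (0 : ℤ) ≤ (k' : ℤ) * d := by positivity
      linarith
    refine ⟨k + k', hkk, b * (ψ f) ^ k' + b' * (ψ f) ^ k, ?_⟩
    rw [map_add, Lam_shift hα hβ ψ hψA hψ hf n halg k k' hk hkk,
      Lam_congr hα hβ ψ hψA hψ hf n halg (Nat.add_comm k k') hkk hkk',
      Lam_shift hα hβ ψ hψA hψ hf n halg k' k hk' hkk']

include hα hβ hψA hf halg hd hΘ in
theorem Theta_injective : Function.Injective Θ := by
  rw [injective_iff_map_eq_zero]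
  intro ξ hξ
  obtain ⟨k, hk, b, rfl⟩ := exists_Lam hα hβ ψ hψA hψ hf hd n halg ξ
  rw [← Lam_proj hα hβ ψ hψA hψ hf n halg k hk b] at hξ ⊢
  have hmem : (decompose ℬ b (mIdx d n k) : B) ∈ ℬ (mIdx d n k) := (decompose ℬ b (mIdx d n k)).2
  rw [Theta_Lam hα hβ ψ hψA hψ hf n halg Θ hΘ] at hξ
  obtain ⟨N, hN⟩ := exists_pow_mul_eq_zero ℬ (psi_mem ψ hf) n hd k hk _ hmem hξ
  have hkN : 0 ≤ ((k + N : ℕ) : ℤ) * d + n := by
    push_cast
    have : (0 : ℤ) ≤ (N : ℤ) * d := by positivity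
    linarith
  rw [← Lam_shift hα hβ ψ hψA hψ hf n halg k N hk hkN, mul_comm, hN, map_zero]

include hα hβ hψA hf halg hd hΘ in
theorem Theta_surjective : Function.Surjective Θ := by
  intro t
  obtain ⟨k, hk, b, hb, rfl⟩ := exists_numT ℬ (psi_mem ψ hf) n hd t
  exact ⟨Λ k hk b, Theta_Lam hα hβ ψ hψA hψ hf n halg Θ hΘ k hk b⟩

include hα hβ hψA hf halg hd hΘ in
theorem Theta_bijective : Function.Bijective Θ :=
  ⟨Theta_injective hα hβ ψ hψA hψ hf hd n halg Θ hΘ, Theta_surjective hα hβ ψ hψA hψ hf hd n halg Θ hΘ⟩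

end bc

section iso

variable {R' R A B : Type u} [CommRing R'] [CommRing R] [CommRing A] [CommRing B]
  [Algebra R' R] [Algebra R' A] [Algebra R' B] [Algebra R B] [Algebra A B]
  [IsScalarTower R' R B] [IsScalarTower R' A B] [Algebra.IsPushout R' R A B]
  {σ τ : Type u} [SetLike σ A] [AddSubgroupClass σ A] {𝒜 : ℕ → σ} [GradedRing 𝒜]
  [SetLike τ B] [AddSubgroupClass τ B] {ℬ : ℕ → τ} [GradedRing ℬ]
  (hα : ∀ r' : R', algebraMap R' A r' ∈ 𝒜 0) (hβ : ∀ r : R, algebraMap R B r ∈ ℬ 0)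
  (ψ : 𝒜 →+*ᵍ ℬ) (hψA : ∀ a, ψ a = algebraMap A B a) (hψ : ℬ₊ ≤ (𝒜₊).map ψ)

open Groth.Agent.Lib.Helper17.PullbackBC Groth.Agent.Lib.Helper28.PullbackInv in
include hα hβ hψA in
/-- over `D₊(ψ f)`, the adjoint of `GrTwist.comap` is bijective on sections -/
theorem bijective_app {d : ℕ} {f : A} (hf : f ∈ 𝒜 d) (hd : 0 < d) (n : ℤ) :
    Function.Bijective
      ((pbLift (Proj.map ψ hψ) (GrTwist.comap ψ hψ n)).app (Proj.basicOpen ℬ (ψ f))) := by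
  let g := Proj.map ψ hψ
  let W : (Proj 𝒜).Opens := Proj.basicOpen 𝒜 f
  let W' : (Proj ℬ).Opens := Proj.basicOpen ℬ (ψ f)
  have hW : IsAffineOpen W := Proj.isAffineOpen_basicOpen 𝒜 f hf hd
  have hW' : IsAffineOpen W' := Proj.isAffineOpen_basicOpen ℬ (ψ f) (psi_mem ψ hf) hd
  have e : W' ≤ g ⁻¹ᵁ W := le_rfl
  haveI : (GrTwist.twist 𝒜 n).IsQuasicoherent := isQuasicoherent_twist 𝒜 n
  have h₁ := isBC_pullback g hW hW' e (GrTwist.twist 𝒜 n)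
  letI : Algebra Γ(Proj 𝒜, Proj.basicOpen 𝒜 f) Γ(Proj ℬ, Proj.basicOpen ℬ (ψ f)) :=
    (g.appLE W W' e).hom.toAlgebra
  have halg : ∀ r, algebraMap Γ(Proj 𝒜, Proj.basicOpen 𝒜 f) Γ(Proj ℬ, Proj.basicOpen ℬ (ψ f)) r =
      phi0 ψ hψ f r := by
    intro r
    show (g.appLE W W' e).hom r = (g.app W).hom r
    rw [Scheme.Hom.app_eq_appLE]
    rfl
  obtain ⟨e₁, he₁⟩ := (isBC_iff (g.appLE W W' e).hom _).mp h₁
  let Φ := pbLift g (GrTwist.comap ψ hψ n)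
  let u : Γ((Scheme.Modules.pullback g).obj (GrTwist.twist 𝒜 n), W') →+ Γ(GrTwist.twist ℬ n, W') :=
    AddMonoidHom.mk' (fun t => Φ.app W' t) (fun a b => map_add _ a b)
  let Θ : (Γ(Proj ℬ, Proj.basicOpen ℬ (ψ f)) ⊗[Γ(Proj 𝒜, Proj.basicOpen 𝒜 f)]
      Γ(GrTwist.twist 𝒜 n, Proj.basicOpen 𝒜 f)) →+ Γ(GrTwist.twist ℬ n, Proj.basicOpen ℬ (ψ f)) :=
    u.comp e₁.symm.toAddEquiv.toAddMonoidHom
  have hΘ : ∀ (s : Γ(Proj ℬ, Proj.basicOpen ℬ (ψ f))) (p : Γ(GrTwist.twist 𝒜 n, Proj.basicOpen 𝒜 f)),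
      Θ (s ⊗ₜ[Γ(Proj 𝒜, Proj.basicOpen 𝒜 f)] p) = s • c2 ψ hψ f n p := by
    intro s p
    have h1 : (s ⊗ₜ[Γ(Proj 𝒜, Proj.basicOpen 𝒜 f)] p) =
        s • e₁ (res ((Scheme.Modules.pullback g).obj (GrTwist.twist 𝒜 n)) e (pbs g (GrTwist.twist 𝒜 n) W p)) := by
      rw [he₁, TensorProduct.smul_tmul', smul_eq_mul, mul_one]
    show Φ.app W' (e₁.symm (s ⊗ₜ[Γ(Proj 𝒜, Proj.basicOpen 𝒜 f)] p)) = _
    rw [h1, ← map_smul, LinearEquiv.symm_apply_apply, Scheme.Modules.Hom.app_smul]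
    congr 1
    rw [app_res, pbLift_pbs]
    rfl
  have hbij := Theta_bijective hα hβ ψ hψA hψ hf hd n halg Θ hΘ
  have hcomp : ⇑(Φ.app W') = Θ ∘ e₁ := by
    funext t
    show _ = Φ.app W' (e₁.symm (e₁ t))
    rw [LinearEquiv.symm_apply_apply]
  show Function.Bijective ⇑(Φ.app W')
  rw [hcomp]
  exact hbij.comp e₁.bijective

include hα hβ hψA in
/-- **base change of the twisting sheaves**: the adjoint of `GrTwist.comap` is an isomorphism for a base change of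
graded rings -/
theorem isIso_pbLift_comap (n : ℤ) :
    IsIso (Groth.Agent.Lib.Helper28.PullbackInv.pbLift (Proj.map ψ hψ) (GrTwist.comap ψ hψ n)) := by
  haveI : (GrTwist.twist 𝒜 n).IsQuasicoherent := isQuasicoherent_twist 𝒜 n
  haveI : (GrTwist.twist ℬ n).IsQuasicoherent := isQuasicoherent_twist ℬ n
  haveI : ((Scheme.Modules.pullback (Proj.map ψ hψ)).obj (GrTwist.twist 𝒜 n)).IsQuasicoherent := inferInstance
  let ι := {p : ℕ × A // 0 < p.1 ∧ p.2 ∈ 𝒜 p.1}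
  refine isIso_of_affine_cover _ (fun i : ι => Proj.basicOpen ℬ (ψ i.1.2))
    (fun i => Proj.isAffineOpen_basicOpen ℬ (ψ i.1.2) (psi_mem ψ i.2.2) i.2.1) ?cov
    (fun i => isLocOn_of_isQuasicoherent _ (Proj.isAffineOpen_basicOpen ℬ (ψ i.1.2) (psi_mem ψ i.2.2) i.2.1))
    (fun i => isLocOn_of_isQuasicoherent _ (Proj.isAffineOpen_basicOpen ℬ (ψ i.1.2) (psi_mem ψ i.2.2) i.2.1))
    (fun i => bijective_app hα hβ ψ hψA hψ i.2.2 i.2.1 n)
  intro y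
  obtain ⟨e, g, he, hg, hgx, -⟩ := GrSectComap.exists_pos_basicOpen 𝒜 ⊤ (ProjectiveSpectrum.comap ψ hψ y) trivial
  exact ⟨⟨(e, g), he, hg⟩, hgx⟩

end iso

end Groth.Agent.Lib.Helper28.TwistBC
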