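import Mathlib

set_option autoImplicit false
open Finset

namespace Groth.Agent.Lib.Helper28.VeryAmpleProj

theorem exists_extract_weight {s : ℕ} (deg : Fin s → ℕ) (hdeg : ∀ i, 0 < deg i) (n : ℕ)
    (hn : (s - 1) * (Finset.univ.lcm deg - 1) ≤ n) (i : Fin s) (β : Fin s → ℕ) (K : ℕ)
    (hβ : ∑ j, β j * deg j = K * deg i + n) :
    ∃ (γ δ : Fin s → ℕ) (v : ℕ), ∑ j, γ j * deg j = n ∧
      ∀ j, β j + (if j = i then v else 0) = γ j + δ j := by
  classical
  set l := Finset.univ.lcm deg with hl
  have hlpos : 0 < l := by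
    rw [Nat.pos_iff_ne_zero, hl, Ne, Finset.lcm_eq_zero_iff]
    rintro ⟨i, -, hi⟩
    exact (hdeg i).ne' hi
  have hdvd : ∀ j, deg j ∣ l := fun j => Finset.dvd_lcm (Finset.mem_univ j)
  let p : Fin s → ℕ := fun j => l / deg j
  have hp : ∀ j, p j * deg j = l := fun j => Nat.div_mul_cancel (hdvd j)
  have hppos : ∀ j, 0 < p j := fun j => Nat.div_pos (Nat.le_of_dvd hlpos (hdvd j)) (hdeg j)
  let r' : Fin s → ℕ := fun j => if j = i then 0 else β j % p j
  let q' : Fin s → ℕ := fun j => if j = i then 0 else β j / p j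
  let b : Fin s → ℕ := fun j => if j = i then β i else 0
  have hdec : ∀ j, β j = b j + p j * q' j + r' j := by
    intro j
    by_cases hj : j = i
    · subst hj; simp [b, q', r']
    · simp only [b, q', r', hj, if_false, zero_add]
      exact (Nat.div_add_mod (β j) (p j)).symm
  set ρ := ∑ j, r' j * deg j with hρ
  have hsum : ∑ j, β j * deg j = β i * deg i + (∑ j, q' j) * l + ρ := by
    have h1 : ∀ j, β j * deg j = b j * deg j + q' j * l + r' j * deg j := by
      intro j
      conv_lhs => rw [hdec j]
      calc (b j + p j * q' j + r' j) * deg j = b j * deg j + q' j * (p j * deg j) + r' j * deg j := by ring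
        _ = _ := by rw [hp j]
    rw [Finset.sum_congr rfl (fun j _ => h1 j), Finset.sum_add_distrib, Finset.sum_add_distrib, ← Finset.sum_mul]
    congr 2
    simp only [b, ite_mul, zero_mul]
    rw [Finset.sum_ite_eq' Finset.univ i]
    simp
  have hρle : ρ ≤ (s - 1) * (l - 1) := by
    have h1 : ∀ j ∈ (Finset.univ : Finset (Fin s)), r' j * deg j ≤ (if j = i then 0 else l - 1) := by
      intro j _
      by_cases hj : j = i
      · simp [r', hj]
      · simp only [r', hj, if_false]
        have h2 : β j % p j < p j := Nat.mod_lt _ (hppos j)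
        have h3 : (β j % p j + 1) * deg j ≤ p j * deg j := Nat.mul_le_mul_right _ h2
        rw [hp j, add_mul, one_mul] at h3
        have := hdeg j
        omega
    have h2 := Finset.sum_le_sum h1
    have h3 : ∑ j : Fin s, (if j = i then 0 else l - 1) = (s - 1) * (l - 1) := by
      rw [Finset.sum_ite, Finset.sum_const_zero, zero_add, Finset.sum_const, smul_eq_mul]
      congr 1
      rw [Finset.filter_ne' Finset.univ i, Finset.card_erase_of_mem (Finset.mem_univ i)]
      simp
    omega
  have hρn : ρ ≤ n := hρle.trans hn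
  have hdvdi : deg i ∣ n - ρ := by
    have h1 : (n - ρ) + K * deg i = β i * deg i + (∑ j, q' j) * l := by
      have := hsum
      rw [hβ] at this
      omega
    have h2 : deg i ∣ β i * deg i + (∑ j, q' j) * l :=
      Dvd.dvd.add (Dvd.intro_left _ rfl) (Dvd.dvd.mul_left (hdvd i) _)
    rw [← h1] at h2
    exact (Nat.dvd_add_left (Dvd.intro_left _ rfl)).1 h2
  obtain ⟨v, hv⟩ := hdvdi
  refine ⟨fun j => r' j + (if j = i then v else 0), fun j => b j + p j * q' j, v, ?_, ?_⟩
  · have h1 : ∑ j, (r' j + (if j = i then v else 0)) * deg j = ρ + v * deg i := by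
      simp only [add_mul, ite_mul, zero_mul]
      rw [Finset.sum_add_distrib, Finset.sum_ite_eq' Finset.univ i]
      simp [hρ]
    rw [h1, mul_comm v, ← hv]
    omega
  · intro j
    rw [hdec j]
    ring

end Groth.Agent.Lib.Helper28.VeryAmpleProj
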