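import Groth.Agent.Lib.Helper28.VeryAmpleProjLcm
import Groth.Agent.Lib.Helper28.VeryAmpleComb2
import Groth.Agent.Lib.Helper28.ProjUPGeom2

set_option autoImplicit false
universe u
open CategoryTheory CategoryTheory.Limits AlgebraicGeometry Opposite TopologicalSpace
open HomogeneousLocalization
noncomputable section

namespace Groth.Agent.Lib.Helper28.VeryAmpleProj

open Groth.Agent.Lib.Helper28 Groth.Agent.Lib.Helper28.QCohLoc Groth.Agent.Lib.Helper28.TwistGen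

section L
variable {R A : Type u} [CommRing R] [CommRing A] [Algebra R A] (𝒜 : ℕ → Submodule R A) [GradedAlgebra 𝒜]

section mk
variable {F : A} {D : ℕ} (hF : F ∈ 𝒜 D) (n : ℤ) (k w : ℕ) (hw : (w : ℤ) = k * D + n)

theorem mkSect_add {m m' : A} (hm : m ∈ 𝒜 w) (hm' : m' ∈ 𝒜 w) :
    TwistQC.mkSect 𝒜 hF n k w (m + m') (add_mem hm hm') hw =
      TwistQC.mkSect 𝒜 hF n k w m hm hw + TwistQC.mkSect 𝒜 hF n k w m' hm' hw := by
  apply TwistQC.ext_val
  intro x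
  rw [TwistMul.val_add, TwistQC.val_mkSect, TwistQC.val_mkSect, TwistQC.val_mkSect, Localization.add_mk_self]

theorem mkSect_zero :
    TwistQC.mkSect 𝒜 hF n k w 0 (zero_mem _) hw = 0 := by
  apply TwistQC.ext_val
  intro x
  rw [TwistQC.val_mkSect, TwistQC.val_zero, Localization.mk_zero]

theorem mkSect_smul (r : R) {m : A} (hm : m ∈ 𝒜 w) :
    TwistQC.mkSect 𝒜 hF n k w (r • m) (Submodule.smul_mem _ r hm) hw =
      (Proj.awayToSection 𝒜 F (Away.mk 𝒜 hF 0 (algebraMap R A r) (zero_smul_mem 𝒜 D r)) •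
        TwistQC.mkSect 𝒜 hF n k w m hm hw : Γ(Twist.twist 𝒜 n, Proj.basicOpen 𝒜 F)) := by
  apply TwistQC.ext_val
  intro x
  rw [TwistQC.val_smul, GrTildeQC.val_valO_awayToSection, TwistQC.val_mkSect, TwistQC.val_mkSect,
    Localization.mk_mul, Localization.mk_eq_mk_iff, Localization.r_iff_exists]
  refine ⟨1, ?_⟩
  simp only [OneMemClass.coe_one, one_mul, Submonoid.coe_mul, pow_zero]
  rw [Algebra.smul_def]

end mk

variable {s : ℕ} {f : Fin s → A} {deg : Fin s → ℕ}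

omit [Algebra R A] in
theorem mono_ite (i : Fin s) (v : ℕ) : mono f (fun j => if j = i then v else 0) = f i ^ v := by
  classical
  unfold mono
  rw [Finset.prod_eq_single i]
  · simp
  · intro j _ hj; simp [hj]
  · intro h; exact absurd (Finset.mem_univ i) h

theorem wt_ite (i : Fin s) (v : ℕ) : wt deg (fun j => if j = i then v else 0) = v * deg i := by
  classical
  unfold wt
  simp only [ite_mul, zero_mul]
  rw [Finset.sum_ite_eq' Finset.univ i]
  simp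

set_option maxHeartbeats 1000000 in
theorem mkSect_mono_eq (hf : ∀ i, f i ∈ 𝒜 (deg i)) (hdeg : ∀ i, 0 < deg i) (n : ℕ)
    (hn : (s - 1) * (Finset.univ.lcm deg - 1) ≤ n) (i : Fin s) {e : ℕ} {h : A} (hh : h ∈ 𝒜 e)
    (hF : f i * h ^ deg i ∈ 𝒜 (deg i + deg i • e))
    (k w : ℕ) (hw : (w : ℤ) = k * ((deg i + deg i • e : ℕ) : ℤ) + (n : ℤ)) (β : Fin s → ℕ) (hβ : wt deg β = w)
    (hm : mono f β ∈ 𝒜 w) :
    ∃ (b : A) (hb : b ∈ 𝒜 n) (c : Γ(Proj 𝒜, Proj.basicOpen 𝒜 (f i * h ^ deg i))),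
      TwistQC.mkSect 𝒜 hF (n : ℤ) k w (mono f β) hm hw =
        (c • res (Twist.twist 𝒜 (n : ℤ)) le_top (gsec 𝒜 b hb) :
          Γ(Twist.twist 𝒜 (n : ℤ), Proj.basicOpen 𝒜 (f i * h ^ deg i))) := by
  classical
  have hw' : w = k * (deg i + deg i * e) + n := by
    have : (w : ℤ) = ((k * (deg i + deg i * e) + n : ℕ) : ℤ) := by
      rw [hw]; push_cast; simp [smul_eq_mul]
    exact_mod_cast this
  have hβ' : ∑ j, β j * deg j = (k * (1 + e)) * deg i + n := by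
    have : ∑ j, β j * deg j = w := hβ
    rw [this, hw']; ring
  obtain ⟨γ, δ, v, hγ, hsplit⟩ := exists_extract_weight deg hdeg n hn i β (k * (1 + e)) hβ'
  have hγ' : wt deg γ = n := hγ
  have hb : mono f γ ∈ 𝒜 n := hγ' ▸ mono_mem 𝒜 hf γ
  have hsplit' : β + (fun j => if j = i then v else 0) = γ + δ := funext hsplit
  have hmono : mono f β * f i ^ v = mono f γ * mono f δ := by
    rw [← mono_ite (f := f) i v, ← mono_add, ← mono_add, hsplit']
  have hwtδ : wt deg δ + n = w + v * deg i := by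
    have h1 := congrArg (wt deg) hsplit'
    rw [wt_add, wt_add, wt_ite, hβ, hγ'] at h1
    omega
  have hN : mono f δ * (h ^ deg i) ^ v ∈ 𝒜 ((k + v) • (deg i + deg i • e)) := by
    have h1 := SetLike.mul_mem_graded (mono_mem 𝒜 hf δ)
      (SetLike.pow_mem_graded v (SetLike.pow_mem_graded (deg i) hh))
    have h2 : wt deg δ + v • deg i • e = (k + v) • (deg i + deg i • e) := by
      simp only [smul_eq_mul] at *
      have : wt deg δ = k * (deg i + deg i * e) + v * deg i := by omega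
      rw [this]; ring
    rwa [h2] at h1
  refine ⟨mono f γ, hb, Proj.awayToSection 𝒜 (f i * h ^ deg i)
    (Away.mk 𝒜 hF (k + v) (mono f δ * (h ^ deg i) ^ v) hN), ?_⟩
  apply TwistQC.ext_val
  intro x
  rw [TwistQC.val_smul, GrTildeQC.val_valO_awayToSection, TwistQC.val_mkSect, TwistQC.val_res, val_gsec,
    Localization.mk_mul, Localization.mk_eq_mk_iff, Localization.r_iff_exists]
  refine ⟨1, ?_⟩
  simp only [OneMemClass.coe_one, one_mul, mul_one]
  calc (f i * h ^ deg i) ^ (k + v) * mono f β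
      = (f i * h ^ deg i) ^ k * ((mono f β * f i ^ v) * (h ^ deg i) ^ v) := by
        rw [pow_add, mul_pow]; ring
    _ = (f i * h ^ deg i) ^ k * (mono f δ * (h ^ deg i) ^ v * mono f γ) := by
        rw [hmono]; ring

set_option maxHeartbeats 1000000 in
/-- **S13171** -/
theorem generatedBy_twist_of_bound (hdeg : ∀ i, 0 < deg i) (hf : ∀ i, f i ∈ 𝒜 (deg i))
    (hgen : Algebra.adjoin R (Set.range f) = ⊤) (n : ℕ) (hn : (s - 1) * (Finset.univ.lcm deg - 1) ≤ n) :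
    ProjUP.GeneratedBy (Twist.twist 𝒜 (n : ℤ))
      (fun b : 𝒜 n => (Twist.globalOf 𝒜 b : ProjUP.Γm (Twist.twist 𝒜 (n : ℤ)))) := by
  classical
  intro x
  rw [eq_top_iff]
  rintro μ -
  obtain ⟨U, hxU, t, rfl⟩ := TopCat.Presheaf.exists_germ_eq (Twist.twist 𝒜 (n : ℤ)).presheaf μ
  obtain ⟨i, hxi⟩ := TwistGenD.cover_of_adjoin_gen 𝒜 f deg hf hgen x
  obtain ⟨e, h, he, hh, hhx, hhV⟩ := GrSectComap.exists_pos_basicOpen 𝒜 (U ⊓ Proj.basicOpen 𝒜 (f i)) x ⟨hxU, hxi⟩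
  have hF : f i * h ^ deg i ∈ 𝒜 (deg i + deg i • e) :=
    SetLike.mul_mem_graded (hf i) (SetLike.pow_mem_graded (deg i) hh)
  have hD : 0 < deg i + deg i • e := Nat.add_pos_left (hdeg i) _
  have hxV' : x ∈ Proj.basicOpen 𝒜 (f i * h ^ deg i) := by
    rw [Proj.basicOpen_mul, Proj.basicOpen_pow 𝒜 _ _ (hdeg i)]
    exact ⟨hxi, (Proj.mem_basicOpen 𝒜 h x).2 hhx⟩
  have hV'U : Proj.basicOpen 𝒜 (f i * h ^ deg i) ≤ U := by
    intro y hy
    rw [Proj.basicOpen_mul, Proj.basicOpen_pow 𝒜 _ _ (hdeg i)] at hy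
    exact (hhV y ((Proj.mem_basicOpen 𝒜 h y).1 hy.2)).1
  obtain ⟨k, w, m, hm, hw, hval⟩ := TwistQC.exists_frac 𝒜 hF hD (n : ℤ)
    (res (Twist.twist 𝒜 (n : ℤ)) hV'U t)
  have ht : res (Twist.twist 𝒜 (n : ℤ)) hV'U t = TwistQC.mkSect 𝒜 hF (n : ℤ) k w m hm hw := by
    apply TwistQC.ext_val
    intro y
    rw [hval y, TwistQC.val_mkSect]
  rw [← ProjUPGeom.germ_res_L (Twist.twist 𝒜 (n : ℤ)) x hV'U hxV' t, ht]
  have hspan := mem_span_of_mem 𝒜 hf hgen hm
  have key : ∀ (m' : A) (hm' : m' ∈ Submodule.span R {x | ∃ β : Fin s → ℕ, wt deg β = w ∧ x = mono f β}),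
      (Twist.twist 𝒜 (n : ℤ)).presheaf.germ (Proj.basicOpen 𝒜 (f i * h ^ deg i)) x hxV'
        (TwistQC.mkSect 𝒜 hF (n : ℤ) k w m' (span_le_grade 𝒜 hf w hm') hw) ∈
      Submodule.span ((Proj 𝒜).presheaf.stalk x)
        (Set.range fun b : 𝒜 n => ((Twist.twist 𝒜 (n : ℤ)).presheaf.germ ⊤ x trivial).hom
          (Twist.globalOf 𝒜 b : ProjUP.Γm (Twist.twist 𝒜 (n : ℤ)))) := by
    intro m' hm'
    induction hm' using Submodule.span_induction with
    | mem m' hm' =>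
      obtain ⟨β, hβ, rfl⟩ := hm'
      obtain ⟨b, hb, c, hc⟩ := mkSect_mono_eq 𝒜 hf hdeg n hn i hh hF k w hw β hβ (hβ ▸ mono_mem 𝒜 hf β)
      rw [hc, ProjUPGeom.germ_smul_L, ProjUPGeom.germ_res_L]
      exact Submodule.smul_mem _ _ (Submodule.subset_span ⟨⟨b, hb⟩, rfl⟩)
    | zero =>
      rw [mkSect_zero, map_zero]
      exact zero_mem _
    | add m₁ m₂ h₁ h₂ ih₁ ih₂ =>
      rw [mkSect_add 𝒜 hF (n : ℤ) k w hw (span_le_grade 𝒜 hf w h₁) (span_le_grade 𝒜 hf w h₂), map_add]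
      exact add_mem ih₁ ih₂
    | smul r m₁ h₁ ih₁ =>
      rw [mkSect_smul 𝒜 hF (n : ℤ) k w hw r (span_le_grade 𝒜 hf w h₁), ProjUPGeom.germ_smul_L]
      exact Submodule.smul_mem _ _ ih₁
  exact key m hspan

end L
end Groth.Agent.Lib.Helper28.VeryAmpleProj
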