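import Groth.Agent.Lib.Helper28.TwistGenD
import Groth.Agent.Lib.Helper28.AmpleIso

/-!
# `O(nd)` is invertible on the union of the `D₊(f)`, `f` of degree `d`
-/

set_option autoImplicit false
universe u
open CategoryTheory CategoryTheory.Limits AlgebraicGeometry Opposite TopologicalSpace
noncomputable section

namespace Groth.Agent.Lib.Helper28.TwistGenD

/-- restriction along an open immersion of a module which is trivial near the image is invertible -/
theorem isInvertible_restrict_of_local {W V : Scheme.{u}} (j : W ⟶ V) [IsOpenImmersion j]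
    (L : V.Modules)
    (hL : ∀ y : W, ∃ U : V.Opens, j.base y ∈ U ∧ Nonempty (L.restrict U.ι ≅ Coh.structureModule (↑U))) :
    PicF.IsInvertible (L.restrict j) := by
  intro y
  obtain ⟨U, hyU, ⟨e⟩⟩ := hL y
  refine ⟨j ⁻¹ᵁ U, hyU, ⟨?_⟩⟩
  have hcomm : (j ⁻¹ᵁ U).ι ≫ j = (j ∣_ U) ≫ U.ι := (morphismRestrict_ι j U).symm
  exact ((Scheme.Modules.restrictFunctorComp (j ⁻¹ᵁ U).ι j).symm.app L) ≪≫
    ((Scheme.Modules.restrictFunctorCongr hcomm).app L) ≪≫
    ((Scheme.Modules.restrictFunctorComp (j ∣_ U) U.ι).app L) ≪≫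
    ((Scheme.Modules.restrictFunctor (j ∣_ U)).mapIso e) ≪≫ Scheme.Modules.restrictUnitIso (j ∣_ U)

variable {R A : Type u} [CommRing R] [CommRing A] [Algebra R A] (𝒜 : ℕ → Submodule R A) [GradedAlgebra 𝒜]

theorem isInvertible_twist_restrict_iSup (d : ℕ) (hd : 0 < d) (n : ℤ) :
    PicF.IsInvertible ((Twist.twist 𝒜 (n * d)).restrict (⨆ f : 𝒜 d, Proj.basicOpen 𝒜 (f : A)).ι) := by
  refine isInvertible_restrict_of_local _ _ ?_
  intro y
  have hy : (⨆ f : 𝒜 d, Proj.basicOpen 𝒜 (f : A)).ι.base y ∈ ⨆ f : 𝒜 d, Proj.basicOpen 𝒜 (f : A) := y.2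
  obtain ⟨f, hf⟩ := Opens.mem_iSup.1 hy
  exact ⟨Proj.basicOpen 𝒜 (f : A), hf, nonempty_restrict_iso 𝒜 f.2 hd n⟩

end Groth.Agent.Lib.Helper28.TwistGenD
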