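import Groth.Agent.Lib.Helper28.TwistGenD
import Groth.Agent.Lib.Helper28.TwistMul

set_option autoImplicit false
universe u
open CategoryTheory CategoryTheory.Limits AlgebraicGeometry Opposite TopologicalSpace HomogeneousLocalization
noncomputable section

namespace Groth.Agent.Lib.Helper28.TwistGenD

open Groth.Agent.Lib.Helper28 Groth.Agent.Lib.Helper28.QCohLoc Groth.Agent.Lib.Helper28.GrTildeQC
  Groth.Agent.Lib.Helper28.TwistMul

variable {R A : Type u} [CommRing R] [CommRing A] [Algebra R A] (𝒜 : ℕ → Submodule R A) [GradedAlgebra 𝒜]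

variable {f : A} {d : ℕ} (hf : f ∈ 𝒜 d)

/-- division by the generator: `O(md + n)(W) → O(n)(W)` -/
theorem exists_mul_genW_eq (hd : 0 < d) {h : A} {e : ℕ} (hh : h ∈ 𝒜 e) (m n : ℤ)
    (t'' : Γ(Twist.twist 𝒜 (m * d + n), Proj.basicOpen 𝒜 (f * h))) :
    ∃ t' : Γ(Twist.twist 𝒜 n, Proj.basicOpen 𝒜 (f * h)), mul 𝒜 (m * d) n (genW 𝒜 hf h m) t' = t'' := by
  have hg : f * h ∈ 𝒜 (d + e) := SetLike.mul_mem_graded hf hh
  obtain ⟨k, i, a, ha, hi, hval⟩ := TwistQC.exists_frac 𝒜 hg (by omega) (m * d + n) t''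
  have hm := Int.toNat_sub_toNat_neg m
  have hm' : ((m.toNat : ℤ) - ((-m).toNat : ℤ)) * (d : ℤ) = m * (d : ℤ) := by rw [hm]
  refine ⟨TwistQC.mkSect 𝒜 hg n (k + m.toNat) (i + (-m).toNat * d + m.toNat * e)
    (a * f ^ (-m).toNat * h ^ m.toNat) (num_mem 𝒜 hf hh m ha) ?_, ?_⟩
  · push_cast at hi ⊢
    linarith
  · apply TwistQC.ext_val
    intro x
    rw [TwistMul.val_mul, val_genW, TwistQC.val_mkSect, hval x, Localization.mk_mul, Localization.mk_eq_mk_iff,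
      Localization.r_iff_exists]
    refine ⟨1, ?_⟩
    simp only [OneMemClass.coe_one, one_mul, Submonoid.coe_mul]
    ring

theorem mul_genW_bijective (hd : 0 < d) {h : A} {e : ℕ} (hh : h ∈ 𝒜 e) (m n : ℤ) :
    Function.Bijective (fun t' : Γ(Twist.twist 𝒜 n, Proj.basicOpen 𝒜 (f * h)) =>
      mul 𝒜 (m * d) n (genW 𝒜 hf h m) t') := by
  constructor
  · intro t₁ t₂ h12
    apply TwistQC.ext_val
    intro x
    have h1 : TwistQC.val 𝒜 (mul 𝒜 (m * d) n (genW 𝒜 hf h m) t₁) x =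
        TwistQC.val 𝒜 (mul 𝒜 (m * d) n (genW 𝒜 hf h m) t₂) x := by
      have := congrArg (fun t => TwistQC.val 𝒜 t x) h12
      exact this
    rw [TwistMul.val_mul, TwistMul.val_mul] at h1
    exact (isUnit_val_genW 𝒜 hf h m x).mul_right_injective h1
  · intro t''
    exact exists_mul_genW_eq 𝒜 hf hd hh m n t''

/-- the basis of opens `D₊(g h)`, `g` of degree `d`, `h` homogeneous of positive degree -/
def IsChartD (d : ℕ) (W : (Proj 𝒜).Opens) : Prop :=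
  ∃ (g h : A) (e : ℕ), g ∈ 𝒜 d ∧ h ∈ 𝒜 e ∧ W = Proj.basicOpen 𝒜 (g * h)

theorem isChartD_basis (d : ℕ) (hcov : ∀ x : Proj 𝒜, ∃ g : A, g ∈ 𝒜 d ∧ x ∈ Proj.basicOpen 𝒜 g)
    (U : (Proj 𝒜).Opens) (x : Proj 𝒜) (hx : x ∈ U) :
    ∃ V : (Proj 𝒜).Opens, IsChartD 𝒜 d V ∧ x ∈ V ∧ V ≤ U := by
  obtain ⟨g, hg, hxg⟩ := hcov x
  obtain ⟨e, h, he, hh, hhx, hhU⟩ := GrSectComap.exists_pos_basicOpen 𝒜 U x hx
  refine ⟨Proj.basicOpen 𝒜 (g * h), ⟨g, h, e, hg, hh, rfl⟩, ?_, ?_⟩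
  · rw [Proj.basicOpen_mul]
    exact ⟨hxg, (Proj.mem_basicOpen 𝒜 h x).2 hhx⟩
  · intro y hy
    rw [Proj.basicOpen_mul] at hy
    exact hhU y ((Proj.mem_basicOpen 𝒜 h y).1 hy.2)

/-- **`O(md) ⊗ O(n) ≅ O(md + n)`** when `Proj` is covered by the `D₊(g)`, `g` of degree `d > 0`. -/
theorem nonempty_tensor_iso (d : ℕ) (hd : 0 < d)
    (hcov : ∀ x : Proj 𝒜, ∃ g : A, g ∈ 𝒜 d ∧ x ∈ Proj.basicOpen 𝒜 g) (m n : ℤ) :
    Nonempty (CohB1.tensorMod (Twist.twist 𝒜 (m * d)) (Twist.twist 𝒜 n) ≅ Twist.twist 𝒜 (m * d + n)) := by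
  refine TensorIso.nonempty_tensorMod_iso (Twist.twist 𝒜 (m * d)) (Twist.twist 𝒜 n) (Twist.twist 𝒜 (m * d + n))
    (fun W => mul 𝒜 (m * d) n) (fun W => mul_add_left 𝒜 (m * d) n) (fun W => mul_add_right 𝒜 (m * d) n)
    (fun W => mul_smul_left 𝒜 (m * d) n) (fun W => mul_smul_right 𝒜 (m * d) n)
    (fun W W' h => mul_res 𝒜 (m * d) n h)
    (IsChartD 𝒜 d) (isChartD_basis 𝒜 d hcov) ?_
  rintro W ⟨g, h, e, hg, hh, rfl⟩
  exact TensorIso.tensorDesc_app_bijective_left _ _ _ _ _ _ _ _ _ _ (genW 𝒜 hg h m)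
    (exists_smul_genW_eq 𝒜 hg hd hh m) (mul_genW_bijective 𝒜 hg hd hh m n)


section lcm

variable {s : ℕ} (fs : Fin s → A) (deg : Fin s → ℕ) (hdeg : ∀ i, 0 < deg i) (hfs : ∀ i, fs i ∈ 𝒜 (deg i))
  (hgen : Algebra.adjoin R (Set.range fs) = ⊤)

include hdeg in
theorem lcm_pos : 0 < Finset.univ.lcm deg := by
  apply Nat.pos_of_ne_zero
  rw [Finset.lcm_ne_zero_iff]
  intro i _
  exact (hdeg i).ne'

include hfs hgen in
theorem cover_of_adjoin_gen (x : Proj 𝒜) : ∃ i, x ∈ Proj.basicOpen 𝒜 (fs i) := by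
  have h0 : Algebra.adjoin (𝒜 0) (Set.range fs) = ⊤ := by
    rw [eq_top_iff]
    rintro y -
    have hy : y ∈ Algebra.adjoin R (Set.range fs) := by rw [hgen]; trivial
    induction hy using Algebra.adjoin_induction with
    | mem y hy => exact Algebra.subset_adjoin hy
    | algebraMap r =>
      have : algebraMap R A r = algebraMap (𝒜 0) A ⟨algebraMap R A r, SetLike.algebraMap_mem_graded 𝒜 r⟩ := rfl
      rw [this]
      exact Subalgebra.algebraMap_mem _ _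
    | add a b _ _ ha hb => exact add_mem ha hb
    | mul a b _ _ ha hb => exact mul_mem ha hb
  have := Proj.iSup_basicOpen_eq_top' 𝒜 fs (fun i => ⟨deg i, hfs i⟩) h0
  have hx : x ∈ (⨆ i, Proj.basicOpen 𝒜 (fs i)) := by rw [this]; trivial
  exact Opens.mem_iSup.1 hx

include hdeg hfs hgen in
/-- `Proj` is covered by the `D₊(g)`, `g` of degree the lcm of the degrees of the generators -/
theorem cover_lcm (x : Proj 𝒜) : ∃ g : A, g ∈ 𝒜 (Finset.univ.lcm deg) ∧ x ∈ Proj.basicOpen 𝒜 g := by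
  obtain ⟨i, hi⟩ := cover_of_adjoin_gen 𝒜 fs deg hfs hgen x
  have hdvd : deg i ∣ Finset.univ.lcm deg := Finset.dvd_lcm (Finset.mem_univ i)
  have hl := lcm_pos deg hdeg
  have hk : 0 < Finset.univ.lcm deg / deg i := Nat.div_pos (Nat.le_of_dvd hl hdvd) (hdeg i)
  refine ⟨fs i ^ (Finset.univ.lcm deg / deg i), ?_, ?_⟩
  · have h1 := SetLike.pow_mem_graded (Finset.univ.lcm deg / deg i) (hfs i)
    rw [smul_eq_mul, Nat.div_mul_cancel hdvd] at h1
    exact h1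
  · rw [Proj.basicOpen_pow 𝒜 _ _ hk]
    exact hi

end lcm

end Groth.Agent.Lib.Helper28.TwistGenD
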