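import Groth.Agent.Lib.Helper28.ProjTildeFin
import Groth.Agent.Lib.Helper28.TwistQC
import Groth.Agent.Lib.Helper28.ModChartGlue

/-!
# Morphisms `O(-n) ⟶ F` on `Proj` from the elements of degree `n` of `Γ_*(F)`; quotients of sums of `O(-n)`
-/

set_option autoImplicit false
universe u
open CategoryTheory CategoryTheory.Limits AlgebraicGeometry Opposite TopologicalSpace HomogeneousLocalization
noncomputable section

namespace Groth.Agent.Lib.Helper28.GammaStar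

open Groth.Agent.Lib.Helper28 Groth.Agent.Lib.Helper28.GrTildeQC Groth.Agent.Lib.Helper28.QCohLoc
  Groth.Agent.Lib.Helper28.ProjFrac

variable {R A : Type u} [CommRing R] [CommRing A] [Algebra R A] {𝒜 : ℕ → Submodule R A} [GradedAlgebra 𝒜]
  {s : Finset A} {F : (Proj 𝒜).Modules}

/-- the generator `1 / f^n` of `O(-n)` over `D₊(f)` -/
def en (f : J 𝒜 s) (n : ℕ) : Γ(Twist.twist 𝒜 (-(n : ℤ)), U 𝒜 s f) :=
  TwistQC.mkSect 𝒜 f.2.1 (-(n : ℤ)) n 0 1 SetLike.GradedOne.one_mem (by simp)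

theorem val_en (f : J 𝒜 s) (n : ℕ) (x : U 𝒜 s f) :
    TwistQC.val 𝒜 (en f n) x = Localization.mk 1 ⟨f.1 ^ n, GrSectMod.pow_nin 𝒜 n x⟩ := rfl

theorem exists_coef (f : J 𝒜 s) (n : ℕ) (t : Γ(Twist.twist 𝒜 (-(n : ℤ)), U 𝒜 s f)) :
    ∃ c : Γ(Proj 𝒜, U 𝒜 s f), t = (c • en f n : Γ(Twist.twist 𝒜 (-(n : ℤ)), U 𝒜 s f)) := by
  obtain ⟨k, i, m, hm, hi, hval⟩ := TwistQC.exists_frac 𝒜 f.2.1 one_pos (-(n : ℤ)) t
  have hik : i + n = k := by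
    have : (i : ℤ) + n = k := by rw [hi]; push_cast; ring
    exact_mod_cast this
  have hmem : m * f.1 ^ n ∈ 𝒜 k := by
    rw [← hik]; exact SetLike.mul_mem_graded hm (pow_mem' f n)
  refine ⟨fr 𝒜 f.2.1 k (m * f.1 ^ n) hmem, ?_⟩
  apply TwistQC.ext_val
  intro x
  rw [hval x, TwistQC.val_smul, val_fr, val_en, Localization.mk_mul, Localization.mk_eq_mk_iff,
    Localization.r_iff_exists]
  refine ⟨1, ?_⟩
  simp only [OneMemClass.coe_one, one_mul, Submonoid.coe_mul, mul_one]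
  ring

theorem coef_unique (f : J 𝒜 s) (n : ℕ) (c c' : Γ(Proj 𝒜, U 𝒜 s f))
    (h : (c • en f n : Γ(Twist.twist 𝒜 (-(n : ℤ)), U 𝒜 s f)) = c' • en f n) : c = c' := by
  refine valO_ext 𝒜 _ _ fun x => ?_
  have h1 : TwistQC.val 𝒜 (c • en f n) x = TwistQC.val 𝒜 (c' • en f n) x := by rw [h]
  rw [TwistQC.val_smul, TwistQC.val_smul, val_en] at h1
  have hu : IsUnit (Localization.mk 1 ⟨f.1 ^ n, GrSectMod.pow_nin 𝒜 n x⟩ :
      Localization.AtPrime x.1.asHomogeneousIdeal.toIdeal) := by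
    refine IsUnit.of_mul_eq_one (Localization.mk (f.1 ^ n) 1) ?_
    rw [Localization.mk_mul, one_mul, mul_one]
    exact Localization.mk_self (⟨f.1 ^ n, GrSectMod.pow_nin 𝒜 n x⟩ : x.1.asHomogeneousIdeal.toIdeal.primeCompl)
  exact hu.mul_left_injective h1

/-- the coefficient of a section of `O(-n)` over `D₊(f)` with respect to `1 / f^n` -/
def coef (f : J 𝒜 s) (n : ℕ) (t : Γ(Twist.twist 𝒜 (-(n : ℤ)), U 𝒜 s f)) : Γ(Proj 𝒜, U 𝒜 s f) :=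
  (exists_coef f n t).choose

theorem coef_spec (f : J 𝒜 s) (n : ℕ) (t : Γ(Twist.twist 𝒜 (-(n : ℤ)), U 𝒜 s f)) :
    t = (coef f n t • en f n : Γ(Twist.twist 𝒜 (-(n : ℤ)), U 𝒜 s f)) :=
  (exists_coef f n t).choose_spec

theorem coef_smul_en (f : J 𝒜 s) (n : ℕ) (c : Γ(Proj 𝒜, U 𝒜 s f)) :
    coef f n (c • en f n : Γ(Twist.twist 𝒜 (-(n : ℤ)), U 𝒜 s f)) = c :=
  coef_unique f n _ _ (coef_spec f n _).symm

theorem coef_en (f : J 𝒜 s) (n : ℕ) : coef f n (en f n) = 1 := by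
  have h := coef_smul_en f n 1
  rwa [one_smul] at h

theorem coef_add (f : J 𝒜 s) (n : ℕ) (t t' : Γ(Twist.twist 𝒜 (-(n : ℤ)), U 𝒜 s f)) :
    coef f n (t + t') = coef f n t + coef f n t' := by
  refine coef_unique f n _ _ ?_
  rw [add_smul, ← coef_spec, ← coef_spec, ← coef_spec]

theorem coef_smul (f : J 𝒜 s) (n : ℕ) (a : Γ(Proj 𝒜, U 𝒜 s f)) (t : Γ(Twist.twist 𝒜 (-(n : ℤ)), U 𝒜 s f)) :
    coef f n (a • t : Γ(Twist.twist 𝒜 (-(n : ℤ)), U 𝒜 s f)) = a * coef f n t := by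
  refine coef_unique f n _ _ ?_
  rw [mul_smul, ← coef_spec, ← coef_spec]

theorem coef_zero (f : J 𝒜 s) (n : ℕ) : coef f n (0 : Γ(Twist.twist 𝒜 (-(n : ℤ)), U 𝒜 s f)) = 0 := by
  refine coef_unique f n _ _ ?_
  rw [← coef_spec, zero_smul]

/-- the map `O(-n)(D₊(f)) → F(D₊(f))`, `c / f^n ↦ c • μ_f` -/
def psiT (f : J 𝒜 s) (n : ℕ) (μ : MM 𝒜 s F) : Γ(Twist.twist 𝒜 (-(n : ℤ)), U 𝒜 s f) →+ Γ(F, U 𝒜 s f) where
  toFun t := (coef f n t • cf f n μ : Γ(F, U 𝒜 s f))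
  map_zero' := by rw [coef_zero, zero_smul]
  map_add' t t' := by rw [coef_add, add_smul]

theorem psiT_apply (f : J 𝒜 s) (n : ℕ) (μ : MM 𝒜 s F) (t : Γ(Twist.twist 𝒜 (-(n : ℤ)), U 𝒜 s f)) :
    psiT f n μ t = (coef f n t • cf f n μ : Γ(F, U 𝒜 s f)) := rfl

theorem psiT_smul (f : J 𝒜 s) (n : ℕ) (μ : MM 𝒜 s F) (a : Γ(Proj 𝒜, U 𝒜 s f))
    (t : Γ(Twist.twist 𝒜 (-(n : ℤ)), U 𝒜 s f)) :
    psiT f n μ (a • t : Γ(Twist.twist 𝒜 (-(n : ℤ)), U 𝒜 s f)) = (a • psiT f n μ t : Γ(F, U 𝒜 s f)) := by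
  rw [psiT_apply, psiT_apply, coef_smul, mul_smul]

theorem psiT_en (f : J 𝒜 s) (n : ℕ) (μ : MM 𝒜 s F) : psiT f n μ (en f n) = cf f n μ := by
  rw [psiT_apply, coef_en, one_smul]

/-- `1 / g^n = (f/g)^n (1 / f^n)` on `D₊(f) ∩ D₊(g)` -/
theorem res_en (f g : J 𝒜 s) (n : ℕ) :
    res (Twist.twist 𝒜 (-(n : ℤ))) (inf_le_right : U 𝒜 s f ⊓ U 𝒜 s g ≤ U 𝒜 s g) (en g n) =
      (rat f g ^ n • res (Twist.twist 𝒜 (-(n : ℤ))) (inf_le_left : U 𝒜 s f ⊓ U 𝒜 s g ≤ U 𝒜 s f) (en f n) :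
        Γ(Twist.twist 𝒜 (-(n : ℤ)), U 𝒜 s f ⊓ U 𝒜 s g)) := by
  apply TwistQC.ext_val
  intro x
  rw [TwistQC.val_smul, valO_pow, HomogeneousLocalization.val_pow, TwistQC.val_res, TwistQC.val_res]
  change _ = (valO 𝒜 (resO _ (fr 𝒜 g.2.1 1 f.1 f.2.1)) x).val ^ n * _
  rw [valO_resO, val_fr, val_en, val_en, Localization.mk_pow, Localization.mk_mul, Localization.mk_eq_mk_iff,
    Localization.r_iff_exists]
  refine ⟨1, ?_⟩
  simp only [OneMemClass.coe_one, one_mul, Submonoid.coe_mul, mul_one, SubmonoidClass.coe_pow]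
  ring

theorem isLocOn_twistNeg (f : J 𝒜 s) (n : ℕ) : IsLocOn (Twist.twist 𝒜 (-(n : ℤ))) (U 𝒜 s f) :=
  TwistQC.isLocOn_basicOpen 𝒜 Nat.one_pos f.2.1 _

/-- the chart data of the morphism `O(-n) ⟶ F` attached to `μ` -/
def chartT (hcov : ∀ x : Proj 𝒜, ∃ f : J 𝒜 s, x ∈ U 𝒜 s f) (n : ℕ) (μ : MM 𝒜 s F) :
    ChartHomData (Twist.twist 𝒜 (-(n : ℤ))) F where
  ι := J 𝒜 s
  U := U 𝒜 s
  hU := isAffineOpen_U
  cov := hcov
  loc f := isLocOn_twistNeg f n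
  ψ f := psiT f n μ
  smul f := psiT_smul f n μ
  compat f g m := by
    have hm := coef_spec g n m
    have h1 : res (Twist.twist 𝒜 (-(n : ℤ))) (inf_le_right : U 𝒜 s f ⊓ U 𝒜 s g ≤ U 𝒜 s g) m =
        ((resO inf_le_right (coef g n m) * rat f g ^ n) •
          res (Twist.twist 𝒜 (-(n : ℤ))) (inf_le_left : U 𝒜 s f ⊓ U 𝒜 s g ≤ U 𝒜 s f) (en f n) :
          Γ(Twist.twist 𝒜 (-(n : ℤ)), U 𝒜 s f ⊓ U 𝒜 s g)) := by
      conv_lhs => rw [hm]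
      rw [res_smul, res_en, mul_smul]
    rw [h1, ext_smul, ext_res (isLocOn_twistNeg f n) (psiT f n μ) (psiT_smul f n μ) (isAffineOpen_U f) le_rfl,
      ext_top, psiT_en, mul_smul, ← cf_compat μ n f g, ← res_smul]
    rfl

/-- the morphism `O(-n) ⟶ F` attached to an element of `Γ_*(F)` -/
def twistHom (hcov : ∀ x : Proj 𝒜, ∃ f : J 𝒜 s, x ∈ U 𝒜 s f) (n : ℕ) (μ : MM 𝒜 s F) :
    Twist.twist 𝒜 (-(n : ℤ)) ⟶ F := (chartT hcov n μ).hom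

theorem twistHom_app (hcov : ∀ x : Proj 𝒜, ∃ f : J 𝒜 s, x ∈ U 𝒜 s f) (n : ℕ) (μ : MM 𝒜 s F) (f : J 𝒜 s)
    (t : Γ(Twist.twist 𝒜 (-(n : ℤ)), U 𝒜 s f)) :
    (twistHom hcov n μ).app (U 𝒜 s f) t = psiT f n μ t :=
  (chartT hcov n μ).hom_app f t

theorem twistHom_app_en (hcov : ∀ x : Proj 𝒜, ∃ f : J 𝒜 s, x ∈ U 𝒜 s f) (n : ℕ) (μ : MM 𝒜 s F) (f : J 𝒜 s) :
    (twistHom hcov n μ).app (U 𝒜 s f) (en f n) = cf f n μ := by
  rw [twistHom_app, psiT_en]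

/-- sections over a basic open of an affine open are combinations of the restrictions of generators -/
theorem mem_span_res_basicOpen {X : Scheme.{u}} (M : X.Modules) {V : X.Opens} (h : IsLocOn M V) (r : Γ(X, V))
    (G : Set Γ(M, V)) (hG : Submodule.span Γ(X, V) G = ⊤) (τ : Γ(M, X.basicOpen r)) :
    τ ∈ Submodule.span Γ(X, X.basicOpen r) ((fun g => res M (X.basicOpen_le r) g) '' G) := by
  obtain ⟨k, m, hkm⟩ := h.surj r τ
  have hm : res M (X.basicOpen_le r) m ∈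
      Submodule.span Γ(X, X.basicOpen r) ((fun g => res M (X.basicOpen_le r) g) '' G) :=
    FinType.res_mem_span _ _ m (by rw [hG]; trivial)
  have hτ : τ = ((((isUnit_ur r).pow k).unit⁻¹ : (Γ(X, X.basicOpen r))ˣ) : Γ(X, X.basicOpen r)) •
      res M (X.basicOpen_le r) m := by
    rw [← hkm, smul_smul, IsUnit.val_inv_mul, one_smul]
  rw [hτ]
  exact Submodule.smul_mem _ _ hm

/-- **A quasi-coherent module of finite type on `Proj` (degree one generators) is, for all large `n`, a quotient of a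
finite direct sum of copies of `O(-n)`.** -/
theorem exists_epi_twistNeg [F.IsQuasicoherent] [SheafOfModules.IsFiniteType.{u} (R := (Proj 𝒜).ringCatSheaf) F]
    (hs1 : ∀ f ∈ s, f ∈ 𝒜 1) (hs : (HomogeneousIdeal.irrelevant 𝒜).toIdeal = Ideal.span (s : Set A)) :
    ∃ n₀ : ℕ, ∀ n : ℕ, n₀ ≤ n →
      ∃ (k : ℕ) (p : (∐ fun _ : Fin k => Twist.twist 𝒜 (-(n : ℤ))) ⟶ F), Epi p := by
  classical
  letI : Fintype (J 𝒜 s) := Fintype.ofFinite _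
  have hcov := cover_of_span (𝒜 := 𝒜) (s := s) hs1 hs
  have hloc : ∀ g : J 𝒜 s, IsLocOn F (U 𝒜 s g) := fun g => isLocOn_of_isQuasicoherent F (isAffineOpen_U g)
  have hloc2 : ∀ g g' : J 𝒜 s, IsLocOn F (U 𝒜 s g ⊓ U 𝒜 s g') := by
    intro g g'
    refine isLocOn_of_isQuasicoherent F ?_
    have : U 𝒜 s g ⊓ U 𝒜 s g' = Proj.basicOpen 𝒜 (g.1 * g'.1) := (Proj.basicOpen_mul 𝒜 g.1 g'.1).symm
    rw [this]
    exact Proj.isAffineOpen_basicOpen 𝒜 (g.1 * g'.1) (SetLike.mul_mem_graded g.2.1 g'.2.1) (by norm_num)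
  have hfin : ∀ f : J 𝒜 s, ∃ Y : Finset Γ(F, U 𝒜 s f),
      Submodule.span Γ(Proj 𝒜, U 𝒜 s f) (Y : Set Γ(F, U 𝒜 s f)) = ⊤ := fun f =>
    (FinType.finite_of_isAffineOpen F (isAffineOpen_U f)).1
  choose Y hY using hfin
  have hμ : ∀ (f : J 𝒜 s) (y : Γ(F, U 𝒜 s f)), ∃ (n' : ℕ) (μ : MM 𝒜 s F),
      μ ∈ grading 𝒜 s F n' ∧ cf f n' μ = y := fun f y => exists_cf_eq hloc hloc2 f y
  choose N μ hμg hμy using hμ
  refine ⟨Finset.univ.sup (fun f : J 𝒜 s => (Y f).sup (N f)), fun n hn => ?_⟩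
  let I : Type u := Σ f : J 𝒜 s, {y // y ∈ Y f}
  letI : Fintype I := inferInstanceAs (Fintype (Σ f : J 𝒜 s, {y // y ∈ Y f}))
  let e : Fin (Fintype.card I) ≃ I := (Fintype.equivFin I).symm
  have hN : ∀ i : I, N i.1 i.2.1 ≤ n := fun i =>
    le_trans (le_trans (Finset.le_sup (f := N i.1) i.2.2)
      (Finset.le_sup (f := fun f : J 𝒜 s => (Y f).sup (N f)) (Finset.mem_univ i.1))) hn
  let ν : I → MM 𝒜 s F := fun i => i.1.1 ^ (n - N i.1 i.2.1) • μ i.1 i.2.1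
  have hν : ∀ i : I, cf i.1 n (ν i) = i.2.1 := by
    intro i
    have h1 := cf_pow_smul i.1 (n - N i.1 i.2.1) (N i.1 i.2.1) (μ i.1 i.2.1)
    have h2 : n - N i.1 i.2.1 + N i.1 i.2.1 = n := Nat.sub_add_cancel (hN i)
    rw [h2] at h1
    exact h1.trans (hμy i.1 i.2.1)
  let φ : Fin (Fintype.card I) → (Twist.twist 𝒜 (-(n : ℤ)) ⟶ F) := fun a => twistHom hcov n (ν (e a))
  refine ⟨Fintype.card I, Sigma.desc φ, ?_⟩
  refine epi_of_locally_in_range _ ?_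
  intro W t q hq
  obtain ⟨f, hqf⟩ := hcov q
  obtain ⟨r, hr, hqr⟩ := (isAffineOpen_U f).exists_basicOpen_le (V := W ⊓ U 𝒜 s f) ⟨q, ⟨hq, hqf⟩⟩ hqf
  refine ⟨(Proj 𝒜).basicOpen r, hr.trans inf_le_left, hqr, ?_⟩
  have hspan := mem_span_res_basicOpen F (hloc f) r (Y f : Set Γ(F, U 𝒜 s f)) (hY f)
    (res F (hr.trans inf_le_left) t)
  generalize res F (hr.trans inf_le_left) t = z0 at hspan
  induction hspan using Submodule.span_induction with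
  | mem z hz =>
    obtain ⟨y0, hy0, rfl⟩ := hz
    let i : I := ⟨f, ⟨y0, hy0⟩⟩
    refine ⟨(Sigma.ι (fun _ : Fin (Fintype.card I) => Twist.twist 𝒜 (-(n : ℤ))) (e.symm i)).app _
      (res (Twist.twist 𝒜 (-(n : ℤ))) ((Proj 𝒜).basicOpen_le r) (en f n)), ?_⟩
    have h1 : (Sigma.desc φ).app ((Proj 𝒜).basicOpen r)
        ((Sigma.ι (fun _ : Fin (Fintype.card I) => Twist.twist 𝒜 (-(n : ℤ))) (e.symm i)).app _
          (res (Twist.twist 𝒜 (-(n : ℤ))) ((Proj 𝒜).basicOpen_le r) (en f n))) =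
        (Sigma.ι (fun _ : Fin (Fintype.card I) => Twist.twist 𝒜 (-(n : ℤ))) (e.symm i) ≫ Sigma.desc φ).app
          ((Proj 𝒜).basicOpen r) (res (Twist.twist 𝒜 (-(n : ℤ))) ((Proj 𝒜).basicOpen_le r) (en f n)) := rfl
    rw [h1, Sigma.ι_desc]
    change (twistHom hcov n (ν (e (e.symm i)))).app _ _ = _
    rw [Equiv.apply_symm_apply, app_res, twistHom_app_en]
    exact congrArg _ (hν i)
  | zero => exact ⟨0, map_zero _⟩
  | add a b _ _ ha hb =>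
    obtain ⟨ya, hya⟩ := ha
    obtain ⟨yb, hyb⟩ := hb
    exact ⟨ya + yb, by rw [map_add, hya, hyb]⟩
  | smul c a _ ha =>
    obtain ⟨ya, hya⟩ := ha
    exact ⟨c • ya, by rw [Scheme.Modules.Hom.app_smul, hya]⟩

end Groth.Agent.Lib.Helper28.GammaStar
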