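import Groth.Agent.Lib.Helper28.RLPsiV10
import Groth.Agent.Lib.Helper28.UPSecA
import Groth.Agent.Lib.Helper28.ProjUPUniq1

/-!
# Morphisms to a projective bundle classified by sections: the criterion, and uniqueness
-/

set_option autoImplicit false
universe u
open CategoryTheory CategoryTheory.Limits AlgebraicGeometry Opposite TopologicalSpace
open HomogeneousLocalization
open scoped HomogeneousIdeal
noncomputable section

namespace Groth.Agent.Lib.Helper28.UPSec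

open Groth.Agent.Lib.Helper28 Groth.Agent.Lib.Helper28.QCohLoc Groth.Agent.Lib.Helper28.TraceAlg
open Groth.Agent.Lib.Helper28.GenLocus Groth.Agent.Lib.Helper28.SymAlg
open Groth.Agent.Lib.Helper28.RLPsi Groth.Agent.Lib.Helper28.RelTwistVal Groth.Agent.Lib.Helper28.RLPsiU
open Groth.Agent.Lib.Helper28.PullbackInv Groth.Agent.Lib.Helper28.RLPsiV

section defs

variable {X Y P : Scheme.{u}} {p : P ⟶ Y} {L : X.Modules}
  {E : Y.Modules}
  {𝒮 : RelProj.QCGrAlg Y} (j : E ⟶ 𝒮.toModule)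
  (chart : ∀ (U : Y.Opens) (hU : IsAffineOpen U), (((p ⁻¹ᵁ U : P.Opens) : Scheme.{u}) ≅ Proj (𝒮.deg U hU)))
  (g : X ⟶ Y) (ψ : E ⟶ (Scheme.Modules.pushforward g).obj L)

/-- the section of `L` over `g⁻¹ U` attached to a section of `E` over `U` -/
def sc (U : Y.Opens) (e : Γ(E, U)) : Γ(L, g ⁻¹ᵁ U) := ψ.app U e

/-- `ψ` generates `L`: near every point some `ψ(e₀)` is a generator -/
def GenBy : Prop :=
  ∀ x : X, ∃ (U : Y.Opens) (_ : IsAffineOpen U) (e₀ : Γ(E, U)) (V : X.Opens) (hVU : V ≤ g ⁻¹ᵁ U),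
    x ∈ V ∧ IsGen L V (res L hVU (sc g ψ U e₀))

/-- `r : X ⟶ P(E)` is classified by `ψ : E ⟶ g_* L`: where `ψ(e₀)` generates `L`, the morphism `r` lands in `D₊(e₀)`
and pulls the function `e'/e₀` back to the ratio `ψ(e')/ψ(e₀)` -/
def Classifies (r : X ⟶ P) : Prop :=
  ∀ (U : Y.Opens) (hU : IsAffineOpen U) (e₀ : Γ(E, U)) (V : X.Opens) (hVU : V ≤ g ⁻¹ᵁ U),
    IsGen L V (res L hVU (sc g ψ U e₀)) →
    ∃ hV : V ≤ r ⁻¹ᵁ WPU p chart hU (asR 𝒮.toQCAlg (j.app U e₀)),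
      ∀ (e' : Γ(E, U)) (c : Γ(P, WPU p chart hU (asR 𝒮.toQCAlg (j.app U e₀)))),
        ReadsO p chart hU c (asR 𝒮.toQCAlg (j.app U e')) (asR 𝒮.toQCAlg (j.app U e₀)) →
        res L hVU (sc g ψ U e') =
          ((r.appLE _ V hV).hom c • res L hVU (sc g ψ U e₀) : Γ(L, V))

end defs

section uniq

variable {X Y P : Scheme.{u}} {p : P ⟶ Y} {L : X.Modules}
  {E : Y.Modules} [E.IsQuasicoherent]
  {𝒮 : RelProj.QCGrAlg Y} {j : E ⟶ 𝒮.toModule} (hS : RelProj.IsGrSymAlg E 𝒮 j)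
  {chart : ∀ (U : Y.Opens) (hU : IsAffineOpen U), (((p ⁻¹ᵁ U : P.Opens) : Scheme.{u}) ≅ Proj (𝒮.deg U hU))}
  (hP : RelProj.IsRelProj 𝒮 p chart)
  {O1 : P.Modules}
  {lam : ∀ (U : Y.Opens) (hU : IsAffineOpen U),
    O1 ⟶ (Scheme.Modules.pushforward (RelProj.emb p chart U hU)).obj (GrTwist.twist (𝒮.deg U hU) ((1 : ℕ) : ℤ))}
  (hO : RelProj.IsRelTwist 𝒮 p chart ((1 : ℕ) : ℤ) O1 lam)
  {g : X ⟶ Y} {ψ : E ⟶ (Scheme.Modules.pushforward g).obj L}

include hS hP hO in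
/-- **uniqueness**: two morphisms over `g` classified by the same generating `ψ` are equal -/
theorem eq_of_classifies (hgen : GenBy g ψ) {r r' : X ⟶ P} (hr : r ≫ p = g) (hr' : r' ≫ p = g)
    (hc : Classifies j chart g ψ r) (hc' : Classifies j chart g ψ r') : r = r' := by
  classical
  apply RelProjGlue.hom_ext_of_local
  intro x
  obtain ⟨U, hU, e₀, V, hVU, hxV, hgV⟩ := hgen x
  obtain ⟨hV, h1⟩ := hc U hU e₀ V hVU hgV
  obtain ⟨hV', h1'⟩ := hc' U hU e₀ V hVU hgV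
  refine ⟨V, V.ι, inferInstance, ⟨⟨x, hxV⟩, rfl⟩, ?_⟩
  have hm := hS.2 U hU e₀
  have hW : IsAffineOpen (WPU p chart hU (asR 𝒮.toQCAlg (j.app U e₀))) :=
    (Proj.isAffineOpen_basicOpen (𝒮.deg U hU) (asR 𝒮.toQCAlg (j.app U e₀)) hm one_pos).image_of_isOpenImmersion (RelProj.emb p chart U hU)
  refine ProjUPUniq.ι_comp_eq_of_appLE_eq r r' hW V hV hV' ?_
  -- the generators
  have hcoef : ∀ (e' : Γ(E, U)) (c : Γ(P, WPU p chart hU (asR 𝒮.toQCAlg (j.app U e₀)))),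
      ReadsO p chart hU c (asR 𝒮.toQCAlg (j.app U e')) (asR 𝒮.toQCAlg (j.app U e₀)) →
      (r.appLE _ V hV).hom c = (r'.appLE _ V hV').hom c := by
    intro e' c hread
    have e1 := h1 e' c hread
    have e2 := h1' e' c hread
    have k1 := hgV.coef_eq le_rfl (res L hVU (sc g ψ U e')) ((r.appLE _ V hV).hom c) (by rw [res_self]; exact e1.symm)
    have k2 := hgV.coef_eq le_rfl (res L hVU (sc g ψ U e')) ((r'.appLE _ V hV').hom c) (by rw [res_self]; exact e2.symm)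
    exact k1.symm.trans k2
  have hbase : ∀ a : Γ(Y, U),
      (r.appLE _ V hV).hom ((p.appLE U _ (WPU_le hU (asR 𝒮.toQCAlg (j.app U e₀)))).hom a) =
        (r'.appLE _ V hV').hom ((p.appLE U _ (WPU_le hU (asR 𝒮.toQCAlg (j.app U e₀)))).hom a) := by
    intro a
    rw [← CommRingCat.comp_apply, ← CommRingCat.comp_apply, Scheme.Hom.appLE_comp_appLE,
      Scheme.Hom.appLE_comp_appLE]
    exact congrArg (fun χ => χ.hom a) (ProjSect.appLE_congr' (hr.trans hr'.symm) U V _ _)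
  have hlist : ∀ l : List Γ(E, U), ∃ c : Γ(P, WPU p chart hU (asR 𝒮.toQCAlg (j.app U e₀))),
      ReadsO p chart hU c ((l.map fun m => asR 𝒮.toQCAlg (j.app U m)).prod)
        (asR 𝒮.toQCAlg (j.app U e₀) ^ l.length) ∧
      (r.appLE _ V hV).hom c = (r'.appLE _ V hV').hom c := by
    intro l
    induction l with
    | nil =>
      refine ⟨1, ?_, ?_⟩
      · rw [List.map_nil, List.prod_nil, List.length_nil, pow_zero]
        exact ReadsO.one
      · rw [map_one, map_one]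
    | cons e' l ih =>
      obtain ⟨cl, hrl, hFl⟩ := ih
      obtain ⟨ce, hre, -⟩ := exists_coef hO hU (asR 𝒮.toQCAlg (j.app U e₀)) hm
        (asR 𝒮.toQCAlg (j.app U e')) (hS.2 U hU e')
      refine ⟨ce * cl, ?_, ?_⟩
      · rw [List.map_cons, List.prod_cons, List.length_cons, pow_succ']
        exact hre.mul hrl
      · rw [map_mul, map_mul, hFl, hcoef e' ce hre]
  have key : ∀ (k : ℕ) (a : 𝒮.presheaf.obj (op U)), a ∈ 𝒮.deg U hU k →
      ∃ c : Γ(P, WPU p chart hU (asR 𝒮.toQCAlg (j.app U e₀))),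
        ReadsO p chart hU c a (asR 𝒮.toQCAlg (j.app U e₀) ^ k) ∧
        (r.appLE _ V hV).hom c = (r'.appLE _ V hV').hom c := by
    intro k a ha
    have ha' := deg_le_monoGrp hS U hU k ha
    refine AddSubgroup.closure_induction
      (p := fun a _ => ∃ c : Γ(P, WPU p chart hU (asR 𝒮.toQCAlg (j.app U e₀))),
        ReadsO p chart hU c a (asR 𝒮.toQCAlg (j.app U e₀) ^ k) ∧
        (r.appLE _ V hV).hom c = (r'.appLE _ V hV').hom c)
      (fun x hx => ?_) ?_ (fun x x' _ _ hx hx' => ?_) (fun x _ hx => ?_) ha'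
    · obtain ⟨a₀, l, hl, rfl⟩ := hx
      obtain ⟨cl, hrl, hFl⟩ := hlist l
      rw [hl] at hrl
      refine ⟨(p.appLE U _ (WPU_le hU _)).hom a₀ * cl, ?_, ?_⟩
      · have h2 := (ReadsO.base hP (WPU_le hU (asR 𝒮.toQCAlg (j.app U e₀))) a₀).mul hrl
        rw [one_mul] at h2
        exact h2
      · rw [map_mul, map_mul, hFl, hbase a₀]
    · refine ⟨0, ReadsO.zero _, ?_⟩
      rw [map_zero, map_zero]
    · obtain ⟨c, hr₁, hF⟩ := hx
      obtain ⟨c', hr₂, hF'⟩ := hx'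
      refine ⟨c + c', hr₁.add hr₂, ?_⟩
      rw [map_add, map_add, hF, hF']
    · obtain ⟨c, hr₁, hF⟩ := hx
      refine ⟨-c, hr₁.neg, ?_⟩
      rw [map_neg, map_neg, hF]
  ext c
  obtain ⟨n, hn, G, hG, hread⟩ := exists_readsO_of_fn hU one_pos _ hm c
  rw [mul_one] at hG
  obtain ⟨c', hr₁, heq⟩ := key n G hG
  have hcc : c = c' := ReadsO.unique (WPU_le_pow hU _ n) hread hr₁
  rw [hcc]
  exact heq

end uniq

end Groth.Agent.Lib.Helper28.UPSec
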