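import Groth.Agent.Lib.Helper28.UPSecB
import Groth.Agent.Lib.Helper28.PEPull

/-!
# Morphisms to a projective bundle classified by sections: an isomorphism `r^* O(1) ≅ L` compatible with the sections
forces the criterion
-/

set_option autoImplicit false
universe u
open CategoryTheory CategoryTheory.Limits AlgebraicGeometry Opposite TopologicalSpace
open HomogeneousLocalization
open scoped HomogeneousIdeal
noncomputable section

namespace Groth.Agent.Lib.Helper28.UPSec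

open Groth.Agent.Lib.Helper28 Groth.Agent.Lib.Helper28.QCohLoc Groth.Agent.Lib.Helper28.TraceAlg
open Groth.Agent.Lib.Helper28.GenLocus Groth.Agent.Lib.Helper28.SymAlg
open Groth.Agent.Lib.Helper28.RLPsi Groth.Agent.Lib.Helper28.RelTwistVal Groth.Agent.Lib.Helper28.RLPsiU
open Groth.Agent.Lib.Helper28.PullbackInv Groth.Agent.Lib.Helper28.RLPsiV

section compat

variable {X Y P : Scheme.{u}} {p : P ⟶ Y} {L : X.Modules}
  {E : Y.Modules} [E.IsQuasicoherent]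
  {𝒮 : RelProj.QCGrAlg Y} {j : E ⟶ 𝒮.toModule} (hS : RelProj.IsGrSymAlg E 𝒮 j)
  {chart : ∀ (U : Y.Opens) (hU : IsAffineOpen U), (((p ⁻¹ᵁ U : P.Opens) : Scheme.{u}) ≅ Proj (𝒮.deg U hU))}
  (hP : RelProj.IsRelProj 𝒮 p chart)
  {O1 : P.Modules}
  {lam : ∀ (U : Y.Opens) (hU : IsAffineOpen U),
    O1 ⟶ (Scheme.Modules.pushforward (RelProj.emb p chart U hU)).obj (GrTwist.twist (𝒮.deg U hU) ((1 : ℕ) : ℤ))}
  (hO : RelProj.IsRelTwist 𝒮 p chart ((1 : ℕ) : ℤ) O1 lam)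
  {g : X ⟶ Y} (ψ : E ⟶ (Scheme.Modules.pushforward g).obj L)

theorem preimage_le {r : X ⟶ P} (hr : r ≫ p = g) (U : Y.Opens) : r ⁻¹ᵁ (p ⁻¹ᵁ U) ≤ g ⁻¹ᵁ U := by
  subst hr; exact le_rfl

theorem le_preimage {r : X ⟶ P} (hr : r ≫ p = g) (U : Y.Opens) : g ⁻¹ᵁ U ≤ r ⁻¹ᵁ (p ⁻¹ᵁ U) := by
  subst hr; exact le_rfl

theorem sc_res {U U' : Y.Opens} (h : U' ≤ U) (e : Γ(E, U)) :
    sc g ψ U' (res E h e) = res L (g.preimage_mono h) (sc g ψ U e) := by
  show ψ.app U' (res E h e) = _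
  rw [app_res]
  rfl

/-- the inverse image under `r` of the section `σ_{j(e)}` of `O(1)` -/
def tsg (r : X ⟶ P) {U : Y.Opens} (hU : IsAffineOpen U) (e : Γ(E, U)) :
    Γ((Scheme.Modules.pullback r).obj O1, r ⁻¹ᵁ (p ⁻¹ᵁ U)) :=
  pbs r O1 (p ⁻¹ᵁ U) (sig hO hU (asR 𝒮.toQCAlg (j.app U e)) (hS.2 U hU e))

/-- the isomorphism `τ : r^* O(1) ≅ L` carries the inverse images of the sections `σ_{j(e)}` to the `ψ(e)` -/
def SecCompat (r : X ⟶ P) (hr : r ≫ p = g) (τ : (Scheme.Modules.pullback r).obj O1 ≅ L) : Prop :=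
  ∀ (U : Y.Opens) (hU : IsAffineOpen U) (e : Γ(E, U)),
    τ.hom.app (r ⁻¹ᵁ (p ⁻¹ᵁ U)) (tsg hS hO r hU e) = res L (preimage_le hr U) (sc g ψ U e)

include hP in
/-- refinement to a basic open of the base -/
theorem tsg_res (r : X ⟶ P) {V W : Y.Opens} (hV : IsAffineOpen V) (hW : IsAffineOpen W) (ρ : Γ(Y, V))
    (eq : W = Y.basicOpen ρ) (hle : W ≤ V) (e : Γ(E, V)) :
    tsg hS hO r hW (res E hle e) =
      res _ (r.preimage_mono (p.preimage_mono hle)) (tsg hS hO r hV e) := by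
  unfold tsg
  have h1 := pbs_res r O1 (p.preimage_mono hle) (sig hO hV (asR 𝒮.toQCAlg (j.app V e)) (hS.2 V hV e))
  rw [← h1, sig_res_basic hP hO hV hW ρ eq hle _ (hS.2 V hV e)]
  congr 1
  refine sig_congr hO hW ?_ _ _
  show asR 𝒮.toQCAlg (j.app W (res E hle e)) = _
  rw [app_res]
  rfl

/-- the coefficient identity on `D₊(e₀)`, pulled back along `r` -/
theorem tsg_coef (r : X ⟶ P) {U : Y.Opens} (hU : IsAffineOpen U) (e₀ e' : Γ(E, U))
    (c : Γ(P, WPU p chart hU (asR 𝒮.toQCAlg (j.app U e₀))))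
    (hc : res O1 (WPU_le hU _) (sig hO hU (asR 𝒮.toQCAlg (j.app U e')) (hS.2 U hU e')) =
      (c • res O1 (WPU_le hU _) (sig hO hU (asR 𝒮.toQCAlg (j.app U e₀)) (hS.2 U hU e₀)) :
        Γ(O1, WPU p chart hU (asR 𝒮.toQCAlg (j.app U e₀)))))
    {N : X.Opens} (hN : N ≤ r ⁻¹ᵁ WPU p chart hU (asR 𝒮.toQCAlg (j.app U e₀))) :
    res _ (hN.trans (r.preimage_mono (WPU_le hU _))) (tsg hS hO r hU e') =
      ((r.appLE _ N hN).hom c • res _ (hN.trans (r.preimage_mono (WPU_le hU _))) (tsg hS hO r hU e₀) :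
        Γ((Scheme.Modules.pullback r).obj O1, N)) := by
  unfold tsg
  have h1 := pbs_res r O1 (WPU_le (p := p) (chart := chart) hU (asR 𝒮.toQCAlg (j.app U e₀)))
    (sig hO hU (asR 𝒮.toQCAlg (j.app U e')) (hS.2 U hU e'))
  have h2 := pbs_res r O1 (WPU_le (p := p) (chart := chart) hU (asR 𝒮.toQCAlg (j.app U e₀)))
    (sig hO hU (asR 𝒮.toQCAlg (j.app U e₀)) (hS.2 U hU e₀))
  rw [hc, pbs_smul, h2] at h1
  have h3 := congrArg (res ((Scheme.Modules.pullback r).obj O1) hN) h1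
  rw [res_smul, res_res, res_res] at h3
  rw [← h3]
  congr 1

end compat

end Groth.Agent.Lib.Helper28.UPSec
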