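import Groth.Agent.Lib.Helper28.UPSecC

/-!
# An isomorphism `r^* O(1) ≅ L` compatible with the sections forces the criterion
-/

set_option autoImplicit false
universe u
open CategoryTheory CategoryTheory.Limits AlgebraicGeometry Opposite TopologicalSpace
open HomogeneousLocalization
open scoped HomogeneousIdeal
noncomputable section

namespace Groth.Agent.Lib.Helper28.UPSec

open Groth.Agent.Lib.Helper28 Groth.Agent.Lib.Helper28.QCohLoc Groth.Agent.Lib.Helper28.TraceAlg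
open Groth.Agent.Lib.Helper28.GenLocus Groth.Agent.Lib.Helper28.SymAlg
open Groth.Agent.Lib.Helper28.RLPsi Groth.Agent.Lib.Helper28.RelTwistVal Groth.Agent.Lib.Helper28.RLPsiU
open Groth.Agent.Lib.Helper28.PullbackInv Groth.Agent.Lib.Helper28.RLPsiV

section compat

variable {X Y P : Scheme.{u}} {p : P ⟶ Y} {L : X.Modules}
  {E : Y.Modules} [E.IsQuasicoherent]
  {𝒮 : RelProj.QCGrAlg Y} {j : E ⟶ 𝒮.toModule} (hS : RelProj.IsGrSymAlg E 𝒮 j)
  {chart : ∀ (U : Y.Opens) (hU : IsAffineOpen U), (((p ⁻¹ᵁ U : P.Opens) : Scheme.{u}) ≅ Proj (𝒮.deg U hU))}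
  (hP : RelProj.IsRelProj 𝒮 p chart)
  {O1 : P.Modules}
  {lam : ∀ (U : Y.Opens) (hU : IsAffineOpen U),
    O1 ⟶ (Scheme.Modules.pushforward (RelProj.emb p chart U hU)).obj (GrTwist.twist (𝒮.deg U hU) ((1 : ℕ) : ℤ))}
  (hO : RelProj.IsRelTwist 𝒮 p chart ((1 : ℕ) : ℤ) O1 lam)
  {g : X ⟶ Y} (ψ : E ⟶ (Scheme.Modules.pushforward g).obj L)

theorem iso_inv_hom_app {M N : X.Modules} (τ : M ≅ N) (V : X.Opens) (x : Γ(M, V)) :
    τ.inv.app V (τ.hom.app V x) = x := by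
  have h : τ.hom ≫ τ.inv = 𝟙 _ := τ.hom_inv_id
  exact congrArg (fun θ => (Scheme.Modules.Hom.app θ V) x) h

theorem iso_hom_inv_app {M N : X.Modules} (τ : M ≅ N) (V : X.Opens) (x : Γ(N, V)) :
    τ.hom.app V (τ.inv.app V x) = x := by
  have h : τ.inv ≫ τ.hom = 𝟙 _ := τ.inv_hom_id
  exact congrArg (fun θ => (Scheme.Modules.Hom.app θ V) x) h

include hP in
/-- **a compatible isomorphism forces the criterion** -/
theorem classifies_of_secCompat {r : X ⟶ P} (hr : r ≫ p = g) (τ : (Scheme.Modules.pullback r).obj O1 ≅ L)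
    (hτ : SecCompat hS hO ψ r hr τ) : Classifies j chart g ψ r := by
  classical
  intro U hU e₀ V hVU hgV
  have hVU' : V ≤ r ⁻¹ᵁ (p ⁻¹ᵁ U) := hVU.trans (le_preimage hr U)
  have hτ₀ : τ.hom.app V (res _ hVU' (tsg hS hO r hU e₀)) = res L hVU (sc g ψ U e₀) := by
    rw [app_res, hτ U hU e₀, res_res]
  have hgT : IsGen ((Scheme.Modules.pullback r).obj O1) V (res _ hVU' (tsg hS hO r hU e₀)) := by
    have h1 := VeryAmpleImm.isGen_app_iso τ.symm hgV
    have h2 : τ.symm.hom.app V (res L hVU (sc g ψ U e₀)) = res _ hVU' (tsg hS hO r hU e₀) := by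
      rw [← hτ₀]
      exact iso_inv_hom_app τ V _
    rwa [h2] at h1
  have hV : V ≤ r ⁻¹ᵁ WPU p chart hU (asR 𝒮.toQCAlg (j.app U e₀)) := by
    intro x hxV
    have hrx : p (r x) ∈ U := hVU' hxV
    obtain ⟨z, hz⟩ := (RelProjQ.mem_range_emb p chart U hU (r x)).2 hrx
    obtain ⟨e₁, he₁⟩ := exists_deg_one_not_mem hS hU z
    have hzW : (RelProj.emb p chart U hU).base z ∈ WPU p chart hU (asR 𝒮.toQCAlg (j.app U e₁)) :=
      (mem_WPU_iff hU _ z).2 he₁
    obtain ⟨c, hread, hc⟩ := exists_coef hO hU (asR 𝒮.toQCAlg (j.app U e₁)) (hS.2 U hU e₁)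
      (asR 𝒮.toQCAlg (j.app U e₀)) (hS.2 U hU e₀)
    have hN : V ⊓ r ⁻¹ᵁ WPU p chart hU (asR 𝒮.toQCAlg (j.app U e₁)) ≤
        r ⁻¹ᵁ WPU p chart hU (asR 𝒮.toQCAlg (j.app U e₁)) := inf_le_right
    have hxN : x ∈ V ⊓ r ⁻¹ᵁ WPU p chart hU (asR 𝒮.toQCAlg (j.app U e₁)) := by
      refine ⟨hxV, ?_⟩
      show r x ∈ WPU p chart hU (asR 𝒮.toQCAlg (j.app U e₁))
      rw [← hz]
      exact hzW
    have h3 := tsg_coef hS hO r hU e₁ e₀ c hc hN
    have hg0 : IsGen ((Scheme.Modules.pullback r).obj O1) _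
        (res _ (hN.trans (r.preimage_mono (WPU_le hU _))) (tsg hS hO r hU e₀)) := by
      have h := hgT.res (inf_le_left : V ⊓ r ⁻¹ᵁ WPU p chart hU (asR 𝒮.toQCAlg (j.app U e₁)) ≤ V)
      rwa [res_res] at h
    have hg1 : IsGen ((Scheme.Modules.pullback r).obj O1) _
        (res _ (hN.trans (r.preimage_mono (WPU_le hU _))) (tsg hS hO r hU e₁)) := by
      have h := (isGen_pbs (f := r) (isGen_sig hO hU _ (hS.2 U hU e₁))).res hN
      rw [pbs_res, res_res] at h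
      exact h
    have hu : IsUnit ((r.appLE _ _ hN).hom c) := by
      have h4 := hg1.coef_eq le_rfl (res _ (hN.trans (r.preimage_mono (WPU_le hU _))) (tsg hS hO r hU e₀))
        ((r.appLE _ _ hN).hom c) (by rw [res_self]; exact h3.symm)
      rw [← h4]
      exact ProjUPGeom.isUnit_coef_of_isGen hg0 hg1
    have h5 : X.basicOpen ((r.appLE _ _ hN).hom c) =
        (V ⊓ r ⁻¹ᵁ WPU p chart hU (asR 𝒮.toQCAlg (j.app U e₁))) ⊓ r ⁻¹ᵁ (P.basicOpen c) := by
      unfold Scheme.Hom.appLE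
      rw [CommRingCat.comp_apply, Scheme.basicOpen_res, Scheme.preimage_basicOpen]
    have h6 : x ∈ X.basicOpen ((r.appLE _ _ hN).hom c) := by
      rw [Scheme.basicOpen_of_isUnit _ hu]
      exact hxN
    rw [h5] at h6
    have h7 : (RelProj.emb p chart U hU).base z ∈ P.basicOpen c := by
      rw [hz]
      exact h6.2
    have h8 := (hread.mem_basicOpen_iff le_rfl z hzW).1 h7
    show r x ∈ WPU p chart hU (asR 𝒮.toQCAlg (j.app U e₀))
    rw [← hz]
    exact (mem_WPU_iff hU _ z).2 h8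
  refine ⟨hV, fun e' c hread => ?_⟩
  obtain ⟨c₂, hread₂, hc₂⟩ := exists_coef hO hU (asR 𝒮.toQCAlg (j.app U e₀)) (hS.2 U hU e₀)
    (asR 𝒮.toQCAlg (j.app U e')) (hS.2 U hU e')
  have hcc : c = c₂ := ReadsO.unique le_rfl hread hread₂
  subst hcc
  have h3 := tsg_coef hS hO r hU e₀ e' c hc₂ hV
  have h4 := congrArg (fun t => τ.hom.app V t) h3
  simp only at h4
  rw [Scheme.Modules.Hom.app_smul, app_res, app_res, hτ U hU e', hτ U hU e₀, res_res, res_res] at h4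
  exact h4

end compat

end Groth.Agent.Lib.Helper28.UPSec
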