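import Groth.Agent.Lib.Helper28.UPSecD

/-!
# The criterion gives an isomorphism `r^* O(1) ≅ L` compatible with the sections
-/

set_option autoImplicit false
universe u
open CategoryTheory CategoryTheory.Limits AlgebraicGeometry Opposite TopologicalSpace
open HomogeneousLocalization
open scoped HomogeneousIdeal
noncomputable section

namespace Groth.Agent.Lib.Helper28.UPSec

open Groth.Agent.Lib.Helper28 Groth.Agent.Lib.Helper28.QCohLoc Groth.Agent.Lib.Helper28.TraceAlg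
open Groth.Agent.Lib.Helper28.GenLocus Groth.Agent.Lib.Helper28.SymAlg
open Groth.Agent.Lib.Helper28.RLPsi Groth.Agent.Lib.Helper28.RelTwistVal Groth.Agent.Lib.Helper28.RLPsiU
open Groth.Agent.Lib.Helper28.PullbackInv Groth.Agent.Lib.Helper28.RLPsiV

section idx

variable {X Y : Scheme.{u}} {L : X.Modules} {E : Y.Modules}
  (g : X ⟶ Y) (ψ : E ⟶ (Scheme.Modules.pushforward g).obj L)

/-- the index set of the covering: an affine open of the base, a section of `E` over it, and an open of `X` over which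
its image generates `L` -/
structure Idx where
  U : Y.Opens
  hU : IsAffineOpen U
  e₀ : Γ(E, U)
  V : X.Opens
  hVU : V ≤ g ⁻¹ᵁ U
  hgen : IsGen L V (res L hVU (sc g ψ U e₀))

end idx

section main

variable {X Y P : Scheme.{u}} {p : P ⟶ Y} {L : X.Modules}
  {E : Y.Modules} [E.IsQuasicoherent]
  {𝒮 : RelProj.QCGrAlg Y} {j : E ⟶ 𝒮.toModule} (hS : RelProj.IsGrSymAlg E 𝒮 j)
  {chart : ∀ (U : Y.Opens) (hU : IsAffineOpen U), (((p ⁻¹ᵁ U : P.Opens) : Scheme.{u}) ≅ Proj (𝒮.deg U hU))}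
  (hP : RelProj.IsRelProj 𝒮 p chart)
  {O1 : P.Modules}
  {lam : ∀ (U : Y.Opens) (hU : IsAffineOpen U),
    O1 ⟶ (Scheme.Modules.pushforward (RelProj.emb p chart U hU)).obj (GrTwist.twist (𝒮.deg U hU) ((1 : ℕ) : ℤ))}
  (hO : RelProj.IsRelTwist 𝒮 p chart ((1 : ℕ) : ℤ) O1 lam)
  {g : X ⟶ Y} (ψ : E ⟶ (Scheme.Modules.pushforward g).obj L)

/-- local comparison of the two families of sections -/
theorem local_comp {r : X ⟶ P} (hr : r ≫ p = g) (hcl : Classifies j chart g ψ r)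
    {U : Y.Opens} (hU : IsAffineOpen U) (e e₀ : Γ(E, U)) {N : X.Opens} (hNU : N ≤ g ⁻¹ᵁ U)
    (hgN : IsGen L N (res L hNU (sc g ψ U e₀))) :
    ∃ a : Γ(X, N), res L hNU (sc g ψ U e) = (a • res L hNU (sc g ψ U e₀) : Γ(L, N)) ∧
      res _ (hNU.trans (le_preimage hr U)) (tsg hS hO r hU e) =
        (a • res _ (hNU.trans (le_preimage hr U)) (tsg hS hO r hU e₀) :
          Γ((Scheme.Modules.pullback r).obj O1, N)) := by
  obtain ⟨hV, h1⟩ := hcl U hU e₀ N hNU hgN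
  obtain ⟨c, hread, hc⟩ := exists_coef hO hU (asR 𝒮.toQCAlg (j.app U e₀)) (hS.2 U hU e₀)
    (asR 𝒮.toQCAlg (j.app U e)) (hS.2 U hU e)
  exact ⟨(r.appLE _ N hV).hom c, h1 e c hread, tsg_coef hS hO r hU e₀ e c hc hV⟩

include hP in
/-- comparison of sections over two affine opens of the base, near a point -/
theorem local_comp₂ {r : X ⟶ P} (hr : r ≫ p = g) (hcl : Classifies j chart g ψ r)
    {U₁ U₂ : Y.Opens} (hU₁ : IsAffineOpen U₁) (hU₂ : IsAffineOpen U₂) (e₁ : Γ(E, U₁)) (e₂ : Γ(E, U₂))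
    {V : X.Opens} (hV₁ : V ≤ g ⁻¹ᵁ U₁) (hV₂ : V ≤ g ⁻¹ᵁ U₂)
    (hgV : IsGen L V (res L hV₂ (sc g ψ U₂ e₂))) (x : X) (hx : x ∈ V) :
    ∃ (N : X.Opens) (hNV : N ≤ V) (_ : x ∈ N) (a : Γ(X, N)),
      res L (hNV.trans hV₁) (sc g ψ U₁ e₁) = (a • res L (hNV.trans hV₂) (sc g ψ U₂ e₂) : Γ(L, N)) ∧
      res _ ((hNV.trans hV₁).trans (le_preimage hr U₁)) (tsg hS hO r hU₁ e₁) =
        (a • res _ ((hNV.trans hV₂).trans (le_preimage hr U₂)) (tsg hS hO r hU₂ e₂) :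
          Γ((Scheme.Modules.pullback r).obj O1, N)) := by
  have hx₁ : g x ∈ U₁ := hV₁ hx
  have hx₂ : g x ∈ U₂ := hV₂ hx
  obtain ⟨U₃, hU₃, ρ₁, ρ₂, eq₁, eq₂, hx₃, -⟩ :=
    exists_basic_refine hU₁ hU₂ ⊤ (g x) ⟨⟨hx₁, hx₂⟩, trivial⟩
  have h13 : U₃ ≤ U₁ := by rw [eq₁]; exact Y.basicOpen_le ρ₁
  have h23 : U₃ ≤ U₂ := by rw [eq₂]; exact Y.basicOpen_le ρ₂
  have hNV : V ⊓ g ⁻¹ᵁ U₃ ≤ V := inf_le_left
  have hN₃ : V ⊓ g ⁻¹ᵁ U₃ ≤ g ⁻¹ᵁ U₃ := inf_le_right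
  have hgN : IsGen L (V ⊓ g ⁻¹ᵁ U₃) (res L hN₃ (sc g ψ U₃ (res E h23 e₂))) := by
    have h := hgV.res hNV
    rw [res_res] at h
    rw [sc_res, res_res]
    exact h
  obtain ⟨a, hA, hB⟩ := local_comp hS hO ψ hr hcl hU₃ (res E h13 e₁) (res E h23 e₂) hN₃ hgN
  refine ⟨V ⊓ g ⁻¹ᵁ U₃, hNV, ⟨hx, hx₃⟩, a, ?_, ?_⟩
  · rw [sc_res, sc_res, res_res, res_res] at hA
    exact hA
  · rw [tsg_res hS hP hO r hU₁ hU₃ ρ₁ eq₁ h13 e₁, tsg_res hS hP hO r hU₂ hU₃ ρ₂ eq₂ h23 e₂, res_res, res_res] at hB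
    exact hB

include hP in
/-- **the criterion gives a compatible isomorphism** -/
theorem exists_secCompat_of_classifies {r : X ⟶ P} (hr : r ≫ p = g) (hgen : GenBy g ψ)
    (hcl : Classifies j chart g ψ r) :
    ∃ τ : (Scheme.Modules.pullback r).obj O1 ≅ L, SecCompat hS hO ψ r hr τ := by
  classical
  let Wd : Idx g ψ → X.Opens := fun i => i.V
  have hWd : ∀ i : Idx g ψ, Wd i ≤ r ⁻¹ᵁ (p ⁻¹ᵁ i.U) := fun i => i.hVU.trans (le_preimage hr i.U)
  let gM : ∀ i : Idx g ψ, Γ((Scheme.Modules.pullback r).obj O1, Wd i) := fun i =>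
    res _ (hWd i) (tsg hS hO r i.hU i.e₀)
  let b : ∀ i : Idx g ψ, Γ(L, Wd i) := fun i => res L i.hVU (sc g ψ i.U i.e₀)
  have hgen_b : ∀ i, IsGen L (Wd i) (b i) := fun i => i.hgen
  have hgen_g : ∀ i, IsGen ((Scheme.Modules.pullback r).obj O1) (Wd i) (gM i) := by
    intro i
    obtain ⟨hV, -⟩ := hcl i.U i.hU i.e₀ i.V i.hVU i.hgen
    have h := (isGen_pbs (f := r) (isGen_sig hO i.hU _ (hS.2 i.U i.hU i.e₀))).res hV
    rw [pbs_res, res_res] at h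
    exact h
  have hcovW : ∀ x : X, ∃ i : Idx g ψ, x ∈ Wd i := by
    intro x
    obtain ⟨U, hU, e₀, V, hVU, hxV, hgV⟩ := hgen x
    exact ⟨⟨U, hU, e₀, V, hVU, hgV⟩, hxV⟩
  have hcoc : ∀ i k : Idx g ψ, ∃ c : Γ(X, Wd i ⊓ Wd k),
      res ((Scheme.Modules.pullback r).obj O1) inf_le_left (gM i) =
        (c • res ((Scheme.Modules.pullback r).obj O1) inf_le_right (gM k) :
          Γ((Scheme.Modules.pullback r).obj O1, Wd i ⊓ Wd k)) ∧
      res L inf_le_left (b i) = (c • res L inf_le_right (b k) : Γ(L, Wd i ⊓ Wd k)) := by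
    intro i k
    obtain ⟨c, hc⟩ := (hgen_b k (Wd i ⊓ Wd k) inf_le_right).2 (res L inf_le_left (b i))
    have hc' : (c • res L inf_le_right (b k) : Γ(L, Wd i ⊓ Wd k)) = res L inf_le_left (b i) := hc
    refine ⟨c, ?_, hc'.symm⟩
    have hloc : ∀ z : (Wd i ⊓ Wd k : X.Opens), ∃ (N : X.Opens) (hN : N ≤ Wd i ⊓ Wd k), z.1 ∈ N ∧
        res ((Scheme.Modules.pullback r).obj O1) hN
          (res ((Scheme.Modules.pullback r).obj O1) inf_le_left (gM i)) =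
        res ((Scheme.Modules.pullback r).obj O1) hN
          (c • res ((Scheme.Modules.pullback r).obj O1) inf_le_right (gM k) :
            Γ((Scheme.Modules.pullback r).obj O1, Wd i ⊓ Wd k)) := by
      rintro ⟨z, hz₁, hz₂⟩
      have hik₁ : Wd i ⊓ Wd k ≤ g ⁻¹ᵁ i.U := inf_le_left.trans i.hVU
      have hik₂ : Wd i ⊓ Wd k ≤ g ⁻¹ᵁ k.U := inf_le_right.trans k.hVU
      have hgik : IsGen L (Wd i ⊓ Wd k) (res L hik₂ (sc g ψ k.U k.e₀)) := by
        have h := (hgen_b k).res (inf_le_right : Wd i ⊓ Wd k ≤ Wd k)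
        show IsGen L _ (res L _ _)
        have h' : res L (inf_le_right : Wd i ⊓ Wd k ≤ Wd k) (b k) = res L hik₂ (sc g ψ k.U k.e₀) := res_res _ _ _ _
        rwa [h'] at h
      obtain ⟨N, hNV, hzN, a, hA, hB⟩ := local_comp₂ hS hP hO ψ hr hcl i.hU k.hU i.e₀ k.e₀ hik₁ hik₂ hgik z ⟨hz₁, hz₂⟩
      refine ⟨N, hNV, hzN, ?_⟩
      -- normal forms
      have Bk : res L hNV (res L inf_le_right (b k)) = res L (hNV.trans hik₂) (sc g ψ k.U k.e₀) := by
        show res L hNV (res L inf_le_right (res L k.hVU _)) = _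
        rw [res_res, res_res]
      have Bi : res L hNV (res L inf_le_left (b i)) = res L (hNV.trans hik₁) (sc g ψ i.U i.e₀) := by
        show res L hNV (res L inf_le_left (res L i.hVU _)) = _
        rw [res_res, res_res]
      have Gk : res ((Scheme.Modules.pullback r).obj O1) hNV
            (res ((Scheme.Modules.pullback r).obj O1) inf_le_right (gM k)) =
          res ((Scheme.Modules.pullback r).obj O1) ((hNV.trans hik₂).trans (le_preimage hr k.U))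
            (tsg hS hO r k.hU k.e₀) := by
        show res _ hNV (res _ inf_le_right (res _ (hWd k) _)) = _
        rw [res_res, res_res]
      have Gi : res ((Scheme.Modules.pullback r).obj O1) hNV
            (res ((Scheme.Modules.pullback r).obj O1) inf_le_left (gM i)) =
          res ((Scheme.Modules.pullback r).obj O1) ((hNV.trans hik₁).trans (le_preimage hr i.U))
            (tsg hS hO r i.hU i.e₀) := by
        show res _ hNV (res _ inf_le_left (res _ (hWd i) _)) = _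
        rw [res_res, res_res]
      -- compare `a` with `c`
      have E3 := congrArg (res L hNV) hc'
      rw [res_smul, Bk, Bi] at E3
      have hgN : IsGen L N (res L (hNV.trans hik₂) (sc g ψ k.U k.e₀)) := by
        have h := hgik.res hNV
        rwa [res_res] at h
      have hac : a = resO hNV c := by
        have h1 := hgN.coef_eq le_rfl (res L (hNV.trans hik₁) (sc g ψ i.U i.e₀)) a (by rw [res_self]; exact hA.symm)
        have h2 := hgN.coef_eq le_rfl (res L (hNV.trans hik₁) (sc g ψ i.U i.e₀)) (resO hNV c)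
          (by rw [res_self]; exact E3)
        exact h1.symm.trans h2
      rw [res_smul, Gk, Gi, ← hac]
      exact hB
    choose N hN hzN hEq using hloc
    exact eq_of_locally_eq _ N (Wd i ⊓ Wd k) hN (fun z hz => Opens.mem_iSup.2 ⟨⟨z, hz⟩, hzN ⟨z, hz⟩⟩) _ _ hEq
  obtain ⟨τ, hτ⟩ := exists_iso_of_cocycle_gen Wd gM b hgen_g hgen_b hcovW hcoc
  refine ⟨τ, ?_⟩
  intro U hU e
  -- local verification
  have hloc : ∀ z : (r ⁻¹ᵁ (p ⁻¹ᵁ U) : X.Opens), ∃ (N : X.Opens) (hN : N ≤ r ⁻¹ᵁ (p ⁻¹ᵁ U)), z.1 ∈ N ∧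
      res L hN (τ.hom.app (r ⁻¹ᵁ (p ⁻¹ᵁ U)) (tsg hS hO r hU e)) =
        res L hN (res L (preimage_le hr U) (sc g ψ U e)) := by
    rintro ⟨z, hz⟩
    obtain ⟨i, hzi⟩ := hcovW z
    have hzU : z ∈ g ⁻¹ᵁ U := preimage_le hr U hz
    have hV₁ : Wd i ⊓ g ⁻¹ᵁ U ≤ g ⁻¹ᵁ U := inf_le_right
    have hV₂ : Wd i ⊓ g ⁻¹ᵁ U ≤ g ⁻¹ᵁ i.U := inf_le_left.trans i.hVU
    have hgV : IsGen L (Wd i ⊓ g ⁻¹ᵁ U) (res L hV₂ (sc g ψ i.U i.e₀)) := by
      have h := (hgen_b i).res (inf_le_left : Wd i ⊓ g ⁻¹ᵁ U ≤ Wd i)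
      have h' : res L (inf_le_left : Wd i ⊓ g ⁻¹ᵁ U ≤ Wd i) (b i) = res L hV₂ (sc g ψ i.U i.e₀) := res_res _ _ _ _
      rwa [h'] at h
    obtain ⟨N, hNV, hzN, a, hA, hB⟩ := local_comp₂ hS hP hO ψ hr hcl hU i.hU e i.e₀ hV₁ hV₂ hgV z ⟨hzi, hzU⟩
    have hN : N ≤ r ⁻¹ᵁ (p ⁻¹ᵁ U) := (hNV.trans hV₁).trans (le_preimage hr U)
    refine ⟨N, hN, hzN, ?_⟩
    have hNi : N ≤ Wd i := hNV.trans inf_le_left
    have h1 : res L hNi (τ.hom.app (Wd i) (gM i)) = res L hNi (b i) := by rw [hτ i]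
    rw [← app_res] at h1
    have h2 : res ((Scheme.Modules.pullback r).obj O1) hNi (gM i) =
        res _ ((hNV.trans hV₂).trans (le_preimage hr i.U)) (tsg hS hO r i.hU i.e₀) := res_res _ _ _ _
    have h3 : res L hNi (b i) = res L (hNV.trans hV₂) (sc g ψ i.U i.e₀) := res_res _ _ _ _
    rw [h2, h3] at h1
    rw [← app_res, res_res, hB, Scheme.Modules.Hom.app_smul, h1, ← hA]
  choose N hN hzN hEq using hloc
  exact eq_of_locally_eq _ N (r ⁻¹ᵁ (p ⁻¹ᵁ U)) hN (fun z hz => Opens.mem_iSup.2 ⟨⟨z, hz⟩, hzN ⟨z, hz⟩⟩) _ _ hEq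

end main

end Groth.Agent.Lib.Helper28.UPSec
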