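import Groth.Agent.Lib.Helper28.VAProd
import Groth.Agent.Lib.Helper28.EpiGen

/-!
# Morphisms to a projective bundle from an epimorphism `q^* E → L`, and tensor products with very ample modules
-/

set_option autoImplicit false
universe u
open CategoryTheory CategoryTheory.Limits AlgebraicGeometry TopologicalSpace Opposite
open scoped HomogeneousIdeal
noncomputable section

namespace Groth.Agent.Lib.Helper28.VAProd

open Groth.Agent.Lib.Helper28 Groth.Agent.Lib.Helper28.QCohLoc Groth.Agent.Lib.Helper28.TraceAlg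
open Groth.Agent.Lib.Helper28.SymAlg Groth.Agent.Lib.Helper28.ImgAlg
open Groth.Agent.Lib.Helper28.RLPsi Groth.Agent.Lib.Helper28.RLPsiU Groth.Agent.Lib.Helper28.FTApprox
open Groth.Agent.Lib.Helper28.GenLocus Groth.Agent.Lib.Helper28.AmpleCompose
open Groth.Agent.Lib.Helper28.AmpleLocal Groth.Agent.Lib.Helper28.PullbackInv
open Groth.Agent.Lib.Helper28.ProdBundleVA Groth.Agent.Lib.Helper28.SecVAF

section mor

variable {Y X P : Scheme.{u}} (q : X ⟶ Y) {L : X.Modules}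
  {E : Y.Modules} [E.IsQuasicoherent]
  {𝒜 : RelProj.QCGrAlg Y} {jA : E ⟶ 𝒜.toModule} (h𝒜 : RelProj.IsGrSymAlg E 𝒜 jA)
  (p : P ⟶ Y) (chart : ∀ (U : Y.Opens) (hU : IsAffineOpen U), (((p ⁻¹ᵁ U : P.Opens) : Scheme.{u}) ≅ Proj (𝒜.deg U hU)))
  (hP : RelProj.IsRelProj 𝒜 p chart)
  {O1 : P.Modules}
  {lam : ∀ (U : Y.Opens) (hU : IsAffineOpen U),
    O1 ⟶ (Scheme.Modules.pushforward (RelProj.emb p chart U hU)).obj (GrTwist.twist (𝒜.deg U hU) 1)}
  (hO : RelProj.IsRelTwist 𝒜 p chart 1 O1 lam)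

include h𝒜 hP hO in
/-- **an epimorphism `q^* E → L` onto an invertible module defines a `Y`-morphism `r : X → P(E)` with `L ≅ r^* O(1)`** -/
theorem exists_mor_of_epi (hL : PicF.IsInvertible L) (φ : (Scheme.Modules.pullback q).obj E ⟶ L) (hφ : Epi φ) :
    ∃ r : X ⟶ P, r ≫ p = q ∧ Nonempty (L ≅ (Scheme.Modules.pullback r).obj O1) := by
  classical
  have hLq : L.IsQuasicoherent := InvQC.isQuasicoherent_of_isInvertible L hL
  have hQCL := isQC_symPre_of_isQuasicoherent L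
  have hjL := isGrSymAlg L hQCL
  have hPL := RelProjExists.isRelProj (grSymAlg L hQCL)
  let ψ : E ⟶ (Scheme.Modules.pushforward q).obj L :=
    (Scheme.Modules.pullbackPushforwardAdjunction q).homEquiv E L φ
  have hψ : ∀ (U : Y.Opens) (e : Γ(E, U)), sec q ψ U e = φ.app (q ⁻¹ᵁ U) (pbs q E U e) := by
    intro U e
    have h : ψ = (Scheme.Modules.pullbackPushforwardAdjunction q).unit.app E ≫
        (Scheme.Modules.pushforward q).map φ := (Scheme.Modules.pullbackPushforwardAdjunction q).homEquiv_unit E L φ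
    show ψ.app U e = _
    rw [h]
    rfl
  let φ' : E ⟶ (Scheme.Modules.pushforward q).obj (grSymAlg L hQCL).toModule :=
    ψ ≫ (Scheme.Modules.pushforward q).map (grJ L hQCL)
  have hφ1 : ∀ (U : Y.Opens) (m : Γ(E, U)) (U' : X.Opens) (hU' : IsAffineOpen U')
      (hle : U' ≤ q ⁻¹ᵁ U),
      ((grSymAlg L hQCL).presheaf.map (homOfLE hle).op).hom (phiR q (grSymAlg L hQCL).toQCAlg φ' U m) ∈
        (grSymAlg L hQCL).deg U' hU' 1 := by
    intro U m U' hU' hle
    have h1 : ((grSymAlg L hQCL).presheaf.map (homOfLE hle).op).hom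
        (phiR q (grSymAlg L hQCL).toQCAlg φ' U m) =
        asR (grSymAlg L hQCL).toQCAlg ((grJ L hQCL).app U' (res L hle (sec q ψ U m))) := by
      rw [app_res]
      rfl
    rw [h1]
    exact hjL.2 U' hU' _
  let u := symQGr q h𝒜 (grSymAlg L hQCL) φ' hφ1
  have hu : ∀ (U : Y.Opens) (x : Γ(E, U)),
      (u.app U).hom ((jA.app U) x) = asR (grSymAlg L hQCL).toQCAlg ((grJ L hQCL).app (q ⁻¹ᵁ U) (sec q ψ U x)) :=
    fun U x => symQGr_j q h𝒜 (grSymAlg L hQCL) φ' hφ1 U x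
  have hmaps : ∀ (U : Y.Opens) (x : Γ(E, U)),
      MapsTo q (grJ L hQCL) u U (asR 𝒜.toQCAlg (jA.app U x)) (sec q ψ U x) := by
    intro U x W hW
    show rS (grSymAlg L hQCL) hW ((u.app U).hom (jA.app U x)) = _
    rw [hu]
    exact rS_j hW _
  obtain ⟨r, hr, -⟩ := ProjQRel.existsUnique_glueW u p chart hP _ _ hPL
  have hrOn := ProjQRel.isProjQMapOn_of_glue u _ _ _ _ r hr
  have hsurj : SurjCond1 u := by
    intro x
    obtain ⟨V', hxV', e, W, hW, hxW, hgen⟩ := EpiGen.exists_secGenAt_of_epi q E L hL φ hφ x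
    obtain ⟨_, ⟨U, hU, rfl⟩, hqxU, hUV'⟩ := Y.isBasis_affineOpens.exists_subset_of_mem_open
      (show q x ∈ (V' : Set Y) from hxV') V'.isOpen
    have hUV'' : (U : Y.Opens) ≤ V' := hUV'
    obtain ⟨_, ⟨V, hV, rfl⟩, hxV, hVle⟩ := X.isBasis_affineOpens.exists_subset_of_mem_open
      (show x ∈ ((W ⊓ q ⁻¹ᵁ U : X.Opens) : Set X) from ⟨hxW, hqxU⟩) (W ⊓ q ⁻¹ᵁ U).isOpen
    have hVW : (V : X.Opens) ≤ W := fun a ha => (hVle ha).1
    have hVU : (V : X.Opens) ≤ q ⁻¹ᵁ U := fun a ha => (hVle ha).2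
    have hgenV : IsGen L V (res L hVU (sec q ψ U (res E hUV'' e))) := by
      have h1 := hgen.res hVW
      rw [res_res, ← hψ V' e] at h1
      have h3 : sec q ψ U (res E hUV'' e) = res L (q.preimage_mono hUV'') (sec q ψ V' e) :=
        ExtTensorVA.sec_res q ψ hUV'' e
      rw [h3, res_res]
      exact h1
    refine ⟨U, hU, asR 𝒜.toQCAlg (jA.app U (res E hUV'' e)), h𝒜.2 U hU _, V, hV, hVU, hxV, ?_⟩
    intro a' ha'
    obtain ⟨b', rfl⟩ := exists_eq_str_mul_pow hjL hV hgenV 1 a' ha'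
    have h2 : (u.appLE U V hVU).hom (asR 𝒜.toQCAlg (jA.app U (res E hUV'' e))) =
        asR (grSymAlg L hQCL).toQCAlg ((grJ L hQCL).app V (res L hVU (sec q ψ U (res E hUV'' e)))) :=
      hmaps U (res E hUV'' e) V hVU
    rw [h2, pow_one]
    exact Ideal.mul_mem_left _ _ (Ideal.subset_span rfl)
  obtain ⟨i, -, hi, hiso⟩ := exists_mor_of_surjCond1 hjL u p chart hP _ _ hPL r hrOn hO hL hsurj
  exact ⟨i, hi, hiso⟩

end mor

section maps

variable {Y X P P' : Scheme.{u}} (q : X ⟶ Y) {E E' : Y.Modules} [E.IsQuasicoherent] [E'.IsQuasicoherent]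
  {𝒮 : RelProj.QCGrAlg Y} {j : E ⟶ 𝒮.toModule} (hS : RelProj.IsGrSymAlg E 𝒮 j)
  {p : P ⟶ Y}
  {chart : ∀ (U : Y.Opens) (hU : IsAffineOpen U), (((p ⁻¹ᵁ U : P.Opens) : Scheme.{u}) ≅ Proj (𝒮.deg U hU))}
  (hP : RelProj.IsRelProj 𝒮 p chart)
  {O1 : P.Modules}
  {lam : ∀ (U : Y.Opens) (hU : IsAffineOpen U),
    O1 ⟶ (Scheme.Modules.pushforward (RelProj.emb p chart U hU)).obj (GrTwist.twist (𝒮.deg U hU) 1)}
  (hO : RelProj.IsRelTwist 𝒮 p chart 1 O1 lam)
  {𝒮' : RelProj.QCGrAlg Y} {j' : E' ⟶ 𝒮'.toModule} (hS' : RelProj.IsGrSymAlg E' 𝒮' j')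
  {p' : P' ⟶ Y}
  {chart' : ∀ (U : Y.Opens) (hU : IsAffineOpen U), (((p' ⁻¹ᵁ U : P'.Opens) : Scheme.{u}) ≅ Proj (𝒮'.deg U hU))}
  (hP' : RelProj.IsRelProj 𝒮' p' chart')
  {O1' : P'.Modules}
  {lam' : ∀ (U : Y.Opens) (hU : IsAffineOpen U),
    O1' ⟶ (Scheme.Modules.pushforward (RelProj.emb p' chart' U hU)).obj (GrTwist.twist (𝒮'.deg U hU) 1)}
  (hO' : RelProj.IsRelTwist 𝒮' p' chart' 1 O1' lam')

include hS hP hO hS' hP' hO' in
/-- **two `Y`-morphisms `i : X → P(E)`, `i' : X → P(E')` whose product `X → P(E) ×_Y P(E')` is an immersion make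
`i^* O(1) ⊗ i'^* O(1)` very ample** -/
theorem isRelVeryAmple_tensor_of_maps (i : X ⟶ P) (i' : X ⟶ P') (hi : i ≫ p = q) (hi' : i' ≫ p' = q)
    (hk : IsImmersion (pullback.lift i i' (hi.trans hi'.symm)))
    {L L' : X.Modules} (eL : L ≅ (Scheme.Modules.pullback i).obj O1)
    (eL' : L' ≅ (Scheme.Modules.pullback i').obj O1') :
    RelProj.IsRelVeryAmple q (CohB1.tensorMod L L') := by
  classical
  have hO₁ : RelProj.IsRelTwist 𝒮 p chart ((1 : ℕ) : ℤ) O1 lam := hO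
  have hO₂ : RelProj.IsRelTwist 𝒮' p' chart' ((1 : ℕ) : ℤ) O1' lam' := hO'
  have hF : (CohB1.tensorMod E E').IsQuasicoherent := inferInstance
  have hQC := isQC_symPre_of_isQuasicoherent (CohB1.tensorMod E E')
  have h𝒜 := isGrSymAlg (CohB1.tensorMod E E') hQC
  have hQ := RelProjExists.isRelProj (grSymAlg (CohB1.tensorMod E E') hQC)
  have hOQ := RelTwistEx.isRelTwist hQ 1
  obtain ⟨s, hs_imm, hs_comp, ⟨eM⟩⟩ := exists_segre_immersion hS hP hO₁ hS' hP' hO₂ h𝒜 _ _ hQ hOQ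
  set k : X ⟶ pullback p p' := pullback.lift i i' (hi.trans hi'.symm) with hkdef
  have hk1 : k ≫ pullback.fst p p' = i := pullback.lift_fst _ _ _
  have hk2 : k ≫ pullback.snd p p' = i' := pullback.lift_snd _ _ _
  have : IsImmersion s := hs_imm
  have hN₁ : PicF.IsInvertible (N₁ p p' O1) := isInvertible_pullback _ (RLPsiV.isInvertible_O1 hS hO₁)
  have hN₂ : PicF.IsInvertible (N₂ p p' O1') := isInvertible_pullback _ (RLPsiV.isInvertible_O1 hS' hO₂)
  obtain ⟨ψ, -⟩ := exists_pullback_tensorMod_iso k hN₁ hN₂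
  refine ⟨CohB1.tensorMod E E', hF, _, _, h𝒜, _, _, _, hQ, _, _, hOQ, k ≫ s, inferInstance, ?_, ⟨?_⟩⟩
  · rw [Category.assoc, hs_comp, ← Category.assoc, hk1, hi]
  · have e₁ : L ≅ (Scheme.Modules.pullback k).obj (N₁ p p' O1) :=
      eL ≪≫ (Scheme.Modules.pullbackCongr hk1.symm).app O1 ≪≫
        ((Scheme.Modules.pullbackComp k (pullback.fst p p')).app O1).symm
    have e₂ : L' ≅ (Scheme.Modules.pullback k).obj (N₂ p p' O1') :=
      eL' ≪≫ (Scheme.Modules.pullbackCongr hk2.symm).app O1' ≪≫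
        ((Scheme.Modules.pullbackComp k (pullback.snd p p')).app O1').symm
    exact PicGrp.tensorModIso e₁ e₂ ≪≫ ψ.symm ≪≫ (Scheme.Modules.pullback k).mapIso eM ≪≫
      (Scheme.Modules.pullbackComp k s).app _

end maps

/-- **a very ample module tensored with an invertible quotient of `q^* E'` is very ample** -/
theorem isRelVeryAmple_tensor_of_epi {X Y : Scheme.{u}} (q : X ⟶ Y) (L L' : X.Modules)
    (hva : RelProj.IsRelVeryAmple q L) (hL' : PicF.IsInvertible L')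
    (E' : Y.Modules) (hE' : Coh.IsQCoh E') (φ : (Scheme.Modules.pullback q).obj E' ⟶ L') (hφ : Epi φ) :
    RelProj.IsRelVeryAmple q (CohB1.tensorMod L L') := by
  classical
  obtain ⟨E, hE, 𝒮, j, hS, P, p, chart, hP, O1, lam, hO, i, himm, hi, ⟨eL⟩⟩ := hva
  have : E.IsQuasicoherent := hE
  have : E'.IsQuasicoherent := hE'
  have hQC' := isQC_symPre_of_isQuasicoherent E'
  have hS' := isGrSymAlg E' hQC'
  have hP' := RelProjExists.isRelProj (grSymAlg E' hQC')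
  have hO' := RelTwistEx.isRelTwist hP' 1
  obtain ⟨r, hr, ⟨eL'⟩⟩ := exists_mor_of_epi q hS' _ _ hP' hO' hL' φ hφ
  have : IsImmersion i := himm
  have hk : IsImmersion (pullback.lift i r (hi.trans hr.symm)) := by
    have h1 : pullback.lift i r (hi.trans hr.symm) ≫ pullback.fst p _ = i := pullback.lift_fst _ _ _
    have h2 : IsImmersion (pullback.lift i r (hi.trans hr.symm) ≫ pullback.fst p _) := by
      rw [h1]; infer_instance
    exact IsImmersion.of_comp _ (pullback.fst p _)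
  exact isRelVeryAmple_tensor_of_maps q hS hP hO hS' hP' hO' i r hi hr hk eL eL'

end Groth.Agent.Lib.Helper28.VAProd
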