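import Groth.Agent.Lib.Helper28.UPSecE
import Groth.Agent.Lib.Helper28.VAProd2

/-!
# The morphism `Proj(u)` attached to a graded morphism `Sym(E) → g_* Sym(L)` is classified by its degree one part
-/

set_option autoImplicit false
universe u
open CategoryTheory CategoryTheory.Limits AlgebraicGeometry Opposite TopologicalSpace
open HomogeneousLocalization
open scoped HomogeneousIdeal
noncomputable section

namespace Groth.Agent.Lib.Helper28.UPSec

open Groth.Agent.Lib.Helper28 Groth.Agent.Lib.Helper28.QCohLoc Groth.Agent.Lib.Helper28.TraceAlg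
open Groth.Agent.Lib.Helper28.GenLocus Groth.Agent.Lib.Helper28.SymAlg
open Groth.Agent.Lib.Helper28.RLPsi Groth.Agent.Lib.Helper28.RelTwistVal Groth.Agent.Lib.Helper28.RLPsiU
open Groth.Agent.Lib.Helper28.PullbackInv Groth.Agent.Lib.Helper28.RLPsiV

section main

variable {X Y P PL : Scheme.{u}} {p : P ⟶ Y} {L : X.Modules} [L.IsQuasicoherent]
  {E : Y.Modules} [E.IsQuasicoherent]
  {𝒮 : RelProj.QCGrAlg Y} {j : E ⟶ 𝒮.toModule} (hS : RelProj.IsGrSymAlg E 𝒮 j)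
  {chart : ∀ (U : Y.Opens) (hU : IsAffineOpen U), (((p ⁻¹ᵁ U : P.Opens) : Scheme.{u}) ≅ Proj (𝒮.deg U hU))}
  (hP : RelProj.IsRelProj 𝒮 p chart)
  {g : X ⟶ Y} (ψ : E ⟶ (Scheme.Modules.pushforward g).obj L)
  {𝒮L : RelProj.QCGrAlg X} {jL : L ⟶ 𝒮L.toModule} (hjL : RelProj.IsGrSymAlg L 𝒮L jL)
  (u : RelProj.QGrHom g 𝒮 𝒮L)
  {pL : PL ⟶ X}
  {chartL : ∀ (U : X.Opens) (hU : IsAffineOpen U), (((pL ⁻¹ᵁ U : PL.Opens) : Scheme.{u}) ≅ Proj (𝒮L.deg U hU))}
  (hPL : RelProj.IsRelProj 𝒮L pL chartL)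
  (hu : ∀ (U : Y.Opens) (x : Γ(E, U)),
    (u.app U).hom (asR 𝒮.toQCAlg (j.app U x)) = asR 𝒮L.toQCAlg (jL.app (g ⁻¹ᵁ U) (sc g ψ U x)))

include hu in
theorem gradedAt_j {U : Y.Opens} (hU : IsAffineOpen U) {V : X.Opens} (hV : IsAffineOpen V) (hle : V ≤ g ⁻¹ᵁ U)
    (x : Γ(E, U)) :
    u.gradedAt U hU V hV hle (asR 𝒮.toQCAlg (j.app U x)) = asR 𝒮L.toQCAlg (jL.app V (res L hle (sc g ψ U x))) := by
  show rS 𝒮L hle ((u.app U).hom (asR 𝒮.toQCAlg (j.app U x))) = _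
  rw [hu]
  exact rS_j hle _

include hS hP hjL hPL hu in
/-- **`Proj(u)`, read on `X = P(L)`, is classified by the degree one part of `u`** -/
theorem classifies_of_isProjQMap [IsIso pL] (h : PL ⟶ P) (hh : RelProj.IsProjQMap u p chart pL chartL h)
    (i : X ⟶ P) (hi : pL ≫ i = h) : Classifies j chart g ψ i := by
  classical
  intro U hU e₀ V hVU hgV
  have hF₂ := hS.2 U hU e₀
  -- data attached to a small affine open
  have hsmall : ∀ (V' : X.Opens) (hV' : IsAffineOpen V') (hV'V : V' ≤ V),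
      ∃ hV'' : V' ≤ i ⁻¹ᵁ WPU p chart hU (asR 𝒮.toQCAlg (j.app U e₀)),
        ∀ (e' : Γ(E, U)) (c : Γ(P, WPU p chart hU (asR 𝒮.toQCAlg (j.app U e₀)))),
          ReadsO p chart hU c (asR 𝒮.toQCAlg (j.app U e')) (asR 𝒮.toQCAlg (j.app U e₀)) →
          res L (hV'V.trans hVU) (sc g ψ U e') =
            ((i.appLE _ V' hV'').hom c • res L (hV'V.trans hVU) (sc g ψ U e₀) : Γ(L, V')) := by
    intro V' hV' hV'V
    have hle' : V' ≤ g ⁻¹ᵁ U := hV'V.trans hVU
    have hγ : IsGen L V' (res L hle' (sc g ψ U e₀)) := by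
      have h1 := hgV.res hV'V
      rwa [res_res] at h1
    have hh2 := hh.2 U hU V' hV' hle' 1 one_pos (asR 𝒮.toQCAlg (j.app U e₀)) hF₂
    have hgr₀ := gradedAt_j ψ u hu hU hV' hle' e₀
    have hpre : pL ⁻¹ᵁ V' ≤ WPU pL chartL hV' (u.gradedAt U hU V' hV' hle' (asR 𝒮.toQCAlg (j.app U e₀))) := by
      rw [hgr₀]
      exact preimage_le_WPU_line hjL hPL hV' hγ
    have hWP := WPU_le_preimage u h hU hV' hle' one_pos _ hF₂ hh2
    have hV'' : V' ≤ i ⁻¹ᵁ WPU p chart hU (asR 𝒮.toQCAlg (j.app U e₀)) := by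
      intro x hx
      have hx' : pL ((inv pL) x) = x := by
        rw [← Scheme.Hom.comp_apply, IsIso.inv_hom_id]
        rfl
      have hz : (inv pL) x ∈ pL ⁻¹ᵁ V' := by
        show pL ((inv pL) x) ∈ V'
        rw [hx']
        exact hx
      have h3 : h ((inv pL) x) ∈ WPU p chart hU (asR 𝒮.toQCAlg (j.app U e₀)) := hWP (hpre hz)
      rw [← hi, Scheme.Hom.comp_apply, hx'] at h3
      exact h3
    refine ⟨hV'', fun e' c hread => ?_⟩
    -- the coefficient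
    have hcoef := hγ.coef_smul le_rfl (res L hle' (sc g ψ U e'))
    rw [res_self] at hcoef
    set a := hγ.coef le_rfl (res L hle' (sc g ψ U e')) with ha
    have hgr₁ : u.gradedAt U hU V' hV' hle' (asR 𝒮.toQCAlg (j.app U e')) =
        (𝒮L.str.app (op V')).hom a * u.gradedAt U hU V' hV' hle' (asR 𝒮.toQCAlg (j.app U e₀)) := by
      rw [gradedAt_j ψ u hu hU hV' hle' e', hgr₀, ← hcoef, Scheme.Modules.Hom.app_smul]
      rfl
    have hW''le : WPU pL chartL hV' (u.gradedAt U hU V' hV' hle' (asR 𝒮.toQCAlg (j.app U e₀))) ≤ pL ⁻¹ᵁ V' :=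
      WPU_le hV' _
    have hc' : ReadsO pL chartL hV'
        ((pL.appLE V' (WPU pL chartL hV' (u.gradedAt U hU V' hV' hle' (asR 𝒮.toQCAlg (j.app U e₀)))) hW''le).hom a)
        (u.gradedAt U hU V' hV' hle' (asR 𝒮.toQCAlg (j.app U e')))
        (u.gradedAt U hU V' hV' hle' (asR 𝒮.toQCAlg (j.app U e₀))) := by
      have h1 := (ReadsO.base hPL hW''le a).mul
        (ReadsO.self hV' (p := pL) (chart := chartL)
          (W₁ := WPU pL chartL hV' (u.gradedAt U hU V' hV' hle' (asR 𝒮.toQCAlg (j.app U e₀))))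
          (u.gradedAt U hU V' hV' hle' (asR 𝒮.toQCAlg (j.app U e₀))))
      rw [mul_one, one_mul, ← hgr₁] at h1
      exact h1
    have hG : asR 𝒮.toQCAlg (j.app U e') ∈ 𝒮.deg U hU (1 • 1) := by
      rw [one_smul]
      exact hS.2 U hU e'
    have key := app_eq_of_readsO u h hU hV' hle' one_pos _ hF₂ hh2 _ hG c hread _ hc'
    -- restrict to `pL⁻¹ V'`
    have key2 := congrArg (resO hpre) key
    have L1 : resO hpre ((h.appLE (WPU p chart hU (asR 𝒮.toQCAlg (j.app U e₀)))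
        (WPU pL chartL hV' (u.gradedAt U hU V' hV' hle' (asR 𝒮.toQCAlg (j.app U e₀)))) hWP).hom c) =
        (pL.appLE V' (pL ⁻¹ᵁ V') le_rfl).hom ((i.appLE _ V' hV'').hom c) := by
      have e1 := Scheme.Hom.appLE_map h hWP (homOfLE hpre).op
      have e3 : h.appLE (WPU p chart hU (asR 𝒮.toQCAlg (j.app U e₀))) (pL ⁻¹ᵁ V') (hpre.trans hWP) =
          i.appLE _ V' hV'' ≫ pL.appLE V' (pL ⁻¹ᵁ V') le_rfl := by
        rw [Scheme.Hom.appLE_comp_appLE]
        exact ProjSect.appLE_congr' hi.symm _ _ _ _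
      have e2 := congrArg (fun χ => χ.hom c) (e1.trans e3)
      simp only [CommRingCat.hom_comp, RingHom.comp_apply] at e2
      exact e2
    have L2 : resO hpre ((pL.appLE V' (WPU pL chartL hV' (u.gradedAt U hU V' hV' hle'
        (asR 𝒮.toQCAlg (j.app U e₀)))) hW''le).hom a) =
        (pL.appLE V' (pL ⁻¹ᵁ V') le_rfl).hom a := by
      have e1 := Scheme.Hom.appLE_map pL hW''le (homOfLE hpre).op
      exact congrArg (fun χ => χ.hom a) e1
    rw [L1, L2] at key2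
    have hinj : Function.Injective (pL.appLE V' (pL ⁻¹ᵁ V') le_rfl).hom := by
      rw [Scheme.Hom.appLE_eq_app]
      exact (ConcreteCategory.bijective_of_isIso (pL.app V')).1
    rw [hinj key2]
    exact hcoef.symm
  -- (K1)
  have hV : V ≤ i ⁻¹ᵁ WPU p chart hU (asR 𝒮.toQCAlg (j.app U e₀)) := by
    intro x hx
    obtain ⟨_, ⟨V', hV', rfl⟩, hxV', hV'V⟩ := X.isBasis_affineOpens.exists_subset_of_mem_open
      (show x ∈ (V : Set X) from hx) V.isOpen
    obtain ⟨hV'', -⟩ := hsmall V' hV' hV'V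
    exact hV'' hxV'
  refine ⟨hV, fun e' c hread => ?_⟩
  -- (K2), locally
  have hloc : ∀ z : (V : X.Opens), ∃ (N : X.Opens) (hN : N ≤ V), z.1 ∈ N ∧
      res L hN (res L hVU (sc g ψ U e')) =
        res L hN ((i.appLE _ V hV).hom c • res L hVU (sc g ψ U e₀) : Γ(L, V)) := by
    rintro ⟨z, hz⟩
    obtain ⟨_, ⟨V', hV', rfl⟩, hzV', hV'V⟩ := X.isBasis_affineOpens.exists_subset_of_mem_open
      (show z ∈ (V : Set X) from hz) V.isOpen
    have hV'V' : V' ≤ V := hV'V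
    obtain ⟨hV'', h2⟩ := hsmall V' hV' hV'V'
    refine ⟨V', hV'V', hzV', ?_⟩
    rw [res_smul, res_res, res_res, h2 e' c hread]
    congr 1
    have e1 := Scheme.Hom.appLE_map i hV (homOfLE hV'V').op
    exact (congrArg (fun χ => χ.hom c) e1).symm
  choose N hN hzN hEq using hloc
  exact eq_of_locally_eq _ N V hN (fun z hz => Opens.mem_iSup.2 ⟨⟨z, hz⟩, hzN ⟨z, hz⟩⟩) _ _ hEq

end main

end Groth.Agent.Lib.Helper28.UPSec
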