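import Groth.Agent.Lib.Helper28.UPSecF

/-!
# The universal property of the projective bundle `P(E)`, in terms of sections
-/

set_option autoImplicit false
universe u
open CategoryTheory CategoryTheory.Limits AlgebraicGeometry TopologicalSpace Opposite
open scoped HomogeneousIdeal
noncomputable section

namespace Groth.Agent.Lib.Helper28.VAProd

open Groth.Agent.Lib.Helper28 Groth.Agent.Lib.Helper28.QCohLoc Groth.Agent.Lib.Helper28.TraceAlg
open Groth.Agent.Lib.Helper28.SymAlg Groth.Agent.Lib.Helper28.ImgAlg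
open Groth.Agent.Lib.Helper28.RLPsi Groth.Agent.Lib.Helper28.RLPsiU Groth.Agent.Lib.Helper28.FTApprox
open Groth.Agent.Lib.Helper28.GenLocus Groth.Agent.Lib.Helper28.AmpleCompose
open Groth.Agent.Lib.Helper28.AmpleLocal Groth.Agent.Lib.Helper28.PullbackInv
open Groth.Agent.Lib.Helper28.ProdBundleVA Groth.Agent.Lib.Helper28.SecVAF
open Groth.Agent.Lib.Helper28.UPSec

section mor

variable {Y X P : Scheme.{u}} (q : X ⟶ Y) {L : X.Modules}
  {E : Y.Modules} [E.IsQuasicoherent]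
  {𝒜 : RelProj.QCGrAlg Y} {jA : E ⟶ 𝒜.toModule} (h𝒜 : RelProj.IsGrSymAlg E 𝒜 jA)
  (p : P ⟶ Y) (chart : ∀ (U : Y.Opens) (hU : IsAffineOpen U), (((p ⁻¹ᵁ U : P.Opens) : Scheme.{u}) ≅ Proj (𝒜.deg U hU)))
  (hP : RelProj.IsRelProj 𝒜 p chart)
  {O1 : P.Modules}
  {lam : ∀ (U : Y.Opens) (hU : IsAffineOpen U),
    O1 ⟶ (Scheme.Modules.pushforward (RelProj.emb p chart U hU)).obj (GrTwist.twist (𝒜.deg U hU) 1)}
  (hO : RelProj.IsRelTwist 𝒜 p chart 1 O1 lam)

/-- the adjoint `E ⟶ q_* L` of `φ : q^* E ⟶ L` -/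
def adj (φ : (Scheme.Modules.pullback q).obj E ⟶ L) : E ⟶ (Scheme.Modules.pushforward q).obj L :=
  (Scheme.Modules.pullbackPushforwardAdjunction q).homEquiv E L φ

omit [E.IsQuasicoherent] in
theorem sc_adj (φ : (Scheme.Modules.pullback q).obj E ⟶ L) (U : Y.Opens) (e : Γ(E, U)) :
    sc q (adj q φ) U e = φ.app (q ⁻¹ᵁ U) (pbs q E U e) := by
  have h : adj q φ = (Scheme.Modules.pullbackPushforwardAdjunction q).unit.app E ≫
      (Scheme.Modules.pushforward q).map φ := (Scheme.Modules.pullbackPushforwardAdjunction q).homEquiv_unit E L φ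
  show (adj q φ).app U e = _
  rw [h]
  rfl

/-- an epimorphism `q^* E ⟶ L` onto an invertible module: its adjoint generates `L` -/
theorem genBy_of_epi (hL : PicF.IsInvertible L) (φ : (Scheme.Modules.pullback q).obj E ⟶ L) (hφ : Epi φ) :
    GenBy q (adj q φ) := by
  intro x
  obtain ⟨V', hxV', e, W, hW, hxW, hgen⟩ := EpiGen.exists_secGenAt_of_epi q E L hL φ hφ x
  obtain ⟨_, ⟨U, hU, rfl⟩, hqxU, hUV'⟩ := Y.isBasis_affineOpens.exists_subset_of_mem_open
    (show q x ∈ (V' : Set Y) from hxV') V'.isOpen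
  have hUV'' : (U : Y.Opens) ≤ V' := hUV'
  have hVU : W ⊓ q ⁻¹ᵁ U ≤ q ⁻¹ᵁ U := inf_le_right
  refine ⟨U, hU, res E hUV'' e, W ⊓ q ⁻¹ᵁ U, hVU, ⟨hxW, hqxU⟩, ?_⟩
  have h1 := hgen.res (inf_le_left : W ⊓ q ⁻¹ᵁ U ≤ W)
  rw [res_res, ← sc_adj q φ V' e] at h1
  rw [sc_res, res_res]
  exact h1

include h𝒜 hP hO in
/-- **existence**: an epimorphism `q^* E → L` onto an invertible module defines a `Y`-morphism `r : X → P(E)`
classified by its adjoint -/
theorem exists_classifies_of_epi (hL : PicF.IsInvertible L) (φ : (Scheme.Modules.pullback q).obj E ⟶ L) (hφ : Epi φ) :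
    ∃ r : X ⟶ P, r ≫ p = q ∧ Classifies jA chart q (adj q φ) r := by
  classical
  have hLq : L.IsQuasicoherent := InvQC.isQuasicoherent_of_isInvertible L hL
  have hQCL := isQC_symPre_of_isQuasicoherent L
  have hjL := isGrSymAlg L hQCL
  have hPL := RelProjExists.isRelProj (grSymAlg L hQCL)
  let ψ : E ⟶ (Scheme.Modules.pushforward q).obj L :=
    (Scheme.Modules.pullbackPushforwardAdjunction q).homEquiv E L φ
  have hψ : ∀ (U : Y.Opens) (e : Γ(E, U)), sec q ψ U e = φ.app (q ⁻¹ᵁ U) (pbs q E U e) := by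
    intro U e
    have h : ψ = (Scheme.Modules.pullbackPushforwardAdjunction q).unit.app E ≫
        (Scheme.Modules.pushforward q).map φ := (Scheme.Modules.pullbackPushforwardAdjunction q).homEquiv_unit E L φ
    show ψ.app U e = _
    rw [h]
    rfl
  let φ' : E ⟶ (Scheme.Modules.pushforward q).obj (grSymAlg L hQCL).toModule :=
    ψ ≫ (Scheme.Modules.pushforward q).map (grJ L hQCL)
  have hφ1 : ∀ (U : Y.Opens) (m : Γ(E, U)) (U' : X.Opens) (hU' : IsAffineOpen U')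
      (hle : U' ≤ q ⁻¹ᵁ U),
      ((grSymAlg L hQCL).presheaf.map (homOfLE hle).op).hom (phiR q (grSymAlg L hQCL).toQCAlg φ' U m) ∈
        (grSymAlg L hQCL).deg U' hU' 1 := by
    intro U m U' hU' hle
    have h1 : ((grSymAlg L hQCL).presheaf.map (homOfLE hle).op).hom
        (phiR q (grSymAlg L hQCL).toQCAlg φ' U m) =
        asR (grSymAlg L hQCL).toQCAlg ((grJ L hQCL).app U' (res L hle (sec q ψ U m))) := by
      rw [app_res]
      rfl
    rw [h1]
    exact hjL.2 U' hU' _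
  let u := symQGr q h𝒜 (grSymAlg L hQCL) φ' hφ1
  have hu : ∀ (U : Y.Opens) (x : Γ(E, U)),
      (u.app U).hom ((jA.app U) x) = asR (grSymAlg L hQCL).toQCAlg ((grJ L hQCL).app (q ⁻¹ᵁ U) (sec q ψ U x)) :=
    fun U x => symQGr_j q h𝒜 (grSymAlg L hQCL) φ' hφ1 U x
  have hmaps : ∀ (U : Y.Opens) (x : Γ(E, U)),
      MapsTo q (grJ L hQCL) u U (asR 𝒜.toQCAlg (jA.app U x)) (sec q ψ U x) := by
    intro U x W hW
    show rS (grSymAlg L hQCL) hW ((u.app U).hom (jA.app U x)) = _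
    rw [hu]
    exact rS_j hW _
  obtain ⟨r, hr, -⟩ := ProjQRel.existsUnique_glueW u p chart hP _ _ hPL
  have hrOn := ProjQRel.isProjQMapOn_of_glue u _ _ _ _ r hr
  have hsurj : SurjCond1 u := by
    intro x
    obtain ⟨V', hxV', e, W, hW, hxW, hgen⟩ := EpiGen.exists_secGenAt_of_epi q E L hL φ hφ x
    obtain ⟨_, ⟨U, hU, rfl⟩, hqxU, hUV'⟩ := Y.isBasis_affineOpens.exists_subset_of_mem_open
      (show q x ∈ (V' : Set Y) from hxV') V'.isOpen
    have hUV'' : (U : Y.Opens) ≤ V' := hUV'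
    obtain ⟨_, ⟨V, hV, rfl⟩, hxV, hVle⟩ := X.isBasis_affineOpens.exists_subset_of_mem_open
      (show x ∈ ((W ⊓ q ⁻¹ᵁ U : X.Opens) : Set X) from ⟨hxW, hqxU⟩) (W ⊓ q ⁻¹ᵁ U).isOpen
    have hVW : (V : X.Opens) ≤ W := fun a ha => (hVle ha).1
    have hVU : (V : X.Opens) ≤ q ⁻¹ᵁ U := fun a ha => (hVle ha).2
    have hgenV : IsGen L V (res L hVU (sec q ψ U (res E hUV'' e))) := by
      have h1 := hgen.res hVW
      rw [res_res, ← hψ V' e] at h1
      have h3 : sec q ψ U (res E hUV'' e) = res L (q.preimage_mono hUV'') (sec q ψ V' e) :=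
        ExtTensorVA.sec_res q ψ hUV'' e
      rw [h3, res_res]
      exact h1
    refine ⟨U, hU, asR 𝒜.toQCAlg (jA.app U (res E hUV'' e)), h𝒜.2 U hU _, V, hV, hVU, hxV, ?_⟩
    intro a' ha'
    obtain ⟨b', rfl⟩ := exists_eq_str_mul_pow hjL hV hgenV 1 a' ha'
    have h2 : (u.appLE U V hVU).hom (asR 𝒜.toQCAlg (jA.app U (res E hUV'' e))) =
        asR (grSymAlg L hQCL).toQCAlg ((grJ L hQCL).app V (res L hVU (sec q ψ U (res E hUV'' e)))) :=
      hmaps U (res E hUV'' e) V hVU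
    rw [h2, pow_one]
    exact Ideal.mul_mem_left _ _ (Ideal.subset_span rfl)
  obtain ⟨i, ⟨h1, h2, hi⟩, hip, -⟩ := exists_mor_of_surjCond1 hjL u p chart hP _ _ hPL r hrOn hO hL hsurj
  refine ⟨i, hip, ?_⟩
  have htop : RelProj.domQ u (RelProjExists.p (grSymAlg L hQCL)) (RelProjExists.chart (grSymAlg L hQCL)) = ⊤ := by
    rw [eq_top_iff]
    intro z _
    have hz : (RelProj.domQ u (RelProjExists.p (grSymAlg L hQCL)) (RelProjExists.chart (grSymAlg L hQCL))).ι ((@inv _ _ _ _ (RelProj.domQ u (RelProjExists.p (grSymAlg L hQCL)) (RelProjExists.chart (grSymAlg L hQCL))).ι h2) z) = z := by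
      rw [← Scheme.Hom.comp_apply, IsIso.inv_hom_id]
      rfl
    have h3 : z ∈ Set.range (RelProj.domQ u (RelProjExists.p (grSymAlg L hQCL)) (RelProjExists.chart (grSymAlg L hQCL))).ι := ⟨_, hz⟩
    rwa [Scheme.Opens.range_ι] at h3
  have hh := @VAIntro.isProjQMap_of_isProjQMapOn _ _ _ _ _ _ _ u p chart _ _ r hrOn htop h2
  have hi' : RelProjExists.p (grSymAlg L hQCL) ≫ i = @inv _ _ _ _ (RelProj.domQ u (RelProjExists.p (grSymAlg L hQCL)) (RelProjExists.chart (grSymAlg L hQCL))).ι h2 ≫ r := by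
    rw [hi, IsIso.hom_inv_id_assoc]
  exact @classifies_of_isProjQMap _ _ _ _ _ _ hLq _ _ _ _ h𝒜 _ hP _ ψ _ _ hjL u _ _ hPL
    (fun U x => hu U x) h1 _ hh i hi'

end mor

end Groth.Agent.Lib.Helper28.VAProd
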