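import Groth.Agent.Lib.Helper28.UPSecG

/-!
# The universal property of the projective bundle `P(E)`: from sections to the adjoint morphism
-/

set_option autoImplicit false
universe u
open CategoryTheory CategoryTheory.Limits AlgebraicGeometry TopologicalSpace Opposite
open scoped HomogeneousIdeal
noncomputable section

namespace Groth.Agent.Lib.Helper28.UPSec

open Groth.Agent.Lib.Helper28 Groth.Agent.Lib.Helper28.QCohLoc Groth.Agent.Lib.Helper28.TraceAlg
open Groth.Agent.Lib.Helper28.GenLocus Groth.Agent.Lib.Helper28.SymAlg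
open Groth.Agent.Lib.Helper28.RLPsi Groth.Agent.Lib.Helper28.RelTwistVal Groth.Agent.Lib.Helper28.RLPsiU
open Groth.Agent.Lib.Helper28.PullbackInv Groth.Agent.Lib.Helper28.RLPsiV
open Groth.Agent.Lib.Helper28.VAProd (adj sc_adj genBy_of_epi exists_classifies_of_epi)

section transl

variable {X Y P : Scheme.{u}} {p : P ⟶ Y} {L : X.Modules}
  {E : Y.Modules} [E.IsQuasicoherent]
  {𝒮 : RelProj.QCGrAlg Y} {j : E ⟶ 𝒮.toModule} (hS : RelProj.IsGrSymAlg E 𝒮 j)
  {chart : ∀ (U : Y.Opens) (hU : IsAffineOpen U), (((p ⁻¹ᵁ U : P.Opens) : Scheme.{u}) ≅ Proj (𝒮.deg U hU))}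
  (hP : RelProj.IsRelProj 𝒮 p chart)
  {O1 : P.Modules}
  {lam : ∀ (U : Y.Opens) (hU : IsAffineOpen U),
    O1 ⟶ (Scheme.Modules.pushforward (RelProj.emb p chart U hU)).obj (GrTwist.twist (𝒮.deg U hU) ((1 : ℕ) : ℤ))}
  (hO : RelProj.IsRelTwist 𝒮 p chart ((1 : ℕ) : ℤ) O1 lam)
  (φ : E ⟶ (Scheme.Modules.pushforward p).obj O1)
  (hφ : ∀ (U : Y.Opens) (hU : IsAffineOpen U) (e : Γ(E, U))
      (y : ↥(RelProj.emb p chart U hU ⁻¹ᵁ (p ⁻¹ᵁ U))),
      GrTwist.val (V := RelProj.emb p chart U hU ⁻¹ᵁ (p ⁻¹ᵁ U))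
          ((lam U hU).app (p ⁻¹ᵁ U) ((φ.app U) e)) y =
        algebraMap (𝒮.presheaf.obj (op U)) (GrTwist.Loc (𝒮.deg U hU) y.1)
          ((j.app U) e : 𝒮.presheaf.obj (op U)))
  {g : X ⟶ Y} (s : (Scheme.Modules.pullback g).obj E ⟶ L)

include hφ in
/-- the composite `g^*E ≅ r^*p^*E ⟶ r^*O(1) ≅ L` on the inverse image of a section of `E` -/
theorem comp_app_pbs {r : X ⟶ P} (hr : r ≫ p = g) (τ : (Scheme.Modules.pullback r).obj O1 ≅ L)
    {U : Y.Opens} (hU : IsAffineOpen U) (e : Γ(E, U)) :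
    ((Scheme.Modules.pullbackCongr hr).inv.app E ≫ (Scheme.Modules.pullbackComp r p).inv.app E ≫
        (Scheme.Modules.pullback r).map
          (((Scheme.Modules.pullbackPushforwardAdjunction p).homEquiv E O1).symm φ) ≫ τ.hom).app (g ⁻¹ᵁ U)
        (pbs g E U e) =
      res L (le_preimage hr U) (τ.hom.app (r ⁻¹ᵁ (p ⁻¹ᵁ U)) (tsg hS hO r hU e)) := by
  have hA : ((Scheme.Modules.pullbackCongr hr).inv.app E).app (g ⁻¹ᵁ U) (pbs g E U e) =
      res _ (le_preimage hr U) (pbs (r ≫ p) E U e) := by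
    have h := pbs_congr_inv hr E U e (g ⁻¹ᵁ U) (le_preimage hr U) le_rfl
    rwa [res_self] at h
  have hB : ((Scheme.Modules.pullbackComp r p).inv.app E).app (g ⁻¹ᵁ U)
        (res _ (le_preimage hr U) (pbs (r ≫ p) E U e)) =
      res _ (le_preimage hr U) (pbs r ((Scheme.Modules.pullback p).obj E) (p ⁻¹ᵁ U) (pbs p E U e)) := by
    rw [← pbs_comp r p E U e]
    exact app_res _ _ _
  have hC : ((Scheme.Modules.pullback r).map
        (((Scheme.Modules.pullbackPushforwardAdjunction p).homEquiv E O1).symm φ)).app (g ⁻¹ᵁ U)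
        (res _ (le_preimage hr U) (pbs r ((Scheme.Modules.pullback p).obj E) (p ⁻¹ᵁ U) (pbs p E U e))) =
      res _ (le_preimage hr U) (tsg hS hO r hU e) := by
    rw [app_res, pbs_map]
    have hD : (((Scheme.Modules.pullbackPushforwardAdjunction p).homEquiv E O1).symm φ).app (p ⁻¹ᵁ U)
        (pbs p E U e) = φ.app U e := pbLift_pbs p φ U e
    rw [hD, canon_app_eq_sig hS hO φ hφ hU e]
    rfl
  show τ.hom.app (g ⁻¹ᵁ U) (((Scheme.Modules.pullback r).map
        (((Scheme.Modules.pullbackPushforwardAdjunction p).homEquiv E O1).symm φ)).app (g ⁻¹ᵁ U)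
      (((Scheme.Modules.pullbackComp r p).inv.app E).app (g ⁻¹ᵁ U)
        (((Scheme.Modules.pullbackCongr hr).inv.app E).app (g ⁻¹ᵁ U) (pbs g E U e)))) = _
  rw [hA, hB, hC, app_res]

include hφ in
/-- **the compatibility of the universal property, in terms of sections** -/
theorem compat_iff_secCompat {r : X ⟶ P} (hr : r ≫ p = g) (τ : (Scheme.Modules.pullback r).obj O1 ≅ L) :
    ((Scheme.Modules.pullbackCongr hr).inv.app E ≫ (Scheme.Modules.pullbackComp r p).inv.app E ≫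
        (Scheme.Modules.pullback r).map
          (((Scheme.Modules.pullbackPushforwardAdjunction p).homEquiv E O1).symm φ) ≫ τ.hom = s) ↔
      SecCompat hS hO (adj g s) r hr τ := by
  constructor
  · intro H U hU e
    have h1 := comp_app_pbs hS hO φ hφ hr τ hU e
    rw [H, ← sc_adj g s U e] at h1
    rw [h1, res_res, res_self]
  · intro H
    apply ((Scheme.Modules.pullbackPushforwardAdjunction g).homEquiv E L).injective
    apply SymAlg.hom_ext_affine
    intro U hU e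
    rw [Adjunction.homEquiv_unit, Adjunction.homEquiv_unit]
    show ((Scheme.Modules.pullbackCongr hr).inv.app E ≫ (Scheme.Modules.pullbackComp r p).inv.app E ≫
        (Scheme.Modules.pullback r).map
          (((Scheme.Modules.pullbackPushforwardAdjunction p).homEquiv E O1).symm φ) ≫ τ.hom).app (g ⁻¹ᵁ U)
        (pbs g E U e) = s.app (g ⁻¹ᵁ U) (pbs g E U e)
    rw [comp_app_pbs hS hO φ hφ hr τ hU e, H U hU e, res_res, res_self, sc_adj]

end transl

section main

variable {X Y P : Scheme.{u}} {p : P ⟶ Y} {L : X.Modules}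
  {E : Y.Modules} [E.IsQuasicoherent]
  {𝒮 : RelProj.QCGrAlg Y} {j : E ⟶ 𝒮.toModule} (hS : RelProj.IsGrSymAlg E 𝒮 j)
  {chart : ∀ (U : Y.Opens) (hU : IsAffineOpen U), (((p ⁻¹ᵁ U : P.Opens) : Scheme.{u}) ≅ Proj (𝒮.deg U hU))}
  (hP : RelProj.IsRelProj 𝒮 p chart)
  {O1 : P.Modules}
  {lam : ∀ (U : Y.Opens) (hU : IsAffineOpen U),
    O1 ⟶ (Scheme.Modules.pushforward (RelProj.emb p chart U hU)).obj (GrTwist.twist (𝒮.deg U hU) ((1 : ℕ) : ℤ))}
  (hO : RelProj.IsRelTwist 𝒮 p chart ((1 : ℕ) : ℤ) O1 lam)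
  (g : X ⟶ Y) (s : (Scheme.Modules.pullback g).obj E ⟶ L)

include hP in
/-- **the universal property of `P(E)`, in terms of sections** -/
theorem existsUnique_secCompat (hL : PicF.IsInvertible L) (hs : Epi s) :
    ∃! r : X ⟶ P, ∃ (hr : r ≫ p = g) (τ : (Scheme.Modules.pullback r).obj O1 ≅ L),
      SecCompat hS hO (adj g s) r hr τ := by
  have hgen := genBy_of_epi g hL s hs
  have hO' : RelProj.IsRelTwist 𝒮 p chart 1 O1 lam := hO
  obtain ⟨r, hr, hcl⟩ := exists_classifies_of_epi g hS p chart hP hO' hL s hs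
  obtain ⟨τ, hτ⟩ := exists_secCompat_of_classifies hS hP hO (adj g s) hr hgen hcl
  refine ⟨r, ⟨hr, τ, hτ⟩, ?_⟩
  rintro r' ⟨hr', τ', hτ'⟩
  have hcl' := classifies_of_secCompat hS hP hO (adj g s) hr' τ' hτ'
  exact eq_of_classifies hS hP hO hgen hr' hr hcl' hcl

end main

end Groth.Agent.Lib.Helper28.UPSec
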