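import Groth.Agent.Lib.Helper28.UPSecH
import Groth.Agent.Lib.Helper28.IotaE

/-!
# The canonical homomorphism `E ⟶ p_* O_P(1)` on a projective bundle, and morphisms classified by generating families
-/

set_option autoImplicit false
universe u
open CategoryTheory CategoryTheory.Limits AlgebraicGeometry TopologicalSpace Opposite
open scoped HomogeneousIdeal
noncomputable section

namespace Groth.Agent.Lib.Helper28.UPSec

open Groth.Agent.Lib.Helper28 Groth.Agent.Lib.Helper28.QCohLoc Groth.Agent.Lib.Helper28.TraceAlg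
open Groth.Agent.Lib.Helper28.GenLocus Groth.Agent.Lib.Helper28.SymAlg
open Groth.Agent.Lib.Helper28.RLPsi Groth.Agent.Lib.Helper28.RelTwistVal Groth.Agent.Lib.Helper28.RLPsiU
open Groth.Agent.Lib.Helper28.PullbackInv Groth.Agent.Lib.Helper28.RLPsiV
open Groth.Agent.Lib.Helper28.VAProd (adj sc_adj genBy_of_epi exists_classifies_of_epi)

section canon

variable {Y P : Scheme.{u}} {p : P ⟶ Y}
  {E : Y.Modules} [E.IsQuasicoherent]
  {𝒮 : RelProj.QCGrAlg Y} {j : E ⟶ 𝒮.toModule} (hS : RelProj.IsGrSymAlg E 𝒮 j)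
  {chart : ∀ (U : Y.Opens) (hU : IsAffineOpen U), (((p ⁻¹ᵁ U : P.Opens) : Scheme.{u}) ≅ Proj (𝒮.deg U hU))}
  (hP : RelProj.IsRelProj 𝒮 p chart)
  {O1 : P.Modules}
  {lam : ∀ (U : Y.Opens) (hU : IsAffineOpen U),
    O1 ⟶ (Scheme.Modules.pushforward (RelProj.emb p chart U hU)).obj (GrTwist.twist (𝒮.deg U hU) ((1 : ℕ) : ℤ))}
  (hO : RelProj.IsRelTwist 𝒮 p chart ((1 : ℕ) : ℤ) O1 lam)
  {U : Y.Opens} (hU : IsAffineOpen U)

include hS in
/-- the map `E(U) → (p_* O(1))(U)`, `e ↦ σ_{j(e)}`, over an affine open `U` -/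
def psiC : Γ(E, U) →+ Γ((Scheme.Modules.pushforward p).obj O1, U) :=
  AddMonoidHom.mk' (fun e' => sig hO hU (asR 𝒮.toQCAlg (j.app U e')) (hS.2 U hU e'))
    (fun e₁ e₂ => by
      have h1 : asR 𝒮.toQCAlg (j.app U (e₁ + e₂)) =
          asR 𝒮.toQCAlg (j.app U e₁) + asR 𝒮.toQCAlg (j.app U e₂) := by
        rw [map_add]
        rfl
      rw [sig_congr hO hU h1 _ (add_mem (hS.2 U hU e₁) (hS.2 U hU e₂)),
        sig_add hO hU _ _ (hS.2 U hU e₁) (hS.2 U hU e₂)]
      rfl)

theorem psiC_apply (e' : Γ(E, U)) :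
    psiC hS hO hU e' = sig hO hU (asR 𝒮.toQCAlg (j.app U e')) (hS.2 U hU e') := rfl

include hP in
theorem psiC_smul (r : Γ(Y, U)) (e' : Γ(E, U)) :
    psiC hS hO hU (r • e') =
      (r • psiC hS hO hU e' : Γ((Scheme.Modules.pushforward p).obj O1, U)) := by
  have h1 : asR 𝒮.toQCAlg (j.app U (r • e')) = (𝒮.str.app (op U)).hom r * asR 𝒮.toQCAlg (j.app U e') := by
    rw [Scheme.Modules.Hom.app_smul]
    rfl
  have hra : (𝒮.str.app (op U)).hom r * asR 𝒮.toQCAlg (j.app U e') ∈ 𝒮.deg U hU 1 := by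
    rw [← h1]
    exact hS.2 U hU (r • e')
  rw [psiC_apply, psiC_apply, sig_congr hO hU h1 _ hra, sig_smul hP hO hU r _ (hS.2 U hU e') hra]
  rfl

include hP in
/-- compatibility with the restriction to a basic open -/
theorem psiC_basic (r : Γ(Y, U)) (e' : Γ(E, U)) :
    psiC hS hO (hU.basicOpen r) (res E (Y.basicOpen_le r) e') =
      res ((Scheme.Modules.pushforward p).obj O1) (Y.basicOpen_le r) (psiC hS hO hU e') := by
  have h1 : asR 𝒮.toQCAlg (j.app (Y.basicOpen r) (res E (Y.basicOpen_le r) e')) =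
      𝒮.res hU (hU.basicOpen r) (Y.basicOpen_le r) (asR 𝒮.toQCAlg (j.app U e')) := by
    rw [app_res]
    rfl
  have hmem : 𝒮.res hU (hU.basicOpen r) (Y.basicOpen_le r) (asR 𝒮.toQCAlg (j.app U e')) ∈
      𝒮.deg (Y.basicOpen r) (hU.basicOpen r) 1 := by
    rw [← h1]
    exact hS.2 _ (hU.basicOpen r) _
  rw [psiC_apply, psiC_apply, sig_congr hO (hU.basicOpen r) h1 _ hmem,
    sig_basic hP hO hU (hU.basicOpen r) r rfl (Y.basicOpen_le r) _ (hS.2 U hU e') hmem]
  rfl

include hS hP in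
/-- the chartwise data of the canonical homomorphism `E → p_* O(1)` -/
def canonData : RelProjQC.ChartHomData (𝟙 Y) E ((Scheme.Modules.pushforward p).obj O1) where
  φ U hU W hW := ext (isLocOn_of_isQuasicoherent E hU) (psiC hS hO hU) (psiC_smul hS hP hO hU) hU
    (show W ≤ U from hW)
  add U hU W hW x y := ext_add _ _ _ _ _ x y
  smul U hU W hW a x := ext_smul _ _ _ _ _ a x
  nat U hU W hW W' h x := ext_res _ _ _ _ _ h x
  basic U hU r W hW x := by
    symm
    refine ext_eq_of_family (isLocOn_of_isQuasicoherent E hU) (psiC hS hO hU) (psiC_smul hS hP hO hU)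
      hU (Y.basicOpen_le r)
      (fun W hW => ext (isLocOn_of_isQuasicoherent E (hU.basicOpen r)) (psiC hS hO (hU.basicOpen r))
        (psiC_smul hS hP hO (hU.basicOpen r)) (hU.basicOpen r) hW) ?_ ?_ ?_ W hW x
    · intro W hW a x
      exact ext_smul _ _ _ _ hW a x
    · intro W hW W' h x
      exact ext_res _ _ _ _ hW h x
    · intro m
      rw [ext_top]
      exact psiC_basic hS hP hO hU r m

/-- **the canonical homomorphism `E → p_* O_P(1)`** -/
def canon : E ⟶ (Scheme.Modules.pushforward p).obj O1 := (canonData hS hP hO).hom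

theorem canon_app (e' : Γ(E, U)) :
    (canon hS hP hO).app U e' = sig hO hU (asR 𝒮.toQCAlg (j.app U e')) (hS.2 U hU e') := by
  have h1 := (canonData hS hP hO).hom_app U hU U (le_refl _) e'
  refine h1.trans ?_
  exact ext_top (isLocOn_of_isQuasicoherent E hU) (psiC hS hO hU) (psiC_smul hS hP hO hU) hU e'

theorem sc_canon (e' : Γ(E, U)) :
    sc p (canon hS hP hO) U e' = sig hO hU (asR 𝒮.toQCAlg (j.app U e')) (hS.2 U hU e') :=
  canon_app hS hP hO hU e'

end canon

end Groth.Agent.Lib.Helper28.UPSec
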