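import Groth.Agent.Lib.Helper28.UPSecI

/-!
# Morphisms between projective bundles: equality by local agreement, and mutually inverse morphisms
-/

set_option autoImplicit false
universe u
open CategoryTheory CategoryTheory.Limits AlgebraicGeometry TopologicalSpace Opposite
open scoped HomogeneousIdeal
noncomputable section

namespace Groth.Agent.Lib.Helper28.UPSec

open Groth.Agent.Lib.Helper28 Groth.Agent.Lib.Helper28.QCohLoc Groth.Agent.Lib.Helper28.TraceAlg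
open Groth.Agent.Lib.Helper28.GenLocus Groth.Agent.Lib.Helper28.SymAlg
open Groth.Agent.Lib.Helper28.RLPsi Groth.Agent.Lib.Helper28.RelTwistVal Groth.Agent.Lib.Helper28.RLPsiU
open Groth.Agent.Lib.Helper28.PullbackInv Groth.Agent.Lib.Helper28.RLPsiV
open Groth.Agent.Lib.Helper28.TensorGen Groth.Agent.Lib.Helper28.InvTensor
open Groth.Agent.Lib.Helper28.VAProd (adj sc_adj genBy_of_epi exists_classifies_of_epi)

theorem id_appLE_apply {X : Scheme.{u}} (U : X.Opens) (h : U ≤ (𝟙 X) ⁻¹ᵁ U) (c : Γ(X, U)) :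
    ((𝟙 X : X ⟶ X).appLE U U h).hom c = c := by
  show (X.presheaf.map (homOfLE h).op).hom c = c
  have h1 : (homOfLE h).op = 𝟙 (op U) := Subsingleton.elim _ _
  rw [h1]
  exact congrArg (fun χ : Γ(X, U) ⟶ Γ(X, U) => χ.hom c) (X.presheaf.map_id (op U))

section agree

variable {X Y P : Scheme.{u}} {p : P ⟶ Y}
  {E : Y.Modules} [E.IsQuasicoherent]
  {𝒮 : RelProj.QCGrAlg Y} {j : E ⟶ 𝒮.toModule} (hS : RelProj.IsGrSymAlg E 𝒮 j)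
  {chart : ∀ (U : Y.Opens) (hU : IsAffineOpen U), (((p ⁻¹ᵁ U : P.Opens) : Scheme.{u}) ≅ Proj (𝒮.deg U hU))}
  (hP : RelProj.IsRelProj 𝒮 p chart)
  {O1 : P.Modules}
  {lam : ∀ (U : Y.Opens) (hU : IsAffineOpen U),
    O1 ⟶ (Scheme.Modules.pushforward (RelProj.emb p chart U hU)).obj (GrTwist.twist (𝒮.deg U hU) ((1 : ℕ) : ℤ))}
  (hO : RelProj.IsRelTwist 𝒮 p chart ((1 : ℕ) : ℤ) O1 lam)

include hS hP hO in
/-- **two morphisms to `P(E)` over the base agreeing locally on the ratios of sections of `E` are equal** -/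
theorem eq_of_local_agree {r r' : X ⟶ P} (hrr : r ≫ p = r' ≫ p)
    (h : ∀ x : X, ∃ (U : Y.Opens) (hU : IsAffineOpen U) (e₀ : Γ(E, U)) (V : X.Opens) (_ : x ∈ V)
      (hV : V ≤ r ⁻¹ᵁ WPU p chart hU (asR 𝒮.toQCAlg (j.app U e₀)))
      (hV' : V ≤ r' ⁻¹ᵁ WPU p chart hU (asR 𝒮.toQCAlg (j.app U e₀))),
      ∀ (e' : Γ(E, U)) (c : Γ(P, WPU p chart hU (asR 𝒮.toQCAlg (j.app U e₀)))),
        ReadsO p chart hU c (asR 𝒮.toQCAlg (j.app U e')) (asR 𝒮.toQCAlg (j.app U e₀)) →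
        (r.appLE _ V hV).hom c = (r'.appLE _ V hV').hom c) : r = r' := by
  classical
  apply RelProjGlue.hom_ext_of_local
  intro x
  obtain ⟨U, hU, e₀, V, hxV, hV, hV', hcoef⟩ := h x
  refine ⟨V, V.ι, inferInstance, ⟨⟨x, hxV⟩, rfl⟩, ?_⟩
  have hm := hS.2 U hU e₀
  have hW : IsAffineOpen (WPU p chart hU (asR 𝒮.toQCAlg (j.app U e₀))) :=
    (Proj.isAffineOpen_basicOpen (𝒮.deg U hU) (asR 𝒮.toQCAlg (j.app U e₀)) hm one_pos).image_of_isOpenImmersion (RelProj.emb p chart U hU)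
  refine ProjUPUniq.ι_comp_eq_of_appLE_eq r r' hW V hV hV' ?_
  have hbase : ∀ a : Γ(Y, U),
      (r.appLE _ V hV).hom ((p.appLE U _ (WPU_le hU (asR 𝒮.toQCAlg (j.app U e₀)))).hom a) =
        (r'.appLE _ V hV').hom ((p.appLE U _ (WPU_le hU (asR 𝒮.toQCAlg (j.app U e₀)))).hom a) := by
    intro a
    rw [← CommRingCat.comp_apply, ← CommRingCat.comp_apply, Scheme.Hom.appLE_comp_appLE,
      Scheme.Hom.appLE_comp_appLE]
    exact congrArg (fun χ => χ.hom a) (ProjSect.appLE_congr' hrr U V _ _)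
  have hlist : ∀ l : List Γ(E, U), ∃ c : Γ(P, WPU p chart hU (asR 𝒮.toQCAlg (j.app U e₀))),
      ReadsO p chart hU c ((l.map fun m => asR 𝒮.toQCAlg (j.app U m)).prod)
        (asR 𝒮.toQCAlg (j.app U e₀) ^ l.length) ∧
      (r.appLE _ V hV).hom c = (r'.appLE _ V hV').hom c := by
    intro l
    induction l with
    | nil =>
      refine ⟨1, ?_, ?_⟩
      · rw [List.map_nil, List.prod_nil, List.length_nil, pow_zero]
        exact ReadsO.one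
      · rw [map_one, map_one]
    | cons e' l ih =>
      obtain ⟨cl, hrl, hFl⟩ := ih
      obtain ⟨ce, hre, -⟩ := exists_coef hO hU (asR 𝒮.toQCAlg (j.app U e₀)) hm
        (asR 𝒮.toQCAlg (j.app U e')) (hS.2 U hU e')
      refine ⟨ce * cl, ?_, ?_⟩
      · rw [List.map_cons, List.prod_cons, List.length_cons, pow_succ']
        exact hre.mul hrl
      · rw [map_mul, map_mul, hFl, hcoef e' ce hre]
  have key : ∀ (k : ℕ) (a : 𝒮.presheaf.obj (op U)), a ∈ 𝒮.deg U hU k →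
      ∃ c : Γ(P, WPU p chart hU (asR 𝒮.toQCAlg (j.app U e₀))),
        ReadsO p chart hU c a (asR 𝒮.toQCAlg (j.app U e₀) ^ k) ∧
        (r.appLE _ V hV).hom c = (r'.appLE _ V hV').hom c := by
    intro k a ha
    have ha' := deg_le_monoGrp hS U hU k ha
    refine AddSubgroup.closure_induction
      (p := fun a _ => ∃ c : Γ(P, WPU p chart hU (asR 𝒮.toQCAlg (j.app U e₀))),
        ReadsO p chart hU c a (asR 𝒮.toQCAlg (j.app U e₀) ^ k) ∧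
        (r.appLE _ V hV).hom c = (r'.appLE _ V hV').hom c)
      (fun x hx => ?_) ?_ (fun x x' _ _ hx hx' => ?_) (fun x _ hx => ?_) ha'
    · obtain ⟨a₀, l, hl, rfl⟩ := hx
      obtain ⟨cl, hrl, hFl⟩ := hlist l
      rw [hl] at hrl
      refine ⟨(p.appLE U _ (WPU_le hU _)).hom a₀ * cl, ?_, ?_⟩
      · have h2 := (ReadsO.base hP (WPU_le hU (asR 𝒮.toQCAlg (j.app U e₀))) a₀).mul hrl
        rw [one_mul] at h2
        exact h2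
      · rw [map_mul, map_mul, hFl, hbase a₀]
    · refine ⟨0, ReadsO.zero _, ?_⟩
      rw [map_zero, map_zero]
    · obtain ⟨c, hr₁, hF⟩ := hx
      obtain ⟨c', hr₂, hF'⟩ := hx'
      refine ⟨c + c', hr₁.add hr₂, ?_⟩
      rw [map_add, map_add, hF, hF']
    · obtain ⟨c, hr₁, hF⟩ := hx
      refine ⟨-c, hr₁.neg, ?_⟩
      rw [map_neg, map_neg, hF]
  ext c
  obtain ⟨n, hn, G, hG, hread⟩ := exists_readsO_of_fn hU one_pos _ hm c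
  rw [mul_one] at hG
  obtain ⟨c', hr₁, heq⟩ := key n G hG
  have hcc : c = c' := ReadsO.unique (WPU_le_pow hU _ n) hread hr₁
  rw [hcc]
  exact heq

end agree

section follows

variable {Y P₁ P₂ : Scheme.{u}} {p₁ : P₁ ⟶ Y} {p₂ : P₂ ⟶ Y}
  {E₁ E₂ : Y.Modules}
  {𝒮₁ 𝒮₂ : RelProj.QCGrAlg Y} (j₁ : E₁ ⟶ 𝒮₁.toModule) (j₂ : E₂ ⟶ 𝒮₂.toModule)
  (chart₁ : ∀ (U : Y.Opens) (hU : IsAffineOpen U), (((p₁ ⁻¹ᵁ U : P₁.Opens) : Scheme.{u}) ≅ Proj (𝒮₁.deg U hU)))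
  (chart₂ : ∀ (U : Y.Opens) (hU : IsAffineOpen U), (((p₂ ⁻¹ᵁ U : P₂.Opens) : Scheme.{u}) ≅ Proj (𝒮₂.deg U hU)))

/-- `r : P(E₁) ⟶ P(E₂)` maps `D₊(e₀)` into `D₊(f₀)` and pulls the ratio `f'/f₀` back to `e'/e₀` whenever `e'` and `f'` are
related -/
def Follows (r : P₁ ⟶ P₂) {U : Y.Opens} (hU : IsAffineOpen U) (rel : Γ(E₁, U) → Γ(E₂, U) → Prop)
    (e₀ : Γ(E₁, U)) (f₀ : Γ(E₂, U)) : Prop :=
  ∃ hV : WPU p₁ chart₁ hU (asR 𝒮₁.toQCAlg (j₁.app U e₀)) ≤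
      r ⁻¹ᵁ WPU p₂ chart₂ hU (asR 𝒮₂.toQCAlg (j₂.app U f₀)),
    ∀ (e' : Γ(E₁, U)) (f' : Γ(E₂, U)), rel e' f' →
      ∀ c' : Γ(P₂, WPU p₂ chart₂ hU (asR 𝒮₂.toQCAlg (j₂.app U f₀))),
        ReadsO p₂ chart₂ hU c' (asR 𝒮₂.toQCAlg (j₂.app U f')) (asR 𝒮₂.toQCAlg (j₂.app U f₀)) →
        ReadsO p₁ chart₁ hU ((r.appLE _ _ hV).hom c') (asR 𝒮₁.toQCAlg (j₁.app U e'))
          (asR 𝒮₁.toQCAlg (j₁.app U e₀))

end follows

section roundtrip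

variable {Y P₁ P₂ : Scheme.{u}} {p₁ : P₁ ⟶ Y} {p₂ : P₂ ⟶ Y}
  {E₁ E₂ : Y.Modules} [E₁.IsQuasicoherent]
  {𝒮₁ 𝒮₂ : RelProj.QCGrAlg Y} {j₁ : E₁ ⟶ 𝒮₁.toModule} {j₂ : E₂ ⟶ 𝒮₂.toModule}
  (hS₁ : RelProj.IsGrSymAlg E₁ 𝒮₁ j₁)
  {chart₁ : ∀ (U : Y.Opens) (hU : IsAffineOpen U), (((p₁ ⁻¹ᵁ U : P₁.Opens) : Scheme.{u}) ≅ Proj (𝒮₁.deg U hU))}
  {chart₂ : ∀ (U : Y.Opens) (hU : IsAffineOpen U), (((p₂ ⁻¹ᵁ U : P₂.Opens) : Scheme.{u}) ≅ Proj (𝒮₂.deg U hU))}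
  (hP₁ : RelProj.IsRelProj 𝒮₁ p₁ chart₁)
  {A₁ : P₁.Modules}
  {lam₁ : ∀ (U : Y.Opens) (hU : IsAffineOpen U),
    A₁ ⟶ (Scheme.Modules.pushforward (RelProj.emb p₁ chart₁ U hU)).obj (GrTwist.twist (𝒮₁.deg U hU) ((1 : ℕ) : ℤ))}
  (hO₁ : RelProj.IsRelTwist 𝒮₁ p₁ chart₁ ((1 : ℕ) : ℤ) A₁ lam₁)

include hS₁ hP₁ hO₁ in
/-- **two morphisms between projective bundles following mutually converse relations compose to the identity** -/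
theorem comp_eq_id_of_follows {r : P₁ ⟶ P₂} {r' : P₂ ⟶ P₁} (hr : r ≫ p₂ = p₁) (hr' : r' ≫ p₁ = p₂)
    (h : ∀ x : P₁, ∃ (U : Y.Opens) (hU : IsAffineOpen U) (rel : Γ(E₁, U) → Γ(E₂, U) → Prop)
      (e₀ : Γ(E₁, U)) (f₀ : Γ(E₂, U)),
      x ∈ WPU p₁ chart₁ hU (asR 𝒮₁.toQCAlg (j₁.app U e₀)) ∧ (∀ e', ∃ f', rel e' f') ∧
      Follows j₁ j₂ chart₁ chart₂ r hU rel e₀ f₀ ∧
      Follows j₂ j₁ chart₂ chart₁ r' hU (fun f e => rel e f) f₀ e₀) : r ≫ r' = 𝟙 P₁ := by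
  have hrr : (r ≫ r') ≫ p₁ = 𝟙 P₁ ≫ p₁ := by rw [Category.assoc, hr', hr, Category.id_comp]
  refine eq_of_local_agree hS₁ hP₁ hO₁ hrr fun x => ?_
  obtain ⟨U, hU, rel, e₀, f₀, hx, htot, ⟨hV₁, h1⟩, ⟨hV₂, h2⟩⟩ := h x
  have hV : WPU p₁ chart₁ hU (asR 𝒮₁.toQCAlg (j₁.app U e₀)) ≤
      (r ≫ r') ⁻¹ᵁ WPU p₁ chart₁ hU (asR 𝒮₁.toQCAlg (j₁.app U e₀)) :=
    hV₁.trans (r.preimage_mono hV₂)
  refine ⟨U, hU, e₀, _, hx, hV, le_rfl, fun e' c hread => ?_⟩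
  obtain ⟨f', hf'⟩ := htot e'
  have hc₂ := h2 f' e' hf' c hread
  have hc₁ := h1 e' f' hf' _ hc₂
  have hcc := ReadsO.unique le_rfl hc₁ hread
  rw [id_appLE_apply]
  refine Eq.trans ?_ hcc
  rw [← CommRingCat.comp_apply, Scheme.Hom.appLE_comp_appLE]

end roundtrip

end Groth.Agent.Lib.Helper28.UPSec
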