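import Groth.Agent.Lib.Helper28.UPSecJ

/-!
# Morphisms to a projective bundle from generating families of sections; morphisms classified by twisted sections
-/

set_option autoImplicit false
universe u
open CategoryTheory CategoryTheory.Limits AlgebraicGeometry TopologicalSpace Opposite
open scoped HomogeneousIdeal
noncomputable section

namespace Groth.Agent.Lib.Helper28.UPSec

open Groth.Agent.Lib.Helper28 Groth.Agent.Lib.Helper28.QCohLoc Groth.Agent.Lib.Helper28.TraceAlg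
open Groth.Agent.Lib.Helper28.GenLocus Groth.Agent.Lib.Helper28.SymAlg
open Groth.Agent.Lib.Helper28.RLPsi Groth.Agent.Lib.Helper28.RelTwistVal Groth.Agent.Lib.Helper28.RLPsiU
open Groth.Agent.Lib.Helper28.PullbackInv Groth.Agent.Lib.Helper28.RLPsiV
open Groth.Agent.Lib.Helper28.TensorGen Groth.Agent.Lib.Helper28.InvTensor
open Groth.Agent.Lib.Helper28.VAProd (adj sc_adj genBy_of_epi exists_classifies_of_epi)

section genby

variable {Y X P : Scheme.{u}} (q : X ⟶ Y) {L : X.Modules}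
  {E : Y.Modules} [E.IsQuasicoherent]
  {𝒜 : RelProj.QCGrAlg Y} {jA : E ⟶ 𝒜.toModule} (h𝒜 : RelProj.IsGrSymAlg E 𝒜 jA)
  (p : P ⟶ Y) (chart : ∀ (U : Y.Opens) (hU : IsAffineOpen U), (((p ⁻¹ᵁ U : P.Opens) : Scheme.{u}) ≅ Proj (𝒜.deg U hU)))
  (hP : RelProj.IsRelProj 𝒜 p chart)
  {O1 : P.Modules}
  {lam : ∀ (U : Y.Opens) (hU : IsAffineOpen U),
    O1 ⟶ (Scheme.Modules.pushforward (RelProj.emb p chart U hU)).obj (GrTwist.twist (𝒜.deg U hU) ((1 : ℕ) : ℤ))}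
  (hO : RelProj.IsRelTwist 𝒜 p chart ((1 : ℕ) : ℤ) O1 lam)
  (ψ : E ⟶ (Scheme.Modules.pushforward q).obj L)

omit [E.IsQuasicoherent] in
theorem adj_symm : adj q (((Scheme.Modules.pullbackPushforwardAdjunction q).homEquiv E L).symm ψ) = ψ :=
  ((Scheme.Modules.pullbackPushforwardAdjunction q).homEquiv E L).apply_symm_apply ψ

omit [E.IsQuasicoherent] in
/-- a generating family of sections: the adjoint `q^*E ⟶ L` is an epimorphism -/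
theorem epi_of_genBy (hgen : GenBy q ψ) :
    Epi (((Scheme.Modules.pullbackPushforwardAdjunction q).homEquiv E L).symm ψ) := by
  apply QCohLoc.epi_of_locally_in_range
  intro U₀ y pt hpt
  obtain ⟨U, hU, e₀, V, hVU, hptV, hgV⟩ := hgen pt
  have hg := hgV.res (inf_le_right : U₀ ⊓ V ≤ V)
  rw [res_res] at hg
  refine ⟨U₀ ⊓ V, inf_le_left, ⟨hpt, hptV⟩, ?_⟩
  have hle : U₀ ⊓ V ≤ q ⁻¹ᵁ U := inf_le_right.trans hVU
  refine ⟨(hg.coef le_rfl (res L inf_le_left y) •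
    res ((Scheme.Modules.pullback q).obj E) hle (pbs q E U e₀) :
    Γ((Scheme.Modules.pullback q).obj E, _)), ?_⟩
  have h1 : (((Scheme.Modules.pullbackPushforwardAdjunction q).homEquiv E L).symm ψ).app (U₀ ⊓ V)
      (res ((Scheme.Modules.pullback q).obj E) hle (pbs q E U e₀)) =
      res L hle (sc q ψ U e₀) := by
    rw [app_res, ← sc_adj, adj_symm]
  rw [Scheme.Modules.Hom.app_smul, h1]
  have h := hg.coef_smul le_rfl (res L inf_le_left y)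
  rw [res_self] at h
  exact h

include h𝒜 hP hO in
/-- **existence**: a generating family of sections `ψ : E ⟶ q_* L` of an invertible module defines a `Y`-morphism
`r : X → P(E)` classified by it -/
theorem exists_classifies_of_genBy (hL : PicF.IsInvertible L) (hgen : GenBy q ψ) :
    ∃ r : X ⟶ P, r ≫ p = q ∧ Classifies jA chart q ψ r := by
  have hO' : RelProj.IsRelTwist 𝒜 p chart 1 O1 lam := hO
  obtain ⟨r, hr, hcl⟩ := exists_classifies_of_epi q h𝒜 p chart hP hO' hL _ (epi_of_genBy q ψ hgen)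
  rw [adj_symm] at hcl
  exact ⟨r, hr, hcl⟩

include h𝒜 hP hO in
/-- existence, with the isomorphism `r^* O(1) ≅ L` -/
theorem exists_secCompat_of_genBy (hL : PicF.IsInvertible L) (hgen : GenBy q ψ) :
    ∃ (r : X ⟶ P) (hr : r ≫ p = q) (τ : (Scheme.Modules.pullback r).obj O1 ≅ L),
      Classifies jA chart q ψ r ∧ SecCompat h𝒜 hO ψ r hr τ := by
  obtain ⟨r, hr, hcl⟩ := exists_classifies_of_genBy q h𝒜 p chart hP hO ψ hL hgen
  obtain ⟨τ, hτ⟩ := exists_secCompat_of_classifies h𝒜 hP hO ψ hr hgen hcl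
  exact ⟨r, hr, τ, hcl, hτ⟩

end genby

section followsF

variable {Y P₁ P₂ : Scheme.{u}} {p₁ : P₁ ⟶ Y} {p₂ : P₂ ⟶ Y}
  {E₁ E₂ : Y.Modules}
  {𝒮₁ 𝒮₂ : RelProj.QCGrAlg Y} {j₁ : E₁ ⟶ 𝒮₁.toModule} {j₂ : E₂ ⟶ 𝒮₂.toModule}
  (hS₁ : RelProj.IsGrSymAlg E₁ 𝒮₁ j₁)
  {chart₁ : ∀ (U : Y.Opens) (hU : IsAffineOpen U), (((p₁ ⁻¹ᵁ U : P₁.Opens) : Scheme.{u}) ≅ Proj (𝒮₁.deg U hU))}
  {chart₂ : ∀ (U : Y.Opens) (hU : IsAffineOpen U), (((p₂ ⁻¹ᵁ U : P₂.Opens) : Scheme.{u}) ≅ Proj (𝒮₂.deg U hU))}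
  {A₁ : P₁.Modules}
  {lam₁ : ∀ (U : Y.Opens) (hU : IsAffineOpen U),
    A₁ ⟶ (Scheme.Modules.pushforward (RelProj.emb p₁ chart₁ U hU)).obj (GrTwist.twist (𝒮₁.deg U hU) ((1 : ℕ) : ℤ))}
  (hO₁ : RelProj.IsRelTwist 𝒮₁ p₁ chart₁ ((1 : ℕ) : ℤ) A₁ lam₁)
  {N : P₁.Modules} (ψ : E₂ ⟶ (Scheme.Modules.pushforward p₁).obj (CohB1.tensorMod A₁ N))

include hS₁ hO₁ in
/-- a morphism `r : P(E₁) ⟶ P(E₂)` classified by sections of the form `σ_{e'} ⊗ γ` of `O(1) ⊗ N` follows the relation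
between `e'` and `f'` -/
theorem follows_of_classifies {r : P₁ ⟶ P₂} (hcl : Classifies j₂ chart₂ p₁ ψ r)
    {U : Y.Opens} (hU : IsAffineOpen U) (γ : Γ(N, p₁ ⁻¹ᵁ U)) (hγ : IsGen N (p₁ ⁻¹ᵁ U) γ)
    (rel : Γ(E₁, U) → Γ(E₂, U) → Prop)
    (hrel : ∀ e' f', rel e' f' → sc p₁ ψ U f' =
      tmulSec A₁ N (sig hO₁ hU (asR 𝒮₁.toQCAlg (j₁.app U e')) (hS₁.2 U hU e')) γ)
    (e₀ : Γ(E₁, U)) (f₀ : Γ(E₂, U)) (h₀ : rel e₀ f₀) : Follows j₁ j₂ chart₁ chart₂ r hU rel e₀ f₀ := by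
  have hDU := WPU_le (p := p₁) (chart := chart₁) hU (asR 𝒮₁.toQCAlg (j₁.app U e₀))
  have hT : IsGen (CohB1.tensorMod A₁ N) (WPU p₁ chart₁ hU (asR 𝒮₁.toQCAlg (j₁.app U e₀)))
      (tmulSec A₁ N (res A₁ hDU (sig hO₁ hU (asR 𝒮₁.toQCAlg (j₁.app U e₀)) (hS₁.2 U hU e₀))) (res N hDU γ)) :=
    isGen_tmulSec _ _ (isGen_sig hO₁ hU _ (hS₁.2 U hU e₀)) (hγ.res hDU)
  have hgD : IsGen (CohB1.tensorMod A₁ N) (WPU p₁ chart₁ hU (asR 𝒮₁.toQCAlg (j₁.app U e₀)))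
      (res (CohB1.tensorMod A₁ N) hDU (sc p₁ ψ U f₀)) := by
    rw [hrel e₀ f₀ h₀, tmulSec_res]
    exact hT
  obtain ⟨hV, h1⟩ := hcl U hU f₀ _ hDU hgD
  refine ⟨hV, fun e' f' hef c' hread' => ?_⟩
  have e1 := h1 f' c' hread'
  rw [hrel e' f' hef, hrel e₀ f₀ h₀, tmulSec_res, tmulSec_res] at e1
  obtain ⟨c₀, hread₀, hc₀⟩ := exists_coef hO₁ hU (asR 𝒮₁.toQCAlg (j₁.app U e₀)) (hS₁.2 U hU e₀)
    (asR 𝒮₁.toQCAlg (j₁.app U e')) (hS₁.2 U hU e')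
  have e2 : tmulSec A₁ N (res A₁ hDU (sig hO₁ hU (asR 𝒮₁.toQCAlg (j₁.app U e')) (hS₁.2 U hU e'))) (res N hDU γ) =
      (c₀ • tmulSec A₁ N (res A₁ hDU (sig hO₁ hU (asR 𝒮₁.toQCAlg (j₁.app U e₀)) (hS₁.2 U hU e₀))) (res N hDU γ) :
        Γ(CohB1.tensorMod A₁ N, _)) := by
    rw [hc₀, tmulSec_smul_left]
  have k1 := hT.coef_eq le_rfl
    (tmulSec A₁ N (res A₁ hDU (sig hO₁ hU (asR 𝒮₁.toQCAlg (j₁.app U e')) (hS₁.2 U hU e'))) (res N hDU γ)) c₀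
    (by rw [res_self]; exact e2.symm)
  have k2 := hT.coef_eq le_rfl
    (tmulSec A₁ N (res A₁ hDU (sig hO₁ hU (asR 𝒮₁.toQCAlg (j₁.app U e')) (hS₁.2 U hU e'))) (res N hDU γ))
    ((r.appLE _ _ hV).hom c') (by rw [res_self]; exact e1.symm)
  have hcc : c₀ = (r.appLE _ _ hV).hom c' := k1.symm.trans k2
  rw [← hcc]
  exact hread₀

end followsF

end Groth.Agent.Lib.Helper28.UPSec
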