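import Groth.Agent.Lib.Helper28.UPSecK
import Groth.Agent.Lib.Helper28.TensorCancel

/-!
# The homomorphism `E ⟶ (E ⊗ K) ⊗ K^∨` for an invertible module `K`
-/

set_option autoImplicit false
universe u
open CategoryTheory CategoryTheory.Limits AlgebraicGeometry TopologicalSpace Opposite
noncomputable section

namespace Groth.Agent.Lib.Helper28.UPSec

open Groth.Agent.Lib.Helper28 Groth.Agent.Lib.Helper28.QCohLoc
open Groth.Agent.Lib.Helper28.GenLocus Groth.Agent.Lib.Helper28.HomMod
open Groth.Agent.Lib.Helper28.TensorGen Groth.Agent.Lib.Helper28.InvTensor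

section theta

variable {X : Scheme.{u}} (E : X.Modules) {K : X.Modules}

/-- the dual generator of a restricted generator -/
theorem gdual_res {U V : X.Opens} {g : Γ(K, U)} (hg : IsGen K U g) (h : V ≤ U) :
    res (dual K) h (gdual hg) = gdual (hg.res h) := by
  apply ext_evO
  intro W hW x
  rw [res_evO, evO_gdual, evO_gdual]
  symm
  apply (hg.res h).coef_eq
  rw [res_res]
  exact hg.coef_smul (hW.trans h) x

/-- change of generator for the dual generators -/
theorem gdual_change {V : X.Opens} {g g' : Γ(K, V)} (hg : IsGen K V g) (hg' : IsGen K V g') :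
    gdual hg = (hg.coef le_rfl g' • gdual hg' : Γ(dual K, V)) := by
  have hu : (hg.coef le_rfl g' • g : Γ(K, V)) = g' := by
    have := hg.coef_smul le_rfl g'
    rwa [res_self] at this
  apply ext_evO
  intro W hW x
  rw [smul_evO, evO_gdual, evO_gdual]
  apply hg.coef_eq
  have h1 : (resO hW (hg.coef le_rfl g') • res K hW g : Γ(K, W)) = res K hW g' := by
    rw [← res_smul, hu]
  rw [mul_comm, mul_smul, h1]
  exact hg'.coef_smul hW x

/-- `(e ⊗ g) ⊗ g^∨` does not depend on the generator `g` -/
theorem theta_indep {V : X.Opens} {g g' : Γ(K, V)} (hg : IsGen K V g) (hg' : IsGen K V g') (e : Γ(E, V)) :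
    tmulSec (CohB1.tensorMod E K) (dual K) (tmulSec E K e g) (gdual hg) =
      tmulSec (CohB1.tensorMod E K) (dual K) (tmulSec E K e g') (gdual hg') := by
  have hu : (hg.coef le_rfl g' • g : Γ(K, V)) = g' := by
    have := hg.coef_smul le_rfl g'
    rwa [res_self] at this
  rw [gdual_change hg hg', tmulSec_smul_right, ← tmulSec_smul_left, ← tmulSec_smul_right, hu]

variable (hK : PicF.IsInvertible K)

/-- the local data of `E ⟶ (E ⊗ K) ⊗ K^∨` -/
def thetaData : LocalHomData E (CohB1.tensorMod (CohB1.tensorMod E K) (dual K)) where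
  B V := ∃ g : Γ(K, V), IsGen K V g
  down V V' h := fun ⟨g, hg⟩ => ⟨res K h g, hg.res h⟩
  cov x := by
    obtain ⟨U, g, hxU, hg⟩ := exists_isGen K hK x
    exact ⟨U, ⟨g, hg⟩, hxU⟩
  φ V hV e := tmulSec (CohB1.tensorMod E K) (dual K) (tmulSec E K e hV.choose) (gdual hV.choose_spec)
  add V hV x y := by rw [tmulSec_add_left, tmulSec_add_left]
  smul V hV a x := by rw [tmulSec_smul_left, tmulSec_smul_left]
  nat V hV V' h x := by
    rw [tmulSec_res, tmulSec_res, gdual_res hV.choose_spec h]
    exact theta_indep E _ _ _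

/-- **the homomorphism `E ⟶ (E ⊗ K) ⊗ K^∨`**, `e ↦ (e ⊗ g) ⊗ g^∨` -/
def theta : E ⟶ CohB1.tensorMod (CohB1.tensorMod E K) (dual K) := (thetaData E hK).hom

theorem theta_app {V : X.Opens} {g : Γ(K, V)} (hg : IsGen K V g) (e : Γ(E, V)) :
    (theta E hK).app V e = tmulSec (CohB1.tensorMod E K) (dual K) (tmulSec E K e g) (gdual hg) := by
  have h := (thetaData E hK).hom_app V ⟨g, hg⟩ e
  rw [theta, h]
  exact theta_indep E _ _ _

end theta

end Groth.Agent.Lib.Helper28.UPSec
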