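import Groth.Agent.Lib.Helper28.UPSecL
import Groth.Agent.Lib.Helper17.TensorQC

/-!
# `P(E) ≅ P(E ⊗ K)` for an invertible module `K`, with `i^* O_Q(1) ≅ O_P(1) ⊗ p^* K`
-/

set_option autoImplicit false
universe u
open CategoryTheory CategoryTheory.Limits AlgebraicGeometry TopologicalSpace Opposite
open scoped HomogeneousIdeal
noncomputable section

namespace Groth.Agent.Lib.Helper28.UPSec

open Groth.Agent.Lib.Helper28 Groth.Agent.Lib.Helper28.QCohLoc Groth.Agent.Lib.Helper28.TraceAlg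
open Groth.Agent.Lib.Helper28.GenLocus Groth.Agent.Lib.Helper28.SymAlg Groth.Agent.Lib.Helper28.HomMod
open Groth.Agent.Lib.Helper28.RLPsi Groth.Agent.Lib.Helper28.RelTwistVal Groth.Agent.Lib.Helper28.RLPsiU
open Groth.Agent.Lib.Helper28.PullbackInv Groth.Agent.Lib.Helper28.RLPsiV
open Groth.Agent.Lib.Helper28.TensorGen Groth.Agent.Lib.Helper28.InvTensor

section twPsi

variable {Y P : Scheme.{u}} {p : P ⟶ Y}
  {E : Y.Modules} [E.IsQuasicoherent]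
  {𝒮 : RelProj.QCGrAlg Y} {j : E ⟶ 𝒮.toModule} (hS : RelProj.IsGrSymAlg E 𝒮 j)
  {chart : ∀ (U : Y.Opens) (hU : IsAffineOpen U), (((p ⁻¹ᵁ U : P.Opens) : Scheme.{u}) ≅ Proj (𝒮.deg U hU))}
  (hP : RelProj.IsRelProj 𝒮 p chart)
  {A : P.Modules}
  {lam : ∀ (U : Y.Opens) (hU : IsAffineOpen U),
    A ⟶ (Scheme.Modules.pushforward (RelProj.emb p chart U hU)).obj (GrTwist.twist (𝒮.deg U hU) ((1 : ℕ) : ℤ))}
  (hA : RelProj.IsRelTwist 𝒮 p chart ((1 : ℕ) : ℤ) A lam)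
  (K : Y.Modules)

/-- the homomorphism `E ⊗ K ⟶ p_*(O_P(1) ⊗ p^* K)`, `e ⊗ ℓ ↦ σ_e ⊗ p^* ℓ` -/
def twPsi : CohB1.tensorMod E K ⟶
    (Scheme.Modules.pushforward p).obj (CohB1.tensorMod A ((Scheme.Modules.pullback p).obj K)) :=
  ExtTensorVA.tensorPush p (canon hS hP hA) ((Scheme.Modules.pullbackPushforwardAdjunction p).unit.app K)

theorem sc_twPsi {U : Y.Opens} (hU : IsAffineOpen U) (e : Γ(E, U)) (ℓ : Γ(K, U)) :
    sc p (twPsi hS hP hA K) U (tmulSec E K e ℓ) =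
      tmulSec A ((Scheme.Modules.pullback p).obj K)
        (sig hA hU (asR 𝒮.toQCAlg (j.app U e)) (hS.2 U hU e)) (pbs p K U ℓ) := by
  have h := ExtTensorVA.tensorPush_tmulSec p (canon hS hP hA)
    ((Scheme.Modules.pullbackPushforwardAdjunction p).unit.app K) U e ℓ
  rw [← canon_app hS hP hA hU e]
  exact h

include hS in
/-- every point of `P(E)` lies in some `D₊(e₀)` over a given affine open of the base -/
theorem exists_mem_WPU {U : Y.Opens} (hU : IsAffineOpen U) (x : P) (hx : p x ∈ U) :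
    ∃ e₀ : Γ(E, U), x ∈ WPU p chart hU (asR 𝒮.toQCAlg (j.app U e₀)) := by
  obtain ⟨z, hz⟩ := (RelProjQ.mem_range_emb p chart U hU x).2 hx
  obtain ⟨e₀, he₀⟩ := exists_deg_one_not_mem hS hU z
  refine ⟨e₀, ?_⟩
  have hz' : (RelProj.emb p chart U hU).base z = x := hz
  rw [← hz']
  exact (mem_WPU_iff hU _ z).2 he₀

omit [E.IsQuasicoherent] in
/-- affine opens of the base trivialising `K` -/
theorem exists_affine_isGen (hK : PicF.IsInvertible K) (y : Y) :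
    ∃ (U : Y.Opens) (_ : IsAffineOpen U) (ℓ : Γ(K, U)), y ∈ U ∧ IsGen K U ℓ := by
  obtain ⟨U₀, g, hyU₀, hg⟩ := exists_isGen K hK y
  obtain ⟨_, ⟨U, hU, rfl⟩, hyU, hUU₀⟩ := Y.isBasis_affineOpens.exists_subset_of_mem_open
    (show y ∈ (U₀ : Set Y) from hyU₀) U₀.isOpen
  have hle : (U : Y.Opens) ≤ U₀ := hUU₀
  exact ⟨U, hU, res K hle g, hyU, hg.res hle⟩

include hS in
theorem genBy_twPsi (hK : PicF.IsInvertible K) : GenBy p (twPsi hS hP hA K) := by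
  intro x
  obtain ⟨U, hU, ℓ, hxU, hℓ⟩ := exists_affine_isGen K hK (p x)
  obtain ⟨e₀, hx⟩ := exists_mem_WPU hS hU x hxU
  refine ⟨U, hU, tmulSec E K e₀ ℓ, _, WPU_le hU _, hx, ?_⟩
  rw [sc_twPsi hS hP hA K hU, tmulSec_res]
  exact isGen_tmulSec _ _ (isGen_sig hA hU _ (hS.2 U hU e₀)) ((isGen_pbs (f := p) hℓ).res (WPU_le hU _))

end twPsi

section main

variable {Y P Q : Scheme.{u}} {p : P ⟶ Y} {q : Q ⟶ Y}
  {E : Y.Modules} [E.IsQuasicoherent] {K : Y.Modules} [K.IsQuasicoherent]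
  {𝒮 : RelProj.QCGrAlg Y} {j : E ⟶ 𝒮.toModule} (hS : RelProj.IsGrSymAlg E 𝒮 j)
  {𝒯 : RelProj.QCGrAlg Y} {k : CohB1.tensorMod E K ⟶ 𝒯.toModule}
  (hT : RelProj.IsGrSymAlg (CohB1.tensorMod E K) 𝒯 k)
  {chart : ∀ (U : Y.Opens) (hU : IsAffineOpen U), (((p ⁻¹ᵁ U : P.Opens) : Scheme.{u}) ≅ Proj (𝒮.deg U hU))}
  (hP : RelProj.IsRelProj 𝒮 p chart)
  {chartQ : ∀ (U : Y.Opens) (hU : IsAffineOpen U), (((q ⁻¹ᵁ U : Q.Opens) : Scheme.{u}) ≅ Proj (𝒯.deg U hU))}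
  (hQ : RelProj.IsRelProj 𝒯 q chartQ)
  {A : P.Modules}
  {lamA : ∀ (U : Y.Opens) (hU : IsAffineOpen U),
    A ⟶ (Scheme.Modules.pushforward (RelProj.emb p chart U hU)).obj (GrTwist.twist (𝒮.deg U hU) ((1 : ℕ) : ℤ))}
  (hA : RelProj.IsRelTwist 𝒮 p chart ((1 : ℕ) : ℤ) A lamA)
  {B : Q.Modules}
  {lamB : ∀ (U : Y.Opens) (hU : IsAffineOpen U),
    B ⟶ (Scheme.Modules.pushforward (RelProj.emb q chartQ U hU)).obj (GrTwist.twist (𝒯.deg U hU) ((1 : ℕ) : ℤ))}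
  (hB : RelProj.IsRelTwist 𝒯 q chartQ ((1 : ℕ) : ℤ) B lamB)
  (hK : PicF.IsInvertible K)

/-- the homomorphism `E ⟶ q_*(O_Q(1) ⊗ q^* K^∨)`, `e ↦ σ_{e ⊗ ℓ} ⊗ q^* ℓ^∨` -/
def twPsiInv : E ⟶ (Scheme.Modules.pushforward q).obj
    (CohB1.tensorMod B ((Scheme.Modules.pullback q).obj (dual K))) :=
  theta E hK ≫ twPsi hT hQ hB (dual K)

theorem sc_twPsiInv {U : Y.Opens} (hU : IsAffineOpen U) {ℓ : Γ(K, U)} (hℓ : IsGen K U ℓ) (e : Γ(E, U)) :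
    sc q (twPsiInv hT hQ hB hK) U e =
      tmulSec B ((Scheme.Modules.pullback q).obj (dual K))
        (sig hB hU (asR 𝒯.toQCAlg (k.app U (tmulSec E K e ℓ))) (hT.2 U hU _)) (pbs q (dual K) U (gdual hℓ)) := by
  have h1 : sc q (twPsiInv hT hQ hB hK) U e = sc q (twPsi hT hQ hB (dual K)) U ((theta E hK).app U e) := rfl
  rw [h1, theta_app E hK hℓ e, sc_twPsi hT hQ hB (dual K) hU]

include hT in
theorem genBy_twPsiInv : GenBy q (twPsiInv hT hQ hB hK) := by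
  intro y
  obtain ⟨U, hU, ℓ, hyU, hℓ⟩ := exists_affine_isGen K hK (q y)
  obtain ⟨f₀, hy⟩ := exists_mem_WPU hT hU y hyU
  have hf₀ : tmulSec E K (untw E hℓ f₀) ℓ = f₀ := tmulSec_untw E hℓ f₀
  refine ⟨U, hU, untw E hℓ f₀, _, WPU_le hU _, hy, ?_⟩
  rw [sc_twPsiInv hT hQ hB hK hU hℓ, tmulSec_res]
  have h2 := isGen_tmulSec _ _ (isGen_sig hB hU _ (hT.2 U hU f₀))
    ((isGen_pbs (f := q) (isGen_gdual hℓ)).res (WPU_le hU (asR 𝒯.toQCAlg (k.app U f₀))))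
  convert h2 using 4
  rw [hf₀]

include hS hT hP hQ hA hB hK in
/-- **`P(E) ≅ P(E ⊗ K)` over the base, with `i^* O_Q(1) ≅ O_P(1) ⊗ p^* K`** -/
theorem exists_iso_twist :
    ∃ i : P ≅ Q, i.hom ≫ q = p ∧
      Nonempty ((Scheme.Modules.pullback i.hom).obj B ≅
        CohB1.tensorMod A ((Scheme.Modules.pullback p).obj K)) := by
  classical
  have hA1 : PicF.IsInvertible A := isInvertible_O1 hS hA
  have hB1 : PicF.IsInvertible B := isInvertible_O1 hT hB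
  have hL₁ : PicF.IsInvertible (CohB1.tensorMod A ((Scheme.Modules.pullback p).obj K)) :=
    isInvertible_tensorMod hA1 (isInvertible_pullback p hK)
  have hL₂ : PicF.IsInvertible (CohB1.tensorMod B ((Scheme.Modules.pullback q).obj (dual K))) :=
    isInvertible_tensorMod hB1 (isInvertible_pullback q (isInvertible_dual hK))
  obtain ⟨r, hr, τ, hcl, -⟩ := exists_secCompat_of_genBy p hT q chartQ hQ hB (twPsi hS hP hA K) hL₁
    (genBy_twPsi hS hP hA K hK)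
  obtain ⟨r₂, hr₂, hcl₂⟩ := exists_classifies_of_genBy q hS p chart hP hA (twPsiInv hT hQ hB hK) hL₂
    (genBy_twPsiInv hT hQ hB hK)
  have hF : ∀ (U : Y.Opens) (hU : IsAffineOpen U) (ℓ : Γ(K, U)) (_ : IsGen K U ℓ) (e₀ : Γ(E, U)),
      Follows j k chart chartQ r hU (fun e f => f = tmulSec E K e ℓ) e₀ (tmulSec E K e₀ ℓ) ∧
      Follows k j chartQ chart r₂ hU (fun f e => f = tmulSec E K e ℓ) (tmulSec E K e₀ ℓ) e₀ := by
    intro U hU ℓ hℓ e₀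
    constructor
    · refine follows_of_classifies hS hA (twPsi hS hP hA K) hcl hU (pbs p K U ℓ) (isGen_pbs hℓ) _ ?_ e₀ _ rfl
      rintro e' f' rfl
      exact sc_twPsi hS hP hA K hU e' ℓ
    · refine follows_of_classifies hT hB (twPsiInv hT hQ hB hK) hcl₂ hU (pbs q (dual K) U (gdual hℓ))
        (isGen_pbs (isGen_gdual hℓ)) _ ?_ _ e₀ rfl
      rintro f' e' rfl
      exact sc_twPsiInv hT hQ hB hK hU hℓ e'
  have h12 : r ≫ r₂ = 𝟙 P := by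
    refine comp_eq_id_of_follows (j₂ := k) (chart₂ := chartQ) hS hP hA hr hr₂ fun x => ?_
    obtain ⟨U, hU, ℓ, hxU, hℓ⟩ := exists_affine_isGen K hK (p x)
    obtain ⟨e₀, hx⟩ := exists_mem_WPU hS hU x hxU
    exact ⟨U, hU, fun e f => f = tmulSec E K e ℓ, e₀, tmulSec E K e₀ ℓ, hx, fun e' => ⟨_, rfl⟩,
      (hF U hU ℓ hℓ e₀).1, (hF U hU ℓ hℓ e₀).2⟩
  have h21 : r₂ ≫ r = 𝟙 Q := by
    refine comp_eq_id_of_follows (j₂ := j) (chart₂ := chart) hT hQ hB hr₂ hr fun y => ?_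
    obtain ⟨U, hU, ℓ, hyU, hℓ⟩ := exists_affine_isGen K hK (q y)
    obtain ⟨f₀, hy⟩ := exists_mem_WPU hT hU y hyU
    have hf₀ : tmulSec E K (untw E hℓ f₀) ℓ = f₀ := tmulSec_untw E hℓ f₀
    refine ⟨U, hU, fun f e => f = tmulSec E K e ℓ, f₀, untw E hℓ f₀, hy,
      fun f' => ⟨untw E hℓ f', (tmulSec_untw E hℓ f').symm⟩, ?_, ?_⟩
    · have := (hF U hU ℓ hℓ (untw E hℓ f₀)).2
      rwa [hf₀] at this
    · have := (hF U hU ℓ hℓ (untw E hℓ f₀)).1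
      rwa [hf₀] at this
  exact ⟨⟨r, r₂, h12, h21⟩, hr, ⟨τ⟩⟩

end main

end Groth.Agent.Lib.Helper28.UPSec
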