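import Groth.Agent.Lib.Helper28.LocGoodRestrict
import Groth.Agent.Lib.Helper28.AmpleIso
import Groth.Agent.Lib.Helper28.PnVA
import Groth.Agent.S12474

/-!
# Relative very ampleness is local on the base (EGA II 4.4.5)
-/

set_option autoImplicit false
universe u
open CategoryTheory CategoryTheory.Limits AlgebraicGeometry Opposite TopologicalSpace
open scoped HomogeneousIdeal
noncomputable section

namespace Groth.Agent.Lib.Helper28.LocVA

open Groth.Agent.Lib.Helper28 Groth.Agent.Lib.Helper28.QCohLoc Groth.Agent.Lib.Helper28.TraceAlg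
open Groth.Agent.Lib.Helper28.SymAlg Groth.Agent.Lib.Helper28.SymPow
open Groth.Agent.Lib.Helper28.RLPsi Groth.Agent.Lib.Helper28.RestrictAlg Groth.Agent.Lib.Helper28.FTApprox

variable {X Y : Scheme.{u}} (q : X ⟶ Y) (L : X.Modules)

/-- relative very ampleness restricts to opens of the base -/
theorem isRelVeryAmple_restrict (hL : PicF.IsInvertible L) (h : RelProj.IsRelVeryAmple q L) (U : Y.Opens) :
    RelProj.IsRelVeryAmple (q ∣_ U) (L.restrict (q ⁻¹ᵁ U).ι) := by
  have h1 := Groth.Agent.S12474.result q U.ι (q ⁻¹ᵁ U).ι (q ∣_ U) (isPullback_morphismRestrict q U).flip L hL h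
  exact PnVA.isRelVeryAmple_of_iso _ ((Scheme.Modules.restrictFunctorIsoPullback (q ⁻¹ᵁ U).ι).app L).symm h1

/-- **relative very ampleness is local on the base** -/
theorem isRelVeryAmple_of_openCover [QuasiCompact q] (hL : PicF.IsInvertible L) {ι : Type u} (U : ι → Y.Opens)
    (hU : ⨆ i, U i = ⊤) (h : ∀ i, RelProj.IsRelVeryAmple (q ∣_ (U i)) (L.restrict (q ⁻¹ᵁ (U i)).ι)) :
    RelProj.IsRelVeryAmple q L := by
  have hLq : L.IsQuasicoherent := InvQC.isQuasicoherent_of_isInvertible L hL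
  have hsep : IsSeparated q :=
    IsZariskiLocalAtTarget.of_iSup_eq_top (P := @IsSeparated) U hU
      (fun i => isSeparated_of_isRelVeryAmple _ (h i))
  have hQC := isQC_symPre_of_isQuasicoherent L
  have hjL := isGrSymAlg L hQC
  refine isRelVeryAmple_of_locGood q hjL hL fun x => ?_
  have hx : q x ∈ ⨆ i, U i := by rw [hU]; trivial
  obtain ⟨i, hi⟩ := Opens.mem_iSup.1 hx
  have hLi : PicF.IsInvertible (L.restrict (q ⁻¹ᵁ (U i)).ι) := AmpleIso.isInvertible_restrict _ L hL
  have hLiq : (L.restrict (q ⁻¹ᵁ (U i)).ι).IsQuasicoherent := InvQC.isQuasicoherent_of_isInvertible _ hLi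
  have h1 := locGood_of_isRelVeryAmple (q ∣_ (U i)) (isGrSymAlg_restrict (q ⁻¹ᵁ (U i)) hjL) hLi (h i) ⟨x, hi⟩
  exact locGood_of_restrict q (U i) _ ⟨x, hi⟩ h1

/-- **EGA II 4.4.5** -/
theorem isRelVeryAmple_iff_of_openCover [QuasiCompact q] (hL : PicF.IsInvertible L) {ι : Type u} (U : ι → Y.Opens)
    (hU : ⨆ i, U i = ⊤) :
    RelProj.IsRelVeryAmple q L ↔
      ∀ i, RelProj.IsRelVeryAmple (q ∣_ (U i)) (L.restrict (q ⁻¹ᵁ (U i)).ι) :=
  ⟨fun h i => isRelVeryAmple_restrict q L hL h (U i), isRelVeryAmple_of_openCover q L hL U hU⟩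

end Groth.Agent.Lib.Helper28.LocVA
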