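import Groth.Agent.Lib.Helper28.BundleTwist
import Groth.Agent.Lib.Helper28.BundleQuot
import Groth.Agent.Lib.Helper28.TensorAssoc
import Groth.Agent.Lib.Helper28.TwistGG
import Groth.Agent.Lib.Helper28.RestrictAmple
import Groth.Agent.Lib.Helper17.GGDescent
import Groth.Agent.S12486
import Groth.Agent.S5721
import Groth.Agent.S12474
import Groth.Agent.Lib.Helper28.VALocalBase
import Groth.Agent.Lib.Helper28.RestrictGen

/-!
# Composition of very ample modules: `L ⊗ f^* K^n` is very ample for `f ≫ g` (affine base)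
-/

set_option autoImplicit false
universe u
open CategoryTheory CategoryTheory.Limits AlgebraicGeometry TopologicalSpace Opposite
open scoped HomogeneousIdeal
noncomputable section

namespace Groth.Agent.Lib.Helper28.VAComp

open Groth.Agent.Lib.Helper28 Groth.Agent.Lib.Helper28.QCohLoc Groth.Agent.Lib.Helper28.TraceAlg
open Groth.Agent.Lib.Helper28.SymAlg Groth.Agent.Lib.Helper28.GenLocus Groth.Agent.Lib.Helper28.PullbackInv

/-- `O(1)` on a projective bundle is very ample relative to the bundle projection -/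
theorem isRelVeryAmple_O1 {Y P : Scheme.{u}} {E : Y.Modules} (hE : Coh.IsQCoh E)
    {𝒮 : RelProj.QCGrAlg Y} {j : E ⟶ 𝒮.toModule} (hS : RelProj.IsGrSymAlg E 𝒮 j)
    (p : P ⟶ Y)
    (chart : ∀ (U : Y.Opens) (hU : IsAffineOpen U), (((p ⁻¹ᵁ U : P.Opens) : Scheme.{u}) ≅ Proj (𝒮.deg U hU)))
    (hP : RelProj.IsRelProj 𝒮 p chart)
    {O1 : P.Modules}
    {lam : ∀ (U : Y.Opens) (hU : IsAffineOpen U),
      O1 ⟶ (Scheme.Modules.pushforward (RelProj.emb p chart U hU)).obj (GrTwist.twist (𝒮.deg U hU) 1)}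
    (hO : RelProj.IsRelTwist 𝒮 p chart 1 O1 lam) : RelProj.IsRelVeryAmple p O1 :=
  ⟨E, hE, 𝒮, j, hS, P, p, chart, hP, O1, lam, hO, 𝟙 P, inferInstance, Category.id_comp p,
    ⟨((Scheme.Modules.pullbackId P).app O1).symm⟩⟩

/-- the ample-ness of a module very ample over an affine base -/
theorem isAmple_of_isRelVeryAmple {Y Z : Scheme.{u}} [IsAffine Z] (g : Y ⟶ Z) [QuasiCompact g]
    (K : Y.Modules) (hK : PicF.IsInvertible K) (hKva : RelProj.IsRelVeryAmple g K) : CohB1.IsAmple K := by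
  have h1 := (Groth.Agent.S5721.result g K hK hKva).2 ⟨⊤, isAffineOpen_top Z⟩
  exact GenLocus.isAmple_of_isAmple_restrict_of_eq_top (g ⁻¹ᵁ ⊤) rfl h1

set_option maxHeartbeats 1600000 in
/-- the main step: from an epimorphism `g^* F_Z → E ⊗ K'` -/
theorem isRelVeryAmple_of_epi {X Y Z : Scheme.{u}} (f : X ⟶ Y) (g : Y ⟶ Z)
    (L : X.Modules) (K K' : Y.Modules) (hK : PicF.IsInvertible K) (hK' : PicF.IsInvertible K')
    (hKva : RelProj.IsRelVeryAmple g K)
    {E : Y.Modules} [E.IsQuasicoherent] {𝒮 : RelProj.QCGrAlg Y} {j : E ⟶ 𝒮.toModule}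
    (hS : RelProj.IsGrSymAlg E 𝒮 j) {P : Scheme.{u}} (p : P ⟶ Y)
    (chart : ∀ (U : Y.Opens) (hU : IsAffineOpen U), (((p ⁻¹ᵁ U : P.Opens) : Scheme.{u}) ≅ Proj (𝒮.deg U hU)))
    (hP : RelProj.IsRelProj 𝒮 p chart)
    {O1 : P.Modules}
    {lam : ∀ (U : Y.Opens) (hU : IsAffineOpen U),
      O1 ⟶ (Scheme.Modules.pushforward (RelProj.emb p chart U hU)).obj (GrTwist.twist (𝒮.deg U hU) 1)}
    (hO : RelProj.IsRelTwist 𝒮 p chart 1 O1 lam)
    (i : X ⟶ P) [IsImmersion i] (hip : i ≫ p = f) (eL : L ≅ (Scheme.Modules.pullback i).obj O1)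
    (FZ : Z.Modules) [FZ.IsQuasicoherent]
    (ρ : (Scheme.Modules.pullback g).obj FZ ⟶ CohB1.tensorMod E K') [Epi ρ] :
    RelProj.IsRelVeryAmple (f ≫ g)
      (CohB1.tensorMod (CohB1.tensorMod L ((Scheme.Modules.pullback f).obj K'))
        ((Scheme.Modules.pullback f).obj K)) := by
  classical
  -- the bundle of `E ⊗ K'`
  have hE'q : (CohB1.tensorMod E K').IsQuasicoherent := by
    have : K'.IsQuasicoherent := InvQC.isQuasicoherent_of_isInvertible K' hK'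
    infer_instance
  have hQC' := isQC_symPre_of_isQuasicoherent (CohB1.tensorMod E K')
  have hS' := isGrSymAlg (CohB1.tensorMod E K') hQC'
  have hP' := RelProjExists.isRelProj (grSymAlg (CohB1.tensorMod E K') hQC')
  have hO' := RelTwistEx.isRelTwist hP' 1
  -- the bundle of `g^* F_Z`
  have hFq : ((Scheme.Modules.pullback g).obj FZ).IsQuasicoherent :=
    Groth.Agent.Lib.Helper17.ModPullback.isQuasicoherent_pullback g FZ
  have hQCF := isQC_symPre_of_isQuasicoherent ((Scheme.Modules.pullback g).obj FZ)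
  have hSF := isGrSymAlg ((Scheme.Modules.pullback g).obj FZ) hQCF
  have hPF := RelProjExists.isRelProj (grSymAlg ((Scheme.Modules.pullback g).obj FZ) hQCF)
  have hOF := RelTwistEx.isRelTwist hPF 1
  -- the bundle of `F_Z`
  have hQCZ := isQC_symPre_of_isQuasicoherent FZ
  have hSZ := isGrSymAlg FZ hQCZ
  have hPZ := RelProjExists.isRelProj (grSymAlg FZ hQCZ)
  have hOZ := RelTwistEx.isRelTwist hPZ 1
  -- the three maps
  obtain ⟨ι, hι, hιp, ⟨eA⟩⟩ := VAProd.exists_immersion_twist hS p chart hP hO hS' _ _ hP' hO' hK'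
  obtain ⟨κ, hκ, hκp, ⟨eB⟩⟩ := BundleQuot.exists_closedImmersion_of_epi ρ hS' _ _ hP' hO' hSF _ _ hPF hOF
  -- base change `P_Y(g^* F_Z) = P_Z(F_Z) ×_Z Y`
  have hOZ' : RelProj.IsRelTwist (grSymAlg FZ hQCZ) (RelProjExists.p (grSymAlg FZ hQCZ))
      (RelProjExists.chart (grSymAlg FZ hQCZ)) ((1 : ℕ) : ℤ) _ _ := hOZ
  have hOF' : RelProj.IsRelTwist (grSymAlg ((Scheme.Modules.pullback g).obj FZ) hQCF)
      (RelProjExists.p (grSymAlg ((Scheme.Modules.pullback g).obj FZ) hQCF))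
      (RelProjExists.chart (grSymAlg ((Scheme.Modules.pullback g).obj FZ) hQCF)) ((1 : ℕ) : ℤ) _ _ := hOF
  obtain ⟨c, hc⟩ := RelProjQ.exists_isProjQMap (grQHom g hSZ hSF) _ _ hPZ _ _ hPF (isQBaseChange_grQHom g hSZ hSF)
  have hpb : IsPullback c _ _ g := RelProjQ.isPullback_of_isProjQMap (grQHom g hSZ hSF) _ _ hPZ _ _ hPF
    (isQBaseChange_grQHom g hSZ hSF) c hc
  obtain ⟨eC⟩ := RLPsiV.nonempty_pullback_iso_of_isGrSymAlg hSZ (grQHom g hSZ hSF) hPZ hPF hOZ' hOF' c hc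
  -- very ampleness on the product
  have hvaZ := isRelVeryAmple_O1 (inferInstance : FZ.IsQuasicoherent) hSZ _ _ hPZ hOZ
  have hinvZ := RLPsiV.isInvertible_O1 hSZ hOZ'
  have h1 := VAProd.isRelVeryAmple_extTensor _ g c _ hpb _ K hinvZ hK hvaZ hKva
  have : IsImmersion ι := hι
  have : IsClosedImmersion κ := hκ
  have hJp : (i ≫ ι ≫ κ) ≫ RelProjExists.p (grSymAlg ((Scheme.Modules.pullback g).obj FZ) hQCF) = f := by
    rw [Category.assoc, Category.assoc, hκp, hιp, hip]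
  have h2 := VAProd.isRelVeryAmple_comp_immersion (i ≫ ι ≫ κ) _ _ h1
  have hcomp : (i ≫ ι ≫ κ) ≫ c ≫ RelProjExists.p (grSymAlg FZ hQCZ) = f ≫ g := by
    rw [hpb.w, ← Category.assoc, hJp]
  rw [hcomp] at h2
  have hO₁ : RelProj.IsRelTwist 𝒮 p chart ((1 : ℕ) : ℤ) O1 lam := hO
  have hinvO1 := RLPsiV.isInvertible_O1 hS hO₁
  obtain ⟨ψ₁, -⟩ := exists_pullback_tensorMod_iso (i ≫ ι ≫ κ) (isInvertible_pullback c hinvZ)
    (isInvertible_pullback (RelProjExists.p (grSymAlg ((Scheme.Modules.pullback g).obj FZ) hQCF)) hK)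
  obtain ⟨ψ₂, -⟩ := exists_pullback_tensorMod_iso i hinvO1 (isInvertible_pullback p hK')
  refine PnVA.isRelVeryAmple_of_iso _ ?_ h2
  refine ψ₁ ≪≫ PicGrp.tensorModIso ?_ ?_
  · exact (Scheme.Modules.pullback (i ≫ ι ≫ κ)).mapIso eC ≪≫
      ((Scheme.Modules.pullbackComp i (ι ≫ κ)).app _).symm ≪≫
      (Scheme.Modules.pullback i).mapIso (((Scheme.Modules.pullbackComp ι κ).app _).symm ≪≫
        (Scheme.Modules.pullback ι).mapIso eB ≪≫ eA.symm) ≪≫ ψ₂ ≪≫
      PicGrp.tensorModIso eL.symm ((Scheme.Modules.pullbackComp i p).app K' ≪≫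
        (Scheme.Modules.pullbackCongr hip).app K')
  · exact (Scheme.Modules.pullbackComp (i ≫ ι ≫ κ) _).app K ≪≫ (Scheme.Modules.pullbackCongr hJp).app K

set_option maxHeartbeats 1600000 in
/-- **EGA II 4.4.10 (ii), affine base** -/
theorem exists_forall_of_isAffine {X Y Z : Scheme.{u}} [IsAffine Z] (f : X ⟶ Y)
    [QuasiCompact f] [LocallyOfFiniteType f] (g : Y ⟶ Z) [QuasiCompact g]
    (L : X.Modules) (hL : PicF.IsInvertible L) (hLva : RelProj.IsRelVeryAmple f L)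
    (K : Y.Modules) (hK : PicF.IsInvertible K) (hKva : RelProj.IsRelVeryAmple g K) :
    ∃ n₀ : ℕ, 0 < n₀ ∧ ∀ n : ℕ, n₀ ≤ n →
      RelProj.IsRelVeryAmple (f ≫ g)
        (CohB1.tensorMod L ((Scheme.Modules.pullback f).obj (CohB1.tensorPow K n))) := by
  classical
  have hsepg : IsSeparated g := FTApprox.isSeparated_of_isRelVeryAmple g hKva
  have hYsep : Y.IsSeparated := (HasAffineProperty.iff_of_isAffine (P := @IsSeparated)).1 hsepg
  have hYc : CompactSpace Y := QuasiCompact.compactSpace_of_compactSpace g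
  obtain ⟨E, 𝒯, j, P, p, chart, O1, lam, i, hEq, hEft, hj, hP, hO, himm, hip, ⟨eL⟩⟩ :=
    Groth.Agent.S12486.result (Or.inl ⟨hYc, hYsep⟩) f L hL hLva
  have : E.IsQuasicoherent := hEq
  have : IsImmersion i := himm
  have hKample := isAmple_of_isRelVeryAmple g K hK hKva
  obtain ⟨m₀, hm₀⟩ := exists_forall_isGloballyGenerated hKample E ⟨hEq, hEft⟩
  refine ⟨m₀ + 1, Nat.succ_pos _, fun n hn => ?_⟩
  obtain ⟨m, rfl⟩ : ∃ m, n = m + 1 := ⟨n - 1, by omega⟩
  obtain ⟨I, π, hπ⟩ := hm₀ m (by omega)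
  have : Epi π := hπ
  have hKm := isInvertible_tensorPow hK m
  have hρ : Epi ((Groth.Agent.Lib.Helper17.GGDescent.pullbackFreeIso g I).hom ≫ π) :=
    @epi_comp _ _ _ _ _ _ inferInstance _ hπ
  have h := isRelVeryAmple_of_epi f g L K (CohB1.tensorPow K m) hK hKm hKva hj p chart hP hO i hip eL
    (SheafOfModules.free I : Z.Modules) ((Groth.Agent.Lib.Helper17.GGDescent.pullbackFreeIso g I).hom ≫ π)
  obtain ⟨ψ₃, -⟩ := exists_pullback_tensorMod_iso f hKm hK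
  obtain ⟨α, -⟩ := exists_tensorMod_assoc_iso hL (isInvertible_pullback f hKm) (isInvertible_pullback f hK)
  exact PnVA.isRelVeryAmple_of_iso _ (α ≪≫ PicGrp.tensorModIso (Iso.refl L) ψ₃.symm) h

set_option maxHeartbeats 1600000 in
/-- the statement over an affine open of the base -/
theorem exists_forall_restrict {X Y Z : Scheme.{u}} (f : X ⟶ Y)
    [QuasiCompact f] [LocallyOfFiniteType f] (g : Y ⟶ Z) [QuasiCompact g]
    (L : X.Modules) (hL : PicF.IsInvertible L) (hLva : RelProj.IsRelVeryAmple f L)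
    (K : Y.Modules) (hK : PicF.IsInvertible K) (hKva : RelProj.IsRelVeryAmple g K)
    (U : Z.Opens) (hU : IsAffineOpen U) :
    ∃ n₀ : ℕ, ∀ n : ℕ, n₀ ≤ n →
      RelProj.IsRelVeryAmple ((f ≫ g) ∣_ U)
        ((CohB1.tensorMod L ((Scheme.Modules.pullback f).obj (CohB1.tensorPow K n))).restrict
          ((f ≫ g) ⁻¹ᵁ U).ι) := by
  classical
  have : IsAffine (U : Scheme.{u}) := hU
  have hLU := LocVA.isRelVeryAmple_restrict f L hL hLva (g ⁻¹ᵁ U)
  have hKU := LocVA.isRelVeryAmple_restrict g K hK hKva U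
  have hLUinv : PicF.IsInvertible (L.restrict (f ⁻¹ᵁ (g ⁻¹ᵁ U)).ι) := AmpleIso.isInvertible_restrict _ L hL
  have hKUinv : PicF.IsInvertible (K.restrict (g ⁻¹ᵁ U).ι) := AmpleIso.isInvertible_restrict _ K hK
  obtain ⟨n₀, -, hn₀⟩ := exists_forall_of_isAffine (f ∣_ (g ⁻¹ᵁ U)) (g ∣_ U) _ hLUinv hLU _ hKUinv hKU
  refine ⟨n₀, fun n hn => ?_⟩
  have h := hn₀ n hn
  rw [morphismRestrict_comp]
  have hKn := isInvertible_tensorPow hK n
  obtain ⟨ψ⟩ := exists_restrict_tensorMod_iso L ((Scheme.Modules.pullback f).obj (CohB1.tensorPow K n))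
    (f ⁻¹ᵁ (g ⁻¹ᵁ U)) hLUinv (AmpleIso.isInvertible_restrict _ _ (isInvertible_pullback f hKn))
  obtain ⟨θ⟩ := exists_restrict_tensorPow_iso K (g ⁻¹ᵁ U) hKUinv n
  refine PnVA.isRelVeryAmple_of_iso _ ?_ h
  refine (ψ ≪≫ PicGrp.tensorModIso (Iso.refl _) ?_).symm
  exact (Scheme.Modules.restrictFunctorIsoPullback (f ⁻¹ᵁ (g ⁻¹ᵁ U)).ι).app _ ≪≫
    (Scheme.Modules.pullbackComp (f ⁻¹ᵁ (g ⁻¹ᵁ U)).ι f).app _ ≪≫
    (Scheme.Modules.pullbackCongr (morphismRestrict_ι f (g ⁻¹ᵁ U)).symm).app _ ≪≫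
    ((Scheme.Modules.pullbackComp (f ∣_ (g ⁻¹ᵁ U)) (g ⁻¹ᵁ U).ι).app _).symm ≪≫
    (Scheme.Modules.pullback (f ∣_ (g ⁻¹ᵁ U))).mapIso
      (((Scheme.Modules.restrictFunctorIsoPullback (g ⁻¹ᵁ U).ι).app _).symm ≪≫ θ)

/-- **EGA II 4.4.10 (ii)**: for `f` of finite type, `g` quasi-compact to a quasi-compact base, `L` very ample for `f`
and `K` very ample for `g`, the modules `L ⊗ f^* K^n`, `n ≥ n₀`, are very ample for `f ≫ g` -/
theorem exists_forall {X Y Z : Scheme.{u}} [CompactSpace Z] (f : X ⟶ Y)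
    [QuasiCompact f] [LocallyOfFiniteType f] (g : Y ⟶ Z) [QuasiCompact g]
    (L : X.Modules) (hL : PicF.IsInvertible L) (hLva : RelProj.IsRelVeryAmple f L)
    (K : Y.Modules) (hK : PicF.IsInvertible K) (hKva : RelProj.IsRelVeryAmple g K) :
    ∃ n₀ : ℕ, 0 < n₀ ∧ ∀ n : ℕ, n₀ ≤ n →
      RelProj.IsRelVeryAmple (f ≫ g)
        (CohB1.tensorMod L ((Scheme.Modules.pullback f).obj (CohB1.tensorPow K n))) := by
  classical
  choose N hN using fun U : Z.affineOpens => exists_forall_restrict f g L hL hLva K hK hKva U.1 U.2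
  obtain ⟨t, ht⟩ := isCompact_univ.elim_finite_subcover (fun U : Z.affineOpens => ((U.1 : Z.Opens) : Set Z))
    (fun U => U.1.isOpen) (by
      intro z _
      obtain ⟨_, ⟨U, hU, rfl⟩, hzU, -⟩ := Z.isBasis_affineOpens.exists_subset_of_mem_open
        (show z ∈ ((⊤ : Z.Opens) : Set Z) from trivial) (⊤ : Z.Opens).isOpen
      exact Set.mem_iUnion.2 ⟨⟨U, hU⟩, hzU⟩)
  refine ⟨t.sup N + 1, Nat.succ_pos _, fun n hn => ?_⟩
  have hMinv : PicF.IsInvertible (CohB1.tensorMod L ((Scheme.Modules.pullback f).obj (CohB1.tensorPow K n))) :=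
    isInvertible_tensorMod hL (isInvertible_pullback f (isInvertible_tensorPow hK n))
  refine LocVA.isRelVeryAmple_of_openCover (f ≫ g) _ hMinv (ι := {U : Z.affineOpens // U ∈ t})
    (fun U => U.1.1) ?_ (fun U => hN U.1 n ?_)
  · rw [eq_top_iff]
    intro z _
    have := ht (Set.mem_univ z)
    simp only [Set.mem_iUnion] at this
    obtain ⟨U, hUt, hz⟩ := this
    exact Opens.mem_iSup.2 ⟨⟨U, hUt⟩, hz⟩
  · have := Finset.le_sup (f := N) U.2
    omega

end Groth.Agent.Lib.Helper28.VAComp
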