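import Groth.Agent.Lib.Helper28.CoprodBundle
import Groth.Agent.Lib.Helper28.ProjMap
import Groth.Agent.Lib.Helper28.CoprodModIso
import Groth.Agent.Lib.Helper28.VAGenDegOne
import Groth.Agent.Lib.Helper28.PEPull2
import Groth.Agent.Lib.Helper28.ProjQTotal
import Groth.Agent.Lib.Helper28.RelTwistEx3

/-!
# Relative very ampleness on a disjoint union (EGA II 4.4.10 (iv))
-/

set_option autoImplicit false
universe u
open CategoryTheory CategoryTheory.Limits AlgebraicGeometry Opposite TopologicalSpace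
open scoped HomogeneousIdeal
noncomputable section

namespace Groth.Agent.Lib.Helper28.VACoprod

open Groth.Agent.Lib.Helper28 Groth.Agent.Lib.Helper28.QCohLoc Groth.Agent.Lib.Helper28.TraceAlg
open Groth.Agent.Lib.Helper28.SymAlg Groth.Agent.Lib.Helper28.CoprodBundle
open Groth.Agent.Lib.Helper28.ProjQRel (pairId)
open Groth.Agent.Lib.Helper28.RelProjQ (φQ)

section retract

variable {Y P PN : Scheme.{u}} {M N : Y.Modules} [M.IsQuasicoherent] [N.IsQuasicoherent]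
  {𝒮M 𝒮N : RelProj.QCGrAlg Y} {jM : M ⟶ 𝒮M.toModule} (hjM : RelProj.IsGrSymAlg M 𝒮M jM)
  {jN : N ⟶ 𝒮N.toModule} (hjN : RelProj.IsGrSymAlg N 𝒮N jN)
  (s : M ⟶ N) (σ : N ⟶ M) (hσ : σ ≫ s = 𝟙 N)
  {p : P ⟶ Y}
  {chart : ∀ (U : Y.Opens) (hU : IsAffineOpen U), ((p ⁻¹ᵁ U : P.Opens) : Scheme.{u}) ≅ Proj (𝒮M.deg U hU)}
  (hP : RelProj.IsRelProj 𝒮M p chart) {pN : PN ⟶ Y}
  {chartN : ∀ (U : Y.Opens) (hU : IsAffineOpen U), ((pN ⁻¹ᵁ U : PN.Opens) : Scheme.{u}) ≅ Proj (𝒮N.deg U hU)}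
  (hPN : RelProj.IsRelProj 𝒮N pN chartN)

include hjM hjN hσ hP hPN in
/-- a retraction `s : M → N` of quasi-coherent modules induces a closed immersion `P(N) → P(M)` -/
theorem exists_retract_map : ∃ (π : 𝒮M.toQCAlg ⟶ 𝒮N.toQCAlg) (hπ : RelProj.IsGradedHom π) (h : PN ⟶ P),
    jM ≫ RelSpec.QCAlg.Hom.toModuleMap π = s ≫ jN ∧
      RelProj.IsProjQMap (RelProj.QGrHom.ofHom π hπ) p chart pN chartN h ∧ IsClosedImmersion h ∧ h ≫ p = pN ∧
      ∀ (U : Y.Opens) (hU : IsAffineOpen U),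
        RelCone.domOpen (φQ (RelProj.QGrHom.ofHom π hπ) (pairId U hU)) = ⊤ := by
  obtain ⟨π, hπ1, -⟩ := hjM.1 𝒮N.toQCAlg (s ≫ jN)
  have hw1 : ∀ (U : Y.Opens) (hU : IsAffineOpen U) (x : Γ(M, U)), ((s ≫ jN).app U) x ∈ 𝒮N.deg U hU 1 :=
    fun U hU x => hjN.2 U hU _
  have hπ : RelProj.IsGradedHom π := VAGenDegOne.isGradedHom_ubar 𝒮N (s ≫ jN) hw1 hjM π hπ1
  have hTN : ∃ n : ℕ, ∀ k, n ≤ k → ∀ (U : Y.Opens) (hU : IsAffineOpen U), ∀ y ∈ 𝒮N.deg U hU k,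
      ∃ x ∈ 𝒮M.deg U hU k, (π.hom.app (op U)).hom x = y :=
    ⟨0, fun k _ U hU y hy => surj_deg hjM hjN π hπ s hπ1 σ hσ U hU k y hy⟩
  have hTNU := fun (U : Y.Opens) (hU : IsAffineOpen U) => ProjQRel.tnSurj_ofHom 𝒮M 𝒮N π hπ hTN U hU
  have htop : RelProj.domQ (RelProj.QGrHom.ofHom π hπ) pN chartN = ⊤ :=
    ProjQRel.domQ_eq_top_of_forall _ pN chartN fun U hU => ProjQ.dom_eq_top_of_tnSurj _ (hTNU U hU)
  obtain ⟨h, hh⟩ := ProjQRel.exists_isProjQMap_of_domQ_eq_top (RelProj.QGrHom.ofHom π hπ) _ _ hP pN chartN hPN htop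
  have hci : IsClosedImmersion h :=
    ProjQRel.of_chartwise_total (RelProj.QGrHom.ofHom π hπ) _ _ hP pN chartN hPN @IsClosedImmersion h hh
      fun U hU => ProjQ.isClosedImmersion_vQ _ (hTNU U hU)
  have hcomp := ProjQRel.comp_p_of_isProjQMap (RelProj.QGrHom.ofHom π hπ) _ _ hP pN chartN hPN h hh
  rw [Category.comp_id] at hcomp
  exact ⟨π, hπ, h, hπ1, hh, hci, hcomp, fun U hU => ProjQ.dom_eq_top_of_tnSurj _ (hTNU U hU)⟩

end retract

section point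

variable {Y PA PB : Scheme.{u}} {𝒜 ℬ : RelProj.QCGrAlg Y}
  (φ : 𝒜.toQCAlg ⟶ ℬ.toQCAlg) (hφ : RelProj.IsGradedHom φ)
  {pA : PA ⟶ Y}
  {chartA : ∀ (U : Y.Opens) (hU : IsAffineOpen U), ((pA ⁻¹ᵁ U : PA.Opens) : Scheme.{u}) ≅ Proj (𝒜.deg U hU)}
  {pB : PB ⟶ Y}
  {chartB : ∀ (U : Y.Opens) (hU : IsAffineOpen U), ((pB ⁻¹ᵁ U : PB.Opens) : Scheme.{u}) ≅ Proj (ℬ.deg U hU)}
  (h : PB ⟶ PA) (hh : RelProj.IsProjQMap (RelProj.QGrHom.ofHom φ hφ) pA chartA pB chartB h)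

include hh in
/-- pointwise description of an everywhere defined `Proj(φ)` on a chart -/
theorem h_emb_apply (U : Y.Opens) (hU : IsAffineOpen U) (x : Proj (ℬ.deg U hU))
    (hx : x ∈ RelCone.domOpen (φQ (RelProj.QGrHom.ofHom φ hφ) (pairId U hU))) :
    h (RelProj.emb pB chartB U hU x) =
      RelProj.emb pA chartA U hU (ProjQ.vQ (φQ (RelProj.QGrHom.ofHom φ hφ) (pairId U hU)) ⟨x, hx⟩) := by
  have h1 := ProjQRel.glue_of_isProjQMap (RelProj.QGrHom.ofHom φ hφ) pA chartA pB chartB h hh (pairId U hU)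
  have h2 := congrArg (fun k : ((ProjQRel.D (RelProj.QGrHom.ofHom φ hφ) (pairId U hU) :
    (Proj (ℬ.deg U hU)).Opens) : Scheme.{u}) ⟶ PA => k ⟨x, hx⟩) h1
  simp only [Scheme.Hom.comp_apply] at h2
  rw [ProjQRel.cW_apply] at h2
  exact h2

include hh in
/-- the preimage of a standard open under `Proj(φ)`, on a chart -/
theorem mem_preimage_WPU_iff (U : Y.Opens) (hU : IsAffineOpen U) {d : ℕ} (F : 𝒜.presheaf.obj (op U))
    (hF : F ∈ 𝒜.deg U hU d) (x : Proj (ℬ.deg U hU))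
    (hx : x ∈ RelCone.domOpen (φQ (RelProj.QGrHom.ofHom φ hφ) (pairId U hU))) :
    h (RelProj.emb pB chartB U hU x) ∈ RLPsiU.WPU pA chartA hU F ↔
      (φ.hom.app (op U)).hom F ∉ x.asHomogeneousIdeal := by
  rw [h_emb_apply φ hφ h hh U hU x hx, RLPsiV.mem_WPU_iff]
  have h2 := ProjQ.preimage_basicOpen (φQ (RelProj.QGrHom.ofHom φ hφ) (pairId U hU)) hF
  have h3 := SetLike.ext_iff.mp h2 ⟨x, hx⟩
  have h4 : (φQ (RelProj.QGrHom.ofHom φ hφ) (pairId U hU)) F = (φ.hom.app (op U)).hom F := by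
    have := ProjQRel.φQ_ofHom 𝒜 ℬ φ hφ U hU
    exact congrArg (fun k => k F) this
  refine Iff.trans ?_ (h3.trans ?_)
  · exact Iff.rfl
  · rw [← h4]
    exact (Proj.mem_basicOpen _ _ x)

end point

section disjoint

variable {Y PE PF P : Scheme.{u}} {E F : Y.Modules} [(E ⊞ F).IsQuasicoherent]
  {𝒮E 𝒮F 𝒮 : RelProj.QCGrAlg Y}
  {jE : E ⟶ 𝒮E.toModule} {jF : F ⟶ 𝒮F.toModule}
  {j : E ⊞ F ⟶ 𝒮.toModule} (hj : RelProj.IsGrSymAlg (E ⊞ F) 𝒮 j)
  (πE : 𝒮.toQCAlg ⟶ 𝒮E.toQCAlg) (hπE : RelProj.IsGradedHom πE)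
  (hjπE : j ≫ RelSpec.QCAlg.Hom.toModuleMap πE = biprod.fst ≫ jE)
  (πF : 𝒮.toQCAlg ⟶ 𝒮F.toQCAlg) (hπF : RelProj.IsGradedHom πF)
  (hjπF : j ≫ RelSpec.QCAlg.Hom.toModuleMap πF = biprod.snd ≫ jF)
  {p : P ⟶ Y} {pE : PE ⟶ Y} {pF : PF ⟶ Y}
  {chart : ∀ (U : Y.Opens) (hU : IsAffineOpen U), ((p ⁻¹ᵁ U : P.Opens) : Scheme.{u}) ≅ Proj (𝒮.deg U hU)}
  {chartE : ∀ (U : Y.Opens) (hU : IsAffineOpen U), ((pE ⁻¹ᵁ U : PE.Opens) : Scheme.{u}) ≅ Proj (𝒮E.deg U hU)}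
  {chartF : ∀ (U : Y.Opens) (hU : IsAffineOpen U), ((pF ⁻¹ᵁ U : PF.Opens) : Scheme.{u}) ≅ Proj (𝒮F.deg U hU)}
  (hE' : PE ⟶ P) (hhE : RelProj.IsProjQMap (RelProj.QGrHom.ofHom πE hπE) p chart pE chartE hE')
  (hcE : hE' ≫ p = pE)
  (hdE : ∀ (U : Y.Opens) (hU : IsAffineOpen U),
    RelCone.domOpen (φQ (RelProj.QGrHom.ofHom πE hπE) (pairId U hU)) = ⊤)
  (hF' : PF ⟶ P) (hhF : RelProj.IsProjQMap (RelProj.QGrHom.ofHom πF hπF) p chart pF chartF hF')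
  (hcF : hF' ≫ p = pF)
  (hdF : ∀ (U : Y.Opens) (hU : IsAffineOpen U),
    RelCone.domOpen (φQ (RelProj.QGrHom.ofHom πF hπF) (pairId U hU)) = ⊤)

omit [(E ⊞ F).IsQuasicoherent] in
theorem eq_emb_chart {Q : Scheme.{u}} {𝒯 : RelProj.QCGrAlg Y} (q : Q ⟶ Y)
    (chartQ : ∀ (U : Y.Opens) (hU : IsAffineOpen U), ((q ⁻¹ᵁ U : Q.Opens) : Scheme.{u}) ≅ Proj (𝒯.deg U hU))
    (U : Y.Opens) (hU : IsAffineOpen U) (a : Q) (ha : a ∈ q ⁻¹ᵁ U) :
    a = RelProj.emb q chartQ U hU ((chartQ U hU).hom ⟨a, ha⟩) := by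
  show a = ((chartQ U hU).inv ≫ (q ⁻¹ᵁ U).ι) _
  rw [Scheme.Hom.comp_apply, Scheme.hom_inv_apply]
  rfl

include hj hjπE hjπF hhE hhF hcE hcF hdE hdF in
/-- the images of `P(E)` and `P(F)` in `P(E ⊕ F)` are disjoint -/
theorem disjoint_images (a : PE) (b : PF) : hE' a ≠ hF' b := by
  intro heq
  obtain ⟨_, ⟨U, hU, rfl⟩, hzU, -⟩ := Y.isBasis_affineOpens.exists_subset_of_mem_open
    (show p (hE' a) ∈ ((⊤ : Y.Opens) : Set Y) from trivial) (⊤ : Y.Opens).isOpen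
  have haU : a ∈ pE ⁻¹ᵁ U := by
    show pE a ∈ U
    rw [← hcE, Scheme.Hom.comp_apply]
    exact hzU
  have hbU : b ∈ pF ⁻¹ᵁ U := by
    show pF b ∈ U
    rw [← hcF, Scheme.Hom.comp_apply, ← heq]
    exact hzU
  have hzU' : hE' a ∈ p ⁻¹ᵁ U := hzU
  have ha := eq_emb_chart pE chartE U hU a haU
  have hb := eq_emb_chart pF chartF U hU b hbU
  have hz := eq_emb_chart p chart U hU (hE' a) hzU'
  obtain ⟨x, hx⟩ := RLPsiV.exists_deg_one_not_mem hj hU ((chart U hU).hom ⟨hE' a, hzU'⟩)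
  have hdec := biprod_decomp E F U x
  have hsum : asR 𝒮.toQCAlg (j.app U x) =
      asR 𝒮.toQCAlg (j.app U ((biprod.inl : E ⟶ E ⊞ F).app U ((biprod.fst : E ⊞ F ⟶ E).app U x))) +
      asR 𝒮.toQCAlg (j.app U ((biprod.inr : F ⟶ E ⊞ F).app U ((biprod.snd : E ⊞ F ⟶ F).app U x))) := by
    conv_lhs => rw [hdec]
    rw [map_add]
    rfl
  have hor : asR 𝒮.toQCAlg (j.app U ((biprod.inl : E ⟶ E ⊞ F).app U ((biprod.fst : E ⊞ F ⟶ E).app U x))) ∉
        ((chart U hU).hom ⟨hE' a, hzU'⟩).asHomogeneousIdeal ∨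
      asR 𝒮.toQCAlg (j.app U ((biprod.inr : F ⟶ E ⊞ F).app U ((biprod.snd : E ⊞ F ⟶ F).app U x))) ∉
        ((chart U hU).hom ⟨hE' a, hzU'⟩).asHomogeneousIdeal := by
    by_contra hcon
    rw [not_or, not_not, not_not] at hcon
    apply hx
    rw [hsum]
    exact Ideal.add_mem _ hcon.1 hcon.2
  rcases hor with h | h
  · -- the point lies in `D₊(j(inl e))`, whose preimage in `P(F)` is empty
    have h1 := (RLPsiV.mem_WPU_iff (p := p) (chart := chart) hU _ _).2 h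
    rw [← hz, heq, hb] at h1
    have h2 := (mem_preimage_WPU_iff πF hπF hF' hhF U hU _ (hj.2 U hU _) _ (by rw [hdF U hU]; trivial)).1 h1
    apply h2
    rw [pi_j πF biprod.snd hjπF, biprod_inl_snd, map_zero]
    exact Ideal.zero_mem _
  · have h1 := (RLPsiV.mem_WPU_iff (p := p) (chart := chart) hU _ _).2 h
    rw [← hz, ha] at h1
    have h2 := (mem_preimage_WPU_iff πE hπE hE' hhE U hU _ (hj.2 U hU _) _ (by rw [hdE U hU]; trivial)).1 h1
    apply h2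
    rw [pi_j πE biprod.fst hjπE, biprod_inr_fst, map_zero]
    exact Ideal.zero_mem _

end disjoint

section coprodMap

variable {X X' Z Z' : Scheme.{u}} (i : X ⟶ Z) (i' : X' ⟶ Z')

theorem map_inl_apply (x : X) : (coprod.map i i') ((coprod.inl : X ⟶ X ⨿ X') x) = (coprod.inl : Z ⟶ Z ⨿ Z') (i x) := by
  rw [← Scheme.Hom.comp_apply, coprod.inl_map, Scheme.Hom.comp_apply]

theorem map_inr_apply (x : X') : (coprod.map i i') ((coprod.inr : X' ⟶ X ⨿ X') x) = (coprod.inr : Z' ⟶ Z ⨿ Z') (i' x) := by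
  rw [← Scheme.Hom.comp_apply, coprod.inr_map, Scheme.Hom.comp_apply]

theorem preimage_inl_range :
    (coprod.map i i') ⁻¹ᵁ (coprod.inl : Z ⟶ Z ⨿ Z').opensRange = (coprod.inl : X ⟶ X ⨿ X').opensRange := by
  ext z
  constructor
  · rintro ⟨w, hw⟩
    rcases coprod_cases z with ⟨x, rfl⟩ | ⟨y, rfl⟩
    · exact ⟨x, rfl⟩
    · exfalso
      rw [map_inr_apply] at hw
      exact inl_ne_inr _ _ _ _ hw
  · rintro ⟨x, rfl⟩
    exact ⟨i x, (map_inl_apply i i' x).symm⟩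

theorem preimage_inr_range :
    (coprod.map i i') ⁻¹ᵁ (coprod.inr : Z' ⟶ Z ⨿ Z').opensRange = (coprod.inr : X' ⟶ X ⨿ X').opensRange := by
  ext z
  constructor
  · rintro ⟨w, hw⟩
    rcases coprod_cases z with ⟨x, rfl⟩ | ⟨y, rfl⟩
    · exfalso
      rw [map_inl_apply] at hw
      exact inl_ne_inr _ _ _ _ hw.symm
    · exact ⟨y, rfl⟩
  · rintro ⟨x, rfl⟩
    exact ⟨i' x, (map_inr_apply i i' x).symm⟩

/-- a target-local property holds for a disjoint union of two morphisms having it -/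
theorem coprodMap_of_isZariskiLocalAtTarget (Pr : MorphismProperty Scheme.{u}) [IsZariskiLocalAtTarget Pr]
    (h : Pr i) (h' : Pr i') : Pr (coprod.map i i') := by
  refine ProjMap.of_isPullback_openCover Pr (coprod.map i i') (coprodOpenCover.{u, u} Z Z')
    (fun t => t.elim (fun _ => X) (fun _ => X')) (fun t => ?_) (fun t => ?_) (fun t => ?_) (fun t => ?_)
  · rcases t with t | t
    · exact (coprod.inl : X ⟶ X ⨿ X')
    · exact (coprod.inr : X' ⟶ X ⨿ X')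
  · rcases t with t | t
    · exact i
    · exact i'
  · rcases t with t | t
    · exact IsOpenImmersion.isPullback i (coprod.inl : X ⟶ X ⨿ X') (coprod.inl : Z ⟶ Z ⨿ Z') (coprod.map i i')
        (coprod.inl_map i i') (preimage_inl_range i i')
    · exact IsOpenImmersion.isPullback i' (coprod.inr : X' ⟶ X ⨿ X') (coprod.inr : Z' ⟶ Z ⨿ Z') (coprod.map i i')
        (coprod.inr_map i i') (preimage_inr_range i i')
  · rcases t with t | t
    · exact h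
    · exact h'

end coprodMap

section main

variable {X X' Y : Scheme.{u}} (f'' : X ⨿ X' ⟶ Y) (L'' : (X ⨿ X').Modules)

/-- restriction of a relatively very ample module to the first summand -/
theorem isRelVeryAmple_inl (h : RelProj.IsRelVeryAmple f'' L'') :
    RelProj.IsRelVeryAmple (coprod.inl ≫ f'') ((Scheme.Modules.pullback (coprod.inl : X ⟶ X ⨿ X')).obj L'') := by
  obtain ⟨E, hE, 𝒮, j, hj, P, p, chart, hP, O1, lam, hO, i, himm, hcomp, ⟨e⟩⟩ := h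
  refine ⟨E, hE, 𝒮, j, hj, P, p, chart, hP, O1, lam, hO, coprod.inl ≫ i, inferInstance, ?_, ⟨?_⟩⟩
  · rw [Category.assoc, hcomp]
  · exact (Scheme.Modules.pullback (coprod.inl : X ⟶ X ⨿ X')).mapIso e ≪≫
      (Scheme.Modules.pullbackComp (coprod.inl : X ⟶ X ⨿ X') i).app O1

/-- restriction of a relatively very ample module to the second summand -/
theorem isRelVeryAmple_inr (h : RelProj.IsRelVeryAmple f'' L'') :
    RelProj.IsRelVeryAmple (coprod.inr ≫ f'') ((Scheme.Modules.pullback (coprod.inr : X' ⟶ X ⨿ X')).obj L'') := by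
  obtain ⟨E, hE, 𝒮, j, hj, P, p, chart, hP, O1, lam, hO, i, himm, hcomp, ⟨e⟩⟩ := h
  refine ⟨E, hE, 𝒮, j, hj, P, p, chart, hP, O1, lam, hO, coprod.inr ≫ i, inferInstance, ?_, ⟨?_⟩⟩
  · rw [Category.assoc, hcomp]
  · exact (Scheme.Modules.pullback (coprod.inr : X' ⟶ X ⨿ X')).mapIso e ≪≫
      (Scheme.Modules.pullbackComp (coprod.inr : X' ⟶ X ⨿ X') i).app O1

/-- **EGA II 4.4.10 (iv)**, the nontrivial direction -/
theorem isRelVeryAmple_of_inl_inr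
    (h1 : RelProj.IsRelVeryAmple (coprod.inl ≫ f'') ((Scheme.Modules.pullback (coprod.inl : X ⟶ X ⨿ X')).obj L''))
    (h2 : RelProj.IsRelVeryAmple (coprod.inr ≫ f'') ((Scheme.Modules.pullback (coprod.inr : X' ⟶ X ⨿ X')).obj L'')) :
    RelProj.IsRelVeryAmple f'' L'' := by
  obtain ⟨E, hE, 𝒮E, jE, hjE, PE, pE, chartE, hPE, O1E, lamE, hOE, i, himm, hcomp, ⟨e⟩⟩ := h1
  obtain ⟨F, hF, 𝒮F, jF, hjF, PF, pF, chartF, hPF, O1F, lamF, hOF, i', himm', hcomp', ⟨e'⟩⟩ := h2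
  have : E.IsQuasicoherent := hE
  have : F.IsQuasicoherent := hF
  have hB : (E ⊞ F).IsQuasicoherent := isQuasicoherent_biprod
  have hQC := isQC_symPre_of_isQuasicoherent (E ⊞ F)
  have hj := isGrSymAlg (E ⊞ F) hQC
  have hP := RelProjExists.isRelProj (grSymAlg (E ⊞ F) hQC)
  have hO := RelTwistEx.isRelTwist hP 1
  obtain ⟨πE, hπE, hE', hjπE, hhE, hciE, hcE, hdE⟩ :=
    exists_retract_map hj hjE biprod.fst biprod.inl biprod.inl_fst hP hPE
  obtain ⟨πF, hπF, hF', hjπF, hhF, hciF, hcF, hdF⟩ :=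
    exists_retract_map hj hjF biprod.snd biprod.inr biprod.inr_snd hP hPF
  have hdisj := disjoint_images hj πE hπE hjπE πF hπF hjπF hE' hhE hcE hdE hF' hhF hcF hdF
  have hci : IsClosedImmersion (coprod.desc hE' hF') := isClosedImmersion_coprodDesc _ _ hdisj
  have himm'' : IsImmersion (coprod.map i i') :=
    coprodMap_of_isZariskiLocalAtTarget i i' @IsImmersion himm himm'
  obtain ⟨tE⟩ := RLPsiV.nonempty_pullback_iso_of_isGrSymAlg hj (RelProj.QGrHom.ofHom πE hπE) hP hPE hO hOE hE' hhE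
  obtain ⟨tF⟩ := RLPsiV.nonempty_pullback_iso_of_isGrSymAlg hj (RelProj.QGrHom.ofHom πF hπF) hP hPF hO hOF hF' hhF
  have hl : coprod.inl ≫ coprod.map i i' ≫ coprod.desc hE' hF' = i ≫ hE' := by
    rw [← Category.assoc, coprod.inl_map, Category.assoc, coprod.inl_desc]
  have hr : coprod.inr ≫ coprod.map i i' ≫ coprod.desc hE' hF' = i' ≫ hF' := by
    rw [← Category.assoc, coprod.inr_map, Category.assoc, coprod.inr_desc]
  refine ⟨E ⊞ F, hB, grSymAlg (E ⊞ F) hQC, grJ (E ⊞ F) hQC, hj, _, _, _, hP, _, _, hO,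
    coprod.map i i' ≫ coprod.desc hE' hF', inferInstance, ?_, ?_⟩
  · apply coprod.hom_ext
    · rw [← Category.assoc, hl, Category.assoc, hcE, hcomp]
    · rw [← Category.assoc, hr, Category.assoc, hcF, hcomp']
  · refine CoprodMod.nonempty_iso_of_pullback_iso (coprod.inl : X ⟶ X ⨿ X') (coprod.inr : X' ⟶ X ⨿ X')
      (isCompl_opensRange_inl_inr X X') _ _ ?_ ?_
    · exact e ≪≫ (Scheme.Modules.pullback i).mapIso tE.symm ≪≫
        (Scheme.Modules.pullbackComp i hE').app _ ≪≫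
        (Scheme.Modules.pullbackCongr hl.symm).app _ ≪≫
        ((Scheme.Modules.pullbackComp (coprod.inl : X ⟶ X ⨿ X') (coprod.map i i' ≫ coprod.desc hE' hF')).app _).symm
    · exact e' ≪≫ (Scheme.Modules.pullback i').mapIso tF.symm ≪≫
        (Scheme.Modules.pullbackComp i' hF').app _ ≪≫
        (Scheme.Modules.pullbackCongr hr.symm).app _ ≪≫
        ((Scheme.Modules.pullbackComp (coprod.inr : X' ⟶ X ⨿ X') (coprod.map i i' ≫ coprod.desc hE' hF')).app _).symm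

theorem isRelVeryAmple_coprod_iff :
    RelProj.IsRelVeryAmple f'' L'' ↔
      RelProj.IsRelVeryAmple (coprod.inl ≫ f'') ((Scheme.Modules.pullback (coprod.inl : X ⟶ X ⨿ X')).obj L'') ∧
        RelProj.IsRelVeryAmple (coprod.inr ≫ f'') ((Scheme.Modules.pullback (coprod.inr : X' ⟶ X ⨿ X')).obj L'') :=
  ⟨fun h => ⟨isRelVeryAmple_inl f'' L'' h, isRelVeryAmple_inr f'' L'' h⟩,
    fun h => isRelVeryAmple_of_inl_inr f'' L'' h.1 h.2⟩

end main

end Groth.Agent.Lib.Helper28.VACoprod
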