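import Groth.Agent.Lib.Helper28.PEPull2
import Groth.Agent.Lib.Helper28.SymGrAlg
import Groth.Agent.Lib.Helper28.RelProjExists
import Groth.Agent.Lib.Helper28.RelTwistEx3
import Groth.Agent.Lib.Helper28.SymAlgProjBC
import Groth.Agent.Lib.Helper28.ProjSymLine
import Groth.Agent.Lib.Helper28.InvQC
import Groth.Agent.Lib.Helper28.AmpleIso
import Groth.Agent.Lib.Helper28.QCohPush
import Groth.Agent.Lib.Helper17.ModPullback

/-!
# An invertible module is very ample relative to a quasi-compact open immersion
-/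

set_option autoImplicit false
universe u
open CategoryTheory CategoryTheory.Limits AlgebraicGeometry TopologicalSpace Opposite
open scoped HomogeneousIdeal

namespace Groth.Agent.Lib.Helper28.VAOpenImm

open Groth.Agent.Lib.Helper28

/-- `g^* g_* L ≅ L` for an open immersion `g` -/
noncomputable def pullbackPushforwardIso {X S : Scheme.{u}} (g : X ⟶ S) [IsOpenImmersion g] (L : X.Modules) :
    (Scheme.Modules.pullback g).obj ((Scheme.Modules.pushforward g).obj L) ≅ L :=
  ((Scheme.Modules.restrictFunctorIsoPullback g).app ((Scheme.Modules.pushforward g).obj L)).symm ≪≫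
    asIso ((Scheme.Modules.restrictAdjunction g).counit.app L)

/-- an invertible module is very ample relative to a quasi-compact open immersion -/
theorem isRelVeryAmple_of_isOpenImmersion {X S : Scheme.{u}} (g : X ⟶ S) [IsOpenImmersion g] [QuasiCompact g]
    (L : X.Modules) (hL : PicF.IsInvertible L) : RelProj.IsRelVeryAmple g L := by
  classical
  have : L.IsQuasicoherent := InvQC.isQuasicoherent_of_isInvertible L hL
  have hE : ((Scheme.Modules.pushforward g).obj L).IsQuasicoherent := QCohLoc.isQuasicoherent_pushforward g L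
  have hQC₀ := SymAlg.isQC_symPre_of_isQuasicoherent ((Scheme.Modules.pushforward g).obj L)
  have hS := SymAlg.isGrSymAlg ((Scheme.Modules.pushforward g).obj L) hQC₀
  have hP := RelProjExists.isRelProj (SymAlg.grSymAlg ((Scheme.Modules.pushforward g).obj L) hQC₀)
  have hO := RelTwistEx.isRelTwist hP 1
  have hO1 : RelProj.IsRelTwist (SymAlg.grSymAlg ((Scheme.Modules.pushforward g).obj L) hQC₀)
      (RelProjExists.p (SymAlg.grSymAlg ((Scheme.Modules.pushforward g).obj L) hQC₀))
      (RelProjExists.chart (SymAlg.grSymAlg ((Scheme.Modules.pushforward g).obj L) hQC₀))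
      ((1 : ℕ) : ℤ) _ _ := hO
  -- the pulled back module
  have hE' : ((Scheme.Modules.pullback g).obj ((Scheme.Modules.pushforward g).obj L)).IsQuasicoherent :=
    Groth.Agent.Lib.Helper17.ModPullback.isQuasicoherent_pullback g _
  have hinv' : PicF.IsInvertible ((Scheme.Modules.pullback g).obj ((Scheme.Modules.pushforward g).obj L)) :=
    AmpleIso.isInvertible_of_iso (pullbackPushforwardIso g L).symm hL
  have hQC := SymAlg.isQC_symPre_of_isQuasicoherent
    ((Scheme.Modules.pullback g).obj ((Scheme.Modules.pushforward g).obj L))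
  have hS' := SymAlg.isGrSymAlg ((Scheme.Modules.pullback g).obj ((Scheme.Modules.pushforward g).obj L)) hQC
  have hP' := RelProjExists.isRelProj
    (SymAlg.grSymAlg ((Scheme.Modules.pullback g).obj ((Scheme.Modules.pushforward g).obj L)) hQC)
  have hO' := RelTwistEx.isRelTwist hP' 1
  have hO'' : RelProj.IsRelTwist
      (SymAlg.grSymAlg ((Scheme.Modules.pullback g).obj ((Scheme.Modules.pushforward g).obj L)) hQC)
      (RelProjExists.p (SymAlg.grSymAlg ((Scheme.Modules.pullback g).obj ((Scheme.Modules.pushforward g).obj L)) hQC))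
      (RelProjExists.chart (SymAlg.grSymAlg ((Scheme.Modules.pullback g).obj ((Scheme.Modules.pushforward g).obj L)) hQC))
      ((1 : ℕ) : ℤ) _ _ := hO'
  obtain ⟨h, hh⟩ := RelProjQ.exists_isProjQMap (SymAlg.grQHom g hS hS') _ _ hP _ _ hP'
    (SymAlg.isQBaseChange_grQHom g hS hS')
  have hpb : IsPullback h _ _ g := RelProjQ.isPullback_of_isProjQMap
    (SymAlg.grQHom g hS hS') _ _ hP _ _ hP' (SymAlg.isQBaseChange_grQHom g hS hS') h hh
  obtain ⟨τ₁⟩ := RLPsiV.nonempty_pullback_iso_of_isGrSymAlg hS (SymAlg.grQHom g hS hS') hP hP' hO1 hO'' h hh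
  obtain ⟨τ₂⟩ := RLPsiV.nonempty_pullback_iso_O1 hS' hP' hO'' hinv'
  have hiso : IsIso (RelProjExists.p
      (SymAlg.grSymAlg ((Scheme.Modules.pullback g).obj ((Scheme.Modules.pushforward g).obj L)) hQC)) :=
    SymAlg.isIso_proj_symLine hinv' hS' _ _ hP'
  have hoi : IsOpenImmersion h := MorphismProperty.of_isPullback hpb.flip (inferInstance : IsOpenImmersion g)
  have hw : (inv (RelProjExists.p
      (SymAlg.grSymAlg ((Scheme.Modules.pullback g).obj ((Scheme.Modules.pushforward g).obj L)) hQC)) ≫ h) ≫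
      RelProjExists.p (SymAlg.grSymAlg ((Scheme.Modules.pushforward g).obj L) hQC₀) = g := by
    rw [Category.assoc, hpb.w, IsIso.inv_hom_id_assoc]
  refine ⟨(Scheme.Modules.pushforward g).obj L, hE, _, _, hS, _, _, _, hP, _, _, hO,
    inv (RelProjExists.p
      (SymAlg.grSymAlg ((Scheme.Modules.pullback g).obj ((Scheme.Modules.pushforward g).obj L)) hQC)) ≫ h,
    inferInstance, hw, ⟨?_⟩⟩
  exact (pullbackPushforwardIso g L).symm ≪≫
    ((Scheme.Modules.pullbackId X).app _).symm ≪≫
    ((Scheme.Modules.pullbackCongr (IsIso.inv_hom_id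
      (RelProjExists.p (SymAlg.grSymAlg ((Scheme.Modules.pullback g).obj ((Scheme.Modules.pushforward g).obj L)) hQC))).symm).app _) ≪≫
    ((Scheme.Modules.pullbackComp _ _).app _).symm ≪≫
    (Scheme.Modules.pullback _).mapIso (τ₂ ≪≫ τ₁.symm) ≪≫
    ((Scheme.Modules.pullbackComp _ h).app _)

end Groth.Agent.Lib.Helper28.VAOpenImm
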