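import Groth.Agent.Lib.Helper28.VeryAmpleQP
import Groth.Agent.Lib.Helper28.AmpleCompose

/-!
# Immersions into projective space over a base with an ample module (helper28)
-/

set_option autoImplicit false
universe u
open CategoryTheory CategoryTheory.Limits AlgebraicGeometry Opposite TopologicalSpace
noncomputable section

namespace Groth.Agent.Lib.Helper28.VeryAmpleBase

open Groth.Agent.Lib.Helper28 Groth.Agent.Lib.Helper28.QCohLoc Groth.Agent.Lib.Helper28.GenLocus
  Groth.Agent.Lib.Helper28.PullbackInv Groth.Agent.Lib.Helper28.ProjUPUniq Groth.Agent.Lib.Helper28.ProjUPGeom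
  Groth.Agent.Lib.Helper28.VeryAmpleImm Groth.Agent.Lib.Helper28.VeryAmpleGen
  Groth.Agent.Lib.Helper28.VeryAmpleConv Groth.Agent.Lib.Helper28.VeryAmpleLocal
  Groth.Agent.Lib.Helper28.VeryAmpleQP

variable {X S : Scheme.{u}}

/-- if the base has an ample module and `L` is `f`-ample then the source has an ample module -/
theorem exists_isAmple_of_isRelAmple (f : X ⟶ S) [QuasiCompact f] {N : S.Modules} (hN : CohB1.IsAmple N)
    {L : X.Modules} (hL : RelAmple.IsRelAmple f L) : ∃ L' : X.Modules, CohB1.IsAmple L' := by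
  have : CompactSpace S := hN.2.1
  have hK : RelAmple.IsRelAmple (specULiftZIsTerminal.from S) N :=
    (Groth.Agent.S4381.result (specULiftZIsTerminal.from S) N).2 hN
  obtain ⟨n₀, -, h⟩ := AmpleCompose.exists_forall_isRelAmple_comp f (specULiftZIsTerminal.from S) L N hL hK
  exact ⟨_, (Groth.Agent.S4381.result (f ≫ specULiftZIsTerminal.from S) _).1 (h n₀ le_rfl)⟩

theorem isRelAmple_of_isAmple (f : X ⟶ S) [QuasiCompact f] {L : X.Modules} (hL : CohB1.IsAmple L) :
    RelAmple.IsRelAmple f L :=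
  ⟨inferInstance, fun V => GenLocus.isAmple_restrict hL (f ⁻¹ᵁ V.1) (f.isCompact_preimage V.2.isCompact)⟩

/-- S1497 -/
theorem immersion_iff_of_ample_base (hS : ∃ N : S.Modules, CohB1.IsAmple N) (f : X ⟶ S) :
    (∃ (n : ℕ) (i : X ⟶ CohB1.ProjSpaceOver n S), IsImmersion i ∧ QuasiCompact i ∧
      i ≫ pullback.snd (CohB1.ProjSpace.toSpec n (ULift.{u} ℤ)) (specULiftZIsTerminal.from S) = f) ↔
      (LocallyOfFiniteType f ∧ QuasiCompact f ∧ ∃ L : X.Modules, CohB1.IsAmple L) := by
  obtain ⟨N, hN⟩ := hS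
  constructor
  · intro h
    obtain ⟨hlft, hqc, L, hL⟩ := isQuasiProjective_of_isHQuasiProjective f h
    exact ⟨hlft, hqc, exists_isAmple_of_isRelAmple f hN hL⟩
  · rintro ⟨hlft, hqc, L, hL⟩
    exact isHQuasiProjective_of_isAmple f hL

set_option maxHeartbeats 800000 in
/-- S1496 -/
theorem closedImmersion_iff_of_ample_base (hS : ∃ N : S.Modules, CohB1.IsAmple N) (f : X ⟶ S) :
    ((∃ (n : ℕ) (i : X ⟶ CohB1.ProjSpaceOver n S), IsClosedImmersion i ∧
        i ≫ pullback.snd (CohB1.ProjSpace.toSpec n (ULift.{u} ℤ)) (specULiftZIsTerminal.from S) = f) ↔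
      (IsProper f ∧ ∃ L : X.Modules, CohB1.IsAmple L)) ∧
    ((IsProper f ∧ ∃ L : X.Modules, CohB1.IsAmple L) ↔
      (IsProper f ∧ ∃ L : X.Modules, RelAmple.IsRelAmple f L)) := by
  obtain ⟨N, hN⟩ := hS
  refine ⟨⟨?_, ?_⟩, ⟨?_, ?_⟩⟩
  · rintro ⟨n, i, hi, hcomp⟩
    have hprop2 := ProjSpaceBasic.isProper_toBase n S
    have hp : IsProper f := by
      have : IsProper (i ≫ CohB1.ProjSpaceOver.toBase n S) := inferInstance
      exact hcomp ▸ this
    refine ⟨hp, ?_⟩
    obtain ⟨-, -, L, hL⟩ := isQuasiProjective_of_isHQuasiProjective f ⟨n, i, inferInstance, inferInstance, hcomp⟩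
    exact exists_isAmple_of_isRelAmple f hN hL
  · rintro ⟨hp, L, hL⟩
    obtain ⟨n, i, hi, hqc, hcomp⟩ := isHQuasiProjective_of_isAmple f hL
    have hprop2 := ProjSpaceBasic.isProper_toBase n S
    have hip : IsProper i := by
      have : IsProper (i ≫ CohB1.ProjSpaceOver.toBase n S) := hcomp ▸ hp
      exact IsProper.of_comp i (CohB1.ProjSpaceOver.toBase n S)
    have hcl : IsClosedImmersion i :=
      IsClosedImmersion.of_isPreimmersion i i.isClosedMap.isClosed_range
    exact ⟨n, i, hcl, hcomp⟩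
  · rintro ⟨hp, L, hL⟩
    exact ⟨hp, L, isRelAmple_of_isAmple f hL⟩
  · rintro ⟨hp, L, hL⟩
    exact ⟨hp, exists_isAmple_of_isRelAmple f hN hL⟩

end Groth.Agent.Lib.Helper28.VeryAmpleBase
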