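import Mathlib

set_option autoImplicit false
open Finset

namespace Groth.Agent.Lib.Helper28.VeryAmpleProj

theorem exists_le_sum_eq {s : ℕ} (q : Fin s → ℕ) (k : ℕ) (hk : k ≤ ∑ i, q i) :
    ∃ q' : Fin s → ℕ, (∀ i, q' i ≤ q i) ∧ ∑ i, q' i = k := by
  induction k with
  | zero => exact ⟨fun _ => 0, fun _ => Nat.zero_le _, by simp⟩
  | succ k ih =>
    obtain ⟨q', hq', hsum⟩ := ih (by omega)
    have : ∃ i, q' i < q i := by
      by_contra hcon
      push Not at hcon
      have h1 : ∑ i, q i ≤ ∑ i, q' i := Finset.sum_le_sum fun i _ => hcon i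
      omega
    obtain ⟨i, hi⟩ := this
    refine ⟨fun j => q' j + (if j = i then 1 else 0), ?_, ?_⟩
    · intro j
      by_cases hj : j = i
      · subst hj; simp; omega
      · simp only [hj, if_false, add_zero]; exact hq' j
    · rw [Finset.sum_add_distrib, hsum, Finset.sum_ite_eq' Finset.univ i]
      simp

theorem exists_sub_weight {s : ℕ} (deg : Fin s → ℕ) (hdeg : ∀ i, 0 < deg i) (a : ℕ) (ha : 0 < a) (has : s - 1 ≤ a)
    (β : Fin s → ℕ) (c : ℕ) (hβ : ∑ i, β i * deg i = (c + 2) * (a * Finset.univ.lcm deg)) :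
    ∃ γ : Fin s → ℕ, (∀ i, γ i ≤ β i) ∧ ∑ i, γ i * deg i = a * Finset.univ.lcm deg := by
  set l := Finset.univ.lcm deg with hl
  have hlpos : 0 < l := by
    rw [Nat.pos_iff_ne_zero, hl, Ne, Finset.lcm_eq_zero_iff]
    rintro ⟨i, -, hi⟩
    exact (hdeg i).ne' hi
  have hdvd : ∀ i, deg i ∣ l := fun i => Finset.dvd_lcm (Finset.mem_univ i)
  let p : Fin s → ℕ := fun i => l / deg i
  have hp : ∀ i, p i * deg i = l := fun i => Nat.div_mul_cancel (hdvd i)
  have hppos : ∀ i, 0 < p i := fun i => Nat.div_pos (Nat.le_of_dvd hlpos (hdvd i)) (hdeg i)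
  let q : Fin s → ℕ := fun i => β i / p i
  let r : Fin s → ℕ := fun i => β i % p i
  have hβi : ∀ i, β i = p i * q i + r i := fun i => (Nat.div_add_mod (β i) (p i)).symm
  have hr : ∀ i, r i < p i := fun i => Nat.mod_lt _ (hppos i)
  set ρ := ∑ i, r i * deg i with hρ
  have hsum : ∑ i, β i * deg i = (∑ i, q i) * l + ρ := by
    rw [hρ, Finset.sum_mul, ← Finset.sum_add_distrib]
    refine Finset.sum_congr rfl fun i _ => ?_
    rw [hβi i]
    have := hp i
    calc (p i * q i + r i) * deg i = q i * (p i * deg i) + r i * deg i := by ring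
      _ = q i * l + r i * deg i := by rw [hp i]
  have hspos : 0 < s := by
    rcases Nat.eq_zero_or_pos s with h0 | h0
    · subst h0
      simp at hβ
      have : 0 < (c + 2) * (a * l) := by positivity
      omega
    · exact h0
  have hρlt : ρ < s * l := by
    have h1 : ∀ i ∈ (Finset.univ : Finset (Fin s)), r i * deg i < l := fun i _ => by
      rw [← hp i]
      exact Nat.mul_lt_mul_of_pos_right (hr i) (hdeg i)
    have : Nonempty (Fin s) := ⟨⟨0, hspos⟩⟩
    have h2 := Finset.sum_lt_sum_of_nonempty (Finset.univ_nonempty (α := Fin s)) h1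
    simpa using h2
  have hdvdρ : l ∣ ρ := by
    have h1 : l ∣ (∑ i, q i) * l + ρ := by
      rw [← hsum, hβ]
      exact Dvd.intro_left ((c + 2) * a) (by ring)
    exact (Nat.dvd_add_right (Dvd.intro_left _ rfl)).1 h1
  obtain ⟨t, ht⟩ := hdvdρ
  have htlt : t < s := by
    rw [ht, mul_comm] at hρlt
    exact Nat.lt_of_mul_lt_mul_right hρlt
  have hta : t ≤ a := by omega
  have hQ : (∑ i, q i) + t = (c + 2) * a := by
    have h1 : ((∑ i, q i) + t) * l = ((c + 2) * a) * l := by
      rw [add_mul, mul_comm t l, ← ht, ← hsum, hβ]; ring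
    exact Nat.eq_of_mul_eq_mul_right hlpos h1
  have hk : a - t ≤ ∑ i, q i := by
    have : a ≤ (c + 2) * a := Nat.le_mul_of_pos_left a (by omega)
    omega
  obtain ⟨q', hq', hq'sum⟩ := exists_le_sum_eq q (a - t) hk
  refine ⟨fun i => p i * q' i + r i, fun i => ?_, ?_⟩
  · rw [hβi i]
    exact Nat.add_le_add_right (Nat.mul_le_mul_left _ (hq' i)) _
  · have h1 : ∑ i, (p i * q' i + r i) * deg i = (∑ i, q' i) * l + ρ := by
      rw [hρ, Finset.sum_mul, ← Finset.sum_add_distrib]
      refine Finset.sum_congr rfl fun i _ => ?_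
      calc (p i * q' i + r i) * deg i = q' i * (p i * deg i) + r i * deg i := by ring
        _ = q' i * l + r i * deg i := by rw [hp i]
    rw [h1, hq'sum, ht, Nat.sub_mul]
    have : t * l ≤ a * l := Nat.mul_le_mul_right l hta
    rw [mul_comm l t]
    omega

end Groth.Agent.Lib.Helper28.VeryAmpleProj
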