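import Groth.Agent.Lib.Helper28.VeryAmpleGen
import Groth.Agent.Lib.Helper28.VeryAmpleConv
import Groth.Agent.Lib.Helper28.AmpleBaseChange
import Groth.Agent.S4381
import Groth.Agent.S4387

/-!
# Very ample (P^n form) implies relatively ample; local characterisation (helper28)
-/

set_option autoImplicit false
universe u
open CategoryTheory CategoryTheory.Limits AlgebraicGeometry Opposite TopologicalSpace
noncomputable section

namespace Groth.Agent.Lib.Helper28.VeryAmpleLocal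

open Groth.Agent.Lib.Helper28 Groth.Agent.Lib.Helper28.QCohLoc Groth.Agent.Lib.Helper28.GenLocus
  Groth.Agent.Lib.Helper28.PullbackInv Groth.Agent.Lib.Helper28.ProjUPUniq Groth.Agent.Lib.Helper28.ProjUPGeom
  Groth.Agent.Lib.Helper28.VeryAmpleImm Groth.Agent.Lib.Helper28.VeryAmpleGen
  Groth.Agent.Lib.Helper28.VeryAmpleConv

variable {X Y : Scheme.{u}}

theorem isRelVeryAmplePn_of_iso (q : X ⟶ Y) {M M' : X.Modules} (e : M ≅ M')
    (h : RelAmple.IsRelVeryAmplePn q M) : RelAmple.IsRelVeryAmplePn q M' := by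
  obtain ⟨N, i, hi, hiq, ⟨φ⟩⟩ := h
  exact ⟨N, i, hi, hiq, ⟨e.symm ≪≫ φ⟩⟩

theorem isRelAmple_of_iso (q : X ⟶ Y) {M M' : X.Modules} (e : M ≅ M')
    (h : RelAmple.IsRelAmple q M) : RelAmple.IsRelAmple q M' := by
  refine ⟨h.1, fun V => ?_⟩
  exact AmpleIso.isAmple_of_iso ((Scheme.Modules.restrictFunctor (q ⁻¹ᵁ V.1).ι).mapIso e) (h.2 V)

set_option maxHeartbeats 800000 in
/-- very ample (projective space form) implies relatively ample, any base -/
theorem isRelAmple_of_isRelVeryAmplePn (q : X ⟶ Y) [QuasiCompact q] {M : X.Modules}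
    (h : RelAmple.IsRelVeryAmplePn q M) : RelAmple.IsRelAmple q M := by
  obtain ⟨N, i, hi, hiq, ⟨φ⟩⟩ := h
  subst hiq
  have hprop := ProjSpaceBasic.isProper_toSpec N (ULift.{u} ℤ)
  have hcpt0 : CompactSpace (CohB1.ProjSpace N (ULift.{u} ℤ)) :=
    QuasiCompact.compactSpace_of_compactSpace (CohB1.ProjSpace.toSpec N (ULift.{u} ℤ))
  have hcpt : CompactSpace (Proj (CohB1.polyGrading N (ULift.{u} ℤ))) := hcpt0
  have hO1 : CohB1.IsAmple (Twist.twist (CohB1.polyGrading N (ULift.{u} ℤ)) ((1 : ℕ) : ℤ)) :=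
    TwistGenD.isAmple_twist_of_cover _ 1 one_pos (projSpace_cover N _)
  have h1 : RelAmple.IsRelAmple (CohB1.ProjSpace.toSpec N (ULift.{u} ℤ))
      (Twist.twistProjSpace N (ULift.{u} ℤ) 1) :=
    (Groth.Agent.S4381.result (CohB1.ProjSpace.toSpec N (ULift.{u} ℤ)) _).2 hO1
  have h2 : RelAmple.IsRelAmple
      (pullback.snd (CohB1.ProjSpace.toSpec N (ULift.{u} ℤ)) (specULiftZIsTerminal.from Y))
      (Twist.twistOver N Y 1) :=
    AmpleLocal.isRelAmple_baseChange (CohB1.ProjSpace.toSpec N (ULift.{u} ℤ)) (specULiftZIsTerminal.from Y) _ h1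
  have hprop2 := ProjSpaceBasic.isProper_toBase N Y
  have hqc : QuasiCompact i := by
    have h1 : QuasiCompact (i ≫ CohB1.ProjSpaceOver.toBase N Y) := by
      show QuasiCompact (i ≫ pullback.snd _ _)
      infer_instance
    exact QuasiCompact.of_comp i (CohB1.ProjSpaceOver.toBase N Y)
  have hqa : Mor2.IsQuasiAffine i := ⟨hqc, fun V hV => isQuasiAffine_preimage_of_isImmersion i V hV⟩
  have h3 := isRelAmple_pullback_of_quasiAffine
    (pullback.snd (CohB1.ProjSpace.toSpec N (ULift.{u} ℤ)) (specULiftZIsTerminal.from Y)) i hqa _ h2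
  exact isRelAmple_of_iso _ φ.symm h3

variable {S : Scheme.{u}}

set_option maxHeartbeats 800000 in
theorem isRelAmple_iff_locally_veryAmple (f : X ⟶ S)
    [LocallyOfFiniteType f] [QuasiCompact f] (L : X.Modules) (hLinv : PicF.IsInvertible L) :
    RelAmple.IsRelAmple f L ↔
      ∃ (ι : Type u) (V : ι → S.Opens), (⨆ j, V j) = ⊤ ∧
        ∀ j, ∃ d : ℕ, 0 < d ∧
          RelAmple.IsRelVeryAmplePn (f ∣_ V j) ((CohB1.tensorPow L d).restrict (f ⁻¹ᵁ V j).ι) := by
  constructor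
  · intro hA
    refine ⟨S.affineOpens, fun j => j.1, iSup_affineOpens_eq_top S, fun j => ?_⟩
    have hj : CohB1.IsAmple (L.restrict (f ⁻¹ᵁ j.1).ι) := hA.2 j
    obtain ⟨n₀, hn₀⟩ := exists_forall_isRelVeryAmplePn_gen (f ∣_ j.1) hj hj.1
    refine ⟨n₀ + 1, Nat.succ_pos _, ?_⟩
    obtain ⟨e⟩ := exists_restrict_tensorPow_iso L (f ⁻¹ᵁ j.1) hj.1 (n₀ + 1)
    exact isRelVeryAmplePn_of_iso _ e.symm (hn₀ n₀ le_rfl)
  · rintro ⟨ι, V, hV, h⟩
    rw [AmpleLocal.isRelAmple_iff_of_iSup_eq_top f L V hV]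
    intro j
    obtain ⟨d, hd, hva⟩ := h j
    have h1 := isRelAmple_of_isRelVeryAmplePn (f ∣_ V j) hva
    have hLU := AmpleIso.isInvertible_restrict (f ⁻¹ᵁ V j).ι L hLinv
    obtain ⟨e⟩ := exists_restrict_tensorPow_iso L (f ⁻¹ᵁ V j) hLU d
    rw [Groth.Agent.S4387.result (f ∣_ V j) _ hLU d hd]
    exact isRelAmple_of_iso _ e h1


end Groth.Agent.Lib.Helper28.VeryAmpleLocal
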