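import Groth.Agent.Lib.Helper28.VeryAmpleProj
import Groth.Agent.Lib.Helper28.VeryAmpleComb
import Groth.Agent.Lib.Helper28.TwistGenDMul

set_option autoImplicit false
universe u
open CategoryTheory CategoryTheory.Limits AlgebraicGeometry Opposite TopologicalSpace
open HomogeneousLocalization
noncomputable section

namespace Groth.Agent.Lib.Helper28.VeryAmpleProj

open Groth.Agent.Lib.Helper28 Groth.Agent.Lib.Helper28.QCohLoc

section H
variable {R A : Type u} [CommRing R] [CommRing A] [Algebra R A] (𝒜 : ℕ → Submodule R A) [GradedAlgebra 𝒜]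
variable {s : ℕ} (f : Fin s → A) (deg : Fin s → ℕ)

/-- the monomial `∏ f_i ^ β_i` -/
def mono (β : Fin s → ℕ) : A := ∏ i, f i ^ β i

/-- the weight of an exponent vector -/
def wt (β : Fin s → ℕ) : ℕ := ∑ i, β i * deg i

variable {f deg}

theorem mono_mem (hf : ∀ i, f i ∈ 𝒜 (deg i)) (β : Fin s → ℕ) : mono f β ∈ 𝒜 (wt deg β) := by
  have := SetLike.prod_pow_mem_graded 𝒜 deg f β (F := Finset.univ) (fun i _ => hf i)
  simpa [mono, wt, smul_eq_mul] using this

omit [Algebra R A] in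
theorem mono_add (β γ : Fin s → ℕ) : mono f (β + γ) = mono f β * mono f γ := by
  simp [mono, pow_add, Finset.prod_mul_distrib]

theorem wt_add (β γ : Fin s → ℕ) : wt deg (β + γ) = wt deg β + wt deg γ := by
  simp [wt, add_mul, Finset.sum_add_distrib]

omit [Algebra R A] in
theorem mem_closure_mono : ∀ x ∈ Submonoid.closure (Set.range f), ∃ β : Fin s → ℕ, x = mono f β := by
  classical
  intro x hx
  induction hx using Submonoid.closure_induction with
  | mem x hx =>
    obtain ⟨i, rfl⟩ := hx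
    refine ⟨Pi.single i 1, ?_⟩
    unfold mono
    rw [Finset.prod_eq_single i]
    · simp
    · intro j _ hj
      simp [hj]
    · intro h; exact absurd (Finset.mem_univ i) h
  | one => exact ⟨0, by simp [mono]⟩
  | mul x y _ _ hx hy =>
    obtain ⟨β, rfl⟩ := hx
    obtain ⟨γ, rfl⟩ := hy
    exact ⟨β + γ, (mono_add β γ).symm⟩

theorem proj_mem_span (hf : ∀ i, f i ∈ 𝒜 (deg i)) (hgen : Algebra.adjoin R (Set.range f) = ⊤) (a : A) (m : ℕ) :
    (GradedAlgebra.proj 𝒜 m a : A) ∈ Submodule.span R {x | ∃ β : Fin s → ℕ, wt deg β = m ∧ x = mono f β} := by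
  have ha : a ∈ Submodule.span R (Submonoid.closure (Set.range f) : Set A) := by
    rw [← Algebra.adjoin_eq_span, hgen]; trivial
  induction ha using Submodule.span_induction with
  | mem x hx =>
    obtain ⟨β, rfl⟩ := mem_closure_mono x hx
    rw [GradedAlgebra.proj_apply]
    by_cases h : wt deg β = m
    · rw [DirectSum.decompose_of_mem_same 𝒜 (h ▸ mono_mem 𝒜 hf β)]
      exact Submodule.subset_span ⟨β, h, rfl⟩
    · rw [DirectSum.decompose_of_mem_ne 𝒜 (mono_mem 𝒜 hf β) h]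
      exact zero_mem _
  | zero => rw [map_zero]; exact zero_mem _
  | add x y _ _ hx hy => rw [map_add]; exact add_mem hx hy
  | smul r x _ hx => rw [map_smul]; exact Submodule.smul_mem _ r hx

theorem mem_span_of_mem (hf : ∀ i, f i ∈ 𝒜 (deg i)) (hgen : Algebra.adjoin R (Set.range f) = ⊤) {a : A} {m : ℕ}
    (ha : a ∈ 𝒜 m) :
    a ∈ Submodule.span R {x | ∃ β : Fin s → ℕ, wt deg β = m ∧ x = mono f β} := by
  have := proj_mem_span 𝒜 hf hgen a m
  rwa [GradedAlgebra.proj_apply, DirectSum.decompose_of_mem_same 𝒜 ha] at this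

theorem span_le_grade (hf : ∀ i, f i ∈ 𝒜 (deg i)) (m : ℕ) :
    Submodule.span R {x | ∃ β : Fin s → ℕ, wt deg β = m ∧ x = mono f β} ≤ 𝒜 m := by
  refine Submodule.span_le.2 ?_
  rintro _ ⟨β, rfl, rfl⟩
  exact mono_mem 𝒜 hf β

theorem mono_step (hf : ∀ i, f i ∈ 𝒜 (deg i)) (hdeg : ∀ i, 0 < deg i) (a₀ : ℕ) (ha₀ : 0 < a₀) (has : s - 1 ≤ a₀)
    {y : A} (hy : y ∈ 𝒜 (a₀ * Finset.univ.lcm deg))
    (S : Set Γ(Proj 𝒜, Proj.basicOpen 𝒜 y))
    (hS : ∀ (β : Fin s → ℕ) (hβ : wt deg β = a₀ * Finset.univ.lcm deg),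
      Proj.awayToSection 𝒜 y (Away.mk 𝒜 hy 1 (mono f β) (by rw [one_smul, ← hβ]; exact mono_mem 𝒜 hf β)) ∈
        Subring.closure S) :
    ∀ (j : ℕ) (β : Fin s → ℕ) (hβ : wt deg β = (j + 1) • (a₀ * Finset.univ.lcm deg)),
      Proj.awayToSection 𝒜 y (Away.mk 𝒜 hy (j + 1) (mono f β) (by rw [← hβ]; exact mono_mem 𝒜 hf β)) ∈
        Subring.closure S := by
  intro j
  induction j with
  | zero =>
    intro β hβ
    have hβ' : wt deg β = a₀ * Finset.univ.lcm deg := by rw [hβ]; simp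
    exact hS β hβ'
  | succ j ih =>
    intro β hβ
    have hβ' : ∑ i, β i * deg i = (j + 2) * (a₀ * Finset.univ.lcm deg) := by
      have := hβ
      unfold wt at this
      rw [this, smul_eq_mul]
    obtain ⟨γ, hγle, hγ⟩ := exists_sub_weight deg hdeg a₀ ha₀ has β j hβ'
    have hγ' : wt deg γ = a₀ * Finset.univ.lcm deg := hγ
    have hsplit : β = γ + (β - γ) := by
      funext i
      simp only [Pi.add_apply, Pi.sub_apply]
      have := hγle i
      omega
    have hδ : wt deg (β - γ) = (j + 1) • (a₀ * Finset.univ.lcm deg) := by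
      have h1 := wt_add (deg := deg) γ (β - γ)
      rw [← hsplit, hβ, hγ'] at h1
      simp only [smul_eq_mul] at h1 ⊢
      have h2 : (j + 1 + 1) * (a₀ * Finset.univ.lcm deg) =
          a₀ * Finset.univ.lcm deg + (j + 1) * (a₀ * Finset.univ.lcm deg) := by ring
      omega
    have h1 := hS γ hγ'
    have h2 := ih (β - γ) hδ
    have h3 := mul_mem h1 h2
    rw [← map_mul, away_mk_mul] at h3
    convert h3 using 2
    refine away_mk_eq 𝒜 _ _ _ ?_
    rw [← mono_add, ← hsplit]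
    congr 2
    ring

set_option maxHeartbeats 1000000 in
/-- ratio generation on `D₊(y)`, `y` of degree `n = a₀ l` -/
theorem mem_closure_lcm (hf : ∀ i, f i ∈ 𝒜 (deg i)) (hdeg : ∀ i, 0 < deg i)
    (hgen : Algebra.adjoin R (Set.range f) = ⊤) (a₀ : ℕ) (ha₀ : 0 < a₀) (has : s - 1 ≤ a₀)
    {y : A} (hy : y ∈ 𝒜 (a₀ * Finset.univ.lcm deg))
    (S : Set Γ(Proj 𝒜, Proj.basicOpen 𝒜 y))
    (hR : ∀ r : R, Proj.awayToSection 𝒜 y (Away.mk 𝒜 hy 0 (algebraMap R A r) (zero_smul_mem 𝒜 _ r)) ∈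
      Subring.closure S)
    (hS : ∀ (β : Fin s → ℕ) (hβ : wt deg β = a₀ * Finset.univ.lcm deg),
      Proj.awayToSection 𝒜 y (Away.mk 𝒜 hy 1 (mono f β) (by rw [one_smul, ← hβ]; exact mono_mem 𝒜 hf β)) ∈
        Subring.closure S) :
    ∀ z : Γ(Proj 𝒜, Proj.basicOpen 𝒜 y), z ∈ Subring.closure S := by
  have hn : 0 < a₀ * Finset.univ.lcm deg := Nat.mul_pos ha₀ (TwistGenD.lcm_pos deg hdeg)
  have hsurj : Function.Surjective (algebraMap R (𝒜 0)) :=
    algebraMap_zero_surjective 𝒜 hgen (fun x hx => by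
      obtain ⟨i, rfl⟩ := hx
      exact ⟨deg i, hdeg i, hf i⟩)
  intro z
  obtain ⟨j, a', ha', rfl⟩ := GrTildeQC.exists_awayToSection 𝒜 hn hy z
  rcases Nat.eq_zero_or_pos j with hj | hj
  · subst hj
    have ha0 : a' ∈ 𝒜 0 := by rwa [zero_smul] at ha'
    obtain ⟨r, hr⟩ := hsurj ⟨a', ha0⟩
    have hr' : a' = algebraMap R A r := by
      have := congrArg Subtype.val hr
      exact this.symm
    rw [away_mk_congr 𝒜 hy 0 ha' hr']
    exact hR r
  · obtain ⟨j, rfl⟩ := Nat.exists_eq_succ_of_ne_zero hj.ne'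
    have hspan := mem_span_of_mem 𝒜 hf hgen ha'
    have key : ∀ (x : A) (hx : x ∈ Submodule.span R
        {x | ∃ β : Fin s → ℕ, wt deg β = (j + 1) • (a₀ * Finset.univ.lcm deg) ∧ x = mono f β}),
        Proj.awayToSection 𝒜 y (Away.mk 𝒜 hy (j + 1) x (span_le_grade 𝒜 hf _ hx)) ∈ Subring.closure S := by
      intro x hx
      induction hx using Submodule.span_induction with
      | mem x hx =>
        obtain ⟨β, hβ, rfl⟩ := hx
        exact mono_step 𝒜 hf hdeg a₀ ha₀ has hy S hS j β hβ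
      | zero =>
        have : Away.mk 𝒜 hy (j + 1) (0 : A) (zero_mem _) = 0 := by
          apply HomogeneousLocalization.val_injective
          rw [Away.val_mk, HomogeneousLocalization.val_zero, Localization.mk_zero]
        rw [this, map_zero]
        exact zero_mem _
      | add x₁ x₂ h₁ h₂ ih₁ ih₂ =>
        have := add_mem ih₁ ih₂
        rw [← map_add, ← away_mk_add] at this
        exact this
      | smul r x h ih =>
        have := mul_mem (hR r) ih
        rw [← map_mul, away_mk_mul] at this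
        convert this using 2
        refine away_mk_eq 𝒜 _ _ _ ?_
        rw [Algebra.smul_def, zero_add]
    exact key a' hspan

theorem le_of_wt_eq (hdeg : ∀ i, 0 < deg i) {β : Fin s → ℕ} {n : ℕ} (hβ : wt deg β = n) (i : Fin s) : β i < n + 1 := by
  have h1 : β i * deg i ≤ wt deg β :=
    Finset.single_le_sum (f := fun i => β i * deg i) (fun _ _ => Nat.zero_le _) (Finset.mem_univ i)
  have h2 : β i ≤ β i * deg i := Nat.le_mul_of_pos_right _ (hdeg i)
  omega

/-- **S13182**: closed immersion by `O(a l)` -/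
theorem exists_closedImmersion_lcm (hdeg : ∀ i, 0 < deg i) (hf : ∀ i, f i ∈ 𝒜 (deg i))
    (hgen : Algebra.adjoin R (Set.range f) = ⊤) (a₀ : ℕ) (ha₀ : 0 < a₀) (has : s - 1 ≤ a₀) :
    ∃ (N : ℕ) (i : Proj 𝒜 ⟶ CohB1.ProjSpaceOver N (Spec (CommRingCat.of R))), IsClosedImmersion i ∧
      i ≫ pullback.snd (CohB1.ProjSpace.toSpec N (ULift.{u} ℤ))
          (specULiftZIsTerminal.from (Spec (CommRingCat.of R))) = toBase 𝒜 ∧
      Nonempty (Twist.twist 𝒜 ((a₀ * Finset.univ.lcm deg : ℕ) : ℤ) ≅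
        (Scheme.Modules.pullback i).obj (Twist.twistOver N (Spec (CommRingCat.of R)) 1)) := by
  classical
  set n := a₀ * Finset.univ.lcm deg with hndef
  have hl := TwistGenD.lcm_pos deg hdeg
  have hn : 0 < n := Nat.mul_pos ha₀ hl
  have hft : Algebra.FiniteType R A := ⟨⟨Finset.univ.image f, by simpa using hgen⟩⟩
  have := finiteType_zero 𝒜
  have hsurj : Function.Surjective (algebraMap R (𝒜 0)) :=
    algebraMap_zero_surjective 𝒜 hgen (fun x hx => by
      obtain ⟨i, rfl⟩ := hx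
      exact ⟨deg i, hdeg i, hf i⟩)
  let J := Option {β : Fin s → Fin (n + 1) // wt deg (fun i => (β i : ℕ)) = n}
  have hcard : Fintype.card J ≠ 0 := Fintype.card_ne_zero
  obtain ⟨t₀, ht₀⟩ := Nat.exists_eq_succ_of_ne_zero hcard
  let eqv : J ≃ Fin (t₀ + 1) := Fintype.equivFinOfCardEq ht₀
  let Yf : J → A := fun j => match j with
    | none => 0
    | some β => mono f (fun i => (β.1 i : ℕ))
  have hYf : ∀ j, Yf j ∈ 𝒜 n := by
    rintro (_ | β)
    · exact zero_mem _
    · have := mono_mem 𝒜 hf (fun i => (β.1 i : ℕ))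
      rwa [β.2] at this
  -- packaging an exponent vector of weight `n`
  let pack : ∀ (β : Fin s → ℕ), wt deg β = n → J := fun β hβ =>
    some ⟨fun i => ⟨β i, le_of_wt_eq hdeg hβ i⟩, hβ⟩
  have hpack : ∀ (β : Fin s → ℕ) (hβ : wt deg β = n), Yf (pack β hβ) = mono f β := fun β hβ => rfl
  -- the standard exponent vectors
  have hdvd : ∀ i, deg i ∣ n := fun i => (Finset.dvd_lcm (Finset.mem_univ i)).trans (Dvd.intro_left a₀ rfl)
  have hstdwt : ∀ i₀ : Fin s, wt deg (Pi.single i₀ (n / deg i₀)) = n := by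
    intro i₀
    unfold wt
    rw [Finset.sum_eq_single i₀]
    · simp [Nat.div_mul_cancel (hdvd i₀)]
    · intro j _ hj; simp [hj]
    · intro h; exact absurd (Finset.mem_univ i₀) h
  have hstdmono : ∀ i₀ : Fin s, mono f (Pi.single i₀ (n / deg i₀)) = f i₀ ^ (n / deg i₀) := by
    intro i₀
    unfold mono
    rw [Finset.prod_eq_single i₀]
    · simp
    · intro j _ hj; simp [hj]
    · intro h; exact absurd (Finset.mem_univ i₀) h
  refine exists_closedImmersion_of_sections 𝒜 hsurj hn (fun k => Yf (eqv.symm k)) (fun k => hYf _)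
    {k | ∃ i₀, eqv.symm k = pack _ (hstdwt i₀)} ?_ ?_
  · intro x
    obtain ⟨i₀, hx⟩ := TwistGenD.cover_of_adjoin_gen 𝒜 f deg hf hgen x
    refine ⟨eqv (pack _ (hstdwt i₀)), ⟨i₀, by simp⟩, ?_⟩
    show x ∈ Proj.basicOpen 𝒜 (Yf (eqv.symm (eqv _)))
    rw [Equiv.symm_apply_apply, hpack, hstdmono]
    have hk : 0 < n / deg i₀ := Nat.div_pos (Nat.le_of_dvd hn (hdvd i₀)) (hdeg i₀)
    rw [Proj.basicOpen_pow 𝒜 _ _ hk]; exact hx
  · rintro k ⟨i₀, hk⟩
    refine mem_closure_lcm 𝒜 hf hdeg hgen a₀ ha₀ has (hYf (eqv.symm k)) _ ?_ ?_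
    · intro r; exact Subring.subset_closure (Or.inr ⟨r, rfl⟩)
    · intro β hβ
      refine Subring.subset_closure (Or.inl ⟨eqv (pack β hβ), ?_⟩)
      congr 1
      refine away_mk_congr 𝒜 _ 1 _ ?_
      show _ = Yf (eqv.symm (eqv _))
      rw [Equiv.symm_apply_apply]

end H
end Groth.Agent.Lib.Helper28.VeryAmpleProj
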